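import Cfsg.Agent.Lib.Chev.XMat

/-!
Identities between root elements, monomial and diagonal matrices.
-/

set_option autoImplicit false

namespace Cfsg.Agent.Chev

open Cfsg.Lie

variable {F : Type*} [Field F]

/-- The monomials of a word. -/
def wdArgs (F : Type*) [Field F] (t u : F) (w : Tabs.Wd) : List (ℕ × F) :=
  w.map fun f => (f.1, (f.2.1 : F) * t ^ f.2.2.1 * u ^ f.2.2.2)

theorem wordMat_nil (D : ChevalleyDatum) : D.wordMat F [] = 1 := by simp [ChevalleyDatum.wordMat]

theorem wordMat_cons (D : ChevalleyDatum) (r : ℕ) (t : F) (w : List (ℕ × F)) :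
    D.wordMat F ((r, t) :: w) = D.x F r t * D.wordMat F w := by simp [ChevalleyDatum.wordMat]

theorem wordMat_append (D : ChevalleyDatum) (v w : List (ℕ × F)) :
    D.wordMat F (v ++ w) = D.wordMat F v * D.wordMat F w := by simp [ChevalleyDatum.wordMat]

theorem valEn_single (t u : F) (e : En) (row : ℕ) :
    valEn t u [e] row = if e.row = row then e.ev t u else 0 := by simp [valEn]

namespace OK

variable {D : ChevalleyDatum} {T : Tabs} (ok : OK D T)

include ok

theorem rep_word {t u : F} (ht : t ≠ 0) (hu : u ≠ 0) : ∀ (w : Tabs.Wd), (∀ f ∈ w, f.1 < D.nroots) →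
    Rep (phi D) t u (T.wordC w) (D.wordMat F (wdArgs F t u w)) ∧ InRange (phi D) (T.wordC w)
  | [], _ => ⟨by rw [show wdArgs F t u [] = [] from rfl, wordMat_nil]; exact Rep.one (phi_injective D) t u,
      InRange.idC _⟩
  | f :: w, h => by
    have ih := rep_word ht hu w fun g hg => h g (List.mem_cons_of_mem _ hg)
    have hf := h f List.mem_cons_self
    refine ⟨?_, InRange.comp (ok.inRange_XC hf _ _ _) ih.2⟩
    rw [show wdArgs F t u (f :: w) = (f.1, (f.2.1 : F) * t ^ f.2.2.1 * u ^ f.2.2.2) :: wdArgs F t u w from rfl,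
      wordMat_cons]
    exact Rep.comp (phi_injective D) ht hu (ok.rep_XC hf _ _ _ t u) ih.1 ih.2

theorem x_zero (r : ℕ) : D.x F r 0 = 1 := by
  by_cases hr : r < D.nroots
  · ext i j
    rw [ok.xMat_eq hr, Tabs.colT, colVal_cons]
    have : colVal (0 : F) (T.ext r (phi D j)) (phi D i) = 0 := by
      refine List.sum_eq_zero fun x hx => ?_
      obtain ⟨e, he, rfl⟩ := List.mem_map.mp hx
      simp [zero_pow (ok.ext_spec hr (phi_lt D j) he).2.1]
    rw [this, add_zero, Matrix.one_apply]
    simp [(phi_injective D).eq_iff, eq_comm]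
  · rw [ChevalleyDatum.x, dif_neg hr]

/-- Prelude form of a root element with a monomial argument. -/
theorem rep_x {r : ℕ} (hr : r < D.nroots) (t u : F) :
    Rep (phi D) t u (T.XC r 1 1 0) (D.x F r t) ∧ Rep (phi D) t u (T.XC r 1 0 1) (D.x F r u) :=
  ⟨by simpa using ok.rep_XC hr 1 1 0 t u, by simpa using ok.rep_XC hr 1 0 1 t u⟩

/-! ### The monomial matrix -/

theorem word_check {i : ℕ} (hi : i < D.rank) :
    colsEqv (D.rank + D.nroots) (T.wordC [(T.smp i, 1, 1, 0), (T.neg (T.smp i), -1, -1, 0), (T.smp i, 1, 1, 0)])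
        (T.MC D i 1) = true ∧
      colsEqv (D.rank + D.nroots)
        (comp (T.MC D i 1) (T.wordC [(T.smp i, -1, 0, 0), (T.neg (T.smp i), 1, 0, 0), (T.smp i, -1, 0, 0)]))
        (T.HC D i) = true := by
  have h := ok.word i hi
  simpa [Tabs.chkWord] using h

theorem rep_nMat {i : ℕ} (hi : i < D.rank) {t u : F} (ht : t ≠ 0) (hu : u ≠ 0) :
    Rep (phi D) t u (T.MC D i 1) (D.nMat F (D.simple i) t) := by
  have h := (ok.rep_word ht hu [(T.smp i, 1, 1, 0), (T.neg (T.smp i), -1, -1, 0), (T.smp i, 1, 1, 0)]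
    (by simp [ok.smp_lt hi, ok.neg_lt (ok.smp_lt hi)])).1
  have he : D.nMat F (D.simple i) t =
      D.wordMat F (wdArgs F t u [(T.smp i, 1, 1, 0), (T.neg (T.smp i), -1, -1, 0), (T.smp i, 1, 1, 0)]) := by
    simp [ChevalleyDatum.nMat, ChevalleyDatum.nWord, wdArgs, ok.simple_eq hi, ok.neg_eq (ok.smp_lt hi)]
  rw [he]
  intro a b
  rw [h a b]
  exact valEn_congr (fsEn_eq_of_eqv (allR_iff.mp (ok.word_check hi).1 _ (phi_lt D b))) t u _

theorem inRange_MC {i : ℕ} (hi : i < D.rank) (a : ℤ) : InRange (phi D) (T.MC D i a) := by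
  intro j e he
  rcases j with j | s
  · simp only [Tabs.MC, phi, Sum.elim_inl, nlt_iff.mpr j.isLt, List.mem_cons, List.not_mem_nil, or_false] at he
    rcases he with rfl | rfl
    · exact phi_surj D (Nat.lt_add_right _ j.isLt)
    · exact phi_surj D (Nat.lt_add_right _ hi)
  · simp only [Tabs.MC, phi, Sum.elim_inr, nlt_false_iff.mpr (Nat.le_add_right D.rank (s : ℕ)),
      List.mem_singleton, Nat.sub_eq, Nat.add_eq, Nat.add_sub_cancel_left] at he
    subst he
    exact phi_surj D (Nat.add_lt_add_left (ok.refl_lt hi s.isLt) _)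

theorem nMat_mul_neg_one {i : ℕ} (hi : i < D.rank) {t : F} (ht : t ≠ 0) :
    Rep (phi D) t 1 (T.HC D i) (D.hMat F (D.simple i) t) := by
  have h := ok.rep_word ht one_ne_zero
    [(T.smp i, -1, 0, 0), (T.neg (T.smp i), 1, 0, 0), (T.smp i, -1, 0, 0)]
    (by simp [ok.smp_lt hi, ok.neg_lt (ok.smp_lt hi)])
  have hn := Rep.comp (phi_injective D) ht one_ne_zero (ok.rep_nMat hi ht one_ne_zero) h.1 h.2
  have he : D.hMat F (D.simple i) t = D.nMat F (D.simple i) t *
      D.wordMat F (wdArgs F t 1 [(T.smp i, -1, 0, 0), (T.neg (T.smp i), 1, 0, 0), (T.smp i, -1, 0, 0)]) := by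
    rw [ChevalleyDatum.hMat, ChevalleyDatum.hWord, wordMat_append, ChevalleyDatum.nMat]
    congr 1
    simp [ChevalleyDatum.nWord, wdArgs, ok.simple_eq hi, ok.neg_eq (ok.smp_lt hi)]
  rw [he]
  intro a b
  rw [hn a b]
  exact valEn_congr (fsEn_eq_of_eqv (allR_iff.mp (ok.word_check hi).2 _ (phi_lt D b))) t 1 _

/-- The diagonal element of a fundamental root. -/
theorem hMat_eq {i : ℕ} (hi : i < D.rank) {c : F} (hc : c ≠ 0) :
    D.hMat F (D.simple i) c =
      Matrix.diagonal (Sum.elim (fun _ => (1 : F)) (fun s : Fin D.nroots => c ^ (D.cartan i s))) := by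
  ext a b
  rw [ok.nMat_mul_neg_one hi hc a b]
  rcases b with b | s
  · simp only [Tabs.HC, phi, Sum.elim_inl, nlt_iff.mpr b.isLt, valEn_single]
    rcases a with a | u
    · simp [En.ev, Matrix.diagonal_apply, Fin.ext_iff, eq_comm]
    · have : (b : ℕ) ≠ D.rank + (u : ℕ) := by omega
      simp [this]
  · simp only [Tabs.HC, phi, Sum.elim_inr, nlt_false_iff.mpr (Nat.le_add_right D.rank (s : ℕ)), valEn_single,
      Nat.sub_eq, Nat.add_sub_cancel_left]
    rcases a with a | u
    · have : D.rank + (s : ℕ) ≠ (a : ℕ) := by omega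
      simp [this]
    · simp only [Sum.elim_inr, En.ev, ok.cartan_eq hi s.isLt, Matrix.diagonal_apply, Sum.inr.injEq, Fin.ext_iff,
        Nat.add_left_cancel_iff]
      by_cases e : (s : ℕ) = u
      · rw [if_pos e, if_pos e.symm, show u = s from Fin.ext e.symm, ok.cartan_eq hi s.isLt]; simp
      · rw [if_neg e, if_neg (Ne.symm e)]

theorem nMat_one_mul_nMat_neg_one {i : ℕ} (hi : i < D.rank) :
    D.nMat F (D.simple i) 1 * D.nMat F (D.simple i) (-1) = 1 := by
  have h := ok.hMat_eq (F := F) hi one_ne_zero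
  rw [ChevalleyDatum.hMat, ChevalleyDatum.hWord, wordMat_append] at h
  rw [ChevalleyDatum.nMat, ChevalleyDatum.nMat, h]
  convert Matrix.diagonal_one
  rename_i j
  rcases j with j | j <;> simp

theorem rep_nMat_one {i : ℕ} (hi : i < D.rank) (t u : F) :
    Rep (phi D) t u (T.MC D i 0) (D.nMat F (D.simple i) 1) := by
  intro a b
  rw [ok.rep_nMat hi (u := 1) one_ne_zero one_ne_zero a b]
  rcases b with b | s
  · simp only [Tabs.MC, phi, Sum.elim_inl, nlt_iff.mpr b.isLt, valEn, List.map_cons, List.map_nil, En.ev]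
    simp
  · simp only [Tabs.MC, phi, Sum.elim_inr, nlt_false_iff.mpr (Nat.le_add_right D.rank (s : ℕ)), valEn_single, En.ev,
      Int.mul_def]
    simp

/-- The fundamental monomial element moves the root elements. -/
theorem conj_n {i s : ℕ} (hi : i < D.rank) (hs : s < D.nroots) (t : F) :
    D.nMat F (D.simple i) 1 * D.x F s t =
      D.x F (T.refl i s) ((T.eta i s : F) * t) * D.nMat F (D.simple i) 1 := by
  by_cases ht : t = 0
  · subst ht; rw [mul_zero, ok.x_zero, ok.x_zero, mul_one, one_mul]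
  have h := ok.conj i hi s hs
  rw [Tabs.chkConj, allFrom_iff] at h
  have h' := h s le_rfl (Nat.lt_succ_self s)
  refine Rep.eq_of_colsEqv (t := t) (u := (1 : F)) (phi_lt D)
    (Rep.comp (phi_injective D) ht one_ne_zero (ok.rep_nMat_one hi t 1) (ok.rep_x hs t 1).1
      (ok.inRange_XC hs _ _ _))
    (Rep.comp (phi_injective D) ht one_ne_zero ?_ (ok.rep_nMat_one hi t 1) (ok.inRange_MC hi 0)) h'
  simpa using ok.rep_XC (ok.refl_lt hi hs) (T.eta i s) 1 0 t (1 : F)

/-- The fundamental diagonal element scales the root elements. -/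
theorem conj_h {i s : ℕ} (hi : i < D.rank) (hs : s < D.nroots) {c : F} (hc : c ≠ 0) (t : F) :
    D.hMat F (D.simple i) c * D.x F s t = D.x F s (c ^ (T.cA i s) * t) * D.hMat F (D.simple i) c := by
  have hd : ∀ a : D.Idx, Sum.elim (fun _ => (1 : F)) (fun u : Fin D.nroots => c ^ (D.cartan i u)) a =
      c ^ Tabs.wt D (T.cA i) (phi D a) := by
    rintro (a | u)
    · simp [Tabs.wt, phi, nlt_iff.mpr a.isLt]
    · simp [Tabs.wt, phi, nlt_false_iff.mpr (Nat.le_add_right D.rank (u : ℕ)), ok.cartan_eq hi u.isLt]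
  ext a b
  rw [ok.hMat_eq hi hc, Matrix.diagonal_mul, Matrix.mul_diagonal, hd, hd, ok.xMat_eq hs, ok.xMat_eq hs, colVal,
    colVal, ← List.sum_map_mul_left, ← List.sum_map_mul_right]
  congr 1
  refine List.map_congr_left fun e he => ?_
  by_cases hr : e.1 = phi D a
  · rw [if_pos hr, if_pos hr, mul_pow, ← zpow_natCast, ← zpow_natCast (c ^ T.cA i s), ← zpow_mul]
    simp only [Tabs.colT, List.mem_cons] at he
    have hw : Tabs.wt D (T.cA i) (phi D a) = Tabs.wt D (T.cA i) (phi D b) + e.2.2 * T.cA i s := by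
      rw [← hr]
      rcases he with rfl | he
      · simp
      · exact (ok.ext_spec hs (phi_lt D b) he).2.2.2.2 i hi
    rw [hw, zpow_add₀ hc, mul_comm (T.cA i s) (e.2.2 : ℤ)]
    ring
  · rw [if_neg hr, if_neg hr, mul_zero, zero_mul]

/-! ### Addition and the commutator formula -/

/-- The two statements proved for each root. -/
def GoodRoot (D : ChevalleyDatum) (F : Type*) [Field F] (r : ℕ) : Prop :=
  r < D.nroots ∧ (∀ t₁ t₂ : F, D.x F r t₁ * D.x F r t₂ = D.x F r (t₁ + t₂)) ∧
    ∀ s < D.nroots, s ≠ r → s ≠ D.neg r → ∀ t u : F,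
      D.x F s u * D.x F r t = D.x F r t * D.x F s u * D.wordMat F (D.commWord F r s t u)

omit ok in
theorem eval_choose (t u : F) (k : ℕ) :
    ((List.range (k + 1)).map fun i => (Nat.choose k i : F) * t ^ i * u ^ (k - i)).sum = (t + u) ^ k := by
  rw [add_pow, ← List.sum_toFinset _ List.nodup_range, List.toFinset_range]
  exact Finset.sum_congr rfl fun i _ => by ring

theorem good_rep {r : ℕ} (hr : r < D.nroots) (hrep : r ∈ T.reps) : GoodRoot D F r := by
  refine ⟨hr, fun t u => ?_, fun s hs hsr hsn t u => ?_⟩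
  · by_cases ht : t = 0
    · rw [ht, ok.x_zero, one_mul, zero_add]
    by_cases hu : u = 0
    · rw [hu, ok.x_zero, mul_one, add_zero]
    have h := ok.add r hrep
    rw [Tabs.chkAdd, Nat.add_eq] at h
    refine Rep.eq_of_colsEqv (t := t) (u := u) (phi_lt D)
      (Rep.comp (phi_injective D) ht hu (ok.rep_x hr t u).1 (ok.rep_x hr t u).2 (ok.inRange_XC hr _ _ _))
      (fun a b => ?_) h
    rw [ok.xMat_eq hr]
    simp only [Tabs.addC, flatR_eq, mapR_eq, upTo_eq]
    generalize T.colT r (phi D b) = L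
    induction L with
    | nil => simp [valEn, colVal]
    | cons e L ih =>
      rw [List.flatMap_cons, valEn_append, colVal_cons, ih]
      congr 1
      simp only [valEn, List.map_map, Function.comp_def, En.ev]
      by_cases hr' : e.1 = phi D a
      · simp only [if_pos hr', ← eval_choose t u e.2.2, ← List.sum_map_mul_left]
        congr 1
        refine List.map_congr_left fun i _ => ?_
        simp only [zpow_natCast, Int.cast_mul, Int.cast_natCast]
        ring
      · simp only [if_neg hr']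
        exact (List.sum_eq_zero fun x hx => by obtain ⟨i, -, rfl⟩ := List.mem_map.mp hx; rfl).symm
  · by_cases ht : t = 0
    · subst ht
      rw [ok.x_zero, mul_one, one_mul, ChevalleyDatum.commWord, ChevalleyDatum.wordMat, List.map_map,
        List.prod_eq_one (fun x hx => ?_), mul_one]
      obtain ⟨q, hq, rfl⟩ := List.mem_map.mp hx
      rw [ok.terms_eq hr hs] at hq
      simp [zero_pow (ok.term_spec hr hs hq).2.1, ok.x_zero]
    by_cases hu : u = 0
    · subst hu
      rw [ok.x_zero, mul_one, one_mul, ChevalleyDatum.commWord, ChevalleyDatum.wordMat, List.map_map,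
        List.prod_eq_one (fun x hx => ?_), mul_one]
      obtain ⟨q, hq, rfl⟩ := List.mem_map.mp hx
      rw [ok.terms_eq hr hs] at hq
      simp [zero_pow (ok.term_spec hr hs hq).2.2.1, ok.x_zero]
    have h := ok.base r hrep s hs
    rw [Tabs.chkBase, allFrom_iff] at h
    have h' := h s le_rfl (Nat.lt_succ_self s)
    simp only [orR_iff, Nat.beq_eq, hsr, false_or, Nat.add_eq] at h'
    rw [← ok.neg_eq hr] at h'
    replace h' := h'.resolve_left hsn
    have hw := ok.rep_word ht hu ((r, 1, 1, 0) :: (s, 1, 0, 1) :: T.commW r s) (fun f hf => by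
      simp only [List.mem_cons, Tabs.commW, mapR_eq, List.mem_map] at hf
      rcases hf with rfl | rfl | ⟨q, hq, rfl⟩
      exacts [hr, hs, (ok.term_spec hr hs hq).1])
    have he : D.wordMat F (wdArgs F t u ((r, 1, 1, 0) :: (s, 1, 0, 1) :: T.commW r s)) =
        D.x F r t * D.x F s u * D.wordMat F (D.commWord F r s t u) := by
      simp only [wdArgs, List.map_cons, wordMat_cons, ChevalleyDatum.commWord, ok.terms_eq hr hs, Tabs.commW,
        mapR_eq, List.map_map, Function.comp_def]
      simp only [zpow_one, zpow_zero, mul_one, Int.cast_one, one_mul, ← mul_assoc]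
      congr 2
      refine List.map_congr_left fun q _ => ?_
      simp only [ipow_eq, Int.mul_def, Int.ofNat_eq_natCast, zpow_natCast, Int.cast_mul, Int.cast_pow, neg_pow t]
      simp only [Prod.mk.injEq, true_and, Int.reduceNegSucc, Int.cast_neg, Int.cast_one]
      ring
    rw [← he]
    exact Rep.eq_of_colsEqv (t := t) (u := u) (phi_lt D)
      (Rep.comp (phi_injective D) ht hu (ok.rep_x hs t u).2 (ok.rep_x hr t u).1 (ok.inRange_XC hr _ _ _))
      hw.1 h'

theorem word_conj {i : ℕ} (hi : i < D.rank) : ∀ w : List (ℕ × F), (∀ f ∈ w, f.1 < D.nroots) →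
    D.nMat F (D.simple i) 1 * D.wordMat F w =
      D.wordMat F (w.map fun f => (T.refl i f.1, (T.eta i f.1 : F) * f.2)) * D.nMat F (D.simple i) 1
  | [], _ => by simp [wordMat_nil]
  | (a, t) :: w, h => by
    rw [wordMat_cons, ← mul_assoc, ok.conj_n hi (h (a, t) List.mem_cons_self), mul_assoc,
      word_conj hi w fun g hg => h g (List.mem_cons_of_mem _ hg), List.map_cons, wordMat_cons, mul_assoc]

theorem eta_sq {i s : ℕ} (hi : i < D.rank) (hs : s < D.nroots) : (T.eta i s : F) * (T.eta i s : F) = 1 := by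
  rcases ok.eta_unit hi hs with e | e <;> rw [e] <;> simp

theorem cancel_n {i : ℕ} (hi : i < D.rank) {A B : Matrix D.Idx D.Idx F}
    (h : A * D.nMat F (D.simple i) 1 = B * D.nMat F (D.simple i) 1) : A = B := by
  have := congrArg (· * D.nMat F (D.simple i) (-1)) h
  simpa [mul_assoc, ok.nMat_one_mul_nMat_neg_one hi] using this

theorem good_step {i r : ℕ} (hi : i < D.rank) (hrp : (T.refl i r, some (i, r)) ∈ T.order) (hg : GoodRoot D F r) :
    GoodRoot D F (T.refl i r) := by
  obtain ⟨hr, hadd, hcomm⟩ := hg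
  have hr' := ok.refl_lt hi hr
  refine ⟨hr', fun t₁ t₂ => ?_, fun s hs hsr hsn t u => ?_⟩
  · apply ok.cancel_n hi
    have e1 := ok.conj_n hi hr ((T.eta i r : F) * t₁)
    have e2 := ok.conj_n hi hr ((T.eta i r : F) * t₂)
    have e3 := ok.conj_n hi hr ((T.eta i r : F) * (t₁ + t₂))
    rw [← mul_assoc, ok.eta_sq hi hr, one_mul] at e1 e2 e3
    rw [← e3, mul_add, ← hadd, ← mul_assoc, e1, mul_assoc, mul_assoc, e2]
  · have hst := ok.steps
    simp only [Tabs.chkSteps, allL_iff] at hst
    have ht := hst _ hrp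
    simp only [Tabs.chkTransport, allR_iff] at ht
    have hs' := ok.refl_lt hi hs
    have hterms := eq_of_eqL eq_of_eqQ (ht (T.refl i s) hs')
    rw [ok.refl_refl hi hs] at hterms
    have h1 : T.refl i s ≠ r := fun e => hsr (by rw [← e, ok.refl_refl hi hs])
    have h2 : T.refl i s ≠ D.neg r := fun e => hsn (by
      rw [ok.neg_eq hr', ← ok.refl_neg hi hr, ← ok.neg_eq hr, ← e, ok.refl_refl hi hs])
    apply ok.cancel_n hi
    have hc := hcomm (T.refl i s) hs' h1 h2 ((T.eta i r : F) * t) ((T.eta i (T.refl i s) : F) * u)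
    have er := ok.conj_n hi hr ((T.eta i r : F) * t)
    have es := ok.conj_n hi hs' ((T.eta i (T.refl i s) : F) * u)
    rw [← mul_assoc, ok.eta_sq hi hr, one_mul] at er
    rw [ok.refl_refl hi hs, ← mul_assoc, ok.eta_sq hi hs', one_mul] at es
    have hwd := ok.word_conj hi
      (D.commWord F r (T.refl i s) ((T.eta i r : F) * t) ((T.eta i (T.refl i s) : F) * u)) (fun f hf => by
        simp only [ChevalleyDatum.commWord, ok.terms_eq hr hs', List.mem_map] at hf
        obtain ⟨q, hq, rfl⟩ := hf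
        exact (ok.term_spec hr hs' hq).1)
    have hw : (D.commWord F r (T.refl i s) ((T.eta i r : F) * t) ((T.eta i (T.refl i s) : F) * u)).map
        (fun f => (T.refl i f.1, (T.eta i f.1 : F) * f.2)) = D.commWord F (T.refl i r) s t u := by
      simp only [ChevalleyDatum.commWord, ok.terms_eq hr hs', ok.terms_eq hr' hs, hterms, mapR_eq, List.map_map]
      refine List.map_congr_left fun q _ => ?_
      simp only [Function.comp_apply, ipow_eq, Int.mul_def, Int.cast_mul, Int.cast_pow, Prod.mk.injEq, true_and]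
      rw [← neg_mul, mul_pow, mul_pow, neg_pow (T.eta i r : F), neg_pow t]
      ring
    calc D.x F s u * D.x F (T.refl i r) t * D.nMat F (D.simple i) 1
        = D.nMat F (D.simple i) 1 * (D.x F (T.refl i s) ((T.eta i (T.refl i s) : F) * u) *
            D.x F r ((T.eta i r : F) * t)) := by rw [← mul_assoc, es, mul_assoc _ _ (D.x F r _), er, mul_assoc]
      _ = _ := by
        rw [hc, ← mul_assoc, ← mul_assoc, er, mul_assoc _ _ (D.x F (T.refl i s) _), es, mul_assoc, mul_assoc,
          hwd, hw]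
        simp only [mul_assoc]

theorem good_all : ∀ (L : List (ℕ × Option (ℕ × ℕ))) (seen : List ℕ), T.chkOrder D L seen = true →
    (∀ e ∈ L, e ∈ T.order) → (∀ a ∈ seen, GoodRoot D F a) → ∀ r < D.nroots, GoodRoot D F r
  | [], seen, h, _, hs, r, hr => by
    replace h : allR D.nroots (fun r => anyL (fun s => Nat.beq s r) seen) = true := h
    simp only [allR_iff, anyL_iff, Nat.beq_eq] at h
    obtain ⟨a, ha, rfl⟩ := h r hr
    exact hs a ha
  | (a, o) :: L, seen, h, hL, hs, r, hr => by
    replace h : andR (nlt a D.nroots) (andR (@Option.rec (ℕ × ℕ) (fun _ => Bool) true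
        (fun q => andR (nlt q.1 D.rank) <| andR (anyL (fun s => Nat.beq s q.2) seen) <|
          Nat.beq (T.refl q.1 q.2) a) o) (T.chkOrder D L (a :: seen))) = true := h
    simp only [andR_iff, nlt_iff] at h
    refine good_all L (a :: seen) h.2.2 (fun e he => hL e (List.mem_cons_of_mem _ he)) ?_ r hr
    intro b hb
    rcases List.mem_cons.mp hb with rfl | hb
    · rcases o with _ | ⟨i, r'⟩
      · refine ok.good_rep h.1 ?_
        simp only [Tabs.reps, flatR_eq, List.mem_flatMap]
        exact ⟨_, hL _ List.mem_cons_self, List.mem_singleton.mpr rfl⟩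
      · have h2 := h.2.1
        simp only [andR_iff, nlt_iff, anyL_iff, Nat.beq_eq] at h2
        obtain ⟨hi, ⟨c, hc, hc'⟩, he⟩ := h2
        subst hc'
        subst he
        exact ok.good_step hi (hL _ List.mem_cons_self) (hs _ hc)
    · exact hs b hb

theorem good {r : ℕ} (hr : r < D.nroots) : GoodRoot D F r :=
  ok.good_all T.order [] ok.order (fun _ => id) (by simp) r hr

theorem x_add (r : ℕ) (t₁ t₂ : F) : D.x F r t₁ * D.x F r t₂ = D.x F r (t₁ + t₂) := by
  by_cases hr : r < D.nroots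
  · exact (ok.good hr).2.1 t₁ t₂
  · simp [ChevalleyDatum.x, hr]

theorem comm {r s : ℕ} (hr : r < D.nroots) (hs : s < D.nroots) (hrs : s ≠ r) (hneg : s ≠ D.neg r) (t u : F) :
    D.x F s u * D.x F r t = D.x F r t * D.x F s u * D.wordMat F (D.commWord F r s t u) :=
  (ok.good hr).2.2 s hs hrs hneg t u

theorem x_eq_one {r : ℕ} (hr : r < D.nroots) (t : F) : D.x F r t = 1 ↔ t = 0 := by
  refine ⟨fun h => ?_, fun h => by rw [h, ok.x_zero]⟩
  obtain ⟨a, ha, b, hb, x, y, hxy⟩ := ok.bezout hr
  have key : ∀ k (hk : k < D.rank), (T.cC r k : F) * t = 0 := by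
    intro k hk
    have e := congrFun (congrFun h (Sum.inl ⟨k, hk⟩)) (Sum.inr ⟨T.neg r, ok.neg_lt hr⟩)
    rw [ChevalleyDatum.x, dif_pos hr, Matrix.one_apply_ne (by simp)] at e
    have h1 : (⟨T.neg r, ok.neg_lt hr⟩ : Fin D.nroots) ≠ ⟨r, hr⟩ := fun e => ok.neg_ne hr (congrArg Fin.val e)
    simp only [ChevalleyDatum.xMat, Matrix.of_apply, if_neg h1, ok.negIdx_eq hr, ok.coroot_eq hr hk, if_true] at e
    exact e
  have h3 : ((x * T.cC r a + y * T.cC r b : ℤ) : F) * t = 0 := by
    push_cast
    rw [add_mul, mul_assoc, mul_assoc, key a ha, key b hb, mul_zero, mul_zero, add_zero]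
  rwa [hxy, Int.cast_one, one_mul] at h3

end OK

end Cfsg.Agent.Chev
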