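import Cfsg.Agent.Lib.Chev.DataB2
import Cfsg.Prelude.Def_ChevB2

/-! Kernel evaluation of the checks for the datum of type B2. -/

set_option autoImplicit false
set_option maxRecDepth 100000

namespace Cfsg.Agent.Chev.B2

open Cfsg.Lie

theorem word0 : T.chkWord chevB2 0 = true := by
  decide +kernel

theorem conj0_0 : T.chkConj chevB2 0 0 8 = true := by
  decide +kernel

theorem word1 : T.chkWord chevB2 1 = true := by
  decide +kernel

theorem conj1_0 : T.chkConj chevB2 1 0 8 = true := by
  decide +kernel


end Cfsg.Agent.Chev.B2
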