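import Cfsg.Agent.Lib.Chev.DataB2
import Cfsg.Prelude.Def_ChevB2

/-! Kernel evaluation of the checks for the datum of type B2. -/

set_option autoImplicit false
set_option maxRecDepth 100000

namespace Cfsg.Agent.Chev.B2

open Cfsg.Lie

theorem add5 : T.chkAdd chevB2 5 = true := by
  decide +kernel

theorem base5_0 : T.chkBase chevB2 5 0 8 = true := by
  decide +kernel

theorem add4 : T.chkAdd chevB2 4 = true := by
  decide +kernel

theorem base4_0 : T.chkBase chevB2 4 0 8 = true := by
  decide +kernel


end Cfsg.Agent.Chev.B2
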