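import Cfsg.Agent.Lib.Chev.Tables

/-!
What the checks say about a datum: agreement of the tables and the arrays.
-/

set_option autoImplicit false

namespace Cfsg.Agent.Chev

open Cfsg.Lie

/-- All checks pass. -/
structure OK (D : ChevalleyDatum) (T : Tabs) : Prop where
  arr : T.chkArr D = true
  col : ∀ r < D.nroots, T.chkCol D r = true
  root : ∀ r < D.nroots, T.chkRoot D r = true
  grad : ∀ r < D.nroots, T.chkGrad D r = true
  simp_ok : ∀ i < D.rank, T.chkSimple D i = true
  refl_ok : ∀ i < D.rank, ∀ s < D.nroots, T.chkRefl D i s = true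
  word : ∀ i < D.rank, T.chkWord D i = true
  conj : ∀ i < D.rank, ∀ s < D.nroots, T.chkConj D i s 1 = true
  terms_ok : ∀ r < D.nroots, T.chkTerms D r = true
  steps : T.chkSteps D = true
  add : ∀ r ∈ T.reps, T.chkAdd D r = true
  base : ∀ r ∈ T.reps, ∀ s < D.nroots, T.chkBase D r s 1 = true
  order : T.chkOrder D T.order [] = true
  reps_simple : allL (fun r => anyL (fun s => Nat.beq s r) (mapR T.smp (upTo D.rank))) T.reps = true

theorem getD_toList {α : Type} (A : Array α) (k : ℕ) (d : α) : A.getD k d = A.toList.getD k d := by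
  rw [List.getD_eq_getElem?_getD, Array.getD_eq_getD_getElem?, Array.getElem?_toList]

theorem getD_of_eq_map {α : Type} {L : List α} {N : ℕ} {f : ℕ → α} (h : L = (List.range N).map f) (k : ℕ) (d : α) :
    L.getD k d = if k < N then f k else d := by
  subst h
  by_cases hk : k < N
  · simp [List.getD_eq_getElem?_getD, hk]
  · simp [List.getD_eq_getElem?_getD, hk]

theorem toList_getD_of_map {α β : Type} {L : List (Array α)} {N : ℕ} {f : ℕ → List β} {g : Array α → List β}
    (hg : g #[] = []) (h : L.map g = (List.range N).map f) (k : ℕ) :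
    g (L.getD k #[]) = if k < N then f k else [] := by
  rw [← getD_of_eq_map h k []]
  simp only [List.getD_eq_getElem?_getD, List.getElem?_map]
  cases L[k]? <;> simp [hg]

namespace OK

variable {D : ChevalleyDatum} {T : Tabs} (ok : OK D T)

include ok

theorem arr_split :
    D.simpleIdx.toList = (List.range D.rank).map T.smp ∧
    D.negIdx.toList = (List.range D.nroots).map T.neg ∧
    D.coroot.toList.map Array.toList = (List.range D.nroots).map (fun r => (List.range D.rank).map (T.cC r)) ∧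
    D.cartanSR.toList.map Array.toList = (List.range D.rank).map (fun i => (List.range D.nroots).map (T.cA i)) ∧
    D.chain.toList.map (fun a => a.toList.map fun e => (e.1, e.2.toList)) =
      (List.range D.nroots).map (fun r => T.ch.get [] r) := by
  have h := ok.arr
  simp only [Tabs.chkArr, andR_iff, mapR_eq, upTo_eq] at h
  obtain ⟨h1, h2, h3, h4, h5⟩ := h
  exact ⟨eq_of_eqL (fun a b => Nat.beq_eq.mp) h1, eq_of_eqL (fun a b => Nat.beq_eq.mp) h2,
    eq_of_eqL (fun a b => eq_of_eqL fun _ _ => ieq_iff.mp) h3,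
    eq_of_eqL (fun a b => eq_of_eqL fun _ _ => ieq_iff.mp) h4, eq_of_eqL (fun a b => eq_of_eqL eq_of_eqC) h5⟩

theorem simple_eq {i : ℕ} (hi : i < D.rank) : D.simple i = T.smp i := by
  rw [ChevalleyDatum.simple, getD_toList, getD_of_eq_map ok.arr_split.1, if_pos hi]

theorem neg_eq {r : ℕ} (hr : r < D.nroots) : D.neg r = T.neg r := by
  rw [ChevalleyDatum.neg, getD_toList, getD_of_eq_map ok.arr_split.2.1, if_pos hr]

theorem negIdx_eq {r : ℕ} (hr : r < D.nroots) : D.negIdx.getD r 0 = T.neg r := ok.neg_eq hr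

theorem coroot_list {r : ℕ} (hr : r < D.nroots) :
    (D.coroot.getD r #[]).toList = (List.range D.rank).map (T.cC r) := by
  rw [getD_toList, toList_getD_of_map rfl ok.arr_split.2.2.1, if_pos hr]

theorem coroot_eq {r i : ℕ} (hr : r < D.nroots) (hi : i < D.rank) : (D.coroot.getD r #[]).getD i 0 = T.cC r i := by
  rw [getD_toList (D.coroot.getD r #[]), getD_of_eq_map (ok.coroot_list hr), if_pos hi]

theorem cartan_eq {i s : ℕ} (hi : i < D.rank) (hs : s < D.nroots) : D.cartan i s = T.cA i s := by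
  have h : (D.cartanSR.getD i #[]).toList = (List.range D.nroots).map (T.cA i) := by
    rw [getD_toList, toList_getD_of_map rfl ok.arr_split.2.2.2.1, if_pos hi]
  rw [ChevalleyDatum.cartan, getD_toList (D.cartanSR.getD i #[]), getD_of_eq_map h, if_pos hs]

theorem chs_eq (r : ℕ) : ((D.chain.getD r #[]).toList.map fun e => (e.1, e.2.toList)) = T.chs D r := by
  rw [getD_toList, toList_getD_of_map (g := fun a : Array (ℕ × Array (ℕ × ℤ)) => a.toList.map fun e => (e.1, e.2.toList))
    rfl ok.arr_split.2.2.2.2]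
  by_cases hr : r < D.nroots
  · rw [if_pos hr, Tabs.chs, nlt_iff.mpr hr]
  · rw [if_neg hr, Tabs.chs, nlt_false_iff.mpr (not_lt.mp hr)]

theorem chainEntry_eq (r s : ℕ) : D.chainEntry r s = T.chainE D r s := by
  rw [Tabs.chainE, lookR_eq, ← ok.chs_eq r, ChevalleyDatum.chainEntry]
  generalize (D.chain.getD r #[]).toList = L
  induction L with
  | nil => rfl
  | cons a L ih =>
    rw [List.map_cons]
    by_cases h : a.1 = s
    · rw [List.find?_cons_of_pos (by simpa using h), List.find?_cons_of_pos (by simpa using h)]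
    · rw [List.find?_cons_of_neg (by simpa using h), List.find?_cons_of_neg (by simpa using h)]
      exact ih

theorem chainRoot_eq (r s i : ℕ) : D.chainRoot r s i = T.cRoot D r s i := by
  rw [ChevalleyDatum.chainRoot, Tabs.cRoot, ok.chainEntry_eq]

theorem chainM_eq (r s i : ℕ) : D.chainM r s i = T.cM D r s i := by
  rw [ChevalleyDatum.chainM, Tabs.cM, ok.chainEntry_eq]

theorem commTerms_eq_commT (r s : ℕ) : D.commTerms r s = T.commT D r s := by
  simp only [ChevalleyDatum.commTerms, Tabs.commT, ok.chainRoot_eq, ok.chainM_eq]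

/-! ### Roots -/

theorem neg_lt {r : ℕ} (hr : r < D.nroots) : T.neg r < D.nroots := by
  have h := ok.root r hr; simp only [Tabs.chkRoot, andR_iff, nlt_iff] at h; exact h.1

theorem neg_neg' {r : ℕ} (hr : r < D.nroots) : T.neg (T.neg r) = r := by
  have h := ok.root r hr; simp only [Tabs.chkRoot, andR_iff, Nat.beq_eq] at h; exact h.2.1

theorem neg_ne {r : ℕ} (hr : r < D.nroots) : T.neg r ≠ r := by
  have h := ok.root r hr; simp only [Tabs.chkRoot, andR_iff, notR_iff, nbeq_false_iff] at h; exact h.2.2.1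

theorem ht_neg {r : ℕ} (hr : r < D.nroots) : T.htf (T.neg r) = -T.htf r := by
  have h := ok.root r hr; simp only [Tabs.chkRoot, andR_iff, ieq_iff] at h; exact h.2.2.2.1

theorem ht_ne {r : ℕ} (hr : r < D.nroots) : T.htf r ≠ 0 := by
  have h := ok.root r hr
  simp only [Tabs.chkRoot, andR_iff, notR_iff] at h
  exact fun e => by simpa [ieq_iff.mpr e] using h.2.2.2.2.1

theorem isPos_iff {r : ℕ} : D.IsPosRoot r ↔ r < D.nroots ∧ 0 < T.htf r := by
  refine and_congr_right fun hr => ?_
  have h := ok.root r hr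
  simp only [Tabs.chkRoot, andR_iff, beqB_iff] at h
  rw [ok.coroot_list hr, ← ipos_iff, ← h.2.2.2.2.2.1]
  simp

theorem isNeg_iff {r : ℕ} : D.IsNegRoot r ↔ r < D.nroots ∧ T.htf r < 0 := by
  refine and_congr_right fun hr => ?_
  have h := ok.root r hr
  simp only [Tabs.chkRoot, andR_iff, beqB_iff] at h
  rw [ok.coroot_list hr, ← neg_pos, ← ipos_iff,
    show -T.htf r = Int.neg (T.htf r) from rfl, ← h.2.2.2.2.2.2.1]
  simp [show ∀ a : ℤ, Int.neg a = -a from fun _ => rfl]

theorem cA_neg {r i : ℕ} (hr : r < D.nroots) (hi : i < D.rank) : T.cA i (T.neg r) = -T.cA i r := by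
  have h := ok.root r hr; simp only [Tabs.chkRoot, andR_iff, allR_iff, ieq_iff] at h
  exact (h.2.2.2.2.2.2.2.1 i hi).1

theorem bezout {r : ℕ} (hr : r < D.nroots) :
    ∃ a < D.rank, ∃ b < D.rank, ∃ x y : ℤ, x * T.cC r a + y * T.cC r b = 1 := by
  have h := ok.root r hr
  simp only [Tabs.chkRoot, andR_iff, nlt_iff, ieq_iff] at h
  exact ⟨_, h.2.2.2.2.2.2.2.2.1, _, h.2.2.2.2.2.2.2.2.2.1, _, _, h.2.2.2.2.2.2.2.2.2.2⟩

theorem smp_lt {i : ℕ} (hi : i < D.rank) : T.smp i < D.nroots := by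
  have h := ok.simp_ok i hi; simp only [Tabs.chkSimple, andR_iff, nlt_iff] at h; exact h.1

theorem smp_spec {i : ℕ} (hi : i < D.rank) :
    T.htf (T.smp i) = 1 ∧ T.cA i (T.smp i) = 2 ∧ T.refl i (T.smp i) = T.neg (T.smp i) ∧
      T.eta i (T.smp i) = -1 ∧ T.eta i (T.neg (T.smp i)) = -1 := by
  have h := ok.simp_ok i hi
  simp only [Tabs.chkSimple, andR_iff, ieq_iff, Nat.beq_eq] at h
  exact ⟨h.2.1, h.2.2.1, h.2.2.2.1, h.2.2.2.2.1, h.2.2.2.2.2.1⟩

theorem cC_smp {i j : ℕ} (hi : i < D.rank) (hj : j < D.rank) : T.cC (T.smp i) j = if j = i then 1 else 0 := by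
  have h := ok.simp_ok i hi
  simp only [Tabs.chkSimple, andR_iff, allR_iff, ieq_iff] at h
  rw [h.2.2.2.2.2.2 j hj]
  by_cases e : j = i
  · rw [if_pos e, Nat.beq_eq.mpr e]
  · rw [if_neg e, nbeq_false_iff.mpr e]

/-! ### Reflections -/

theorem refl_lt {i s : ℕ} (hi : i < D.rank) (hs : s < D.nroots) : T.refl i s < D.nroots := by
  have h := ok.refl_ok i hi s hs; simp only [Tabs.chkRefl, andR_iff, nlt_iff] at h; exact h.1

theorem refl_refl {i s : ℕ} (hi : i < D.rank) (hs : s < D.nroots) : T.refl i (T.refl i s) = s := by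
  have h := ok.refl_ok i hi s hs; simp only [Tabs.chkRefl, andR_iff, Nat.beq_eq] at h; exact h.2.2.1

theorem refl_neg {i s : ℕ} (hi : i < D.rank) (hs : s < D.nroots) :
    T.refl i (T.neg s) = T.neg (T.refl i s) := by
  have h := ok.refl_ok i hi s hs; simp only [Tabs.chkRefl, andR_iff, Nat.beq_eq] at h; exact h.2.2.2.1

theorem eta_unit {i s : ℕ} (hi : i < D.rank) (hs : s < D.nroots) : T.eta i s = 1 ∨ T.eta i s = -1 := by
  have h := ok.refl_ok i hi s hs; simp only [Tabs.chkRefl, andR_iff, orR_iff, ieq_iff] at h; exact h.2.2.2.2.1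

theorem eta_refl {i s : ℕ} (hi : i < D.rank) (hs : s < D.nroots) :
    T.eta i s * T.eta i (T.refl i s) = (-1) ^ (T.cA i s).natAbs := by
  have h := ok.refl_ok i hi s hs; simp only [Tabs.chkRefl, andR_iff, ieq_iff, ipow_eq] at h; exact h.2.2.2.2.2.1

theorem eta_neg {i s : ℕ} (hi : i < D.rank) (hs : s < D.nroots) : T.eta i s * T.eta i (T.neg s) = 1 := by
  have h := ok.refl_ok i hi s hs; simp only [Tabs.chkRefl, andR_iff, ieq_iff] at h; exact h.2.2.2.2.2.2.1

theorem refl_pos {i s : ℕ} (hi : i < D.rank) (hs : s < D.nroots) (hne : s ≠ T.smp i) (h0 : 0 < T.htf s) :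
    0 < T.htf (T.refl i s) := by
  have h := ok.refl_ok i hi s hs
  simp only [Tabs.chkRefl, andR_iff, orR_iff, notR_iff, ipos_iff, Nat.beq_eq] at h
  rcases h.2.2.2.2.2.2.2.1 with e | e | e
  · exact absurd e hne
  · exact absurd (ipos_iff.mpr h0) (by simp [e])
  · exact e

theorem cA_refl {i j s : ℕ} (hi : i < D.rank) (hj : j < D.rank) (hs : s < D.nroots) :
    T.cA j (T.refl i s) = T.cA j s - T.cA i s * T.cA j (T.smp i) := by
  have h := ok.refl_ok i hi s hs
  simp only [Tabs.chkRefl, andR_iff, allR_iff, ieq_iff] at h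
  exact (h.2.2.2.2.2.2.2.2 j hj).1

theorem reflectRoot_eq {i s : ℕ} (hi : i < D.rank) (hs : s < D.nroots) : D.reflectRoot i s = T.refl i s := by
  have h := ok.refl_ok i hi s hs
  simp only [Tabs.chkRefl, andR_iff, Nat.beq_eq] at h
  rw [h.2.1]
  simp only [ChevalleyDatum.reflectRoot, Tabs.reflT, ok.simple_eq hi, ok.cartan_eq hi hs,
    ok.neg_eq (ok.smp_lt hi), ok.chainRoot_eq]

/-! ### Commutator terms -/

theorem chain_none {r s : ℕ} (h : ¬ ∃ e ∈ T.chs D r, e.1 = s) (i : ℕ) : T.cRoot D r s i = none := by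
  have : T.chainE D r s = [] := by
    rw [Tabs.chainE, lookR_eq, List.find?_eq_none.mpr (fun e he => by simpa using fun e' => h ⟨e, he, e'⟩)]
  simp [Tabs.cRoot, this]

theorem terms_eq {r s : ℕ} (hr : r < D.nroots) (hs : s < D.nroots) : D.commTerms r s = T.terms r s := by
  rw [ok.commTerms_eq_commT]
  by_cases h1 : ∃ e ∈ T.chs D r, e.1 = s
  · obtain ⟨e, he, rfl⟩ := h1
    have h := ok.terms_ok r hr
    simp only [Tabs.chkTerms, andR_iff, allL_iff] at h
    exact (eq_of_eqL eq_of_eqQ (h.1 e he).1).symm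
  by_cases h2 : ∃ e ∈ T.chs D s, e.1 = r
  · obtain ⟨e, he, rfl⟩ := h2
    have h := ok.terms_ok s hs
    simp only [Tabs.chkTerms, andR_iff, allL_iff] at h
    exact (eq_of_eqL eq_of_eqQ (h.1 e he).2).symm
  have hn : T.commT D r s = [] := by simp [Tabs.commT, ok.chain_none h1, ok.chain_none h2]
  have h := ok.terms_ok r hr
  simp only [Tabs.chkTerms, andR_iff, allR_iff, orR_iff, isNilR_iff, anyL_iff, Nat.beq_eq] at h
  rcases h.2 s hs with e | ⟨e | e, -⟩
  · rw [e, hn]
  · exact absurd e h1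
  · exact absurd e h2

theorem term_spec {r s : ℕ} (hr : r < D.nroots) (hs : s < D.nroots) {q : ℕ × ℤ × ℕ × ℕ} (hq : q ∈ T.terms r s) :
    q.1 < D.nroots ∧ q.2.2.1 ≠ 0 ∧ q.2.2.2 ≠ 0 ∧
      T.htf q.1 = q.2.2.1 * T.htf r + q.2.2.2 * T.htf s := by
  have h := ok.terms_ok r hr
  simp only [Tabs.chkTerms, andR_iff, allR_iff, orR_iff, isNilR_iff] at h
  rcases h.2 s hs with e | ⟨-, e⟩
  · simp [e] at hq
  · have := allL_iff.mp e q hq
    simp only [andR_iff, nlt_iff, notR_iff, nbeq_false_iff, ieq_iff, Int.add_def, Int.mul_def] at this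
    exact this

theorem rep_simple {r : ℕ} (hr : r ∈ T.reps) : ∃ i < D.rank, T.smp i = r := by
  have h := ok.reps_simple
  simp only [allL_iff, anyL_iff, mapR_eq, upTo_eq, List.mem_map, List.mem_range, Nat.beq_eq] at h
  obtain ⟨_, ⟨i, hi, rfl⟩, e⟩ := h r hr
  exact ⟨i, hi, e⟩

end OK

end Cfsg.Agent.Chev
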