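import Cfsg.Agent.Lib.Chev.DataD4
import Cfsg.Prelude.Def_ChevD4

/-! Kernel evaluation of the checks for the datum of type D4. -/

set_option autoImplicit false
set_option maxRecDepth 100000

namespace Cfsg.Agent.Chev.D4

open Cfsg.Lie

theorem add18 : T.chkAdd chevD4 18 = true := by
  decide +kernel

theorem base18_0 : T.chkBase chevD4 18 0 24 = true := by
  decide +kernel


end Cfsg.Agent.Chev.D4
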