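import Cfsg.Agent.Lib.Chev.DataE6
import Cfsg.Prelude.Def_ChevE6

/-! Kernel evaluation of the checks for the datum of type E6. -/

set_option autoImplicit false
set_option maxRecDepth 100000

namespace Cfsg.Agent.Chev.E6

open Cfsg.Lie

theorem word0 : T.chkWord chevE6 0 = true := by
  decide +kernel

theorem conj0_0 : T.chkConj chevE6 0 0 72 = true := by
  decide +kernel

theorem word1 : T.chkWord chevE6 1 = true := by
  decide +kernel

theorem conj1_0 : T.chkConj chevE6 1 0 72 = true := by
  decide +kernel

theorem word2 : T.chkWord chevE6 2 = true := by
  decide +kernel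

theorem conj2_0 : T.chkConj chevE6 2 0 72 = true := by
  decide +kernel

theorem word3 : T.chkWord chevE6 3 = true := by
  decide +kernel

theorem conj3_0 : T.chkConj chevE6 3 0 72 = true := by
  decide +kernel

theorem word4 : T.chkWord chevE6 4 = true := by
  decide +kernel

theorem conj4_0 : T.chkConj chevE6 4 0 72 = true := by
  decide +kernel

theorem word5 : T.chkWord chevE6 5 = true := by
  decide +kernel

theorem conj5_0 : T.chkConj chevE6 5 0 72 = true := by
  decide +kernel


end Cfsg.Agent.Chev.E6
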