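import Cfsg.Agent.Lib.Chev.DataE6
import Cfsg.Prelude.Def_ChevE6

/-! Kernel evaluation of the checks for the datum of type E6. -/

set_option autoImplicit false
set_option maxRecDepth 100000

namespace Cfsg.Agent.Chev.E6

open Cfsg.Lie

theorem add56 : T.chkAdd chevE6 56 = true := by
  decide +kernel

theorem base56_0 : T.chkBase chevE6 56 0 72 = true := by
  decide +kernel


end Cfsg.Agent.Chev.E6
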