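import Cfsg.Agent.Lib.Chev.DataE7
import Cfsg.Prelude.Def_ChevE7

/-! Kernel evaluation of the checks for the datum of type E7. -/

set_option autoImplicit false
set_option maxRecDepth 100000

namespace Cfsg.Agent.Chev.E7

open Cfsg.Lie

theorem word0 : T.chkWord chevE7 0 = true := by
  decide +kernel

theorem conj0_0 : T.chkConj chevE7 0 0 63 = true := by
  decide +kernel

theorem conj0_1 : T.chkConj chevE7 0 63 63 = true := by
  decide +kernel

theorem word1 : T.chkWord chevE7 1 = true := by
  decide +kernel

theorem conj1_0 : T.chkConj chevE7 1 0 63 = true := by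
  decide +kernel

theorem conj1_1 : T.chkConj chevE7 1 63 63 = true := by
  decide +kernel

theorem word2 : T.chkWord chevE7 2 = true := by
  decide +kernel

theorem conj2_0 : T.chkConj chevE7 2 0 63 = true := by
  decide +kernel

theorem conj2_1 : T.chkConj chevE7 2 63 63 = true := by
  decide +kernel

theorem word3 : T.chkWord chevE7 3 = true := by
  decide +kernel

theorem conj3_0 : T.chkConj chevE7 3 0 63 = true := by
  decide +kernel

theorem conj3_1 : T.chkConj chevE7 3 63 63 = true := by
  decide +kernel

theorem word4 : T.chkWord chevE7 4 = true := by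
  decide +kernel

theorem conj4_0 : T.chkConj chevE7 4 0 63 = true := by
  decide +kernel

theorem conj4_1 : T.chkConj chevE7 4 63 63 = true := by
  decide +kernel

theorem word5 : T.chkWord chevE7 5 = true := by
  decide +kernel

theorem conj5_0 : T.chkConj chevE7 5 0 63 = true := by
  decide +kernel

theorem conj5_1 : T.chkConj chevE7 5 63 63 = true := by
  decide +kernel

theorem word6 : T.chkWord chevE7 6 = true := by
  decide +kernel

theorem conj6_0 : T.chkConj chevE7 6 0 63 = true := by
  decide +kernel

theorem conj6_1 : T.chkConj chevE7 6 63 63 = true := by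
  decide +kernel


end Cfsg.Agent.Chev.E7
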