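import Cfsg.Agent.Lib.Chev.DataE7
import Cfsg.Prelude.Def_ChevE7

/-! Kernel evaluation of the checks for the datum of type E7. -/

set_option autoImplicit false
set_option maxRecDepth 100000

namespace Cfsg.Agent.Chev.E7

open Cfsg.Lie

theorem add93 : T.chkAdd chevE7 93 = true := by
  decide +kernel

theorem base93_0 : T.chkBase chevE7 93 0 63 = true := by
  decide +kernel

theorem base93_1 : T.chkBase chevE7 93 63 63 = true := by
  decide +kernel


end Cfsg.Agent.Chev.E7
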