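import Cfsg.Agent.Lib.Chev.DataE8
import Cfsg.Prelude.Def_ChevE8

/-! Kernel evaluation of the checks for the datum of type E8. -/

set_option autoImplicit false
set_option maxRecDepth 100000

namespace Cfsg.Agent.Chev.E8

open Cfsg.Lie

theorem word0 : T.chkWord chevE8 0 = true := by
  decide +kernel

theorem conj0_0 : T.chkConj chevE8 0 0 60 = true := by
  decide +kernel

theorem conj0_1 : T.chkConj chevE8 0 60 60 = true := by
  decide +kernel

theorem conj0_2 : T.chkConj chevE8 0 120 60 = true := by
  decide +kernel

theorem conj0_3 : T.chkConj chevE8 0 180 60 = true := by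
  decide +kernel

theorem word1 : T.chkWord chevE8 1 = true := by
  decide +kernel

theorem conj1_0 : T.chkConj chevE8 1 0 60 = true := by
  decide +kernel

theorem conj1_1 : T.chkConj chevE8 1 60 60 = true := by
  decide +kernel

theorem conj1_2 : T.chkConj chevE8 1 120 60 = true := by
  decide +kernel

theorem conj1_3 : T.chkConj chevE8 1 180 60 = true := by
  decide +kernel

theorem word2 : T.chkWord chevE8 2 = true := by
  decide +kernel

theorem conj2_0 : T.chkConj chevE8 2 0 60 = true := by
  decide +kernel

theorem conj2_1 : T.chkConj chevE8 2 60 60 = true := by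
  decide +kernel

theorem conj2_2 : T.chkConj chevE8 2 120 60 = true := by
  decide +kernel

theorem conj2_3 : T.chkConj chevE8 2 180 60 = true := by
  decide +kernel

theorem word3 : T.chkWord chevE8 3 = true := by
  decide +kernel

theorem conj3_0 : T.chkConj chevE8 3 0 60 = true := by
  decide +kernel

theorem conj3_1 : T.chkConj chevE8 3 60 60 = true := by
  decide +kernel

theorem conj3_2 : T.chkConj chevE8 3 120 60 = true := by
  decide +kernel

theorem conj3_3 : T.chkConj chevE8 3 180 60 = true := by
  decide +kernel

theorem word4 : T.chkWord chevE8 4 = true := by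
  decide +kernel

theorem conj4_0 : T.chkConj chevE8 4 0 60 = true := by
  decide +kernel

theorem conj4_1 : T.chkConj chevE8 4 60 60 = true := by
  decide +kernel

theorem conj4_2 : T.chkConj chevE8 4 120 60 = true := by
  decide +kernel

theorem conj4_3 : T.chkConj chevE8 4 180 60 = true := by
  decide +kernel

theorem word5 : T.chkWord chevE8 5 = true := by
  decide +kernel

theorem conj5_0 : T.chkConj chevE8 5 0 60 = true := by
  decide +kernel

theorem conj5_1 : T.chkConj chevE8 5 60 60 = true := by
  decide +kernel

theorem conj5_2 : T.chkConj chevE8 5 120 60 = true := by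
  decide +kernel

theorem conj5_3 : T.chkConj chevE8 5 180 60 = true := by
  decide +kernel

theorem word6 : T.chkWord chevE8 6 = true := by
  decide +kernel

theorem conj6_0 : T.chkConj chevE8 6 0 60 = true := by
  decide +kernel

theorem conj6_1 : T.chkConj chevE8 6 60 60 = true := by
  decide +kernel

theorem conj6_2 : T.chkConj chevE8 6 120 60 = true := by
  decide +kernel

theorem conj6_3 : T.chkConj chevE8 6 180 60 = true := by
  decide +kernel

theorem word7 : T.chkWord chevE8 7 = true := by
  decide +kernel

theorem conj7_0 : T.chkConj chevE8 7 0 60 = true := by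
  decide +kernel

theorem conj7_1 : T.chkConj chevE8 7 60 60 = true := by
  decide +kernel

theorem conj7_2 : T.chkConj chevE8 7 120 60 = true := by
  decide +kernel

theorem conj7_3 : T.chkConj chevE8 7 180 60 = true := by
  decide +kernel


end Cfsg.Agent.Chev.E8
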