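import Cfsg.Agent.Lib.Chev.DataE8
import Cfsg.Prelude.Def_ChevE8

/-! Kernel evaluation of the checks for the datum of type E8. -/

set_option autoImplicit false
set_option maxRecDepth 100000

namespace Cfsg.Agent.Chev.E8

open Cfsg.Lie

theorem add162 : T.chkAdd chevE8 162 = true := by
  decide +kernel

theorem base162_0 : T.chkBase chevE8 162 0 60 = true := by
  decide +kernel

theorem base162_1 : T.chkBase chevE8 162 60 60 = true := by
  decide +kernel

theorem base162_2 : T.chkBase chevE8 162 120 60 = true := by
  decide +kernel

theorem base162_3 : T.chkBase chevE8 162 180 60 = true := by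
  decide +kernel


end Cfsg.Agent.Chev.E8
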