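import Cfsg.Agent.Lib.Chev.ChkE8A
import Cfsg.Agent.Lib.Chev.ChkE8B
import Cfsg.Agent.Lib.Chev.ChkE8C
import Cfsg.Agent.Lib.Chev.OK

/-! All checks for the datum of type E8. -/

set_option autoImplicit false
set_option maxRecDepth 20000

namespace Cfsg.Agent.Chev.E8

open Cfsg.Lie

theorem ok : OK chevE8 T where
  arr := arr
  col := fun r hr => by
    have hr : r < 240 := hr
    by_cases h0 : r < 60
    · exact allFrom_iff.mp col0 r (by omega) (by omega)
    by_cases h1 : r < 120
    · exact allFrom_iff.mp col1 r (by omega) (by omega)
    by_cases h2 : r < 180
    · exact allFrom_iff.mp col2 r (by omega) (by omega)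
    exact allFrom_iff.mp col3 r (by omega) (by omega)
  root := fun r hr => by
    have hr : r < 240 := hr
    by_cases h0 : r < 60
    · exact allFrom_iff.mp root0 r (by omega) (by omega)
    by_cases h1 : r < 120
    · exact allFrom_iff.mp root1 r (by omega) (by omega)
    by_cases h2 : r < 180
    · exact allFrom_iff.mp root2 r (by omega) (by omega)
    exact allFrom_iff.mp root3 r (by omega) (by omega)
  grad := fun r hr => by
    have hr : r < 240 := hr
    by_cases h0 : r < 60
    · exact allFrom_iff.mp grad0 r (by omega) (by omega)
    by_cases h1 : r < 120
    · exact allFrom_iff.mp grad1 r (by omega) (by omega)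
    by_cases h2 : r < 180
    · exact allFrom_iff.mp grad2 r (by omega) (by omega)
    exact allFrom_iff.mp grad3 r (by omega) (by omega)
  simp_ok := allR_iff.mp simp_ok
  refl_ok := fun i hi => allR_iff.mp (allR_iff.mp refl_ok i hi)
  word := fun i hi => by
    have hi : i < 8 := hi
    interval_cases i
    · exact word0
    · exact word1
    · exact word2
    · exact word3
    · exact word4
    · exact word5
    · exact word6
    · exact word7
  conj := fun i hi s hs => by
    have hi : i < 8 := hi
    have hs : s < 240 := hs
    rw [Tabs.chkConj, allFrom_iff]
    intro m h1 h2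
    interval_cases i
    · by_cases h0 : m < 60
      · exact allFrom_iff.mp conj0_0 m (by omega) (by omega)
      by_cases h1 : m < 120
      · exact allFrom_iff.mp conj0_1 m (by omega) (by omega)
      by_cases h2 : m < 180
      · exact allFrom_iff.mp conj0_2 m (by omega) (by omega)
      exact allFrom_iff.mp conj0_3 m (by omega) (by omega)
    · by_cases h0 : m < 60
      · exact allFrom_iff.mp conj1_0 m (by omega) (by omega)
      by_cases h1 : m < 120
      · exact allFrom_iff.mp conj1_1 m (by omega) (by omega)
      by_cases h2 : m < 180
      · exact allFrom_iff.mp conj1_2 m (by omega) (by omega)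
      exact allFrom_iff.mp conj1_3 m (by omega) (by omega)
    · by_cases h0 : m < 60
      · exact allFrom_iff.mp conj2_0 m (by omega) (by omega)
      by_cases h1 : m < 120
      · exact allFrom_iff.mp conj2_1 m (by omega) (by omega)
      by_cases h2 : m < 180
      · exact allFrom_iff.mp conj2_2 m (by omega) (by omega)
      exact allFrom_iff.mp conj2_3 m (by omega) (by omega)
    · by_cases h0 : m < 60
      · exact allFrom_iff.mp conj3_0 m (by omega) (by omega)
      by_cases h1 : m < 120
      · exact allFrom_iff.mp conj3_1 m (by omega) (by omega)
      by_cases h2 : m < 180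
      · exact allFrom_iff.mp conj3_2 m (by omega) (by omega)
      exact allFrom_iff.mp conj3_3 m (by omega) (by omega)
    · by_cases h0 : m < 60
      · exact allFrom_iff.mp conj4_0 m (by omega) (by omega)
      by_cases h1 : m < 120
      · exact allFrom_iff.mp conj4_1 m (by omega) (by omega)
      by_cases h2 : m < 180
      · exact allFrom_iff.mp conj4_2 m (by omega) (by omega)
      exact allFrom_iff.mp conj4_3 m (by omega) (by omega)
    · by_cases h0 : m < 60
      · exact allFrom_iff.mp conj5_0 m (by omega) (by omega)
      by_cases h1 : m < 120
      · exact allFrom_iff.mp conj5_1 m (by omega) (by omega)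
      by_cases h2 : m < 180
      · exact allFrom_iff.mp conj5_2 m (by omega) (by omega)
      exact allFrom_iff.mp conj5_3 m (by omega) (by omega)
    · by_cases h0 : m < 60
      · exact allFrom_iff.mp conj6_0 m (by omega) (by omega)
      by_cases h1 : m < 120
      · exact allFrom_iff.mp conj6_1 m (by omega) (by omega)
      by_cases h2 : m < 180
      · exact allFrom_iff.mp conj6_2 m (by omega) (by omega)
      exact allFrom_iff.mp conj6_3 m (by omega) (by omega)
    · by_cases h0 : m < 60
      · exact allFrom_iff.mp conj7_0 m (by omega) (by omega)
      by_cases h1 : m < 120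
      · exact allFrom_iff.mp conj7_1 m (by omega) (by omega)
      by_cases h2 : m < 180
      · exact allFrom_iff.mp conj7_2 m (by omega) (by omega)
      exact allFrom_iff.mp conj7_3 m (by omega) (by omega)
  terms_ok := fun r hr => by
    have hr : r < 240 := hr
    by_cases h0 : r < 60
    · exact allFrom_iff.mp terms_ok0 r (by omega) (by omega)
    by_cases h1 : r < 120
    · exact allFrom_iff.mp terms_ok1 r (by omega) (by omega)
    by_cases h2 : r < 180
    · exact allFrom_iff.mp terms_ok2 r (by omega) (by omega)
    exact allFrom_iff.mp terms_ok3 r (by omega) (by omega)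
  steps := steps
  add := fun r hr => by
    have h : T.reps = [162] := rfl
    rw [h] at hr
    simp only [List.mem_cons, List.not_mem_nil, or_false] at hr
    rcases hr with rfl
    · exact add162
  base := fun r hr s hs => by
    have hs : s < 240 := hs
    have h : T.reps = [162] := rfl
    rw [h] at hr
    simp only [List.mem_cons, List.not_mem_nil, or_false] at hr
    rw [Tabs.chkBase, allFrom_iff]
    intro m h1 h2
    rcases hr with rfl
    · by_cases h0 : m < 60
      · exact allFrom_iff.mp base162_0 m (by omega) (by omega)
      by_cases h1 : m < 120
      · exact allFrom_iff.mp base162_1 m (by omega) (by omega)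
      by_cases h2 : m < 180
      · exact allFrom_iff.mp base162_2 m (by omega) (by omega)
      exact allFrom_iff.mp base162_3 m (by omega) (by omega)
  order := order_ok
  reps_simple := by decide +kernel

end Cfsg.Agent.Chev.E8
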