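import Cfsg.Agent.Lib.Chev.DataF4
import Cfsg.Prelude.Def_ChevF4

/-! Kernel evaluation of the checks for the datum of type F4. -/

set_option autoImplicit false
set_option maxRecDepth 100000

namespace Cfsg.Agent.Chev.F4

open Cfsg.Lie

theorem word0 : T.chkWord chevF4 0 = true := by
  decide +kernel

theorem conj0_0 : T.chkConj chevF4 0 0 48 = true := by
  decide +kernel

theorem word1 : T.chkWord chevF4 1 = true := by
  decide +kernel

theorem conj1_0 : T.chkConj chevF4 1 0 48 = true := by
  decide +kernel

theorem word2 : T.chkWord chevF4 2 = true := by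
  decide +kernel

theorem conj2_0 : T.chkConj chevF4 2 0 48 = true := by
  decide +kernel

theorem word3 : T.chkWord chevF4 3 = true := by
  decide +kernel

theorem conj3_0 : T.chkConj chevF4 3 0 48 = true := by
  decide +kernel


end Cfsg.Agent.Chev.F4
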