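import Cfsg.Agent.Lib.Chev.DataF4
import Cfsg.Prelude.Def_ChevF4

/-! Kernel evaluation of the checks for the datum of type F4. -/

set_option autoImplicit false
set_option maxRecDepth 100000

namespace Cfsg.Agent.Chev.F4

open Cfsg.Lie

theorem add33 : T.chkAdd chevF4 33 = true := by
  decide +kernel

theorem base33_0 : T.chkBase chevF4 33 0 48 = true := by
  decide +kernel

theorem add25 : T.chkAdd chevF4 25 = true := by
  decide +kernel

theorem base25_0 : T.chkBase chevF4 25 0 48 = true := by
  decide +kernel


end Cfsg.Agent.Chev.F4
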