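import Cfsg.Agent.Lib.Chev.ChkF4A
import Cfsg.Agent.Lib.Chev.ChkF4B
import Cfsg.Agent.Lib.Chev.ChkF4C
import Cfsg.Agent.Lib.Chev.OK

/-! All checks for the datum of type F4. -/

set_option autoImplicit false
set_option maxRecDepth 20000

namespace Cfsg.Agent.Chev.F4

open Cfsg.Lie

theorem ok : OK chevF4 T where
  arr := arr
  col := fun r hr => allFrom_iff.mp col0 r (Nat.zero_le _) (by simpa [chevF4] using hr)
  root := fun r hr => allFrom_iff.mp root0 r (Nat.zero_le _) (by simpa [chevF4] using hr)
  grad := fun r hr => allFrom_iff.mp grad0 r (Nat.zero_le _) (by simpa [chevF4] using hr)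
  simp_ok := allR_iff.mp simp_ok
  refl_ok := fun i hi => allR_iff.mp (allR_iff.mp refl_ok i hi)
  word := fun i hi => by
    have hi : i < 4 := hi
    interval_cases i
    · exact word0
    · exact word1
    · exact word2
    · exact word3
  conj := fun i hi s hs => by
    have hi : i < 4 := hi
    have hs : s < 48 := hs
    rw [Tabs.chkConj, allFrom_iff]
    intro m h1 h2
    interval_cases i
    · exact allFrom_iff.mp conj0_0 m (by omega) (by omega)
    · exact allFrom_iff.mp conj1_0 m (by omega) (by omega)
    · exact allFrom_iff.mp conj2_0 m (by omega) (by omega)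
    · exact allFrom_iff.mp conj3_0 m (by omega) (by omega)
  terms_ok := fun r hr => allFrom_iff.mp terms_ok0 r (Nat.zero_le _) (by simpa [chevF4] using hr)
  steps := steps
  add := fun r hr => by
    have h : T.reps = [33, 25] := rfl
    rw [h] at hr
    simp only [List.mem_cons, List.not_mem_nil, or_false] at hr
    rcases hr with rfl | rfl
    · exact add33
    · exact add25
  base := fun r hr s hs => by
    have hs : s < 48 := hs
    have h : T.reps = [33, 25] := rfl
    rw [h] at hr
    simp only [List.mem_cons, List.not_mem_nil, or_false] at hr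
    rw [Tabs.chkBase, allFrom_iff]
    intro m h1 h2
    rcases hr with rfl | rfl
    · exact allFrom_iff.mp base33_0 m (by omega) (by omega)
    · exact allFrom_iff.mp base25_0 m (by omega) (by omega)
  order := order_ok
  reps_simple := by decide +kernel

end Cfsg.Agent.Chev.F4
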