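import Cfsg.Agent.Lib.Chev.OKG2
import Cfsg.Agent.Lib.Chev.OKB2
import Cfsg.Agent.Lib.Chev.OKD4
import Cfsg.Agent.Lib.Chev.OKF4
import Cfsg.Agent.Lib.Chev.OKE6
import Cfsg.Agent.Lib.Chev.OKE7
import Cfsg.Agent.Lib.Chev.OKE8
import Cfsg.Agent.Lib.Chev.Ident

/-! All seven data pass the checks. -/

set_option autoImplicit false

namespace Cfsg.Agent.Chev

open Cfsg.Lie

theorem exists_ok {D : ChevalleyDatum}
    (hD : D ∈ [chevG2, chevB2, chevD4, chevF4, chevE6, chevE7, chevE8]) : ∃ T, OK D T := by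
  simp only [List.mem_cons, List.not_mem_nil, or_false] at hD
  rcases hD with rfl | rfl | rfl | rfl | rfl | rfl | rfl
  exacts [⟨_, G2.ok⟩, ⟨_, B2.ok⟩, ⟨_, D4.ok⟩, ⟨_, F4.ok⟩, ⟨_, E6.ok⟩, ⟨_, E7.ok⟩, ⟨_, E8.ok⟩]

end Cfsg.Agent.Chev
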