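import Cfsg.Agent.Lib.Chev.Core
import Cfsg.Agent.S0319

/-!
Perfectness and simplicity.
-/

set_option autoImplicit false

namespace Cfsg.Agent.Chev

open Cfsg.Lie

namespace Tabs

variable (D : ChevalleyDatum) (T : Tabs)

/-- Two fundamental reflections do not commute on a fundamental root. -/
noncomputable def adjB (i j : ℕ) : Bool :=
  notR (Nat.beq (T.refl i (T.refl j (T.smp i))) (T.refl j (T.refl i (T.smp i))))

/-- Fundamental roots reached from the first one in at most `k` steps. -/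
noncomputable def reachL : ℕ → List ℕ
  | 0 => [0]
  | k + 1 => filterR (fun i => orR (anyL (Nat.beq i) (reachL k))
      (anyL (fun j => orR (T.adjB i j) (T.adjB j i)) (reachL k))) (upTo D.rank)

/-- The diagram is connected. -/
noncomputable def chkConn : Bool :=
  andR (nlt 0 D.rank) (allR D.rank fun i => anyL (Nat.beq i) (reachL D T D.rank))

/-- A root is the only root in the commutator word of some pair, with a unit coefficient. -/
noncomputable def pairB (r : ℕ) : Bool :=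
  anyL (fun a =>
    @List.rec (ℕ × ℤ) (fun _ => Bool) false
      (fun b _ _ => andR (nlt b.1 D.nroots) <| andR (notR (Nat.beq b.1 a)) <| andR (notR (Nat.beq b.1 (T.neg a))) <|
        orR (eqL eqQ (T.terms a b.1) [(r, 1, 1, 1)]) (eqL eqQ (T.terms a b.1) [(r, -1, 1, 1)]))
      (lookR r (T.chs D (T.neg a)))) (upTo D.nroots)

/-- Some Cartan integer of the root is odd. -/
noncomputable def oddB (r : ℕ) : Bool :=
  anyL (fun i => Nat.beq (Nat.mod (Int.natAbs (T.cA i r)) 2) 1) (upTo D.rank)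

/-- A root ends a commutator word whose other root has an odd Cartan integer. -/
noncomputable def pairB2 (r : ℕ) : Bool :=
  anyL (fun a => anyL (fun b => andR (notR (Nat.beq b a)) <| andR (notR (Nat.beq b (T.neg a))) <|
    @List.rec (ℕ × ℤ × ℕ × ℕ) (fun _ => Bool) false (fun q rest _ =>
      andR (T.oddB D q.1) (andR (nlt q.1 D.nroots) <| orR
        (orR (eqL eqQ rest [(r, 1, 2, 1)]) (eqL eqQ rest [(r, -1, 2, 1)]))
        (orR (eqL eqQ rest [(r, 1, 1, 2)]) (eqL eqQ rest [(r, -1, 1, 2)]))))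
      (T.terms a b)) (upTo D.nroots)) (upTo D.nroots)

/-- Every root is a commutator root over every field. -/
noncomputable def chkPerfAll : Bool := allR D.nroots fun r => T.pairB D r

/-- Every root is a commutator root over fields with more than two elements. -/
noncomputable def chkPerfOdd : Bool := allR D.nroots fun r => orR (T.oddB D r) (T.pairB2 D r)

end Tabs

variable {F : Type*} [Field F] {D : ChevalleyDatum} {T : Tabs}

theorem comm_mem_derived {G : Type*} [Group G] {K : Subgroup G} {a b : G} (ha : a ∈ K) (hb : b ∈ K) :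
    a * b * a⁻¹ * b⁻¹ ∈ (commutator ↥K).map K.subtype := by
  rw [Subgroup.map_subtype_commutator]
  exact Subgroup.commutator_mem_commutator ha hb

theorem conj_mem_derived' {G : Type*} [Group G] {K : Subgroup G} {g x : G} (hg : g ∈ K)
    (hx : x ∈ (commutator ↥K).map K.subtype) : g * x * g⁻¹ ∈ (commutator ↥K).map K.subtype := by
  obtain ⟨y, hy, rfl⟩ := Subgroup.mem_map.mp hx
  exact Subgroup.mem_map.mpr ⟨⟨g, hg⟩ * y * ⟨g, hg⟩⁻¹, (Subgroup.commutator_normal ⊤ ⊤).conj_mem y hy _, rfl⟩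

namespace OKX

variable (ok : OKX D T)

include ok

theorem comm_mem {a b : GL D.Idx F} (ha : a ∈ D.group F) (hb : b ∈ D.group F) :
    a * b * a⁻¹ * b⁻¹ ∈ (commutator ↥(D.group F)).map (D.group F).subtype :=
  comm_mem_derived ha hb

theorem conj_mem_derived {g x : GL D.Idx F} (hg : g ∈ D.group F)
    (hx : x ∈ (commutator ↥(D.group F)).map (D.group F).subtype) :
    g * x * g⁻¹ ∈ (commutator ↥(D.group F)).map (D.group F).subtype :=
  conj_mem_derived' hg hx

theorem mem_derived_scale {r : ℕ} {a : F} (hr : r < D.nroots) {i : ℕ} (hi : i < D.rank) {c : F} (hc : c ≠ 0)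
    (h : c ^ T.cA i r ≠ 1) : ok.toOK.xG r a ∈ (commutator ↥(D.group F)).map (D.group F).subtype := by
  set u := a / (c ^ T.cA i r - 1) with hu
  have h1 := ok.comm_mem (F := F) (ok.toOK.wordG_mem (D.hWord (D.simple i) c)) (ok.toOK.xG_mem_group r u)
  have h2 : ok.toOK.wordG (D.hWord (D.simple i) c) * ok.toOK.xG r u * (ok.toOK.wordG (D.hWord (D.simple i) c))⁻¹ =
      ok.toOK.xG r (c ^ T.cA i r * u) := by
    rw [mul_inv_eq_iff_eq_mul]
    refine Units.ext ?_
    rw [Units.val_mul, Units.val_mul, OK.coe_wordG, OK.coe_xG, OK.coe_xG]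
    exact ok.toOK.conj_h hi hr hc u
  rw [h2, OK.xG_inv, OK.xG_mul] at h1
  have h3 : c ^ T.cA i r * u + -u = a := by
    rw [hu]; field_simp [sub_ne_zero.mpr h]; ring
  rwa [h3] at h1

theorem mem_derived_pairs {r : ℕ} (hr : r < D.nroots) (h : T.pairB D r = true) (t : F) :
    ok.toOK.xG r t ∈ (commutator ↥(D.group F)).map (D.group F).subtype := by
  simp only [Tabs.pairB, anyL_iff, upTo_eq, List.mem_range] at h
  obtain ⟨a, ha, h⟩ := h
  revert h
  generalize lookR r (T.chs D (T.neg a)) = L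
  rcases L with _ | ⟨⟨b, bc⟩, L⟩
  · intro h; exact absurd h Bool.false_ne_true
  intro h
  replace h : andR (nlt b D.nroots) (andR (notR (Nat.beq b a)) (andR (notR (Nat.beq b (T.neg a)))
      (orR (eqL eqQ (T.terms a b) [(r, 1, 1, 1)]) (eqL eqQ (T.terms a b) [(r, -1, 1, 1)])))) = true := h
  simp only [andR_iff, nlt_iff, notR_iff, nbeq_false_iff, orR_iff] at h
  obtain ⟨hb, hba, hbn, hq⟩ := h
  obtain ⟨C, hC, hterms⟩ : ∃ C : F, C ≠ 0 ∧ ∀ u v : F, D.wordMat F (D.commWord F a b u v) = D.x F r (C * (u * v)) := by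
    rcases hq with e | e
    · refine ⟨-1, neg_ne_zero.mpr one_ne_zero, fun u v => ?_⟩
      simp [ChevalleyDatum.commWord, ok.toOK.terms_eq ha hb, eq_of_eqL eq_of_eqQ e, ChevalleyDatum.wordMat]
    · refine ⟨1, one_ne_zero, fun u v => ?_⟩
      simp [ChevalleyDatum.commWord, ok.toOK.terms_eq ha hb, eq_of_eqL eq_of_eqQ e, ChevalleyDatum.wordMat]
  have e : ok.toOK.xG b (1 : F) * ok.toOK.xG a (t / C) =
      ok.toOK.xG a (t / C) * ok.toOK.xG b 1 * ok.toOK.xG r t := by
    refine Units.ext ?_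
    rw [Units.val_mul, Units.val_mul, Units.val_mul, OK.coe_xG, OK.coe_xG, OK.coe_xG,
      ok.toOK.comm ha hb hba (by rwa [ok.toOK.neg_eq ha]) (t / C) 1, hterms]
    congr 2
    field_simp
  have h1 := ok.comm_mem (F := F) (inv_mem (ok.toOK.xG_mem_group b (1 : F)))
    (inv_mem (ok.toOK.xG_mem_group a (t / C)))
  rw [inv_inv, inv_inv] at h1
  have e2 : ok.toOK.xG r t = (ok.toOK.xG b 1)⁻¹ * (ok.toOK.xG a (t / C))⁻¹ * ok.toOK.xG b 1 * ok.toOK.xG a (t / C) := by
    simp only [mul_assoc]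
    rw [e]
    simp [mul_assoc]
  rw [e2]
  exact h1

theorem derived_of_simple (h : ∀ i < D.rank, ∀ t : F,
    ok.toOK.xG (T.smp i) t ∈ (commutator ↥(D.group F)).map (D.group F).subtype) :
    ∀ r < D.nroots, ∀ t : F, ok.toOK.xG r t ∈ (commutator ↥(D.group F)).map (D.group F).subtype := by
  suffices hh : ∀ (L : List (ℕ × Option (ℕ × ℕ))) (seen : List ℕ), T.chkOrder D L seen = true →
      (∀ e ∈ L, e ∈ T.order) →
      (∀ a ∈ seen, a < D.nroots ∧ ∀ t : F, ok.toOK.xG a t ∈ (commutator ↥(D.group F)).map (D.group F).subtype) →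
      ∀ r < D.nroots, ∀ t : F, ok.toOK.xG r t ∈ (commutator ↥(D.group F)).map (D.group F).subtype from
    hh T.order [] ok.toOK.order (fun _ => id) (by simp)
  intro L
  induction L with
  | nil =>
    intro seen hc _ hs a ha
    replace hc : allR D.nroots (fun r => anyL (fun s => Nat.beq s r) seen) = true := hc
    simp only [allR_iff, anyL_iff, Nat.beq_eq] at hc
    obtain ⟨b, hb, rfl⟩ := hc a ha
    exact (hs b hb).2
  | cons p L ih =>
    obtain ⟨a, o⟩ := p
    intro seen hc hL hs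
    replace hc : andR (nlt a D.nroots) (andR (@Option.rec (ℕ × ℕ) (fun _ => Bool) true
        (fun q => andR (nlt q.1 D.rank) <| andR (anyL (fun s => Nat.beq s q.2) seen) <|
          Nat.beq (T.refl q.1 q.2) a) o) (T.chkOrder D L (a :: seen))) = true := hc
    simp only [andR_iff, nlt_iff] at hc
    refine ih (a :: seen) hc.2.2 (fun e he => hL e (List.mem_cons_of_mem _ he)) ?_
    intro b hb
    rcases List.mem_cons.mp hb with rfl | hb
    swap
    · exact hs b hb
    refine ⟨hc.1, fun t => ?_⟩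
    rcases o with _ | ⟨i, c⟩
    · obtain ⟨i, hi, rfl⟩ := ok.toOK.rep_simple (r := b) (by
        simp only [Tabs.reps, flatR_eq, List.mem_flatMap]
        exact ⟨_, hL _ List.mem_cons_self, List.mem_singleton.mpr rfl⟩)
      exact h i hi t
    · have h2 := hc.2.1
      simp only [andR_iff, nlt_iff, anyL_iff, Nat.beq_eq] at h2
      obtain ⟨hi, ⟨c', hc', rfl⟩, rfl⟩ := h2
      obtain ⟨hcn, hcd⟩ := hs _ hc'
      have e := ok.toOK.n_xG hi hcn ((T.eta i c' : F) * t)
      rw [← mul_assoc (T.eta i c' : F), ok.toOK.eta_sq hi hcn, one_mul] at e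
      rw [← e]
      exact ok.conj_mem_derived (ok.toOK.wordG_mem _) (hcd _)

theorem perfect (h : T.chkPerfAll D = true ∨ (T.chkPerfOdd D = true ∧ ∃ a : F, a ≠ 0 ∧ a ≠ 1)) :
    commutator ↥(D.group F) = ⊤ := by
  suffices hle : D.group F ≤ (commutator ↥(D.group F)).map (D.group F).subtype by
    rw [eq_top_iff]
    intro g _
    obtain ⟨y, hy, e⟩ := hle g.2
    exact (Subtype.ext e : y = g) ▸ hy
  refine ok.toOK.group_le ?_
  rcases h with h | ⟨h, a, ha0, ha1⟩
  · simp only [Tabs.chkPerfAll, allR_iff] at h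
    exact fun r hr t => ok.mem_derived_pairs hr (h r hr) t
  by_cases hc : ∃ c : F, c ≠ 0 ∧ c * c ≠ 1
  · obtain ⟨c, hc0, hc2⟩ := hc
    refine ok.derived_of_simple fun i hi t => ok.mem_derived_scale (ok.toOK.smp_lt hi) hi hc0 ?_
    rw [(ok.toOK.smp_spec hi).2.1, zpow_two]
    exact hc2
  push Not at hc
  have hm1 : a = -1 := by
    have := hc a ha0
    rcases mul_self_eq_one_iff.mp this with e | e
    · exact absurd e ha1
    · exact e
  have h2 : (-1 : F) ≠ 1 := hm1 ▸ ha1
  have hodd : ∀ r < D.nroots, T.oddB D r = true → ∀ t : F,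
      ok.toOK.xG r t ∈ (commutator ↥(D.group F)).map (D.group F).subtype := by
    intro r hr ho t
    simp only [Tabs.oddB, anyL_iff, upTo_eq, List.mem_range, Nat.beq_eq] at ho
    obtain ⟨i, hi, ho⟩ := ho
    refine ok.mem_derived_scale hr hi (neg_ne_zero.mpr one_ne_zero) ?_
    have : Odd (T.cA i r) := by
      rw [← Int.natAbs_odd]
      exact Nat.odd_iff.mpr ho
    rwa [this.neg_one_zpow]
  simp only [Tabs.chkPerfOdd, allR_iff, orR_iff] at h
  intro r hr t
  rcases h r hr with ho | ho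
  · exact hodd r hr ho t
  simp only [Tabs.pairB2, anyL_iff, upTo_eq, List.mem_range, andR_iff, notR_iff, nbeq_false_iff] at ho
  obtain ⟨x, hx, y, hy, hxy, hxn, ho⟩ := ho
  revert ho
  generalize hL : T.terms x y = L
  rcases L with _ | ⟨q, rest⟩
  · intro ho; exact absurd ho Bool.false_ne_true
  intro ho
  replace ho : andR (T.oddB D q.1) (andR (nlt q.1 D.nroots) (orR
      (orR (eqL eqQ rest [(r, 1, 2, 1)]) (eqL eqQ rest [(r, -1, 2, 1)]))
      (orR (eqL eqQ rest [(r, 1, 1, 2)]) (eqL eqQ rest [(r, -1, 1, 2)])))) = true := ho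
  simp only [andR_iff, nlt_iff, orR_iff] at ho
  obtain ⟨hq, hq', hrest⟩ := ho
  -- the value of the last factor at the parameters `u`, `v`
  obtain ⟨C, hC, hword⟩ : ∃ (C : F → F → F), (∀ s : F, ∃ u v : F, C u v = s) ∧ ∀ u v : F,
      D.wordMat F (D.commWord F x y u v) =
        D.x F q.1 ((q.2.1 : F) * (-u) ^ q.2.2.1 * v ^ q.2.2.2) * D.x F r (C u v) := by
    have key : ∀ (k : ℤ) (i j : ℕ), rest = [(r, k, i, j)] → ∀ u v : F, D.wordMat F (D.commWord F x y u v) =
        D.x F q.1 ((q.2.1 : F) * (-u) ^ q.2.2.1 * v ^ q.2.2.2) * D.x F r ((k : F) * (-u) ^ i * v ^ j) := by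
      intro k i j e u v
      simp [ChevalleyDatum.commWord, ok.toOK.terms_eq hx hy, hL, e, ChevalleyDatum.wordMat]
    rcases hrest with (e | e) | (e | e)
    · exact ⟨_, fun s => ⟨1, s, by simp⟩, key _ _ _ (eq_of_eqL eq_of_eqQ e)⟩
    · exact ⟨_, fun s => ⟨1, -s, by simp⟩, key _ _ _ (eq_of_eqL eq_of_eqQ e)⟩
    · exact ⟨_, fun s => ⟨-s, 1, by simp⟩, key _ _ _ (eq_of_eqL eq_of_eqQ e)⟩
    · exact ⟨_, fun s => ⟨s, 1, by simp⟩, key _ _ _ (eq_of_eqL eq_of_eqQ e)⟩
  obtain ⟨u, v, huv⟩ := hC t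
  set w := (q.2.1 : F) * (-u) ^ q.2.2.1 * v ^ q.2.2.2
  have e : ok.toOK.xG y v * ok.toOK.xG x u =
      ok.toOK.xG x u * ok.toOK.xG y v * (ok.toOK.xG q.1 w * ok.toOK.xG r t) := by
    refine Units.ext ?_
    simp only [Units.val_mul, OK.coe_xG]
    rw [ok.toOK.comm hx hy hxy (by rwa [ok.toOK.neg_eq hx]) u v, hword, huv]
  have h1 := ok.comm_mem (F := F) (inv_mem (ok.toOK.xG_mem_group y v)) (inv_mem (ok.toOK.xG_mem_group x u))
  rw [inv_inv, inv_inv] at h1
  have e2 : ok.toOK.xG r t = (ok.toOK.xG q.1 w)⁻¹ *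
      ((ok.toOK.xG y v)⁻¹ * (ok.toOK.xG x u)⁻¹ * ok.toOK.xG y v * ok.toOK.xG x u) := by
    simp only [mul_assoc]
    rw [e]
    simp [mul_assoc]
  rw [e2]
  exact mul_mem (inv_mem (hodd q.1 hq' hq w)) h1

theorem nontrivial_group : Nontrivial ↥(D.group F) → ¬ commutator ↥(D.group F) = ⊥ →
    ¬ IsMulCommutative ↥(D.group F) := by
  intro _ h hc
  refine h (Subgroup.commutator_eq_bot_iff_le_centralizer.mpr ?_)
  intro a _
  rw [Subgroup.mem_centralizer_iff]
  exact fun b _ => hc.is_comm.comm b a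

theorem simple_of (hconn : T.chkConn D = true) (hperf : commutator ↥(D.group F) = ⊤) :
    IsSimpleGroup ↥(D.group F) ∧ ¬ IsMulCommutative ↥(D.group F) := by
  simp only [Tabs.chkConn, andR_iff, nlt_iff, allR_iff, anyL_iff, Nat.beq_eq] at hconn
  obtain ⟨h0, hreach⟩ := hconn
  have hnt : Nontrivial ↥(D.group F) := by
    refine ⟨⟨⟨ok.toOK.xG (T.smp 0) 1, ok.toOK.xG_mem_group _ _⟩, 1, fun e => ?_⟩⟩
    have := congrArg (fun g : ↥(D.group F) => ((g : GL D.Idx F) : Matrix D.Idx D.Idx F)) e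
    exact one_ne_zero ((ok.toOK.x_eq_one (ok.toOK.smp_lt h0) (1 : F)).mp this)
  have hB : Group.IsSolvable ↥((ok.bnPair (F := F)).B) := by
    have := ok.toOK.borel_solvable (F := F)
    change Group.IsSolvable ↥((D.borelSubgroup F).subgroupOf (D.group F))
    exact solvable_of_solvable_injective
      (f := (Subgroup.subgroupOfEquivOfLe (ok.toOK.borel_le_group (F := F))).toMonoidHom)
      (Subgroup.subgroupOfEquivOfLe (ok.toOK.borel_le_group (F := F))).injective
  have hirr : (ok.bnPair (F := F)).Irreducible := by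
    intro J hJ hne hne'
    by_contra hc
    push Not at hc
    have hmem : ∀ i < D.rank, (⟨ok.toOK.nG (T.smp i) 1, ok.toOK.wordG_mem _⟩ : ↥(D.group F)) ∈ (ok.bnPair (F := F)).S :=
      fun i hi => ⟨i, hi, ok.toOK.coe_nG_simple hi 1⟩
    -- adjacent roots lie on the same side
    have hside : ∀ i < D.rank, ∀ j < D.rank, T.adjB i j = true →
        ((⟨ok.toOK.nG (T.smp i) 1, ok.toOK.wordG_mem _⟩ : ↥(D.group F)) ∈ J ↔
          (⟨ok.toOK.nG (T.smp j) 1, ok.toOK.wordG_mem _⟩ : ↥(D.group F)) ∈ J) := by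
      intro i hi j hj hadj
      simp only [Tabs.adjB, notR_iff, nbeq_false_iff] at hadj
      have key : ∀ a < D.rank, ∀ b < D.rank,
          (⟨ok.toOK.nG (T.smp a) 1, ok.toOK.wordG_mem _⟩ : ↥(D.group F)) ∈ J →
          (⟨ok.toOK.nG (T.smp b) 1, ok.toOK.wordG_mem _⟩ : ↥(D.group F)) ∉ J →
          ∀ r < D.nroots, T.refl a (T.refl b r) = T.refl b (T.refl a r) := by
        intro a ha b hb h1 h2 r hr
        have h := hc _ h1 _ ⟨hmem b hb, h2⟩
        rw [show (ok.bnPair (F := F)).B = (D.borelSubgroup F).subgroupOf (D.group F) from rfl,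
          Subgroup.mem_subgroupOf] at h
        simp only [Subgroup.coe_mul, Subgroup.coe_inv] at h
        set A := ok.toOK.nG (T.smp a) (1 : F)
        set B := ok.toOK.nG (T.smp b) (1 : F)
        have hAN : A ∈ D.monomialSubgroup F := ok.toOK.nG_mem_monomial (ok.toOK.smp_lt ha)
        have hBN : B ∈ D.monomialSubgroup F := ok.toOK.nG_mem_monomial (ok.toOK.smp_lt hb)
        have hH : A * B * A⁻¹ * B⁻¹ ∈ D.diagonalSubgroup F := by
          rw [← ok.toOK.borel_inf_monomial]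
          exact Subgroup.mem_inf.mpr ⟨h, mul_mem (mul_mem (mul_mem hAN hBN) (inv_mem hAN)) (inv_mem hBN)⟩
        have e1 := ((ok.toOK.act_diag hH).mul ok.toOK ((ok.toOK.act_n (F := F) hb).mul ok.toOK (ok.toOK.act_n ha)))
        have e2 := (ok.toOK.act_n (F := F) ha).mul ok.toOK (ok.toOK.act_n hb)
        have e3 : A * B * A⁻¹ * B⁻¹ * (B * A) = A * B := by simp [mul_assoc]
        rw [e3] at e1
        simpa using ok.toOK.act_unique e2 e1 hr
      by_cases h1 : (⟨ok.toOK.nG (T.smp i) 1, ok.toOK.wordG_mem _⟩ : ↥(D.group F)) ∈ J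
      · refine iff_of_true h1 ?_
        by_contra h2
        exact hadj (key i hi j hj h1 h2 _ (ok.toOK.smp_lt hi))
      · refine iff_of_false h1 fun h2 => ?_
        exact hadj (key j hj i hi h2 h1 _ (ok.toOK.smp_lt hi)).symm
    have hall : ∀ k, ∀ i ∈ Tabs.reachL D T k, i < D.rank ∧
        ((⟨ok.toOK.nG (T.smp i) 1, ok.toOK.wordG_mem _⟩ : ↥(D.group F)) ∈ J ↔
          (⟨ok.toOK.nG (T.smp 0) 1, ok.toOK.wordG_mem _⟩ : ↥(D.group F)) ∈ J) := by
      intro k
      induction k with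
      | zero =>
        intro i hi
        rw [Tabs.reachL, List.mem_singleton] at hi
        subst hi
        exact ⟨h0, Iff.rfl⟩
      | succ k ih =>
        intro i hi
        simp only [Tabs.reachL, filterR_eq, List.mem_filter, upTo_eq, List.mem_range, orR_iff, anyL_iff,
          Nat.beq_eq] at hi
        obtain ⟨hi, h | h⟩ := hi
        · obtain ⟨j, hj, rfl⟩ := h
          exact ih _ hj
        · obtain ⟨j, hj, h | h⟩ := h
          · exact ⟨hi, (hside i hi j (ih j hj).1 h).trans (ih j hj).2⟩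
          · exact ⟨hi, (hside j (ih j hj).1 i hi h).symm.trans (ih j hj).2⟩
    obtain ⟨s, hs⟩ := hne
    obtain ⟨s', hs', hs''⟩ := hne'
    obtain ⟨i, hi, hsi⟩ := hJ hs
    obtain ⟨j, hj, hsj⟩ := hs'
    have ei : s = ⟨ok.toOK.nG (T.smp i) 1, ok.toOK.wordG_mem _⟩ :=
      Subtype.ext (Units.ext (hsi.trans (ok.toOK.coe_nG_simple hi 1).symm))
    have ej : s' = ⟨ok.toOK.nG (T.smp j) 1, ok.toOK.wordG_mem _⟩ :=
      Subtype.ext (Units.ext (hsj.trans (ok.toOK.coe_nG_simple hj 1).symm))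
    have hi' : i ∈ Tabs.reachL D T D.rank := by
      obtain ⟨m, hm, e⟩ := hreach i hi; exact e ▸ hm
    have hj' : j ∈ Tabs.reachL D T D.rank := by
      obtain ⟨m, hm, e⟩ := hreach j hj; exact e ▸ hm
    refine hs'' ?_
    rw [ej, (hall _ j hj').2, ← (hall _ i hi').2, ← ei]
    exact hs
  have hs := Cfsg.Agent.S0319.result (ok.bnPair (F := F)) hirr hB hperf ok.core_eq_bot
  refine ⟨hs, ok.nontrivial_group hnt ?_⟩
  rw [hperf]
  exact top_ne_bot

end OKX

end Cfsg.Agent.Chev
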