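import Cfsg.Agent.Lib.Chev.AllX
import Cfsg.Agent.Lib.Chev.Perf

/-! Certificates for perfectness and connectedness. -/

set_option autoImplicit false
set_option maxRecDepth 100000

namespace Cfsg.Agent.Chev

open Cfsg.Lie

theorem G2.conn : Tabs.chkConn chevG2 G2.T = true := by decide +kernel

theorem B2.conn : Tabs.chkConn chevB2 B2.T = true := by decide +kernel

theorem D4.conn : Tabs.chkConn chevD4 D4.T = true := by decide +kernel

theorem F4.conn : Tabs.chkConn chevF4 F4.T = true := by decide +kernel

theorem E6.conn : Tabs.chkConn chevE6 E6.T = true := by decide +kernel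

theorem E7.conn : Tabs.chkConn chevE7 E7.T = true := by decide +kernel

theorem E8.conn : Tabs.chkConn chevE8 E8.T = true := by decide +kernel

theorem D4.perf : Tabs.chkPerfAll chevD4 D4.T = true := by decide +kernel

theorem F4.perf : Tabs.chkPerfAll chevF4 F4.T = true := by decide +kernel

theorem E6.perf : Tabs.chkPerfAll chevE6 E6.T = true := by decide +kernel

theorem E7.perf : Tabs.chkPerfAll chevE7 E7.T = true := by decide +kernel

theorem E8.perf : Tabs.chkPerfAll chevE8 E8.T = true := by decide +kernel

theorem G2.perf : Tabs.chkPerfOdd chevG2 G2.T = true := by decide +kernel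

theorem B2.perf : Tabs.chkPerfOdd chevB2 B2.T = true := by decide +kernel

end Cfsg.Agent.Chev
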