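import Cfsg.Agent.Lib.Chev.Lex
import Cfsg.Agent.Lib.Chev.OKF4

/-! Indexing checks for the datum of type F4. -/

set_option autoImplicit false
set_option maxRecDepth 100000

namespace Cfsg.Agent.Chev.F4

open Cfsg.Lie

theorem okx : OKX chevF4 T where
  toOK := ok
  lex := by decide +kernel

end Cfsg.Agent.Chev.F4
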