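import Cfsg.Agent.Lib.Chev.LexG2
import Cfsg.Agent.Lib.Chev.LexB2
import Cfsg.Agent.Lib.Chev.LexD4
import Cfsg.Agent.Lib.Chev.LexF4
import Cfsg.Agent.Lib.Chev.LexE6
import Cfsg.Agent.Lib.Chev.LexE7
import Cfsg.Agent.Lib.Chev.LexE8
import Cfsg.Agent.Lib.Chev.All

/-! All seven data pass the indexing checks. -/

set_option autoImplicit false

namespace Cfsg.Agent.Chev

open Cfsg.Lie

theorem exists_okx {D : ChevalleyDatum}
    (hD : D ∈ [chevG2, chevB2, chevD4, chevF4, chevE6, chevE7, chevE8]) : ∃ T, OKX D T := by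
  simp only [List.mem_cons, List.not_mem_nil, or_false] at hD
  rcases hD with rfl | rfl | rfl | rfl | rfl | rfl | rfl
  exacts [⟨_, G2.okx⟩, ⟨_, B2.okx⟩, ⟨_, D4.okx⟩, ⟨_, F4.okx⟩, ⟨_, E6.okx⟩, ⟨_, E7.okx⟩, ⟨_, E8.okx⟩]

end Cfsg.Agent.Chev
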