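import Cfsg.Agent.Lib.Chev.Poincare

/-!
The order of a Chevalley group: product formula along a chain of parabolic subgroups, and the order of the torus.
-/

set_option autoImplicit false

namespace Cfsg.Agent.Chev

open Cfsg.Lie

/-- The product of `q ^ d - 1` over a list of degrees. -/
def degProd (ds : List ℕ) (q : ℤ) : ℤ := (ds.map fun d => q ^ d - 1).prod

variable {D : ChevalleyDatum} {T : Tabs}

namespace OKX

variable (ok : OKX D T)

include ok

/-- The generating function of the lengths in the group generated by the reflections in `K` has degrees `ds`. -/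
def Sized (K : List ℕ) (m : ℕ) (ds : List ℕ) : Prop :=
  ∃ L, Trans D T K L ∧ ∀ q : ℕ, ((L.map fun w => q ^ ok.negCount w).sum : ℤ) * ((q : ℤ) - 1) ^ m = degProd ds q

theorem sized_nil : ok.Sized [] 0 [] :=
  ⟨[[]], Trans.nil, fun q => by simp [degProd, ok.negCount_nil]⟩

theorem sized_step {K J : List ℕ} {R : Tabs.Level} {m : ℕ} {dJ dK c a b : List ℕ}
    (hlev : Tabs.chkLevel D T K J R = true)
    (hdist : Tabs.chkDistinct (R.map fun f => Tabs.imgs D T f.1) = true)
    (hJ : ok.Sized J m dJ) (cs : List (ℕ × ℕ))
    (hlen : (R.map fun f => f.1.length) = cs.flatMap fun p => List.replicate p.2 p.1)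
    (hdJ : dJ.Perm (c ++ a)) (hdK : dK.Perm (c ++ b))
    (hpoly : ∀ q : ℤ, (cs.map fun p => (p.2 : ℤ) * q ^ p.1).sum * (q - 1) * degProd a q = degProd b q) :
    ok.Sized K (m + 1) dK := by
  obtain ⟨L, hL, hsum⟩ := hJ
  obtain ⟨hT, hfac⟩ := ok.trans_step hlev hdist hL
  refine ⟨_, hT, fun q => ?_⟩
  have h1 : (((R.map fun f => q ^ f.1.length).sum : ℕ) : ℤ) = (cs.map fun p => (p.2 : ℤ) * (q : ℤ) ^ p.1).sum := by
    have : (R.map fun f => q ^ f.1.length) = (R.map fun f => f.1.length).map fun n => q ^ n := by
      rw [List.map_map]; rfl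
    rw [this, hlen]
    clear hlen this hpoly
    induction cs with
    | nil => simp
    | cons p cs ih =>
      simp only [List.flatMap_cons, List.map_append, List.sum_append, Nat.cast_add, ih, List.map_cons, List.sum_cons,
        List.map_replicate, List.sum_replicate, smul_eq_mul, Nat.cast_mul, Nat.cast_pow]
  have hp : ∀ ds ds' : List ℕ, ds.Perm ds' → degProd ds q = degProd ds' q :=
    fun ds ds' h => (h.map _).prod_eq
  have happ : ∀ ds ds' : List ℕ, degProd (ds ++ ds') q = degProd ds q * degProd ds' q := by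
    intro ds ds'; simp [degProd]
  rw [hfac q, Nat.cast_mul, h1, hp _ _ hdK, happ, ← hpoly q, pow_succ]
  have h2 := hsum q
  rw [hp _ _ hdJ, happ] at h2
  calc _ = (cs.map fun p => (p.2 : ℤ) * (q : ℤ) ^ p.1).sum * ((q : ℤ) - 1) *
        (((L.map fun w => q ^ ok.negCount w).sum : ℤ) * ((q : ℤ) - 1) ^ m) := by ring
    _ = _ := by rw [h2]; ring

theorem card_group_of_sized {F : Type*} [Field F] [Fintype F] {K : List ℕ} {m d : ℕ} {ds : List ℕ}
    (hK : ok.Sized K m ds) (hK' : K = List.range D.rank) (hm : m = D.rank)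
    (hdiag : d * Nat.card ↥(D.diagonalSubgroup F) = (Fintype.card F - 1) ^ D.rank) :
    d * Nat.card ↥(D.group F) = Fintype.card F ^ (D.nroots / 2) * (ds.map fun k => Fintype.card F ^ k - 1).prod := by
  subst hK'
  obtain ⟨L, hL, hsum⟩ := hK
  rw [ok.card_group hL]
  have h1 : 1 ≤ Fintype.card F := Fintype.card_pos
  have h := hsum (Fintype.card F)
  have h2 : (((ds.map fun k => Fintype.card F ^ k - 1).prod : ℕ) : ℤ) = degProd ds (Fintype.card F) := by
    clear h hsum
    induction ds with
    | nil => simp [degProd]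
    | cons k ds ih =>
      simp only [degProd, List.map_cons, List.prod_cons, Nat.cast_mul] at ih ⊢
      rw [ih, Nat.cast_sub (Nat.one_le_pow _ _ h1)]
      simp
  have h3 := congrArg (fun n : ℕ => (n : ℤ)) hdiag
  simp only [Nat.cast_mul, Nat.cast_pow, Nat.cast_sub h1, Nat.cast_one] at h3
  have h4 : (((L.map fun w => Fintype.card F ^ ok.negCount w).sum *
      (d * Nat.card ↥(D.diagonalSubgroup F)) : ℕ) : ℤ) = ((ds.map fun k => Fintype.card F ^ k - 1).prod : ℕ) := by
    rw [h2, ← h, hm, Nat.cast_mul, Nat.cast_mul, h3]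
  rw [← Int.natCast_inj.mp h4]
  ring

end OKX

/-! ### The torus -/

section torus

variable {G : Type*} [CommGroup G] {n : Type*} [Fintype n]

/-- The homomorphism of a power of `G` given by an integer matrix. -/
def monoMap (A : Matrix n n ℤ) : (n → G) →* (n → G) where
  toFun c k := ∏ i, c i ^ A k i
  map_one' := by funext k; simp
  map_mul' c d := by funext k; simp [mul_zpow, Finset.prod_mul_distrib]

theorem monoMap_apply (A : Matrix n n ℤ) (c : n → G) (k : n) : monoMap A c k = ∏ i, c i ^ A k i := rfl

theorem monoMap_mul (A B : Matrix n n ℤ) (c : n → G) : monoMap (A * B) c = monoMap A (monoMap B c) := by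
  funext k
  simp only [monoMap_apply, Matrix.mul_apply, ← Finset.prod_zpow, ← zpow_mul]
  rw [Finset.prod_comm]
  refine Finset.prod_congr rfl fun j _ => ?_
  rw [← map_prod_zpow_sum]
  exact Finset.prod_congr rfl fun i _ => by rw [mul_comm]
where
  map_prod_zpow_sum {g : G} {f : n → ℤ} : (∏ i, g ^ f i) = g ^ ∑ i, f i := by
    classical
    induction (Finset.univ : Finset n) using Finset.induction_on with
    | empty => simp
    | insert a S ha ih => rw [Finset.prod_insert ha, Finset.sum_insert ha, ih, zpow_add]

variable [DecidableEq n]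

theorem monoMap_one (c : n → G) : monoMap (1 : Matrix n n ℤ) c = c := by
  funext k
  rw [monoMap_apply, Finset.prod_eq_single k]
  · simp
  · intro i _ hi; simp [Matrix.one_apply_ne' hi]
  · simp

theorem monoMap_bijective {A B : Matrix n n ℤ} (h : A * B = 1) : Function.Bijective (monoMap (G := G) A) := by
  refine ⟨fun a b e => ?_, fun c => ⟨monoMap B c, by rw [← monoMap_mul, h, monoMap_one]⟩⟩
  have h' : B * A = 1 := mul_eq_one_comm.mp h
  rw [← monoMap_one a, ← monoMap_one b, ← h', monoMap_mul, monoMap_mul, e]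

/-- The kernel of a monomial map from a diagonal form of its matrix. -/
theorem card_ker_monoMap [Finite G] {A P P' Q Q' : Matrix n n ℤ} {e : n → ℕ} (hP : P * P' = 1) (hQ : Q * Q' = 1)
    (h : P * A * Q = Matrix.diagonal fun i => (e i : ℤ)) :
    Nat.card ↥(monoMap (G := G) A).ker = ∏ i, Nat.card ↥(powMonoidHom (α := G) (e i)).ker := by
  have key : ∀ c, monoMap (G := G) (P * A * Q) c = 1 ↔ monoMap A (monoMap Q c) = 1 := by
    intro c
    rw [monoMap_mul, monoMap_mul]
    exact map_eq_one_iff (monoMap (G := G) P) (monoMap_bijective hP).1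
  rw [← Nat.card_pi]
  refine (Nat.card_eq_of_bijective
    (fun x : (i : n) → ↥(powMonoidHom (α := G) (e i)).ker =>
      (⟨monoMap Q (fun i => (x i : G)), (key _).mp (by
        funext k
        rw [h, monoMap_apply, Finset.prod_eq_single k]
        · rw [Matrix.diagonal_apply_eq, zpow_natCast]; exact (x k).2
        · intro i _ hi; simp [Matrix.diagonal_apply_ne' _ hi]
        · simp)⟩ : ↥(monoMap (G := G) A).ker)) ⟨?_, ?_⟩).symm
  · intro x y exy
    have := (monoMap_bijective hQ).1 (congrArg Subtype.val exy)
    funext i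
    exact Subtype.ext (congrFun this i)
  · intro y
    obtain ⟨c, hc⟩ := (monoMap_bijective (G := G) hQ).2 y.1
    have h1 := (key c).mpr (by rw [hc]; exact y.2)
    refine ⟨fun i => ⟨c i, ?_⟩, Subtype.ext hc⟩
    have h2 := congrFun h1 i
    rw [h, monoMap_apply, Finset.prod_eq_single i, Matrix.diagonal_apply_eq, zpow_natCast] at h2
    · exact h2
    · intro j _ hj; simp [Matrix.diagonal_apply_ne' _ hj]
    · simp

end torus

namespace OK

variable {F : Type*} [Field F] (ok : OK D T)

/-- The matrix of values of the fundamental diagonal elements at the fundamental roots. -/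
noncomputable def torMat (D : ChevalleyDatum) (T : Tabs) : Matrix (Fin D.rank) (Fin D.rank) ℤ :=
  fun k i => T.cA i (T.smp k)

/-- A parameter family from a tuple of units. -/
noncomputable def param (c : Fin D.rank → Fˣ) (i : ℕ) : F := if h : i < D.rank then (c ⟨i, h⟩ : F) else 1

theorem param_ne (c : Fin D.rank → Fˣ) (i : ℕ) : param c i ≠ 0 := by
  unfold param; split <;> simp

theorem param_val (c : Fin D.rank → Fˣ) (i : Fin D.rank) : param c i = c i := dif_pos i.isLt

include ok

theorem torG_eq_one_iff {c : Fin D.rank → Fˣ} :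
    ok.torG (param c) = 1 ↔ monoMap (torMat D T) c = 1 := by
  have hv : ∀ k : Fin D.rank, ((monoMap (torMat D T) c k : Fˣ) : F) =
      ∏ i ∈ Finset.range D.rank, param c i ^ T.cA i (T.smp k) := fun k => by
    rw [monoMap_apply, Units.coe_prod, ← Fin.prod_univ_eq_prod_range]
    exact Finset.prod_congr rfl fun i _ => by rw [param_val, Units.val_zpow_eq_zpow_val]; rfl
  have hc := fun i (_ : i < D.rank) => param_ne c i
  constructor
  · intro h
    funext k
    refine Units.ext ?_
    have h1 := congrArg (fun g : GL D.Idx F => (g : Matrix D.Idx D.Idx F) (Sum.inr ⟨T.smp k, ok.smp_lt k.isLt⟩)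
      (Sum.inr ⟨T.smp k, ok.smp_lt k.isLt⟩)) h
    simp only [ok.coe_torG hc, Units.val_one, Matrix.diagonal_apply_eq, Matrix.one_apply_eq, Sum.elim_inr] at h1
    rw [hv, h1]; rfl
  · intro h
    have hs : ∀ k < D.rank, ∏ i ∈ Finset.range D.rank, param c i ^ T.cA i (T.smp k) = 1 := fun k hk => by
      rw [← hv ⟨k, hk⟩, h]; rfl
    have hall : ∀ s < D.nroots, ∏ i ∈ Finset.range D.rank, param c i ^ T.cA i s = 1 := by
      suffices h : ∀ (L : List (ℕ × Option (ℕ × ℕ))) (seen : List ℕ), T.chkOrder D L seen = true →
          (∀ e ∈ L, e ∈ T.order) →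
          (∀ a ∈ seen, a < D.nroots ∧ ∏ i ∈ Finset.range D.rank, param c i ^ T.cA i a = 1) →
          ∀ a < D.nroots, ∏ i ∈ Finset.range D.rank, param c i ^ T.cA i a = 1 from
        h T.order [] ok.order (fun _ => id) (by simp)
      intro L
      induction L with
      | nil =>
        intro seen h _ hs a ha
        replace h : allR D.nroots (fun r => anyL (fun s => Nat.beq s r) seen) = true := h
        simp only [allR_iff, anyL_iff, Nat.beq_eq] at h
        obtain ⟨b, hb, rfl⟩ := h a ha
        exact (hs b hb).2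
      | cons p L ih =>
        obtain ⟨a, o⟩ := p
        intro seen h hL hsn
        replace h : andR (nlt a D.nroots) (andR (@Option.rec (ℕ × ℕ) (fun _ => Bool) true
            (fun q => andR (nlt q.1 D.rank) <| andR (anyL (fun s => Nat.beq s q.2) seen) <|
              Nat.beq (T.refl q.1 q.2) a) o) (T.chkOrder D L (a :: seen))) = true := h
        simp only [andR_iff, nlt_iff] at h
        refine ih (a :: seen) h.2.2 (fun e he => hL e (List.mem_cons_of_mem _ he)) ?_
        intro b hb
        rcases List.mem_cons.mp hb with rfl | hb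
        swap
        · exact hsn b hb
        refine ⟨h.1, ?_⟩
        rcases o with _ | ⟨i, e⟩
        · obtain ⟨i, hi, rfl⟩ := ok.rep_simple (r := b) (by
            simp only [Tabs.reps, flatR_eq, List.mem_flatMap]
            exact ⟨_, hL _ List.mem_cons_self, List.mem_singleton.mpr rfl⟩)
          exact hs i hi
        · have h2 := h.2.1
          simp only [andR_iff, nlt_iff, anyL_iff, Nat.beq_eq] at h2
          obtain ⟨hi, ⟨z, hz, rfl⟩, rfl⟩ := h2
          obtain ⟨hzlt, hz1⟩ := hsn z hz
          have : ∀ j ∈ Finset.range D.rank, param c j ^ T.cA j (T.refl i z) =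
              param c j ^ T.cA j z / (param c j ^ T.cA j (T.smp i)) ^ T.cA i z := fun j hj => by
            rw [ok.cA_refl hi (Finset.mem_range.mp hj) hzlt, zpow_sub₀ (param_ne c j), mul_comm, zpow_mul]
          rw [Finset.prod_congr rfl this, Finset.prod_div_distrib, hz1, Finset.prod_zpow, hs i hi, one_zpow, div_one]
    refine Units.ext ?_
    rw [ok.coe_torG hc, Units.val_one, ← Matrix.diagonal_one]
    congr 1; funext a
    rcases a with a | s
    · simp
    · simpa using hall s s.isLt

theorem card_diag [Fintype F] :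
    Nat.card ↥(monoMap (G := Fˣ) (torMat D T)).ker * Nat.card ↥(D.diagonalSubgroup F) =
      (Fintype.card F - 1) ^ D.rank := by
  classical
  let ψ : (Fin D.rank → Fˣ) →* GL D.Idx F :=
    { toFun := fun c => ok.torG (param c)
      map_one' := ok.torG_eq_one_iff.mpr (map_one _)
      map_mul' := fun a b => by
        rw [ok.torG_mul (fun i _ => param_ne a i) (fun i _ => param_ne b i)]
        congr 1; funext i
        unfold param; split <;> simp }
  have hr : ψ.range = D.diagonalSubgroup F := by
    ext g
    rw [ok.mem_diag]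
    constructor
    · rintro ⟨c, rfl⟩; exact ⟨_, fun i _ => param_ne c i, rfl⟩
    · rintro ⟨c, hc, rfl⟩
      refine ⟨fun i => Units.mk0 (c i) (hc i i.isLt), Units.ext ?_⟩
      show (ok.torG (param fun i : Fin D.rank => Units.mk0 (c i) (hc i i.isLt)) : Matrix D.Idx D.Idx F) = _
      rw [ok.coe_torG (fun i _ => param_ne _ i), ok.coe_torG hc]
      congr 1; funext a
      rcases a with a | s
      · simp
      · simp only [Sum.elim_inr]
        refine Finset.prod_congr rfl fun i hi => ?_
        rw [param, dif_pos (Finset.mem_range.mp hi)]; rfl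
  have hk : ψ.ker = (monoMap (G := Fˣ) (torMat D T)).ker := Subgroup.ext fun c => ok.torG_eq_one_iff
  rw [← hr, ← hk, ← Subgroup.index_ker, Subgroup.card_mul_index, Nat.card_pi]
  simp [Fintype.card_units]

/-- The order of the torus from a diagonal form of its matrix. -/
theorem card_diag_of_smith [Fintype F] {P P' Q Q' : Matrix (Fin D.rank) (Fin D.rank) ℤ} {e : Fin D.rank → ℕ}
    (hP : P * P' = 1) (hQ : Q * Q' = 1) (h : P * torMat D T * Q = Matrix.diagonal fun i => (e i : ℤ)) :
    (∏ i, Nat.gcd (e i) (Fintype.card F - 1)) * Nat.card ↥(D.diagonalSubgroup F) =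
      (Fintype.card F - 1) ^ D.rank := by
  classical
  rw [← ok.card_diag (F := F), card_ker_monoMap hP hQ h]
  congr 1
  refine Finset.prod_congr rfl fun i _ => ?_
  rw [IsCyclic.card_powMonoidHom_ker, Nat.card_eq_fintype_card, Fintype.card_units, Nat.gcd_comm]

end OK

end Cfsg.Agent.Chev
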