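import Cfsg.Agent.Lib.Chev.StPres
import Cfsg.Agent.Lib.Chev.CardB2
import Mathlib.GroupTheory.Perm.Closure
import Mathlib.Algebra.Field.ZMod

/-!
The group of type B2 over two elements is the symmetric group of degree six.
-/

set_option autoImplicit false
set_option maxRecDepth 20000

namespace Cfsg.Agent.Chev.B2Two

open Cfsg.Lie

/-- Images of the root elements in the symmetric group. -/
def sig : ℕ → Equiv.Perm (Fin 6)
  | 0 => Equiv.swap 0 2 * Equiv.swap 1 4 * Equiv.swap 3 5
  | 1 => Equiv.swap 0 2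
  | 2 => Equiv.swap 3 5
  | 3 => Equiv.swap 0 2 * Equiv.swap 1 3 * Equiv.swap 4 5
  | 4 => Equiv.swap 0 1 * Equiv.swap 2 4 * Equiv.swap 3 5
  | 5 => Equiv.swap 4 5
  | 6 => Equiv.swap 0 1
  | 7 => Equiv.swap 0 1 * Equiv.swap 2 3 * Equiv.swap 4 5
  | _ => 1

/-- Image of a root element with parameter. -/
def sigZ (r : ℕ) (a : ZMod 2) : Equiv.Perm (Fin 6) := if a = 0 then 1 else sig r

theorem nroots_eq : chevB2.nroots = 8 := by decide +kernel

theorem add_ok : ∀ (r : Fin 8) (a b : ZMod 2), sigZ r a * sigZ r b = sigZ r (a + b) := by decide +kernel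

theorem comm_ok : ∀ (r s : Fin 8) (a b : ZMod 2), (s : ℕ) ≠ r → (s : ℕ) ≠ chevB2.neg r →
    sigZ s b * sigZ r a =
      sigZ r a * sigZ s b * ((chevB2.commWord (ZMod 2) r s a b).map fun p => sigZ p.1 p.2).prod := by
  decide +kernel

theorem zmod_two_ne : ∀ z : ZMod 2, z ≠ 0 → z = 1 := by decide

variable {F : Type*} [Field F]

theorem commWord_map {D : ChevalleyDatum} {K : Type*} [Field K] (e : F →+* K) (r s : ℕ) (a b : F) :
    D.commWord K r s (e a) (e b) = (D.commWord F r s a b).map (fun p => (p.1, e p.2)) := by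
  simp only [ChevalleyDatum.commWord, List.map_map]
  refine List.map_congr_left fun q _ => ?_
  simp

theorem exists_iso [Fintype F] (hF : Fintype.card F = 2) :
    Nonempty (↥(chevB2.group F) ≃* Equiv.Perm (Fin 6)) := by
  classical
  haveI : Fact (Nat.Prime 2) := ⟨Nat.prime_two⟩
  let e : ZMod 2 ≃+* F := ZMod.ringEquivOfPrime F Nat.prime_two hF
  let ei : F →+* ZMod 2 := e.symm.toRingHom
  set R := chevB2.steinbergRelsAB F
  let π₀ : Fin chevB2.nroots × F → Equiv.Perm (Fin 6) := fun p => sigZ p.1 (ei p.2)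
  have hX : ∀ (r : ℕ) (t : F), r < chevB2.nroots → FreeGroup.lift π₀ (chevB2.stX r t) = sigZ r (ei t) := by
    intro r t hr
    rw [ChevalleyDatum.stX, dif_pos hr, FreeGroup.lift_apply_of]
  have ok := B2.okx
  have hR : ∀ g ∈ R, FreeGroup.lift π₀ g = 1 := by
    rintro g (⟨r, a, b, hr, rfl⟩ | ⟨r, s, a, b, hr, hs, h1, h2, rfl⟩)
    · rw [map_mul, map_mul, map_inv, hX _ _ hr, hX _ _ hr, hX _ _ hr, mul_inv_eq_one, map_add]
      exact add_ok ⟨r, nroots_eq ▸ hr⟩ _ _
    · have hc : FreeGroup.lift π₀ (chevB2.stWord (chevB2.commWord F r s a b)) =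
          ((chevB2.commWord (ZMod 2) r s (ei a) (ei b)).map fun p => sigZ p.1 p.2).prod := by
        rw [ChevalleyDatum.stWord, map_list_prod, commWord_map, List.map_map, List.map_map]
        refine congrArg List.prod (List.map_congr_left fun p hp => ?_)
        simp only [ChevalleyDatum.commWord, ok.toOK.terms_eq hr hs, List.mem_map] at hp
        obtain ⟨q, hq, rfl⟩ := hp
        exact hX _ _ (ok.toOK.term_spec hr hs hq).1
      simp only [map_mul, map_inv, hX _ _ hr, hX _ _ hs, hc]
      have h := comm_ok ⟨r, nroots_eq ▸ hr⟩ ⟨s, nroots_eq ▸ hs⟩ (ei a) (ei b) h1 h2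
      simp only at h
      rw [mul_assoc (_ * _) (sigZ s (ei b)), h]
      simp [mul_assoc]
  let π : chevB2.SteinbergCover F →* Equiv.Perm (Fin 6) := PresentedGroup.toGroup hR
  have st := ok.presented_hyp (R := R) subset_rfl B2.dn_ok B2.wit_ok ok.scHom fun r hr t => ok.scHom_gen hr t
  have hF2 : ∀ a : F, a ≠ 0 → a = 1 := fun a ha => by
    exact ei.injective ((zmod_two_ne _ ((map_ne_zero ei).mpr ha)).trans (map_one ei).symm)
  have hker : st.toGrp.ker = ⊥ := by
    rw [st.ker_toGrp, eq_bot_iff]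
    refine st.ker_le_Hb.trans ((Subgroup.closure_le _).mpr ?_)
    rintro _ ⟨i, a, hi, ha, rfl⟩
    rw [hF2 a ha, show st.hb i 1 = st.nb i 1 * st.nb i (-1) from rfl, ← st.nb_inv hi, mul_inv_cancel]
    exact one_mem _
  let iso := MulEquiv.ofBijective st.toGrp ⟨(MonoidHom.ker_eq_bot_iff _).mp hker, st.toGrp_surjective⟩
  let f := π.comp iso.symm.toMonoidHom
  have hπ : Function.Surjective π := by
    rw [← MonoidHom.range_eq_top]
    have hmem : ∀ r < chevB2.nroots, sig r ∈ π.range := by
      intro r hr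
      refine ⟨PresentedGroup.mk R (chevB2.stX r 1), ?_⟩
      rw [ChevalleyDatum.stX, dif_pos hr]
      refine (PresentedGroup.toGroup.of _).trans ?_
      show sigZ r (ei 1) = _
      rw [map_one, sigZ, if_neg one_ne_zero]
    have hc : (sig 0 * sig 4 * sig 7).IsCycle := by
      rw [← Equiv.Perm.card_cycleType_eq_one]
      decide +kernel
    have hs : (sig 0 * sig 4 * sig 7).support = Finset.univ := by decide +kernel
    have h := Equiv.Perm.closure_cycle_adjacent_swap hc hs 0
    rw [eq_top_iff, ← h, Subgroup.closure_le]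
    rintro x (rfl | rfl)
    · exact mul_mem (mul_mem (hmem 0 (by decide +kernel)) (hmem 4 (by decide +kernel))) (hmem 7 (by decide +kernel))
    · rw [show Equiv.swap 0 ((sig 0 * sig 4 * sig 7) 0) = sig 1 by decide +kernel]
      exact hmem 1 (by decide +kernel)
  have hsurj : Function.Surjective f := fun x => by
    obtain ⟨z, rfl⟩ := hπ x
    exact ⟨iso z, congrArg π (iso.symm_apply_apply z)⟩
  have hcard : Nat.card ↥(chevB2.group F) = Nat.card (Equiv.Perm (Fin 6)) := by
    have h := B2.card_chev F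
    rw [hF] at h
    rw [Nat.card_perm, Nat.card_fin]
    simpa [B2.torE, Fin.prod_univ_two, Nat.factorial] using h
  haveI : Finite ↥(chevB2.group F) := Nat.finite_of_card_ne_zero (hcard.trans_ne Nat.card_pos.ne')
  exact ⟨MulEquiv.ofBijective f ((Nat.bijective_iff_surjective_and_card f).mpr ⟨hsurj, hcard⟩)⟩

end Cfsg.Agent.Chev.B2Two
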