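import Cfsg.Agent.Lib.Chev.Unip
import Cfsg.Prelude.Def_LieExceptional

/-!
The Tits system of a Chevalley group.
-/

set_option autoImplicit false

namespace Cfsg.Agent.Chev

open Cfsg.Lie

variable {F : Type*} [Field F] {D : ChevalleyDatum} {T : Tabs}

namespace OKX

variable (ok : OKX D T)

include ok

theorem smp_isPos {i : ℕ} (hi : i < D.rank) : D.IsPosRoot (T.smp i) :=
  ok.toOK.isPos_iff.mpr ⟨ok.toOK.smp_lt hi, by rw [(ok.toOK.smp_spec hi).1]; norm_num⟩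

theorem borel_split {i : ℕ} (hi : i < D.rank) {b : GL D.Idx F} (hb : b ∈ D.borelSubgroup F) :
    ∃ u ∈ ok.Up F i, ∃ a : F, ∃ t ∈ D.diagonalSubgroup F, b = u * ok.toOK.xG (T.smp i) a * t := by
  obtain ⟨g, hg, t, ht, rfl⟩ := ok.toOK.mem_borel hb
  obtain ⟨u, hu, a, rfl⟩ := ok.mem_pos_split hi hg
  exact ⟨u, hu, a, t, ht, rfl⟩

theorem n_eq_xGs {i : ℕ} (hi : i < D.rank) {a : F} (ha : a ≠ 0) :
    ok.toOK.xG (T.neg (T.smp i)) a =
      ok.toOK.xG (T.smp i) a⁻¹ * ok.toOK.nG (T.smp i) (-a⁻¹) * ok.toOK.xG (T.smp i) a⁻¹ := by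
  rw [ok.toOK.nG_eq (ok.toOK.smp_lt hi), inv_neg, inv_inv, neg_neg, mul_assoc, mul_assoc, mul_assoc,
    ok.toOK.xG_mul, neg_add_cancel, ok.toOK.xG_zero, mul_one, ← mul_assoc, ok.toOK.xG_mul, add_neg_cancel,
    ok.toOK.xG_zero, one_mul]

theorem bruhat_step {i : ℕ} (hi : i < D.rank) {n b : GL D.Idx F} (hn : n ∈ D.monomialSubgroup F)
    (hb : b ∈ D.borelSubgroup F) :
    (∃ c ∈ D.borelSubgroup F, ∃ d ∈ D.borelSubgroup F,
      ok.toOK.nG (T.smp i) 1 * b * n = c * (ok.toOK.nG (T.smp i) 1 * n) * d) ∨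
    ∃ c ∈ D.borelSubgroup F, ∃ d ∈ D.borelSubgroup F, ok.toOK.nG (T.smp i) 1 * b * n = c * n * d := by
  obtain ⟨u, hu, a, t, ht, rfl⟩ := ok.borel_split hi hb
  set p := T.smp i with hp'
  set s := ok.toOK.nG p (1 : F) with hs
  have hp := ok.toOK.smp_lt hi
  have hppos : D.IsPosRoot p := ok.smp_isPos hi
  have hU : s * u * s⁻¹ ∈ D.borelSubgroup F := Subgroup.mem_sup_left (ok.Up_le (ok.n_conj_Up hi hu))
  -- pull the diagonal element across `n`
  obtain ⟨t₀, ht₀, w, hw, rfl⟩ := ok.toOK.mem_monomial.mp hn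
  have hnN : t₀ * ok.toOK.gW F w ∈ D.monomialSubgroup F := hn
  set n := t₀ * ok.toOK.gW F w with hn'
  have htn : n⁻¹ * t * n ∈ D.borelSubgroup F := Subgroup.mem_sup_right <| by
    have := (ok.toOK.diag_normal (F := F)).conj_mem ⟨t, Subgroup.mem_sup_left ht⟩ ht ⟨n⁻¹, inv_mem hnN⟩
    simpa [Subgroup.mem_subgroupOf] using this
  obtain ⟨ti, hti⟩ : ∃ ti, ok.toOK.Act n ti :=
    ⟨_, (ok.toOK.act_diag ht₀).mul ok.toOK (ok.toOK.act_gW w hw)⟩
  obtain ⟨π, hπ⟩ : ∃ π, ok.toOK.Act n⁻¹ π := by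
    obtain ⟨t₁, ht₁, v, hv, e⟩ := ok.toOK.isHW_inv (ok.toOK.mem_monomial.mp hnN)
    exact ⟨_, e ▸ (ok.toOK.act_diag ht₁).mul ok.toOK (ok.toOK.act_gW v hv)⟩
  obtain ⟨c₀, hc₀, hconj⟩ := hπ.2.1 p hp
  have hπp := (hπ.1 p hp).1
  rcases ok.toOK.pos_or_neg hπp with hpos | hneg
  · refine Or.inl ⟨s * u * s⁻¹, hU, ok.toOK.xG (π p) (c₀ * a) * (n⁻¹ * t * n),
      mul_mem (Subgroup.mem_sup_left (ok.toOK.xG_mem_pos hpos _)) htn, ?_⟩
    rw [← (hconj a).1]
    simp [mul_assoc]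
  have hnpos : D.IsPosRoot (T.neg (π p)) := by
    rw [ok.toOK.isPos_iff]; rw [ok.toOK.isNeg_iff] at hneg
    exact ⟨ok.toOK.neg_lt hπp, by rw [ok.toOK.ht_neg hπp]; omega⟩
  by_cases ha : a = 0
  · refine Or.inl ⟨s * u * s⁻¹, hU, n⁻¹ * t * n, htn, ?_⟩
    rw [ha, ok.toOK.xG_zero]
    simp [mul_assoc]
  refine Or.inr ?_
  -- the image of `x_p(a)` under `s` is a negative root element
  obtain ⟨e₀, he₀, hs1⟩ := (ok.toOK.act_n (F := F) hi).2.1 p hp
  have hsx : s * ok.toOK.xG p a * s⁻¹ = ok.toOK.xG (T.neg p) (e₀ * a) := by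
    rw [hs, (hs1 a).1, (ok.toOK.smp_spec hi).2.2.1]
  set b₁ := e₀ * a with hb₁
  have hb₁0 : b₁ ≠ 0 := mul_ne_zero he₀ ha
  have hstep := ok.n_eq_xGs (F := F) hi hb₁0
  rw [ok.toOK.nG_eq_hG_mul hp, ← hp', ← hs] at hstep
  -- the right factor becomes a positive root element on the other side of `n`
  obtain ⟨e₁, he₁, hs2⟩ := (ok.toOK.act_n (F := F) hi).2.1 p hp
  have hright : (s * n)⁻¹ * ok.toOK.xG p b₁⁻¹ * (s * n) ∈ D.borelSubgroup F := by
    have h1 : s⁻¹ * ok.toOK.xG p b₁⁻¹ * s = ok.toOK.xG (T.neg p) (e₀ * b₁⁻¹) := by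
      have h2 := (hs1 (e₀ * b₁⁻¹)).2
      rw [(ok.toOK.smp_spec hi).2.2.1, ok.toOK.neg_neg' hp, ← mul_assoc, inv_mul_cancel₀ he₀, one_mul] at h2
      rw [← h2, ← hs]
      simp [mul_assoc]
    have h3 : (s * n)⁻¹ * ok.toOK.xG p b₁⁻¹ * (s * n) = n⁻¹ * (s⁻¹ * ok.toOK.xG p b₁⁻¹ * s) * n := by
      simp [mul_assoc]
    rw [h3, h1]
    have h4 := (hconj (e₀ * b₁⁻¹)).2
    rw [inv_inv] at h4
    rw [h4]
    exact Subgroup.mem_sup_left (ok.toOK.xG_mem_pos hnpos _)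
  have hsq : s * s ∈ D.diagonalSubgroup F := ok.toOK.nG_sq hp
  have hh : ok.toOK.hG p (-b₁⁻¹) ∈ D.diagonalSubgroup F :=
    ok.toOK.hG_mem_diag hp (neg_ne_zero.mpr (inv_ne_zero hb₁0))
  refine ⟨(s * u * s⁻¹) * ok.toOK.xG p b₁⁻¹ * (ok.toOK.hG p (-b₁⁻¹) * (s * s)),
    mul_mem (mul_mem hU (Subgroup.mem_sup_left (ok.toOK.xG_mem_pos hppos _)))
      (Subgroup.mem_sup_right (mul_mem hh hsq)),
    ((s * n)⁻¹ * ok.toOK.xG p b₁⁻¹ * (s * n)) * (n⁻¹ * t * n), mul_mem hright htn, ?_⟩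
  have e : s * (u * ok.toOK.xG p a * t) * n = s * u * s⁻¹ * (s * ok.toOK.xG p a * s⁻¹) * (s * t * n) := by
    simp [mul_assoc]
  rw [e, hsx, hstep]
  simp [mul_assoc]

/-- The Tits system on the group generated by the root elements. -/
def bnPair : Cfsg.BNPair ↥(D.group F) where
  B := (D.borelSubgroup F).subgroupOf (D.group F)
  N := (D.monomialSubgroup F).subgroupOf (D.group F)
  S := {n : ↥(D.group F) | ∃ i < D.rank, ((n : GL D.Idx F) : Matrix D.Idx D.Idx F) = D.nMat F (D.simple i) 1}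
  sup_eq_top := by
    rw [← Subgroup.subgroupOf_sup ok.toOK.borel_le_group ok.toOK.monomial_le_group, ok.toOK.borel_sup_monomial,
      Subgroup.subgroupOf_self]
  conj_mem := by
    rintro n hn t ⟨htB, htN⟩
    simp only [SetLike.mem_coe, Subgroup.mem_subgroupOf] at htB htN hn ⊢
    have ht : (t : GL D.Idx F) ∈ D.diagonalSubgroup F := by
      rw [← ok.toOK.borel_inf_monomial]; exact ⟨htB, htN⟩
    have := (ok.toOK.diag_normal (F := F)).conj_mem ⟨(t : GL D.Idx F), Subgroup.mem_sup_left ht⟩ ht ⟨(n : GL D.Idx F), hn⟩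
    simp only [Subgroup.mem_subgroupOf] at this
    exact Subgroup.mem_sup_right this
  subset := by
    rintro n ⟨i, hi, hn⟩
    have e : (n : GL D.Idx F) = ok.toOK.nG (T.smp i) 1 := Units.ext (hn.trans (ok.toOK.coe_nG_simple hi 1).symm)
    rw [SetLike.mem_coe, Subgroup.mem_subgroupOf, e]
    exact ok.toOK.nG_mem_monomial (ok.toOK.smp_lt hi)
  sq_mem := by
    rintro n ⟨i, hi, hn⟩
    have e : (n : GL D.Idx F) = ok.toOK.nG (T.smp i) 1 := Units.ext (hn.trans (ok.toOK.coe_nG_simple hi 1).symm)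
    rw [Subgroup.mem_subgroupOf, Subgroup.coe_mul, e]
    exact Subgroup.mem_sup_right (ok.toOK.nG_sq (ok.toOK.smp_lt hi))
  inj := by
    rintro n ⟨i, hi, hn⟩ m ⟨j, hj, hm⟩ h
    have e : (n : GL D.Idx F) = ok.toOK.nG (T.smp i) 1 := Units.ext (hn.trans (ok.toOK.coe_nG_simple hi 1).symm)
    have e' : (m : GL D.Idx F) = ok.toOK.nG (T.smp j) 1 := Units.ext (hm.trans (ok.toOK.coe_nG_simple hj 1).symm)
    rw [Subgroup.mem_subgroupOf, Subgroup.coe_mul, Subgroup.coe_inv, e, e'] at h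
    suffices hij : i = j by subst hij; exact Subtype.ext (e.trans e'.symm)
    by_contra hne
    have hp := ok.toOK.smp_lt hi
    rw [ok.toOK.nG_one_inv hp, mul_assoc] at h
    have h' : ok.toOK.nG (T.smp i) (1 : F) * ok.toOK.nG (T.smp j) 1 ∈ D.borelSubgroup F := by
      have := mul_mem (inv_mem (Subgroup.mem_sup_right
        (ok.toOK.hG_mem_diag (F := F) hp (neg_ne_zero.mpr (one_ne_zero (α := F)))) :
          ok.toOK.hG (T.smp i) (-1 : F) ∈ D.borelSubgroup F)) h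
      rwa [inv_mul_cancel_left] at this
    have hid := ok.toOK.act_borel ((ok.toOK.act_n (F := F) hi).mul ok.toOK (ok.toOK.act_n hj)) h' hp
    rw [Function.comp_apply] at hid
    have h1 := congrArg (T.refl i) hid
    rw [ok.toOK.refl_refl hi (ok.toOK.refl_lt hj hp), (ok.toOK.smp_spec hi).2.2.1] at h1
    have hne' : T.smp i ≠ T.smp j := fun e0 => by
      have h2 := ok.toOK.cC_smp hi hi
      rw [e0, ok.toOK.cC_smp hj hi, if_neg hne, if_pos rfl] at h2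
      exact zero_ne_one h2
    have h3 := ok.toOK.refl_pos hj hp hne' (by rw [(ok.toOK.smp_spec hi).1]; norm_num)
    rw [h1, ok.toOK.ht_neg hp, (ok.toOK.smp_spec hi).1] at h3
    omega
  closure_sup := by
    apply le_antisymm
    · refine sup_le ((Subgroup.closure_le _).mpr ?_) inf_le_right
      rintro n ⟨i, hi, hn⟩
      have e : (n : GL D.Idx F) = ok.toOK.nG (T.smp i) 1 := Units.ext (hn.trans (ok.toOK.coe_nG_simple hi 1).symm)
      rw [SetLike.mem_coe, Subgroup.mem_subgroupOf, e]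
      exact ok.toOK.nG_mem_monomial (ok.toOK.smp_lt hi)
    · intro g hg
      rw [Subgroup.mem_subgroupOf] at hg
      obtain ⟨t, ht, w, hw, e⟩ := ok.toOK.mem_monomial.mp hg
      have hwG : ∀ v : List ℕ, (∀ i ∈ v, i < D.rank) → ∃ x ∈ Subgroup.closure
          {n : ↥(D.group F) | ∃ i < D.rank, ((n : GL D.Idx F) : Matrix D.Idx D.Idx F) = D.nMat F (D.simple i) 1},
          (x : GL D.Idx F) = ok.toOK.gW F v := by
        intro v
        induction v with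
        | nil => exact fun _ => ⟨1, one_mem _, rfl⟩
        | cons i v ih =>
          intro hv
          obtain ⟨x, hx, hx'⟩ := ih fun j hj => hv j (List.mem_cons_of_mem _ hj)
          have hi := hv i List.mem_cons_self
          refine ⟨⟨ok.toOK.nG (T.smp i) 1, ok.toOK.wordG_mem _⟩ * x,
            mul_mem (Subgroup.subset_closure ⟨i, hi, ok.toOK.coe_nG_simple hi 1⟩) hx, ?_⟩
          rw [Subgroup.coe_mul, hx', ok.toOK.gW_cons]
      obtain ⟨x, hx, hx'⟩ := hwG w hw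
      have : g = ⟨t, ok.toOK.diag_le_group ht⟩ * x := Subtype.ext (by rw [Subgroup.coe_mul, hx']; exact e)
      rw [this]
      exact mul_mem (Subgroup.mem_sup_right ⟨Subgroup.mem_sup_right ht, Subgroup.mem_sup_left ht⟩)
        (Subgroup.mem_sup_left hx)
  mul_mem_union := by
    rintro s ⟨i, hi, hs⟩ n hn b hb
    have e : (s : GL D.Idx F) = ok.toOK.nG (T.smp i) 1 := Units.ext (hs.trans (ok.toOK.coe_nG_simple hi 1).symm)
    rw [Subgroup.mem_subgroupOf] at hn hb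
    rcases ok.bruhat_step hi hn hb with ⟨c, hc, d, hd, h⟩ | ⟨c, hc, d, hd, h⟩
    · refine Or.inl (DoubleCoset.mem_doubleCoset.mpr ⟨⟨c, ok.toOK.borel_le_group hc⟩, hc,
        ⟨d, ok.toOK.borel_le_group hd⟩, hd, Subtype.ext ?_⟩)
      simp only [Subgroup.coe_mul, e]
      exact h
    · refine Or.inr (DoubleCoset.mem_doubleCoset.mpr ⟨⟨c, ok.toOK.borel_le_group hc⟩, hc,
        ⟨d, ok.toOK.borel_le_group hd⟩, hd, Subtype.ext ?_⟩)
      simp only [Subgroup.coe_mul, e]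
      exact h
  conj_ne := by
    rintro s ⟨i, hi, hs⟩ hE
    have e : (s : GL D.Idx F) = ok.toOK.nG (T.smp i) 1 := Units.ext (hs.trans (ok.toOK.coe_nG_simple hi 1).symm)
    have hp := ok.toOK.smp_lt hi
    have hx : (⟨ok.toOK.xG (T.smp i) (1 : F), ok.toOK.xG_mem_group _ _⟩ : ↥(D.group F)) ∈
        ((D.borelSubgroup F).subgroupOf (D.group F) : Set ↥(D.group F)) := by
      rw [SetLike.mem_coe, Subgroup.mem_subgroupOf]
      exact Subgroup.mem_sup_left (ok.toOK.xG_mem_pos (ok.smp_isPos hi) _)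
    have h1 : s * (⟨ok.toOK.xG (T.smp i) (1 : F), ok.toOK.xG_mem_group _ _⟩ : ↥(D.group F)) * s ∈
        ((D.borelSubgroup F).subgroupOf (D.group F) : Set ↥(D.group F)) := hE ▸ ⟨_, hx, rfl⟩
    rw [SetLike.mem_coe, Subgroup.mem_subgroupOf, Subgroup.coe_mul, Subgroup.coe_mul, e] at h1
    have h2 := mul_mem h1 (inv_mem (Subgroup.mem_sup_right (ok.toOK.nG_sq (F := F) hp)) :
      (ok.toOK.nG (T.smp i) (1 : F) * ok.toOK.nG (T.smp i) 1)⁻¹ ∈ D.borelSubgroup F)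
    have h3 : ok.toOK.nG (T.smp i) (1 : F) * ok.toOK.xG (T.smp i) 1 * (ok.toOK.nG (T.smp i) 1)⁻¹ ∈
        D.borelSubgroup F := by simpa [mul_assoc] using h2
    obtain ⟨e₀, he₀, hs1⟩ := (ok.toOK.act_n (F := F) hi).2.1 _ hp
    rw [(hs1 1).1, (ok.toOK.smp_spec hi).2.2.1, mul_one] at h3
    have hneg : D.IsNegRoot (T.neg (T.smp i)) := by
      rw [ok.toOK.isNeg_iff, ok.toOK.ht_neg hp, (ok.toOK.smp_spec hi).1]; exact ⟨ok.toOK.neg_lt hp, by norm_num⟩
    have h4 : ok.toOK.xG (T.neg (T.smp i)) e₀ ∈ D.borelSubgroup F ⊓ D.negUnipotent F :=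
      ⟨h3, ok.toOK.xG_mem_neg hneg _⟩
    rw [ok.toOK.borel_inf_neg, Subgroup.mem_bot] at h4
    exact he₀ ((ok.toOK.x_eq_one (ok.toOK.neg_lt hp) e₀).mp (by rw [← ok.toOK.coe_xG, h4]; rfl))

theorem diag_normal_conj {n t : GL D.Idx F} (hn : n ∈ D.monomialSubgroup F) (ht : t ∈ D.diagonalSubgroup F) :
    n * t * n⁻¹ ∈ D.diagonalSubgroup F := by
  have := (ok.toOK.diag_normal (F := F)).conj_mem ⟨t, Subgroup.mem_sup_left ht⟩ ht ⟨n, hn⟩
  simpa [Subgroup.mem_subgroupOf] using this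

end OKX

end Cfsg.Agent.Chev
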