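import Cfsg.Agent.Lib.Chev.Bruhat

/-!
Centralisers of root elements of dominant roots in characteristic two.
-/

set_option autoImplicit false

namespace Cfsg.Agent.Chev

open Cfsg.Lie

/-- The data needed for the centraliser of `x_h(1)`: `J` are the nodes orthogonal to `h`, `k` the other one. -/
noncomputable def Tabs.chkRootCent (D : ChevalleyDatum) (T : Tabs) (h k : ℕ) (J : List ℕ) : Bool :=
  andR (nlt h D.nroots) <| andR (ipos (T.htf h)) <| andR (nlt k D.rank) <| andR (ieq (T.cA k h) 1) <|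
  andR (allR D.nroots fun s => orR (notR (ipos (T.htf s))) <| orR (Nat.beq s h) <|
    andR (notR (Nat.beq h (T.neg s))) (allL (fun q => ieq (Int.emod q.2.1 2) 0) (T.terms s h))) <|
  andR (allL (fun j => andR (nlt j D.rank) <| andR (ieq (T.cA j h) 0) <|
    andR (notR (Nat.beq h (T.smp j))) <| andR (notR (Nat.beq h (T.neg (T.smp j))))
      (allL (fun q => ieq (Int.emod q.2.1 2) 0) (T.terms (T.neg (T.smp j)) h))) J)
    (allR D.rank fun i => orR (Nat.beq i k) (anyL (fun j => Nat.beq j i) J))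

variable {F : Type*} [Field F] {D : ChevalleyDatum} {T : Tabs}

namespace OK

variable (ok : OK D T)

include ok

theorem xG_eq_iff {r s : ℕ} (hr : r < D.nroots) (hs : s < D.nroots) {a b : F} (ha : a ≠ 0)
    (h : ok.xG r a = ok.xG s b) : r = s := by
  by_contra hne
  obtain ⟨i, hi, j, hj, x, y, hxy⟩ := ok.bezout hr
  have key : ∀ k (hk : k < D.rank), (T.cC r k : F) * a = 0 := by
    intro k hk
    have e := congrArg (fun g : GL D.Idx F =>
      (g : Matrix D.Idx D.Idx F) (Sum.inl ⟨k, hk⟩) (Sum.inr ⟨T.neg r, ok.neg_lt hr⟩)) h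
    simp only [ok.coe_xG, ChevalleyDatum.x, dif_pos hr, dif_pos hs] at e
    have h1 : (⟨T.neg r, ok.neg_lt hr⟩ : Fin D.nroots) ≠ ⟨r, hr⟩ := fun e => ok.neg_ne hr (congrArg Fin.val e)
    have h2 : T.neg r ≠ T.neg s := fun e' => hne (by rw [← ok.neg_neg' hr, e', ok.neg_neg' hs])
    simp only [ChevalleyDatum.xMat, Matrix.of_apply, if_neg h1, ok.negIdx_eq hr, ok.negIdx_eq hs,
      ok.coroot_eq hr hk, if_true, if_neg h2] at e
    by_cases h3 : T.neg r = s
    · rw [if_pos (Fin.ext h3)] at e; exact e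
    · rw [if_neg (fun e' => h3 (congrArg Fin.val e'))] at e; exact e
  have h3 : ((x * T.cC r i + y * T.cC r j : ℤ) : F) * a = 0 := by
    push_cast
    rw [add_mul, mul_assoc, mul_assoc, key i hi, key j hj, mul_zero, mul_zero, add_zero]
  rw [hxy, Int.cast_one, one_mul] at h3
  exact ha h3

theorem xG_right_inj {r : ℕ} (hr : r < D.nroots) {a b : F} (h : ok.xG r a = ok.xG r b) : a = b := by
  have h1 : ok.xG r (a + -b) = 1 := by rw [← ok.xG_mul, h, ← ok.xG_inv, mul_inv_cancel]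
  have h2 := (ok.x_eq_one hr (a + -b)).mp (by rw [← ok.coe_xG, h1]; rfl)
  linear_combination h2

/-- A diagonal element scales a root element by its eigenvalue. -/
theorem torG_xG {c : ℕ → F} (hc : ∀ i < D.rank, c i ≠ 0) {r : ℕ} (hr : r < D.nroots) (a : F) :
    ok.torG c * ok.xG r a * (ok.torG c)⁻¹ =
      ok.xG r ((∏ i ∈ Finset.range D.rank, c i ^ T.cA i r) * a) := by
  suffices h : ∀ n ≤ D.rank, ∀ b : F,
      ok.wordG ((List.range n).flatMap fun i => D.hWord (D.simple i) (c i)) * ok.xG r b *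
        (ok.wordG ((List.range n).flatMap fun i => D.hWord (D.simple i) (c i)))⁻¹ =
      ok.xG r ((∏ i ∈ Finset.range n, c i ^ T.cA i r) * b) from h _ le_rfl a
  intro n
  induction n with
  | zero => intro _ b; simp [wordG]
  | succ n ih =>
    intro hn b
    have hn' : n < D.rank := hn
    set A := ok.wordG ((List.range n).flatMap fun i => D.hWord (D.simple i) (c i)) with hA
    have hsplit : ok.wordG ((List.range (n + 1)).flatMap fun i => D.hWord (D.simple i) (c i)) =
        A * ok.hG (T.smp n) (c n) := by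
      rw [hA, wordG, wordG, hG, wordG, List.range_succ, List.flatMap_append, List.map_append, List.prod_append,
        List.flatMap_singleton, ok.simple_eq hn']
    have hh : ok.hG (T.smp n) (c n) * ok.xG r b * (ok.hG (T.smp n) (c n))⁻¹ = ok.xG r (c n ^ T.cA n r * b) := by
      rw [mul_inv_eq_iff_eq_mul]
      refine Units.ext ?_
      rw [Units.val_mul, Units.val_mul, ok.coe_hG, ok.coe_xG, ok.coe_xG, ← ok.simple_eq hn']
      exact ok.conj_h hn' hr (hc n hn') b
    rw [hsplit, mul_inv_rev,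
      show A * ok.hG (T.smp n) (c n) * ok.xG r b * ((ok.hG (T.smp n) (c n))⁻¹ * A⁻¹) =
        A * (ok.hG (T.smp n) (c n) * ok.xG r b * (ok.hG (T.smp n) (c n))⁻¹) * A⁻¹ by simp [mul_assoc],
      hh, ih (Nat.le_of_succ_le hn)]
    congr 1
    rw [Finset.prod_range_succ]
    ring

theorem xG_commute [CharP F 2] {r s : ℕ} (hr : r < D.nroots) (hs : s < D.nroots) (h1 : s ≠ r) (h2 : s ≠ T.neg r)
    (he : ∀ q ∈ T.terms r s, q.2.1 % 2 = 0) (t u : F) : Commute (ok.xG r t) (ok.xG s u) := by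
  have e : ok.xG s u * ok.xG r t = ok.xG r t * ok.xG s u * ok.wordG (D.commWord F r s t u) := by
    refine Units.ext ?_
    rw [Units.val_mul, Units.val_mul, Units.val_mul, ok.coe_wordG]
    exact ok.comm hr hs h1 (by rwa [ok.neg_eq hr]) t u
  have h : ok.wordG (D.commWord F r s t u) = 1 := by
    refine List.prod_eq_one fun x hx => ?_
    obtain ⟨p, hp, rfl⟩ := List.mem_map.mp hx
    simp only [ChevalleyDatum.commWord, ok.terms_eq hr hs, List.mem_map] at hp
    obtain ⟨q, hq, rfl⟩ := hp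
    have hz : ((q.2.1 : ℤ) : F) = 0 := by
      obtain ⟨m, hm⟩ := Int.dvd_of_emod_eq_zero (he q hq)
      rw [hm, Int.cast_mul, Int.cast_two, CharTwo.two_eq_zero, zero_mul]
    simp [hz, ok.xG_zero]
  rw [h, mul_one] at e
  exact e.symm

end OK

namespace OKX

variable (ok : OKX D T)

include ok

/-- The pairing is invariant under words. -/
theorem pair_piW {w : List ℕ} (hw : ∀ i ∈ w, i < D.rank) {r s : ℕ} (hr : r < D.nroots) (hs : s < D.nroots) :
    ∑ k ∈ Finset.range D.rank, T.cC (piW T w r) k * T.cA k (piW T w s) =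
      ∑ k ∈ Finset.range D.rank, T.cC r k * T.cA k s := by
  induction w with
  | nil => rfl
  | cons i w ih =>
    have hw' : ∀ j ∈ w, j < D.rank := fun j hj => hw j (List.mem_cons_of_mem _ hj)
    have hi := hw i List.mem_cons_self
    have hr' := ok.piW_lt hw' hr
    have hs' := ok.piW_lt hw' hs
    have h := ok.toOK.hExp_refl hi hr' ⟨T.refl i (piW T w s), ok.toOK.refl_lt hi hs'⟩
    simp only [hExp, Sum.elim_inr] at h
    show ∑ k ∈ Finset.range D.rank, T.cC (T.refl i (piW T w r)) k * T.cA k (T.refl i (piW T w s)) = _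
    rw [h, ok.toOK.refl_refl hi hs']
    exact ih hw'

theorem rootCent_spec {h k : ℕ} {J : List ℕ} (hc : Tabs.chkRootCent D T h k J = true) :
    h < D.nroots ∧ 0 < T.htf h ∧ k < D.rank ∧ T.cA k h = 1 ∧
    (∀ s < D.nroots, 0 < T.htf s → s ≠ h → h ≠ T.neg s ∧ ∀ q ∈ T.terms s h, q.2.1 % 2 = 0) ∧
    (∀ j ∈ J, j < D.rank ∧ T.cA j h = 0 ∧ h ≠ T.smp j ∧ h ≠ T.neg (T.smp j) ∧
      ∀ q ∈ T.terms (T.neg (T.smp j)) h, q.2.1 % 2 = 0) ∧
    (∀ i < D.rank, i = k ∨ i ∈ J) := by
  simp only [Tabs.chkRootCent, andR_iff, nlt_iff, ipos_iff, ieq_iff, allR_iff, allL_iff, orR_iff, notR_iff,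
    anyL_iff, Nat.beq_eq, nbeq_false_iff] at hc
  obtain ⟨h1, h2, h3, h4, h5, h6, h7⟩ := hc
  refine ⟨h1, h2, h3, h4, fun s hs hpos hne => ?_, h6, fun i hi => ?_⟩
  · rcases h5 s hs with e | e | e
    · rw [ipos_iff.mpr hpos] at e; exact absurd e (by simp)
    · exact absurd e hne
    · exact e
  · rcases h7 i hi with e | ⟨j, hj, e⟩
    · exact Or.inl e
    · exact Or.inr (e ▸ hj)

/-- A word fixing a dominant root is, modulo the torus, a word in the orthogonal nodes. -/
theorem gW_mem_of_fix {h k : ℕ} {J : List ℕ} (hc : Tabs.chkRootCent D T h k J = true)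
    {L : Subgroup (GL D.Idx F)} (hn : ∀ j ∈ J, ok.toOK.nG (T.smp j) (1 : F) ∈ L) :
    ∀ (n : ℕ) (w : List ℕ), (∀ i ∈ w, i < D.rank) → piW T w h = h → ok.negCount w = n →
      ∃ a ∈ D.diagonalSubgroup F, ∃ l ∈ L, ok.toOK.gW F w = a * l := by
  obtain ⟨hh, hh0, hk, hk1, -, hJ, hcov⟩ := ok.rootCent_spec hc
  intro n
  induction n using Nat.strong_induction_on with
  | _ n ih =>
    intro w hw hfix hn'
    by_cases hpos : ∀ i < D.rank, ¬ T.htf (piW T w (T.smp i)) < 0
    · exact ⟨_, ok.gW_mem_diag_of_pos _ w rfl hw fun r hr h0 => ok.pos_of_simple hw hpos hr h0, 1, one_mem _,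
        (mul_one _).symm⟩
    push Not at hpos
    obtain ⟨i, hi, hneg⟩ := hpos
    have hp := ok.toOK.smp_lt hi
    have hr := ok.piW_lt hw hp
    have hneg' : T.htf (piW T w (T.smp i)) < 0 := hneg
    have hiJ : i ∈ J := by
      rcases hcov i hi with rfl | hiJ
      · exfalso
        have e := ok.pair_piW hw hp hh
        rw [hfix] at e
        have e2 : ∑ m ∈ Finset.range D.rank, T.cC (T.smp i) m * T.cA m h = 1 := by
          rw [Finset.sum_eq_single i]
          · rw [ok.toOK.cC_smp hi hi, if_pos rfl, hk1, mul_one]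
          · intro m hm hne
            rw [ok.toOK.cC_smp hi (Finset.mem_range.mp hm), if_neg hne, zero_mul]
          · intro hni; exact absurd (Finset.mem_range.mpr hi) hni
        have e3 : ∑ m ∈ Finset.range D.rank, T.cC (piW T w (T.smp i)) m * T.cA m h ≤ 0 := by
          refine Finset.sum_nonpos fun m hm => mul_nonpos_of_nonpos_of_nonneg ?_ ?_
          · exact (ok.toOK.isNeg_iff.mpr ⟨hr, hneg'⟩).2 _
              (by rw [ok.toOK.coroot_list hr]; exact List.mem_map.mpr ⟨m, List.mem_range.mpr (Finset.mem_range.mp hm), rfl⟩)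
          · rcases hcov m (Finset.mem_range.mp hm) with rfl | hmJ
            · rw [hk1]; norm_num
            · rw [(hJ m hmJ).2.1]
        omega
      · exact hiJ
    have hfi : T.refl i h = h := by
      obtain ⟨-, hA, hne1, hne2, -⟩ := hJ i hiJ
      have h' := ok.toOK.refl_ok i hi h hh
      simp only [Tabs.chkRefl, andR_iff, Nat.beq_eq] at h'
      rw [h'.2.1, Tabs.reflT]
      simp [hA, hne1, hne2]
    set w' := w ++ [i] with hw'
    have hw'' : ∀ j ∈ w', j < D.rank := fun j hj => by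
      rcases List.mem_append.mp hj with h | h
      · exact hw j h
      · rw [List.mem_singleton.mp h]; exact hi
    have hlt : ok.negCount w' < n := by
      have h1 : ok.negCount w' < ok.negCount (w' ++ [i]) := ok.negCount_succ hi (by
        rw [hw', piW_append, piW, piW, (ok.toOK.smp_spec hi).2.2.1, ok.piW_neg hw hp, ok.toOK.ht_neg hr]
        omega) hw''
      have h2 : ok.negCount (w' ++ [i]) = n := by
        rw [← hn']
        refine congrArg Finset.card (Finset.filter_congr fun r hr => ?_)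
        simp only [hw', piW_append, piW, ok.toOK.refl_refl hi (Finset.mem_range.mp hr)]
      omega
    obtain ⟨a, ha, l, hl, e⟩ := ih _ hlt w' hw'' (by rw [hw', piW_append, piW, piW, hfi, hfix]) rfl
    refine ⟨a, ha, l * (ok.toOK.nG (T.smp i) 1)⁻¹, mul_mem hl (inv_mem (hn i hiJ)), ?_⟩
    rw [← mul_assoc, eq_mul_inv_iff_mul_eq, ← e, hw', ok.toOK.gW_append]
    simp [OK.gW]

/-- The centraliser of `x_h(1)`. -/
theorem centralizer_root [CharP F 2] {h k : ℕ} {J : List ℕ} (hc : Tabs.chkRootCent D T h k J = true) :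
    D.group F ⊓ Subgroup.centralizer {ok.toOK.xG h (1 : F)} =
      D.posUnipotent F ⊔ Subgroup.closure {g : GL D.Idx F |
        ∃ j ∈ J, ∃ c : F, (g : Matrix D.Idx D.Idx F) = D.x F (T.neg (T.smp j)) c} := by
  obtain ⟨hh, hh0, hk, hk1, hU, hJ, hcov⟩ := ok.rootCent_spec hc
  set L := D.posUnipotent F ⊔ Subgroup.closure {g : GL D.Idx F |
    ∃ j ∈ J, ∃ c : F, (g : Matrix D.Idx D.Idx F) = D.x F (T.neg (T.smp j)) c} with hL
  set x := ok.toOK.xG h (1 : F) with hx
  have hLC : L ≤ D.group F ⊓ Subgroup.centralizer {x} := by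
    refine sup_le ((Subgroup.closure_le _).mpr ?_) ((Subgroup.closure_le _).mpr ?_)
    · rintro g ⟨s, t, hs, hg⟩
      rw [ok.toOK.eq_xG hg]
      refine Subgroup.mem_inf.mpr ⟨ok.toOK.xG_mem_group _ _, Subgroup.mem_centralizer_singleton_iff.mpr ?_⟩
      obtain ⟨hs1, hs2⟩ := ok.toOK.isPos_iff.mp hs
      by_cases e : s = h
      · subst e; rw [hx, ok.toOK.xG_mul, ok.toOK.xG_mul, add_comm]
      · obtain ⟨h1, h2⟩ := hU s hs1 hs2 e
        exact (ok.toOK.xG_commute hs1 hh (Ne.symm e) h1 h2 t 1).eq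
    · rintro g ⟨j, hj, c, hg⟩
      rw [ok.toOK.eq_xG hg]
      refine Subgroup.mem_inf.mpr ⟨ok.toOK.xG_mem_group _ _, Subgroup.mem_centralizer_singleton_iff.mpr ?_⟩
      obtain ⟨hj1, -, h1, h2, h3⟩ := hJ j hj
      have hp := ok.toOK.smp_lt hj1
      exact (ok.toOK.xG_commute (ok.toOK.neg_lt hp) hh h2 (by rwa [ok.toOK.neg_neg' hp]) h3 c 1).eq
  refine le_antisymm ?_ hLC
  intro g hg
  obtain ⟨hgG, hgC⟩ := Subgroup.mem_inf.mp hg
  have hxneg : ∀ j ∈ J, ∀ c : F, ok.toOK.xG (T.neg (T.smp j)) c ∈ L := fun j hj c =>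
    Subgroup.mem_sup_right (Subgroup.subset_closure (show ok.toOK.xG (T.neg (T.smp j)) c ∈ {g : GL D.Idx F |
      ∃ i ∈ J, ∃ a : F, (g : Matrix D.Idx D.Idx F) = D.x F (T.neg (T.smp i)) a} from ⟨j, hj, c, rfl⟩))
  have hxpos : ∀ j ∈ J, ∀ c : F, ok.toOK.xG (T.smp j) c ∈ L := fun j hj c =>
    Subgroup.mem_sup_left (ok.toOK.xG_mem_pos (ok.smp_isPos (hJ j hj).1) c)
  have hnL : ∀ j ∈ J, ∀ c : F, ok.toOK.nG (T.smp j) c ∈ L := fun j hj c => by
    rw [ok.toOK.nG_eq (ok.toOK.smp_lt (hJ j hj).1)]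
    exact mul_mem (mul_mem (hxpos j hj _) (hxneg j hj _)) (hxpos j hj _)
  have hhL : ∀ j ∈ J, ∀ c : F, ok.toOK.hG (T.smp j) c ∈ L := fun j hj c => by
    rw [ok.toOK.hG_eq]; exact mul_mem (hnL j hj _) (hnL j hj _)
  obtain ⟨b, hb, n, hn, u, hu, rfl⟩ := ok.bruhat_exists hgG
  have huU : u ∈ D.posUnipotent F := by
    refine (Subgroup.closure_le _).mpr ?_ hu
    rintro y ⟨r, t, hr, -, hy⟩
    exact Subgroup.subset_closure ⟨r, t, hr, hy⟩
  have huL : u ∈ L := Subgroup.mem_sup_left huU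
  obtain ⟨v, hv, t, ht, rfl⟩ := ok.toOK.mem_borel hb
  have hvL : v ∈ L := Subgroup.mem_sup_left hv
  obtain ⟨t₀, ht₀, w, hw, rfl⟩ := ok.toOK.mem_monomial.mp hn
  suffices hm : t * t₀ * ok.toOK.gW F w ∈ L by
    have := mul_mem (mul_mem hvL hm) huL
    simpa [mul_assoc] using this
  have hmC : t * t₀ * ok.toOK.gW F w ∈ Subgroup.centralizer {x} := by
    have hv' : v ∈ Subgroup.centralizer {x} := (Subgroup.mem_inf.mp (hLC hvL)).2
    have hu' : u ∈ Subgroup.centralizer {x} := (Subgroup.mem_inf.mp (hLC huL)).2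
    have := mul_mem (mul_mem (inv_mem hv') hgC) (inv_mem hu')
    simpa [mul_assoc] using this
  have hA := (ok.toOK.act_diag (mul_mem ht ht₀)).mul ok.toOK (ok.toOK.act_gW (F := F) w hw)
  obtain ⟨a, ha, ha'⟩ := hA.2.1 h hh
  have hfix : piW T w h = h := by
    have e := (ha' 1).1
    rw [← hx, Subgroup.mem_centralizer_singleton_iff.mp hmC, mul_inv_cancel_right, hx] at e
    exact (ok.toOK.xG_eq_iff hh (ok.piW_lt hw hh) one_ne_zero e).symm
  obtain ⟨t₁, ht₁, l, hl, e⟩ := ok.gW_mem_of_fix hc (fun j hj => hnL j hj 1) _ w hw hfix rfl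
  rw [e, ← mul_assoc]
  refine mul_mem ?_ hl
  have hdC : t * t₀ * t₁ ∈ Subgroup.centralizer {x} := by
    have hl' : l ∈ Subgroup.centralizer {x} := (Subgroup.mem_inf.mp (hLC hl)).2
    rw [e, ← mul_assoc] at hmC
    simpa [mul_assoc] using mul_mem hmC (inv_mem hl')
  obtain ⟨c, hcne, hdc⟩ := ok.toOK.mem_diag.mp (mul_mem (mul_mem ht ht₀) ht₁)
  rw [hdc] at hdC ⊢
  have e1 := ok.toOK.torG_xG hcne hh (1 : F)
  rw [← hx, Subgroup.mem_centralizer_singleton_iff.mp hdC, mul_inv_cancel_right, mul_one] at e1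
  have e2 := ok.toOK.xG_right_inj hh (hx.symm.trans e1)
  have hck : c k = 1 := by
    rw [e2, Finset.prod_eq_single k]
    · rw [hk1, zpow_one]
    · intro i hi hne
      rcases hcov i (Finset.mem_range.mp hi) with rfl | hiJ
      · exact absurd rfl hne
      · rw [(hJ i hiJ).2.1, zpow_zero]
    · intro hni; exact absurd (Finset.mem_range.mpr hk) hni
  rw [OK.torG, OK.wordG, List.map_flatMap, List.flatMap_def, List.prod_flatten]
  refine list_prod_mem fun y hy => ?_
  simp only [List.map_map, List.mem_map, List.mem_range, Function.comp_apply] at hy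
  obtain ⟨i, hi, rfl⟩ := hy
  rw [ok.toOK.simple_eq hi]
  show ok.toOK.hG (T.smp i) (c i) ∈ L
  rcases hcov i hi with rfl | hiJ
  · rw [hck, ok.toOK.hG_one (ok.toOK.smp_lt hi)]; exact one_mem _
  · exact hhL i hiJ _

/-- The centraliser of `x_h(1)`, with the negative fundamental roots given by their indices. -/
theorem centralizer_root_list [CharP F 2] {h k : ℕ} {J L : List ℕ} (hc : Tabs.chkRootCent D T h k J = true)
    (hL : J.map (fun j => T.neg (T.smp j)) = L)
    (t : GL D.Idx F) (ht : (t : Matrix D.Idx D.Idx F) = D.x F h 1) :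
    D.group F ⊓ Subgroup.centralizer {t} =
      D.posUnipotent F ⊔ Subgroup.closure {g : GL D.Idx F |
        ∃ s ∈ L, ∃ c : F, (g : Matrix D.Idx D.Idx F) = D.x F s c} := by
  rw [ok.toOK.eq_xG ht, ok.centralizer_root hc, ← hL]
  congr 2
  ext g
  simp [List.mem_map]

end OKX

theorem sup_roots_three (a b c : ℕ) :
    Subgroup.closure {g : GL D.Idx F | ∃ s ∈ [a, b, c], ∃ t : F, (g : Matrix D.Idx D.Idx F) = D.x F s t} =
      D.rootSubgroup F a ⊔ (D.rootSubgroup F b ⊔ D.rootSubgroup F c) := by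
  rw [ChevalleyDatum.rootSubgroup, ChevalleyDatum.rootSubgroup, ChevalleyDatum.rootSubgroup,
    ← Subgroup.closure_union, ← Subgroup.closure_union]
  congr 1
  ext g
  simp [or_assoc]

end Cfsg.Agent.Chev
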