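import Cfsg.Agent.Lib.Chev.OK

/-!
Checks on the indexing of the roots: it is compatible with addition.
-/

set_option autoImplicit false

namespace Cfsg.Agent.Chev

open Cfsg.Lie

variable (D : ChevalleyDatum)

namespace Tabs

variable (T : Tabs)

/-- Half the number of roots: the first index of a positive root. -/
noncomputable def half : ℕ := Nat.div D.nroots 2

/-- The negative roots come first and negation reverses the list. -/
noncomputable def chkHalf : Bool :=
  andR (Nat.beq (Nat.mul 2 (half D)) D.nroots) <|
  allR D.nroots fun r =>
    andR (beqB (ipos (T.htf r)) (Nat.ble (half D) r)) (Nat.beq (T.neg r) (Nat.sub (Nat.sub D.nroots 1) r))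

/-- Chains and commutator terms of positive roots increase. -/
noncomputable def chkUp : Bool :=
  allR (half D) fun k =>
    andR (allL (fun e => allL (fun p => nlt e.1 p.1) e.2) (T.chs D (Nat.add (half D) k))) <|
    allR (half D) fun l => allL (fun q => andR (nlt (Nat.add (half D) k) q.1) (nlt (Nat.add (half D) l) q.1))
      (T.terms (Nat.add (half D) k) (Nat.add (half D) l))

/-- A fundamental root pair keeps the set of the other positive roots. -/
noncomputable def chkPar : Bool :=
  allR D.rank fun i => allR D.nroots fun s =>
    orR (notR (ipos (T.htf s))) <| orR (Nat.beq s (T.smp i)) <|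
      andR (allL (fun q => andR (ipos (T.htf q.1)) (notR (Nat.beq q.1 (T.smp i)))) (T.terms (T.smp i) s))
        (allL (fun q => andR (ipos (T.htf q.1)) (notR (Nat.beq q.1 (T.smp i)))) (T.terms (T.neg (T.smp i)) s))

/-- All the indexing checks. -/
noncomputable def chkLex : Bool := andR (T.chkHalf D) (andR (T.chkUp D) (T.chkPar D))

end Tabs

/-- All checks pass, the indexing checks included. -/
structure OKX (D : ChevalleyDatum) (T : Tabs) : Prop extends OK D T where
  lex : T.chkLex D = true

end Cfsg.Agent.Chev
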