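import Cfsg.Agent.Lib.Chev.Mono
import Cfsg.Agent.Lib.Chev.Lex

/-!
The normal form of the positive unipotent subgroup, and the normal subgroups attached to a fundamental root.
-/

set_option autoImplicit false

namespace Cfsg.Agent.Chev

open Cfsg.Lie

variable {F : Type*} [Field F] {D : ChevalleyDatum} {T : Tabs}

namespace OKX

variable (ok : OKX D T)

include ok

theorem two_half : 2 * Tabs.half D = D.nroots := by
  have h := ok.lex
  simp only [Tabs.chkLex, Tabs.chkHalf, andR_iff, Nat.beq_eq] at h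
  exact h.1.1

theorem pos_iff_half {r : ℕ} (hr : r < D.nroots) : 0 < T.htf r ↔ Tabs.half D ≤ r := by
  have h := ok.lex
  simp only [Tabs.chkLex, Tabs.chkHalf, andR_iff, allR_iff, beqB_iff] at h
  rw [← ipos_iff, (h.1.2 r hr).1, Nat.ble_eq]

theorem neg_eq_sub {r : ℕ} (hr : r < D.nroots) : T.neg r = D.nroots - 1 - r := by
  have h := ok.lex
  simp only [Tabs.chkLex, Tabs.chkHalf, andR_iff, allR_iff, Nat.beq_eq, Nat.sub_eq] at h
  exact (h.1.2 r hr).2

theorem isPos_iff_half {r : ℕ} : D.IsPosRoot r ↔ Tabs.half D ≤ r ∧ r < D.nroots := by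
  rw [ok.toOK.isPos_iff]
  exact ⟨fun h => ⟨(ok.pos_iff_half h.1).mp h.2, h.1⟩, fun h => ⟨h.2, (ok.pos_iff_half h.2).mpr h.1⟩⟩

theorem chain_up {r : ℕ} (hr : r < D.nroots) (h : Tabs.half D ≤ r) {e : ℕ × List (ℕ × ℤ)} (he : e ∈ T.chs D r)
    {p : ℕ × ℤ} (hp : p ∈ e.2) : e.1 < p.1 := by
  have hh := ok.two_half
  have h' := ok.lex
  simp only [Tabs.chkLex, Tabs.chkUp, andR_iff, allR_iff, allL_iff, nlt_iff, Nat.add_eq] at h'
  have := (h'.2.1 (r - Tabs.half D) (by omega)).1
  rw [Nat.add_sub_cancel' h] at this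
  exact this e he p hp

theorem terms_up {r s : ℕ} (hr : r < D.nroots) (h : Tabs.half D ≤ r) (hs : s < D.nroots) (h2 : Tabs.half D ≤ s)
    {q : ℕ × ℤ × ℕ × ℕ} (hq : q ∈ T.terms r s) : r < q.1 ∧ s < q.1 := by
  have hh := ok.two_half
  have h' := ok.lex
  simp only [Tabs.chkLex, Tabs.chkUp, andR_iff, allR_iff, allL_iff, nlt_iff, Nat.add_eq] at h'
  have := (h'.2.1 (r - Tabs.half D) (by omega)).2 (s - Tabs.half D) (by omega)
  rw [Nat.add_sub_cancel' h, Nat.add_sub_cancel' h2] at this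
  exact this q hq

theorem terms_par {i s : ℕ} (hi : i < D.rank) (hs : s < D.nroots) (h0 : 0 < T.htf s) (hne : s ≠ T.smp i)
    {r : ℕ} (hr : r = T.smp i ∨ r = T.neg (T.smp i)) {q : ℕ × ℤ × ℕ × ℕ} (hq : q ∈ T.terms r s) :
    0 < T.htf q.1 ∧ q.1 ≠ T.smp i := by
  have h' := ok.lex
  simp only [Tabs.chkLex, Tabs.chkPar, andR_iff, allR_iff, orR_iff, notR_iff, allL_iff, ipos_iff, Nat.beq_eq,
    nbeq_false_iff] at h'
  rcases h'.2.2 i hi s hs with e | e | ⟨e1, e2⟩
  · rw [Bool.eq_false_iff, Ne, ipos_iff] at e; exact absurd h0 e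
  · exact absurd e hne
  · rcases hr with rfl | rfl
    exacts [e1 q hq, e2 q hq]

/-! ### The filtration -/

/-- Generated by the positive root subgroups of index at least `k`. -/
def K (F : Type*) [Field F] (k : ℕ) : Subgroup (GL D.Idx F) :=
  Subgroup.closure {g | ∃ (r : ℕ) (t : F), (D.IsPosRoot r ∧ k ≤ r) ∧ g = ok.toOK.xG r t}

theorem xG_mem_K {k r : ℕ} (hr : D.IsPosRoot r) (hk : k ≤ r) (t : F) : ok.toOK.xG r t ∈ ok.K F k :=
  Subgroup.subset_closure ⟨r, t, ⟨hr, hk⟩, rfl⟩

theorem K_mono {k l : ℕ} (h : k ≤ l) : ok.K F l ≤ ok.K F k :=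
  (Subgroup.closure_le _).mpr fun _ ⟨_, t, ⟨hr, hl⟩, e⟩ => e ▸ ok.xG_mem_K hr (h.trans hl) t

theorem K_half : ok.K F (Tabs.half D) = D.posUnipotent F := by
  refine le_antisymm ((Subgroup.closure_le _).mpr fun _ ⟨r, t, ⟨hr, _⟩, e⟩ => e ▸ ok.toOK.xG_mem_pos hr t)
    ((Subgroup.closure_le _).mpr fun g ⟨r, t, hr, e⟩ => ?_)
  rw [ok.toOK.eq_xG e]
  exact ok.xG_mem_K hr (ok.isPos_iff_half.mp hr).1 t

theorem K_top {k : ℕ} (h : D.nroots ≤ k) : ok.K F k = ⊥ := by
  refine eq_bot_iff.mpr ((Subgroup.closure_le _).mpr ?_)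
  rintro _ ⟨r, t, ⟨hr, hk⟩, -⟩
  exact absurd (ok.isPos_iff_half.mp hr).2 (by omega)

theorem comm_inv_mem {r s : ℕ} (hr : r < D.nroots) (hs : s < D.nroots) (h1 : s ≠ r) (h2 : s ≠ T.neg r) (t u : F)
    {S : Subgroup (GL D.Idx F)} (hS : ∀ q ∈ T.terms r s, ∀ a : F, ok.toOK.xG q.1 a ∈ S)
    (hu : ok.toOK.xG s u ∈ S) : (ok.toOK.xG r t)⁻¹ * ok.toOK.xG s u * ok.toOK.xG r t ∈ S := by
  have e : ok.toOK.xG s u * ok.toOK.xG r t =
      ok.toOK.xG r t * ok.toOK.xG s u * ok.toOK.wordG (D.commWord F r s t u) := by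
    refine Units.ext ?_
    rw [Units.val_mul, Units.val_mul, Units.val_mul, OK.coe_wordG]
    exact ok.toOK.comm hr hs h1 (by rwa [ok.toOK.neg_eq hr]) t u
  rw [mul_assoc, e, mul_assoc, inv_mul_cancel_left]
  refine mul_mem hu (list_prod_mem fun x hx => ?_)
  obtain ⟨p, hp, rfl⟩ := List.mem_map.mp hx
  simp only [ChevalleyDatum.commWord, ok.toOK.terms_eq hr hs, List.mem_map] at hp
  obtain ⟨q, hq, rfl⟩ := hp
  exact hS q hq _

theorem normalizes_of_gen {G : Type*} [Group G] {s : Set G} {g : G}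
    (h1 : ∀ x ∈ s, g * x * g⁻¹ ∈ Subgroup.closure s) (h2 : ∀ x ∈ s, g⁻¹ * x * g ∈ Subgroup.closure s) :
    g ∈ Subgroup.normalizer (Subgroup.closure s : Set G) := by
  have key : ∀ (a : G), (∀ x ∈ s, a * x * a⁻¹ ∈ Subgroup.closure s) →
      ∀ x ∈ Subgroup.closure s, a * x * a⁻¹ ∈ Subgroup.closure s := by
    intro a ha x hx
    induction hx using Subgroup.closure_induction with
    | mem y hy => exact ha y hy
    | one => simp
    | mul p q _ _ hp hq => rw [← conj_mul]; exact mul_mem hp hq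
    | inv p _ hp => rw [← conj_inv]; exact inv_mem hp
  rw [Subgroup.mem_normalizer_iff]
  refine fun x => ⟨key g h1 x, fun hx => ?_⟩
  have := key g⁻¹ (fun y hy => by rw [inv_inv]; exact h2 y hy) _ hx
  simpa [mul_assoc] using this

theorem xG_normalizes_K {k r : ℕ} (hr : D.IsPosRoot r) (hrk : r < k) (t : F) :
    ok.toOK.xG r t ∈ Subgroup.normalizer (ok.K F k : Set (GL D.Idx F)) := by
  obtain ⟨hr1, hr2⟩ := ok.isPos_iff_half.mp hr
  have main : ∀ (a : F) (s : ℕ) (u : F), D.IsPosRoot s → k ≤ s →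
      (ok.toOK.xG r a)⁻¹ * ok.toOK.xG s u * ok.toOK.xG r a ∈ ok.K F k := by
    intro a s u hs hk
    obtain ⟨hs1, hs2⟩ := ok.isPos_iff_half.mp hs
    have h2 : s ≠ T.neg r := by
      rw [ok.neg_eq_sub hr2]; have := ok.two_half; omega
    refine ok.comm_inv_mem hr2 hs2 (by omega) h2 a u (fun q hq b => ?_) (ok.xG_mem_K hs hk u)
    have := ok.terms_up hr2 hr1 hs2 hs1 hq
    exact ok.xG_mem_K (ok.isPos_iff_half.mpr ⟨by omega, (ok.toOK.term_spec hr2 hs2 hq).1⟩) (by omega) b
  refine ok.normalizes_of_gen ?_ ?_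
  · rintro _ ⟨s, u, ⟨hs, hk⟩, rfl⟩
    have := main (-t) s u hs hk
    rwa [← ok.toOK.xG_inv, inv_inv] at this
  · rintro _ ⟨s, u, ⟨hs, hk⟩, rfl⟩
    exact main t s u hs hk

theorem K_split {k : ℕ} (hk : Tabs.half D ≤ k) (hk' : k < D.nroots) {g : GL D.Idx F} (hg : g ∈ ok.K F k) :
    ∃ t : F, ∃ g' ∈ ok.K F (k + 1), g = ok.toOK.xG k t * g' := by
  have hle : ok.K F k ≤ D.rootSubgroup F k ⊔ ok.K F (k + 1) := by
    refine (Subgroup.closure_le _).mpr ?_
    rintro _ ⟨r, t, ⟨hr, hkr⟩, rfl⟩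
    rcases eq_or_lt_of_le hkr with rfl | h
    · exact Subgroup.mem_sup_left (ok.toOK.xG_mem_root k t)
    · exact Subgroup.mem_sup_right (ok.xG_mem_K hr h t)
  have hn : D.rootSubgroup F k ≤ Subgroup.normalizer (ok.K F (k + 1) : Set (GL D.Idx F)) := by
    intro x hx
    obtain ⟨t, rfl⟩ := ok.toOK.mem_root.mp hx
    exact ok.xG_normalizes_K (ok.isPos_iff_half.mpr ⟨hk, hk'⟩) (Nat.lt_succ_self k) t
  have hg' := hle hg
  rw [← SetLike.mem_coe, Subgroup.coe_mul_of_left_le_normalizer_right _ _ hn] at hg'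
  obtain ⟨x, hx, g', hg'', rfl⟩ := Set.mem_mul.mp hg'
  obtain ⟨t, rfl⟩ := ok.toOK.mem_root.mp hx
  exact ⟨t, g', hg'', rfl⟩

/-- Coordinates of root vectors of index at least `m`. -/
def Above (m : ℕ) (a : D.Idx) : Prop := Sum.elim (fun _ => False) (fun s => m ≤ (s : ℕ)) a

theorem K_stable {k : ℕ} (hk' : k < D.nroots) {g : GL D.Idx F} (hg : g ∈ ok.K F (k + 1)) :
    ∀ a b : D.Idx, Above (D.nroots - 1 - k) b → ¬ Above (D.nroots - 1 - k) a →
      (g : Matrix D.Idx D.Idx F) a b = 0 ∧ ((g⁻¹ : GL D.Idx F) : Matrix D.Idx D.Idx F) a b = 0 := by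
  induction hg using Subgroup.closure_induction with
  | mem x hx =>
    obtain ⟨r, t, ⟨hr, hkr⟩, rfl⟩ := hx
    obtain ⟨hr1, hr2⟩ := ok.isPos_iff_half.mp hr
    have main : ∀ (u : F) (a b : D.Idx), Above (D.nroots - 1 - k) b → ¬ Above (D.nroots - 1 - k) a →
        D.x F r u a b = 0 := by
      intro u a b hb ha
      rcases b with b | v
      · exact absurd hb id
      have hv : D.nroots - 1 - k ≤ (v : ℕ) := hb
      rw [ok.toOK.xMat_eq hr2, Tabs.colT, colVal_cons]
      have hne : phi D (Sum.inr v) ≠ phi D a := fun e => ha (by rw [← phi_injective D e]; exact hb)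
      rw [if_neg hne, zero_add]
      refine List.sum_eq_zero fun x hx => ?_
      obtain ⟨e, he, rfl⟩ := List.mem_map.mp hx
      rw [if_neg]
      intro h'
      rw [ok.toOK.ext_eq hr2 (phi_lt D _)] at he
      simp only [phi, Sum.elim_inr, Tabs.extX, nlt_false_iff.mpr (Nat.le_add_right D.rank (v : ℕ)),
        Nat.sub_eq, Nat.add_sub_cancel_left] at he
      by_cases h1 : (v : ℕ) = r
      · simp [h1] at he
      rw [nbeq_false_iff.mpr h1] at he
      have h2 : (v : ℕ) ≠ T.neg r := by rw [ok.neg_eq_sub hr2]; omega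
      rw [nbeq_false_iff.mpr h2] at he
      simp only [flatR_eq, List.mem_flatMap] at he
      obtain ⟨f, hf, he⟩ := he
      cases hb' : Nat.beq f.1 (v : ℕ) <;> simp only [hb', mapIdxR_eq, List.not_mem_nil, List.mem_map] at he
      obtain ⟨q, hq, rfl⟩ := he
      have hup := ok.chain_up hr2 hr1 hf (List.fst_mem_of_mem_zipIdx hq)
      rw [Nat.beq_eq] at hb'
      rcases a with a | w
      · simp only [Nat.add_eq, phi, Sum.elim_inl] at h'; omega
      · refine ha ?_
        simp only [Nat.add_eq, phi, Sum.elim_inr, Nat.add_left_cancel_iff] at h'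
        show D.nroots - 1 - k ≤ (w : ℕ)
        omega
    intro a b hb ha
    exact ⟨main t a b hb ha, by rw [ok.toOK.xG_inv]; exact main (-t) a b hb ha⟩
  | one =>
    intro a b hb ha
    have : a ≠ b := fun e => ha (e ▸ hb)
    simp [Matrix.one_apply_ne this]
  | mul x y _ _ hx hy =>
    intro a b hb ha
    refine ⟨?_, ?_⟩
    · rw [Units.val_mul, Matrix.mul_apply]
      refine Finset.sum_eq_zero fun c _ => ?_
      by_cases hc : Above (D.nroots - 1 - k) c
      · rw [(hx a c hc ha).1, zero_mul]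
      · rw [(hy c b hb hc).1, mul_zero]
    · rw [mul_inv_rev, Units.val_mul, Matrix.mul_apply]
      refine Finset.sum_eq_zero fun c _ => ?_
      by_cases hc : Above (D.nroots - 1 - k) c
      · rw [(hy a c hc ha).2, zero_mul]
      · rw [(hx c b hb hc).2, mul_zero]
  | inv x _ hx =>
    intro a b hb ha
    rw [inv_inv]
    exact ⟨(hx a b hb ha).2, (hx a b hb ha).1⟩

theorem K_split_unique {k : ℕ} (hk : Tabs.half D ≤ k) (hk' : k < D.nroots) {t : F}
    (h : ok.toOK.xG k t ∈ ok.K F (k + 1)) : t = 0 := by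
  obtain ⟨a, ha, b, hb, x, y, hxy⟩ := ok.toOK.bezout hk'
  have hn := ok.toOK.neg_lt hk'
  have key : ∀ j (hj : j < D.rank), (T.cC k j : F) * t = 0 := by
    intro j hj
    have e := (ok.K_stable hk' h (Sum.inl ⟨j, hj⟩) (Sum.inr ⟨T.neg k, hn⟩)
      (by show D.nroots - 1 - k ≤ T.neg k; rw [ok.neg_eq_sub hk']) id).1
    rw [OK.coe_xG, ChevalleyDatum.x, dif_pos hk'] at e
    have h1 : (⟨T.neg k, hn⟩ : Fin D.nroots) ≠ ⟨k, hk'⟩ := fun e => ok.toOK.neg_ne hk' (congrArg Fin.val e)
    simp only [ChevalleyDatum.xMat, Matrix.of_apply, if_neg h1, ok.toOK.negIdx_eq hk', ok.toOK.coroot_eq hk' hj,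
      if_true] at e
    exact e
  have h3 : ((x * T.cC k a + y * T.cC k b : ℤ) : F) * t = 0 := by
    push_cast
    rw [add_mul, mul_assoc, mul_assoc, key a ha, key b hb, mul_zero, mul_zero, add_zero]
  rwa [hxy, Int.cast_one, one_mul] at h3

/-- Coordinates on the positive unipotent subgroup. -/
theorem exists_unique_K (m k : ℕ) (hm : m + k = D.nroots) (hk : Tabs.half D ≤ k) {g : GL D.Idx F}
    (hg : g ∈ ok.K F k) : ∃! t : ℕ → F, (∀ r, ¬ (k ≤ r ∧ r < D.nroots) → t r = 0) ∧
      g = ok.toOK.wordG ((List.range' k m).map fun r => (r, t r)) := by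
  induction m generalizing k g with
  | zero =>
    rw [ok.K_top (by omega), Subgroup.mem_bot] at hg
    subst hg
    refine ⟨fun _ => 0, ⟨fun _ _ => rfl, rfl⟩, ?_⟩
    rintro t ⟨ht, -⟩
    funext r
    exact ht r (by omega)
  | succ m ih =>
    obtain ⟨a, g', hg', rfl⟩ := ok.K_split hk (by omega) hg
    obtain ⟨t', ⟨ht', he'⟩, huniq⟩ := ih (k + 1) (by omega) (by omega) hg'
    have expand : ∀ f : ℕ → F, ok.toOK.wordG ((List.range' k (m + 1)).map fun r => (r, f r)) =
        ok.toOK.xG k (f k) * ok.toOK.wordG ((List.range' (k + 1) m).map fun r => (r, f r)) := fun f => by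
      simp [List.range'_succ, OK.wordG]
    have congr' : ∀ f f' : ℕ → F, (∀ r, k + 1 ≤ r → f r = f' r) →
        ((List.range' (k + 1) m).map fun r => (r, f r)) = (List.range' (k + 1) m).map fun r => (r, f' r) := by
      intro f f' h
      refine List.map_congr_left fun r hr => ?_
      rw [h r]
      simp only [List.mem_range'_1] at hr; omega
    refine ⟨fun r => if r = k then a else t' r, ⟨fun r hr => ?_, ?_⟩, ?_⟩
    · dsimp only
      rw [if_neg (by omega), ht' r (by omega)]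
    · rw [expand, congr' _ t' (fun r hr => if_neg (by omega)), ← he', if_pos rfl]
    · rintro f ⟨hf, hfe⟩
      rw [expand] at hfe
      have hmem : ok.toOK.wordG ((List.range' (k + 1) m).map fun r => (r, f r)) ∈ ok.K F (k + 1) := by
        refine list_prod_mem fun x hx => ?_
        simp only [List.map_map, List.mem_map, List.mem_range'_1, Function.comp_apply] at hx
        obtain ⟨r, hr, rfl⟩ := hx
        exact ok.xG_mem_K (ok.isPos_iff_half.mpr ⟨by omega, by omega⟩) hr.1 _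
      set W := ok.toOK.wordG ((List.range' (k + 1) m).map fun r => (r, f r))
      have e1 : ok.toOK.xG k (-(f k) + a) = W * g'⁻¹ := by
        rw [← ok.toOK.xG_mul, ← ok.toOK.xG_inv, eq_mul_inv_iff_mul_eq, mul_assoc, inv_mul_eq_iff_eq_mul]
        exact hfe
      have h0 := ok.K_split_unique hk (by omega) (e1 ▸ mul_mem hmem (inv_mem hg'))
      have hfa : f k = a := by linear_combination -h0
      rw [hfa] at hfe
      have hW : g' = W := mul_left_cancel hfe
      have := huniq (fun r => if r = k then 0 else f r) ⟨fun r hr => by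
        dsimp only
        by_cases e : r = k
        · rw [if_pos e]
        · rw [if_neg e, hf r (by omega)], by
        rw [congr' _ f (fun r hr => if_neg (by omega))]
        exact hW⟩
      funext r
      by_cases e : r = k
      · rw [e, if_pos rfl]; exact hfa
      · have := congrFun this r
        rw [if_neg e] at this ⊢
        exact this

theorem posRoots_eq : D.posRoots = List.range' (Tabs.half D) (Tabs.half D) := by
  have hh := ok.two_half
  rw [ChevalleyDatum.posRoots, List.range_eq_range',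
    show List.range' 0 D.nroots = List.range' 0 (Tabs.half D) ++ List.range' (Tabs.half D) (Tabs.half D) by
      conv_lhs => rw [← hh, two_mul, ← List.range'_append_1, zero_add],
    List.filter_append]
  rw [List.filter_eq_nil_iff.mpr, List.filter_eq_self.mpr, List.nil_append]
  · intro r hr
    simp only [List.mem_range'_1] at hr
    exact decide_eq_true (ok.isPos_iff_half.mpr ⟨hr.1, by omega⟩)
  · intro r hr h
    simp only [List.mem_range'_1] at hr
    have := (ok.isPos_iff_half.mp (of_decide_eq_true h)).1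
    omega

theorem card_pos [Fintype F] : Nat.card ↥(D.posUnipotent F) = Fintype.card F ^ (D.nroots / 2) := by
  have hh := ok.two_half
  have hhalf : D.nroots / 2 = Tabs.half D := rfl
  rw [hhalf]
  let f : (Fin (Tabs.half D) → F) → GL D.Idx F := fun v => ok.toOK.wordG
    ((List.range' (Tabs.half D) (Tabs.half D)).map fun r =>
      (r, if h : r - Tabs.half D < Tabs.half D then v ⟨r - Tabs.half D, h⟩ else 0))
  have hmem : ∀ v, f v ∈ D.posUnipotent F := by
    intro v
    refine list_prod_mem fun x hx => ?_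
    simp only [List.map_map, List.mem_map, List.mem_range'_1, Function.comp_apply] at hx
    obtain ⟨r, hr, rfl⟩ := hx
    exact ok.toOK.xG_mem_pos (ok.isPos_iff_half.mpr ⟨hr.1, by omega⟩) _
  let g : (Fin (Tabs.half D) → F) → ↥(D.posUnipotent F) := fun v => ⟨f v, hmem v⟩
  have hg : Function.Bijective g := by
    refine ⟨fun v w e => ?_, fun u => ?_⟩
    · have e' : f v = f w := congrArg Subtype.val e
      have hu := ok.exists_unique_K (Tabs.half D) (Tabs.half D) (by omega) le_rfl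
        (g := f v) (by rw [ok.K_half]; exact hmem v)
      have hv := hu.unique
        (y₁ := fun r => if Tabs.half D ≤ r then
          (if h : r - Tabs.half D < Tabs.half D then v ⟨r - Tabs.half D, h⟩ else 0) else 0)
        (y₂ := fun r => if Tabs.half D ≤ r then
          (if h : r - Tabs.half D < Tabs.half D then w ⟨r - Tabs.half D, h⟩ else 0) else 0)
      have ha : ∀ z : Fin (Tabs.half D) → F, (∀ r, ¬ (Tabs.half D ≤ r ∧ r < D.nroots) →
          (if Tabs.half D ≤ r then (if h : r - Tabs.half D < Tabs.half D then z ⟨r - Tabs.half D, h⟩ else 0)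
            else (0 : F)) = 0) := by
        intro z r hr
        split_ifs with h1 h2
        · exact absurd ⟨h1, by omega⟩ hr
        · rfl
        · rfl
      have hb : ∀ z : Fin (Tabs.half D) → F, f z = ok.toOK.wordG ((List.range' (Tabs.half D) (Tabs.half D)).map
          fun r => (r, if Tabs.half D ≤ r then
            (if h : r - Tabs.half D < Tabs.half D then z ⟨r - Tabs.half D, h⟩ else 0) else 0)) := by
        intro z
        show ok.toOK.wordG _ = _
        congr 1
        refine List.map_congr_left fun r hr => ?_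
        simp only [List.mem_range'_1] at hr
        rw [if_pos hr.1]
      have h3 := hv ⟨ha v, hb v⟩ ⟨ha w, e' ▸ hb w⟩
      funext j
      have := congrFun h3 (Tabs.half D + (j : ℕ))
      simpa using this
    · obtain ⟨t, ⟨-, ht⟩, -⟩ := ok.exists_unique_K (Tabs.half D) (Tabs.half D) (by omega) le_rfl
        (g := (u : GL D.Idx F)) (by rw [ok.K_half]; exact u.2)
      refine ⟨fun j => t (Tabs.half D + j), Subtype.ext ?_⟩
      show ok.toOK.wordG _ = _
      rw [ht]
      congr 1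
      refine List.map_congr_left fun r hr => ?_
      simp only [List.mem_range'_1] at hr
      rw [dif_pos (show r - Tabs.half D < Tabs.half D by omega)]
      simp only [Nat.add_sub_cancel' hr.1]
  rw [← Nat.card_eq_of_bijective g hg, Nat.card_eq_fintype_card, Fintype.card_fun, Fintype.card_fin]

/-! ### The subgroup attached to a fundamental root -/

/-- Generated by the positive root subgroups other than that of the fundamental root `i`. -/
def Up (F : Type*) [Field F] (i : ℕ) : Subgroup (GL D.Idx F) :=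
  Subgroup.closure {g | ∃ (s : ℕ) (t : F), D.IsPosRoot s ∧ s ≠ T.smp i ∧ g = ok.toOK.xG s t}

theorem pm_normalizes_Up {i : ℕ} (hi : i < D.rank) {r : ℕ} (hr : r = T.smp i ∨ r = T.neg (T.smp i)) (t : F) :
    ok.toOK.xG r t ∈ Subgroup.normalizer (ok.Up F i : Set (GL D.Idx F)) := by
  have hp := ok.toOK.smp_lt hi
  have hr' : r < D.nroots := by rcases hr with rfl | rfl; exacts [hp, ok.toOK.neg_lt hp]
  have main : ∀ (a : F) (s : ℕ) (u : F), D.IsPosRoot s → s ≠ T.smp i →
      (ok.toOK.xG r a)⁻¹ * ok.toOK.xG s u * ok.toOK.xG r a ∈ ok.Up F i := by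
    intro a s u hs hne
    obtain ⟨hs1, hs2⟩ := ok.toOK.isPos_iff.mp hs
    have h1 : s ≠ T.neg (T.smp i) := by
      intro e; rw [e, ok.toOK.ht_neg hp, (ok.toOK.smp_spec hi).1] at hs2; omega
    refine ok.comm_inv_mem hr' hs1 ?_ ?_ a u (fun q hq b => ?_) (Subgroup.subset_closure ⟨s, u, hs, hne, rfl⟩)
    · rcases hr with rfl | rfl <;> assumption
    · rcases hr with rfl | rfl
      · exact h1
      · rwa [ok.toOK.neg_neg' hp]
    · obtain ⟨h2, h3⟩ := ok.terms_par hi hs1 hs2 hne hr hq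
      exact Subgroup.subset_closure
        ⟨q.1, b, ok.toOK.isPos_iff.mpr ⟨(ok.toOK.term_spec hr' hs1 hq).1, h2⟩, h3, rfl⟩
  refine ok.normalizes_of_gen ?_ ?_
  · rintro _ ⟨s, u, hs, hne, rfl⟩
    have := main (-t) s u hs hne
    rwa [← ok.toOK.xG_inv, inv_inv] at this
  · rintro _ ⟨s, u, hs, hne, rfl⟩
    exact main t s u hs hne

theorem Up_le {i : ℕ} : ok.Up F i ≤ D.posUnipotent F :=
  (Subgroup.closure_le _).mpr fun _ ⟨_, t, hs, _, e⟩ => e ▸ ok.toOK.xG_mem_pos hs t

theorem Up_sup_root {i : ℕ} (hi : i < D.rank) : ok.Up F i ⊔ D.rootSubgroup F (T.smp i) = D.posUnipotent F := by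
  have hpos : D.IsPosRoot (T.smp i) :=
    ok.toOK.isPos_iff.mpr ⟨ok.toOK.smp_lt hi, by rw [(ok.toOK.smp_spec hi).1]; norm_num⟩
  refine le_antisymm (sup_le ok.Up_le fun x hx => ?_) ((Subgroup.closure_le _).mpr fun g ⟨s, t, hs, hg⟩ => ?_)
  · obtain ⟨t, rfl⟩ := ok.toOK.mem_root.mp hx
    exact ok.toOK.xG_mem_pos hpos t
  · rw [ok.toOK.eq_xG hg]
    by_cases e : s = T.smp i
    · exact Subgroup.mem_sup_right (e ▸ ok.toOK.xG_mem_root s t)
    · exact Subgroup.mem_sup_left (Subgroup.subset_closure ⟨s, t, hs, e, rfl⟩)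

theorem mem_pos_split {i : ℕ} (hi : i < D.rank) {g : GL D.Idx F} (hg : g ∈ D.posUnipotent F) :
    ∃ u ∈ ok.Up F i, ∃ t : F, g = u * ok.toOK.xG (T.smp i) t := by
  have hn : D.rootSubgroup F (T.smp i) ≤ Subgroup.normalizer (ok.Up F i : Set (GL D.Idx F)) := fun x hx => by
    obtain ⟨t, rfl⟩ := ok.toOK.mem_root.mp hx
    exact ok.pm_normalizes_Up hi (Or.inl rfl) t
  rw [← ok.Up_sup_root hi, ← SetLike.mem_coe, Subgroup.coe_mul_of_right_le_normalizer_left _ _ hn] at hg
  obtain ⟨u, hu, x, hx, rfl⟩ := Set.mem_mul.mp hg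
  obtain ⟨t, rfl⟩ := ok.toOK.mem_root.mp hx
  exact ⟨u, hu, t, rfl⟩

theorem n_conj_Up {i : ℕ} (hi : i < D.rank) {u : GL D.Idx F} (hu : u ∈ ok.Up F i) :
    ok.toOK.nG (T.smp i) 1 * u * (ok.toOK.nG (T.smp i) 1)⁻¹ ∈ ok.Up F i := by
  induction hu using Subgroup.closure_induction with
  | mem x hx =>
    obtain ⟨s, t, hs, hne, rfl⟩ := hx
    obtain ⟨hs1, hs2⟩ := ok.toOK.isPos_iff.mp hs
    rw [ok.toOK.n_xG hi hs1]
    refine Subgroup.subset_closure ⟨_, _, ok.toOK.isPos_iff.mpr
      ⟨ok.toOK.refl_lt hi hs1, ok.toOK.refl_pos hi hs1 hne hs2⟩, fun e => ?_, rfl⟩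
    have e' := congrArg (T.refl i) e
    rw [ok.toOK.refl_refl hi hs1, (ok.toOK.smp_spec hi).2.2.1] at e'
    rw [e', ok.toOK.ht_neg (ok.toOK.smp_lt hi), (ok.toOK.smp_spec hi).1] at hs2
    omega
  | one => simp
  | mul a b _ _ ha hb => rw [← conj_mul]; exact mul_mem ha hb
  | inv a _ ha => rw [← conj_inv]; exact inv_mem ha

end OKX

end Cfsg.Agent.Chev
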