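import Cfsg.Agent.Lib.Chev.StAux
import Cfsg.Agent.Lib.Chev.AllX
import Cfsg.Agent.Lib.Chev.Unip
import Cfsg.Agent.Lib.Chev.RootCent

/-!
Elements of a Bruhat cell centralising root subgroups of the unipotent radical of a parabolic subgroup.
-/

set_option autoImplicit false
set_option maxRecDepth 20000

namespace Cfsg.Agent.Chev

open Cfsg.Lie Cfsg.Agent.BN

/-- Every fundamental reflection moves some positive root involving any other fundamental root. -/
noncomputable def Tabs.chkMoveLink (D : ChevalleyDatum) (T : Tabs) : Bool :=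
  allL (fun i => allL (fun j => orR (Nat.beq i j) (anyL (fun r => andR (ipos (T.htf r))
    (andR (notR (ieq (T.cC r i) 0)) (notR (ieq (T.cC (T.refl j r) j) (T.cC r j))))) (upTo D.nroots)))
    (upTo D.rank)) (upTo D.rank)

variable {F : Type*} [Field F] {D : ChevalleyDatum} {T : Tabs}

namespace OKX

variable (ok : OKX D T)

include ok

theorem link (hT : Tabs.chkMoveLink D T = true) {i j : ℕ} (hi : i < D.rank) (hj : j < D.rank) (hne : i ≠ j) :
    ∃ r < D.nroots, 0 < T.htf r ∧ T.cC r i ≠ 0 ∧ T.cC (T.refl j r) j ≠ T.cC r j := by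
  simp only [Tabs.chkMoveLink, allL_iff, upTo_eq, List.mem_range, orR_iff, anyL_iff, andR_iff, ipos_iff, notR_iff,
    Nat.beq_eq] at hT
  rcases hT i hi j hj with h | ⟨r, hr, h0, h1, h2⟩
  · exact absurd h hne
  · refine ⟨r, hr, h0, fun e => ?_, fun e => ?_⟩
    · rw [Bool.eq_false_iff, Ne, ieq_iff] at h1; exact h1 e
    · rw [Bool.eq_false_iff, Ne, ieq_iff] at h2; exact h2 e

theorem pos_le_normalizer_K {r : ℕ} (hr : D.IsPosRoot r) :
    ok.toOK.xG r (1 : F) ∈ ok.K F r ∧
      ∀ u ∈ D.posUnipotent F, u ∈ Subgroup.normalizer (ok.K F (r + 1) : Set (GL D.Idx F)) := by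
  refine ⟨ok.xG_mem_K hr le_rfl 1, fun u hu => ?_⟩
  refine (Subgroup.closure_le _).mpr ?_ hu
  rintro g ⟨q, t, hq, e⟩
  rw [ok.toOK.eq_xG e]
  rcases Nat.lt_or_ge q (r + 1) with h | h
  · exact ok.xG_normalizes_K hq h t
  · exact Subgroup.le_normalizer (ok.xG_mem_K hq h t)

/-- Conjugation by the unipotent group fixes a root element modulo the later root subgroups. -/
theorem conj_root_K {r : ℕ} (hr : D.IsPosRoot r) {u : GL D.Idx F} (hu : u ∈ D.posUnipotent F) (a : F) :
    (ok.toOK.xG r a)⁻¹ * (u * ok.toOK.xG r a * u⁻¹) ∈ ok.K F (r + 1) := by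
  obtain ⟨hr1, hr2⟩ := ok.isPos_iff_half.mp hr
  have hn := (ok.pos_le_normalizer_K (F := F) hr).2
  induction hu using Subgroup.closure_induction with
  | mem g hg =>
    obtain ⟨q, t, hq, e⟩ := hg
    rw [ok.toOK.eq_xG e]
    obtain ⟨hq1, hq2⟩ := ok.isPos_iff_half.mp hq
    by_cases hqr : r = q
    · subst hqr
      rw [show ok.toOK.xG r t * ok.toOK.xG r a * (ok.toOK.xG r t)⁻¹ = ok.toOK.xG r a by
        rw [ok.toOK.xG_mul, add_comm t a, ← ok.toOK.xG_mul, mul_inv_cancel_right], inv_mul_cancel]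
      exact one_mem _
    · have h2 : r ≠ T.neg q := by
        rw [ok.neg_eq_sub hq2]; have := ok.two_half; omega
      have e2 : ok.toOK.xG r a * ok.toOK.xG q t =
          ok.toOK.xG q t * ok.toOK.xG r a * ok.toOK.wordG (D.commWord F q r t a) := by
        refine Units.ext ?_
        rw [Units.val_mul, Units.val_mul, Units.val_mul, OK.coe_wordG]
        exact ok.toOK.comm hq2 hr2 hqr (by rwa [ok.toOK.neg_eq hq2]) t a
      set W := ok.toOK.wordG (D.commWord F q r t a) with hW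
      have hWK : W ∈ ok.K F (r + 1) := by
        refine list_prod_mem fun x hx => ?_
        obtain ⟨p, hp, rfl⟩ := List.mem_map.mp hx
        simp only [ChevalleyDatum.commWord, ok.toOK.terms_eq hq2 hr2, List.mem_map] at hp
        obtain ⟨w, hw, rfl⟩ := hp
        have := ok.terms_up hq2 hq1 hr2 hr1 hw
        exact ok.xG_mem_K (ok.isPos_iff_half.mpr ⟨by omega, (ok.toOK.term_spec hq2 hr2 hw).1⟩) (by omega) _
      have e3 : (ok.toOK.xG r a)⁻¹ * (ok.toOK.xG q t * ok.toOK.xG r a * (ok.toOK.xG q t)⁻¹) =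
          ok.toOK.xG q t * W⁻¹ * (ok.toOK.xG q t)⁻¹ := by
        have e4 : ok.toOK.xG q t * ok.toOK.xG r a = ok.toOK.xG r a * ok.toOK.xG q t * W⁻¹ := by
          rw [e2, mul_inv_cancel_right]
        rw [e4]; simp [mul_assoc]
      rw [e3]
      exact (Subgroup.mem_normalizer_iff.mp (hn _ (ok.toOK.xG_mem_pos hq t)) _).mp (inv_mem hWK)
  | one => simp
  | mul x y hx _ hx' hy' =>
    have h1 := (Subgroup.mem_normalizer_iff.mp (hn x hx) _).mp hy'
    have := mul_mem hx' h1
    simpa [mul_assoc] using this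
  | inv x hx hx' =>
    have h1 := (Subgroup.mem_normalizer_iff.mp (hn _ (inv_mem hx)) _).mp (inv_mem hx')
    simpa [mul_assoc] using h1

/-- A root element conjugate to a root element by the unipotent group has the same root. -/
theorem eq_of_conj {r s : ℕ} (hr : D.IsPosRoot r) (hs : D.IsPosRoot s) {u : GL D.Idx F} (hu : u ∈ D.posUnipotent F)
    {a c : F} (ha : a ≠ 0) (hc : c ≠ 0) (h : u * ok.toOK.xG r a * u⁻¹ = ok.toOK.xG s c) : r = s ∧ a = c := by
  obtain ⟨hr1, hr2⟩ := ok.isPos_iff_half.mp hr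
  obtain ⟨hs1, hs2⟩ := ok.isPos_iff_half.mp hs
  have h1 := ok.conj_root_K hr hu a
  rw [h] at h1
  rcases Nat.lt_trichotomy r s with hlt | rfl | hlt
  · exfalso
    have h2 : ok.toOK.xG r (-a) ∈ ok.K F (r + 1) := by
      have := mul_mem h1 (inv_mem (ok.xG_mem_K (F := F) hs (show r + 1 ≤ s by omega) c))
      rwa [mul_inv_cancel_right, ok.toOK.xG_inv] at this
    exact ha (neg_eq_zero.mp (ok.K_split_unique hr1 hr2 h2))
  · refine ⟨rfl, ?_⟩
    rw [ok.toOK.xG_inv, ok.toOK.xG_mul] at h1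
    have := ok.K_split_unique hr1 hr2 h1
    linear_combination -this
  · exfalso
    have h2 : ok.toOK.xG s c ∈ ok.K F (s + 1) := by
      have := mul_mem (ok.xG_mem_K (F := F) hr (show s + 1 ≤ r by omega) a) (ok.K_mono (show s + 1 ≤ r + 1 by omega) h1)
      rwa [mul_inv_cancel_left] at this
    exact hc (ok.K_split_unique hs1 hs2 h2)

/-- A diagonal element which acts on every positive root subgroup as an element of the unipotent group is trivial. -/
theorem diag_eq_one {t : GL D.Idx F} (ht : t ∈ D.diagonalSubgroup F) {u : GL D.Idx F} (hu : u ∈ D.posUnipotent F)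
    (h : ∀ r, D.IsPosRoot r → (t * u) * ok.toOK.xG r 1 * (t * u)⁻¹ = ok.toOK.xG r 1) : t = 1 := by
  obtain ⟨c, hc, rfl⟩ := ok.toOK.mem_diag.mp ht
  set κ : ℕ → F := fun r => ∏ i ∈ Finset.range D.rank, c i ^ T.cA i r with hκ
  have hκ0 : ∀ r, κ r ≠ 0 := fun r =>
    Finset.prod_ne_zero_iff.mpr fun i hi => zpow_ne_zero _ (hc i (Finset.mem_range.mp hi))
  have hpos : ∀ r < D.nroots, 0 < T.htf r → κ r = 1 := by
    intro r hr h0
    have hp : D.IsPosRoot r := ok.toOK.isPos_iff.mpr ⟨hr, h0⟩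
    have e1 := h r hp
    have e2 : u * ok.toOK.xG r 1 * u⁻¹ = ok.toOK.xG r (κ r)⁻¹ := by
      have e4 := ok.toOK.torG_xG hc hr (κ r)⁻¹
      rw [show (∏ i ∈ Finset.range D.rank, c i ^ T.cA i r) = κ r from rfl, mul_inv_cancel₀ (hκ0 r)] at e4
      have e3 : ok.toOK.torG c * (u * ok.toOK.xG r 1 * u⁻¹) * (ok.toOK.torG c)⁻¹ =
          ok.toOK.torG c * ok.toOK.xG r (κ r)⁻¹ * (ok.toOK.torG c)⁻¹ := by
        rw [e4]
        conv_rhs => rw [← e1]
        simp [mul_assoc]
      exact mul_left_cancel (mul_right_cancel e3)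
    exact inv_eq_one.mp (ok.eq_of_conj hp hp hu one_ne_zero (inv_ne_zero (hκ0 r)) e2).2.symm
  refine Units.ext ?_
  rw [ok.toOK.coe_torG hc, Units.val_one, ← Matrix.diagonal_one]
  congr 1
  funext z
  rcases z with z | z
  · rfl
  · simp only [Sum.elim_inr]
    show κ z = 1
    rcases lt_or_gt_of_ne (ok.toOK.ht_ne z.isLt) with h0 | h0
    · have hn := ok.toOK.neg_lt z.isLt
      have h1 := hpos _ hn (by rw [ok.toOK.ht_neg z.isLt]; omega)
      have h2 : κ (T.neg z) = (κ z)⁻¹ := by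
        simp only [hκ, ← Finset.prod_inv_distrib]
        exact Finset.prod_congr rfl fun i hi => by
          rw [ok.toOK.cA_neg z.isLt (Finset.mem_range.mp hi), zpow_neg]
      rw [h2, inv_eq_one] at h1
      exact h1
    · exact hpos _ z.isLt h0

/-- An element of a proper parabolic part of the Weyl group fixing the other positive roots is trivial. -/
theorem pos_of_fix (hT : Tabs.chkMoveLink D T = true) {J : Finset ℕ} (hJ : J ⊆ Finset.range D.rank) {i : ℕ}
    (hi : i < D.rank) (hiJ : i ∉ J) {v : List ℕ} (hv : ∀ l ∈ v, l ∈ J)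
    (hfix : ∀ r < D.nroots, 0 < T.htf r → ¬ SuppIn D T J r → piW T v r = r) :
    ∀ r < D.nroots, 0 < T.htf r → 0 < T.htf (piW T v r) := by
  have hvr : ∀ l ∈ v, l < D.rank := fun l hl => Finset.mem_range.mp (hJ (hv l hl))
  intro r hr h0
  refine ok.pos_of_simple hvr (fun j hj => ?_) hr h0
  have hp := ok.toOK.smp_lt hj
  suffices h : 0 < T.htf (piW T v (T.smp j)) by omega
  by_cases hne : i = j
  · subst hne
    rw [hfix _ hp (by rw [(ok.toOK.smp_spec hj).1]; omega)
      (fun hS => by have := hS i hj hiJ; rw [ok.toOK.cC_smp hj hj, if_pos rfl] at this; exact one_ne_zero this),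
      (ok.toOK.smp_spec hj).1]
    omega
  obtain ⟨s, hs, hs0, hsi, hmv⟩ := ok.link hT hi hj hne
  have hs' := ok.toOK.refl_lt hj hs
  have hsupp : ¬ SuppIn D T J s := fun hS => hsi (hS i hi hiJ)
  have hci : T.cC (T.refl j s) i = T.cC s i := by rw [ok.toOK.cC_refl hj hi hs, if_neg hne, sub_zero]
  have hs'0 : 0 < T.htf (T.refl j s) := by
    by_contra hc
    have hneg : D.IsNegRoot (T.refl j s) := ok.toOK.isNeg_iff.mpr ⟨hs', by have := ok.toOK.ht_ne hs'; omega⟩
    have h2 := hneg.2 _ (by rw [ok.toOK.coroot_list hs']; exact List.mem_map.mpr ⟨i, List.mem_range.mpr hi, rfl⟩)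
    have h3 := ((ok.toOK.isPos_iff (r := s)).mpr ⟨hs, hs0⟩).2 _
      (by rw [ok.toOK.coroot_list hs]; exact List.mem_map.mpr ⟨i, List.mem_range.mpr hi, rfl⟩)
    omega
  have hsupp' : ¬ SuppIn D T J (T.refl j s) := fun hS => hsi (hci ▸ hS i hi hiJ)
  set m := T.pair D j s with hm
  have hm0 : m ≠ 0 := fun h => hmv (by rw [ok.toOK.cC_refl hj hj hs, if_pos rfl, ← hm, h, sub_zero])
  have key : ∀ k < D.rank, T.cC (piW T v (T.smp j)) k = T.cC (T.smp j) k := by
    intro k hk
    have e1 := ok.cC_piW hvr hs hk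
    have e2 := ok.cC_piW hvr hs' hk
    rw [hfix _ hs hs0 hsupp] at e1
    rw [hfix _ hs' hs'0 hsupp', Finset.sum_congr rfl fun l hl => by
      rw [ok.toOK.cC_refl hj (Finset.mem_range.mp hl) hs, sub_mul]] at e2
    rw [Finset.sum_sub_distrib, ← e1, ok.toOK.cC_refl hj hk hs] at e2
    simp only [ite_mul, zero_mul, Finset.sum_ite_eq', Finset.mem_range, hj, if_true, ← hm] at e2
    have e3 : m * T.cC (piW T v (T.smp j)) k = m * T.cC (T.smp j) k := by
      rw [ok.toOK.cC_smp hj hk]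
      by_cases hkj : k = j
      · rw [if_pos hkj] at e2 ⊢; linarith
      · rw [if_neg hkj] at e2 ⊢; linarith
    exact mul_left_cancel₀ hm0 e3
  have hlt := ok.piW_lt hvr hp
  by_contra hc
  have hneg : D.IsNegRoot (piW T v (T.smp j)) := ok.toOK.isNeg_iff.mpr ⟨hlt, by have := ok.toOK.ht_ne hlt; omega⟩
  have h2 := hneg.2 _ (by rw [ok.toOK.coroot_list hlt]; exact List.mem_map.mpr ⟨j, List.mem_range.mpr hj, rfl⟩)
  rw [key j hj, ok.toOK.cC_smp hj hj, if_pos rfl] at h2
  omega

end OKX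

theorem G2.link_ok : Tabs.chkMoveLink chevG2 G2.T = true := by decide +kernel
theorem F4.link_ok : Tabs.chkMoveLink chevF4 F4.T = true := by decide +kernel
theorem E8.link_ok : Tabs.chkMoveLink chevE8 E8.T = true := by decide +kernel

end Cfsg.Agent.Chev
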