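import Cfsg.Agent.Lib.Chev.DefectZero
import Cfsg.Agent.Lib.Chev.FixRoots
import Cfsg.Agent.Lib.BN.HeckeEigen
import Cfsg.Agent.Lib.Block.OmegaVector
import Cfsg.Agent.Lib.Block.TorChars

/-!
A Chevalley group has two blocks in the defining characteristic.
-/

set_option autoImplicit false
set_option linter.style.haveILetI false

namespace Cfsg.Agent.Chev

open Cfsg Cfsg.Lie Cfsg.Agent.BN Cfsg.Agent.Char Cfsg.Agent.Block

variable {F : Type*} [Field F] {D : ChevalleyDatum} {T : Tabs}

namespace OKX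

variable (ok : OKX D T)

include ok

open Classical in
/-- An element of a cell centralising the fixed part of the unipotent group, in a proper parabolic part, is one. -/
theorem eq_one_of_cell (hT : Tabs.chkMoveLink D T = true) {J : Finset ℕ} (hJ : J ⊆ Finset.range D.rank) {i₀ : ℕ}
    (hi₀ : i₀ < D.rank) (hiJ : i₀ ∉ J) {n : ↥(D.group F)} (hn : n ∈ (ok.bnPair (F := F)).N) {v : List ℕ}
    (hv : ∀ l ∈ v, l ∈ J) (e : Eqv (ok.bnPair (F := F)) (ok.gE F v) n) {u : ↥(D.group F)} (hu : u ∈ UG D F)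
    (hfix : ∀ y ∈ UG D F, n⁻¹ * y * n ∈ UG D F → y * (n * u) * y⁻¹ = n * u) : n = 1 := by
  have hvr : ∀ l ∈ v, l < D.rank := fun l hl => Finset.mem_range.mp (hJ (hv l hl))
  have e' := ok.eqv_iff.mp e
  rw [ok.coe_gE] at e'
  set W := ok.toOK.gW F v with hW
  set τ := W⁻¹ * (n : GL D.Idx F) with hτ
  have hnW : (n : GL D.Idx F) = W * τ := by simp [hτ]
  have hconj : ∀ r < D.nroots, ∃ c : F, c ≠ 0 ∧
      (n : GL D.Idx F) * ok.toOK.xG r 1 * (n : GL D.Idx F)⁻¹ = ok.toOK.xG (piW T v r) c := by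
    intro r hr
    obtain ⟨a, ha, h1⟩ := ok.toOK.diag_conj_xG e' hr (1 : F)
    obtain ⟨b, hb, h2⟩ := (ok.toOK.act_gW (F := F) v hvr).2.1 r hr
    refine ⟨b * (a * 1), mul_ne_zero hb (mul_ne_zero ha one_ne_zero), ?_⟩
    rw [← (h2 _).1, ← h1, ← hW, hnW]
    simp [mul_assoc]
  have hfix' : ∀ r < D.nroots, 0 < T.htf r → ¬ SuppIn D T J r → piW T v r = r := by
    intro r hr h0 hrJ
    have hp : D.IsPosRoot r := ok.toOK.isPos_iff.mpr ⟨hr, h0⟩
    have hs0 := ok.pos_of_not_supp hJ hv hr hrJ h0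
    have hs : D.IsPosRoot (piW T v r) := ok.toOK.isPos_iff.mpr ⟨ok.piW_lt hvr hr, hs0⟩
    obtain ⟨c, hc, hnc⟩ := hconj r hr
    set y : ↥(D.group F) := n * ok.xS r 1 * n⁻¹ with hy
    have hy1 : (y : GL D.Idx F) = ok.toOK.xG (piW T v r) c := hnc
    have hyU : y ∈ UG D F := by
      show (y : GL D.Idx F) ∈ D.posUnipotent F
      rw [hy1]; exact ok.toOK.xG_mem_pos hs c
    have h := hfix y hyU (by rw [hy]; simpa [mul_assoc] using ok.xS_mem hp (1 : F))
    have h' : u * y * u⁻¹ = ok.xS r 1 := by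
      have h2 : y * (n * u) = n * u * y := mul_inv_eq_iff_eq_mul.mp h
      have h3 : n⁻¹ * y * n = ok.xS r 1 := by rw [hy]; simp [mul_assoc]
      calc u * y * u⁻¹ = n⁻¹ * (n * u * y) * u⁻¹ := by simp [mul_assoc]
        _ = n⁻¹ * y * n := by rw [← h2]; simp [mul_assoc]
        _ = _ := h3
    have h4 : (u : GL D.Idx F) * ok.toOK.xG (piW T v r) c * (u : GL D.Idx F)⁻¹ = ok.toOK.xG r 1 := by
      rw [← hy1]
      exact congrArg Subtype.val h'
    exact (ok.eq_of_conj hs hp hu hc one_ne_zero h4).1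
  have hpos := ok.pos_of_fix hT hJ hi₀ hiJ hv hfix'
  have hn' : Eqv (ok.bnPair (F := F)) 1 n := eqv_trans (ok.eqv_one_of_pos hvr hpos) e
  have htor : n ∈ tor (ok.bnPair (F := F)) := by
    have : (1 : ↥(D.group F))⁻¹ * n ∈ tor (ok.bnPair (F := F)) := hn'
    simpa using this
  refine Subtype.ext (ok.diag_eq_one (ok.mem_tor_iff.mp htor) (show (u : GL D.Idx F) ∈ D.posUnipotent F from hu)
    fun r hr => ?_)
  have h := hfix (ok.xS r 1) (ok.xS_mem hr 1) (ok.tor_conj' htor (ok.xS_mem hr 1))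
  have h' : n * u * ok.xS r 1 * (n * u)⁻¹ = ok.xS r 1 := by
    have h2 : ok.xS r 1 * (n * u) = n * u * ok.xS r 1 := mul_inv_eq_iff_eq_mul.mp h
    rw [← h2, mul_inv_cancel_right]
  exact congrArg Subtype.val h'

open Classical in
/-- The class sums on the cosets of the unipotent group. -/
theorem omega_two_values [Fintype F] (hT : Tabs.chkMoveLink D T = true) (p : ℕ) [Fact p.Prime] [CharP F p]
    {M : Ideal AlgInt} [M.IsPrime] (hM : IsPModular p M) [Fintype ↥(D.group F)]
    [Fintype (↥(D.group F) ⧸ UG D F)] [Fintype ↥(ok.bnPair (F := F)).N] (χ : IrrCharacter ↥(D.group F)) :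
    (∀ g : ↥(D.group F), resC M (centralChar (χ : ↥(D.group F) → ℂ) g) =
      ∑ n : ↥(ok.bnPair (F := F)).N, ((Finset.univ.filter fun h : ↥(D.group F) => IsConj g h ∧
        (n : ↥(D.group F))⁻¹ * h ∈ UG D F).card : ResK M) *
          (-1) ^ len (ok.bnPair (F := F)) (n : ↥(D.group F))) ∨
    ∀ g : ↥(D.group F), resC M (centralChar (χ : ↥(D.group F) → ℂ) g) =
      ((Finset.univ.filter fun h : ↥(D.group F) => IsConj g h ∧ h ∈ UG D F).card : ResK M) := by
  have hp : p.Prime := Fact.out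
  haveI := locRing_charP hM.1 hM.2.2
  haveI := Fintype.ofFinite ↥(tor (ok.bnPair (F := F)))
  obtain ⟨S, hS⟩ := ok.sylow_pos (F := F) p
  have hUp : IsPGroup p ↥(UG D F) := by rw [UG, ← hS]; exact S.isPGroup'
  obtain ⟨n₀, hn₀, hlen, -⟩ := ok.exists_top (F := F)
  have d := ok.hRel hn₀ hlen (ResK M)
  have hqp : p ∣ Fintype.card F := by
    obtain ⟨m, -, e⟩ := FiniteField.card F p
    rw [e]; exact dvd_pow_self p m.ne_zero
  have hq0 : (Fintype.card F : ResK M) = 0 := (CharP.cast_eq_zero_iff _ p _).mpr hqp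
  have hΓ : (Fintype.card Fˣ : ResK M) = -1 := by
    have : 0 < Fintype.card F := Fintype.card_pos
    rw [eq_neg_iff_add_eq_zero, ← hq0, Fintype.card_units]
    norm_cast
    congr 1
    omega
  have hcomm : ∀ x y : ↥(tor (ok.bnPair (F := F))), x * y = y * x := fun x y =>
    Subtype.ext (d.comm _ x.2 _ y.2)
  haveI := Fintype.ofFinite (IrrCharacter ↥(tor (ok.bnPair (F := F))))
  obtain ⟨ℓs, hℓs⟩ := exists_reduced_chars (M := M) hcomm
  have htor0 : (Nat.card ↥(tor (ok.bnPair (F := F))) : ResK M) ≠ 0 := fun h =>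
    ok.not_dvd_card_tor p ((CharP.cast_eq_zero_iff _ p _).mp h)
  -- the space on which the class sums act by the central character
  set ω : ↥(D.group F) → ResK M := fun g => resC M (centralChar (χ : ↥(D.group F) → ℂ) g) with hω
  let A : ↥(D.group F) → Matrix (↥(D.group F) ⧸ UG D F) (↥(D.group F) ⧸ UG D F) (ResK M) := fun g =>
    Matrix.of fun y z => ((Finset.univ.filter fun h : ↥(D.group F) => IsConj g h ∧ h • y = z).card : ResK M)
  have hAv : ∀ g v (z : ↥(D.group F) ⧸ UG D F), Matrix.mulVec (A g) v z =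
      ∑ h ∈ Finset.univ.filter (IsConj g), v (h • z) := by
    intro g v z
    show ∑ y, _ * v y = _
    rw [← Finset.sum_fiberwise (Finset.univ.filter (IsConj g)) (fun h => h • z) (fun h => v (h • z))]
    refine Finset.sum_congr rfl fun y _ => ?_
    rw [Finset.sum_congr rfl (g := fun _ => v y) fun h hh => by rw [(Finset.mem_filter.mp hh).2],
      Finset.sum_const, Finset.filter_filter, nsmul_eq_mul]
    rfl
  have hAinv : ∀ g, IsInv (UG D F) (A g) := by
    intro g a y z
    show ((Finset.univ.filter _).card : ResK M) = _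
    congr 1
    refine Finset.card_nbij' (fun h => a⁻¹ * h * a) (fun h => a * h * a⁻¹) ?_ ?_ ?_ ?_
    · intro h hh
      simp only [Finset.mem_coe, Finset.mem_filter, Finset.mem_univ, true_and] at hh ⊢
      refine ⟨hh.1.trans (isConj_iff.2 ⟨a⁻¹, by simp⟩), ?_⟩
      rw [mul_smul, mul_smul, hh.2, inv_smul_smul]
    · intro h hh
      simp only [Finset.mem_coe, Finset.mem_filter, Finset.mem_univ, true_and] at hh ⊢
      refine ⟨hh.1.trans (isConj_iff.2 ⟨a, rfl⟩), ?_⟩
      rw [mul_smul, mul_smul, inv_smul_smul, hh.2]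
    · intro h _; simp [mul_assoc]
    · intro h _; simp [mul_assoc]
  let V : Submodule (ResK M) (↥(D.group F) ⧸ UG D F → ResK M) :=
    { carrier := {v | ∀ g, Matrix.mulVec (A g) v = ω g • v}
      zero_mem' := fun g => by simp
      add_mem' := fun {a b} ha hb g => by rw [Matrix.mulVec_add, ha g, hb g, smul_add]
      smul_mem' := fun c a ha g => by rw [Matrix.mulVec_smul, ha g, smul_comm] }
  have hV : ∀ B, IsInv (UG D F) B → ∀ v ∈ V, Matrix.mulVec B v ∈ V := by
    intro B hB v hv g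
    have hc : A g * B = B * A g := by
      ext y z
      simp only [Matrix.mul_apply]
      have hy : ∀ w, A g y w = ∑ h ∈ Finset.univ.filter (IsConj g), if h • y = w then (1 : ResK M) else 0 :=
        fun w => by rw [Finset.sum_boole, Finset.filter_filter]; rfl
      have hz : ∀ w, A g w z = ∑ h ∈ Finset.univ.filter (IsConj g), if h • w = z then (1 : ResK M) else 0 :=
        fun w => by rw [Finset.sum_boole, Finset.filter_filter]; rfl
      simp only [hy, hz, Finset.sum_mul, Finset.mul_sum]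
      rw [Finset.sum_comm]
      conv_rhs => rw [Finset.sum_comm]
      refine Finset.sum_congr rfl fun h _ => ?_
      simp only [ite_mul, one_mul, zero_mul, mul_ite, mul_one, mul_zero, Finset.sum_ite_eq, Finset.mem_univ, if_true]
      rw [Finset.sum_eq_single (h⁻¹ • z) (fun w _ hw => if_neg fun e => hw (by rw [← e, inv_smul_smul]))
        (fun hh => absurd (Finset.mem_univ _) hh), if_pos (smul_inv_smul h z)]
      rw [← hB h y (h⁻¹ • z), smul_inv_smul]
    rw [Matrix.mulVec_mulVec, hc, ← Matrix.mulVec_mulVec, hv g, Matrix.mulVec_smul]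
  obtain ⟨v₀, hv₀, hv₀e⟩ := exists_omega_vec hM hUp χ
  have hne : V ≠ ⊥ := (Submodule.ne_bot_iff _).mpr ⟨v₀, fun g => funext fun z => by
    rw [hAv, hv₀e, Pi.smul_apply, smul_eq_mul], hv₀⟩
  obtain ⟨v, hv, hv0, ψ, hψ, hcase⟩ := exists_eigen d hq0 hΓ htor0 ℓs (fun a b => by convert hℓs a b) V hV hne
  have hωψ : ∀ g, ω g = ∑ n : ↥(ok.bnPair (F := F)).N,
      mval (UG D F) (A g) (n : ↥(D.group F)) * ψ (n : ↥(D.group F)) := by
    intro g
    refine smul_left_injective (ResK M) hv0 ?_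
    simp only
    rw [← hv g, Finset.sum_smul]
    conv_lhs => rw [decomp d.cover (hAinv g)]
    rw [Matrix.sum_mulVec]
    exact Finset.sum_congr rfl fun n _ => by rw [Matrix.smul_mulVec, hψ _ n.2, smul_smul]
  have hmv : ∀ g (n : ↥(D.group F)), mval (UG D F) (A g) n =
      ((Finset.univ.filter fun h : ↥(D.group F) => IsConj g h ∧ n⁻¹ * h ∈ UG D F).card : ResK M) := by
    intro g n
    show ((Finset.univ.filter _).card : ResK M) = _
    congr 2
    refine Finset.filter_congr fun h _ => and_congr_right fun _ => ?_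
    rw [MulAction.Quotient.smul_mk, smul_eq_mul, mul_one, eq_comm, QuotientGroup.eq]
  rcases hcase with hsgn | ⟨J, hJS, ⟨s₀, hs₀, hs₀J⟩, hJ⟩
  · exact Or.inl fun g => by
      show ω g = _
      rw [hωψ g]
      exact Finset.sum_congr rfl fun n _ => by rw [hmv, hsgn _ n.2]
  refine Or.inr fun g => ?_
  show ω g = _
  rw [hωψ g, Finset.sum_eq_single (1 : ↥(ok.bnPair (F := F)).N)]
  · have h1 : ψ ((1 : ↥(ok.bnPair (F := F)).N) : ↥(D.group F)) = 1 := by
      refine smul_left_injective (ResK M) hv0 ?_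
      simp only
      rw [Subgroup.coe_one, ← hψ 1 (one_mem _), dmat_one d, Matrix.one_mulVec, one_smul]
    rw [h1, mul_one, hmv]
    simp
  · intro n _ hn1
    by_cases hψn : ψ (n : ↥(D.group F)) = 0
    · rw [hψn, mul_zero]
    rw [hmv]
    refine mul_eq_zero_of_left ?_ _
    by_contra hcard
    -- a point fixed by the part of the unipotent group normalising the coset
    set Q : Subgroup ↥(D.group F) :=
      UG D F ⊓ (UG D F).map (MulAut.conj (n : ↥(D.group F))).toMonoidHom with hQ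
    have hmemQ : ∀ y, y ∈ Q ↔ y ∈ UG D F ∧ (n : ↥(D.group F))⁻¹ * y * n ∈ UG D F := by
      intro y
      rw [hQ, Subgroup.mem_inf, Subgroup.mem_map]
      refine and_congr_right fun _ => ⟨?_, fun h => ⟨_, h, by simp [mul_assoc]⟩⟩
      rintro ⟨x, hx, rfl⟩
      simpa [mul_assoc] using hx
    have hQp : IsPGroup p ↥Q := hUp.to_le inf_le_left
    let X := {h : ↥(D.group F) // IsConj g h ∧ (n : ↥(D.group F))⁻¹ * h ∈ UG D F}
    letI : MulAction ↥Q X :=
      { smul := fun y h => ⟨(y : ↥(D.group F)) * h.1 * (y : ↥(D.group F))⁻¹,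
          h.2.1.trans (isConj_iff.2 ⟨y, rfl⟩), by
            have h1 := ((hmemQ _).1 y.2)
            have e : (n : ↥(D.group F))⁻¹ * ((y : ↥(D.group F)) * h.1 * (y : ↥(D.group F))⁻¹) =
                ((n : ↥(D.group F))⁻¹ * y * n) * ((n : ↥(D.group F))⁻¹ * h.1) * (y : ↥(D.group F))⁻¹ := by
              simp [mul_assoc]
            rw [e]
            exact mul_mem (mul_mem h1.2 h.2.2) (inv_mem h1.1)⟩
        one_smul := fun h => Subtype.ext (by
          show ((1 : ↥Q) : ↥(D.group F)) * h.1 * ((1 : ↥Q) : ↥(D.group F))⁻¹ = h.1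
          simp)
        mul_smul := fun a b h => Subtype.ext (by
          show ((a * b : ↥Q) : ↥(D.group F)) * h.1 * ((a * b : ↥Q) : ↥(D.group F))⁻¹ =
            (a : ↥(D.group F)) * ((b : ↥(D.group F)) * h.1 * (b : ↥(D.group F))⁻¹) * (a : ↥(D.group F))⁻¹
          simp [mul_assoc]) }
    have hne' : (MulAction.fixedPoints ↥Q X).Nonempty := by
      by_contra hemp
      rw [Set.not_nonempty_iff_eq_empty] at hemp
      have hmod := hQp.card_modEq_card_fixedPoints (α := X)
      rw [hemp, Nat.card_eq_fintype_card (α := (∅ : Set X)), Fintype.card_of_isEmpty] at hmod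
      refine hcard ((CharP.cast_eq_zero_iff _ p _).mpr ?_)
      rw [← Fintype.card_subtype, ← Nat.card_eq_fintype_card]
      exact Nat.modEq_zero_iff_dvd.mp hmod
    obtain ⟨⟨h, hgh, hnh⟩, hh⟩ := hne'
    obtain ⟨l, hl, hle⟩ := hJ _ n.2 hψn
    have hlS : IsWord (ok.sG F '' {i | i < D.rank ∧ ok.sG F i ∈ J}) l := fun x hx => by
      obtain ⟨i, hi, rfl⟩ := ok.mem_S.mp (hJS (hl x hx))
      exact ⟨i, ⟨hi, hl _ hx⟩, rfl⟩
    obtain ⟨w, hw, -, ew⟩ := ok.exists_indices hlS
    obtain ⟨i₀, hi₀, rfl⟩ := ok.mem_S.mp hs₀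
    set J' : Finset ℕ := (Finset.range D.rank).filter fun i => ok.sG F i ∈ J with hJ'
    refine hn1 (Subtype.ext ?_)
    refine ok.eq_one_of_cell hT (J := J') (Finset.filter_subset _ _) hi₀
      (fun hh' => hs₀J (Finset.mem_filter.mp hh').2) n.2
      (fun i hi => Finset.mem_filter.mpr ⟨Finset.mem_range.mpr (hw i hi).1, (hw i hi).2⟩)
      (ew ▸ hle) hnh fun y hy hy' => ?_
    rw [mul_inv_cancel_left]
    exact congrArg Subtype.val (hh ⟨y, (hmemQ y).2 ⟨hy, hy'⟩⟩)
  · exact fun h => absurd (Finset.mem_univ _) h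

/-- A Chevalley group has exactly two blocks in the defining characteristic. -/
theorem card_pBlocks [Fintype F] (hT : Tabs.chkMoveLink D T = true) (h0 : 0 < D.nroots / 2) (p : ℕ) [Fact p.Prime]
    [CharP F p] (M : Ideal AlgInt) (hM : IsPModular p M) :
    Nat.card {B : Set (IrrCharacter ↥(D.group F)) // IsPBlock M B} = 2 := by
  classical
  haveI : Finite (GL D.Idx F) := Finite.of_injective _ Units.val_injective
  haveI : Finite ↥(D.group F) := Subtype.finite
  haveI := Fintype.ofFinite ↥(D.group F)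
  haveI := Fintype.ofFinite (↥(D.group F) ⧸ UG D F)
  haveI := Fintype.ofFinite ↥(ok.bnPair (F := F)).N
  haveI := prime_of_isPModular hM
  have hp : p.Prime := Fact.out
  set st : IrrCharacter ↥(D.group F) := ⟨D.steinbergCharacter F, ok.steinberg_irr⟩ with hst
  set one : IrrCharacter ↥(D.group F) := ⟨1, isIrrCharacter_one⟩ with hone
  have hdeg : charDegree (st : ↥(D.group F) → ℂ) = p ^ (Nat.card ↥(D.group F)).factorization p := by
    have h := charDegree_cast (IsIrrCharacter.isCharacter (ok.steinberg_irr (F := F)))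
    rw [ok.steinberg_one, ← Nat.cast_pow, Nat.cast_inj] at h
    rw [ok.factorization_card p]
    exact h
  have hsing : blockOf M (st : ↥(D.group F) → ℂ) = {st} := blockOf_eq_singleton hM st (by
    rw [hdeg]; exact Nat.not_dvd_ordCompl hp Nat.card_pos.ne')
  have hne : one ∉ blockOf M (st : ↥(D.group F) → ℂ) := by
    rw [hsing, Set.mem_singleton_iff]
    intro h
    have h1 : (one : ↥(D.group F) → ℂ) 1 = (st : ↥(D.group F) → ℂ) 1 := by rw [h]
    change (1 : ℂ) = D.steinbergCharacter F 1 at h1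
    rw [ok.steinberg_one, ← Nat.cast_pow, ← Nat.cast_one, Nat.cast_inj] at h1
    exact (Nat.one_lt_pow h0.ne' Fintype.one_lt_card).ne h1
  have hmem : ∀ {α β : IrrCharacter ↥(D.group F)},
      (∀ g, resC M (centralChar (α : ↥(D.group F) → ℂ) g) = resC M (centralChar (β : ↥(D.group F) → ℂ) g)) →
      β ∈ blockOf M (α : ↥(D.group F) → ℂ) := fun {α β} h g =>
    (resC_eq_iff (centralChar_mem_locRing α g) (centralChar_mem_locRing β g)).1 (h g)
  rw [Nat.card_eq_two_iff]
  refine ⟨⟨_, isPBlock_blockOf st⟩, ⟨_, isPBlock_blockOf one⟩,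
    fun h => hne (by
      rw [show blockOf M (st : ↥(D.group F) → ℂ) = blockOf M (one : ↥(D.group F) → ℂ) from congrArg Subtype.val h]
      exact self_mem_blockOf one), ?_⟩
  refine Set.eq_univ_of_forall ?_
  rintro ⟨B, χ, rfl⟩
  have key : blockOf M (χ : ↥(D.group F) → ℂ) = blockOf M (st : ↥(D.group F) → ℂ) ∨
      blockOf M (χ : ↥(D.group F) → ℂ) = blockOf M (one : ↥(D.group F) → ℂ) := by
    rcases ok.omega_two_values hT p hM st with hs | hs <;>
      rcases ok.omega_two_values hT p hM one with ho | ho <;>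
      rcases ok.omega_two_values hT p hM χ with hx | hx <;>
      first
        | exact absurd (hmem fun g => (hs g).trans (ho g).symm) hne
        | exact Or.inl (blockOf_eq_of_mem (hmem fun g => (hs g).trans (hx g).symm))
        | exact Or.inr (blockOf_eq_of_mem (hmem fun g => (ho g).trans (hx g).symm))
  rcases key with h | h
  · exact Or.inl (Subtype.ext h)
  · exact Or.inr (Subtype.ext h)

end OKX

end Cfsg.Agent.Chev
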