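import Cfsg.Agent.Lib.Chev.Core
import Cfsg.Agent.Lib.BN.Basic

/-!
The Bruhat normal form and the Sylow subgroups of the defining characteristic.
-/

set_option autoImplicit false

namespace Cfsg.Agent.Chev

open Cfsg.Lie

variable {F : Type*} [Field F] {D : ChevalleyDatum} {T : Tabs}

namespace OKX

variable (ok : OKX D T)

include ok

theorem piW_lt {w : List ℕ} (hw : ∀ i ∈ w, i < D.rank) {r : ℕ} (hr : r < D.nroots) : piW T w r < D.nroots :=
  ((ok.toOK.act_gW (F := ℚ) w hw).1 r hr).1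

theorem piW_neg {w : List ℕ} (hw : ∀ i ∈ w, i < D.rank) {r : ℕ} (hr : r < D.nroots) :
    piW T w (T.neg r) = T.neg (piW T w r) := ((ok.toOK.act_gW (F := ℚ) w hw).1 r hr).2

/-- A word keeping all fundamental roots positive keeps all positive roots positive. -/
theorem pos_of_simple {w : List ℕ} (hw : ∀ i ∈ w, i < D.rank)
    (h : ∀ i < D.rank, ¬ T.htf (piW T w (T.smp i)) < 0) {r : ℕ} (hr : r < D.nroots) (h0 : 0 < T.htf r) :
    0 < T.htf (piW T w r) := by
  have hlt := ok.piW_lt hw hr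
  by_contra hc
  have hneg : D.IsNegRoot (piW T w r) := ok.toOK.isNeg_iff.mpr ⟨hlt, by have := ok.toOK.ht_ne hlt; omega⟩
  have hrp : ∀ k < D.rank, 0 ≤ T.cC r k := fun k hk =>
    ((ok.toOK.isPos_iff (r := r)).mpr ⟨hr, h0⟩).2 _
      (by rw [ok.toOK.coroot_list hr]; exact List.mem_map.mpr ⟨k, List.mem_range.mpr hk, rfl⟩)
  obtain ⟨a, ha, b, hb, x, y, hxy⟩ := ok.toOK.bezout hlt
  have hz : ∀ j < D.rank, T.cC (piW T w r) j = 0 := by
    intro j hj
    refine le_antisymm
      (hneg.2 _ (by rw [ok.toOK.coroot_list hlt]; exact List.mem_map.mpr ⟨j, List.mem_range.mpr hj, rfl⟩)) ?_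
    rw [ok.cC_piW hw hr hj]
    refine Finset.sum_nonneg fun k hk => mul_nonneg (hrp k (Finset.mem_range.mp hk)) ?_
    have hk' := ok.toOK.smp_lt (Finset.mem_range.mp hk)
    have hk'' := ok.piW_lt hw hk'
    have hp : D.IsPosRoot (piW T w (T.smp k)) := ok.toOK.isPos_iff.mpr
      ⟨hk'', by have := h k (Finset.mem_range.mp hk); have := ok.toOK.ht_ne hk''; omega⟩
    exact hp.2 _ (by rw [ok.toOK.coroot_list hk'']; exact List.mem_map.mpr ⟨j, List.mem_range.mpr hj, rfl⟩)
  rw [hz a ha, hz b hb] at hxy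
  simp at hxy

/-- A word keeping the positive roots positive gives a diagonal element. -/
theorem gW_mem_diag_of_pos : ∀ (n : ℕ) (w : List ℕ), w.length = n → (∀ i ∈ w, i < D.rank) →
    (∀ r < D.nroots, 0 < T.htf r → 0 < T.htf (piW T w r)) → ok.toOK.gW F w ∈ D.diagonalSubgroup F := by
  intro n
  induction n using Nat.strong_induction_on with
  | _ n ih =>
    intro w hn hw hpos
    rcases List.eq_nil_or_concat w with rfl | ⟨v, i, rfl⟩
    · rw [show ok.toOK.gW F [] = 1 from rfl]; exact one_mem _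
    rw [List.concat_eq_append] at *
    have hi : i < D.rank := hw i (by simp)
    have hv : ∀ j ∈ v, j < D.rank := fun j hj => hw j (by simp [hj])
    have hp := ok.toOK.smp_lt hi
    have hp0 : 0 < T.htf (T.smp i) := by rw [(ok.toOK.smp_spec hi).1]; norm_num
    have h3 : T.htf (piW T v (T.smp i)) < 0 := by
      have h := hpos _ hp hp0
      rw [piW_append, piW, piW, (ok.toOK.smp_spec hi).2.2.1, ok.piW_neg hv hp,
        ok.toOK.ht_neg (ok.piW_lt hv hp)] at h
      omega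
    obtain ⟨a, j, b, rfl, hb⟩ := ok.toOK.sign_change v hv _ hp hp0 h3
    have hb' : ∀ k ∈ b, k < D.rank := fun k hk => hv k (by simp [hk])
    have ha' : ∀ k ∈ a, k < D.rank := fun k hk => hv k (by simp [hk])
    have hj : j < D.rank := hv j (by simp)
    obtain ⟨c, hc, hc'⟩ := (ok.toOK.act_gW (F := F) b hb').2.1 _ hp
    have hconj : ok.toOK.gW F b * ok.toOK.nG (T.smp i) 1 * (ok.toOK.gW F b)⁻¹ = ok.toOK.nG (T.smp j) c := by
      rw [ok.toOK.nG_eq hp, ok.toOK.nG_eq (ok.toOK.smp_lt hj), ← conj_mul, ← conj_mul, (hc' 1).1, (hc' _).2, hb]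
      simp
    set G := ok.toOK.gW F a with hG
    set B := ok.toOK.gW F b with hB
    set nj := ok.toOK.nG (T.smp j) (1 : F) with hnj
    have hw' : ok.toOK.gW F (a ++ j :: b ++ [i]) = G * (nj * ok.toOK.hG (T.smp j) c * nj) * B := by
      rw [ok.toOK.gW_append, ok.toOK.gW_append, ok.toOK.gW_cons,
        show ok.toOK.gW F [i] = ok.toOK.nG (T.smp i) 1 by simp [OK.gW]]
      have : B * ok.toOK.nG (T.smp i) 1 = ok.toOK.hG (T.smp j) c * nj * B := by
        rw [← ok.toOK.nG_eq_hG_mul (ok.toOK.smp_lt hj), ← hconj, inv_mul_cancel_right]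
      rw [← hG, ← hB, ← hnj, mul_assoc G, mul_assoc nj B, this]
      simp [mul_assoc]
    have hx : nj * ok.toOK.hG (T.smp j) c * nj ∈ D.diagonalSubgroup F := by
      have := mul_mem (ok.toOK.nG_normalizes_diag (F := F) (ok.toOK.smp_lt hj)
        (ok.toOK.hG_mem_diag (ok.toOK.smp_lt hj) hc)) (ok.toOK.nG_sq (F := F) (ok.toOK.smp_lt hj))
      simpa [mul_assoc] using this
    have hy := ok.toOK.gW_normalizes a ha' _ hx
    rw [← hG] at hy
    set y := G * (nj * ok.toOK.hG (T.smp j) c * nj) * G⁻¹ with hy'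
    have hshort : ok.toOK.gW F (a ++ b) = y⁻¹ * ok.toOK.gW F (a ++ j :: b ++ [i]) := by
      rw [hw', hy', ok.toOK.gW_append, ← hG, ← hB]; simp [mul_assoc]
    have hab : ∀ k ∈ a ++ b, k < D.rank := fun k hk => (List.mem_append.mp hk).elim (ha' k) (hb' k)
    have hpos' : ∀ r < D.nroots, 0 < T.htf r → 0 < T.htf (piW T (a ++ b) r) := by
      intro r hr h0
      have A1 := ok.toOK.act_gW (F := F) (a ++ b) hab
      have A2 := (ok.toOK.act_diag (inv_mem hy)).mul ok.toOK (ok.toOK.act_gW (F := F) _ hw)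
      rw [← hshort] at A2
      rw [ok.toOK.act_unique A1 A2 hr]
      exact hpos r hr h0
    have := ih (a ++ b).length (by subst hn; simp) (a ++ b) rfl hab hpos'
    rw [hshort] at this
    have h5 := mul_mem hy this
    rwa [mul_inv_cancel_left] at h5

/-- Generated by the positive root subgroups moved to negative ones by a word. -/
def Um (F : Type*) [Field F] (w : List ℕ) : Subgroup (GL D.Idx F) :=
  Subgroup.closure {x | ∃ (r : ℕ) (t : F), D.IsPosRoot r ∧ T.htf (piW T w r) < 0 ∧ x = ok.toOK.xG r t}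

theorem pos_split_word : ∀ (k : ℕ) (w : List ℕ), (∀ i ∈ w, i < D.rank) → ok.negCount w ≤ k →
    ∀ u ∈ D.posUnipotent F, ∃ a ∈ D.posUnipotent F,
      ok.toOK.gW F w * a * (ok.toOK.gW F w)⁻¹ ∈ D.posUnipotent F ∧ ∃ c ∈ ok.Um F w, u = a * c := by
  intro k
  induction k using Nat.strong_induction_on with
  | _ k ih =>
    intro w hw hk u hu
    by_cases h : ∀ i < D.rank, ¬ T.htf (piW T w (T.smp i)) < 0
    · refine ⟨u, hu, ?_, 1, one_mem _, (mul_one u).symm⟩
      induction hu using Subgroup.closure_induction with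
      | mem x hx =>
        obtain ⟨r, t, hr, hx⟩ := hx
        obtain ⟨hr1, hr2⟩ := ok.toOK.isPos_iff.mp hr
        obtain ⟨a, -, ha⟩ := (ok.toOK.act_gW (F := F) w hw).2.1 r hr1
        rw [ok.toOK.eq_xG hx, (ha t).1]
        exact ok.toOK.xG_mem_pos
          (ok.toOK.isPos_iff.mpr ⟨ok.piW_lt hw hr1, ok.pos_of_simple hw h hr1 hr2⟩) _
      | one => simp
      | mul a b _ _ ha hb => rw [← conj_mul]; exact mul_mem ha hb
      | inv a _ ha => rw [← conj_inv]; exact inv_mem ha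
    push Not at h
    obtain ⟨i, hi, hneg⟩ := h
    have hp := ok.toOK.smp_lt hi
    have hppos := ok.smp_isPos hi
    set w' := w ++ [i] with hw'
    have hw'' : ∀ j ∈ w', j < D.rank := fun j hj => by
      rcases List.mem_append.mp hj with h | h
      · exact hw j h
      · rw [List.mem_singleton.mp h]; exact hi
    have hp' : 0 < T.htf (piW T w' (T.smp i)) := by
      rw [hw', piW_append, piW, piW, (ok.toOK.smp_spec hi).2.2.1, ok.piW_neg hw hp, ok.toOK.ht_neg (ok.piW_lt hw hp)]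
      omega
    have hlt : ok.negCount w' < k := by
      refine lt_of_lt_of_le (ok.negCount_succ hi (by omega) hw'') ?_
      refine le_trans (le_of_eq ?_) hk
      unfold negCount
      congr 1
      refine Finset.filter_congr fun r hr => ?_
      simp only [hw', piW_append, piW, ok.toOK.refl_refl hi (Finset.mem_range.mp hr)]
    obtain ⟨u', hu', t, rfl⟩ := ok.mem_pos_split hi hu
    set s := ok.toOK.nG (T.smp i) (1 : F) with hs
    have hUinv : ∀ x ∈ ok.Up F i, s⁻¹ * x * s ∈ ok.Up F i := by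
      intro x hx
      have hh := ok.toOK.hG_mem_diag (F := F) hp (neg_ne_zero.mpr one_ne_zero)
      have h1 := ok.n_conj_Up hi hx
      rw [← hs] at h1
      have h2 : ok.toOK.hG (T.smp i) (-1) ∈ Subgroup.normalizer (ok.Up F i : Set (GL D.Idx F)) := by
        have := ok.toOK.diag_normalizes (F := F) (S := {r | D.IsPosRoot r ∧ r ≠ T.smp i}) (fun _ h => h.1.1) hh
        convert this using 4
        unfold OKX.Up
        congr 1
        ext g
        constructor
        · rintro ⟨r, a, h1, h2, rfl⟩; exact ⟨r, a, ⟨h1, h2⟩, rfl⟩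
        · rintro ⟨r, a, ⟨h1, h2⟩, h3⟩; exact ⟨r, a, h1, h2, ok.toOK.eq_xG h3⟩
      have h3 := (Subgroup.mem_normalizer_iff.mp h2 _).mp h1
      have e : s⁻¹ = ok.toOK.hG (T.smp i) (-1) * s := ok.toOK.nG_one_inv hp
      rw [show s⁻¹ * x * s = s⁻¹ * x * (s⁻¹)⁻¹ by rw [inv_inv], e, mul_inv_rev]
      simpa [mul_assoc] using h3
    obtain ⟨a, ha, ha', c, hc, hac⟩ := ih _ hlt w' hw'' le_rfl _ (ok.Up_le (hUinv u' hu'))
    have hcUp : c ∈ ok.Up F i := by
      refine (Subgroup.closure_le _).mpr ?_ hc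
      rintro _ ⟨r, b, hr1, hr2, rfl⟩
      exact Subgroup.subset_closure ⟨r, b, hr1, fun e => by rw [e] at hr2; omega, rfl⟩
    have haUp : a ∈ ok.Up F i := by
      have : a = s⁻¹ * u' * s * c⁻¹ := by rw [hac, mul_inv_cancel_right]
      rw [this]; exact mul_mem (hUinv u' hu') (inv_mem hcUp)
    have hxm : ok.toOK.xG (T.smp i) t ∈ ok.Um F w := Subgroup.subset_closure ⟨_, t, hppos, hneg, rfl⟩
    have hcm : s * c * s⁻¹ ∈ ok.Um F w := by
      clear hac hcUp
      induction hc using Subgroup.closure_induction with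
      | mem x hx =>
        obtain ⟨r, b, hr1, hr2, rfl⟩ := hx
        obtain ⟨hr3, hr4⟩ := ok.toOK.isPos_iff.mp hr1
        rw [hs, ok.toOK.n_xG hi hr3]
        refine Subgroup.subset_closure ⟨_, _, ok.toOK.isPos_iff.mpr
          ⟨ok.toOK.refl_lt hi hr3, ok.toOK.refl_pos hi hr3 (fun e => by rw [e] at hr2; omega) hr4⟩, ?_, rfl⟩
        rwa [hw', piW_append, piW, piW] at hr2
      | one => simp
      | mul p q _ _ hp hq => rw [← conj_mul]; exact mul_mem hp hq
      | inv p _ hp => rw [← conj_inv]; exact inv_mem hp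
    refine ⟨s * a * s⁻¹, ok.Up_le (ok.n_conj_Up hi haUp), ?_, s * c * s⁻¹ * ok.toOK.xG (T.smp i) t,
      mul_mem hcm hxm, ?_⟩
    · rw [hw', ok.toOK.gW_append, show ok.toOK.gW F [i] = s by simp [OK.gW, hs]] at ha'
      simpa [mul_assoc] using ha'
    · have e : u' = s * (a * c) * s⁻¹ := by rw [← hac]; simp [mul_assoc]
      rw [e]
      simp [mul_assoc]

theorem conj_root_le_neg_iff {n : GL D.Idx F} {π : ℕ → ℕ} (hA : ok.toOK.Act n π) {r : ℕ} (hr : r < D.nroots) :
    (D.rootSubgroup F r).map (MulAut.conj n).toMonoidHom ≤ D.negUnipotent F ↔ T.htf (π r) < 0 := by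
  obtain ⟨a, ha0, ha⟩ := hA.2.1 r hr
  have hlt := (hA.1 r hr).1
  constructor
  · intro h
    by_contra hc
    have hp : D.IsPosRoot (π r) := ok.toOK.isPos_iff.mpr ⟨hlt, by have := ok.toOK.ht_ne hlt; omega⟩
    have h1 : ok.toOK.xG (π r) (a * 1) ∈ D.negUnipotent F := by
      rw [← (ha 1).1]; exact h (Subgroup.mem_map.mpr ⟨_, ok.toOK.xG_mem_root r 1, rfl⟩)
    have h2 : ok.toOK.xG (π r) (a * 1) ∈ D.borelSubgroup F ⊓ D.negUnipotent F :=
      ⟨Subgroup.mem_sup_left (ok.toOK.xG_mem_pos hp _), h1⟩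
    rw [ok.toOK.borel_inf_neg, Subgroup.mem_bot] at h2
    rw [mul_one] at h2
    exact ha0 ((ok.toOK.x_eq_one hlt a).mp (by rw [← ok.toOK.coe_xG, h2]; rfl))
  · intro h x hx
    obtain ⟨y, hy, rfl⟩ := Subgroup.mem_map.mp hx
    obtain ⟨t, rfl⟩ := ok.toOK.mem_root.mp hy
    rw [MulEquiv.coe_toMonoidHom, MulAut.conj_apply, (ha t).1]
    exact ok.toOK.xG_mem_neg (ok.toOK.isNeg_iff.mpr ⟨hlt, h⟩) _

/-- The subgroup attached to a monomial element in the normal form. -/
theorem um_eq {n : GL D.Idx F} {w : List ℕ} (hA : ok.toOK.Act n (piW T w)) :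
    Subgroup.closure {x : GL D.Idx F | ∃ (r : ℕ) (t : F), D.IsPosRoot r ∧
      (D.rootSubgroup F r).map (MulAut.conj n).toMonoidHom ≤ D.negUnipotent F ∧
      (x : Matrix D.Idx D.Idx F) = D.x F r t} = ok.Um F w := by
  unfold Um
  congr 1
  ext x
  constructor
  · rintro ⟨r, t, hr, h1, h2⟩
    exact ⟨r, t, hr, (ok.conj_root_le_neg_iff hA hr.1).mp h1, ok.toOK.eq_xG h2⟩
  · rintro ⟨r, t, hr, h1, rfl⟩
    exact ⟨r, t, hr, (ok.conj_root_le_neg_iff hA hr.1).mpr h1, rfl⟩

theorem bruhat_exists {g : GL D.Idx F} (hg : g ∈ D.group F) :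
    ∃ b ∈ D.borelSubgroup F, ∃ n ∈ D.monomialSubgroup F,
      ∃ u ∈ Subgroup.closure {x : GL D.Idx F | ∃ (r : ℕ) (t : F), D.IsPosRoot r ∧
        (D.rootSubgroup F r).map (MulAut.conj n).toMonoidHom ≤ D.negUnipotent F ∧
        (x : Matrix D.Idx D.Idx F) = D.x F r t}, g = b * n * u := by
  obtain ⟨n', hn', hdc⟩ := Cfsg.Agent.BN.exists_inDC (P := ok.bnPair (F := F)) (⟨g, hg⟩ : ↥(D.group F))
  obtain ⟨c, hc, d, hd, e⟩ := Cfsg.Agent.BN.inDC_iff.mp hdc
  have e' : g = (c : GL D.Idx F) * (n' : GL D.Idx F) * (d : GL D.Idx F) := congrArg Subtype.val e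
  have hc' : (c : GL D.Idx F) ∈ D.borelSubgroup F := hc
  obtain ⟨v, hv, h, hh, hd'⟩ := ok.toOK.mem_borel (show (d : GL D.Idx F) ∈ D.borelSubgroup F from hd)
  obtain ⟨t₀, ht₀, w, hw, hn''⟩ := ok.toOK.mem_monomial.mp (show (n' : GL D.Idx F) ∈ D.monomialSubgroup F from hn')
  set W := ok.toOK.gW F w with hW
  have hv' : h⁻¹ * v * h ∈ D.posUnipotent F := by
    have := (Subgroup.mem_normalizer_iff.mp (ok.toOK.diag_normalizes_pos (inv_mem hh)) v).mp hv
    simpa using this
  obtain ⟨a, ha, ha', u, hu, hau⟩ := ok.pos_split_word _ w hw le_rfl _ hv'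
  have hWN : W ∈ D.monomialSubgroup F := ok.toOK.mem_monomial.mpr ⟨1, one_mem _, w, hw, (one_mul _).symm⟩
  have ht : W * h * W⁻¹ ∈ D.diagonalSubgroup F := ok.toOK.gW_normalizes w hw h hh
  refine ⟨(c : GL D.Idx F) * t₀ * (W * h * W⁻¹) * (W * a * W⁻¹),
    mul_mem (mul_mem (mul_mem hc' (Subgroup.mem_sup_right ht₀)) (Subgroup.mem_sup_right ht)) (Subgroup.mem_sup_left ha'),
    W, hWN, u, by rw [ok.um_eq (ok.toOK.act_gW w hw)]; exact hu, ?_⟩
  rw [e', hn'', hd']
  have : v = h * (a * u) * h⁻¹ := by rw [← hau]; simp [mul_assoc]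
  rw [this]
  simp [mul_assoc]

theorem bruhat_unique {b b' n n' u u' : GL D.Idx F} (hb : b ∈ D.borelSubgroup F) (hb' : b' ∈ D.borelSubgroup F)
    (hn : n ∈ D.monomialSubgroup F) (hn' : n' ∈ D.monomialSubgroup F)
    (hu : u ∈ Subgroup.closure {x : GL D.Idx F | ∃ (r : ℕ) (t : F), D.IsPosRoot r ∧
      (D.rootSubgroup F r).map (MulAut.conj n).toMonoidHom ≤ D.negUnipotent F ∧
      (x : Matrix D.Idx D.Idx F) = D.x F r t})
    (hu' : u' ∈ Subgroup.closure {x : GL D.Idx F | ∃ (r : ℕ) (t : F), D.IsPosRoot r ∧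
      (D.rootSubgroup F r).map (MulAut.conj n').toMonoidHom ≤ D.negUnipotent F ∧
      (x : Matrix D.Idx D.Idx F) = D.x F r t})
    (he : b * n * u = b' * n' * u') :
    n⁻¹ * n' ∈ D.diagonalSubgroup F ∧ (n = n' → b = b' ∧ u = u') := by
  have hposle : ∀ m : GL D.Idx F, Subgroup.closure {x : GL D.Idx F | ∃ (r : ℕ) (t : F), D.IsPosRoot r ∧
      (D.rootSubgroup F r).map (MulAut.conj m).toMonoidHom ≤ D.negUnipotent F ∧
      (x : Matrix D.Idx D.Idx F) = D.x F r t} ≤ D.posUnipotent F := fun m =>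
    (Subgroup.closure_le _).mpr fun x ⟨r, t, hr, _, hx⟩ => Subgroup.subset_closure ⟨r, t, hr, hx⟩
  refine ⟨?_, fun hnn => ?_⟩
  · have hbG := fun {x : GL D.Idx F} (hx : x ∈ D.borelSubgroup F) => ok.toOK.borel_le_group hx
    have hnG := fun {x : GL D.Idx F} (hx : x ∈ D.monomialSubgroup F) => ok.toOK.monomial_le_group hx
    set P := ok.bnPair (F := F)
    have huB : u ∈ D.borelSubgroup F := Subgroup.mem_sup_left (hposle n hu)
    have huB' : u' ∈ D.borelSubgroup F := Subgroup.mem_sup_left (hposle n' hu')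
    have h1 : Cfsg.Agent.BN.InDC P (⟨n, hnG hn⟩ : ↥(D.group F)) ⟨n', hnG hn'⟩ := by
      refine Cfsg.Agent.BN.inDC_iff.mpr ⟨⟨b⁻¹ * b', hbG (mul_mem (inv_mem hb) hb')⟩,
        mul_mem (inv_mem hb) hb', ⟨u' * u⁻¹, hbG (mul_mem huB' (inv_mem huB))⟩, mul_mem huB' (inv_mem huB),
        Subtype.ext ?_⟩
      show n = b⁻¹ * b' * n' * (u' * u⁻¹)
      calc n = b⁻¹ * (b * n * u) * u⁻¹ := by simp [mul_assoc]
        _ = b⁻¹ * (b' * n' * u') * u⁻¹ := by rw [he]
        _ = _ := by simp [mul_assoc]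
    have h2 := Cfsg.Agent.BN.eqv_of_inDC (P := P) (n := ⟨n, hnG hn⟩) (n' := ⟨n', hnG hn'⟩) hn hn' h1
    have h3 : n⁻¹ * n' ∈ D.borelSubgroup F := h2.1
    rw [← ok.toOK.borel_inf_monomial]
    exact Subgroup.mem_inf.mpr ⟨h3, mul_mem (inv_mem hn) hn'⟩
  · subst hnn
    have hV : ∀ x ∈ Subgroup.closure {x : GL D.Idx F | ∃ (r : ℕ) (t : F), D.IsPosRoot r ∧
        (D.rootSubgroup F r).map (MulAut.conj n).toMonoidHom ≤ D.negUnipotent F ∧
        (x : Matrix D.Idx D.Idx F) = D.x F r t}, n * x * n⁻¹ ∈ D.negUnipotent F := by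
      intro x hx
      induction hx using Subgroup.closure_induction with
      | mem y hy =>
        obtain ⟨r, t, -, hle, hy⟩ := hy
        rw [ok.toOK.eq_xG hy]
        exact hle (Subgroup.mem_map.mpr ⟨_, ok.toOK.xG_mem_root r t, rfl⟩)
      | one => simp
      | mul p q _ _ hp hq => rw [← conj_mul]; exact mul_mem hp hq
      | inv p _ hp => rw [← conj_inv]; exact inv_mem hp
    have h : b'⁻¹ * b = n * (u' * u⁻¹) * n⁻¹ := by
      calc b'⁻¹ * b = b'⁻¹ * (b * n * u) * u⁻¹ * n⁻¹ := by simp [mul_assoc]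
        _ = b'⁻¹ * (b' * n * u') * u⁻¹ * n⁻¹ := by rw [he]
        _ = _ := by simp [mul_assoc]
    have h1 : b'⁻¹ * b ∈ D.borelSubgroup F ⊓ D.negUnipotent F :=
      Subgroup.mem_inf.mpr ⟨mul_mem (inv_mem hb') hb, h ▸ hV _ (mul_mem hu' (inv_mem hu))⟩
    rw [ok.toOK.borel_inf_neg, Subgroup.mem_bot, inv_mul_eq_one] at h1
    subst h1
    exact ⟨rfl, mul_left_cancel he⟩

theorem sylow_pos [Fintype F] (p : ℕ) [Fact p.Prime] [CharP F p] :
    ∃ P : Sylow p ↥(D.group F), (P : Subgroup ↥(D.group F)) = (D.posUnipotent F).subgroupOf (D.group F) := by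
  classical
  set G := D.group F
  set U := (D.posUnipotent F).subgroupOf G with hU
  set B := (D.borelSubgroup F).subgroupOf G with hB
  have : Finite (GL D.Idx F) := Finite.of_injective _ Units.val_injective
  have : Finite ↥G := Subtype.finite
  obtain ⟨k, hp, hq⟩ := FiniteField.card F p
  have hUcard : Nat.card ↥U = p ^ ((k : ℕ) * (D.nroots / 2)) := by
    rw [hU, Nat.card_congr (Subgroup.subgroupOfEquivOfLe ok.toOK.pos_le_group).toEquiv, ok.card_pos, hq, ← pow_mul]
  have hUp : IsPGroup p ↥U := IsPGroup.of_card hUcard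
  refine ⟨hUp.toSylow ?_, rfl⟩
  have hUB : U ≤ B := fun x hx => (le_sup_left : D.posUnipotent F ≤ D.borelSubgroup F) hx
  rw [← Subgroup.relIndex_mul_index hUB]
  intro hdvd
  rcases (Nat.Prime.dvd_mul hp).mp hdvd with h | h
  · -- the diagonal part
    have hcard : Nat.card ↥(D.diagonalSubgroup F) ∣ Nat.card (Fin D.rank → Fˣ) := by
      let f : (Fin D.rank → Fˣ) →* ↥(D.diagonalSubgroup F) :=
        { toFun := fun c => ⟨ok.toOK.torG (fun i => if h : i < D.rank then (c ⟨i, h⟩ : F) else 1),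
            ok.toOK.mem_diag.mpr ⟨_, fun i hi => by rw [dif_pos hi]; exact Units.ne_zero _, rfl⟩⟩
          map_one' := Subtype.ext (by
            have : (fun i => if h : i < D.rank then (((1 : Fin D.rank → Fˣ) ⟨i, h⟩ : Fˣ) : F) else 1) =
                fun _ => (1 : F) := by funext i; split_ifs <;> simp
            show ok.toOK.torG _ = 1
            rw [this, ok.toOK.torG_one])
          map_mul' := fun c d => Subtype.ext (by
            show ok.toOK.torG _ = ok.toOK.torG _ * ok.toOK.torG _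
            rw [ok.toOK.torG_mul (fun i hi => by rw [dif_pos hi]; exact Units.ne_zero _)
              (fun i hi => by rw [dif_pos hi]; exact Units.ne_zero _)]
            congr 1; funext i; split_ifs <;> simp) }
      refine Subgroup.card_dvd_of_surjective f fun x => ?_
      obtain ⟨c, hc, hx⟩ := ok.toOK.mem_diag.mp x.2
      refine ⟨fun i => Units.mk0 (c i) (hc i i.isLt), Subtype.ext ?_⟩
      show ok.toOK.torG _ = _
      rw [hx]
      refine Units.ext ?_
      rw [ok.toOK.coe_torG (fun i hi => by rw [dif_pos hi]; exact Units.ne_zero _), ok.toOK.coe_torG hc]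
      congr 1; funext a
      rcases a with a | s
      · rfl
      · simp only [Sum.elim_inr]
        exact Finset.prod_congr rfl fun i hi => by rw [dif_pos (Finset.mem_range.mp hi)]; rfl
    have hrel : U.relIndex B = Nat.card ↥(D.diagonalSubgroup F) := by
      have h1 : U.relIndex B * Nat.card ↥U = Nat.card ↥B := by
        rw [← Subgroup.relIndex_bot_left B, ← Subgroup.relIndex_mul_relIndex ⊥ U B bot_le hUB,
          Subgroup.relIndex_bot_left, mul_comm]
      have h2 : Nat.card ↥U * Nat.card ↥(D.diagonalSubgroup F) = Nat.card ↥B := by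
        rw [hU, Nat.card_congr (Subgroup.subgroupOfEquivOfLe ok.toOK.pos_le_group).toEquiv, hB,
          Nat.card_congr (Subgroup.subgroupOfEquivOfLe ok.toOK.borel_le_group).toEquiv, ← Nat.card_prod]
        refine Nat.card_eq_of_bijective (fun x : ↥(D.posUnipotent F) × ↥(D.diagonalSubgroup F) =>
          (⟨(x.1 : GL D.Idx F) * x.2, mul_mem (Subgroup.mem_sup_left x.1.2) (Subgroup.mem_sup_right x.2.2)⟩ :
            ↥(D.borelSubgroup F))) ⟨?_, ?_⟩
        · intro x y e
          have e' : (x.1 : GL D.Idx F) * x.2 = y.1 * y.2 := congrArg Subtype.val e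
          have h3 : ((y.1 : GL D.Idx F))⁻¹ * x.1 = y.2 * (x.2 : GL D.Idx F)⁻¹ := by
            rw [eq_mul_inv_iff_mul_eq, mul_assoc, e', inv_mul_cancel_left]
          have h4 : ((y.1 : GL D.Idx F))⁻¹ * x.1 ∈ D.posUnipotent F ⊓ D.diagonalSubgroup F :=
            Subgroup.mem_inf.mpr ⟨mul_mem (inv_mem y.1.2) x.1.2, h3 ▸ mul_mem y.2.2 (inv_mem x.2.2)⟩
          rw [ok.toOK.pos_inf_diag, Subgroup.mem_bot, inv_mul_eq_one] at h4
          rw [h4] at e'
          exact Prod.ext (Subtype.ext h4.symm) (Subtype.ext (mul_left_cancel e'))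
        · intro b
          obtain ⟨u, hu, t, ht, hb⟩ := ok.toOK.mem_borel b.2
          exact ⟨(⟨u, hu⟩, ⟨t, ht⟩), Subtype.ext hb.symm⟩
      have hpos : 0 < Nat.card ↥U := by rw [hUcard]; exact pow_pos hp.pos _
      rw [← h2, mul_comm (Nat.card ↥U)] at h1
      exact Nat.eq_of_mul_eq_mul_right hpos h1
    rw [hrel] at h
    have h' := dvd_trans h hcard
    rw [Nat.card_pi] at h'
    obtain ⟨i, -, hi⟩ := (Prime.dvd_finsetProd_iff (Nat.prime_iff.mp hp) _).mp h'
    rw [Nat.card_units, Nat.card_eq_fintype_card, hq] at hi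
    have h1 : p ∣ p ^ (k : ℕ) := dvd_pow_self p k.ne_zero
    have h2 : p ^ (k : ℕ) - (p ^ (k : ℕ) - 1) = 1 := by
      have := Nat.one_le_pow (k : ℕ) p hp.pos; omega
    have h3 := Nat.dvd_sub h1 hi
    rw [h2, Nat.dvd_one] at h3
    exact hp.ne_one h3
  · -- the cosets of the Borel subgroup
    have hmod := hUp.card_modEq_card_fixedPoints (↥G ⧸ B)
    have hfix : Nat.card (MulAction.fixedPoints ↥U (↥G ⧸ B)) = 1 := by
      rw [Nat.card_eq_one_iff_unique]
      refine ⟨⟨?_⟩, ⟨⟨(QuotientGroup.mk 1 : ↥G ⧸ B), fun u => ?_⟩⟩⟩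
      swap
      · show QuotientGroup.mk ((u : ↥G) * 1) = _
        rw [QuotientGroup.eq, mul_one, mul_one]
        exact inv_mem (hUB u.2)
      suffices h1 : ∀ x : MulAction.fixedPoints ↥U (↥G ⧸ B), (x : ↥G ⧸ B) = QuotientGroup.mk 1 from
        fun x y => Subtype.ext ((h1 x).trans (h1 y).symm)
      rintro ⟨x, hx⟩
      obtain ⟨g, rfl⟩ := QuotientGroup.mk_surjective x
      show (QuotientGroup.mk g : ↥G ⧸ B) = QuotientGroup.mk 1
      rw [QuotientGroup.eq, mul_one, Subgroup.inv_mem_iff]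
      obtain ⟨n', hn', hdc⟩ := Cfsg.Agent.BN.exists_inDC (P := ok.bnPair (F := F)) g
      obtain ⟨c, hc, d, hd, rfl⟩ := Cfsg.Agent.BN.inDC_iff.mp hdc
      obtain ⟨t₀, ht₀, w, hw, hn''⟩ :=
        ok.toOK.mem_monomial.mp (show (n' : GL D.Idx F) ∈ D.monomialSubgroup F from hn')
      have key : ∀ v ∈ D.posUnipotent F, (n' : GL D.Idx F)⁻¹ * v * (n' : GL D.Idx F) ∈ D.borelSubgroup F := by
        intro v hv
        obtain ⟨v₁, hv₁, t₁, ht₁, hcv⟩ := ok.toOK.mem_borel (show (c : GL D.Idx F) ∈ D.borelSubgroup F from hc)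
        have hcv' : (c : GL D.Idx F) * v * (c : GL D.Idx F)⁻¹ ∈ D.posUnipotent F := by
          rw [hcv, mul_inv_rev]
          have := mul_mem (mul_mem hv₁ ((Subgroup.mem_normalizer_iff.mp (ok.toOK.diag_normalizes_pos ht₁) v).mp hv))
            (inv_mem hv₁)
          simpa [mul_assoc] using this
        have hfixed := hx ⟨⟨_, ok.toOK.pos_le_group hcv'⟩, Subgroup.mem_subgroupOf.mpr hcv'⟩
        change (QuotientGroup.mk _ : ↥G ⧸ B) = QuotientGroup.mk _ at hfixed
        rw [QuotientGroup.eq, Subgroup.mem_subgroupOf] at hfixed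
        simp only [Subgroup.coe_mul, Subgroup.coe_inv, mul_inv_rev] at hfixed
        have hd' : (d : GL D.Idx F) ∈ D.borelSubgroup F := hd
        have := inv_mem (mul_mem (mul_mem hd' hfixed) (inv_mem hd'))
        simpa [mul_assoc] using this
      have hW : ∀ v ∈ D.posUnipotent F,
          (ok.toOK.gW F w)⁻¹ * v * ok.toOK.gW F w ∈ D.borelSubgroup F := by
        intro v hv
        have h4 := key _ ((Subgroup.mem_normalizer_iff.mp (ok.toOK.diag_normalizes_pos ht₀) v).mp hv)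
        rw [hn''] at h4
        simpa [mul_assoc] using h4
      have hposw : ∀ r < D.nroots, 0 < T.htf r → 0 < T.htf (piW T w r) := by
        intro r hr h0
        by_contra hc'
        have hlt := ok.piW_lt hw hr
        have hp' : 0 < T.htf (piW T w (T.neg r)) := by
          rw [ok.piW_neg hw hr, ok.toOK.ht_neg hlt]; have := ok.toOK.ht_ne hlt; omega
        have hnr := ok.toOK.neg_lt hr
        obtain ⟨a, ha0, ha⟩ := (ok.toOK.act_gW (F := F) w hw).2.1 _ hnr
        have hb := hW _ (ok.toOK.xG_mem_pos (ok.toOK.isPos_iff.mpr ⟨ok.piW_lt hw hnr, hp'⟩) a)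
        have e := (ha 1).1
        rw [mul_one] at e
        rw [← e] at hb
        simp only [mul_assoc, inv_mul_cancel_left, inv_mul_cancel, mul_one] at hb
        have hneg : D.IsNegRoot (T.neg r) :=
          ok.toOK.isNeg_iff.mpr ⟨hnr, by rw [ok.toOK.ht_neg hr]; omega⟩
        have h2 : ok.toOK.xG (T.neg r) (1 : F) ∈ D.borelSubgroup F ⊓ D.negUnipotent F :=
          Subgroup.mem_inf.mpr ⟨hb, ok.toOK.xG_mem_neg hneg _⟩
        rw [ok.toOK.borel_inf_neg, Subgroup.mem_bot] at h2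
        exact one_ne_zero ((ok.toOK.x_eq_one hnr (1 : F)).mp (by rw [← ok.toOK.coe_xG, h2]; rfl))
      have hn3 : (n' : GL D.Idx F) ∈ D.borelSubgroup F := by
        rw [hn'']
        exact Subgroup.mem_sup_right (mul_mem ht₀ (ok.gW_mem_diag_of_pos _ w rfl hw hposw))
      exact mul_mem (mul_mem hc (show n' ∈ B from hn3)) hd
    rw [hfix] at hmod
    have hdiv : B.index % p = 0 := Nat.mod_eq_zero_of_dvd h
    rw [Subgroup.index] at hdiv
    unfold Nat.ModEq at hmod
    rw [hdiv, Nat.mod_eq_of_lt hp.one_lt] at hmod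
    exact zero_ne_one hmod

end OKX

end Cfsg.Agent.Chev
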