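import Cfsg.Agent.Lib.Chev.Cow
import Cfsg.Agent.Lib.Chev.AllX

/-! Adjugates of the Cartan matrices. -/

set_option autoImplicit false
set_option maxRecDepth 20000

namespace Cfsg.Agent.Chev

open Cfsg.Lie

def G2.cow : List (List (ℕ × ℤ)) :=
  [[(0, 2), (1, 3)],
    [(0, 1), (1, 2)]]

theorem G2.cow_ok : Tabs.chkCow chevG2 G2.T G2.cow = true := by decide +kernel

def B2.cow : List (List (ℕ × ℤ)) :=
  [[(0, 2), (1, 2)],
    [(0, 1), (1, 2)]]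

theorem B2.cow_ok : Tabs.chkCow chevB2 B2.T B2.cow = true := by decide +kernel

def D4.cow : List (List (ℕ × ℤ)) :=
  [[(0, 4), (1, 4), (2, 2), (3, 2)],
    [(0, 4), (1, 8), (2, 4), (3, 4)],
    [(0, 2), (1, 4), (2, 4), (3, 2)],
    [(0, 2), (1, 4), (2, 2), (3, 4)]]

theorem D4.cow_ok : Tabs.chkCow chevD4 D4.T D4.cow = true := by decide +kernel

def F4.cow : List (List (ℕ × ℤ)) :=
  [[(0, 2), (1, 3), (2, 4), (3, 2)],
    [(0, 3), (1, 6), (2, 8), (3, 4)],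
    [(0, 2), (1, 4), (2, 6), (3, 3)],
    [(0, 1), (1, 2), (2, 3), (3, 2)]]

theorem F4.cow_ok : Tabs.chkCow chevF4 F4.T F4.cow = true := by decide +kernel

def E6.cow : List (List (ℕ × ℤ)) :=
  [[(0, 4), (1, 3), (2, 5), (3, 6), (4, 4), (5, 2)],
    [(0, 3), (1, 6), (2, 6), (3, 9), (4, 6), (5, 3)],
    [(0, 5), (1, 6), (2, 10), (3, 12), (4, 8), (5, 4)],
    [(0, 6), (1, 9), (2, 12), (3, 18), (4, 12), (5, 6)],
    [(0, 4), (1, 6), (2, 8), (3, 12), (4, 10), (5, 5)],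
    [(0, 2), (1, 3), (2, 4), (3, 6), (4, 5), (5, 4)]]

theorem E6.cow_ok : Tabs.chkCow chevE6 E6.T E6.cow = true := by decide +kernel

def E7.cow : List (List (ℕ × ℤ)) :=
  [[(0, 4), (1, 4), (2, 6), (3, 8), (4, 6), (5, 4), (6, 2)],
    [(0, 4), (1, 7), (2, 8), (3, 12), (4, 9), (5, 6), (6, 3)],
    [(0, 6), (1, 8), (2, 12), (3, 16), (4, 12), (5, 8), (6, 4)],
    [(0, 8), (1, 12), (2, 16), (3, 24), (4, 18), (5, 12), (6, 6)],
    [(0, 6), (1, 9), (2, 12), (3, 18), (4, 15), (5, 10), (6, 5)],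
    [(0, 4), (1, 6), (2, 8), (3, 12), (4, 10), (5, 8), (6, 4)],
    [(0, 2), (1, 3), (2, 4), (3, 6), (4, 5), (5, 4), (6, 3)]]

theorem E7.cow_ok : Tabs.chkCow chevE7 E7.T E7.cow = true := by decide +kernel

def E8.cow : List (List (ℕ × ℤ)) :=
  [[(0, 4), (1, 5), (2, 7), (3, 10), (4, 8), (5, 6), (6, 4), (7, 2)],
    [(0, 5), (1, 8), (2, 10), (3, 15), (4, 12), (5, 9), (6, 6), (7, 3)],
    [(0, 7), (1, 10), (2, 14), (3, 20), (4, 16), (5, 12), (6, 8), (7, 4)],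
    [(0, 10), (1, 15), (2, 20), (3, 30), (4, 24), (5, 18), (6, 12), (7, 6)],
    [(0, 8), (1, 12), (2, 16), (3, 24), (4, 20), (5, 15), (6, 10), (7, 5)],
    [(0, 6), (1, 9), (2, 12), (3, 18), (4, 15), (5, 12), (6, 8), (7, 4)],
    [(0, 4), (1, 6), (2, 8), (3, 12), (4, 10), (5, 8), (6, 6), (7, 3)],
    [(0, 2), (1, 3), (2, 4), (3, 6), (4, 5), (5, 4), (6, 3), (7, 2)]]

theorem E8.cow_ok : Tabs.chkCow chevE8 E8.T E8.cow = true := by decide +kernel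

theorem exists_cow {D : ChevalleyDatum}
    (hD : D ∈ [chevG2, chevB2, chevD4, chevF4, chevE6, chevE7, chevE8]) :
    ∃ T, OKX D T ∧ ∃ M, Tabs.chkCow D T M = true := by
  simp only [List.mem_cons, List.not_mem_nil, or_false] at hD
  rcases hD with rfl | rfl | rfl | rfl | rfl | rfl | rfl
  exacts [⟨_, G2.okx, _, G2.cow_ok⟩, ⟨_, B2.okx, _, B2.cow_ok⟩, ⟨_, D4.okx, _, D4.cow_ok⟩, ⟨_, F4.okx, _, F4.cow_ok⟩,
    ⟨_, E6.okx, _, E6.cow_ok⟩, ⟨_, E7.okx, _, E7.cow_ok⟩, ⟨_, E8.okx, _, E8.cow_ok⟩]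

end Cfsg.Agent.Chev
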