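import Cfsg.Agent.Lib.Chev.StChk
import Cfsg.Agent.Lib.Chev.AllX

/-! The checks for the presentations hold. -/

set_option autoImplicit false
set_option maxRecDepth 20000

namespace Cfsg.Agent.Chev

open Cfsg.Lie

theorem G2.dn_ok : Tabs.chkDn chevG2 G2.T = true := by decide +kernel

theorem G2.wit_ok : Tabs.chkWit chevG2 G2.T = true := by decide +kernel

theorem B2.dn_ok : Tabs.chkDn chevB2 B2.T = true := by decide +kernel

theorem B2.wit_ok : Tabs.chkWit chevB2 B2.T = true := by decide +kernel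

theorem D4.dn_ok : Tabs.chkDn chevD4 D4.T = true := by decide +kernel

theorem D4.wit_ok : Tabs.chkWit chevD4 D4.T = true := by decide +kernel

theorem F4.dn_ok : Tabs.chkDn chevF4 F4.T = true := by decide +kernel

theorem F4.wit_ok : Tabs.chkWit chevF4 F4.T = true := by decide +kernel

theorem E6.dn_ok : Tabs.chkDn chevE6 E6.T = true := by decide +kernel

theorem E6.wit_ok : Tabs.chkWit chevE6 E6.T = true := by decide +kernel

theorem E7.dn_ok : Tabs.chkDn chevE7 E7.T = true := by decide +kernel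

theorem E7.wit_ok : Tabs.chkWit chevE7 E7.T = true := by decide +kernel

theorem E8.dn_ok : Tabs.chkDn chevE8 E8.T = true := by decide +kernel

theorem E8.wit_ok : Tabs.chkWit chevE8 E8.T = true := by decide +kernel

theorem exists_st {D : ChevalleyDatum}
    (hD : D ∈ [chevG2, chevB2, chevD4, chevF4, chevE6, chevE7, chevE8]) :
    ∃ T, OKX D T ∧ Tabs.chkDn D T = true ∧ Tabs.chkWit D T = true := by
  simp only [List.mem_cons, List.not_mem_nil, or_false] at hD
  rcases hD with rfl | rfl | rfl | rfl | rfl | rfl | rfl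
  exacts [⟨_, G2.okx, G2.dn_ok, G2.wit_ok⟩, ⟨_, B2.okx, B2.dn_ok, B2.wit_ok⟩, ⟨_, D4.okx, D4.dn_ok, D4.wit_ok⟩,
    ⟨_, F4.okx, F4.dn_ok, F4.wit_ok⟩, ⟨_, E6.okx, E6.dn_ok, E6.wit_ok⟩, ⟨_, E7.okx, E7.dn_ok, E7.wit_ok⟩,
    ⟨_, E8.okx, E8.dn_ok, E8.wit_ok⟩]

end Cfsg.Agent.Chev
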