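import Cfsg.Agent.Lib.Chev.St
import Cfsg.Agent.Lib.Chev.StData
import Cfsg.Agent.Lib.Chev.CowData
import Cfsg.Prelude.Def_SteinbergCover

/-!
The two presented groups as instances, and the centre of the matrix group.
-/

set_option autoImplicit false

namespace Cfsg.Agent.Chev

open Cfsg.Lie

variable {F : Type*} [Field F] {D : ChevalleyDatum} {T : Tabs}

namespace OKX

variable (ok : OKX D T)

include ok

theorem center_group_bot {M : List (List (ℕ × ℤ))} (hM : Tabs.chkCow D T M = true) :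
    Subgroup.center ↥(D.group F) = ⊥ := by
  rw [eq_bot_iff, ← ok.core_eq_bot (F := F)]
  refine Subgroup.normal_le_normalCore.mpr fun z hz => ?_
  rw [Subgroup.mem_subgroupOf]
  have hN : (z : GL D.Idx F) ∈ Subgroup.normalizer (D.unipotentRadical F ∅ : Set (GL D.Idx F)) := by
    have hle : D.unipotentRadical F ∅ ≤ D.group F := (ok.uJ_le_pos ∅).trans ok.toOK.pos_le_group
    refine Subgroup.mem_normalizer_iff.mpr fun x => ?_
    by_cases hx : x ∈ D.group F
    · have := congrArg Subtype.val ((Subgroup.mem_center_iff.mp hz) ⟨x, hx⟩)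
      simp only [Subgroup.coe_mul] at this
      rw [← this, mul_inv_cancel_right]
    · refine iff_of_false (fun h => hx (hle h)) fun h => hx ?_
      have := mul_mem (mul_mem (inv_mem z.2) (hle h)) z.2
      simpa [mul_assoc] using this
  have h := (le_of_eq (ok.normalizer_uJ hM (∅ : Set ℕ) (F := F))) (Subgroup.mem_inf.mpr ⟨hN, z.2⟩)
  rw [ChevalleyDatum.parabolicSubgroup] at h
  have he : Subgroup.closure {g : GL D.Idx F | ∃ j ∈ (∅ : Set ℕ), j < D.rank ∧
      (g : Matrix D.Idx D.Idx F) = D.nMat F (D.simple j) 1} = ⊥ :=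
    (Subgroup.closure_eq_bot_iff.mpr fun g hg => by obtain ⟨j, hj, -⟩ := hg; exact hj.elim)
  rwa [he, sup_bot_eq] at h

/-- The relations hold for the matrices, so a presented group maps to them. -/
theorem rels_one {g : FreeGroup (Fin D.nroots × F)} (hg : g ∈ D.steinbergRels F) :
    FreeGroup.lift (fun p => ok.toOK.xG (p.1 : ℕ) p.2) g = 1 := by
  have hX : ∀ (r : ℕ) (t : F), r < D.nroots → FreeGroup.lift (fun p => ok.toOK.xG (p.1 : ℕ) p.2) (D.stX r t) = ok.toOK.xG r t := by
    intro r t hr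
    rw [ChevalleyDatum.stX, dif_pos hr, FreeGroup.lift_apply_of]
  have hW : ∀ w : List (ℕ × F), (∀ p ∈ w, p.1 < D.nroots) →
      FreeGroup.lift (fun p => ok.toOK.xG (p.1 : ℕ) p.2) (D.stWord w) = ok.toOK.wordG w := by
    intro w hw
    rw [ChevalleyDatum.stWord, map_list_prod, OK.wordG, List.map_map]
    exact congrArg List.prod (List.map_congr_left fun p hp => hX _ _ (hw p hp))
  rcases hg with (⟨r, a, b, hr, rfl⟩ | ⟨r, s, a, b, hr, hs, h1, h2, rfl⟩) | ⟨r, a, b, hr, ha, hb, rfl⟩
  · rw [map_mul, map_mul, map_inv, hX _ _ hr, hX _ _ hr, hX _ _ hr, ok.toOK.xG_mul, mul_inv_cancel]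
  · have hc : ∀ p ∈ D.commWord F r s a b, p.1 < D.nroots := by
      intro p hp
      simp only [ChevalleyDatum.commWord, ok.toOK.terms_eq hr hs, List.mem_map] at hp
      obtain ⟨q, hq, rfl⟩ := hp
      exact (ok.toOK.term_spec hr hs hq).1
    have e : ok.toOK.xG s b * ok.toOK.xG r a =
        ok.toOK.xG r a * ok.toOK.xG s b * ok.toOK.wordG (D.commWord F r s a b) := by
      refine Units.ext ?_
      rw [Units.val_mul, Units.val_mul, Units.val_mul, OK.coe_wordG]
      exact ok.toOK.comm hr hs h1 h2 a b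
    simp only [map_mul, map_inv, hX _ _ hr, hX _ _ hs, hW _ hc]
    rw [mul_assoc (_ * _) (ok.toOK.xG s b) (ok.toOK.xG r a), e]
    simp [mul_assoc]
  · have hh : ∀ c : F, ∀ p ∈ D.hWord r c, p.1 < D.nroots := by
      intro c p hp
      simp only [ChevalleyDatum.hWord, ChevalleyDatum.nWord, List.cons_append, List.nil_append, List.mem_cons,
        List.not_mem_nil, or_false] at hp
      rcases hp with rfl | rfl | rfl | rfl | rfl | rfl <;>
        first | exact hr | exact (ok.toOK.neg_eq hr).symm ▸ ok.toOK.neg_lt hr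
    simp only [ChevalleyDatum.stH, map_mul, map_inv, hW _ (hh _)]
    show ok.toOK.hG r a * ok.toOK.hG r b * (ok.toOK.hG r (a * b))⁻¹ = 1
    rw [ok.toOK.hG_mul hr ha hb, mul_inv_cancel]

/-- The map of the group presented by all relations. -/
def stHom : D.SteinbergGroup F →* GL D.Idx F := PresentedGroup.toGroup fun _ hg => ok.rels_one hg

/-- The map of the group presented by the first two families of relations. -/
def scHom : D.SteinbergCover F →* GL D.Idx F :=
  PresentedGroup.toGroup fun _ hg => ok.rels_one (Or.inl hg)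

theorem stHom_gen {r : ℕ} (hr : r < D.nroots) (t : F) : ok.stHom (D.stGen F r t) = ok.toOK.xG r t := by
  rw [ChevalleyDatum.stGen, ChevalleyDatum.stX, dif_pos hr]
  exact PresentedGroup.toGroup.of _

theorem scHom_gen {r : ℕ} (hr : r < D.nroots) (t : F) : ok.scHom (D.scGen F r t) = ok.toOK.xG r t := by
  rw [ChevalleyDatum.scGen, ChevalleyDatum.stX, dif_pos hr]
  exact PresentedGroup.toGroup.of _

theorem presented_hyp {R : Set (FreeGroup (Fin D.nroots × F))} (hR : D.steinbergRelsAB F ⊆ R)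
    (hdn : Tabs.chkDn D T = true) (hwit : Tabs.chkWit D T = true) (θ : PresentedGroup R →* GL D.Idx F)
    (hθ : ∀ r < D.nroots, ∀ t : F, θ (PresentedGroup.mk R (D.stX r t)) = ok.toOK.xG r t) :
    StHyp ok (fun r t => PresentedGroup.mk R (D.stX r t)) θ where
  dn := hdn
  wit := hwit
  add r hr a b := by
    have := PresentedGroup.one_of_mem (rels := R) (hR (Or.inl ⟨r, a, b, hr, rfl⟩))
    rw [map_mul, map_mul, map_inv, mul_inv_eq_one] at this
    exact this
  comm r s hr hs h1 h2 t u := by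
    have := PresentedGroup.one_of_mem (rels := R)
      (hR (Or.inr ⟨r, s, t, u, hr, hs, h1, by rwa [ok.toOK.neg_eq hr], rfl⟩))
    rw [map_mul, map_inv, mul_inv_eq_one] at this
    simp only [map_mul, map_inv, ChevalleyDatum.stWord, map_list_prod, List.map_map] at this
    show _ = _ * _ * ((D.commWord F r s t u).map ((PresentedGroup.mk R) ∘ fun p => D.stX p.1 p.2)).prod
    rw [← this]
    simp [mul_assoc]
  gen := by
    rw [eq_top_iff, ← PresentedGroup.closure_range_of R, Subgroup.closure_le]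
    rintro _ ⟨⟨r, t⟩, rfl⟩
    refine Subgroup.subset_closure ⟨r, t, r.isLt, ?_⟩
    rw [ChevalleyDatum.stX, dif_pos r.isLt]
    rfl
  map_y := hθ

end OKX

namespace StHyp

variable {ok : OKX D T} {S : Type*} [Group S] {y : ℕ → F → S} {θ : S →* GL D.Idx F}

theorem range_eq (st : StHyp ok y θ) : θ.range = D.group F := by
  refine le_antisymm ?_ (ok.toOK.group_le fun r hr t => ⟨y r t, st.map_y r hr t⟩)
  rintro _ ⟨g, rfl⟩
  have hg : g ∈ Subgroup.closure {x | ∃ (r : ℕ) (t : F), r < D.nroots ∧ x = y r t} := by rw [st.gen]; exact Subgroup.mem_top g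
  induction hg using Subgroup.closure_induction with
  | mem x hx =>
    obtain ⟨r, t, hr, rfl⟩ := hx
    rw [st.map_y r hr]
    exact ok.toOK.xG_mem_group r t
  | one => rw [map_one]; exact one_mem _
  | mul a b _ _ ha hb => rw [map_mul]; exact mul_mem ha hb
  | inv a _ ha => rw [map_inv]; exact inv_mem ha

theorem mem_group (st : StHyp ok y θ) (g : S) : θ g ∈ D.group F := by
  rw [← st.range_eq]; exact ⟨g, rfl⟩

/-- The map onto the matrix group. -/
def toGrp (st : StHyp ok y θ) : S →* ↥(D.group F) := θ.codRestrict _ st.mem_group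

theorem toGrp_surjective (st : StHyp ok y θ) : Function.Surjective st.toGrp := by
  rintro ⟨g, hg⟩
  rw [← st.range_eq] at hg
  obtain ⟨x, rfl⟩ := hg
  exact ⟨x, rfl⟩

theorem ker_toGrp (st : StHyp ok y θ) : st.toGrp.ker = θ.ker := by
  ext x
  simp [MonoidHom.mem_ker, toGrp, Subtype.ext_iff]

theorem ker_eq_center (st : StHyp ok y θ) {M : List (List (ℕ × ℤ))} (hM : Tabs.chkCow D T M = true) :
    θ.ker = Subgroup.center S := by
  refine le_antisymm st.ker_le_center fun z hz => ?_
  have h : st.toGrp z ∈ Subgroup.center ↥(D.group F) := by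
    rw [Subgroup.mem_center_iff]
    intro g
    obtain ⟨x, rfl⟩ := st.toGrp_surjective g
    rw [← map_mul, ← map_mul, Subgroup.mem_center_iff.mp hz x]
  rw [ok.center_group_bot hM, Subgroup.mem_bot] at h
  rw [← st.ker_toGrp]
  exact h

end StHyp

end Cfsg.Agent.Chev

namespace Cfsg.Agent.Chev

open Cfsg.Lie

/-- All the certificates on the same tables. -/
theorem exists_stcow {D : ChevalleyDatum}
    (hD : D ∈ [chevG2, chevB2, chevD4, chevF4, chevE6, chevE7, chevE8]) :
    ∃ T, OKX D T ∧ (Tabs.chkDn D T = true ∧ Tabs.chkWit D T = true) ∧ ∃ M, Tabs.chkCow D T M = true := by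
  simp only [List.mem_cons, List.not_mem_nil, or_false] at hD
  rcases hD with rfl | rfl | rfl | rfl | rfl | rfl | rfl
  exacts [⟨_, G2.okx, ⟨G2.dn_ok, G2.wit_ok⟩, _, G2.cow_ok⟩, ⟨_, B2.okx, ⟨B2.dn_ok, B2.wit_ok⟩, _, B2.cow_ok⟩,
    ⟨_, D4.okx, ⟨D4.dn_ok, D4.wit_ok⟩, _, D4.cow_ok⟩, ⟨_, F4.okx, ⟨F4.dn_ok, F4.wit_ok⟩, _, F4.cow_ok⟩,
    ⟨_, E6.okx, ⟨E6.dn_ok, E6.wit_ok⟩, _, E6.cow_ok⟩, ⟨_, E7.okx, ⟨E7.dn_ok, E7.wit_ok⟩, _, E7.cow_ok⟩,
    ⟨_, E8.okx, ⟨E8.dn_ok, E8.wit_ok⟩, _, E8.cow_ok⟩]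

end Cfsg.Agent.Chev
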