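import Cfsg.Agent.Lib.Chev.StTor
import Mathlib.FieldTheory.Finite.Basic

/-!
Over a finite field the diagonal elements multiply as a consequence of the first two families of relations.
-/

set_option autoImplicit false

namespace Cfsg.Agent.Chev

open Cfsg.Lie

variable {F : Type*} [Field F] {D : ChevalleyDatum} {T : Tabs}

/-- A finite field with a nonsquare has two nonsquares with sum one or zero. -/
theorem exists_nonsquare_pair [Finite F] (h : ∃ a : F, ¬ IsSquare a) :
    ∃ u v : F, ¬ IsSquare u ∧ ¬ IsSquare v ∧ (u + v = 1 ∨ u + v = 0) := by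
  obtain ⟨a, ha⟩ := h
  by_cases hm : IsSquare (-1 : F)
  · refine ⟨a, -a, ha, fun hs => ha ?_, Or.inr (add_neg_cancel a)⟩
    simpa using hm.mul hs
  · obtain ⟨p, hp⟩ := CharP.exists F
    have hp0 : p ≠ 0 := by
      intro e
      subst e
      exact not_finite_of_charZero hp
    by_contra hc
    push Not at hc
    have hall : ∀ k : ℕ, 1 ≤ k → k < p → IsSquare (k : F) := by
      intro k hk hkp
      induction k, hk using Nat.le_induction with
      | base => exact ⟨1, by simp⟩
      | succ k hk ih =>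
        by_contra hn
        have hk0 : (k : F) ≠ 0 := fun e => by
          have := Nat.le_of_dvd (by omega) ((CharP.cast_eq_zero_iff F p k).mp e); omega
        have hs := ih (by omega)
        refine (hc ((k + 1 : ℕ) : F) (-(k : F)) hn fun hs' => hm ?_).1 (by push_cast; ring)
        have := hs'.mul hs.inv
        rwa [neg_mul, mul_inv_cancel₀ hk0] at this
    refine hm ?_
    rcases Nat.lt_or_ge p 2 with h2 | h2
    · have : p = 1 := by omega
      subst this
      exact absurd rfl (CharP.char_ne_one F 1)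
    · have := hall (p - 1) (by omega) (by omega)
      rwa [Nat.cast_sub (by omega), CharP.cast_eq_zero, zero_sub, Nat.cast_one] at this
where
  not_finite_of_charZero {F : Type _} [Field F] [Finite F] (hp : CharP F 0) : False := by
    have := CharP.charP_to_charZero F
    exact not_finite F

namespace StHyp

variable {ok : OKX D T} {S : Type*} [Group S] {y : ℕ → F → S} {θ : S →* GL D.Idx F}

/-- The failure of the diagonal elements to multiply. -/
noncomputable def zz (st : StHyp ok y θ) (i : ℕ) (a b : F) : S := st.hb i a * st.hb i b * (st.hb i (a * b))⁻¹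

theorem zz_central (st : StHyp ok y θ) {i : ℕ} (hi : i < D.rank) {a b : F} (ha : a ≠ 0) (hb : b ≠ 0) :
    st.zz i a b ∈ Subgroup.center S := by
  refine st.ker_le_center ?_
  rw [MonoidHom.mem_ker, zz, map_mul, map_mul, map_inv, st.map_hb hi, st.map_hb hi, st.map_hb hi,
    ok.toOK.hG_mul (ok.toOK.smp_lt hi) ha hb, mul_inv_cancel]

theorem hb_mul_eq (st : StHyp ok y θ) (i : ℕ) (a b : F) :
    st.hb i a * st.hb i b = st.zz i a b * st.hb i (a * b) := by
  rw [zz, inv_mul_cancel_right]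

theorem hb_commute [Finite F] (st : StHyp ok y θ) {i : ℕ} (hi : i < D.rank) {a b : F} (ha : a ≠ 0) (hb : b ≠ 0) :
    Commute (st.hb i a) (st.hb i b) := by
  obtain ⟨v, hv⟩ := IsCyclic.exists_monoid_generator (α := Fˣ)
  set A : Subgroup S := Subgroup.zpowers (st.hb i (v : F)) ⊔ Subgroup.center S
  have hA : ∀ n : ℕ, st.hb i ((v : F) ^ n) ∈ A := by
    intro n
    induction n with
    | zero => rw [pow_zero, st.hb_one hi]; exact one_mem _
    | succ n ih =>
      have h := st.hb_mul_eq i ((v : F) ^ n) (v : F)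
      rw [← pow_succ] at h
      rw [eq_inv_mul_of_mul_eq h.symm]
      exact mul_mem (inv_mem (Subgroup.mem_sup_right (st.zz_central hi (pow_ne_zero _ v.ne_zero) v.ne_zero)))
        (mul_mem ih (Subgroup.mem_sup_left (Subgroup.mem_zpowers _)))
  have hmem : ∀ c : F, c ≠ 0 → st.hb i c ∈ A := by
    intro c hc
    obtain ⟨n, hn⟩ := Submonoid.mem_powers_iff _ _ |>.mp (hv (Units.mk0 c hc))
    have := congrArg Units.val hn
    rw [Units.val_pow_eq_pow_val, Units.val_mk0] at this
    rw [← this]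
    exact hA n
  have hcomm : A ≤ Subgroup.centralizer (A : Set S) := by
    have h1 : ∀ g ∈ A, g ∈ Subgroup.centralizer ({st.hb i (v : F)} : Set S) := by
      intro g hg
      refine (sup_le ?_ ?_ : A ≤ _) hg
      · exact Subgroup.zpowers_le.mpr (Subgroup.mem_centralizer_singleton_iff.mpr rfl)
      · exact fun z hz => Subgroup.mem_centralizer_singleton_iff.mpr
          ((Subgroup.mem_center_iff.mp hz _).symm)
    refine sup_le ?_ fun z hz => Subgroup.mem_centralizer_iff.mpr fun g _ => Subgroup.mem_center_iff.mp hz g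
    refine Subgroup.zpowers_le.mpr (Subgroup.mem_centralizer_iff.mpr fun g hg => ?_)
    exact Subgroup.mem_centralizer_singleton_iff.mp (h1 g hg)
  exact (Subgroup.mem_centralizer_iff.mp (hcomm (hmem b hb)) _ (hmem a ha))

theorem zz_one_left (st : StHyp ok y θ) {i : ℕ} (hi : i < D.rank) (a : F) : st.zz i 1 a = 1 := by
  rw [zz, st.hb_one hi, one_mul, one_mul, mul_inv_cancel]

theorem zz_symm [Finite F] (st : StHyp ok y θ) {i : ℕ} (hi : i < D.rank) {a b : F} (ha : a ≠ 0) (hb : b ≠ 0) :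
    st.zz i a b = st.zz i b a := by
  rw [zz, zz, (st.hb_commute hi ha hb).eq, mul_comm a b]

theorem zz_cocycle (st : StHyp ok y θ) {i : ℕ} (hi : i < D.rank) {a b c : F} (ha : a ≠ 0) (hb : b ≠ 0) (hc : c ≠ 0) :
    st.zz i a b * st.zz i (a * b) c = st.zz i a (b * c) * st.zz i b c := by
  have e1 : st.hb i a * st.hb i b * st.hb i c = st.zz i a b * st.zz i (a * b) c * st.hb i (a * b * c) := by
    rw [st.hb_mul_eq i a b, mul_assoc, st.hb_mul_eq i (a * b) c, ← mul_assoc]
  have e2 : st.hb i a * st.hb i b * st.hb i c = st.zz i a (b * c) * st.zz i b c * st.hb i (a * b * c) := by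
    rw [mul_assoc, st.hb_mul_eq i b c, ← mul_assoc,
      Subgroup.mem_center_iff.mp (st.zz_central hi hb hc) (st.hb i a), mul_assoc, st.hb_mul_eq i a (b * c),
      ← mul_assoc, ← Subgroup.mem_center_iff.mp (st.zz_central hi hb hc) (st.zz i a (b * c)), mul_assoc a b c]
  exact mul_right_cancel (e1.symm.trans e2)

theorem nb_conj_pos (st : StHyp ok y θ) {i : ℕ} (hi : i < D.rank) {a : F} (ha : a ≠ 0) (s : F) :
    st.nb i a * y (T.smp i) s * (st.nb i a)⁻¹ = y (T.neg (T.smp i)) (-(s / a ^ 2)) := by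
  have hp := ok.toOK.smp_lt hi
  rw [st.nb_eq hi a, show st.hb i a * st.nb i 1 * y (T.smp i) s * (st.hb i a * st.nb i 1)⁻¹ =
    st.hb i a * (st.nb i 1 * y (T.smp i) s * (st.nb i 1)⁻¹) * (st.hb i a)⁻¹ by simp [mul_assoc],
    st.conj_n1 hi hp, (ok.toOK.smp_spec hi).2.2.1, (ok.toOK.smp_spec hi).2.2.2.1,
    st.conj_hb hi ha (ok.toOK.neg_lt hp), ok.toOK.cA_neg hp hi, (ok.toOK.smp_spec hi).2.1, zpow_neg, zpow_two]
  congr 1
  push_cast
  field_simp

theorem nb_conj_neg (st : StHyp ok y θ) {i : ℕ} (hi : i < D.rank) {a : F} (ha : a ≠ 0) (s : F) :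
    st.nb i a * y (T.neg (T.smp i)) s * (st.nb i a)⁻¹ = y (T.smp i) (-(a ^ 2 * s)) := by
  have hp := ok.toOK.smp_lt hi
  rw [st.nb_eq hi a, show st.hb i a * st.nb i 1 * y (T.neg (T.smp i)) s * (st.hb i a * st.nb i 1)⁻¹ =
    st.hb i a * (st.nb i 1 * y (T.neg (T.smp i)) s * (st.nb i 1)⁻¹) * (st.hb i a)⁻¹ by simp [mul_assoc],
    st.conj_n1 hi (ok.toOK.neg_lt hp), ok.toOK.refl_neg hi hp, (ok.toOK.smp_spec hi).2.2.1, ok.toOK.neg_neg' hp,
    (ok.toOK.smp_spec hi).2.2.2.2, st.conj_hb hi ha hp, (ok.toOK.smp_spec hi).2.1, zpow_two]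
  congr 1
  push_cast
  ring

theorem nb_flip (st : StHyp ok y θ) {i : ℕ} (hi : i < D.rank) {a : F} (ha : a ≠ 0) :
    st.nb i a = y (T.neg (T.smp i)) (-a⁻¹) * y (T.smp i) a * y (T.neg (T.smp i)) (-a⁻¹) := by
  conv_lhs => rw [← mul_inv_cancel_right (st.nb i a) (st.nb i a)]
  conv_lhs => arg 1; arg 2; rw [nb]
  rw [← conj_mul, ← conj_mul, st.nb_conj_pos hi ha, st.nb_conj_neg hi ha]
  have e1 : a / a ^ 2 = a⁻¹ := by field_simp
  have e2 : -(a ^ 2 * -a⁻¹) = a := by field_simp
  rw [e1, e2]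

theorem zz_neg (st : StHyp ok y θ) {i : ℕ} (hi : i < D.rank) {a : F} (ha : a ≠ 0) : st.zz i a (-a) = 1 := by
  have hp := ok.toOK.smp_lt hi
  have hne : -(a * a) ≠ 0 := neg_ne_zero.mpr (mul_ne_zero ha ha)
  have key : st.nb i a * st.nb i (-1) * (st.nb i a)⁻¹ = st.nb i (-(a * a)) := by
    rw [st.nb_flip hi hne, show st.nb i (-1) = y (T.smp i) (-1) * y (T.neg (T.smp i)) 1 * y (T.smp i) (-1) by
      simp [nb, inv_neg], ← conj_mul, ← conj_mul, st.nb_conj_pos hi ha,
      st.nb_conj_neg hi ha]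
    congr 2 <;> congr 1 <;> field_simp
  rw [zz, mul_neg, hb, hb, hb, ← key, st.nb_inv hi a]
  simp [mul_assoc]

theorem zz_sum (st : StHyp ok y θ) {i : ℕ} (hi : i < D.rank) {a b : F} (ha : a ≠ 0) (hb : b ≠ 0) (h : a + b = 1) :
    st.zz i a b = 1 := by
  have hp := ok.toOK.smp_lt hi
  have hn := ok.toOK.neg_lt hp
  set x : F → S := fun s => y (T.smp i) s with hx
  set w : F → S := fun s => y (T.neg (T.smp i)) s with hw
  have key : st.nb i a * st.nb i (-1) * st.nb i b = st.nb i (a * b) := by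
    have hflip : st.nb i (-1) = w 1 * x (-1) * w 1 := by
      rw [st.nb_flip hi (neg_ne_zero.mpr one_ne_zero), inv_neg, inv_one, neg_neg]
    have e1 : st.nb i a * w 1 = x (-(a ^ 2)) * st.nb i a := by
      have := st.nb_conj_neg hi ha 1
      rw [mul_one, mul_inv_eq_iff_eq_mul] at this
      exact this
    have e2 : w 1 * st.nb i b = st.nb i b * x (-(b ^ 2)) := by
      have := st.nb_conj_pos hi hb (-(b ^ 2))
      rw [neg_div, div_self (pow_ne_zero 2 hb), neg_neg, mul_inv_eq_iff_eq_mul] at this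
      exact this.symm
    have e3 : x (-1) = x (-a) * x (-b) := by
      rw [hx]; simp only; rw [st.add _ hp]; congr 1; linear_combination h
    have e4 : st.nb i a * x (-a) = x a * w (-a⁻¹) := by
      rw [nb, hx, hw]; simp only; rw [mul_assoc, st.add _ hp, add_neg_cancel, st.y_zero hp, mul_one]
    have e5 : x (-b) * st.nb i b = w (-b⁻¹) * x b := by
      rw [nb, hx, hw]; simp only
      rw [← mul_assoc, ← mul_assoc, st.add _ hp, neg_add_cancel, st.y_zero hp, one_mul]
    have e6 : x (-(a ^ 2)) * x a = x (a * b) := by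
      rw [hx]; simp only; rw [st.add _ hp]; congr 1; linear_combination -a * h
    have e7 : x b * x (-(b ^ 2)) = x (a * b) := by
      rw [hx]; simp only; rw [st.add _ hp]; congr 1; linear_combination -b * h
    have e8 : w (-a⁻¹) * w (-b⁻¹) = w (-(a * b)⁻¹) := by
      rw [hw]; simp only; rw [st.add _ hn]; congr 1
      field_simp
      linear_combination -h
    calc st.nb i a * st.nb i (-1) * st.nb i b
        = (st.nb i a * w 1) * x (-1) * (w 1 * st.nb i b) := by rw [hflip]; simp only [mul_assoc]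
      _ = x (-(a ^ 2)) * (st.nb i a * x (-a)) * (x (-b) * st.nb i b) * x (-(b ^ 2)) := by
          rw [e1, e2, e3]; simp only [mul_assoc]
      _ = (x (-(a ^ 2)) * x a) * (w (-a⁻¹) * w (-b⁻¹)) * (x b * x (-(b ^ 2))) := by
          rw [e4, e5]; simp only [mul_assoc]
      _ = _ := by rw [e6, e7, e8]; rfl
  rw [zz, StHyp.hb, StHyp.hb, StHyp.hb, ← mul_assoc (st.nb i a * st.nb i (-1)), key, mul_inv_cancel]

theorem zz_sq [Finite F] (st : StHyp ok y θ) {i : ℕ} (hi : i < D.rank) {a b : F} (ha : a ≠ 0) (hb : b ≠ 0) :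
    st.zz i (b * b) a = 1 := by
  have h := st.hb_conj hi hi hb a
  rw [(ok.toOK.smp_spec hi).2.1, zpow_two, (st.hb_commute hi hb ha).eq, mul_inv_cancel_right] at h
  have hbb := mul_ne_zero hb hb
  rw [eq_mul_inv_iff_mul_eq, (st.hb_commute hi ha hbb).eq] at h
  rw [zz, h, mul_inv_cancel]

theorem zz_trivial [Finite F] (st : StHyp ok y θ) {i : ℕ} (hi : i < D.rank) {a b : F} (ha : a ≠ 0) (hb : b ≠ 0) :
    st.zz i a b = 1 := by
  classical
  by_cases hsa : IsSquare a
  · obtain ⟨c, rfl⟩ := hsa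
    exact st.zz_sq hi hb (left_ne_zero_of_mul ha)
  by_cases hsb : IsSquare b
  · obtain ⟨c, rfl⟩ := hsb
    rw [st.zz_symm hi ha hb]
    exact st.zz_sq hi ha (left_ne_zero_of_mul hb)
  obtain ⟨u, v, hu, hv, huv⟩ := exists_nonsquare_pair (F := F) ⟨a, hsa⟩
  have hu0 : u ≠ 0 := fun e => hu (e ▸ ⟨0, by simp⟩)
  have hv0 : v ≠ 0 := fun e => hv (e ▸ ⟨0, by simp⟩)
  have hzero : st.zz i u v = 1 := by
    rcases huv with h | h
    · exact st.zz_sum hi hu0 hv0 h
    · rw [show v = -u by linear_combination h]; exact st.zz_neg hi hu0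
  have hshift : ∀ c d e : F, c ≠ 0 → d ≠ 0 → e ≠ 0 → ¬ IsSquare c → ¬ IsSquare d → st.zz i c e = st.zz i d e := by
    intro c d e hc hd he hsc hsd
    obtain ⟨s, hs⟩ : IsSquare (c * d) := by
      have : Fintype F := Fintype.ofFinite F
      by_cases h2 : ringChar F = 2
      · exact absurd (FiniteField.isSquare_of_char_two h2 c) hsc
      rw [← quadraticChar_one_iff_isSquare (mul_ne_zero hc hd), map_mul,
        quadraticChar_neg_one_iff_not_isSquare.mpr hsc, quadraticChar_neg_one_iff_not_isSquare.mpr hsd]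
      norm_num
    have hs0 : s ≠ 0 := fun e' => mul_ne_zero hc hd (by rw [hs, e', zero_mul])
    have hk : c = (s / d) * (s / d) * d := by field_simp; linear_combination hs
    have hsd0 : s / d ≠ 0 := div_ne_zero hs0 hd
    have h := st.zz_cocycle hi (mul_ne_zero hsd0 hsd0) hd he
    rw [st.zz_sq hi hd hsd0, st.zz_sq hi (mul_ne_zero hd he) hsd0, ← hk, one_mul, one_mul] at h
    exact h
  rw [hshift a u b ha hu0 hb hsa hu, st.zz_symm hi hu0 hb, hshift b v u hb hv0 hu0 hsb hv, st.zz_symm hi hv0 hu0]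
  exact hzero

theorem hmul_finite [Finite F] (st : StHyp ok y θ) : st.HMul := fun i hi a b ha hb => by
  rw [st.hb_mul_eq, st.zz_trivial hi ha hb, one_mul]

/-- `n̄_r(a)` for any root. -/
noncomputable def nY (_st : StHyp ok y θ) (r : ℕ) (a : F) : S := y r a * y (T.neg r) (-a⁻¹) * y r a

/-- `h̄_r(a)` for any root. -/
noncomputable def hY (st : StHyp ok y θ) (r : ℕ) (a : F) : S := st.nY r a * st.nY r (-1)

theorem hY_one (st : StHyp ok y θ) {r : ℕ} (hr : r < D.nroots) : st.hY r 1 = 1 := by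
  rw [hY, nY, nY, inv_one, inv_neg, inv_one, neg_neg, mul_assoc (y r 1 * _), ← mul_assoc (y r 1) _ (y r (-1)),
    ← mul_assoc (y r 1) (y r (-1)), st.add r hr, add_neg_cancel, st.y_zero hr, one_mul, mul_assoc (y r 1),
    ← mul_assoc (y (T.neg r) (-1)), st.add _ (ok.toOK.neg_lt hr), neg_add_cancel, st.y_zero (ok.toOK.neg_lt hr),
    one_mul, st.add r hr, add_neg_cancel, st.y_zero hr]

theorem hY_mul [Finite F] (st : StHyp ok y θ) :
    ∀ r < D.nroots, ∀ a b : F, a ≠ 0 → b ≠ 0 → st.hY r a * st.hY r b = st.hY r (a * b) := by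
  suffices hh : ∀ (L : List (ℕ × Option (ℕ × ℕ))) (seen : List ℕ), T.chkOrder D L seen = true →
      (∀ e ∈ L, e ∈ T.order) →
      (∀ r ∈ seen, r < D.nroots ∧ ∀ a b : F, a ≠ 0 → b ≠ 0 → st.hY r a * st.hY r b = st.hY r (a * b)) →
      ∀ r < D.nroots, ∀ a b : F, a ≠ 0 → b ≠ 0 → st.hY r a * st.hY r b = st.hY r (a * b) from
    hh T.order [] ok.toOK.order (fun _ => id) (by simp)
  intro L
  induction L with
  | nil =>
    intro seen hc _ hs a ha
    replace hc : allR D.nroots (fun r => anyL (fun s => Nat.beq s r) seen) = true := hc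
    simp only [allR_iff, anyL_iff, Nat.beq_eq] at hc
    obtain ⟨b, hb, rfl⟩ := hc a ha
    exact (hs b hb).2
  | cons p L ih =>
    obtain ⟨a, o⟩ := p
    intro seen hc hL hs
    replace hc : andR (nlt a D.nroots) (andR (@Option.rec (ℕ × ℕ) (fun _ => Bool) true
        (fun q => andR (nlt q.1 D.rank) <| andR (anyL (fun s => Nat.beq s q.2) seen) <|
          Nat.beq (T.refl q.1 q.2) a) o) (T.chkOrder D L (a :: seen))) = true := hc
    simp only [andR_iff, nlt_iff] at hc
    refine ih (a :: seen) hc.2.2 (fun e he => hL e (List.mem_cons_of_mem _ he)) ?_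
    intro r hr
    rcases List.mem_cons.mp hr with rfl | hr
    swap
    · exact hs r hr
    refine ⟨hc.1, ?_⟩
    rcases o with _ | ⟨i, c⟩
    · obtain ⟨i, hi, rfl⟩ := ok.toOK.rep_simple (r := r) (by
        simp only [Tabs.reps, flatR_eq, List.mem_flatMap]
        exact ⟨_, hL _ List.mem_cons_self, List.mem_singleton.mpr rfl⟩)
      exact st.hmul_finite i hi
    · have h2 := hc.2.1
      simp only [andR_iff, nlt_iff, anyL_iff, Nat.beq_eq] at h2
      obtain ⟨hi, ⟨c', hc', rfl⟩, rfl⟩ := h2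
      obtain ⟨hcn, hcd⟩ := hs _ hc'
      set η : F := (T.eta i c' : F) with hη
      have hr := ok.toOK.refl_lt hi hcn
      have hne : η ≠ 0 := left_ne_zero_of_mul_eq_one (ok.toOK.eta_sq hi hcn)
      have hηn : (T.eta i (T.neg c') : F) = η⁻¹ := by
        refine eq_inv_of_mul_eq_one_right ?_
        rw [hη, ← Int.cast_mul, ok.toOK.eta_neg hi hcn, Int.cast_one]
      have hn : ∀ x : F, st.nb i 1 * st.nY c' x * (st.nb i 1)⁻¹ = st.nY (T.refl i c') (η * x) := by
        intro x
        rw [nY, nY, ← conj_mul, ← conj_mul, st.conj_n1 hi hcn, st.conj_n1 hi (ok.toOK.neg_lt hcn),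
          ok.toOK.refl_neg hi hcn, hηn, mul_neg, mul_inv]
      have hinv : ∀ x : F, (st.nY (T.refl i c') x)⁻¹ = st.nY (T.refl i c') (-x) := by
        intro x
        rw [nY, nY, mul_inv_rev, mul_inv_rev, st.y_inv hr, st.y_inv (ok.toOK.neg_lt hr), inv_neg, neg_neg, mul_assoc]
      have hconj : ∀ x : F, st.nb i 1 * st.hY c' x * (st.nb i 1)⁻¹ =
          st.hY (T.refl i c') (η * x) * (st.hY (T.refl i c') η)⁻¹ := by
        intro x
        rw [hY, hY, hY, ← conj_mul, hn, hn, mul_neg_one, ← hinv η, mul_inv_rev]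
        simp [mul_assoc]
      have hf : ∀ x z : F, x ≠ 0 → z ≠ 0 →
          st.hY (T.refl i c') (η * (x * z)) * (st.hY (T.refl i c') η)⁻¹ =
            (st.hY (T.refl i c') (η * x) * (st.hY (T.refl i c') η)⁻¹) *
              (st.hY (T.refl i c') (η * z) * (st.hY (T.refl i c') η)⁻¹) := by
        intro x z hx hz
        rw [← hconj, ← hconj, ← hconj, conj_mul, hcd x z hx hz]
      intro x z hx hz
      rcases ok.toOK.eta_unit hi hcn with e | e
      · have := hf x z hx hz
        rw [hη, e, Int.cast_one, one_mul, one_mul, one_mul, st.hY_one hr, inv_one, mul_one, mul_one, mul_one] at this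
        exact this.symm
      · have hm : η = -1 := by rw [hη, e]; simp
        set H := st.hY (T.refl i c') with hH
        have hone : H (1 : F) = 1 := by rw [hH]; exact st.hY_one hr
        set g : F → S := fun w => H (η * w) * (H η)⁻¹ with hg
        have hgm : ∀ w₁ w₂ : F, w₁ ≠ 0 → w₂ ≠ 0 → g (w₁ * w₂) = g w₁ * g w₂ := hf
        have hHg : ∀ w : F, H w = g (-w) * H η := by
          intro w; rw [hg]; simp only; rw [inv_mul_cancel_right, hm, neg_one_mul, neg_neg]
        have hHη : H η = (g (-1))⁻¹ := eq_inv_of_mul_eq_one_right (by rw [← hHg, hone])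
        have hval : ∀ w : F, w ≠ 0 → H w = g w := by
          intro w hw
          rw [hHg, hHη, show -w = w * -1 by ring, hgm w _ hw (neg_ne_zero.mpr one_ne_zero), mul_inv_cancel_right]
        rw [hval x hx, hval z hz, hval _ (mul_ne_zero hx hz), hgm x z hx hz]

end StHyp

end Cfsg.Agent.Chev
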