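import Cfsg.Agent.Lib.Chev.Bruhat

/-!
Cosets of the Borel subgroup: transversals of the Weyl group built along a chain of parabolic subgroups.
-/

set_option autoImplicit false

namespace Cfsg.Agent.Chev

open Cfsg.Lie

namespace Tabs

variable (D : ChevalleyDatum) (T : Tabs)

/-- The permutation of a word, for evaluation. -/
noncomputable def piR (w : List ℕ) (r : ℕ) : ℕ :=
  @List.rec ℕ (fun _ => ℕ) r (fun i _ x => T.refl i x) w

theorem piR_eq (T : Tabs) : ∀ (w : List ℕ) (r : ℕ), T.piR w r = piW T w r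
  | [], _ => rfl
  | i :: w, r => by
    show T.refl i (T.piR w r) = _
    rw [piR_eq T w r]; rfl

/-- Images of the fundamental roots. -/
noncomputable def imgs (w : List ℕ) : List ℕ := mapR (fun k => T.piR w (T.smp k)) (upTo D.rank)

/-- A certificate for one level: each representative with, for every generator, either the representative
it is moved to (`inl`) or the generator of the smaller set it passes to (`inr`). -/
abbrev Level := List (List ℕ × List (ℕ × (List ℕ ⊕ ℕ)))

/-- One generator at one representative. -/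
noncomputable def chkMove (J : List ℕ) (R : Level) (v : List ℕ) (e : ℕ × (List ℕ ⊕ ℕ)) : Bool :=
  @Sum.rec (List ℕ) ℕ (fun _ => Bool)
    (fun v' => andR (anyL (fun f => eqL Nat.beq f.1 v') R)
      (eqL Nat.beq (mapR (T.refl e.1) (imgs D T v)) (imgs D T v')))
    (fun j => andR (anyL (fun k => Nat.beq k j) J) (Nat.beq (T.piR v (T.smp j)) (T.smp e.1))) e.2

/-- One level of the chain. -/
noncomputable def chkLevel (K J : List ℕ) (R : Level) : Bool :=
  andR (allL (fun k => nlt k D.rank) K) <| andR (allL (fun j => anyL (fun k => Nat.beq k j) K) J) <|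
  andR (anyL (fun f => isNilR f.1) R) <|
  allL (fun f =>
    andR (allL (fun i => anyL (fun k => Nat.beq k i) K) f.1) <|
    andR (@List.rec ℕ (fun _ => Bool) true
      (fun i u _ => andR (anyL (fun g => eqL Nat.beq g.1 u) R) (ipos (T.htf (T.piR u.reverse (T.smp i))))) f.1) <|
    andR (allL (fun j => ipos (T.htf (T.piR f.1 (T.smp j)))) J) <|
    andR (eqL Nat.beq (mapR (fun e => e.1) f.2) K) <|
    allL (fun e => chkMove D T J R f.1 e) f.2) R

/-- The images of the representatives differ pairwise. -/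
noncomputable def chkDistinct : List (List ℕ) → Bool
  | [] => true
  | a :: L => andR (allL (fun b => notR (eqL Nat.beq a b)) L) (chkDistinct L)

theorem pairwise_of_chkDistinct : ∀ {L : List (List ℕ)}, chkDistinct L = true → L.Pairwise (fun a b => a ≠ b)
  | [], _ => List.Pairwise.nil
  | a :: L, h => by
    simp only [chkDistinct, andR_iff, allL_iff, notR_iff] at h
    refine List.Pairwise.cons (fun b hb e => ?_) (pairwise_of_chkDistinct h.2)
    subst e
    have h1 : ∀ l : List ℕ, eqL Nat.beq l l = true := by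
      intro l
      induction l with
      | nil => rfl
      | cons x l ih => show andR (Nat.beq x x) (eqL Nat.beq l l) = true; rw [ih]; simp
    exact absurd (h1 a) (by rw [h.1 a hb]; simp)

end Tabs

variable {F : Type*} [Field F] {D : ChevalleyDatum} {T : Tabs}

/-- A transversal of the group generated by the reflections in `K`, by words. -/
structure Trans (D : ChevalleyDatum) (T : Tabs) (K : List ℕ) (L : List (List ℕ)) : Prop where
  mem : ∀ w ∈ L, ∀ i ∈ w, i ∈ K
  complete : ∀ w : List ℕ, (∀ i ∈ w, i ∈ K) → ∃ v ∈ L, ∀ r < D.nroots, piW T w r = piW T v r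
  distinct : L.Pairwise fun v v' => ∃ r < D.nroots, piW T v r ≠ piW T v' r

/-- The trivial transversal. -/
theorem Trans.nil : Trans D T [] [[]] where
  mem := by simp
  complete := fun w hw => ⟨[], List.mem_singleton.mpr rfl, fun r _ => by
    rcases w with _ | ⟨i, w⟩
    · rfl
    · exact absurd (hw i List.mem_cons_self) List.not_mem_nil⟩
  distinct := List.pairwise_singleton _ _

theorem piW_reverse (hrr : ∀ i < D.rank, ∀ s < D.nroots, T.refl i (T.refl i s) = s)
    (hlt : ∀ i < D.rank, ∀ s < D.nroots, T.refl i s < D.nroots) :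
    ∀ (w : List ℕ), (∀ i ∈ w, i < D.rank) → ∀ r < D.nroots, piW T w.reverse (piW T w r) = r
  | [], _, _, _ => rfl
  | i :: w, hw, r, hr => by
    have hlt' : ∀ (v : List ℕ), (∀ j ∈ v, j < D.rank) → piW T v r < D.nroots := by
      intro v
      induction v with
      | nil => exact fun _ => hr
      | cons j v ih => exact fun hv => hlt j (hv j List.mem_cons_self) _ (ih fun k hk => hv k (List.mem_cons_of_mem _ hk))
    have hw' : ∀ j ∈ w, j < D.rank := fun j hj => hw j (List.mem_cons_of_mem _ hj)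
    rw [List.reverse_cons, piW_append, piW, piW, piW, hrr i (hw i List.mem_cons_self) _ (hlt' w hw')]
    exact piW_reverse hrr hlt w hw' r hr

namespace OKX

variable (ok : OKX D T)

include ok

theorem rev_piW {w : List ℕ} (hw : ∀ i ∈ w, i < D.rank) {r : ℕ} (hr : r < D.nroots) :
    piW T w.reverse (piW T w r) = r :=
  piW_reverse (fun _ hi _ hs => ok.toOK.refl_refl hi hs) (fun _ hi _ hs => ok.toOK.refl_lt hi hs) w hw r hr

theorem piW_rev {w : List ℕ} (hw : ∀ i ∈ w, i < D.rank) {r : ℕ} (hr : r < D.nroots) :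
    piW T w (piW T w.reverse r) = r := by
  have := ok.rev_piW (w := w.reverse) (fun i hi => hw i (List.mem_reverse.mp hi)) hr
  rwa [List.reverse_reverse] at this

theorem piW_inj {w : List ℕ} (hw : ∀ i ∈ w, i < D.rank) {a b : ℕ} (ha : a < D.nroots) (hb : b < D.nroots)
    (h : piW T w a = piW T w b) : a = b := by
  rw [← ok.rev_piW hw ha, h, ok.rev_piW hw hb]

/-- Words that agree on the fundamental roots agree. -/
theorem piW_ext {v v' : List ℕ} (hv : ∀ i ∈ v, i < D.rank) (hv' : ∀ i ∈ v', i < D.rank)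
    (h : ∀ k < D.rank, piW T v (T.smp k) = piW T v' (T.smp k)) {r : ℕ} (hr : r < D.nroots) :
    piW T v r = piW T v' r := by
  set u := v'.reverse ++ v with hu
  have hu' : ∀ i ∈ u, i < D.rank := fun i hi => by
    rcases List.mem_append.mp hi with h | h
    · exact hv' i (List.mem_reverse.mp h)
    · exact hv i h
  have hfix : ∀ k < D.rank, piW T u (T.smp k) = T.smp k := fun k hk => by
    rw [hu, piW_append, h k hk, ok.rev_piW hv' (ok.toOK.smp_lt hk)]
  have hd := ok.gW_mem_diag_of_pos (F := ℚ) _ u rfl hu' fun s hs h0 => ok.pos_of_simple hu'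
    (fun k hk => by rw [hfix k hk, (ok.toOK.smp_spec hk).1]; norm_num) hs h0
  have he : piW T u r = r := ok.toOK.act_borel (ok.toOK.act_gW u hu') (Subgroup.mem_sup_right hd) hr
  rw [hu, piW_append] at he
  have := congrArg (piW T v') he
  rwa [ok.piW_rev hv' (ok.piW_lt hv hr)] at this

omit ok in
/-- The root lies in the span of the fundamental roots of `J`. -/
def InJ (D : ChevalleyDatum) (T : Tabs) (J : List ℕ) (r : ℕ) : Prop := ∀ k < D.rank, k ∉ J → T.cC r k = 0

theorem cC_word {J : List ℕ} {x : List ℕ} (hx : ∀ i ∈ x, i ∈ J) (hJ : ∀ j ∈ J, j < D.rank) {r : ℕ}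
    (hr : r < D.nroots) {k : ℕ} (hk : k < D.rank) (hkJ : k ∉ J) : T.cC (piW T x r) k = T.cC r k := by
  induction x with
  | nil => rfl
  | cons i x ih =>
    have hx' : ∀ j ∈ x, j ∈ J := fun j hj => hx j (List.mem_cons_of_mem _ hj)
    have hiJ := hx i List.mem_cons_self
    show T.cC (T.refl i (piW T x r)) k = _
    rw [ok.toOK.cC_refl (hJ i hiJ) hk (ok.piW_lt (fun j hj => hJ j (hx' j hj)) hr),
      if_neg (fun e => hkJ (by rw [e]; exact hiJ)), sub_zero, ih hx']

theorem pos_of_simple_J {J : List ℕ} {w : List ℕ} (hw : ∀ i ∈ w, i < D.rank)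
    (h : ∀ j ∈ J, 0 < T.htf (piW T w (T.smp j))) (hJ : ∀ j ∈ J, j < D.rank) {r : ℕ} (hr : r < D.nroots)
    (hrJ : InJ D T J r) (h0 : 0 < T.htf r) : 0 < T.htf (piW T w r) := by
  have hlt := ok.piW_lt hw hr
  by_contra hc
  have hneg : D.IsNegRoot (piW T w r) := ok.toOK.isNeg_iff.mpr ⟨hlt, by have := ok.toOK.ht_ne hlt; omega⟩
  have hrp : ∀ k < D.rank, 0 ≤ T.cC r k := fun k hk =>
    ((ok.toOK.isPos_iff (r := r)).mpr ⟨hr, h0⟩).2 _
      (by rw [ok.toOK.coroot_list hr]; exact List.mem_map.mpr ⟨k, List.mem_range.mpr hk, rfl⟩)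
  obtain ⟨a, ha, b, hb, x, y, hxy⟩ := ok.toOK.bezout hlt
  have hz : ∀ j < D.rank, T.cC (piW T w r) j = 0 := by
    intro j hj
    refine le_antisymm
      (hneg.2 _ (by rw [ok.toOK.coroot_list hlt]; exact List.mem_map.mpr ⟨j, List.mem_range.mpr hj, rfl⟩)) ?_
    rw [ok.cC_piW hw hr hj]
    refine Finset.sum_nonneg fun k hk => ?_
    by_cases hkJ : k ∈ J
    · refine mul_nonneg (hrp k (Finset.mem_range.mp hk)) ?_
      have hk'' := ok.piW_lt hw (ok.toOK.smp_lt (hJ k hkJ))
      have hp : D.IsPosRoot (piW T w (T.smp k)) := ok.toOK.isPos_iff.mpr ⟨hk'', h k hkJ⟩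
      exact hp.2 _ (by rw [ok.toOK.coroot_list hk'']; exact List.mem_map.mpr ⟨j, List.mem_range.mpr hj, rfl⟩)
    · rw [hrJ k (Finset.mem_range.mp hk) hkJ, zero_mul]
  rw [hz a ha, hz b hb] at hxy
  simp at hxy

theorem negCount_congr {v w : List ℕ} (h : ∀ r < D.nroots, piW T v r = piW T w r) : ok.negCount v = ok.negCount w := by
  unfold negCount
  congr 1
  exact Finset.filter_congr fun r hr => by rw [h r (Finset.mem_range.mp hr)]

theorem negCount_le_succ {w : List ℕ} {i : ℕ} (hi : i < D.rank) (hw : ∀ k ∈ w, k < D.rank) :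
    ok.negCount (w ++ [i]) ≤ ok.negCount w + 1 := by
  classical
  unfold negCount
  refine le_trans ?_ (Finset.card_insert_le (T.smp i) (Finset.image (T.refl i)
    ((Finset.range D.nroots).filter fun r => 0 < T.htf r ∧ T.htf (piW T w r) < 0))) |>.trans
    (Nat.add_le_add_right Finset.card_image_le 1)
  refine Finset.card_le_card fun r hr => ?_
  simp only [Finset.mem_filter, Finset.mem_range] at hr
  obtain ⟨hr1, hr2, hr3⟩ := hr
  rw [piW_append, piW, piW] at hr3
  by_cases e : r = T.smp i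
  · exact Finset.mem_insert.mpr (Or.inl e)
  refine Finset.mem_insert.mpr (Or.inr (Finset.mem_image.mpr ⟨T.refl i r, ?_, ok.toOK.refl_refl hi hr1⟩))
  simp only [Finset.mem_filter, Finset.mem_range]
  exact ⟨ok.toOK.refl_lt hi hr1, ok.toOK.refl_pos hi hr1 e hr2, hr3⟩

theorem negCount_cons {i : ℕ} {u : List ℕ} (hi : i < D.rank) (hu : ∀ k ∈ u, k < D.rank)
    (h : 0 < T.htf (piW T u.reverse (T.smp i))) : ok.negCount (i :: u) = ok.negCount u + 1 := by
  classical
  have hrev : ∀ k ∈ u.reverse, k < D.rank := fun k hk => hu k (List.mem_reverse.mp hk)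
  set r₀ := piW T u.reverse (T.smp i) with hr₀
  have hr₀lt : r₀ < D.nroots := ok.piW_lt hrev (ok.toOK.smp_lt hi)
  have hur : piW T u r₀ = T.smp i := ok.piW_rev hu (ok.toOK.smp_lt hi)
  have hmem : r₀ ∉ (Finset.range D.nroots).filter fun r => 0 < T.htf r ∧ T.htf (piW T u r) < 0 := by
    simp only [Finset.mem_filter, hur, (ok.toOK.smp_spec hi).1]
    omega
  unfold negCount
  rw [← Finset.card_insert_of_notMem hmem]
  refine congrArg Finset.card ?_
  ext r
  simp only [Finset.mem_filter, Finset.mem_range, Finset.mem_insert]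
  simp only [piW]
  constructor
  · rintro ⟨h1, h2, h3⟩
    by_cases e : r = r₀
    · exact Or.inl e
    refine Or.inr ⟨h1, h2, ?_⟩
    by_contra hc
    have hlt := ok.piW_lt hu h1
    have hp : 0 < T.htf (piW T u r) := by have := ok.toOK.ht_ne hlt; omega
    have := ok.toOK.refl_pos hi hlt (fun e' => e (ok.piW_inj hu h1 hr₀lt (e'.trans hur.symm))) hp
    omega
  · rintro (rfl | ⟨h1, h2, h3⟩)
    · exact ⟨hr₀lt, h, by rw [hur, (ok.toOK.smp_spec hi).2.2.1, ok.toOK.ht_neg (ok.toOK.smp_lt hi),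
        (ok.toOK.smp_spec hi).1]; norm_num⟩
    · refine ⟨h1, h2, ?_⟩
      have hlt := ok.piW_lt hu h1
      by_contra hc
      have hne : piW T u r ≠ T.neg (T.smp i) := fun e => by
        have hn : piW T u (T.neg r₀) = T.neg (T.smp i) := by rw [ok.piW_neg hu hr₀lt, hur]
        have := ok.piW_inj hu h1 (ok.toOK.neg_lt hr₀lt) (e.trans hn.symm)
        rw [this, ok.toOK.ht_neg hr₀lt] at h2
        omega
      have hne' : piW T u r ≠ T.smp i := fun e => by rw [e, (ok.toOK.smp_spec hi).1] at h3; omega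
      have h4 := (ok.toOK.refl_pos_iff hi hlt hne' hne).mp
        (by have := ok.toOK.ht_ne (ok.toOK.refl_lt hi hlt); omega)
      omega

theorem level_props {K J : List ℕ} {R : Tabs.Level} (h : Tabs.chkLevel D T K J R = true) :
    (∀ k ∈ K, k < D.rank) ∧ (∀ j ∈ J, j ∈ K) ∧ (∃ f ∈ R, f.1 = []) ∧
    ∀ f ∈ R, (∀ i ∈ f.1, i ∈ K) ∧ ok.negCount f.1 = f.1.length ∧ (∀ j ∈ J, 0 < T.htf (piW T f.1 (T.smp j))) ∧
      ∀ k ∈ K, (∃ g ∈ R, ∀ r < D.nroots, piW T (k :: f.1) r = piW T g.1 r) ∨
        ∃ j ∈ J, ∀ r < D.nroots, piW T (k :: f.1) r = piW T (f.1 ++ [j]) r := by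
  simp only [Tabs.chkLevel, andR_iff, allL_iff, nlt_iff, anyL_iff, Nat.beq_eq, isNilR_iff, ipos_iff,
    Tabs.piR_eq] at h
  obtain ⟨hK, hJ, hnil, hR⟩ := h
  have hK' : ∀ k ∈ K, k < D.rank := hK
  have hJ' : ∀ j ∈ J, j ∈ K := fun j hj => by obtain ⟨k, hk, e⟩ := hJ j hj; exact e ▸ hk
  have hmemK : ∀ f ∈ R, ∀ i ∈ f.1, i ∈ K := fun f hf i hi => by
    obtain ⟨k, hk, e⟩ := (hR f hf).1 i hi; exact e ▸ hk
  have hlen : ∀ (n : ℕ), ∀ f ∈ R, f.1.length = n → ok.negCount f.1 = n := by
    intro n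
    induction n with
    | zero =>
      intro f _ hl
      rw [List.length_eq_zero_iff.mp hl]
      unfold negCount
      rw [Finset.card_eq_zero, Finset.filter_eq_empty_iff]
      intro r _ hc
      simp only [piW] at hc
      omega
    | succ n ih =>
      intro f hf hl
      have hmem := hmemK f hf
      have h2 := (hR f hf).2.1
      generalize f.1 = w at h2 hl hmem ⊢
      rcases w with _ | ⟨i, u⟩
      · simp at hl
      replace h2 : andR (anyL (fun g => eqL Nat.beq g.1 u) R) (ipos (T.htf (piW T u.reverse (T.smp i)))) = true := h2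
      simp only [andR_iff, anyL_iff, ipos_iff] at h2
      obtain ⟨⟨g, hg, e⟩, hpos⟩ := h2
      have e' := eq_of_eqL (fun a b => Nat.beq_eq.mp) e
      subst e'
      rw [ok.negCount_cons (hK' i (hmem i List.mem_cons_self))
        (fun k hk => hK' k (hmem k (List.mem_cons_of_mem _ hk))) hpos,
        ih g hg (by simpa using hl)]
  refine ⟨hK', hJ', by obtain ⟨f, hf, e⟩ := hnil; exact ⟨f, hf, e⟩, fun f hf => ⟨hmemK f hf, hlen _ f hf rfl,
    (hR f hf).2.2.1, fun k hk => ?_⟩⟩
  obtain ⟨h4, h5⟩ := (hR f hf).2.2.2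
  have h4' := eq_of_eqL (fun a b => Nat.beq_eq.mp) h4
  rw [mapR_eq] at h4'
  obtain ⟨e, he, rfl⟩ := List.mem_map.mp (h4' ▸ hk : k ∈ f.2.map fun e => e.1)
  have hv : ∀ i ∈ f.1, i < D.rank := fun i hi => hK' i (hmemK f hf i hi)
  have hk' := hK' _ hk
  have hcons : ∀ i ∈ e.1 :: f.1, i < D.rank := fun i hi => by
    rcases List.mem_cons.mp hi with rfl | hi
    · exact hk'
    · exact hv i hi
  have hm := h5 e he
  obtain ⟨k, v' | j⟩ := e
  · left
    replace hm : andR (anyL (fun g => eqL Nat.beq g.1 v') R)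
        (eqL Nat.beq (mapR (T.refl k) (Tabs.imgs D T f.1)) (Tabs.imgs D T v')) = true := hm
    simp only [andR_iff, anyL_iff] at hm
    obtain ⟨⟨g, hg, e1⟩, e2⟩ := hm
    have e1' := eq_of_eqL (fun a b => Nat.beq_eq.mp) e1
    subst e1'
    have e2' := eq_of_eqL (fun a b => Nat.beq_eq.mp) e2
    simp only [Tabs.imgs, mapR_eq, upTo_eq, List.map_map] at e2'
    refine ⟨g, hg, fun r hr => ok.piW_ext hcons (fun i hi => hK' i (hmemK g hg i hi)) (fun m hm => ?_) hr⟩
    have := (List.map_inj_left.mp e2') m (List.mem_range.mpr hm)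
    simpa [Tabs.piR_eq, piW] using this
  · right
    replace hm : andR (anyL (fun m => Nat.beq m j) J) (Nat.beq (T.piR f.1 (T.smp j)) (T.smp k)) = true := hm
    simp only [andR_iff, anyL_iff, Nat.beq_eq, Tabs.piR_eq] at hm
    obtain ⟨⟨m, hm1, rfl⟩, hm2⟩ := hm
    refine ⟨m, hm1, fun r hr => ?_⟩
    have hj : m < D.rank := hK' _ (hJ' m hm1)
    have hA := ok.toOK.act_gW (F := ℚ) f.1 hv
    obtain ⟨c, hc, hc'⟩ := hA.2.1 _ (ok.toOK.smp_lt hj)
    have hconj : ok.toOK.gW ℚ f.1 * ok.toOK.nG (T.smp m) 1 * (ok.toOK.gW ℚ f.1)⁻¹ =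
        ok.toOK.hG (T.smp k) c * ok.toOK.nG (T.smp k) 1 := by
      rw [← ok.toOK.nG_eq_hG_mul (ok.toOK.smp_lt hk'), ok.toOK.nG_eq (ok.toOK.smp_lt hj),
        ok.toOK.nG_eq (ok.toOK.smp_lt hk'), ← conj_mul, ← conj_mul, (hc' 1).1, (hc' _).2, hm2]
      simp
    have e : ok.toOK.gW ℚ (f.1 ++ [m]) = ok.toOK.hG (T.smp k) c * ok.toOK.gW ℚ (k :: f.1) := by
      rw [ok.toOK.gW_append, show ok.toOK.gW ℚ [m] = ok.toOK.nG (T.smp m) 1 by simp [OK.gW], ok.toOK.gW_cons,
        ← mul_assoc, ← hconj, inv_mul_cancel_right]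
    have A1 := ok.toOK.act_gW (F := ℚ) (f.1 ++ [m]) (fun i hi => by
      rcases List.mem_append.mp hi with hi | hi
      · exact hv i hi
      · rw [List.mem_singleton.mp hi]; exact hj)
    have A2 := (ok.toOK.act_diag (ok.toOK.hG_mem_diag (ok.toOK.smp_lt hk') hc)).mul ok.toOK
      (ok.toOK.act_gW (F := ℚ) (k :: f.1) hcons)
    rw [← e] at A2
    exact (ok.toOK.act_unique A1 A2 hr).symm

theorem trans_step {K J : List ℕ} {R : Tabs.Level} (hlev : Tabs.chkLevel D T K J R = true)
    (hdist : Tabs.chkDistinct (R.map fun f => Tabs.imgs D T f.1) = true)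
    {L : List (List ℕ)} (hL : Trans D T J L) :
    Trans D T K (R.flatMap fun f => L.map fun x => f.1 ++ x) ∧
      ∀ q : ℕ, ((R.flatMap fun f => L.map fun x => f.1 ++ x).map fun w => q ^ ok.negCount w).sum =
        (R.map fun f => q ^ f.1.length).sum * (L.map fun w => q ^ ok.negCount w).sum := by
  classical
  obtain ⟨hK, hJ, ⟨f₀, hf₀, hf₀'⟩, hR⟩ := ok.level_props hlev
  have hJl : ∀ j ∈ J, j < D.rank := fun j hj => hK j (hJ j hj)
  have hxl : ∀ x ∈ L, ∀ i ∈ x, i < D.rank := fun x hx i hi => hJl i (hL.mem x hx i hi)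
  have hvl : ∀ f ∈ R, ∀ i ∈ f.1, i < D.rank := fun f hf i hi => hK i ((hR f hf).1 i hi)
  refine ⟨⟨?_, ?_, ?_⟩, ?_⟩
  · intro w hw i hi
    simp only [List.mem_flatMap, List.mem_map] at hw
    obtain ⟨f, hf, x, hx, rfl⟩ := hw
    rcases List.mem_append.mp hi with h | h
    · exact (hR f hf).1 i h
    · exact hJ i (hL.mem x hx i h)
  · intro w
    induction w with
    | nil =>
      intro _
      obtain ⟨x, hx, hx'⟩ := hL.complete [] (by simp)
      exact ⟨f₀.1 ++ x, List.mem_flatMap.mpr ⟨f₀, hf₀, List.mem_map.mpr ⟨x, hx, rfl⟩⟩, fun r hr => by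
        rw [hf₀', List.nil_append]; exact hx' r hr⟩
    | cons i w ih =>
      intro hw
      obtain ⟨v, hv, hv'⟩ := ih fun j hj => hw j (List.mem_cons_of_mem _ hj)
      simp only [List.mem_flatMap, List.mem_map] at hv
      obtain ⟨f, hf, x, hx, rfl⟩ := hv
      rcases (hR f hf).2.2.2 i (hw i List.mem_cons_self) with ⟨g, hg, hg'⟩ | ⟨j, hj, hj'⟩
      · refine ⟨g.1 ++ x, List.mem_flatMap.mpr ⟨g, hg, List.mem_map.mpr ⟨x, hx, rfl⟩⟩, fun r hr => ?_⟩
        have := hg' _ (ok.piW_lt (hxl x hx) hr)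
        rw [piW, hv' r hr, piW_append, piW_append, ← this, piW]
      · obtain ⟨y, hy, hy'⟩ := hL.complete (j :: x) (fun k hk => by
          rcases List.mem_cons.mp hk with rfl | hk
          · exact hj
          · exact hL.mem x hx k hk)
        refine ⟨f.1 ++ y, List.mem_flatMap.mpr ⟨f, hf, List.mem_map.mpr ⟨y, hy, rfl⟩⟩, fun r hr => ?_⟩
        have := hj' _ (ok.piW_lt (hxl x hx) hr)
        rw [piW, hv' r hr, piW_append, piW_append, ← hy' r hr, piW]
        rw [piW, piW_append, piW, piW] at this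
        exact this
  · rw [List.pairwise_flatMap]
    refine ⟨fun f hf => List.pairwise_map.mpr (hL.distinct.imp_of_mem fun {x x'} hx hx' => ?_), ?_⟩
    · rintro ⟨r, hr, hne⟩
      refine ⟨r, hr, fun e => hne ?_⟩
      rw [piW_append, piW_append] at e
      exact ok.piW_inj (hvl f hf) (ok.piW_lt (hxl x hx) hr) (ok.piW_lt (hxl x' hx') hr) e
    have hd := List.pairwise_map.mp (Tabs.pairwise_of_chkDistinct hdist)
    refine hd.imp_of_mem fun {f g} hf hg hne w hw w' hw' => ?_
    obtain ⟨x, hx, rfl⟩ := List.mem_map.mp hw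
    obtain ⟨x', hx', rfl⟩ := List.mem_map.mp hw'
    by_contra hc
    push Not at hc
    -- `f = g * y` with `y` a word in `J`
    set y := x' ++ x.reverse with hy
    have hyJ : ∀ i ∈ y, i ∈ J := fun i hi => by
      rcases List.mem_append.mp hi with h | h
      · exact hL.mem x' hx' i h
      · exact hL.mem x hx i (List.mem_reverse.mp h)
    have hyl : ∀ i ∈ y, i < D.rank := fun i hi => hJl i (hyJ i hi)
    have hfy : ∀ r < D.nroots, piW T f.1 r = piW T g.1 (piW T y r) := by
      intro r hr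
      have hrl : piW T x.reverse r < D.nroots := ok.piW_lt (fun i hi => hxl x hx i (List.mem_reverse.mp hi)) hr
      have := hc _ hrl
      rw [piW_append, piW_append, ok.piW_rev (hxl x hx) hr] at this
      rw [this, hy, piW_append]
    refine hne ?_
    simp only [Tabs.imgs, mapR_eq, upTo_eq]
    refine List.map_congr_left fun k hk => ?_
    rw [Tabs.piR_eq, Tabs.piR_eq]
    have hk := List.mem_range.mp hk
    have hp := ok.toOK.smp_lt hk
    by_cases hid : ∀ r < D.nroots, 0 < T.htf r → 0 < T.htf (piW T y r)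
    · have hd' := ok.gW_mem_diag_of_pos (F := ℚ) _ y rfl hyl hid
      rw [hfy _ hp, ok.toOK.act_borel (ok.toOK.act_gW y hyl) (Subgroup.mem_sup_right hd') hp]
    · exfalso
      refine hid fun r hr h0 => ok.pos_of_simple hyl (fun m hm hneg => ?_) hr h0
      have hmlt := ok.piW_lt hyl (ok.toOK.smp_lt hm)
      have hmJ : m ∈ J := by
        by_contra hmJ
        have e1 := ok.cC_word hyJ hJl (ok.toOK.smp_lt hm) hm hmJ
        rw [ok.toOK.cC_smp hm hm, if_pos rfl] at e1
        have := (ok.toOK.isNeg_iff.mpr ⟨hmlt, hneg⟩).2 _ (by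
          rw [ok.toOK.coroot_list hmlt]; exact List.mem_map.mpr ⟨m, List.mem_range.mpr hm, rfl⟩)
        rw [e1] at this
        omega
      have hnJ : InJ D T J (T.neg (piW T y (T.smp m))) := fun c hc hcJ => by
        have h := ok.toOK.root _ hmlt
        simp only [Tabs.chkRoot, andR_iff, allR_iff, ieq_iff] at h
        rw [(h.2.2.2.2.2.2.2.1 c hc).2, ok.cC_word hyJ hJl (ok.toOK.smp_lt hm) hc hcJ, ok.toOK.cC_smp hm hc,
          if_neg (show c ≠ m from fun e => hcJ (e ▸ hmJ))]
        rfl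
      have hp2 := ok.pos_of_simple_J (hvl g hg) ((hR g hg).2.2.1) hJl (ok.toOK.neg_lt hmlt) hnJ
        (by rw [ok.toOK.ht_neg hmlt]; omega)
      rw [ok.piW_neg (hvl g hg) hmlt, ← hfy _ (ok.toOK.smp_lt hm),
        ok.toOK.ht_neg (ok.piW_lt (hvl f hf) (ok.toOK.smp_lt hm))] at hp2
      have := (hR f hf).2.2.1 m hmJ
      omega
  · intro q
    have hadd : ∀ f ∈ R, ∀ x ∈ L, ok.negCount (f.1 ++ x) = f.1.length + ok.negCount x := by
      intro f hf x hx
      rw [← (hR f hf).2.1]
      set S := Finset.range D.nroots with hS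
      set inJ : ℕ → Prop := fun r => InJ D T J r with hinJ
      have hxr : ∀ i ∈ x.reverse, i < D.rank := fun i hi => hxl x hx i (List.mem_reverse.mp hi)
      have hxrJ : ∀ i ∈ x.reverse, i ∈ J := fun i hi => hL.mem x hx i (List.mem_reverse.mp hi)
      have hkeep : ∀ (z : List ℕ), (∀ i ∈ z, i ∈ J) → ∀ r < D.nroots, 0 < T.htf r → ¬ inJ r →
          0 < T.htf (piW T z r) ∧ ¬ inJ (piW T z r) := by
        intro z hz r hr h0 hn
        have hzl : ∀ i ∈ z, i < D.rank := fun i hi => hJl i (hz i hi)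
        have hlt := ok.piW_lt hzl hr
        obtain ⟨c, hc, hcJ, hne⟩ : ∃ c, c < D.rank ∧ c ∉ J ∧ T.cC r c ≠ 0 := by
          simp only [hinJ, InJ] at hn; push Not at hn; exact hn
        have e := ok.cC_word hz hJl hr hc hcJ
        refine ⟨?_, fun h => hne (by rw [← e]; exact h c hc hcJ)⟩
        by_contra hneg
        have h1 := (ok.toOK.isNeg_iff.mpr ⟨hlt, by have := ok.toOK.ht_ne hlt; omega⟩).2 _ (by
          rw [ok.toOK.coroot_list hlt]; exact List.mem_map.mpr ⟨c, List.mem_range.mpr hc, rfl⟩)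
        have h2 := ((ok.toOK.isPos_iff (r := r)).mpr ⟨hr, h0⟩).2 _ (by
          rw [ok.toOK.coroot_list hr]; exact List.mem_map.mpr ⟨c, List.mem_range.mpr hc, rfl⟩)
        rw [e] at h1
        omega
      have hfj : ∀ r < D.nroots, inJ r → (T.htf (piW T f.1 r) < 0 ↔ T.htf r < 0) := by
        intro r hr hj
        rcases lt_or_gt_of_ne (ok.toOK.ht_ne hr) with h | h
        · have hnJ : InJ D T J (T.neg r) := fun c hc hcJ => by
            have h := ok.toOK.root _ hr
            simp only [Tabs.chkRoot, andR_iff, allR_iff, ieq_iff] at h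
            rw [(h.2.2.2.2.2.2.2.1 c hc).2, hj c hc hcJ]; rfl
          have := ok.pos_of_simple_J (hvl f hf) (hR f hf).2.2.1 hJl (ok.toOK.neg_lt hr) hnJ
            (by rw [ok.toOK.ht_neg hr]; omega)
          rw [ok.piW_neg (hvl f hf) hr, ok.toOK.ht_neg (ok.piW_lt (hvl f hf) hr)] at this
          exact iff_of_true (by omega) h
        · have := ok.pos_of_simple_J (hvl f hf) (hR f hf).2.2.1 hJl hr hj h
          exact iff_of_false (by omega) (by omega)
      have hxin : ∀ r < D.nroots, inJ r → inJ (piW T x r) := fun r hr hj c hc hcJ => by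
        rw [ok.cC_word (hL.mem x hx) hJl hr hc hcJ]; exact hj c hc hcJ
      have e1 : (S.filter fun r => 0 < T.htf r ∧ T.htf (piW T (f.1 ++ x) r) < 0).card =
          (S.filter fun r => (0 < T.htf r ∧ T.htf (piW T x r) < 0) ∧ inJ r).card +
            (S.filter fun r => (0 < T.htf r ∧ T.htf (piW T f.1 r) < 0) ∧ ¬ inJ r).card := by
        rw [← Finset.card_filter_add_card_filter_not (s := S.filter fun r => 0 < T.htf r ∧ T.htf (piW T (f.1 ++ x) r) < 0)
          (fun r => inJ r), Finset.filter_filter, Finset.filter_filter]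
        congr 1
        · congr 1
          refine Finset.filter_congr fun r hr => ?_
          have hr := Finset.mem_range.mp hr
          rw [piW_append]
          exact and_congr_left fun hj =>
            and_congr_right fun _ => hfj _ (ok.piW_lt (hxl x hx) hr) (hxin r hr hj)
        · refine Finset.card_bij (fun r _ => piW T x r) ?_ ?_ ?_
          · intro r hr
            simp only [Finset.mem_filter, hS, Finset.mem_range] at hr ⊢
            obtain ⟨h1, ⟨h2, h3⟩, h4⟩ := hr
            rw [piW_append] at h3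
            obtain ⟨h5, h6⟩ := hkeep x (hL.mem x hx) r h1 h2 h4
            exact ⟨ok.piW_lt (hxl x hx) h1, ⟨h5, h3⟩, h6⟩
          · intro a ha b hb e
            simp only [Finset.mem_filter, hS, Finset.mem_range] at ha hb
            exact ok.piW_inj (hxl x hx) ha.1 hb.1 e
          · intro r hr
            simp only [Finset.mem_filter, hS, Finset.mem_range] at hr
            obtain ⟨h1, ⟨h2, h3⟩, h4⟩ := hr
            obtain ⟨h5, h6⟩ := hkeep x.reverse hxrJ r h1 h2 h4
            refine ⟨piW T x.reverse r, ?_, ok.piW_rev (hxl x hx) h1⟩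
            simp only [Finset.mem_filter, hS, Finset.mem_range, piW_append, ok.piW_rev (hxl x hx) h1]
            exact ⟨ok.piW_lt hxr h1, ⟨h5, h3⟩, h6⟩
      have e2 : (S.filter fun r => (0 < T.htf r ∧ T.htf (piW T x r) < 0) ∧ inJ r).card =
          (S.filter fun r => 0 < T.htf r ∧ T.htf (piW T x r) < 0).card := by
        congr 1
        refine Finset.filter_congr fun r hr => ⟨And.left, fun h => ⟨h, ?_⟩⟩
        by_contra hj
        have := (hkeep x (hL.mem x hx) r (Finset.mem_range.mp hr) h.1 hj).1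
        omega
      have e3 : (S.filter fun r => (0 < T.htf r ∧ T.htf (piW T f.1 r) < 0) ∧ ¬ inJ r).card =
          (S.filter fun r => 0 < T.htf r ∧ T.htf (piW T f.1 r) < 0).card := by
        congr 1
        refine Finset.filter_congr fun r hr => ⟨And.left, fun h => ⟨h, fun hj => ?_⟩⟩
        have := (hfj r (Finset.mem_range.mp hr) hj).mp h.2
        omega
      unfold negCount
      rw [e1, e2, e3, add_comm]
    rw [List.map_flatMap, List.flatMap_def, List.sum_flatten, List.map_map, ← List.sum_map_mul_right]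
    congr 1
    refine List.map_congr_left fun f hf => ?_
    simp only [Function.comp_apply, List.map_map]
    rw [← List.sum_map_mul_left]
    congr 1
    refine List.map_congr_left fun x hx => ?_
    rw [Function.comp_apply, hadd f hf x hx, pow_add]

theorem Um_mem_congr {v w : List ℕ} (h : ∀ r < D.nroots, piW T v r = piW T w r) : ok.Um F v = ok.Um F w := by
  unfold Um
  congr 1
  ext x
  constructor
  · rintro ⟨r, t, hr, h1, h2⟩; exact ⟨r, t, hr, by rw [← h r hr.1]; exact h1, h2⟩
  · rintro ⟨r, t, hr, h1, h2⟩; exact ⟨r, t, hr, by rw [h r hr.1]; exact h1, h2⟩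

theorem Um_le (w : List ℕ) : ok.Um F w ≤ D.posUnipotent F :=
  (Subgroup.closure_le _).mpr fun _ ⟨_, t, hr, _, e⟩ => e ▸ ok.toOK.xG_mem_pos hr t

theorem Um_conj_neg {w : List ℕ} (hw : ∀ i ∈ w, i < D.rank) {u : GL D.Idx F} (hu : u ∈ ok.Um F w) :
    ok.toOK.gW F w * u * (ok.toOK.gW F w)⁻¹ ∈ D.negUnipotent F := by
  induction hu using Subgroup.closure_induction with
  | mem x hx =>
    obtain ⟨r, t, hr, hneg, rfl⟩ := hx
    obtain ⟨a, -, ha⟩ := (ok.toOK.act_gW (F := F) w hw).2.1 r hr.1
    rw [(ha t).1]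
    exact ok.toOK.xG_mem_neg (ok.toOK.isNeg_iff.mpr ⟨ok.piW_lt hw hr.1, hneg⟩) _
  | one => simp
  | mul p q _ _ hp hq => rw [← conj_mul]; exact mul_mem hp hq
  | inv p _ hp => rw [← conj_inv]; exact inv_mem hp

theorem card_Um [Fintype F] : ∀ (k : ℕ) (w : List ℕ), (∀ i ∈ w, i < D.rank) → ok.negCount w = k →
    Nat.card ↥(ok.Um F w) = Fintype.card F ^ k := by
  intro k
  induction k with
  | zero =>
    intro w hw hk
    have : ok.Um F w = ⊥ := by
      refine eq_bot_iff.mpr ((Subgroup.closure_le _).mpr ?_)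
      rintro _ ⟨r, t, hr, hneg, -⟩
      unfold negCount at hk
      rw [Finset.card_eq_zero, Finset.filter_eq_empty_iff] at hk
      exact absurd ⟨(ok.toOK.isPos_iff.mp hr).2, hneg⟩ (hk (Finset.mem_range.mpr hr.1))
    rw [this, pow_zero, Subgroup.card_bot]
  | succ k ih =>
    intro w hw hk
    have h : ∃ i < D.rank, T.htf (piW T w (T.smp i)) < 0 := by
      by_contra hc
      push Not at hc
      unfold negCount at hk
      rw [Finset.card_eq_zero.mpr] at hk
      · simp at hk
      rw [Finset.filter_eq_empty_iff]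
      intro r hr hh
      have := ok.pos_of_simple hw (fun i hi => not_lt.mpr (hc i hi)) (Finset.mem_range.mp hr) hh.1
      omega
    obtain ⟨i, hi, hneg⟩ := h
    have hp := ok.toOK.smp_lt hi
    set w' := w ++ [i] with hw'
    have hw'' : ∀ j ∈ w', j < D.rank := fun j hj => by
      rcases List.mem_append.mp hj with h | h
      · exact hw j h
      · rw [List.mem_singleton.mp h]; exact hi
    have hp' : 0 < T.htf (piW T w' (T.smp i)) := by
      rw [hw', piW_append, piW, piW, (ok.toOK.smp_spec hi).2.2.1, ok.piW_neg hw hp, ok.toOK.ht_neg (ok.piW_lt hw hp)]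
      omega
    have hww : ok.negCount (w' ++ [i]) = k + 1 := by
      rw [← hk]
      exact ok.negCount_congr fun r hr => by
        simp only [hw', piW_append, piW, ok.toOK.refl_refl hi hr]
    have hk' : ok.negCount w' = k := by
      have h1 := ok.negCount_succ hi (by omega) hw''
      have h2 := ok.negCount_le_succ hi hw''
      omega
    set s := ok.toOK.nG (T.smp i) (1 : F) with hs
    have hUp : ∀ c ∈ ok.Um F w', s * c * s⁻¹ ∈ ok.Up F i := by
      intro c hc
      refine ok.n_conj_Up hi ?_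
      refine (Subgroup.closure_le _).mpr ?_ hc
      rintro _ ⟨r, b, hr1, hr2, rfl⟩
      exact Subgroup.subset_closure ⟨r, b, hr1, fun e => by rw [e] at hr2; omega, rfl⟩
    have hin : ∀ c ∈ ok.Um F w', s * c * s⁻¹ ∈ ok.Um F w := by
      intro c hc
      induction hc using Subgroup.closure_induction with
      | mem x hx =>
        obtain ⟨r, b, hr1, hr2, rfl⟩ := hx
        obtain ⟨hr3, hr4⟩ := ok.toOK.isPos_iff.mp hr1
        rw [hs, ok.toOK.n_xG hi hr3]
        refine Subgroup.subset_closure ⟨_, _, ok.toOK.isPos_iff.mpr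
          ⟨ok.toOK.refl_lt hi hr3, ok.toOK.refl_pos hi hr3 (fun e => by rw [e] at hr2; omega) hr4⟩, ?_, rfl⟩
        rwa [hw', piW_append, piW, piW] at hr2
      | one => simp
      | mul p q _ _ hp hq => rw [← conj_mul]; exact mul_mem hp hq
      | inv p _ hp => rw [← conj_inv]; exact inv_mem hp
    have hxin : ∀ t : F, ok.toOK.xG (T.smp i) t ∈ ok.Um F w := fun t =>
      Subgroup.subset_closure ⟨_, t, ok.smp_isPos hi, hneg, rfl⟩
    rw [pow_succ, ← ih w' hw'' hk', ← Nat.card_eq_fintype_card (α := F), ← Nat.card_prod]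
    refine (Nat.card_eq_of_bijective (fun x : ↥(ok.Um F w') × F =>
      (⟨s * (x.1 : GL D.Idx F) * s⁻¹ * ok.toOK.xG (T.smp i) x.2, mul_mem (hin _ x.1.2) (hxin x.2)⟩ :
        ↥(ok.Um F w))) ⟨?_, ?_⟩).symm
    · intro x y e
      have e' : s * (x.1 : GL D.Idx F) * s⁻¹ * ok.toOK.xG (T.smp i) x.2 =
          s * (y.1 : GL D.Idx F) * s⁻¹ * ok.toOK.xG (T.smp i) y.2 := congrArg Subtype.val e
      have h1 : ok.toOK.xG (T.smp i) (x.2 + -y.2) ∈ ok.Up F i := by
        have h2 : ok.toOK.xG (T.smp i) (x.2 + -y.2) = (s * (x.1 : GL D.Idx F) * s⁻¹)⁻¹ * (s * (y.1 : GL D.Idx F) * s⁻¹) := by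
          rw [← ok.toOK.xG_mul, ← ok.toOK.xG_inv, eq_inv_mul_iff_mul_eq, ← mul_assoc, e', mul_inv_cancel_right]
        rw [h2]
        exact mul_mem (inv_mem (hUp _ x.1.2)) (hUp _ y.1.2)
      have h3 : x.2 + -y.2 = 0 := by
        have h4 := ok.Up_le (ok.n_conj_Up hi h1)
        rw [ok.toOK.n_xG hi hp, (ok.toOK.smp_spec hi).2.2.1] at h4
        have hnegp : D.IsNegRoot (T.neg (T.smp i)) := by
          rw [ok.toOK.isNeg_iff, ok.toOK.ht_neg hp, (ok.toOK.smp_spec hi).1]
          exact ⟨ok.toOK.neg_lt hp, by norm_num⟩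
        have h5 : ok.toOK.xG (T.neg (T.smp i)) ((T.eta i (T.smp i) : F) * (x.2 + -y.2)) ∈
            D.borelSubgroup F ⊓ D.negUnipotent F :=
          Subgroup.mem_inf.mpr ⟨Subgroup.mem_sup_left h4, ok.toOK.xG_mem_neg hnegp _⟩
        rw [ok.toOK.borel_inf_neg, Subgroup.mem_bot] at h5
        have h6 := (ok.toOK.x_eq_one (F := F) (ok.toOK.neg_lt hp) _).mp (by rw [← ok.toOK.coe_xG, h5]; rfl)
        rcases mul_eq_zero.mp h6 with h | h
        · exact absurd h (left_ne_zero_of_mul_eq_one (ok.toOK.eta_sq hi hp))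
        · exact h
      have h7 : x.2 = y.2 := by linear_combination h3
      refine Prod.ext (Subtype.ext ?_) h7
      rw [h7] at e'
      exact mul_left_cancel (mul_right_cancel (mul_right_cancel e'))
    · rintro ⟨u, hu⟩
      obtain ⟨u', hu', t, rfl⟩ := ok.mem_pos_split hi (ok.Um_le w hu)
      have hu'' : s⁻¹ * u' * s ∈ D.posUnipotent F := by
        have hh := ok.toOK.hG_mem_diag (F := F) hp (neg_ne_zero.mpr one_ne_zero)
        have e : s⁻¹ = ok.toOK.hG (T.smp i) (-1) * s := ok.toOK.nG_one_inv hp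
        rw [show s⁻¹ * u' * s = s⁻¹ * u' * (s⁻¹)⁻¹ by rw [inv_inv], e, mul_inv_rev]
        have := (Subgroup.mem_normalizer_iff.mp (ok.toOK.diag_normalizes_pos hh) _).mp (ok.Up_le (ok.n_conj_Up hi hu'))
        rw [← hs] at this
        simpa [mul_assoc] using this
      obtain ⟨a, ha, ha', c, hc, hac⟩ := ok.pos_split_word _ w' hw'' le_rfl _ hu''
      have hg : ok.toOK.gW F w' = ok.toOK.gW F w * s := by
        rw [hw', ok.toOK.gW_append, show ok.toOK.gW F [i] = s by simp [OK.gW, hs]]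
      have e1 : u' = (s * a * s⁻¹) * (s * c * s⁻¹) := by rw [conj_mul, ← hac]; simp [mul_assoc]
      have h1 := ok.Um_conj_neg hw hu
      have h2 := ok.Um_conj_neg hw (mul_mem (hin c hc) (hxin t))
      have h3 : ok.toOK.gW F w' * a * (ok.toOK.gW F w')⁻¹ ∈ D.negUnipotent F := by
        have := mul_mem h1 (inv_mem h2)
        rw [e1] at this
        simp only [mul_inv_rev, inv_inv, mul_assoc, hg] at this ⊢
        simpa [mul_assoc] using this
      have h4 : ok.toOK.gW F w' * a * (ok.toOK.gW F w')⁻¹ ∈ D.borelSubgroup F ⊓ D.negUnipotent F :=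
        Subgroup.mem_inf.mpr ⟨Subgroup.mem_sup_left ha', h3⟩
      rw [ok.toOK.borel_inf_neg, Subgroup.mem_bot, conj_eq_one_iff] at h4
      refine ⟨(⟨c, hc⟩, t), Subtype.ext ?_⟩
      show s * c * s⁻¹ * _ = u' * _
      rw [e1, h4]
      simp

theorem card_cosets [Fintype F] {L : List (List ℕ)} (hL : Trans D T (List.range D.rank) L) :
    Nat.card (↥(D.group F) ⧸ (D.borelSubgroup F).subgroupOf (D.group F)) =
      (L.map fun w => Fintype.card F ^ ok.negCount w).sum := by
  classical
  have : Finite (GL D.Idx F) := Finite.of_injective _ Units.val_injective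
  have hw : ∀ w ∈ L, ∀ i ∈ w, i < D.rank := fun w hw i hi => List.mem_range.mp (hL.mem w hw i hi)
  set B := (D.borelSubgroup F).subgroupOf (D.group F) with hB
  have hmemG : ∀ (j : Fin L.length) (u : ↥(ok.Um F (L.get j))), ok.toOK.gW F (L.get j) * (u : GL D.Idx F) ∈ D.group F :=
    fun j u => mul_mem (ok.toOK.monomial_le_group (ok.toOK.mem_monomial.mpr
      ⟨1, one_mem _, L.get j, hw _ (L.get_mem j), (one_mul _).symm⟩)) (ok.toOK.pos_le_group (ok.Um_le _ u.2))
  let f : (Σ j : Fin L.length, ↥(ok.Um F (L.get j))) → ↥(D.group F) ⧸ B := fun x =>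
    QuotientGroup.mk (⟨_, hmemG x.1 x.2⟩ : ↥(D.group F))⁻¹
  have hum : ∀ (w : List ℕ), (∀ i ∈ w, i < D.rank) → ∀ u ∈ ok.Um F w, u ∈ Subgroup.closure {x : GL D.Idx F |
      ∃ (r : ℕ) (t : F), D.IsPosRoot r ∧
        (D.rootSubgroup F r).map (MulAut.conj (ok.toOK.gW F w)).toMonoidHom ≤ D.negUnipotent F ∧
        (x : Matrix D.Idx D.Idx F) = D.x F r t} := fun w hw u hu => by
    rw [ok.um_eq (ok.toOK.act_gW w hw)]; exact hu
  have hbij : Function.Bijective f := by
    constructor
    · rintro ⟨j, u⟩ ⟨j', u'⟩ e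
      have h1 := QuotientGroup.eq.mp e
      rw [inv_inv, Subgroup.mem_subgroupOf, Subgroup.coe_mul, Subgroup.coe_inv] at h1
      set n := ok.toOK.gW F (L.get j)
      set n' := ok.toOK.gW F (L.get j')
      obtain ⟨b, hb, hbe⟩ : ∃ b ∈ D.borelSubgroup F,
          (n * (u : GL D.Idx F)) = b * n' * (u' : GL D.Idx F) := ⟨_, h1, by simp [n, n', mul_assoc]⟩
      have hnN : ∀ w, (∀ i ∈ w, i < D.rank) → ok.toOK.gW F w ∈ D.monomialSubgroup F := fun w hw =>
        ok.toOK.mem_monomial.mpr ⟨1, one_mem _, w, hw, (one_mul _).symm⟩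
      obtain ⟨h2, h3⟩ := ok.bruhat_unique (one_mem _) hb (hnN _ (hw _ (L.get_mem j))) (hnN _ (hw _ (L.get_mem j')))
        (hum _ (hw _ (L.get_mem j)) _ u.2) (hum _ (hw _ (L.get_mem j')) _ u'.2) (by rw [one_mul]; exact hbe)
      have hperm : ∀ r < D.nroots, piW T (L.get j) r = piW T (L.get j') r := by
        intro r hr
        have A := (ok.toOK.act_gW (F := F) _ (hw _ (L.get_mem j))).mul ok.toOK (ok.toOK.act_diag h2)
        rw [mul_inv_cancel_left] at A
        exact ok.toOK.act_unique A (ok.toOK.act_gW (F := F) _ (hw _ (L.get_mem j'))) hr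
      have hjj : j = j' := by
        by_contra hne
        rcases lt_or_gt_of_ne hne with h | h
        · obtain ⟨r, hr, hr'⟩ := List.pairwise_iff_get.mp hL.distinct j j' h
          exact hr' (hperm r hr)
        · obtain ⟨r, hr, hr'⟩ := List.pairwise_iff_get.mp hL.distinct j' j h
          exact hr' (hperm r hr).symm
      subst hjj
      obtain ⟨-, h4⟩ := h3 rfl
      exact Sigma.ext rfl (heq_of_eq (Subtype.ext h4))
    · intro x
      obtain ⟨g, rfl⟩ := QuotientGroup.mk_surjective x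
      obtain ⟨b, hb, n, hn, u, hu, e⟩ := ok.bruhat_exists (inv_mem g.2 : (g : GL D.Idx F)⁻¹ ∈ D.group F)
      obtain ⟨t, ht, w, hw', hn'⟩ := ok.toOK.mem_monomial.mp hn
      obtain ⟨v, hv, hv'⟩ := hL.complete w fun i hi => List.mem_range.mpr (hw' i hi)
      have hA : ok.toOK.Act n (piW T w) := by
        rw [hn']; exact (ok.toOK.act_diag ht).mul ok.toOK (ok.toOK.act_gW w hw')
      rw [ok.um_eq hA, ok.Um_mem_congr hv'] at hu
      have hmem : ok.toOK.gW F w * (ok.toOK.gW F v)⁻¹ ∈ D.diagonalSubgroup F := by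
        have hc : ∀ i ∈ w ++ v.reverse, i < D.rank := fun i hi => by
          rcases List.mem_append.mp hi with h | h
          · exact hw' i h
          · exact hw v hv i (List.mem_reverse.mp h)
        have hid : ∀ r < D.nroots, piW T (w ++ v.reverse) r = r := fun r hr => by
          rw [piW_append, hv' _ (ok.piW_lt (fun i hi => hw v hv i (List.mem_reverse.mp hi)) hr)]
          exact ok.piW_rev (hw v hv) hr
        have h1 := ok.gW_mem_diag_of_pos (F := F) _ _ rfl hc fun r hr h0 => by rw [hid r hr]; exact h0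
        rw [ok.toOK.gW_append] at h1
        -- the reverse word represents the inverse
        obtain ⟨t₁, ht₁, z, hz, hz'⟩ := ok.toOK.isHW_gW_inv (F := F) v (hw v hv)
        have hinv : ok.toOK.gW F v.reverse * ok.toOK.gW F v ∈ D.diagonalSubgroup F := by
          rw [← ok.toOK.gW_append]
          refine ok.gW_mem_diag_of_pos (F := F) _ _ rfl (fun i hi => ?_) fun r hr h0 => ?_
          · rcases List.mem_append.mp hi with h | h
            · exact hw v hv i (List.mem_reverse.mp h)
            · exact hw v hv i h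
          · rw [piW_append, ok.rev_piW (hw v hv) hr]; exact h0
        set W := ok.toOK.gW F w
        set V := ok.toOK.gW F v
        set V' := ok.toOK.gW F v.reverse
        have hVN : V ∈ D.monomialSubgroup F :=
          ok.toOK.mem_monomial.mpr ⟨1, one_mem _, v, hw v hv, (one_mul _).symm⟩
        have h2 := ok.diag_normal_conj hVN hinv
        have h3 := mul_mem h1 (inv_mem h2)
        simpa [mul_assoc] using h3
      obtain ⟨j, rfl⟩ := List.mem_iff_get.mp hv
      refine ⟨⟨j, ⟨u, hu⟩⟩, ?_⟩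
      refine QuotientGroup.eq.mpr ?_
      rw [inv_inv, Subgroup.mem_subgroupOf, Subgroup.coe_mul]
      have e2 : ok.toOK.gW F (L.get j) * u * (g : GL D.Idx F) =
          ((b * t * (ok.toOK.gW F w * (ok.toOK.gW F (L.get j))⁻¹)))⁻¹ := by
        have : (g : GL D.Idx F) = (b * n * u)⁻¹ := by rw [← e, inv_inv]
        rw [this, hn']
        simp [mul_assoc]
      rw [show ((⟨_, hmemG j ⟨u, hu⟩⟩ : ↥(D.group F)) : GL D.Idx F) = ok.toOK.gW F (L.get j) * u from rfl, e2]
      exact inv_mem (mul_mem (mul_mem hb (Subgroup.mem_sup_right ht)) (Subgroup.mem_sup_right hmem))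
  rw [← Nat.card_eq_of_bijective f hbij, Nat.card_sigma]
  rw [← List.sum_ofFn]
  congr 1
  conv_rhs => rw [← List.ofFn_get L, List.map_ofFn]
  congr 1
  funext j
  exact ok.card_Um _ _ (hw _ (L.get_mem j)) rfl

theorem card_borel [Fintype F] :
    Nat.card ↥(D.borelSubgroup F) = Fintype.card F ^ (D.nroots / 2) * Nat.card ↥(D.diagonalSubgroup F) := by
  rw [← ok.card_pos (F := F), ← Nat.card_prod]
  refine (Nat.card_eq_of_bijective (fun x : ↥(D.posUnipotent F) × ↥(D.diagonalSubgroup F) =>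
    (⟨(x.1 : GL D.Idx F) * x.2, mul_mem (Subgroup.mem_sup_left x.1.2) (Subgroup.mem_sup_right x.2.2)⟩ :
      ↥(D.borelSubgroup F))) ⟨?_, ?_⟩).symm
  · intro x y e
    have e' : (x.1 : GL D.Idx F) * x.2 = y.1 * y.2 := congrArg Subtype.val e
    have h3 : ((y.1 : GL D.Idx F))⁻¹ * x.1 = y.2 * (x.2 : GL D.Idx F)⁻¹ := by
      rw [eq_mul_inv_iff_mul_eq, mul_assoc, e', inv_mul_cancel_left]
    have h4 : ((y.1 : GL D.Idx F))⁻¹ * x.1 ∈ D.posUnipotent F ⊓ D.diagonalSubgroup F :=
      Subgroup.mem_inf.mpr ⟨mul_mem (inv_mem y.1.2) x.1.2, h3 ▸ mul_mem y.2.2 (inv_mem x.2.2)⟩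
    rw [ok.toOK.pos_inf_diag, Subgroup.mem_bot, inv_mul_eq_one] at h4
    rw [h4] at e'
    exact Prod.ext (Subtype.ext h4.symm) (Subtype.ext (mul_left_cancel e'))
  · intro b
    obtain ⟨u, hu, t, ht, hb⟩ := ok.toOK.mem_borel b.2
    exact ⟨(⟨u, hu⟩, ⟨t, ht⟩), Subtype.ext hb.symm⟩

theorem card_group [Fintype F] {L : List (List ℕ)} (hL : Trans D T (List.range D.rank) L) :
    Nat.card ↥(D.group F) = (L.map fun w => Fintype.card F ^ ok.negCount w).sum *
      (Fintype.card F ^ (D.nroots / 2) * Nat.card ↥(D.diagonalSubgroup F)) := by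
  rw [← ok.card_cosets hL, ← ok.card_borel,
    ← Nat.card_congr (Subgroup.subgroupOfEquivOfLe (ok.toOK.borel_le_group (F := F))).toEquiv]
  exact Subgroup.card_eq_card_quotient_mul_card_subgroup _

theorem negCount_nil : ok.negCount [] = 0 := by
  unfold negCount
  rw [Finset.card_eq_zero, Finset.filter_eq_empty_iff]
  intro r _ hc
  simp only [piW] at hc
  omega

end OKX

end Cfsg.Agent.Chev
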