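import Cfsg.Agent.Lib.Chev.LevD4
import Cfsg.Agent.Lib.Chev.LexD4
import Cfsg.Agent.Lib.Chev.Order

/-! The order of the group of type D4 over a finite field. -/

set_option autoImplicit false
set_option maxRecDepth 20000

namespace Cfsg.Agent.Chev.D4

open Cfsg.Lie

def torP : Matrix (Fin 4) (Fin 4) ℤ :=
  !![(-1), 0, 0, 0; (-2), (-1), 0, 0; (-3), (-2), (-1), 0; 2, 2, 1, 1]

def torP' : Matrix (Fin 4) (Fin 4) ℤ :=
  !![(-1), 0, 0, 0; 2, (-1), 0, 0; (-1), 2, (-1), 0; (-1), 0, 1, 1]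

def torQ : Matrix (Fin 4) (Fin 4) ℤ :=
  !![0, 0, 0, 1; 1, 0, 0, 2; 0, 1, (-1), 1; 0, 0, 1, 2]

def torQ' : Matrix (Fin 4) (Fin 4) ℤ :=
  !![(-2), 1, 0, 0; (-3), 0, 1, 1; (-2), 0, 0, 1; 1, 0, 0, 0]

def torE : Fin 4 → ℕ := ![1, 1, 2, 2]

noncomputable def torA : Matrix (Fin 4) (Fin 4) ℤ := fun k i => T.cA i.val (T.smp k.val)

theorem card_torus (F : Type*) [Field F] [Fintype F] :
    (∏ i, Nat.gcd (torE i) (Fintype.card F - 1)) * Nat.card ↥(chevD4.diagonalSubgroup F) =
      (Fintype.card F - 1) ^ 4 :=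
  okx.toOK.card_diag_of_smith (F := F) (P := torP) (P' := torP') (Q := torQ) (Q' := torQ') (e := torE)
    (show torP * torP' = 1 by decide +kernel) (show torQ * torQ' = 1 by decide +kernel)
    (show torP * torA * torQ = Matrix.diagonal fun i => (torE i : ℤ) by decide +kernel)

theorem sized0 : okx.Sized [] 0 [] := okx.sized_nil

theorem sized1 : okx.Sized [3] 1 [2] :=
  okx.sized_step lev0_ok lev0_distinct sized0 (c := []) (a := []) (b := [2])
    [(0, 1), (1, 1)]
    (by decide +kernel) (by decide) (by decide)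
    (fun q => by simp [degProd]; ring)

theorem sized2 : okx.Sized [1, 3] 2 [2, 3] :=
  okx.sized_step lev1_ok lev1_distinct sized1 (c := [2]) (a := []) (b := [3])
    [(0, 1), (1, 1), (2, 1)]
    (by decide +kernel) (by decide) (by decide)
    (fun q => by simp [degProd]; ring)

theorem sized3 : okx.Sized [1, 2, 3] 3 [2, 3, 4] :=
  okx.sized_step lev2_ok lev2_distinct sized2 (c := [2, 3]) (a := []) (b := [4])
    [(0, 1), (1, 1), (2, 1), (3, 1)]
    (by decide +kernel) (by decide) (by decide)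
    (fun q => by simp [degProd]; ring)

theorem sized4 : okx.Sized [0, 1, 2, 3] 4 [2, 4, 4, 6] :=
  okx.sized_step lev3_ok lev3_distinct sized3 (c := [2, 4]) (a := [3]) (b := [4, 6])
    [(0, 1), (1, 1), (2, 1), (3, 2), (4, 1), (5, 1), (6, 1)]
    (by decide +kernel) (by decide) (by decide)
    (fun q => by simp [degProd]; ring)

theorem card_chev (F : Type*) [Field F] [Fintype F] :
    (∏ i, Nat.gcd (torE i) (Fintype.card F - 1)) * Nat.card ↥(chevD4.group F) =
      Fintype.card F ^ 12 * ([2, 4, 4, 6].map fun k => Fintype.card F ^ k - 1).prod :=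
  okx.card_group_of_sized sized4 rfl rfl (card_torus F)

end Cfsg.Agent.Chev.D4
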