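import Cfsg.Agent.Lib.Chev.LevE8
import Cfsg.Agent.Lib.Chev.LexE8
import Cfsg.Agent.Lib.Chev.Order

/-! The order of the group of type E8 over a finite field. -/

set_option autoImplicit false
set_option maxRecDepth 20000

namespace Cfsg.Agent.Chev.E8

open Cfsg.Lie

def torP : Matrix (Fin 8) (Fin 8) ℤ :=
  !![(-1), 0, 0, 0, 0, 0, 0, 0; 0, (-1), 0, 0, 0, 0, 0, 0; 1, (-2), 0, (-1), 0, 0, 0, 0; 2, (-3), 0, (-2), (-1), 0, 0, 0; 3, (-4), 0, (-3), (-2), (-1), 0, 0; 4, (-5), 0, (-4), (-3), (-2), (-1), 0; (-2), 1, (-1), 0, 0, 0, 0, 0; (-3), (-2), (-4), (-5), (-4), (-3), (-2), (-1)]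

def torP' : Matrix (Fin 8) (Fin 8) ℤ :=
  !![(-1), 0, 0, 0, 0, 0, 0, 0; 0, (-1), 0, 0, 0, 0, 0, 0; 2, (-1), 0, 0, 0, 0, (-1), 0; (-1), 2, (-1), 0, 0, 0, 0, 0; 0, (-1), 2, (-1), 0, 0, 0, 0; 0, 0, (-1), 2, (-1), 0, 0, 0; 0, 0, 0, (-1), 2, (-1), 0, 0; 0, 0, 0, 0, (-1), 2, 4, (-1)]

def torQ : Matrix (Fin 8) (Fin 8) ℤ :=
  !![0, 0, 0, 0, 0, 0, 1, (-2); 0, 0, 0, 0, 0, 0, 2, (-3); 1, 0, 0, 0, 0, 0, 2, (-4); 0, 1, 0, 0, 0, 0, 4, (-6); 0, 0, 1, 0, 0, 0, 4, (-5); 0, 0, 0, 1, 0, 0, 4, (-4); 0, 0, 0, 0, 1, 0, 4, (-3); 0, 0, 0, 0, 0, 1, 4, (-2)]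

def torQ' : Matrix (Fin 8) (Fin 8) ℤ :=
  !![(-2), 0, 1, 0, 0, 0, 0, 0; 0, (-2), 0, 1, 0, 0, 0, 0; 2, (-3), 0, 0, 1, 0, 0, 0; 4, (-4), 0, 0, 0, 1, 0, 0; 6, (-5), 0, 0, 0, 0, 1, 0; 8, (-6), 0, 0, 0, 0, 0, 1; (-3), 2, 0, 0, 0, 0, 0, 0; (-2), 1, 0, 0, 0, 0, 0, 0]

def torE : Fin 8 → ℕ := ![1, 1, 1, 1, 1, 1, 1, 1]

noncomputable def torA : Matrix (Fin 8) (Fin 8) ℤ := fun k i => T.cA i.val (T.smp k.val)

theorem card_torus (F : Type*) [Field F] [Fintype F] :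
    (∏ i, Nat.gcd (torE i) (Fintype.card F - 1)) * Nat.card ↥(chevE8.diagonalSubgroup F) =
      (Fintype.card F - 1) ^ 8 :=
  okx.toOK.card_diag_of_smith (F := F) (P := torP) (P' := torP') (Q := torQ) (Q' := torQ') (e := torE)
    (show torP * torP' = 1 by decide +kernel) (show torQ * torQ' = 1 by decide +kernel)
    (show torP * torA * torQ = Matrix.diagonal fun i => (torE i : ℤ) by decide +kernel)

theorem sized0 : okx.Sized [] 0 [] := okx.sized_nil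

theorem sized1 : okx.Sized [4] 1 [2] :=
  okx.sized_step lev0_ok lev0_distinct sized0 (c := []) (a := []) (b := [2])
    [(0, 1), (1, 1)]
    (by decide +kernel) (by decide) (by decide)
    (fun q => by simp [degProd]; ring)

theorem sized2 : okx.Sized [3, 4] 2 [2, 3] :=
  okx.sized_step lev1_ok lev1_distinct sized1 (c := [2]) (a := []) (b := [3])
    [(0, 1), (1, 1), (2, 1)]
    (by decide +kernel) (by decide) (by decide)
    (fun q => by simp [degProd]; ring)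

theorem sized3 : okx.Sized [2, 3, 4] 3 [2, 3, 4] :=
  okx.sized_step lev2_ok lev2_distinct sized2 (c := [2, 3]) (a := []) (b := [4])
    [(0, 1), (1, 1), (2, 1), (3, 1)]
    (by decide +kernel) (by decide) (by decide)
    (fun q => by simp [degProd]; ring)

theorem sized4 : okx.Sized [1, 2, 3, 4] 4 [2, 4, 4, 6] :=
  okx.sized_step lev3_ok lev3_distinct sized3 (c := [2, 4]) (a := [3]) (b := [4, 6])
    [(0, 1), (1, 1), (2, 1), (3, 2), (4, 1), (5, 1), (6, 1)]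
    (by decide +kernel) (by decide) (by decide)
    (fun q => by simp [degProd]; ring)

theorem sized5 : okx.Sized [1, 2, 3, 4, 5] 5 [2, 4, 5, 6, 8] :=
  okx.sized_step lev4_ok lev4_distinct sized4 (c := [2, 4, 6]) (a := [4]) (b := [5, 8])
    [(0, 1), (1, 1), (2, 1), (3, 1), (4, 2), (5, 1), (6, 1), (7, 1), (8, 1)]
    (by decide +kernel) (by decide) (by decide)
    (fun q => by simp [degProd]; ring)

theorem sized6 : okx.Sized [0, 1, 2, 3, 4, 5] 6 [2, 5, 6, 8, 9, 12] :=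
  okx.sized_step lev5_ok lev5_distinct sized5 (c := [2, 5, 6, 8]) (a := [4]) (b := [9, 12])
    [(0, 1), (1, 1), (2, 1), (3, 1), (4, 2), (5, 2), (6, 2), (7, 2), (8, 3), (9, 2), (10, 2), (11, 2), (12, 2), (13, 1), (14, 1), (15, 1), (16, 1)]
    (by decide +kernel) (by decide) (by decide)
    (fun q => by simp [degProd]; ring)

theorem sized7 : okx.Sized [0, 1, 2, 3, 4, 5, 6] 7 [2, 6, 8, 10, 12, 14, 18] :=
  okx.sized_step lev6_ok lev6_distinct sized6 (c := [2, 6, 8, 12]) (a := [5, 9]) (b := [10, 14, 18])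
    [(0, 1), (1, 1), (2, 1), (3, 1), (4, 1), (5, 2), (6, 2), (7, 2), (8, 2), (9, 3), (10, 3), (11, 3), (12, 3), (13, 3), (14, 3), (15, 3), (16, 3), (17, 3), (18, 3), (19, 2), (20, 2), (21, 2), (22, 2), (23, 1), (24, 1), (25, 1), (26, 1), (27, 1)]
    (by decide +kernel) (by decide) (by decide)
    (fun q => by simp [degProd]; ring)

theorem sized8 : okx.Sized [0, 1, 2, 3, 4, 5, 6, 7] 8 [2, 8, 12, 14, 18, 20, 24, 30] :=
  okx.sized_step lev7_ok lev7_distinct sized7 (c := [2, 8, 12, 14, 18]) (a := [6, 10]) (b := [20, 24, 30])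
    [(0, 1), (1, 1), (2, 1), (3, 1), (4, 1), (5, 1), (6, 2), (7, 2), (8, 2), (9, 2), (10, 3), (11, 3), (12, 4), (13, 4), (14, 4), (15, 4), (16, 5), (17, 5), (18, 6), (19, 6), (20, 6), (21, 6), (22, 7), (23, 7), (24, 7), (25, 7), (26, 7), (27, 7), (28, 8), (29, 8), (30, 7), (31, 7), (32, 7), (33, 7), (34, 7), (35, 7), (36, 6), (37, 6), (38, 6), (39, 6), (40, 5), (41, 5), (42, 4), (43, 4), (44, 4), (45, 4), (46, 3), (47, 3), (48, 2), (49, 2), (50, 2), (51, 2), (52, 1), (53, 1), (54, 1), (55, 1), (56, 1), (57, 1)]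
    (by decide +kernel) (by decide) (by decide)
    (fun q => by simp [degProd]; ring)

theorem card_chev (F : Type*) [Field F] [Fintype F] :
    (∏ i, Nat.gcd (torE i) (Fintype.card F - 1)) * Nat.card ↥(chevE8.group F) =
      Fintype.card F ^ 120 * ([2, 8, 12, 14, 18, 20, 24, 30].map fun k => Fintype.card F ^ k - 1).prod :=
  okx.card_group_of_sized sized8 rfl rfl (card_torus F)

end Cfsg.Agent.Chev.E8
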