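import Cfsg.Agent.Lib.Chev.Fixed
import Cfsg.Prelude.Def_ChevAutomorphisms

/-!
Field automorphisms of finite order and their fixed subgroups.
-/

set_option autoImplicit false

namespace Cfsg.Agent.Chev

open Cfsg.Lie

variable {D : ChevalleyDatum} {T : Tabs} {F : Type*} [Field F]

/-- Trivial kernel of the torus map from a diagonal form. -/
theorem ker_tor_bot [Finite Fˣ] {P P' Q Q' : Matrix (Fin D.rank) (Fin D.rank) ℤ} {e : Fin D.rank → ℕ}
    (hP : P * P' = 1) (hQ : Q * Q' = 1) (h : P * OK.torMat D T * Q = Matrix.diagonal fun i => (e i : ℤ))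
    (he : ∀ (i : Fin D.rank) (x : Fˣ), x ^ e i = 1 → x = 1) :
    (monoMap (G := Fˣ) (OK.torMat D T)).ker = ⊥ := by
  refine Subgroup.eq_bot_of_card_eq _ ?_
  rw [card_ker_monoMap (G := Fˣ) hP hQ h]
  refine Finset.prod_eq_one fun i _ => ?_
  rw [Subgroup.card_eq_one, Subgroup.eq_bot_iff_forall]
  exact fun x hx => he i x hx

theorem units_sq_eq_one [CharP F 2] (x : Fˣ) (h : x ^ 2 = 1) : x = 1 := by
  have h1 : ((x : F)) ^ 2 = 1 := by rw [← Units.val_pow_eq_pow_val, h, Units.val_one]
  have h2 : ((x : F) + 1) ^ 2 = 0 := by rw [CharTwo.add_sq, h1, one_pow, CharTwo.add_self_eq_zero]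
  exact Units.ext (CharTwo.add_eq_zero.mp (pow_eq_zero_iff two_ne_zero |>.mp h2))

namespace OK

variable (ok : OK D T)

include ok

theorem xG_inj {r : ℕ} (hr : r < D.nroots) {a b : F} (h : ok.xG r a = ok.xG r b) : a = b := by
  have h1 : ok.xG r (a + -b) = 1 := by rw [← ok.xG_mul, h, ← ok.xG_inv, mul_inv_cancel]
  exact add_neg_eq_zero.mp ((ok.x_eq_one hr _).mp (by rw [← ok.coe_xG, h1]; rfl))

theorem fieldAut_order (hn : 0 < D.nroots) {φ : MulAut ↥(D.group F)} {σ : RingAut F}
    (h : ∀ g, (φ g : GL D.Idx F) = mapG σ.toRingHom D g) : orderOf φ = orderOf σ := by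
  have hpow : ∀ (n : ℕ) (g : ↥(D.group F)), ((φ ^ n) g : GL D.Idx F) = mapG (σ ^ n).toRingHom D g := by
    intro n
    induction n with
    | zero => intro g; exact Units.ext (Matrix.ext fun _ _ => rfl)
    | succ n ih =>
      intro g
      rw [pow_succ', MulAut.mul_apply, h, ih, mapG_comp, pow_succ' σ]
      rfl
  refine orderOf_eq_orderOf_iff.mpr fun n => ⟨fun e => ?_, fun e => ?_⟩
  · refine RingEquiv.ext fun t => ?_
    have h1 := hpow n ⟨_, ok.xG_mem_group 0 t⟩
    rw [e, MulAut.one_apply, ok.mapG_xG] at h1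
    exact (ok.xG_inj hn h1).symm
  · refine MulEquiv.ext fun g => Subtype.ext ?_
    rw [hpow, e, MulAut.one_apply]
    exact Units.ext (Matrix.ext fun _ _ => rfl)

end OK

/-- A subfield together with a copy of it in the lowest universe. -/
theorem exists_fixedField [Fintype F] (σ : RingAut F) :
    ∃ (K : Type) (_ : Field K) (_ : Fintype K) (f : K →+* F), Fintype.card F = Fintype.card K ^ orderOf σ ∧
      (∀ x, σ x = x → ∃ y, f y = x) ∧ ∀ y, σ (f y) = f y := by
  classical
  haveI : Finite (RingAut F) := Finite.of_injective (fun e : RingAut F => (e : F → F)) DFunLike.coe_injective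
  haveI : Fintype (Subgroup.zpowers σ) := Fintype.ofFinite _
  set S := FixedPoints.subfield (Subgroup.zpowers σ) F with hS
  haveI : Fintype S := Fintype.ofFinite _
  haveI : Small.{0} S := small_of_injective (Fintype.equivFin S).injective
  let e' : Shrink.{0} S ≃+* S := Shrink.ringEquiv S
  haveI : Fintype (Shrink.{0} S) := Fintype.ofEquiv _ (equivShrink S)
  refine ⟨Shrink.{0} S, inferInstance, inferInstance, S.subtype.comp e'.toRingHom, ?_, fun x hx => ?_,
    fun y => ?_⟩
  · rw [← Nat.card_eq_fintype_card, ← Nat.card_eq_fintype_card, Nat.card_congr e'.toEquiv,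
      Module.natCard_eq_pow_finrank (K := S) (V := F), FixedPoints.finrank_eq_card, ← Nat.card_eq_fintype_card,
      Nat.card_zpowers]
  · refine ⟨e'.symm ⟨x, fun g => ?_⟩, by simp⟩
    have h1 : Subgroup.zpowers σ ≤ MulAction.stabilizer (RingAut F) x := Subgroup.zpowers_le.mpr hx
    exact MulAction.mem_stabilizer_iff.mp (h1 g.2)
  · exact (e' y).2 ⟨σ, Subgroup.mem_zpowers σ⟩

/-- Fixed subgroups of field automorphisms of a given order. -/
theorem OKX.fieldAut_fixed [Fintype F] (ok : OKX D T) (hn : 0 < D.nroots)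
    (hker : (monoMap (G := Fˣ) (OK.torMat D T)).ker = ⊥) {φ : MulAut ↥(D.group F)} (hφ : D.IsFieldAut φ) :
    ∃ (K : Type) (_ : Field K) (_ : Fintype K), Fintype.card F = Fintype.card K ^ orderOf φ ∧
      ∀ S : Subgroup ↥(D.group F), (∀ g, g ∈ S ↔ φ g = g) → Nonempty (↥S ≃* ↥(D.group K)) := by
  obtain ⟨σ, hσ⟩ := hφ
  have he := ok.toOK.fieldAut_eq hσ
  obtain ⟨K, _, _, f, hc, hfix, hσf⟩ := exists_fixedField (F := F) σ
  refine ⟨K, inferInstance, inferInstance, by rw [ok.toOK.fieldAut_order hn he]; exact hc, fun S hS => ?_⟩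
  exact ok.fixed_equiv σ.toRingHom f hfix hσf hker S fun g => by rw [hS, ← Subtype.coe_inj, he]

end Cfsg.Agent.Chev
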