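import Cfsg.Agent.Lib.Chev.Fixed
import Cfsg.Agent.Lib.Chev.FieldAut

/-!
The centralizer of the root elements with parameter one, and normalizers of the groups over subfields.
-/

set_option autoImplicit false

namespace Cfsg.Agent.Chev

open Cfsg.Lie

variable {D : ChevalleyDatum} {T : Tabs} {F : Type*} [Field F]

namespace OK

variable (ok : OK D T)

include ok

theorem gW_xG_one : ∀ (w : List ℕ), (∀ i ∈ w, i < D.rank) → ∀ {s : ℕ}, s < D.nroots →
    ∃ a : F, (a = 1 ∨ a = -1) ∧ ok.gW F w * ok.xG s 1 * (ok.gW F w)⁻¹ = ok.xG (piW T w s) a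
  | [], _, s, _ => ⟨1, Or.inl rfl, by simp [gW, piW]⟩
  | i :: w, h, s, hs => by
    have hi := h i List.mem_cons_self
    have hw : ∀ k ∈ w, k < D.rank := fun k hk => h k (List.mem_cons_of_mem _ hk)
    obtain ⟨a, ha, e⟩ := gW_xG_one w hw hs
    have hlt := ((ok.act_gW (F := F) w hw).1 s hs).1
    refine ⟨(T.eta i (piW T w s) : F) * a, ?_, ?_⟩
    · rcases ok.eta_unit hi hlt with e1 | e1 <;> rcases ha with e2 | e2 <;> simp [e1, e2]
    · rw [gW_cons, piW, ← ok.n_xG hi hlt, ← e]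
      simp [mul_assoc]

theorem eq_one_of_diag {g : GL D.Idx F} (hg : g ∈ D.diagonalSubgroup F)
    (h : ∀ r < D.nroots, g * ok.xG r 1 = ok.xG r 1 * g) : g = 1 := by
  obtain ⟨c, hc, rfl⟩ := ok.mem_diag.mp hg
  refine Units.ext ?_
  rw [ok.coe_torG hc, Units.val_one, ← Matrix.diagonal_one]
  congr 1
  funext a
  rcases a with a | s
  · rfl
  simp only [Sum.elim_inr]
  have hs := ok.neg_lt s.isLt
  obtain ⟨i, hi, j, hj, x, y, hxy⟩ := ok.bezout hs
  have key : ∀ k (hk : k < D.rank), (T.cC (T.neg s) k : F) *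
      (1 - ∏ m ∈ Finset.range D.rank, c m ^ T.cA m s) = 0 := by
    intro k hk
    have e := congrArg (fun z : GL D.Idx F => (z : Matrix D.Idx D.Idx F) (Sum.inl ⟨k, hk⟩) (Sum.inr s))
      (h _ hs)
    simp only [Units.val_mul, ok.coe_torG hc, Matrix.diagonal_mul, Matrix.mul_diagonal, Sum.elim_inl,
      Sum.elim_inr, coe_xG, one_mul] at e
    have hv : D.x F (T.neg s) 1 (Sum.inl ⟨k, hk⟩) (Sum.inr s) = (T.cC (T.neg s) k : F) := by
      rw [ChevalleyDatum.x, dif_pos hs]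
      have h1 : s ≠ ⟨T.neg s, hs⟩ := fun e => ok.neg_ne s.isLt (congrArg Fin.val e).symm
      simp only [ChevalleyDatum.xMat, Matrix.of_apply, if_neg h1, ok.negIdx_eq hs, ok.neg_neg' s.isLt,
        ok.coroot_eq hs hk, if_true, mul_one]
    rw [hv] at e
    rw [mul_sub, mul_one, ← e, sub_self]
  have h3 : ((x * T.cC (T.neg s) i + y * T.cC (T.neg s) j : ℤ) : F) *
      (1 - ∏ m ∈ Finset.range D.rank, c m ^ T.cA m s) = 0 := by
    push_cast
    rw [add_mul, mul_assoc, mul_assoc, key i hi, key j hj, mul_zero, mul_zero, add_zero]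
  rw [hxy, Int.cast_one, one_mul] at h3
  exact (sub_eq_zero.mp h3).symm

end OK

namespace OKX

variable (ok : OKX D T)

include ok

theorem mem_borel_of_comm {g : GL D.Idx F} (hg : g ∈ D.group F)
    (h : ∀ r < D.nroots, g * ok.toOK.xG r 1 = ok.toOK.xG r 1 * g) : g ∈ D.borelSubgroup F := by
  obtain ⟨b, hb, n, hn, u, hu, rfl⟩ := ok.bruhat_exists hg
  obtain ⟨t₀, ht₀, w, hw, rfl⟩ := ok.toOK.mem_monomial.mp hn
  have hposw : ∀ r < D.nroots, 0 < T.htf r → 0 < T.htf (piW T w r) := by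
    intro r hr h0
    by_contra hc
    have hlt := ((ok.toOK.act_gW (F := F) w hw).1 r hr).1
    have hneg : T.htf (piW T w r) < 0 := by have := ok.toOK.ht_ne hlt; omega
    have hA : ok.toOK.Act (t₀ * ok.toOK.gW F w) (piW T w) :=
      (OK.Act.mul ok.toOK (ok.toOK.act_diag ht₀) (ok.toOK.act_gW w hw) :)
    have hpos : D.IsPosRoot r := ok.toOK.isPos_iff.mpr ⟨hr, h0⟩
    have hxb : ok.toOK.xG r 1 * b ∈ D.borelSubgroup F :=
      mul_mem (Subgroup.mem_sup_left (ok.toOK.xG_mem_pos hpos 1)) hb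
    have he : b * (t₀ * ok.toOK.gW F w) * (u * ok.toOK.xG r 1) =
        ok.toOK.xG r 1 * b * (t₀ * ok.toOK.gW F w) * u := by
      rw [← mul_assoc, h r hr]
      simp [mul_assoc]
    obtain ⟨-, h1⟩ := (ok.bruhat_unique hb hxb hn hn
      (mul_mem hu (Subgroup.subset_closure ⟨r, 1, hpos, (ok.conj_root_le_neg_iff hA hr).mpr hneg, rfl⟩)) hu he).2 rfl
    exact one_ne_zero ((ok.toOK.x_eq_one hr (1 : F)).mp (by rw [← ok.toOK.coe_xG, mul_eq_left.mp h1]; rfl))
  have hup : u ∈ D.posUnipotent F := by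
    refine (Subgroup.closure_le (D.posUnipotent F)).mpr ?_ hu
    rintro x ⟨r, t, hr, -, hx⟩
    exact Subgroup.subset_closure ⟨r, t, hr, hx⟩
  exact mul_mem (mul_mem hb (Subgroup.mem_sup_right (mul_mem ht₀ (ok.gW_mem_diag_of_pos _ w rfl hw hposw))))
    (Subgroup.mem_sup_left hup)

theorem eq_one_of_comm {g : GL D.Idx F} (hg : g ∈ D.group F)
    (h : ∀ r < D.nroots, g * ok.toOK.xG r 1 = ok.toOK.xG r 1 * g) : g = 1 := by
  refine ok.toOK.eq_one_of_diag ?_ h
  have hB := ok.mem_borel_of_comm hg h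
  obtain ⟨w, hw, hneg⟩ := ok.exists_longest
  set W := ok.toOK.gW F w with hWdef
  have hA := ok.toOK.act_gW (F := F) w hw
  have hWG : W ∈ D.group F :=
    ok.toOK.monomial_le_group (ok.toOK.mem_monomial.mpr ⟨1, one_mem _, w, hw, (one_mul _).symm⟩)
  have hB' : W⁻¹ * g * W ∈ D.borelSubgroup F := by
    refine ok.mem_borel_of_comm (mul_mem (mul_mem (inv_mem hWG) hg) hWG) fun r hr => ?_
    obtain ⟨a, ha, e⟩ := ok.toOK.gW_xG_one (F := F) w hw hr
    have hlt := (hA.1 r hr).1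
    have hc : g * ok.toOK.xG (piW T w r) a = ok.toOK.xG (piW T w r) a * g := by
      rcases ha with rfl | rfl
      · exact h _ hlt
      · rw [← ok.toOK.xG_inv]
        exact (Commute.inv_right (h _ hlt : Commute g _)).eq
    rw [← e, ← hWdef] at hc
    calc W⁻¹ * g * W * ok.toOK.xG r 1 = W⁻¹ * (g * (W * ok.toOK.xG r 1 * W⁻¹)) * W := by simp [mul_assoc]
      _ = _ := by rw [hc]; simp [mul_assoc]
  obtain ⟨v, hv, t, ht, e⟩ := ok.toOK.mem_borel hB'
  have hV : ∀ x ∈ D.posUnipotent F, W * x * W⁻¹ ∈ D.negUnipotent F := by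
    intro x hx
    induction hx using Subgroup.closure_induction with
    | mem y hy =>
      obtain ⟨r, s, hr, hy⟩ := hy
      obtain ⟨hr1, hr2⟩ := ok.toOK.isPos_iff.mp hr
      obtain ⟨a, -, ha⟩ := hA.2.1 r hr1
      rw [ok.toOK.eq_xG hy, (ha s).1]
      exact ok.toOK.xG_mem_neg (ok.toOK.isNeg_iff.mpr ⟨(hA.1 r hr1).1, hneg r hr1 hr2⟩) _
    | one => simp
    | mul p q _ _ hp hq => rw [← conj_mul]; exact mul_mem hp hq
    | inv p _ hp => rw [← conj_inv]; exact inv_mem hp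
  refine ok.toOK.borel_inf_negB hB ?_
  have e2 : g = (W * v * W⁻¹) * (W * t * W⁻¹) := by
    calc g = W * (W⁻¹ * g * W) * W⁻¹ := by simp [mul_assoc]
      _ = _ := by rw [e]; simp [mul_assoc]
  rw [e2]
  exact mul_mem (Subgroup.mem_sup_left (hV v hv)) (Subgroup.mem_sup_right (ok.toOK.gW_normalizes w hw t ht))

end OKX

/-- Fixed points of an endomorphism of the field as a subfield. -/
def fixedSubfield (σ : F →+* F) : Subfield F where
  toSubring := RingHom.eqLocus σ (RingHom.id F)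
  inv_mem' x hx := by
    show σ x⁻¹ = x⁻¹
    rw [map_inv₀]
    exact congrArg _ hx

namespace OKX

variable (ok : OKX D T)

include ok

theorem subfield_group (σ : F →+* F) (K : Subgroup (GL D.Idx F)) (hKG : K ≤ D.group F)
    (hLK : ∀ s < D.nroots, ∀ t : F, σ t = t → ok.toOK.xG s t ∈ K) (hKfix : ∀ g ∈ K, mapG σ D g = g) :
    D.group F ⊓ Subgroup.centralizer (K : Set (GL D.Idx F)) = ⊥ ∧
    ∀ g ∈ D.group F, (g ∈ Subgroup.normalizer (K : Set (GL D.Idx F)) ↔ mapG σ D g = g) := by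
  set f := (fixedSubfield σ).subtype with hfdef
  have hfix : ∀ x : F, σ x = x → ∃ y, f y = x := fun x hx => ⟨⟨x, hx⟩, rfl⟩
  have hσf : ∀ y, σ (f y) = f y := fun y => y.2
  set L₀ := (D.group (fixedSubfield σ)).map (mapG f D) with hL₀
  have hLK' : L₀ ≤ K := by
    rw [hL₀, Subgroup.map_le_iff_le_comap]
    exact ok.toOK.group_le fun r hr t => by
      rw [Subgroup.mem_comap, ok.toOK.mapG_xG]
      exact hLK r hr _ (hσf t)
  have hone : ∀ r < D.nroots, ok.toOK.xG r (1 : F) ∈ K := fun r hr => hLK r hr 1 (map_one σ)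
  refine ⟨(Subgroup.eq_bot_iff_forall _).mpr fun g hg => ok.eq_one_of_comm hg.1 fun r hr =>
    (hg.2 _ (hone r hr)).symm, fun g hg => ⟨fun hN => ?_, fun hfg => ?_⟩⟩
  · have hσg : mapG σ D g ∈ D.group F := ok.toOK.mapG_mem_group σ hg
    refine (inv_mul_eq_one.mp (ok.eq_one_of_comm (mul_mem (inv_mem hg) hσg) fun r hr => ?_)).symm
    have h1 := hKfix _ ((Subgroup.mem_normalizer_iff.mp hN _).mp (hone r hr))
    rw [map_mul, map_mul, map_inv, hKfix _ (hone r hr)] at h1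
    calc g⁻¹ * mapG σ D g * ok.toOK.xG r 1 =
        g⁻¹ * (mapG σ D g * ok.toOK.xG r 1 * (mapG σ D g)⁻¹) * mapG σ D g := by simp [mul_assoc]
      _ = _ := by rw [h1]; simp [mul_assoc]
  -- fixed diagonal elements normalize the group over the subfield
  have hnorm : ∀ t ∈ D.diagonalSubgroup F, mapG σ D t = t → ∀ y ∈ L₀, t * y * t⁻¹ ∈ L₀ := by
    intro t ht htf y hy
    have hle : L₀ ≤ L₀.comap (MulAut.conj t).toMonoidHom := by
      rw [hL₀, Subgroup.map_le_iff_le_comap]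
      refine ok.toOK.group_le fun r hr s => ?_
      show t * mapG f D (ok.toOK.xG r s) * t⁻¹ ∈ (D.group (fixedSubfield σ)).map (mapG f D)
      rw [ok.toOK.mapG_xG]
      obtain ⟨a, -, ha⟩ := ok.toOK.diag_conj_xG ht hr (f s)
      have hfx : σ (a * f s) = a * f s := by
        refine ok.toOK.xG_inj hr ?_
        rw [← ok.toOK.mapG_xG, ← ha, map_mul, map_mul, map_inv, htf, ok.toOK.mapG_xG, hσf]
      obtain ⟨b, hb⟩ := hfix _ hfx
      exact ⟨ok.toOK.xG r b, ok.toOK.xG_mem_group r b, by rw [ok.toOK.mapG_xG, hb, ha]⟩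
    exact hle hy
  have key : ∀ g ∈ D.group F, mapG σ D g = g → ∀ x ∈ K, g * x * g⁻¹ ∈ K := by
    intro g hg hfg x hx
    obtain ⟨s, hs, hsf, z₀, hz₀, rfl⟩ := ok.fixed_split σ f hfix hσf hg hfg
    obtain ⟨t, ht, htf, y₀, hy₀, rfl⟩ := ok.fixed_split σ f hfix hσf (hKG hx) (hKfix x hx)
    set z := mapG f D z₀
    set y := mapG f D y₀
    have hz : z ∈ L₀ := ⟨z₀, hz₀, rfl⟩
    have hy : y ∈ L₀ := ⟨y₀, hy₀, rfl⟩
    have hst : s * t = t * s := by
      obtain ⟨c, hc, rfl⟩ := ok.toOK.mem_diag.mp hs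
      obtain ⟨d, hd, rfl⟩ := ok.toOK.mem_diag.mp ht
      rw [ok.toOK.torG_mul hc hd, ok.toOK.torG_mul hd hc]
      simp_rw [mul_comm]
    have e : s * z * (t * y) * (s * z)⁻¹ = t * y * (y⁻¹ * (s * (t⁻¹ * z * t * y * z⁻¹) * s⁻¹)) := by
      have e1 : t * (s * (t⁻¹ * z * t * y * z⁻¹) * s⁻¹) = s * z * (t * y) * (s * z)⁻¹ := by
        rw [← mul_assoc t, ← mul_assoc t s, ← hst]
        simp [mul_assoc]
      rw [← e1]
      simp [mul_assoc]
    rw [e]
    refine mul_mem hx (hLK' (mul_mem (inv_mem hy) (hnorm s hs hsf _ ?_)))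
    have h1 := hnorm t⁻¹ (inv_mem ht) (by rw [map_inv, htf]) z hz
    rw [inv_inv] at h1
    exact mul_mem (mul_mem h1 hy) (inv_mem hz)
  rw [Subgroup.mem_normalizer_iff]
  refine fun x => ⟨key g hg hfg x, fun hx => ?_⟩
  have := key g⁻¹ (inv_mem hg) (by rw [map_inv, hfg]) _ hx
  simpa [mul_assoc] using this

end OKX

end Cfsg.Agent.Chev
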