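import Cfsg.Agent.Lib.Chev.StPres
import Cfsg.Agent.Lib.Chev.Poincare
import Cfsg.Agent.Lib.Chev.Order

/-! In characteristic two the representatives of the Weyl group form a subgroup. -/

set_option autoImplicit false

namespace Cfsg.Agent.Chev

open Cfsg.Lie

variable {F : Type*} [Field F] [CharP F 2] {D : ChevalleyDatum} {T : Tabs}

namespace OKX

variable (ok : OKX D T)

include ok

theorem eta_one {i s : ℕ} (hi : i < D.rank) (hs : s < D.nroots) : (T.eta i s : F) = 1 := by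
  rcases ok.toOK.eta_unit hi hs with e | e <;> rw [e]
  · exact Int.cast_one
  · rw [Int.cast_neg, Int.cast_one, CharTwo.neg_eq]

theorem gW_conj_xG {w : List ℕ} (hw : ∀ i ∈ w, i < D.rank) {r : ℕ} (hr : r < D.nroots) (t : F) :
    ok.toOK.gW F w * ok.toOK.xG r t * (ok.toOK.gW F w)⁻¹ = ok.toOK.xG (piW T w r) t := by
  induction w with
  | nil => simp [OK.gW, piW]
  | cons i w ih =>
    have hi := hw i List.mem_cons_self
    have hw' : ∀ j ∈ w, j < D.rank := fun j hj => hw j (List.mem_cons_of_mem _ hj)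
    rw [ok.toOK.gW_cons, show piW T (i :: w) r = T.refl i (piW T w r) from rfl, mul_inv_rev]
    calc ok.toOK.nG (T.smp i) 1 * ok.toOK.gW F w * ok.toOK.xG r t *
          ((ok.toOK.gW F w)⁻¹ * (ok.toOK.nG (T.smp i) 1)⁻¹)
        = ok.toOK.nG (T.smp i) 1 * (ok.toOK.gW F w * ok.toOK.xG r t * (ok.toOK.gW F w)⁻¹) *
            (ok.toOK.nG (T.smp i) 1)⁻¹ := by simp [mul_assoc]
      _ = _ := by rw [ih hw', ok.toOK.n_xG hi (ok.piW_lt hw' hr), ok.eta_one hi (ok.piW_lt hw' hr), one_mul]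

theorem gW_conj_nG {w : List ℕ} (hw : ∀ i ∈ w, i < D.rank) {r : ℕ} (hr : r < D.nroots) (t : F) :
    ok.toOK.gW F w * ok.toOK.nG r t * (ok.toOK.gW F w)⁻¹ = ok.toOK.nG (piW T w r) t := by
  rw [ok.toOK.nG_eq hr, ok.toOK.nG_eq (ok.piW_lt hw hr), ← conj_mul, ← conj_mul, ok.gW_conj_xG hw hr,
    ok.gW_conj_xG hw (ok.toOK.neg_lt hr), ok.piW_neg hw hr]

theorem gW_mem_group {w : List ℕ} (hw : ∀ i ∈ w, i < D.rank) : ok.toOK.gW F w ∈ D.group F :=
  ok.toOK.monomial_le_group (ok.toOK.mem_monomial.mpr ⟨1, one_mem _, w, hw, (one_mul _).symm⟩)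

/-- The representative depends only on the permutation. -/
theorem gW_eq_of_imgs {M : List (List (ℕ × ℤ))} (hM : Tabs.chkCow D T M = true) {v w : List ℕ}
    (hv : ∀ i ∈ v, i < D.rank) (hw : ∀ i ∈ w, i < D.rank)
    (h : eqL Nat.beq (Tabs.imgs D T v) (Tabs.imgs D T w) = true) : ok.toOK.gW F v = ok.toOK.gW F w := by
  have h' := eq_of_eqL (fun a b e => Nat.eq_of_beq_eq_true e) h
  simp only [Tabs.imgs, mapR_eq, upTo_eq, Tabs.piR_eq] at h'
  have hp : ∀ r < D.nroots, piW T v r = piW T w r := fun r hr =>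
    ok.piW_ext hv hw (fun k hk => (List.map_inj_left.mp h') k (List.mem_range.mpr hk)) hr
  set x : ↥(D.group F) := ⟨(ok.toOK.gW F w)⁻¹ * ok.toOK.gW F v,
    mul_mem (inv_mem (ok.gW_mem_group hw)) (ok.gW_mem_group hv)⟩ with hx
  have hc : x ∈ Subgroup.center ↥(D.group F) := by
    rw [Subgroup.mem_center_iff]
    rintro ⟨y, hy⟩
    refine Subtype.ext ?_
    show y * (x : GL D.Idx F) = (x : GL D.Idx F) * y
    have : D.group F ≤ Subgroup.centralizer {(x : GL D.Idx F)} := by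
      refine ok.toOK.group_le fun r hr t => ?_
      rw [Subgroup.mem_centralizer_singleton_iff]
      refine Eq.symm (mul_inv_eq_iff_eq_mul.mp ?_)
      show (ok.toOK.gW F w)⁻¹ * ok.toOK.gW F v * ok.toOK.xG r t * ((ok.toOK.gW F w)⁻¹ * ok.toOK.gW F v)⁻¹ = _
      rw [mul_inv_rev, inv_inv]
      calc (ok.toOK.gW F w)⁻¹ * ok.toOK.gW F v * ok.toOK.xG r t * ((ok.toOK.gW F v)⁻¹ * ok.toOK.gW F w)
          = (ok.toOK.gW F w)⁻¹ * (ok.toOK.gW F v * ok.toOK.xG r t * (ok.toOK.gW F v)⁻¹) * ok.toOK.gW F w := by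
            simp [mul_assoc]
        _ = _ := by
            rw [ok.gW_conj_xG hv hr, hp r hr, ← ok.gW_conj_xG hw hr]
            simp [mul_assoc]
    exact Subgroup.mem_centralizer_singleton_iff.mp (this hy)
  rw [ok.center_group_bot hM, Subgroup.mem_bot] at hc
  exact (inv_mul_eq_one.mp (congrArg Subtype.val hc)).symm

theorem piW_eq_of_sameI {v w : List ℕ} (hv : ∀ i ∈ v, i < D.rank) (hw : ∀ i ∈ w, i < D.rank)
    (h : eqL Nat.beq (Tabs.imgs D T v) (Tabs.imgs D T w) = true) {r : ℕ} (hr : r < D.nroots) :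
    piW T v r = piW T w r := by
  have h' := eq_of_eqL (fun a b e => Nat.eq_of_beq_eq_true e) h
  simp only [Tabs.imgs, mapR_eq, upTo_eq, Tabs.piR_eq] at h'
  exact ok.piW_ext hv hw (fun k hk => (List.map_inj_left.mp h') k (List.mem_range.mpr hk)) hr

theorem sameI_of_piW {v w : List ℕ} (h : ∀ k < D.rank, piW T v (T.smp k) = piW T w (T.smp k)) :
    eqL Nat.beq (Tabs.imgs D T v) (Tabs.imgs D T w) = true := by
  have e : Tabs.imgs D T v = Tabs.imgs D T w := by
    simp only [Tabs.imgs, mapR_eq, upTo_eq, Tabs.piR_eq]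
    exact List.map_congr_left fun k hk => h k (List.mem_range.mp hk)
  rw [e]
  generalize Tabs.imgs D T w = l
  induction l with
  | nil => rfl
  | cons a l ih => show andR (Nat.beq a a) (eqL Nat.beq l l) = true; rw [ih]; simp

theorem torG_inj (hker : (monoMap (G := Fˣ) (OK.torMat D T)).ker = ⊥) {c d : ℕ → F}
    (hc : ∀ i < D.rank, c i ≠ 0) (hd : ∀ i < D.rank, d i ≠ 0) (h : ok.toOK.torG c = ok.toOK.torG d) :
    ∀ i < D.rank, c i = d i := by
  intro i hi
  set u : Fin D.rank → Fˣ := fun k => Units.mk0 (c k * (d k)⁻¹) (mul_ne_zero (hc k k.isLt) (inv_ne_zero (hd k k.isLt)))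
    with hu
  have e : ok.toOK.torG (OK.param u) = 1 := by
    refine Units.ext ?_
    have h2 : ok.toOK.torG c * (ok.toOK.torG d)⁻¹ = 1 := by rw [h, mul_inv_cancel]
    rw [ok.toOK.torG_inv hd, ok.toOK.torG_mul hc (fun k hk => inv_ne_zero (hd k hk))] at h2
    rw [← h2, ok.toOK.coe_torG (fun k _ => OK.param_ne u k),
      ok.toOK.coe_torG (fun k hk => mul_ne_zero (hc k hk) (inv_ne_zero (hd k hk)))]
    congr 1; funext a
    rcases a with a | s
    · rfl
    · simp only [Sum.elim_inr]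
      refine Finset.prod_congr rfl fun k hk => ?_
      rw [OK.param, dif_pos (Finset.mem_range.mp hk)]
      rfl
  have h3 : u ∈ (monoMap (G := Fˣ) (OK.torMat D T)).ker := ok.toOK.torG_eq_one_iff.mp e
  rw [hker, Subgroup.mem_bot] at h3
  have h4 := congrArg (fun f : Fin D.rank → Fˣ => ((f ⟨i, hi⟩ : Fˣ) : F)) h3
  simp only [hu, Units.val_mk0, Pi.one_apply, Units.val_one] at h4
  field_simp [hd i hi] at h4
  exact h4

end OKX

end Cfsg.Agent.Chev
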