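import Cfsg.Agent.Lib.Chev.AllX
import Cfsg.Agent.Lib.Chev.Bruhat
import Cfsg.Prelude.Def_ChevAutomorphisms

/-!
Characters of the root lattice and the root elements.
-/

set_option autoImplicit false

namespace Cfsg.Agent.Chev

open Cfsg.Lie

namespace Tabs

/-- Consecutive roots of a chain differ by `r`. -/
noncomputable def stepB (D : ChevalleyDatum) (T : Tabs) (r : ℕ) : ℕ → List (ℕ × ℤ) → Bool :=
  fun prev L => @List.rec (ℕ × ℤ) (fun _ => ℕ → Bool) (fun _ => true)
    (fun q _ ok prev => andR (anyL (fun z => Nat.beq z q.1)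
        (@Option.rec ℕ (fun _ => List ℕ) [] (fun z => [z]) (T.cRoot D r prev 1)))
      (ok q.1)) L prev

/-- All chains step by the root. -/
noncomputable def chkChain (D : ChevalleyDatum) (T : Tabs) : Bool :=
  allR D.nroots fun r => allL (fun e => andR (nlt e.1 D.nroots)
    (andR (T.stepB D r e.1 e.2) (allL (fun q => nlt q.1 D.nroots) e.2))) (T.chs D r)

end Tabs

set_option maxRecDepth 100000 in
theorem G2.chain : Tabs.chkChain chevG2 G2.T = true := by decide +kernel
set_option maxRecDepth 100000 in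
theorem B2.chain : Tabs.chkChain chevB2 B2.T = true := by decide +kernel
set_option maxRecDepth 100000 in
theorem D4.chain : Tabs.chkChain chevD4 D4.T = true := by decide +kernel
set_option maxRecDepth 100000 in
theorem F4.chain : Tabs.chkChain chevF4 F4.T = true := by decide +kernel
set_option maxRecDepth 100000 in
theorem E6.chain : Tabs.chkChain chevE6 E6.T = true := by decide +kernel
set_option maxRecDepth 100000 in
theorem E7.chain : Tabs.chkChain chevE7 E7.T = true := by decide +kernel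
set_option maxRecDepth 100000 in
theorem E8.chain : Tabs.chkChain chevE8 E8.T = true := by decide +kernel

theorem exists_okx_chain {D : ChevalleyDatum}
    (hD : D ∈ [chevG2, chevB2, chevD4, chevF4, chevE6, chevE7, chevE8]) :
    ∃ T, OKX D T ∧ T.chkChain D = true := by
  simp only [List.mem_cons, List.not_mem_nil, or_false] at hD
  rcases hD with rfl | rfl | rfl | rfl | rfl | rfl | rfl
  exacts [⟨_, G2.okx, G2.chain⟩, ⟨_, B2.okx, B2.chain⟩, ⟨_, D4.okx, D4.chain⟩, ⟨_, F4.okx, F4.chain⟩,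
    ⟨_, E6.okx, E6.chain⟩, ⟨_, E7.okx, E7.chain⟩, ⟨_, E8.okx, E8.chain⟩]

variable {F : Type*} [Field F] {D : ChevalleyDatum} {T : Tabs}

/-- The value of a character on a coordinate. -/
noncomputable def chiAt (D : ChevalleyDatum) (χ : ℕ → Fˣ) : D.Idx → F :=
  Sum.elim (fun _ => (1 : F)) fun r => (χ r.val : F)

namespace OK

variable (ok : OK D T)

include ok

theorem chi_step {χ : ℕ → Fˣ} (hχ : D.IsRootCharacter χ) {r : ℕ} (hr : r < D.nroots) :
    ∀ (L : List (ℕ × ℤ)) (prev : ℕ), prev < D.nroots → (∀ q ∈ L, q.1 < D.nroots) →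
      T.stepB D r prev L = true → ∀ (k : ℕ) (hk : k < L.length), χ L[k].1 = χ r ^ (k + 1) * χ prev := by
  intro L
  induction L with
  | nil => intro _ _ _ _ k hk; simp at hk
  | cons q L ih =>
    intro prev hp hlt h
    replace h : andR (anyL (fun z => Nat.beq z q.1)
      (@Option.rec ℕ (fun _ => List ℕ) [] (fun z => [z]) (T.cRoot D r prev 1))) (T.stepB D r q.1 L) = true := h
    rw [andR_iff] at h
    have hq : T.cRoot D r prev 1 = some q.1 := by
      have h1 := h.1
      cases e : T.cRoot D r prev 1 with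
      | none => rw [e] at h1; simp at h1
      | some z => rw [e] at h1; simp at h1; rw [h1]
    have h0 : χ q.1 = χ r * χ prev := hχ.2 r prev q.1 hr hp (by rw [ok.chainRoot_eq]; exact hq)
    intro k hk
    rcases k with _ | k
    · simpa using h0
    · have := ih q.1 (hlt q List.mem_cons_self) (fun a ha => hlt a (List.mem_cons_of_mem _ ha)) h.2 k
        (by simpa using hk)
      rw [List.getElem_cons_succ, this, h0, pow_succ _ (k + 1), mul_assoc]

theorem chi_entry (hc : T.chkChain D = true) {χ : ℕ → Fˣ} (hχ : D.IsRootCharacter χ) {r : ℕ} (hr : r < D.nroots)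
    (a b : D.Idx) {e : ℕ × ℤ × ℕ} (he : e ∈ T.colT r (phi D b)) (ha : e.1 = phi D a) :
    chiAt D χ a = chiAt D χ b * (χ r : F) ^ e.2.2 := by
  rw [Tabs.colT, List.mem_cons] at he
  rcases he with rfl | he
  · rw [phi_injective D ha, pow_zero, mul_one]
  rw [ok.ext_eq hr (phi_lt D b)] at he
  have hneg : (χ (T.neg r) : F) * (χ r : F) = 1 := by
    rw [← Units.val_mul, ← ok.neg_eq hr, hχ.1 r hr, inv_mul_cancel, Units.val_one]
  rcases b with b | s
  · have hb : nlt (b : ℕ) D.rank = true := nlt_iff.mpr b.isLt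
    simp only [phi, Sum.elim_inl, Tabs.extX, hb, filterR_eq, List.mem_filter, List.mem_singleton] at he
    obtain ⟨rfl, -⟩ := he
    rcases a with a | u
    · simp only [phi, Sum.elim_inl, Nat.add_eq] at ha; omega
    · simp only [phi, Sum.elim_inr, Nat.add_eq, Nat.add_left_cancel_iff] at ha
      simp [chiAt, ← ha]
  have hs : nlt (D.rank + (s : ℕ)) D.rank = false := nlt_false_iff.mpr (Nat.le_add_right _ _)
  simp only [phi, Sum.elim_inr, Tabs.extX, hs, Nat.sub_eq, Nat.add_sub_cancel_left] at he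
  by_cases hsr : (s : ℕ) = r
  · rw [Nat.beq_eq.mpr hsr] at he; simp at he
  rw [nbeq_false_iff.mpr hsr] at he
  by_cases hsn : (s : ℕ) = T.neg r
  · rw [Nat.beq_eq.mpr hsn] at he
    simp only [appR_eq, filterR_eq, mapR_eq, upTo_eq, List.mem_append, List.mem_filter, List.mem_map,
      List.mem_range, List.mem_singleton] at he
    rcases he with ⟨⟨i, hi, rfl⟩, -⟩ | rfl
    · rcases a with a | u
      · simp [chiAt, hsn, hneg]
      · simp only [phi, Sum.elim_inr] at ha; omega
    · rcases a with a | u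
      · simp only [phi, Sum.elim_inl, Nat.add_eq] at ha; omega
      · simp only [phi, Sum.elim_inr, Nat.add_eq, Nat.add_left_cancel_iff] at ha
        simp only [chiAt, Sum.elim_inr, ← ha, hsn, pow_two, ← mul_assoc, hneg, one_mul]
  rw [nbeq_false_iff.mpr hsn] at he
  simp only [flatR_eq, List.mem_flatMap] at he
  obtain ⟨f, hf, he⟩ := he
  cases hb : Nat.beq f.1 (s : ℕ) <;> simp only [hb, mapIdxR_eq, List.not_mem_nil, List.mem_map] at he
  obtain ⟨⟨v, k⟩, hq, rfl⟩ := he
  rw [Nat.beq_eq] at hb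
  simp only [Tabs.chkChain, allR_iff, allL_iff, andR_iff, nlt_iff] at hc
  obtain ⟨h1, h2, h3⟩ := hc r hr f hf
  obtain ⟨-, hk, hv⟩ := List.mem_zipIdx hq
  rcases a with a | u
  · simp only [phi, Sum.elim_inl, Nat.add_eq] at ha; omega
  simp only [phi, Sum.elim_inr, Nat.add_eq, Nat.add_left_cancel_iff] at ha
  simp only [Nat.zero_add] at hk
  have := ok.chi_step hχ hr f.2 f.1 h1 h3 h2 k hk
  simp only [Nat.sub_zero] at hv
  rw [← hv, ha, hb] at this
  simp only [chiAt, Sum.elim_inr, this, Units.val_mul, Units.val_pow_eq_pow_val, Nat.add_eq]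
  rw [mul_comm]

/-- Conjugation of a root element by the diagonal matrix of a character. -/
theorem charDiag_conj (hc : T.chkChain D = true) {χ : ℕ → Fˣ} (hχ : D.IsRootCharacter χ) {r : ℕ}
    (hr : r < D.nroots) (t : F) :
    D.charDiag F χ * D.x F r t * D.charDiag F (fun s => (χ s)⁻¹) = D.x F r ((χ r : F) * t) := by
  ext a b
  rw [ChevalleyDatum.charDiag, ChevalleyDatum.charDiag, Matrix.mul_diagonal, Matrix.diagonal_mul, ok.xMat_eq hr,
    ok.xMat_eq hr, colVal, colVal, ← List.sum_map_mul_left, ← List.sum_map_mul_right]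
  refine congrArg List.sum (List.map_congr_left fun e he => ?_)
  show chiAt D χ a * _ * _ = _
  by_cases ha : e.1 = phi D a
  swap
  · rw [if_neg ha, if_neg ha]; ring
  rw [if_pos ha, if_pos ha, ok.chi_entry hc hχ hr a b he ha]
  have hb : chiAt D χ b * Sum.elim (fun _ => (1 : F)) (fun s => (((χ s.val)⁻¹ : Fˣ) : F)) b = 1 := by
    rcases b with b | b <;> simp [chiAt]
  calc _ = chiAt D χ b * Sum.elim (fun _ => (1 : F)) (fun s => (((χ s.val)⁻¹ : Fˣ) : F)) b *
        ((e.2.1 : F) * ((χ r : F) * t) ^ e.2.2) := by rw [mul_pow]; ring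
    _ = _ := by rw [hb, one_mul]

end OK

end Cfsg.Agent.Chev

namespace Cfsg.Agent.Chev.OKX

open Cfsg.Lie

variable {F : Type*} [Field F] {D : ChevalleyDatum} {T : Tabs} (ok : OKX D T)

include ok

/-- An element of the group carrying the positive root elements into `U` lies in the Borel subgroup. -/
theorem mem_borel_of_conj_pos {g : GL D.Idx F} (hg : g ∈ D.group F)
    (h : ∀ r, D.IsPosRoot r → ∀ t : F, g * ok.toOK.xG r t * g⁻¹ ∈ D.posUnipotent F) :
    g ∈ D.borelSubgroup F := by
  obtain ⟨b, hb, n, hn, u, hu, rfl⟩ := ok.bruhat_exists hg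
  have hu' : u ∈ D.posUnipotent F := by
    refine (Subgroup.closure_le (D.posUnipotent F)).mpr ?_ hu
    rintro x ⟨r, t, hr, -, hx⟩
    exact Subgroup.subset_closure ⟨r, t, hr, hx⟩
  obtain ⟨t₀, ht₀, w, hw, rfl⟩ := ok.toOK.mem_monomial.mp hn
  have hB : D.borelSubgroup F ≤ Subgroup.normalizer (D.posUnipotent F : Set (GL D.Idx F)) :=
    sup_le Subgroup.le_normalizer ok.toOK.diag_normalizes_pos
  have hgU : ∀ x ∈ D.posUnipotent F, (b * (t₀ * ok.toOK.gW F w) * u) * x * (b * (t₀ * ok.toOK.gW F w) * u)⁻¹ ∈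
      D.posUnipotent F := by
    intro x hx
    induction hx using Subgroup.closure_induction with
    | mem y hy => obtain ⟨r, t, hr, hy⟩ := hy; rw [ok.toOK.eq_xG hy]; exact h r hr t
    | one => rw [mul_one, mul_inv_cancel]; exact one_mem _
    | mul p q _ _ hp hq => rw [← conj_mul]; exact mul_mem hp hq
    | inv p _ hp => rw [← conj_inv]; exact inv_mem hp
  have hW : ∀ x ∈ D.posUnipotent F, ok.toOK.gW F w * x * (ok.toOK.gW F w)⁻¹ ∈ D.posUnipotent F := by
    intro x hx
    have h1 := hgU _ (mul_mem (mul_mem (inv_mem hu') hx) hu')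
    have h2 := (Subgroup.mem_normalizer_iff.mp (hB (inv_mem (mul_mem hb (Subgroup.mem_sup_right ht₀)))) _).mp h1
    simpa [mul_assoc] using h2
  have hposw : ∀ r < D.nroots, 0 < T.htf r → 0 < T.htf (piW T w r) := by
    intro r hr h0
    by_contra hc
    obtain ⟨a, ha0, ha⟩ := (ok.toOK.act_gW (F := F) w hw).2.1 r hr
    have hlt := ((ok.toOK.act_gW (F := F) w hw).1 r hr).1
    have h1 := hW _ (ok.toOK.xG_mem_pos (ok.toOK.isPos_iff.mpr ⟨hr, h0⟩) 1)
    rw [(ha 1).1, mul_one] at h1
    have h2 : ok.toOK.xG (piW T w r) a ∈ D.borelSubgroup F ⊓ D.negUnipotent F := ⟨Subgroup.mem_sup_left h1,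
      ok.toOK.xG_mem_neg (ok.toOK.isNeg_iff.mpr ⟨hlt, by have := ok.toOK.ht_ne hlt; omega⟩) a⟩
    rw [ok.toOK.borel_inf_neg, Subgroup.mem_bot] at h2
    exact ha0 ((ok.toOK.x_eq_one hlt a).mp (by rw [← ok.toOK.coe_xG, h2]; rfl))
  exact mul_mem (mul_mem hb (Subgroup.mem_sup_right (mul_mem ht₀ (ok.gW_mem_diag_of_pos _ w rfl hw hposw))))
    (Subgroup.mem_sup_left hu')

/-- A diagonal matrix in the Borel subgroup is in the diagonal subgroup. -/
theorem mem_diag_of_diagonal {g : GL D.Idx F} (hg : g ∈ D.borelSubgroup F)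
    (hd : ∀ a b : D.Idx, a ≠ b → (g : Matrix D.Idx D.Idx F) a b = 0) : g ∈ D.diagonalSubgroup F := by
  obtain ⟨u, hu, t, ht, rfl⟩ := ok.toOK.mem_borel hg
  suffices h : u = 1 by rw [h, one_mul]; exact ht
  refine Units.ext ?_
  ext a b
  by_cases e : a = b
  · subst e
    have := (ok.toOK.pos_le_uTri hu).1 a a (by omega)
    rw [Matrix.sub_apply, sub_eq_zero] at this
    rw [this]; rfl
  · have h1 : u = (u * t) * t⁻¹ := by rw [mul_inv_cancel_right]
    rw [Units.val_one, Matrix.one_apply_ne e, h1, Units.val_mul, Matrix.mul_apply]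
    refine Finset.sum_eq_zero fun c _ => ?_
    by_cases hc : c = a
    · rw [hc, ok.toOK.diag_apply_ne (inv_mem ht) e, mul_zero]
    · rw [hd a c (Ne.symm hc), zero_mul]

theorem charDiag_mem_diag (hc : T.chkChain D = true) {χ : ℕ → Fˣ} (hχ : D.IsRootCharacter χ) {g : GL D.Idx F}
    (hg : g ∈ D.group F) (hgχ : (g : Matrix D.Idx D.Idx F) = D.charDiag F χ) : g ∈ D.diagonalSubgroup F := by
  have hinv : ((g⁻¹ : GL D.Idx F) : Matrix D.Idx D.Idx F) = D.charDiag F (fun s => (χ s)⁻¹) := by
    refine Units.inv_eq_of_mul_eq_one_right ?_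
    rw [hgχ, ChevalleyDatum.charDiag, ChevalleyDatum.charDiag, Matrix.diagonal_mul_diagonal, ← Matrix.diagonal_one]
    congr 1; funext a
    rcases a with a | a <;> simp
  have hconj : ∀ r, D.IsPosRoot r → ∀ t : F, g * ok.toOK.xG r t * g⁻¹ ∈ D.posUnipotent F := by
    intro r hr t
    have h : g * ok.toOK.xG r t * g⁻¹ = ok.toOK.xG r ((χ r : F) * t) := Units.ext (by
      rw [Units.val_mul, Units.val_mul, hinv, hgχ, OK.coe_xG, OK.coe_xG, ok.toOK.charDiag_conj hc hχ hr.1])
    rw [h]
    exact ok.toOK.xG_mem_pos hr _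
  refine ok.mem_diag_of_diagonal (ok.mem_borel_of_conj_pos hg hconj) fun a b e => ?_
  rw [hgχ, ChevalleyDatum.charDiag, Matrix.diagonal_apply_ne _ e]

end Cfsg.Agent.Chev.OKX
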