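import Cfsg.Agent.Lib.Chev.Cow

/-!
Standard parabolic subgroups: the unipotent radical, the Levi subgroup and the normaliser of the radical.
-/

set_option autoImplicit false

namespace Cfsg.Agent.Chev

open Cfsg.Lie

variable {F : Type*} [Field F] {D : ChevalleyDatum} {T : Tabs}

omit [Field F] in
theorem conj_mem_uTri {ι : Type*} [Fintype ι] [DecidableEq ι] {K : Type*} [Field K] {w : ι → ℤ} {g h : GL ι K}
    (hg : g ∈ uTri K w 0) (hh : h ∈ uTri K w 1) : g * h * g⁻¹ ∈ uTri K w 1 := by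
  have := mul_mem (comm_mem_uTri hg hh) hh
  simpa using this

namespace OKX

variable (ok : OKX D T) {M : List (List (ℕ × ℤ))} (hM : Tabs.chkCow D T M = true) (J : Set ℕ)

include ok

theorem diag_mem_grade (w : D.Idx → ℤ) : D.diagonalSubgroup F ≤ uTri F w 0 := by
  intro g hg
  refine ⟨fun a b hab => ?_, fun a b hab => ?_⟩ <;>
  · have hne : a ≠ b := fun e => by subst e; simp at hab
    rw [Matrix.sub_apply, Matrix.one_apply_ne hne, sub_zero]
    first
      | exact ok.toOK.diag_apply_ne hg hne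
      | exact ok.toOK.diag_apply_ne (inv_mem hg) hne

theorem pos_inf_diag : D.posUnipotent F ⊓ D.diagonalSubgroup F = ⊥ := by
  refine (Subgroup.eq_bot_iff_forall _).mpr fun g hg => Units.ext ?_
  obtain ⟨h1, h2⟩ := Subgroup.mem_inf.mp hg
  have h1' := ok.toOK.pos_le_uTri h1
  ext a b
  by_cases hab : a = b
  · subst hab
    have := h1'.1 a a (by omega)
    rw [Matrix.sub_apply, sub_eq_zero] at this
    rw [this, Units.val_one]
  · rw [ok.toOK.diag_apply_ne h2 hab, Units.val_one, Matrix.one_apply_ne hab]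

theorem diag_comm {g h : GL D.Idx F} (hg : g ∈ D.diagonalSubgroup F) (hh : h ∈ D.diagonalSubgroup F) :
    g * h = h * g := by
  obtain ⟨c, hc, rfl⟩ := ok.toOK.mem_diag.mp hg
  obtain ⟨d, hd, rfl⟩ := ok.toOK.mem_diag.mp hh
  rw [ok.toOK.torG_mul hc hd, ok.toOK.torG_mul hd hc]
  congr 1
  funext i
  exact mul_comm _ _

theorem xG_mem_uJ {r : ℕ} (h : D.IsPosRoot r) (h' : ¬ D.InRootSub J r) (t : F) :
    ok.toOK.xG r t ∈ D.unipotentRadical F J :=
  Subgroup.subset_closure ⟨r, t, h, h', rfl⟩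

theorem uJ_le_pos : D.unipotentRadical F J ≤ D.posUnipotent F :=
  (Subgroup.closure_le _).mpr fun _ ⟨r, t, hr, _, hg⟩ => Subgroup.subset_closure ⟨r, t, hr, hg⟩

include hM

theorem pos_le_grade : D.posUnipotent F ≤ uTri F (lamW D T M J) 0 := by
  refine (Subgroup.closure_le _).mpr fun g ⟨r, t, hr, hg⟩ => ?_
  obtain ⟨h1, h2⟩ := ok.toOK.isPos_iff.mp hr
  rw [ok.toOK.eq_xG hg]
  exact (ok.xG_mem_grade hM J h1 t).1 (ok.lam_pos hM J h1 h2).1

theorem uJ_eq : D.unipotentRadical F J = D.posUnipotent F ⊓ uTri F (lamW D T M J) 1 := by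
  refine le_antisymm (le_inf (ok.uJ_le_pos J) ((Subgroup.closure_le _).mpr fun g ⟨r, t, hr, hne, hg⟩ => ?_)) ?_
  · obtain ⟨h1, h2⟩ := ok.toOK.isPos_iff.mp hr
    rw [ok.toOK.eq_xG hg]
    obtain ⟨h3, h4⟩ := ok.lam_pos hM J h1 h2
    exact (ok.xG_mem_grade hM J h1 t).2.1 (lt_of_le_of_ne h3 fun e => hne (h4.mp e.symm))
  intro u hu
  obtain ⟨hu1, hu2⟩ := Subgroup.mem_inf.mp hu
  rw [← ok.K_half] at hu1
  suffices h : ∀ m k, m + k = D.nroots → Tabs.half D ≤ k → ∀ g ∈ ok.K F k, g ∈ uTri F (lamW D T M J) 1 →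
      g ∈ D.unipotentRadical F J from
    h (Tabs.half D) (Tabs.half D) (by have := ok.two_half; omega) le_rfl u hu1 hu2
  intro m
  induction m with
  | zero =>
    intro k hk _ g hg _
    rw [ok.K_top (by omega), Subgroup.mem_bot] at hg
    rw [hg]; exact one_mem _
  | succ m ih =>
    intro k hk hhalf g hg hg'
    have hkn : k < D.nroots := by omega
    have hkpos : D.IsPosRoot k := ok.isPos_iff_half.mpr ⟨hhalf, hkn⟩
    obtain ⟨t, g', hg'', rfl⟩ := ok.K_split hhalf hkn hg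
    by_cases hkJ : D.InRootSub J k
    swap
    · obtain ⟨h1, h2⟩ := ok.toOK.isPos_iff.mp hkpos
      obtain ⟨h3, h4⟩ := ok.lam_pos hM J h1 h2
      have hx := (ok.xG_mem_grade (F := F) hM J h1 t).2.1 (lt_of_le_of_ne h3 fun e => hkJ (h4.mp e.symm))
      refine mul_mem (ok.xG_mem_uJ J hkpos hkJ t) (ih (k + 1) (by omega) (by omega) g' hg'' ?_)
      have := mul_mem (inv_mem hx) hg'
      rwa [inv_mul_cancel_left] at this
    suffices ht : t = 0 by
      subst ht
      rw [ok.toOK.xG_zero, one_mul] at hg' ⊢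
      exact ih (k + 1) (by omega) (by omega) g' hg'' hg'
    obtain ⟨a, ha, b, hb, x, y, hxy⟩ := ok.toOK.bezout hkn
    have hn := ok.toOK.neg_lt hkn
    have hpos' : g' ∈ uTri F (rho D T) 1 :=
      ok.toOK.pos_le_uTri (by rw [← ok.K_half]; exact ok.K_mono (by omega) hg'')
    have key : ∀ j (hj : j < D.rank), (T.cC k j : F) * t = 0 := by
      intro j hj
      have e : (((ok.toOK.xG k t * g' : GL D.Idx F) : Matrix D.Idx D.Idx F) - 1) (Sum.inl ⟨j, hj⟩)
          (Sum.inr ⟨T.neg k, hn⟩) = 0 := by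
        refine hg'.1 _ _ ?_
        simp [lamW, ok.lam_neg hM J hkn, ok.lam_eq_zero hM hkJ]
      rw [Matrix.sub_apply, Matrix.one_apply_ne (by simp), sub_zero, Units.val_mul, Matrix.mul_apply,
        Finset.sum_eq_single (Sum.inr ⟨T.neg k, hn⟩)] at e
      · have e1 : (g' : Matrix D.Idx D.Idx F) (Sum.inr ⟨T.neg k, hn⟩) (Sum.inr ⟨T.neg k, hn⟩) = 1 := by
          have := hpos'.1 (Sum.inr ⟨T.neg k, hn⟩) (Sum.inr ⟨T.neg k, hn⟩) (by omega)
          rwa [Matrix.sub_apply, Matrix.one_apply_eq, sub_eq_zero] at this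
        rw [e1, mul_one, OK.coe_xG, ChevalleyDatum.x, dif_pos hkn] at e
        have h1 : (⟨T.neg k, hn⟩ : Fin D.nroots) ≠ ⟨k, hkn⟩ := fun e => ok.toOK.neg_ne hkn (congrArg Fin.val e)
        simp only [ChevalleyDatum.xMat, Matrix.of_apply, if_neg h1, ok.toOK.negIdx_eq hkn,
          ok.toOK.coroot_eq hkn hj, if_true] at e
        exact e
      · intro c _ hc
        by_cases hab : Above (D.nroots - 1 - k) c
        · rcases c with c | v
          · exact absurd hab id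
          have hvn : (v : ℕ) ≠ T.neg k := fun e' => hc (congrArg Sum.inr (Fin.ext e'))
          rw [OK.coe_xG, ChevalleyDatum.x, dif_pos hkn]
          simp only [ChevalleyDatum.xMat, Matrix.of_apply, ok.toOK.negIdx_eq hkn, if_neg hvn]
          split_ifs <;> simp
        · rw [(ok.K_stable hkn hg'' c (Sum.inr ⟨T.neg k, hn⟩)
            (by show D.nroots - 1 - k ≤ T.neg k; rw [ok.neg_eq_sub hkn]) hab).1, mul_zero]
      · intro h; exact absurd (Finset.mem_univ _) h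
    have h3 : ((x * T.cC k a + y * T.cC k b : ℤ) : F) * t = 0 := by
      push_cast
      rw [add_mul, mul_assoc, mul_assoc, key a ha, key b hb, mul_zero, mul_zero, add_zero]
    rwa [hxy, Int.cast_one, one_mul] at h3

theorem pos_normalizes_uJ :
    D.posUnipotent F ≤ Subgroup.normalizer (D.unipotentRadical F J : Set (GL D.Idx F)) := by
  have key : ∀ g ∈ D.posUnipotent F, ∀ x ∈ D.unipotentRadical F J, g * x * g⁻¹ ∈ D.unipotentRadical F J := by
    intro g hg x hx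
    rw [ok.uJ_eq hM J] at hx ⊢
    obtain ⟨hx1, hx2⟩ := Subgroup.mem_inf.mp hx
    exact Subgroup.mem_inf.mpr ⟨mul_mem (mul_mem hg hx1) (inv_mem hg),
      conj_mem_uTri (ok.pos_le_grade hM J hg) hx2⟩
  intro g hg
  rw [Subgroup.mem_normalizer_iff]
  refine fun x => ⟨key g hg x, fun hx => ?_⟩
  have := key g⁻¹ (inv_mem hg) _ hx
  simpa [mul_assoc] using this

omit hM

theorem refl_outside {j : ℕ} (hj : j < D.rank) (hjJ : j ∈ J) {s : ℕ} (hs : D.IsPosRoot s)
    (hsJ : ¬ D.InRootSub J s) : D.IsPosRoot (T.refl j s) ∧ ¬ D.InRootSub J (T.refl j s) := by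
  obtain ⟨h1, h2⟩ := ok.toOK.isPos_iff.mp hs
  have hne : s ≠ T.smp j := by
    rintro rfl
    exact hsJ (ok.inSub_iff.mpr ⟨h1, fun k hk hkJ => by
      rw [ok.toOK.cC_smp hj hk, if_neg]; rintro rfl; exact hkJ hjJ⟩)
  refine ⟨ok.toOK.isPos_iff.mpr ⟨ok.toOK.refl_lt hj h1, ok.toOK.refl_pos hj h1 hne h2⟩, fun h => hsJ ?_⟩
  refine ok.inSub_iff.mpr ⟨h1, fun k hk hkJ => ?_⟩
  have := (ok.inSub_iff.mp h).2 k hk hkJ
  rwa [ok.toOK.cC_refl hj hk h1, if_neg (by rintro rfl; exact hkJ hjJ), sub_zero] at this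

theorem n_conj_uJ {j : ℕ} (hj : j < D.rank) (hjJ : j ∈ J) {u : GL D.Idx F} (hu : u ∈ D.unipotentRadical F J) :
    ok.toOK.nG (T.smp j) 1 * u * (ok.toOK.nG (T.smp j) 1)⁻¹ ∈ D.unipotentRadical F J := by
  induction hu using Subgroup.closure_induction with
  | mem x hx =>
    obtain ⟨s, t, hs, hsJ, hx⟩ := hx
    rw [ok.toOK.eq_xG hx, ok.toOK.n_xG hj hs.1]
    exact ok.xG_mem_uJ J (ok.refl_outside J hj hjJ hs hsJ).1 (ok.refl_outside J hj hjJ hs hsJ).2 _
  | one => simp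
  | mul a b _ _ ha hb => rw [← conj_mul]; exact mul_mem ha hb
  | inv a _ ha => rw [← conj_inv]; exact inv_mem ha

theorem diag_normalizes_uJ :
    D.diagonalSubgroup F ≤ Subgroup.normalizer (D.unipotentRadical F J : Set (GL D.Idx F)) := by
  have := ok.toOK.diag_normalizes (F := F) (S := {r | D.IsPosRoot r ∧ ¬ D.InRootSub J r}) fun _ h => h.1.1
  convert this using 4
  rw [ChevalleyDatum.unipotentRadical]
  congr 1
  ext g
  constructor
  · rintro ⟨r, t, h1, h2, h3⟩; exact ⟨r, t, ⟨h1, h2⟩, h3⟩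
  · rintro ⟨r, t, ⟨h1, h2⟩, h3⟩; exact ⟨r, t, h1, h2, h3⟩

include hM

theorem parabolic_normalizes :
    D.parabolicSubgroup F J ≤ Subgroup.normalizer (D.unipotentRadical F J : Set (GL D.Idx F)) := by
  refine sup_le (sup_le (ok.pos_normalizes_uJ hM J) (ok.diag_normalizes_uJ J)) ((Subgroup.closure_le _).mpr ?_)
  rintro g ⟨j, hjJ, hj, hg⟩
  rw [show g = ok.toOK.nG (T.smp j) 1 from Units.ext (hg.trans (ok.toOK.coe_nG_simple hj 1).symm)]
  set s := ok.toOK.nG (T.smp j) (1 : F) with hs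
  rw [SetLike.mem_coe, Subgroup.mem_normalizer_iff]
  refine fun x => ⟨fun hx => ok.n_conj_uJ J hj hjJ hx, fun hx => ?_⟩
  have h2 := ok.n_conj_uJ J hj hjJ hx
  rw [← hs] at h2
  have h3 := (Subgroup.mem_normalizer_iff.mp
    (ok.diag_normalizes_uJ J (inv_mem (ok.toOK.nG_sq (F := F) (ok.toOK.smp_lt hj)))) _).mp h2
  rw [← hs] at h3
  simpa [mul_assoc] using h3

omit hM

theorem borel_le_parabolic : D.borelSubgroup F ≤ D.parabolicSubgroup F J := le_sup_left

theorem nG_mem_parabolic {j : ℕ} (hj : j < D.rank) (hjJ : j ∈ J) :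
    ok.toOK.nG (T.smp j) (1 : F) ∈ D.parabolicSubgroup F J :=
  Subgroup.mem_sup_right (Subgroup.subset_closure ⟨j, hjJ, hj, ok.toOK.coe_nG_simple hj 1⟩)

theorem gW_mem_parabolic_of_word {w : List ℕ} (hw : ∀ i ∈ w, i < D.rank ∧ i ∈ J) :
    ok.toOK.gW F w ∈ D.parabolicSubgroup F J :=
  list_prod_mem fun x hx => by
    obtain ⟨i, hi, rfl⟩ := List.mem_map.mp hx
    exact ok.nG_mem_parabolic J (hw i hi).1 (hw i hi).2

theorem smp_inSub {i : ℕ} (hi : i < D.rank) : D.InRootSub J (T.smp i) ↔ i ∈ J := by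
  refine ⟨fun h => by_contra fun hiJ => ?_, fun h => ok.inSub_iff.mpr ⟨ok.toOK.smp_lt hi, fun k hk hkJ => ?_⟩⟩
  · have := (ok.inSub_iff.mp h).2 i hi hiJ
    rw [ok.toOK.cC_smp hi hi, if_pos rfl] at this
    exact one_ne_zero this
  · rw [ok.toOK.cC_smp hi hk, if_neg]; rintro rfl; exact hkJ h

/-- A word keeping the positive roots outside `J` positive gives an element of the parabolic subgroup. -/
theorem gW_mem_parabolic : ∀ (n : ℕ) (w : List ℕ), (∀ i ∈ w, i < D.rank) → ok.negCount w = n →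
    (∀ r, D.IsPosRoot r → ¬ D.InRootSub J r → 0 < T.htf (piW T w r)) →
    ok.toOK.gW F w ∈ D.parabolicSubgroup F J := by
  intro n
  induction n using Nat.strong_induction_on with
  | _ n ih =>
    intro w hw hn hkeep
    by_cases hpos : ∀ i < D.rank, ¬ T.htf (piW T w (T.smp i)) < 0
    · exact ok.borel_le_parabolic J (Subgroup.mem_sup_right
        (ok.gW_mem_diag_of_pos _ w rfl hw fun r hr h0 => ok.pos_of_simple hw hpos hr h0))
    push Not at hpos
    obtain ⟨i, hi, hneg⟩ := hpos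
    have hp := ok.toOK.smp_lt hi
    have hiJ : i ∈ J := by
      by_contra hiJ
      have := hkeep _ (ok.smp_isPos hi) fun h => hiJ ((ok.smp_inSub J hi).mp h)
      omega
    set w' := w ++ [i] with hw'
    have hw'' : ∀ j ∈ w', j < D.rank := fun j hj => by
      rcases List.mem_append.mp hj with h | h
      · exact hw j h
      · rw [List.mem_singleton.mp h]; exact hi
    have hlt : ok.negCount w' < n := by
      have h1 : ok.negCount w' < ok.negCount (w' ++ [i]) := ok.negCount_succ hi (by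
        rw [hw', piW_append, piW, piW, (ok.toOK.smp_spec hi).2.2.1, ok.piW_neg hw hp,
          ok.toOK.ht_neg (ok.piW_lt hw hp)]
        omega) hw''
      have h2 : ok.negCount (w' ++ [i]) = n := by
        rw [← hn]
        refine congrArg Finset.card (Finset.filter_congr fun r hr => ?_)
        simp only [hw', piW_append, piW, ok.toOK.refl_refl hi (Finset.mem_range.mp hr)]
      omega
    have h3 := ih _ hlt w' hw'' rfl fun r hr hrJ => by
      rw [hw', piW_append, piW, piW]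
      exact hkeep _ (ok.refl_outside J hi hiJ hr hrJ).1 (ok.refl_outside J hi hiJ hr hrJ).2
    rw [hw', ok.toOK.gW_append, show ok.toOK.gW F [i] = ok.toOK.nG (T.smp i) 1 by simp [OK.gW]] at h3
    have := mul_mem h3 (inv_mem (ok.nG_mem_parabolic (F := F) J hi hiJ))
    rwa [mul_inv_cancel_right] at this

theorem exists_longest_in : ∃ w : List ℕ, (∀ i ∈ w, i < D.rank ∧ i ∈ J) ∧
    ∀ r, D.IsPosRoot r → D.InRootSub J r → T.htf (piW T w r) < 0 := by
  classical
  have hb : ∀ k, (∃ w : List ℕ, (∀ i ∈ w, i < D.rank ∧ i ∈ J) ∧ D.nroots - ok.negCount w ≤ k) →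
      ∃ w : List ℕ, (∀ i ∈ w, i < D.rank ∧ i ∈ J) ∧ ∀ j < D.rank, j ∈ J → T.htf (piW T w (T.smp j)) < 0 := by
    intro k
    induction k with
    | zero =>
      rintro ⟨w, hw, hk⟩
      refine ⟨w, hw, fun i hi _ => ?_⟩
      by_contra h
      have h1 := ok.negCount_succ hi h fun j hj => (hw j hj).1
      have h2 : ok.negCount (w ++ [i]) ≤ D.nroots :=
        (Finset.card_filter_le _ _).trans (le_of_eq (Finset.card_range _))
      omega
    | succ k ih =>
      rintro ⟨w, hw, hk⟩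
      by_cases h : ∀ j < D.rank, j ∈ J → T.htf (piW T w (T.smp j)) < 0
      · exact ⟨w, hw, h⟩
      push Not at h
      obtain ⟨i, hi, hiJ, hne⟩ := h
      have h1 := ok.negCount_succ hi (not_lt.mpr hne) fun j hj => (hw j hj).1
      exact ih ⟨w ++ [i], fun j hj => by
        rcases List.mem_append.mp hj with h | h
        · exact hw j h
        · rw [List.mem_singleton.mp h]; exact ⟨hi, hiJ⟩, by omega⟩
  obtain ⟨w, hw, hmax⟩ := hb D.nroots ⟨[], by simp, Nat.sub_le _ _⟩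
  refine ⟨w, hw, fun r hr hrJ => ?_⟩
  obtain ⟨hr1, hr2⟩ := ok.toOK.isPos_iff.mp hr
  have hw' : ∀ i ∈ w, i < D.rank := fun i hi => (hw i hi).1
  have hlt := ok.piW_lt hw' hr1
  by_contra hc
  have hpos : D.IsPosRoot (piW T w r) := ok.toOK.isPos_iff.mpr ⟨hlt, by have := ok.toOK.ht_ne hlt; omega⟩
  obtain ⟨a, ha, b, hb', x, y, hxy⟩ := ok.toOK.bezout hlt
  have hz : ∀ j < D.rank, T.cC (piW T w r) j = 0 := by
    intro j hj
    refine le_antisymm ?_ (hpos.2 _ (by
      rw [ok.toOK.coroot_list hlt]; exact List.mem_map.mpr ⟨j, List.mem_range.mpr hj, rfl⟩))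
    rw [ok.cC_piW hw' hr1 hj]
    refine Finset.sum_nonpos fun k hk => ?_
    have hk1 := Finset.mem_range.mp hk
    by_cases hkJ : k ∈ J
    · refine mul_nonpos_of_nonneg_of_nonpos (ok.cC_nonneg hr1 hr2 hk1) ?_
      have hk'' := ok.piW_lt hw' (ok.toOK.smp_lt hk1)
      have hn : D.IsNegRoot (piW T w (T.smp k)) := ok.toOK.isNeg_iff.mpr ⟨hk'', hmax k hk1 hkJ⟩
      exact hn.2 _ (by rw [ok.toOK.coroot_list hk'']; exact List.mem_map.mpr ⟨j, List.mem_range.mpr hj, rfl⟩)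
    · rw [(ok.inSub_iff.mp hrJ).2 k hk1 hkJ, zero_mul]
  rw [hz a ha, hz b hb'] at hxy
  simp at hxy

theorem xG_mem_parabolic {r : ℕ} (h : D.InRootSub J r) (t : F) : ok.toOK.xG r t ∈ D.parabolicSubgroup F J := by
  have hr := h.1
  rcases ok.toOK.pos_or_neg hr with hp | hn
  · exact ok.borel_le_parabolic J (Subgroup.mem_sup_left (ok.toOK.xG_mem_pos hp t))
  obtain ⟨w, hw, hlong⟩ := ok.exists_longest_in J
  have hw' : ∀ i ∈ w, i < D.rank := fun i hi => (hw i hi).1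
  have h0 := (ok.toOK.isNeg_iff.mp hn).2
  have hnp : D.IsPosRoot (T.neg r) :=
    ok.toOK.isPos_iff.mpr ⟨ok.toOK.neg_lt hr, by rw [ok.toOK.ht_neg hr]; omega⟩
  have h1 := hlong _ hnp ((ok.inSub_neg hr).mpr h)
  rw [ok.piW_neg hw' hr, ok.toOK.ht_neg (ok.piW_lt hw' hr)] at h1
  have hpos : D.IsPosRoot (piW T w r) := ok.toOK.isPos_iff.mpr ⟨ok.piW_lt hw' hr, by omega⟩
  obtain ⟨a, ha, h2⟩ := (ok.toOK.act_gW (F := F) w hw').2.1 r hr
  set W := ok.toOK.gW F w with hW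
  have hWP : W ∈ D.parabolicSubgroup F J := ok.gW_mem_parabolic_of_word J hw
  have h3 : ok.toOK.xG r t = W⁻¹ * ok.toOK.xG (piW T w r) (a * t) * W := by
    rw [← (h2 t).1]; simp [mul_assoc]
  rw [h3]
  exact mul_mem (mul_mem (inv_mem hWP)
    (ok.borel_le_parabolic J (Subgroup.mem_sup_left (ok.toOK.xG_mem_pos hpos _)))) hWP

theorem parabolic_eq : D.parabolicSubgroup F J = D.diagonalSubgroup F ⊔
    Subgroup.closure {g : GL D.Idx F | ∃ (r : ℕ) (t : F), (D.IsPosRoot r ∨ D.InRootSub J r) ∧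
      (g : Matrix D.Idx D.Idx F) = D.x F r t} := by
  set R := Subgroup.closure {g : GL D.Idx F | ∃ (r : ℕ) (t : F), (D.IsPosRoot r ∨ D.InRootSub J r) ∧
      (g : Matrix D.Idx D.Idx F) = D.x F r t} with hR
  refine le_antisymm (sup_le (sup_le ?_ le_sup_left) ?_) (sup_le ?_ ?_)
  · exact le_sup_of_le_right ((Subgroup.closure_le _).mpr fun g ⟨r, t, hr, hg⟩ =>
      Subgroup.subset_closure ⟨r, t, Or.inl hr, hg⟩)
  · refine (Subgroup.closure_le _).mpr ?_
    rintro g ⟨j, hjJ, hj, hg⟩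
    rw [show g = ok.toOK.nG (T.smp j) 1 from Units.ext (hg.trans (ok.toOK.coe_nG_simple hj 1).symm),
      ok.toOK.nG_eq (ok.toOK.smp_lt hj)]
    have h1 := (ok.smp_inSub J hj).mpr hjJ
    have hx : ∀ c : F, ok.toOK.xG (T.smp j) c ∈ R := fun c => Subgroup.subset_closure ⟨_, c, Or.inr h1, rfl⟩
    have hy : ∀ c : F, ok.toOK.xG (T.neg (T.smp j)) c ∈ R := fun c =>
      Subgroup.subset_closure ⟨_, c, Or.inr ((ok.inSub_neg h1.1).mpr h1), rfl⟩
    exact Subgroup.mem_sup_right (mul_mem (mul_mem (hx _) (hy _)) (hx _))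
  · exact le_sup_of_le_left le_sup_right
  · refine (Subgroup.closure_le _).mpr ?_
    rintro g ⟨r, t, hr, hg⟩
    rw [ok.toOK.eq_xG hg]
    rcases hr with hr | hr
    · exact ok.borel_le_parabolic J (Subgroup.mem_sup_left (ok.toOK.xG_mem_pos hr t))
    · exact ok.xG_mem_parabolic J hr t

include hM

theorem levi_le_grade :
    D.leviSubgroup F J ≤ uTri F (lamW D T M J) 0 ⊓ uTri F (fun a => -lamW D T M J a) 0 := by
  refine sup_le (le_inf (ok.diag_mem_grade _) (ok.diag_mem_grade _)) ((Subgroup.closure_le _).mpr ?_)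
  rintro g ⟨r, t, hr, hg⟩
  rw [ok.toOK.eq_xG hg]
  have h := ok.lam_eq_zero hM hr
  exact Subgroup.mem_inf.mpr ⟨(ok.xG_mem_grade hM J hr.1 t).1 (le_of_eq h.symm),
    (ok.xG_mem_grade hM J hr.1 t).2.2 h⟩

theorem levi_decomposition :
    D.parabolicSubgroup F J ≤ Subgroup.normalizer (D.unipotentRadical F J : Set (GL D.Idx F)) ∧
      D.unipotentRadical F J ⊔ D.leviSubgroup F J = D.parabolicSubgroup F J ∧
      D.unipotentRadical F J ⊓ D.leviSubgroup F J = ⊥ := by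
  refine ⟨ok.parabolic_normalizes hM J, ?_, ?_⟩
  · rw [ok.parabolic_eq J]
    refine le_antisymm (sup_le ?_ (sup_le le_sup_left ?_)) (sup_le ?_ ((Subgroup.closure_le _).mpr ?_))
    · exact le_sup_of_le_right ((Subgroup.closure_le _).mpr fun g ⟨r, t, hr, _, hg⟩ =>
        Subgroup.subset_closure ⟨r, t, Or.inl hr, hg⟩)
    · exact le_sup_of_le_right ((Subgroup.closure_le _).mpr fun g ⟨r, t, hr, hg⟩ =>
        Subgroup.subset_closure ⟨r, t, Or.inr hr, hg⟩)
    · exact le_sup_of_le_right le_sup_left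
    · rintro g ⟨r, t, hr, hg⟩
      by_cases hJ : D.InRootSub J r
      · exact Subgroup.mem_sup_right (Subgroup.mem_sup_right (Subgroup.subset_closure ⟨r, t, hJ, hg⟩))
      · exact Subgroup.mem_sup_left (Subgroup.subset_closure ⟨r, t, hr.resolve_right hJ, hJ, hg⟩)
  · refine (Subgroup.eq_bot_iff_forall _).mpr fun g hg => Units.ext ?_
    obtain ⟨h1, h2⟩ := Subgroup.mem_inf.mp hg
    rw [ok.uJ_eq hM J] at h1
    have h3 := (Subgroup.mem_inf.mp h1).2.1
    have h4 := (Subgroup.mem_inf.mp (ok.levi_le_grade hM J h2)).2.1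
    rw [Units.val_one, ← sub_eq_zero]
    ext a b
    by_cases h : lamW D T M J a < lamW D T M J b + 1
    · exact h3 a b (by simpa using h)
    · exact h4 a b (by simp only [Nat.cast_zero, add_zero]; omega)

theorem normalizer_uJ : Subgroup.normalizer (D.unipotentRadical F J : Set (GL D.Idx F)) ⊓ D.group F =
    D.parabolicSubgroup F J := by
  have hP : D.parabolicSubgroup F J ≤ D.group F := by
    refine sup_le ok.toOK.borel_le_group ((Subgroup.closure_le _).mpr ?_)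
    rintro g ⟨j, -, hj, hg⟩
    rw [show g = ok.toOK.nG (T.smp j) 1 from Units.ext (hg.trans (ok.toOK.coe_nG_simple hj 1).symm)]
    exact ok.toOK.wordG_mem _
  refine le_antisymm ?_ (le_inf (ok.parabolic_normalizes hM J) hP)
  intro g hg
  obtain ⟨hgN, hgG⟩ := Subgroup.mem_inf.mp hg
  obtain ⟨b, hb, n, hn, u, hu, rfl⟩ := ok.bruhat_exists hgG
  have hu' : u ∈ D.posUnipotent F :=
    (Subgroup.closure_le _).mpr (by rintro y ⟨r, t, hr, -, hy⟩; exact Subgroup.subset_closure ⟨r, t, hr, hy⟩) hu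
  have hbP := ok.borel_le_parabolic J hb
  have huP := ok.borel_le_parabolic J (Subgroup.mem_sup_left hu' : u ∈ D.borelSubgroup F)
  obtain ⟨t₀, ht₀, w, hw, rfl⟩ := ok.toOK.mem_monomial.mp hn
  have htP := ok.borel_le_parabolic J (Subgroup.mem_sup_right ht₀ : t₀ ∈ D.borelSubgroup F)
  have hW : ok.toOK.gW F w ∈ Subgroup.normalizer (D.unipotentRadical F J : Set (GL D.Idx F)) := by
    have := mul_mem (mul_mem (mul_mem (inv_mem (ok.parabolic_normalizes hM J htP))
      (inv_mem (ok.parabolic_normalizes hM J hbP))) hgN) (inv_mem (ok.parabolic_normalizes hM J huP))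
    simpa [mul_assoc] using this
  refine mul_mem (mul_mem hbP (mul_mem htP (ok.gW_mem_parabolic J _ w hw rfl fun r hr hrJ => ?_))) huP
  by_contra hc
  have hlt := ok.piW_lt hw hr.1
  have hneg : T.htf (piW T w r) < 0 := by have := ok.toOK.ht_ne hlt; omega
  obtain ⟨a, ha, h2⟩ := (ok.toOK.act_gW (F := F) w hw).2.1 r hr.1
  have h3 := (Subgroup.mem_normalizer_iff.mp hW _).mp (ok.xG_mem_uJ J hr hrJ 1)
  rw [(h2 1).1, mul_one] at h3
  have h4 : ok.toOK.xG (piW T w r) a ∈ D.borelSubgroup F ⊓ D.negUnipotent F :=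
    ⟨Subgroup.mem_sup_left (ok.uJ_le_pos J h3), ok.toOK.xG_mem_neg (ok.toOK.isNeg_iff.mpr ⟨hlt, hneg⟩) _⟩
  rw [ok.toOK.borel_inf_neg, Subgroup.mem_bot] at h4
  exact ha ((ok.toOK.x_eq_one hlt a).mp (by rw [← ok.toOK.coe_xG, h4]; rfl))

omit hM

theorem conj_diag_monomial {h₁ h₂ g : GL D.Idx F} (h1 : h₁ ∈ D.diagonalSubgroup F)
    (h2 : h₂ ∈ D.diagonalSubgroup F) (hg : g ∈ D.group F) (hc : g * h₁ * g⁻¹ = h₂) :
    ∃ n ∈ D.monomialSubgroup F, n * h₁ * n⁻¹ = h₂ := by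
  obtain ⟨b, hb, n, hn, u, hu, rfl⟩ := ok.bruhat_exists hg
  refine ⟨n, hn, ?_⟩
  have hh : n * h₁ * n⁻¹ ∈ D.diagonalSubgroup F := by
    obtain ⟨t₀, ht₀, w, hw, rfl⟩ := ok.toOK.mem_monomial.mp hn
    have h3 := ok.toOK.gW_normalizes (F := F) w hw h₁ h1
    have := mul_mem (mul_mem ht₀ h3) (inv_mem ht₀)
    simpa [mul_assoc] using this
  have hu₁ : h₁⁻¹ * u * h₁ ∈ Subgroup.closure {x : GL D.Idx F | ∃ (r : ℕ) (t : F), D.IsPosRoot r ∧
      (D.rootSubgroup F r).map (MulAut.conj n).toMonoidHom ≤ D.negUnipotent F ∧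
      (x : Matrix D.Idx D.Idx F) = D.x F r t} := by
    have hN := ok.toOK.diag_normalizes (F := F)
      (S := {r | D.IsPosRoot r ∧ (D.rootSubgroup F r).map (MulAut.conj n).toMonoidHom ≤ D.negUnipotent F})
      (fun _ h => h.1.1) (inv_mem h1)
    have e : ({g : GL D.Idx F | ∃ (r : ℕ) (t : F),
        r ∈ {r | D.IsPosRoot r ∧ (D.rootSubgroup F r).map (MulAut.conj n).toMonoidHom ≤ D.negUnipotent F} ∧
        (g : Matrix D.Idx D.Idx F) = D.x F r t}) = {x : GL D.Idx F | ∃ (r : ℕ) (t : F), D.IsPosRoot r ∧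
        (D.rootSubgroup F r).map (MulAut.conj n).toMonoidHom ≤ D.negUnipotent F ∧
        (x : Matrix D.Idx D.Idx F) = D.x F r t} := by
      ext x
      constructor
      · rintro ⟨r, t, ⟨h3, h4⟩, h5⟩; exact ⟨r, t, h3, h4, h5⟩
      · rintro ⟨r, t, h3, h4, h5⟩; exact ⟨r, t, ⟨h3, h4⟩, h5⟩
    rw [e] at hN
    have := (Subgroup.mem_normalizer_iff.mp hN u).mp hu
    simpa using this
  have he : b * (n * h₁ * n⁻¹) * n * (h₁⁻¹ * u * h₁) = h₂ * b * n * u := by
    rw [show b * (n * h₁ * n⁻¹) * n * (h₁⁻¹ * u * h₁) = b * n * u * h₁ by simp [mul_assoc],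
      show h₂ * b * n * u = h₂ * (b * n * u) by simp [mul_assoc], ← hc, inv_mul_cancel_right]
  obtain ⟨e1, -⟩ := (ok.bruhat_unique (mul_mem hb (Subgroup.mem_sup_right hh))
    (mul_mem (Subgroup.mem_sup_right h2) hb) hn hn hu₁ hu he).2 rfl
  obtain ⟨v, hv, t, ht, rfl⟩ := ok.toOK.mem_borel hb
  have hv' : h₂ * v * h₂⁻¹ ∈ D.posUnipotent F :=
    (Subgroup.mem_normalizer_iff.mp (ok.toOK.diag_normalizes_pos h2) v).mp hv
  have e2 : t * (n * h₁ * n⁻¹) * (h₂ * t)⁻¹ = v⁻¹ * (h₂ * v * h₂⁻¹) := by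
    rw [mul_inv_eq_iff_eq_mul, eq_comm, mul_assoc, inv_mul_eq_iff_eq_mul]
    calc h₂ * v * h₂⁻¹ * (h₂ * t) = h₂ * (v * t) := by simp [mul_assoc]
      _ = v * t * (n * h₁ * n⁻¹) := e1.symm
      _ = _ := by simp [mul_assoc]
  have e3 : t * (n * h₁ * n⁻¹) * (h₂ * t)⁻¹ = 1 := by
    have : t * (n * h₁ * n⁻¹) * (h₂ * t)⁻¹ ∈ D.posUnipotent F ⊓ D.diagonalSubgroup F :=
      Subgroup.mem_inf.mpr ⟨e2 ▸ mul_mem (inv_mem hv) hv', mul_mem (mul_mem ht hh) (inv_mem (mul_mem h2 ht))⟩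
    rwa [ok.pos_inf_diag, Subgroup.mem_bot] at this
  rw [mul_inv_eq_one, ok.diag_comm h2 ht] at e3
  exact mul_left_cancel e3

end OKX

end Cfsg.Agent.Chev
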