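import Cfsg.Agent.Lib.Chev.Bruhat
import Cfsg.Agent.Lib.Chev.Para
import Cfsg.Agent.Lib.Chev.RootCent
import Cfsg.Agent.Lib.Chev.Character

/-!
Automorphisms of the group generated by the root elements, first part: after an inner automorphism the two maximal
unipotent subgroups are fixed, and then the root subgroups of the fundamental roots and their negatives are permuted.
-/

set_option autoImplicit false

namespace Cfsg.Agent.Chev

open Cfsg.Lie
open scoped Pointwise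

namespace Tabs

variable (D : ChevalleyDatum) (T : Tabs)

/-- The word sends every fundamental root to the negative of a fundamental root, and every positive root to a
negative one. -/
noncomputable def chkLong (w : List ℕ) : Bool :=
  andR (allL (fun i => nlt i D.rank) w) <|
  andR (allR D.nroots fun r => orR (notR (ipos (T.htf r))) (ipos (Int.neg (T.htf (T.piR w r))))) <|
  allR D.rank fun i => anyL (fun j => Nat.beq (T.piR w (T.smp i)) (T.neg (T.smp j))) (upTo D.rank)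

end Tabs

variable {F : Type*} [Field F] {D : ChevalleyDatum} {T : Tabs} (ok : OKX D T)

namespace OKX

include ok

theorem smp_index {i j : ℕ} (hi : i < D.rank) (hj : j < D.rank) (h : T.smp i = T.smp j) : i = j := by
  have h1 := ok.toOK.cC_smp hi hi
  rw [h, ok.toOK.cC_smp hj hi, if_pos rfl] at h1
  by_contra hne
  rw [if_neg hne] at h1
  exact zero_ne_one h1

theorem pos_conj_neg {n : GL D.Idx F} {π : ℕ → ℕ} (hA : ok.toOK.Act n π)
    (hneg : ∀ r < D.nroots, 0 < T.htf r → T.htf (π r) < 0) {x : GL D.Idx F} (hx : x ∈ D.posUnipotent F) :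
    n * x * n⁻¹ ∈ D.negUnipotent F := by
  induction hx using Subgroup.closure_induction with
  | mem y hy =>
    obtain ⟨r, t, hr, hy⟩ := hy
    obtain ⟨hr1, hr2⟩ := ok.toOK.isPos_iff.mp hr
    obtain ⟨a, -, ha⟩ := hA.2.1 r hr1
    rw [ok.toOK.eq_xG hy, (ha t).1]
    exact ok.toOK.xG_mem_neg (ok.toOK.isNeg_iff.mpr ⟨(hA.1 r hr1).1, hneg r hr1 hr2⟩) _
  | one => simp
  | mul p q _ _ hp hq => rw [← conj_mul]; exact mul_mem hp hq
  | inv p _ hp => rw [← conj_inv]; exact inv_mem hp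

/-- The Borel subgroup normalises the positive unipotent subgroup. -/
theorem borel_conj_pos {b x : GL D.Idx F} (hb : b ∈ D.borelSubgroup F) :
    b * x * b⁻¹ ∈ D.posUnipotent F ↔ x ∈ D.posUnipotent F :=
  ((Subgroup.mem_normalizer_iff.mp
    ((sup_le Subgroup.le_normalizer ok.toOK.diag_normalizes_pos : D.borelSubgroup F ≤ _) hb)) x).symm

/-- Elements of the double coset of a fundamental monomial element, with the borel subgroup on the left. -/
theorem n_mul_borel {i : ℕ} (hi : i < D.rank) {d : GL D.Idx F} (hd : d ∈ D.borelSubgroup F) :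
    ∃ c ∈ D.borelSubgroup F, ∃ a : F,
      ok.toOK.nG (T.smp i) 1 * d = c * ok.toOK.nG (T.smp i) 1 * ok.toOK.xG (T.smp i) a := by
  have hp := ok.toOK.smp_lt hi
  obtain ⟨g, hg, t, ht, e⟩ := ok.toOK.mem_borel (inv_mem hd)
  obtain ⟨u, hu, a, hga⟩ := ok.mem_pos_split hi (inv_mem hg)
  have ed : d = t⁻¹ * (u * ok.toOK.xG (T.smp i) a) := by rw [← hga, ← mul_inv_rev, ← e, inv_inv]
  refine ⟨(ok.toOK.nG (T.smp i) 1 * t⁻¹ * (ok.toOK.nG (T.smp i) 1)⁻¹) *
    (ok.toOK.nG (T.smp i) 1 * u * (ok.toOK.nG (T.smp i) 1)⁻¹),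
    mul_mem (Subgroup.mem_sup_right (ok.toOK.nG_normalizes_diag hp (inv_mem ht)))
      (Subgroup.mem_sup_left (ok.Up_le (ok.n_conj_Up hi hu))), a, ?_⟩
  rw [ed]
  simp [mul_assoc]

/-- The subgroup generated by the Borel subgroup and the negative of a fundamental root is two double cosets. -/
theorem parab_cases {i : ℕ} (hi : i < D.rank) {g : GL D.Idx F}
    (hg : g ∈ D.borelSubgroup F ⊔ D.rootSubgroup F (T.neg (T.smp i))) :
    g ∈ D.borelSubgroup F ∨
      ∃ b ∈ D.borelSubgroup F, ∃ a : F, g = b * ok.toOK.nG (T.smp i) 1 * ok.toOK.xG (T.smp i) a := by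
  have hp := ok.toOK.smp_lt hi
  set n := ok.toOK.nG (F := F) (T.smp i) 1 with hn
  have hnN : n ∈ D.monomialSubgroup F := ok.toOK.nG_mem_monomial hp
  have hxB : ∀ a : F, ok.toOK.xG (T.smp i) a ∈ D.borelSubgroup F := fun a =>
    Subgroup.mem_sup_left (ok.toOK.xG_mem_pos (ok.smp_isPos hi) a)
  let S : Set (GL D.Idx F) := {g | g ∈ D.borelSubgroup F ∨
    ∃ c ∈ D.borelSubgroup F, ∃ d ∈ D.borelSubgroup F, g = c * n * d}
  have hS : ∀ g ∈ S, g ∈ D.borelSubgroup F ∨
      ∃ b ∈ D.borelSubgroup F, ∃ a : F, g = b * n * ok.toOK.xG (T.smp i) a := by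
    rintro g (h | ⟨c, hc, d, hd, rfl⟩)
    · exact Or.inl h
    obtain ⟨c', hc', a, e⟩ := ok.n_mul_borel hi hd
    exact Or.inr ⟨c * c', mul_mem hc hc', a, by rw [mul_assoc c, hn, e]; simp [mul_assoc]⟩
  refine hS g ?_
  have hBn : ∀ b ∈ D.borelSubgroup F, ∀ g ∈ S, b * g ∈ S := by
    rintro b hb g (h | ⟨c, hc, d, hd, rfl⟩)
    · exact Or.inl (mul_mem hb h)
    · exact Or.inr ⟨b * c, mul_mem hb hc, d, hd, by simp [mul_assoc]⟩
  have hsq : n * n ∈ D.borelSubgroup F := Subgroup.mem_sup_right (ok.toOK.nG_sq hp)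
  have hnS : ∀ g ∈ S, n * g ∈ S := by
    rintro g (h | ⟨c, hc, d, hd, rfl⟩)
    · exact Or.inr ⟨1, one_mem _, g, h, by simp⟩
    rcases ok.bruhat_step hi hnN hc with ⟨c', hc', d', hd', e⟩ | ⟨c', hc', d', hd', e⟩
    · exact Or.inl (by rw [← mul_assoc, ← mul_assoc, e]; exact mul_mem (mul_mem (mul_mem hc' hsq) hd') hd)
    · exact Or.inr ⟨c', hc', d' * d, mul_mem hd' hd, by rw [← mul_assoc, ← mul_assoc, e]; simp [mul_assoc]⟩
  have hroot : ∀ x ∈ D.rootSubgroup F (T.neg (T.smp i)), ∀ g ∈ S, x * g ∈ S := by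
    intro x hx g hg
    obtain ⟨a, rfl⟩ := ok.toOK.mem_root.mp hx
    by_cases ha : a = 0
    · rwa [ha, ok.toOK.xG_zero, one_mul]
    rw [ok.n_eq_xGs hi ha, ok.toOK.nG_eq_hG_mul hp, mul_assoc, mul_assoc, mul_assoc]
    exact hBn _ (hxB _) _ (hBn _ (Subgroup.mem_sup_right
      (ok.toOK.hG_mem_diag hp (neg_ne_zero.mpr (inv_ne_zero ha)))) _ (hnS _ (hBn _ (hxB _) g hg)))
  rw [Subgroup.sup_eq_closure] at hg
  induction hg using Subgroup.closure_induction_left with
  | one => exact Or.inl (one_mem _)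
  | mul_left x hx y _ ih => exact hx.elim (fun h => hBn x h y ih) fun h => hroot x h y ih
  | inv_mul_cancel x hx y _ ih =>
    exact hx.elim (fun h => hBn _ (inv_mem h) y ih) fun h => hroot _ (inv_mem h) y ih

/-- The negative unipotent subgroup meets such a subgroup in the negative root subgroup. -/
theorem parab_inf_neg {w : List ℕ} (hw : ∀ j ∈ w, j < D.rank)
    (hlong : ∀ r < D.nroots, 0 < T.htf r → T.htf (piW T w r) < 0) {i : ℕ} (hi : i < D.rank) {g : GL D.Idx F}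
    (hgV : g ∈ D.negUnipotent F) (hg : g ∈ D.borelSubgroup F ⊔ D.rootSubgroup F (T.neg (T.smp i))) :
    g ∈ D.rootSubgroup F (T.neg (T.smp i)) := by
  have hp := ok.toOK.smp_lt hi
  have hnp := ok.toOK.neg_lt hp
  have hnegp : D.IsNegRoot (T.neg (T.smp i)) := ok.toOK.isNeg_iff.mpr
    ⟨hnp, by rw [ok.toOK.ht_neg hp, (ok.toOK.smp_spec hi).1]; norm_num⟩
  have h0 : ∀ x ∈ D.borelSubgroup F, x ∈ D.negUnipotent F → x = 1 := by
    intro x hx hx'
    have : x ∈ D.borelSubgroup F ⊓ D.negUnipotent F := ⟨hx, hx'⟩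
    rwa [ok.toOK.borel_inf_neg, Subgroup.mem_bot] at this
  rcases ok.parab_cases hi hg with h | ⟨b, hb, a, rfl⟩
  · rw [h0 g h hgV]; exact one_mem _
  set n := ok.toOK.nG (F := F) (T.smp i) 1 with hn
  by_cases ha : a = 0
  · exfalso
    rw [ha, ok.toOK.xG_zero, mul_one] at hgV
    set n₀ := ok.toOK.gW F w with hn₀
    have hA := ok.toOK.act_gW (F := F) w hw
    have hn₀N : n₀ ∈ D.monomialSubgroup F := ok.toOK.mem_monomial.mpr ⟨1, one_mem _, w, hw, (one_mul _).symm⟩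
    obtain ⟨t, ht, v, hv, einv⟩ := ok.toOK.isHW_inv (ok.toOK.mem_monomial.mp hn₀N)
    have hu : n₀⁻¹ * (b * n) * n₀ ∈ D.posUnipotent F := by
      have hmap : ∀ x ∈ D.negUnipotent F, n₀⁻¹ * x * n₀ ∈ D.posUnipotent F := by
        intro x hx
        induction hx using Subgroup.closure_induction with
        | mem y hy =>
          obtain ⟨r, c, hr, hy⟩ := hy
          obtain ⟨hr1, hr2⟩ := ok.toOK.isNeg_iff.mp hr
          rw [ok.toOK.eq_xG hy]
          have hA' : ok.toOK.Act n₀⁻¹ (piW T v) := by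
            rw [einv]
            exact (ok.toOK.act_diag ht).mul ok.toOK (ok.toOK.act_gW v hv)
          have hA1 : ok.toOK.Act (1 : GL D.Idx F) (piW T w ∘ piW T v) := by
            have := hA.mul ok.toOK hA'
            rwa [← hn₀, mul_inv_cancel] at this
          obtain ⟨e, -, he⟩ := hA'.2.1 r hr1
          have hlt := (hA'.1 r hr1).1
          have h1 := (he c).1
          rw [inv_inv] at h1
          rw [h1]
          refine ok.toOK.xG_mem_pos (ok.toOK.isPos_iff.mpr ⟨hlt, ?_⟩) _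
          by_contra hc
          have hpos : 0 < T.htf (T.neg (piW T v r)) := by
            rw [ok.toOK.ht_neg hlt]; have := ok.toOK.ht_ne hlt; omega
          have := hlong _ (ok.toOK.neg_lt hlt) hpos
          rw [ok.piW_neg hw hlt, ok.toOK.ht_neg (ok.piW_lt hw hlt),
            show piW T w (piW T v r) = r from ok.toOK.act_unique hA1 ok.toOK.act_one hr1] at this
          omega
        | one => simp
        | mul p q _ _ hp hq =>
          have := mul_mem hp hq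
          simpa [mul_assoc] using this
        | inv p _ hp =>
          have := inv_mem hp
          simpa [mul_assoc] using this
      exact hmap _ hgV
    have hU : D.posUnipotent F ≤ Subgroup.closure {x : GL D.Idx F | ∃ (r : ℕ) (t : F), D.IsPosRoot r ∧
        (D.rootSubgroup F r).map (MulAut.conj n₀).toMonoidHom ≤ D.negUnipotent F ∧
        (x : Matrix D.Idx D.Idx F) = D.x F r t} := by
      refine (Subgroup.closure_le _).mpr ?_
      rintro x ⟨r, c, hr, hx⟩
      refine Subgroup.subset_closure ⟨r, c, hr, ?_, hx⟩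
      rintro _ ⟨y, hy, rfl⟩
      obtain ⟨d, rfl⟩ := ok.toOK.mem_root.mp hy
      exact ok.pos_conj_neg hA hlong (ok.toOK.xG_mem_pos hr d)
    have hnN : n ∈ D.monomialSubgroup F := ok.toOK.nG_mem_monomial hp
    have hmm := (ok.bruhat_unique (b := b) (b' := 1) (n := n * n₀) (n' := n₀) (u := 1)
      (u' := n₀⁻¹ * (b * n) * n₀) hb (one_mem _) (mul_mem hnN hn₀N) hn₀N (one_mem _) (hU hu)
      (by simp [mul_assoc])).1
    rw [mul_inv_rev, mul_assoc] at hmm
    have hd : n⁻¹ ∈ D.diagonalSubgroup F := by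
      have h1 := ok.toOK.gW_normalizes w hw _ hmm
      rw [← hn₀] at h1
      simpa [mul_assoc] using h1
    have h1 := ok.toOK.act_unique (ok.toOK.act_diag (inv_mem_iff.mp hd)) (ok.toOK.act_n hi) hp
    rw [(ok.toOK.smp_spec hi).2.2.1] at h1
    exact ok.toOK.neg_ne hp h1.symm
  · have hh : ok.toOK.hG (T.smp i) (-a) ∈ D.diagonalSubgroup F := ok.toOK.hG_mem_diag hp (neg_ne_zero.mpr ha)
    have e := ok.n_eq_xGs hi (inv_ne_zero ha)
    rw [inv_inv, ok.toOK.nG_eq_hG_mul hp, ← hn] at e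
    have hxB : ∀ c : F, ok.toOK.xG (T.smp i) c ∈ D.borelSubgroup F := fun c =>
      Subgroup.mem_sup_left (ok.toOK.xG_mem_pos (ok.smp_isPos hi) c)
    have h1 : b * n * ok.toOK.xG (T.smp i) a * (ok.toOK.xG (T.neg (T.smp i)) a⁻¹)⁻¹ = 1 := by
      refine h0 _ ?_ (mul_mem hgV (inv_mem (ok.toOK.xG_mem_neg hnegp _)))
      rw [e, show b * n * ok.toOK.xG (T.smp i) a *
          (ok.toOK.xG (T.smp i) a * (ok.toOK.hG (T.smp i) (-a) * n) * ok.toOK.xG (T.smp i) a)⁻¹ =
        b * (ok.toOK.hG (T.smp i) (-a))⁻¹ * (ok.toOK.xG (T.smp i) a)⁻¹ by simp [mul_assoc]]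
      exact mul_mem (mul_mem hb (Subgroup.mem_sup_right (inv_mem hh))) (inv_mem (hxB _))
    rw [mul_inv_eq_one.mp h1]
    exact ok.toOK.xG_mem_root _ _

end OKX

/-! ### Normalisation of an automorphism -/

/-- The automorphism fixes both maximal unipotent subgroups. -/
def FixUV (D : ChevalleyDatum) (φ : MulAut ↥(D.group F)) : Prop :=
  ∀ g : ↥(D.group F), ((φ g : GL D.Idx F) ∈ D.posUnipotent F ↔ (g : GL D.Idx F) ∈ D.posUnipotent F) ∧
    ((φ g : GL D.Idx F) ∈ D.negUnipotent F ↔ (g : GL D.Idx F) ∈ D.negUnipotent F)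

/-- The automorphism maps one root subgroup onto another. -/
def RootTo (D : ChevalleyDatum) (φ : MulAut ↥(D.group F)) (r s : ℕ) : Prop :=
  ∀ g : ↥(D.group F), (φ g : GL D.Idx F) ∈ D.rootSubgroup F s ↔ (g : GL D.Idx F) ∈ D.rootSubgroup F r

namespace OKX

include ok

theorem exists_fixUV [Fintype F] (p : ℕ) [Fact p.Prime] [CharP F p] (φ : MulAut ↥(D.group F)) :
    ∃ g : ↥(D.group F), FixUV D (MulAut.conj g * φ) := by
  classical
  have : Finite (GL D.Idx F) := Finite.of_injective _ Units.val_injective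
  have : Finite ↥(D.group F) := Subtype.finite
  set U := (D.posUnipotent F).subgroupOf (D.group F) with hU
  obtain ⟨P, hP⟩ := ok.sylow_pos (F := F) p
  obtain ⟨g, hg⟩ := MulAction.exists_smul_eq ↥(D.group F) (φ • P : Sylow p ↥(D.group F)) P
  set φ' : MulAut ↥(D.group F) := MulAut.conj g * φ with hφ'
  have hmemU : ∀ x, (φ' x : GL D.Idx F) ∈ D.posUnipotent F ↔ (x : GL D.Idx F) ∈ D.posUnipotent F := by
    intro x
    have h : φ' • P = P := by rw [hφ', mul_smul]; exact hg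
    have h1 := SetLike.ext_iff.mp (congrArg (fun Q : Sylow p ↥(D.group F) => (Q : Subgroup ↥(D.group F))) h) (φ' x)
    have hc : ((φ' • P : Sylow p ↥(D.group F)) : Subgroup ↥(D.group F)) = φ' • U := by rw [hU, ← hP]; rfl
    simp only [hc] at h1
    rw [hP] at h1
    have h2 : φ' x ∈ φ' • U ↔ x ∈ U := by
      constructor
      · rintro ⟨y, hy, e⟩
        exact φ'.injective e ▸ hy
      · exact fun h => ⟨x, h, rfl⟩
    rw [← Subgroup.mem_subgroupOf, ← h1, h2, hU, Subgroup.mem_subgroupOf]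
  obtain ⟨n₀, hn₀, hn₀map⟩ := ok.exists_conj_pos_neg (F := F)
  have hn₀G := ok.toOK.monomial_le_group hn₀
  have hVeq : ∀ x : GL D.Idx F, x ∈ D.negUnipotent F ↔ n₀⁻¹ * x * n₀ ∈ D.posUnipotent F := by
    intro x
    rw [← hn₀map]
    constructor
    · rintro ⟨y, hy, rfl⟩
      simpa [mul_assoc] using hy
    · exact fun h => ⟨_, h, by simp [mul_assoc]⟩
  obtain ⟨b, hb, n, hn, u, hu, hx⟩ := ok.bruhat_exists (φ' ⟨n₀, hn₀G⟩).2
  have hu' : u ∈ D.posUnipotent F := (Subgroup.closure_le (D.posUnipotent F)).mpr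
    (by rintro y ⟨r, t, hr, -, hy⟩; exact Subgroup.subset_closure ⟨r, t, hr, hy⟩) hu
  have hnG := ok.toOK.monomial_le_group hn
  have hbG := ok.toOK.borel_le_group hb
  have huG := ok.toOK.pos_le_group hu'
  have hxe : φ' ⟨n₀, hn₀G⟩ = ⟨b, hbG⟩ * ⟨n, hnG⟩ * ⟨u, huG⟩ := Subtype.ext hx
  have himg : ∀ x : ↥(D.group F), (x : GL D.Idx F) ∈ D.negUnipotent F ↔
      n⁻¹ * b⁻¹ * (φ' x : GL D.Idx F) * b * n ∈ D.posUnipotent F := by
    intro x
    rw [hVeq]
    have h1 := hmemU (⟨n₀, hn₀G⟩⁻¹ * x * ⟨n₀, hn₀G⟩)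
    simp only [map_mul, map_inv, hxe, Subgroup.coe_mul, Subgroup.coe_inv] at h1
    rw [← h1, ← ok.borel_conj_pos (b := u) (Subgroup.mem_sup_left hu')]
    simp [mul_assoc]
  -- the monomial element sends every positive root to a negative one
  obtain ⟨t₀, ht₀, w, hw, hnw⟩ := ok.toOK.mem_monomial.mp hn
  have hA : ok.toOK.Act n (piW T w) := hnw ▸ (ok.toOK.act_diag ht₀).mul ok.toOK (ok.toOK.act_gW w hw)
  have hneg : ∀ r < D.nroots, 0 < T.htf r → T.htf (piW T w r) < 0 := by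
    intro r hr h0
    by_contra hc
    have hlt := (hA.1 r hr).1
    obtain ⟨a, ha0, ha⟩ := hA.2.1 r hr
    have hz : b * ok.toOK.xG (piW T w r) a * b⁻¹ ∈ D.posUnipotent F := (ok.borel_conj_pos hb).mpr
      (ok.toOK.xG_mem_pos (ok.toOK.isPos_iff.mpr ⟨hlt, by have := ok.toOK.ht_ne hlt; omega⟩) _)
    have hzG := ok.toOK.pos_le_group hz
    obtain ⟨x, hx'⟩ := φ'.surjective ⟨_, hzG⟩
    have h1 : (x : GL D.Idx F) ∈ D.posUnipotent F := (hmemU x).mp (by rw [hx']; exact hz)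
    have h2 : (x : GL D.Idx F) ∈ D.negUnipotent F := by
      rw [himg, hx']
      have e := (ha 1).1
      rw [mul_one] at e
      show n⁻¹ * b⁻¹ * (b * ok.toOK.xG (piW T w r) a * b⁻¹) * b * n ∈ _
      rw [← e]
      simpa [mul_assoc] using ok.toOK.xG_mem_pos (ok.toOK.isPos_iff.mpr ⟨hr, h0⟩) (1 : F)
    have hx1 : x = 1 := by
      have : (x : GL D.Idx F) ∈ D.borelSubgroup F ⊓ D.negUnipotent F := ⟨Subgroup.mem_sup_left h1, h2⟩
      rw [ok.toOK.borel_inf_neg, Subgroup.mem_bot] at this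
      exact Subtype.ext this
    rw [hx1, map_one] at hx'
    have h3 := congrArg Subtype.val hx'
    simp only [OneMemClass.coe_one] at h3
    rw [eq_comm, mul_inv_eq_one, mul_eq_left] at h3
    refine ha0 (ok.toOK.xG_right_inj hlt ?_)
    rw [h3, ok.toOK.xG_zero]
  have hnmap : ∀ x : GL D.Idx F, x ∈ D.posUnipotent F ↔ n * x * n⁻¹ ∈ D.negUnipotent F := by
    have hle : (D.posUnipotent F).map (MulAut.conj n).toMonoidHom ≤ D.negUnipotent F := by
      rintro _ ⟨y, hy, rfl⟩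
      exact ok.pos_conj_neg hA hneg hy
    have heq := Subgroup.eq_of_le_of_card_ge hle (by
      rw [← hn₀map, Subgroup.card_map_of_injective (MulEquiv.injective _),
        Subgroup.card_map_of_injective (MulEquiv.injective _)])
    intro x
    rw [← heq]
    constructor
    · exact fun h => ⟨x, h, rfl⟩
    · rintro ⟨y, hy, e⟩
      exact (MulEquiv.injective _ e) ▸ hy
  refine ⟨⟨b, hbG⟩⁻¹ * g, fun x => ?_⟩
  have he : ((MulAut.conj (⟨b, hbG⟩⁻¹ * g) * φ) x : GL D.Idx F) = b⁻¹ * (φ' x : GL D.Idx F) * b := by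
    simp [hφ', mul_assoc]
  rw [he]
  refine ⟨?_, ?_⟩
  · conv_lhs => rw [← ok.borel_conj_pos hb]
    rw [← hmemU x]
    simp [mul_assoc]
  · rw [himg x, hnmap]
    simp [mul_assoc]

end OKX

namespace FixUV

variable {φ : MulAut ↥(D.group F)}

theorem symm (h : FixUV D φ) : FixUV D φ⁻¹ := by
  intro g
  obtain ⟨h1, h2⟩ := h (φ⁻¹ g)
  rw [MulAut.apply_inv_self] at h1 h2
  exact ⟨h1.symm, h2.symm⟩

include ok in
theorem borel_iff (h : FixUV D φ) (g : ↥(D.group F)) :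
    (φ g : GL D.Idx F) ∈ D.borelSubgroup F ↔ (g : GL D.Idx F) ∈ D.borelSubgroup F := by
  suffices key : ∀ (ψ : MulAut ↥(D.group F)), FixUV D ψ → ∀ g : ↥(D.group F),
      (g : GL D.Idx F) ∈ D.borelSubgroup F → (ψ g : GL D.Idx F) ∈ D.borelSubgroup F by
    refine ⟨fun hg => ?_, key φ h g⟩
    have := key _ h.symm _ hg
    rwa [MulAut.inv_apply_self] at this
  intro ψ hψ g hg
  refine ok.mem_borel_of_conj_pos (ψ g).2 fun r hr t => ?_
  obtain ⟨x, hx⟩ := ψ.surjective ⟨ok.toOK.xG r t, ok.toOK.xG_mem_group r t⟩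
  have hxU : (x : GL D.Idx F) ∈ D.posUnipotent F := (hψ x).1.mp (by rw [hx]; exact ok.toOK.xG_mem_pos hr t)
  have h1 := ((hψ (g * x * g⁻¹)).1).mpr ((ok.borel_conj_pos hg).mpr hxU)
  simpa [hx] using h1

include ok in
theorem exists_perm (h : FixUV D φ) {w₀ : List ℕ} (hw₀ : T.chkLong D w₀ = true) :
    ∃ σ : ℕ → ℕ, ∀ i < D.rank, σ i < D.rank ∧ RootTo D φ (T.neg (T.smp i)) (T.neg (T.smp (σ i))) := by
  classical
  simp only [Tabs.chkLong, andR_iff, allL_iff, nlt_iff, allR_iff, orR_iff, notR_iff, Tabs.piR_eq] at hw₀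
  obtain ⟨hw, hlong', -⟩ := hw₀
  have hlong : ∀ r < D.nroots, 0 < T.htf r → T.htf (piW T w₀ r) < 0 := by
    intro r hr h0
    rcases hlong' r hr with e | e
    · rw [ipos_iff.mpr h0] at e; exact absurd e (by simp)
    · have : (0 : ℤ) < -T.htf (piW T w₀ r) := ipos_iff.mp e
      omega
  let P : ℕ → GL D.Idx F → Prop := fun i x => x ∈ D.borelSubgroup F ⊔ D.rootSubgroup F (T.neg (T.smp i))
  have hroot_le : ∀ r, D.rootSubgroup F r ≤ D.group F := fun r x hx => by
    obtain ⟨t, rfl⟩ := ok.toOK.mem_root.mp hx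
    exact ok.toOK.xG_mem_group r t
  -- a root element leaves the Borel subgroup
  have hout : ∀ i < D.rank, ∀ a : F, a ≠ 0 → ok.toOK.xG (T.neg (T.smp i)) a ∉ D.borelSubgroup F := by
    intro i hi a ha hB
    have hp := ok.toOK.smp_lt hi
    have : ok.toOK.xG (T.neg (T.smp i)) a ∈ D.borelSubgroup F ⊓ D.negUnipotent F := ⟨hB, ok.toOK.xG_mem_neg
      (ok.toOK.isNeg_iff.mpr ⟨ok.toOK.neg_lt hp, by rw [ok.toOK.ht_neg hp, (ok.toOK.smp_spec hi).1]; norm_num⟩) _⟩
    rw [ok.toOK.borel_inf_neg, Subgroup.mem_bot, ← ok.toOK.xG_zero (T.neg (T.smp i))] at this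
    exact ha (ok.toOK.xG_right_inj (ok.toOK.neg_lt hp) this)
  -- a larger subgroup contains a negative fundamental root
  have hbig : ∀ K : Subgroup ↥(D.group F),
      (∀ x : ↥(D.group F), (x : GL D.Idx F) ∈ D.borelSubgroup F → x ∈ K) →
      (∃ x ∈ K, (x : GL D.Idx F) ∉ D.borelSubgroup F) →
      ∃ i < D.rank, ∀ x : ↥(D.group F), P i x → x ∈ K := by
    intro K hBK ⟨x, hxK, hxB⟩
    obtain ⟨b, hb, n, hn, u, hu, hx⟩ := ok.bruhat_exists x.2
    have hu' : u ∈ D.posUnipotent F := (Subgroup.closure_le (D.posUnipotent F)).mpr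
      (by rintro y ⟨r, t, hr, -, hy⟩; exact Subgroup.subset_closure ⟨r, t, hr, hy⟩) hu
    have hnG := ok.toOK.monomial_le_group hn
    have hbG := ok.toOK.borel_le_group hb
    have huG := ok.toOK.pos_le_group hu'
    have hnK : (⟨n, hnG⟩ : ↥(D.group F)) ∈ K := by
      have e : (⟨n, hnG⟩ : ↥(D.group F)) = ⟨b, hbG⟩⁻¹ * x * ⟨u, huG⟩⁻¹ := Subtype.ext (by simp [hx, mul_assoc])
      rw [e]
      exact mul_mem (mul_mem (inv_mem (hBK _ hb)) hxK) (inv_mem (hBK _ (Subgroup.mem_sup_left hu')))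
    obtain ⟨t₀, ht₀, w, hw', hnw⟩ := ok.toOK.mem_monomial.mp hn
    obtain ⟨i, hi, hineg⟩ : ∃ i < D.rank, T.htf (piW T w (T.smp i)) < 0 := by
      by_contra hc
      push Not at hc
      refine hxB ?_
      rw [hx, hnw]
      exact mul_mem (mul_mem hb (Subgroup.mem_sup_right (mul_mem ht₀ (ok.gW_mem_diag_of_pos _ w rfl hw'
        fun r hr h0 => ok.pos_of_simple hw' (fun j hj => not_lt.mpr (hc j hj)) hr h0))))
        (Subgroup.mem_sup_left hu')
    refine ⟨i, hi, fun y hy => ?_⟩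
    suffices hle : D.borelSubgroup F ⊔ D.rootSubgroup F (T.neg (T.smp i)) ≤ K.map (D.group F).subtype by
      obtain ⟨z, hz, e⟩ := hle hy
      exact Subtype.ext e ▸ hz
    refine sup_le (fun z hz => ⟨⟨z, ok.toOK.borel_le_group hz⟩, hBK _ hz, rfl⟩) fun z hz => ?_
    obtain ⟨a, rfl⟩ := ok.toOK.mem_root.mp hz
    have hp := ok.toOK.smp_lt hi
    have hA : ok.toOK.Act n (piW T w) := hnw ▸ (ok.toOK.act_diag ht₀).mul ok.toOK (ok.toOK.act_gW w hw')
    obtain ⟨c, hc0, hc⟩ := hA.2.1 (T.neg (T.smp i)) (ok.toOK.neg_lt hp)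
    have hlt := ok.piW_lt hw' (ok.toOK.neg_lt hp)
    have hpos : ok.toOK.xG (piW T w (T.neg (T.smp i))) (c * a) ∈ D.borelSubgroup F :=
      Subgroup.mem_sup_left (ok.toOK.xG_mem_pos (ok.toOK.isPos_iff.mpr ⟨hlt, by
        rw [ok.piW_neg hw' hp, ok.toOK.ht_neg (ok.piW_lt hw' hp)]; omega⟩) _)
    refine ⟨⟨n, hnG⟩⁻¹ * ⟨_, ok.toOK.borel_le_group hpos⟩ * ⟨n, hnG⟩,
      mul_mem (mul_mem (inv_mem hnK) (hBK _ hpos)) hnK, ?_⟩
    show n⁻¹ * ok.toOK.xG (piW T w (T.neg (T.smp i))) (c * a) * n = _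
    rw [← (hc a).1]
    simp [mul_assoc]
  let Q : ℕ → Subgroup ↥(D.group F) := fun i =>
    (D.borelSubgroup F ⊔ D.rootSubgroup F (T.neg (T.smp i))).subgroupOf (D.group F)
  have hneq : ∀ i < D.rank, ∀ j < D.rank, (∀ x : ↥(D.group F), P j x → P i x) → j = i := by
    intro i hi j hj hle
    have hp := ok.toOK.smp_lt hj
    have h1 := hle ⟨_, ok.toOK.xG_mem_group (T.neg (T.smp j)) 1⟩ (Subgroup.mem_sup_right (ok.toOK.xG_mem_root _ _))
    have h2 := ok.parab_inf_neg hw hlong hi (ok.toOK.xG_mem_neg (ok.toOK.isNeg_iff.mpr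
      ⟨ok.toOK.neg_lt hp, by rw [ok.toOK.ht_neg hp, (ok.toOK.smp_spec hj).1]; norm_num⟩) (1 : F)) h1
    obtain ⟨t, ht⟩ := ok.toOK.mem_root.mp h2
    have e := ok.toOK.xG_eq_iff (ok.toOK.neg_lt hp) (ok.toOK.neg_lt (ok.toOK.smp_lt hi)) one_ne_zero ht
    have e2 : T.smp j = T.smp i := by
      rw [← ok.toOK.neg_neg' hp, e, ok.toOK.neg_neg' (ok.toOK.smp_lt hi)]
    exact ok.smp_index hj hi e2
  have key : ∀ ψ : MulAut ↥(D.group F), FixUV D ψ → ∀ i < D.rank, ∃ j < D.rank,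
      ∀ x : ↥(D.group F), P j x → P i (ψ x) := by
    intro ψ hψ i hi
    refine hbig ((Q i).comap ψ.toMonoidHom) (fun x hx => Subgroup.mem_sup_left ((hψ.borel_iff ok x).mpr hx)) ?_
    obtain ⟨x, hx⟩ := ψ.surjective ⟨_, ok.toOK.xG_mem_group (T.neg (T.smp i)) 1⟩
    refine ⟨x, ?_, fun hxB => hout i hi 1 one_ne_zero ?_⟩
    · show P i (ψ x)
      rw [hx]
      exact Subgroup.mem_sup_right (ok.toOK.xG_mem_root _ _)
    · have := (hψ.borel_iff ok x).mpr hxB
      rwa [hx] at this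
  have hex : ∀ i < D.rank, ∃ j < D.rank, ∀ x : ↥(D.group F), P i x ↔ P j (φ x) := by
    intro i hi
    obtain ⟨j, hj, hji⟩ := key φ⁻¹ h.symm i hi
    obtain ⟨k, hk, hkj⟩ := key φ h j hj
    have hki : k = i := hneq i hi k hk fun x hx => by
      have := hji _ (hkj x hx)
      rwa [MulAut.inv_apply_self] at this
    subst hki
    exact ⟨j, hj, fun x => ⟨hkj x, fun hx => by
      have := hji _ hx
      rwa [MulAut.inv_apply_self] at this⟩⟩
  have hroot : ∀ i < D.rank, ∀ x : ↥(D.group F), (x : GL D.Idx F) ∈ D.rootSubgroup F (T.neg (T.smp i)) ↔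
      (x : GL D.Idx F) ∈ D.negUnipotent F ∧ P i x := by
    intro i hi x
    have hp := ok.toOK.smp_lt hi
    refine ⟨fun hx => ⟨?_, Subgroup.mem_sup_right hx⟩, fun hx => ok.parab_inf_neg hw hlong hi hx.1 hx.2⟩
    obtain ⟨t, ht⟩ := ok.toOK.mem_root.mp hx
    rw [ht]
    exact ok.toOK.xG_mem_neg (ok.toOK.isNeg_iff.mpr
      ⟨ok.toOK.neg_lt hp, by rw [ok.toOK.ht_neg hp, (ok.toOK.smp_spec hi).1]; norm_num⟩) _
  choose σ hσ hσ' using hex
  refine ⟨fun i => if hi : i < D.rank then σ i hi else i, fun i hi => ?_⟩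
  simp only [dif_pos hi]
  exact ⟨hσ i hi, fun g => by rw [hroot i hi, hroot _ (hσ i hi), (h g).2, ← hσ' i hi g]⟩

end FixUV

end Cfsg.Agent.Chev
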