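import Cfsg.Agent.Lib.Chev.Poincare

/-!
Pairs of conjugates of the root subgroup of the highest root.
-/

set_option autoImplicit false

namespace Cfsg.Agent.Chev

open Cfsg.Lie

/-- `L` lists the orbit of the last root, each member with a word making it and the last root positive, except its
negative. -/
noncomputable def Tabs.chkPairs (D : ChevalleyDatum) (T : Tabs) (L : List (ℕ × List ℕ)) : Bool :=
  andR (nlt (Nat.sub D.nroots 1) D.nroots) <| andR (anyL (fun f => Nat.beq f.1 (Nat.sub D.nroots 1)) L) <|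
  allL (fun e =>
    andR (allR D.rank fun i => anyL (fun f => Nat.beq f.1 (T.refl i e.1)) L) <|
    andR (allL (fun i => nlt i D.rank) e.2) <|
    orR (Nat.beq e.1 (T.neg (Nat.sub D.nroots 1)))
      (andR (ipos (T.htf (T.piR e.2 (Nat.sub D.nroots 1)))) (ipos (T.htf (T.piR e.2 e.1))))) L

variable {F : Type*} [Field F] {D : ChevalleyDatum} {T : Tabs}

namespace OKX

variable (ok : OKX D T)

include ok

theorem root_conj {g : GL D.Idx F} {r s : ℕ} (h : ∀ t : F, ∃ u : F, g * ok.toOK.xG r t * g⁻¹ = ok.toOK.xG s u)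
    (h' : ∀ u : F, ∃ t : F, g * ok.toOK.xG r t * g⁻¹ = ok.toOK.xG s u) :
    (D.rootSubgroup F r).map (MulAut.conj g).toMonoidHom = D.rootSubgroup F s := by
  ext y
  simp only [Subgroup.mem_map, ok.toOK.mem_root]
  constructor
  · rintro ⟨x, ⟨t, rfl⟩, rfl⟩
    obtain ⟨u, hu⟩ := h t
    exact ⟨u, by simpa using hu⟩
  · rintro ⟨u, rfl⟩
    obtain ⟨t, ht⟩ := h' u
    exact ⟨_, ⟨t, rfl⟩, by simpa using ht⟩

theorem act_root_conj {g : GL D.Idx F} {π : ℕ → ℕ} (hA : ok.toOK.Act g π) {r : ℕ} (hr : r < D.nroots) :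
    (D.rootSubgroup F r).map (MulAut.conj g).toMonoidHom = D.rootSubgroup F (π r) := by
  obtain ⟨a, ha, h⟩ := hA.2.1 r hr
  exact ok.root_conj (fun t => ⟨_, (h t).1⟩) fun u => ⟨a⁻¹ * u, by rw [(h _).1, ← mul_assoc, mul_inv_cancel₀ ha, one_mul]⟩

theorem borel_top {b : GL D.Idx F} (hb : b ∈ D.borelSubgroup F) (hn : D.nroots - 1 < D.nroots) :
    (D.rootSubgroup F (D.nroots - 1)).map (MulAut.conj b).toMonoidHom = D.rootSubgroup F (D.nroots - 1) := by
  obtain ⟨u, hu, t, ht, rfl⟩ := ok.toOK.mem_borel hb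
  rw [MulAut.conj.map_mul, MulEquiv.toMonoidHom_eq_coe]
  show (D.rootSubgroup F (D.nroots - 1)).map
    (((MulAut.conj u).toMonoidHom).comp (MulAut.conj t).toMonoidHom) = _
  rw [← Subgroup.map_map, ok.act_root_conj (ok.toOK.act_diag ht) hn, id_eq]
  clear hb
  have hu' : ∀ x : F, u * ok.toOK.xG (D.nroots - 1) x * u⁻¹ = ok.toOK.xG (D.nroots - 1) x := by
    intro x
    rw [mul_inv_eq_iff_eq_mul]
    refine Commute.eq ?_
    induction hu using Subgroup.closure_induction with
    | mem y hy =>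
      obtain ⟨r, a, hr, hy⟩ := hy
      rw [ok.toOK.eq_xG hy]
      obtain ⟨hr1, hr2⟩ := ok.isPos_iff_half.mp hr
      by_cases e : r = D.nroots - 1
      · subst e; unfold Commute SemiconjBy; rw [ok.toOK.xG_mul, ok.toOK.xG_mul, add_comm]
      have h2 : D.nroots - 1 ≠ T.neg r := by rw [ok.neg_eq_sub hr2]; have := ok.two_half; omega
      have hh : Tabs.half D ≤ D.nroots - 1 := by omega
      have e1 : ok.toOK.xG (D.nroots - 1) x * ok.toOK.xG r a = ok.toOK.xG r a * ok.toOK.xG (D.nroots - 1) x *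
          ok.toOK.wordG (D.commWord F r (D.nroots - 1) a x) := by
        refine Units.ext ?_
        rw [Units.val_mul, Units.val_mul, Units.val_mul, ok.toOK.coe_wordG]
        exact ok.toOK.comm hr2 hn (Ne.symm e) (by rwa [ok.toOK.neg_eq hr2]) a x
      have hnil : T.terms r (D.nroots - 1) = [] := by
        refine List.eq_nil_iff_forall_not_mem.mpr fun q hq => ?_
        have h3 := ok.terms_up hr2 hr1 hn hh hq
        have h4 := (ok.toOK.term_spec hr2 hn hq).1
        omega
      rw [show D.commWord F r (D.nroots - 1) a x = [] by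
        simp [ChevalleyDatum.commWord, ok.toOK.terms_eq hr2 hn, hnil]] at e1
      simp [OK.wordG] at e1
      exact e1.symm
    | one => exact Commute.one_left _
    | mul p q _ _ hp hq => exact hp.mul_left hq
    | inv p _ hp => exact hp.inv_left
  exact ok.root_conj (fun x => ⟨x, hu' x⟩) fun x => ⟨x, hu' x⟩

theorem two_conjugates [Fintype F] (p : ℕ) [Fact p.Prime] [CharP F p] {L : List (ℕ × List ℕ)}
    (hc : Tabs.chkPairs D T L = true) {g : GL D.Idx F} (hg : g ∈ D.group F) :
    IsPGroup p ↥(D.rootSubgroup F (D.nroots - 1) ⊔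
        (D.rootSubgroup F (D.nroots - 1)).map (MulAut.conj g).toMonoidHom) ∨
    ∃ h ∈ D.group F, (D.rootSubgroup F (D.nroots - 1) ⊔
        (D.rootSubgroup F (D.nroots - 1)).map (MulAut.conj g).toMonoidHom).map (MulAut.conj h).toMonoidHom =
      D.rootSubgroup F (D.nroots - 1) ⊔ D.rootSubgroup F 0 := by
  simp only [Tabs.chkPairs, andR_iff, nlt_iff, anyL_iff, allL_iff, allR_iff, orR_iff, ipos_iff, Nat.beq_eq,
    Tabs.piR_eq] at hc
  obtain ⟨hn, ⟨f, hf, hfe⟩, hL⟩ := hc
  simp only [Nat.sub_eq] at hn hfe hL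
  set h := D.nroots - 1 with hh
  obtain ⟨b, hb, n, hnN, u, hu, rfl⟩ := ok.bruhat_exists hg
  have huB : u ∈ D.borelSubgroup F := by
    refine Subgroup.mem_sup_left ((Subgroup.closure_le _).mpr ?_ hu)
    rintro y ⟨r, t, hr, -, hy⟩
    exact Subgroup.subset_closure ⟨r, t, hr, hy⟩
  obtain ⟨t₀, ht₀, w, hw, rfl⟩ := ok.toOK.mem_monomial.mp hnN
  have horb : ∀ v : List ℕ, (∀ i ∈ v, i < D.rank) → ∃ e ∈ L, e.1 = piW T v h := by
    intro v
    induction v with
    | nil => exact fun _ => ⟨f, hf, hfe⟩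
    | cons i v ih =>
      intro hv
      obtain ⟨e, he, hee⟩ := ih fun j hj => hv j (List.mem_cons_of_mem _ hj)
      obtain ⟨e', he', hee'⟩ := (hL e he).1 i (hv i List.mem_cons_self)
      exact ⟨e', he', by rw [piW, ← hee]; exact hee'⟩
  set s := piW T w h with hs
  have hslt : s < D.nroots := ok.piW_lt hw hn
  have hA := (ok.toOK.act_diag ht₀).mul ok.toOK (ok.toOK.act_gW (F := F) w hw)
  have hY : (D.rootSubgroup F h).map (MulAut.conj (b * (t₀ * ok.toOK.gW F w) * u)).toMonoidHom =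
      (D.rootSubgroup F s).map (MulAut.conj b).toMonoidHom := by
    rw [map_mul, map_mul]
    show (D.rootSubgroup F h).map (((MulAut.conj b).toMonoidHom.comp
      (MulAut.conj (t₀ * ok.toOK.gW F w)).toMonoidHom).comp (MulAut.conj u).toMonoidHom) = _
    rw [← Subgroup.map_map, ← Subgroup.map_map, ok.borel_top huB hn, ok.act_root_conj hA hn]
    rfl
  have hsup : D.rootSubgroup F h ⊔ (D.rootSubgroup F h).map
      (MulAut.conj (b * (t₀ * ok.toOK.gW F w) * u)).toMonoidHom =
      (D.rootSubgroup F h ⊔ D.rootSubgroup F s).map (MulAut.conj b).toMonoidHom := by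
    rw [hY, Subgroup.map_sup, ok.borel_top hb hn]
  rw [hsup]
  have hbG : b ∈ D.group F := ok.toOK.borel_le_group hb
  obtain ⟨e, he, hes⟩ := horb w hw
  rcases (hL e he).2.2 with hneg | ⟨h1, h2⟩
  · right
    refine ⟨b⁻¹, inv_mem hbG, ?_⟩
    rw [Subgroup.map_map]
    have : (MulAut.conj b⁻¹).toMonoidHom.comp (MulAut.conj b).toMonoidHom = MonoidHom.id _ := by
      ext x; simp [mul_assoc]
    rw [this, Subgroup.map_id]
    have hs0 : s = 0 := by
      rw [hes] at hneg
      rw [hs, hneg, ok.neg_eq_sub hn]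
      omega
    rw [hs0]
  · left
    rw [hes] at h2
    have hv := (hL e he).2.1
    have hU : IsPGroup p ↥(D.posUnipotent F) := by
      obtain ⟨k, hp, hq⟩ := FiniteField.card F p
      exact IsPGroup.of_card (n := (k : ℕ) * (D.nroots / 2)) (by rw [ok.card_pos, hq, ← pow_mul])
    have hpos : ∀ r, r < D.nroots → 0 < T.htf (piW T e.2 r) →
        (D.rootSubgroup F r).map (MulAut.conj (ok.toOK.gW F e.2)).toMonoidHom ≤ D.posUnipotent F := by
      intro r hr hr'
      rw [ok.act_root_conj (ok.toOK.act_gW e.2 hv) hr]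
      intro x hx
      obtain ⟨t, rfl⟩ := ok.toOK.mem_root.mp hx
      exact ok.toOK.xG_mem_pos (ok.toOK.isPos_iff.mpr ⟨ok.piW_lt hv hr, hr'⟩) t
    have hle : (D.rootSubgroup F h ⊔ D.rootSubgroup F s).map (MulAut.conj (ok.toOK.gW F e.2)).toMonoidHom ≤
        D.posUnipotent F := by
      rw [Subgroup.map_sup]; exact sup_le (hpos h hn h1) (hpos s hslt h2)
    have h3 := hU.to_le hle
    refine IsPGroup.map ?_ _
    exact h3.of_equiv (Subgroup.equivMapOfInjective _ (MulAut.conj (ok.toOK.gW F e.2)).toMonoidHom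
      (MulEquiv.injective _)).symm

end OKX

end Cfsg.Agent.Chev
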