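import Cfsg.Agent.Lib.Chev.StPres
import Cfsg.Agent.Lib.Chev.AllPerf

/-! Perfectness of a presented group. -/

set_option autoImplicit false

namespace Cfsg.Agent.Chev

open Cfsg.Lie

variable {F : Type*} [Field F] {D : ChevalleyDatum} {T : Tabs}

namespace StHyp

variable {ok : OKX D T} {S : Type*} [Group S] {y : ℕ → F → S} {θ : S →* GL D.Idx F}

theorem comm_elem_mem {G : Type*} [Group G] (a b : G) : a * b * a⁻¹ * b⁻¹ ∈ commutator G :=
  Subgroup.commutator_mem_commutator (Subgroup.mem_top a) (Subgroup.mem_top b)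

theorem derived_scale (st : StHyp ok y θ) {r i : ℕ} (hr : r < D.nroots) (hi : i < D.rank) {c : F} (hc : c ≠ 0)
    (h : c ^ T.cA i r ≠ 1) (a : F) : y r a ∈ commutator S := by
  have h1 := comm_elem_mem (st.hb i c) (y r (a / (c ^ T.cA i r - 1)))
  rw [st.conj_hb hi hc hr, st.y_inv hr, st.add r hr] at h1
  have h3 : c ^ T.cA i r * (a / (c ^ T.cA i r - 1)) + -(a / (c ^ T.cA i r - 1)) = a := by
    field_simp [sub_ne_zero.mpr h]; ring
  rwa [h3] at h1

theorem derived_pairs (st : StHyp ok y θ) {r : ℕ} (hr : r < D.nroots) (h : T.pairB D r = true) (t : F) :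
    y r t ∈ commutator S := by
  simp only [Tabs.pairB, anyL_iff, upTo_eq, List.mem_range] at h
  obtain ⟨a, ha, h⟩ := h
  revert h
  generalize lookR r (T.chs D (T.neg a)) = L
  rcases L with _ | ⟨⟨b, bc⟩, L⟩
  · intro h; exact absurd h Bool.false_ne_true
  intro h
  replace h : andR (nlt b D.nroots) (andR (notR (Nat.beq b a)) (andR (notR (Nat.beq b (T.neg a)))
      (orR (eqL eqQ (T.terms a b) [(r, 1, 1, 1)]) (eqL eqQ (T.terms a b) [(r, -1, 1, 1)])))) = true := h
  simp only [andR_iff, nlt_iff, notR_iff, nbeq_false_iff, orR_iff] at h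
  obtain ⟨hb, hba, hbn, hq⟩ := h
  obtain ⟨u, hu⟩ : ∃ u : F, ((D.commWord F a b u 1).map fun p => y p.1 p.2).prod = y r t := by
    rcases hq with e | e
    · exact ⟨-t, by simp [ChevalleyDatum.commWord, ok.toOK.terms_eq ha hb, eq_of_eqL eq_of_eqQ e]⟩
    · exact ⟨t, by simp [ChevalleyDatum.commWord, ok.toOK.terms_eq ha hb, eq_of_eqL eq_of_eqQ e]⟩
  have h1 := comm_elem_mem (y b 1)⁻¹ (y a u)⁻¹
  have e := st.comm a b ha hb hba hbn u 1
  rw [hu] at e
  have e2 : y r t = (y b 1)⁻¹ * (y a u)⁻¹ * y b 1 * y a u := by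
    simp only [mul_assoc]; rw [e]; simp [mul_assoc]
  rw [e2]
  simpa using h1

theorem derived_pairs2 (st : StHyp ok y θ)
    (hodd : ∀ r < D.nroots, T.oddB D r = true → ∀ t : F, y r t ∈ commutator S) {r : ℕ}
    (h : T.pairB2 D r = true) (t : F) : y r t ∈ commutator S := by
  simp only [Tabs.pairB2, anyL_iff, upTo_eq, List.mem_range, andR_iff, notR_iff, nbeq_false_iff] at h
  obtain ⟨x, hx, z, hz, hxz, hxn, ho⟩ := h
  revert ho
  generalize hL : T.terms x z = L
  rcases L with _ | ⟨q, rest⟩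
  · intro ho; exact absurd ho Bool.false_ne_true
  intro ho
  replace ho : andR (T.oddB D q.1) (andR (nlt q.1 D.nroots) (orR
      (orR (eqL eqQ rest [(r, 1, 2, 1)]) (eqL eqQ rest [(r, -1, 2, 1)]))
      (orR (eqL eqQ rest [(r, 1, 1, 2)]) (eqL eqQ rest [(r, -1, 1, 2)])))) = true := ho
  simp only [andR_iff, nlt_iff, orR_iff] at ho
  obtain ⟨hq, hq', hrest⟩ := ho
  obtain ⟨u, v, w, huv⟩ : ∃ u v w : F,
      ((D.commWord F x z u v).map fun p => y p.1 p.2).prod = y q.1 w * y r t := by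
    have key : ∀ (k : ℤ) (i j : ℕ), rest = [(r, k, i, j)] → ∀ u v : F,
        ((D.commWord F x z u v).map fun p => y p.1 p.2).prod =
          y q.1 ((q.2.1 : F) * (-u) ^ q.2.2.1 * v ^ q.2.2.2) * y r ((k : F) * (-u) ^ i * v ^ j) := by
      intro k i j e u v
      simp [ChevalleyDatum.commWord, ok.toOK.terms_eq hx hz, hL, e]
    rcases hrest with (e | e) | (e | e)
    · refine ⟨1, t, (q.2.1 : F) * (-1) ^ q.2.2.1 * t ^ q.2.2.2, ?_⟩
      rw [key _ _ _ (eq_of_eqL eq_of_eqQ e) 1 t]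
      simp
    · refine ⟨1, (-t), (q.2.1 : F) * (-1) ^ q.2.2.1 * (-t) ^ q.2.2.2, ?_⟩
      rw [key _ _ _ (eq_of_eqL eq_of_eqQ e) 1 (-t)]
      simp
    · refine ⟨(-t), 1, (q.2.1 : F) * (-(-t)) ^ q.2.2.1 * 1 ^ q.2.2.2, ?_⟩
      rw [key _ _ _ (eq_of_eqL eq_of_eqQ e) (-t) 1]
      simp
    · refine ⟨t, 1, (q.2.1 : F) * (-t) ^ q.2.2.1 * 1 ^ q.2.2.2, ?_⟩
      rw [key _ _ _ (eq_of_eqL eq_of_eqQ e) t 1]
      simp
  have h1 := comm_elem_mem (y z v)⁻¹ (y x u)⁻¹
  have e := st.comm x z hx hz hxz hxn u v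
  rw [huv] at e
  have e2 : y r t = (y q.1 w)⁻¹ * ((y z v)⁻¹ * (y x u)⁻¹ * y z v * y x u) := by
    simp only [mul_assoc]; rw [e]; simp [mul_assoc]
  rw [e2]
  exact mul_mem (inv_mem (hodd q.1 hq' hq w)) (by simpa using h1)

theorem derived_of_simple (st : StHyp ok y θ) (h : ∀ i < D.rank, ∀ t : F, y (T.smp i) t ∈ commutator S) :
    ∀ r < D.nroots, ∀ t : F, y r t ∈ commutator S := by
  suffices hh : ∀ (L : List (ℕ × Option (ℕ × ℕ))) (seen : List ℕ), T.chkOrder D L seen = true →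
      (∀ e ∈ L, e ∈ T.order) → (∀ a ∈ seen, a < D.nroots ∧ ∀ t : F, y a t ∈ commutator S) →
      ∀ r < D.nroots, ∀ t : F, y r t ∈ commutator S from
    hh T.order [] ok.toOK.order (fun _ => id) (by simp)
  intro L
  induction L with
  | nil =>
    intro seen hc _ hs a ha
    replace hc : allR D.nroots (fun r => anyL (fun s => Nat.beq s r) seen) = true := hc
    simp only [allR_iff, anyL_iff, Nat.beq_eq] at hc
    obtain ⟨b, hb, rfl⟩ := hc a ha
    exact (hs b hb).2
  | cons p L ih =>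
    obtain ⟨a, o⟩ := p
    intro seen hc hL hs
    replace hc : andR (nlt a D.nroots) (andR (@Option.rec (ℕ × ℕ) (fun _ => Bool) true
        (fun q => andR (nlt q.1 D.rank) <| andR (anyL (fun s => Nat.beq s q.2) seen) <|
          Nat.beq (T.refl q.1 q.2) a) o) (T.chkOrder D L (a :: seen))) = true := hc
    simp only [andR_iff, nlt_iff] at hc
    refine ih (a :: seen) hc.2.2 (fun e he => hL e (List.mem_cons_of_mem _ he)) ?_
    intro b hb
    rcases List.mem_cons.mp hb with rfl | hb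
    swap
    · exact hs b hb
    refine ⟨hc.1, fun t => ?_⟩
    rcases o with _ | ⟨i, c⟩
    · obtain ⟨i, hi, rfl⟩ := ok.toOK.rep_simple (r := b) (by
        simp only [Tabs.reps, flatR_eq, List.mem_flatMap]
        exact ⟨_, hL _ List.mem_cons_self, List.mem_singleton.mpr rfl⟩)
      exact h i hi t
    · have h2 := hc.2.1
      simp only [andR_iff, nlt_iff, anyL_iff, Nat.beq_eq] at h2
      obtain ⟨hi, ⟨c', hc', rfl⟩, rfl⟩ := h2
      obtain ⟨hcn, hcd⟩ := hs _ hc'
      have e := st.conj_n1 hi hcn ((T.eta i c' : F) * t)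
      rw [← mul_assoc (T.eta i c' : F), ok.toOK.eta_sq hi hcn, one_mul] at e
      rw [← e]
      exact (inferInstance : (commutator S).Normal).conj_mem _ (hcd _) _

theorem perfect (st : StHyp ok y θ) (h : T.chkPerfAll D = true ∨ (T.chkPerfOdd D = true ∧ ∃ a : F, a ≠ 0 ∧ a ≠ 1)) :
    commutator S = ⊤ := by
  suffices hle : ∀ r < D.nroots, ∀ t : F, y r t ∈ commutator S by
    rw [eq_top_iff, ← st.gen, Subgroup.closure_le]
    rintro _ ⟨r, t, hr, rfl⟩
    exact hle r hr t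
  rcases h with h | ⟨h, a, ha0, ha1⟩
  · simp only [Tabs.chkPerfAll, allR_iff] at h
    exact fun r hr t => st.derived_pairs hr (h r hr) t
  by_cases hc : ∃ c : F, c ≠ 0 ∧ c * c ≠ 1
  · obtain ⟨c, hc0, hc2⟩ := hc
    refine st.derived_of_simple fun i hi t => st.derived_scale (ok.toOK.smp_lt hi) hi hc0 ?_ t
    rw [(ok.toOK.smp_spec hi).2.1, zpow_two]
    exact hc2
  push Not at hc
  have hm1 : a = -1 := by
    rcases mul_self_eq_one_iff.mp (hc a ha0) with e | e
    · exact absurd e ha1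
    · exact e
  have h2 : (-1 : F) ≠ 1 := hm1 ▸ ha1
  have hodd : ∀ r < D.nroots, T.oddB D r = true → ∀ t : F, y r t ∈ commutator S := by
    intro r hr ho t
    simp only [Tabs.oddB, anyL_iff, upTo_eq, List.mem_range, Nat.beq_eq] at ho
    obtain ⟨i, hi, ho⟩ := ho
    refine st.derived_scale hr hi (neg_ne_zero.mpr one_ne_zero) ?_ t
    have : Odd (T.cA i r) := by
      rw [← Int.natAbs_odd]
      exact Nat.odd_iff.mpr ho
    rwa [this.neg_one_zpow]
  simp only [Tabs.chkPerfOdd, allR_iff, orR_iff] at h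
  intro r hr t
  rcases h r hr with ho | ho
  · exact hodd r hr ho t
  · exact st.derived_pairs2 hodd ho t

end StHyp

end Cfsg.Agent.Chev
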