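import Cfsg.Agent.Lib.Chev.StPres
import Cfsg.Agent.Lib.Chev.StPerf
import Mathlib.GroupTheory.Commutator.Basic

/-!
The group presented by the first two families of relations is universal among central extensions of the matrix group,
for data in which two roots have at most one root as a positive combination.

The certificates: every two roots have no commutator term or a single one with unit coefficient, whose root commutes with
both; for a representative root every commuting root is a commutator of roots commuting with it; the pairs with a given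
representative sum are connected by exchanges and by the Hall-Witt move.
-/

set_option autoImplicit false

namespace Cfsg.Agent.Chev

open Cfsg.Lie
open scoped commutatorElement

namespace Tabs

variable (D : ChevalleyDatum) (T : Tabs)

/-- A single term with a unit coefficient and exponents one, with a test on its root. -/
noncomputable def sglU (L : List (ℕ × ℤ × ℕ × ℕ)) (f : ℕ → Bool) : Bool :=
  @List.rec (ℕ × ℤ × ℕ × ℕ) (fun _ => Bool) false
    (fun q rest _ => andR (isNilR rest) (andR (orR (ieq q.2.1 1) (ieq q.2.1 (-1)))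
      (andR (Nat.beq q.2.2.1 1) (andR (Nat.beq q.2.2.2 1) (f q.1))))) L

theorem sglU_iff {L : List (ℕ × ℤ × ℕ × ℕ)} {f : ℕ → Bool} :
    sglU L f = true ↔ ∃ k c, (c = 1 ∨ c = -1) ∧ L = [(k, c, 1, 1)] ∧ f k = true := by
  rcases L with _ | ⟨⟨k, c, i, j⟩, rest⟩
  · exact iff_of_false (by simp [sglU]) (by simp)
  show andR (isNilR rest) (andR (orR (ieq c 1) (ieq c (-1)))
    (andR (Nat.beq i 1) (andR (Nat.beq j 1) (f k)))) = true ↔ _
  simp only [andR_iff, isNilR_iff, orR_iff, ieq_iff, Nat.beq_eq]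
  constructor
  · rintro ⟨rfl, hc, rfl, rfl, hf⟩
    exact ⟨k, c, hc, rfl, hf⟩
  · rintro ⟨k', c', hc, he, hf⟩
    simp only [List.cons.injEq, Prod.mk.injEq] at he
    obtain ⟨⟨rfl, rfl, rfl, rfl⟩, rfl⟩ := he
    exact ⟨rfl, hc, rfl, rfl, hf⟩

/-- The root elements commute. -/
noncomputable def uCom (r s : ℕ) : Bool :=
  orR (Nat.beq s r) (andR (isNilR (T.terms r s)) (notR (Nat.beq s (T.neg r))))

/-- The two roots are independent. -/
noncomputable def indB (r s : ℕ) : Bool := andR (notR (Nat.beq s r)) (notR (Nat.beq s (T.neg r)))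

/-- Two roots have no term or a single one, commuting with both. -/
noncomputable def uPair (r : ℕ) : Bool :=
  allR D.nroots fun s => orR (Nat.beq s r) <| orR (Nat.beq s (T.neg r)) <| orR (isNilR (T.terms r s))
    (sglU (T.terms r s) fun k => andR (nlt k D.nroots) (andR (T.uCom r k) (T.uCom s k)))

/-- Every root commuting with `r` is a commutator of roots commuting with `r`. -/
noncomputable def uComm (r : ℕ) : Bool :=
  allR D.nroots fun s => orR (notR (T.uCom r s)) <|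
    anyL (fun p =>
      @List.rec (ℕ × ℤ) (fun _ => Bool) false
        (fun q _ _ => andR (nlt q.1 D.nroots) <| andR (T.indB p q.1) <| andR (T.uCom r p) <| andR (T.uCom r q.1) <|
          sglU (T.terms p q.1) fun k => Nat.beq k s)
        (lookR s (T.chs D (T.neg p)))) (upTo D.nroots)

/-- The root of the first term. -/
noncomputable def hdU (L : List (ℕ × ℤ × ℕ × ℕ)) : ℕ :=
  @List.rec (ℕ × ℤ × ℕ × ℕ) (fun _ => ℕ) 0 (fun q _ _ => q.1) L

/-- A Hall-Witt move between two pairs with sum `w`. -/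
noncomputable def uMove (w a k b s : ℕ) : Bool :=
  andR (nlt a D.nroots) <| andR (nlt k D.nroots) <| andR (nlt b D.nroots) <| andR (nlt s D.nroots) <|
  andR (T.indB a k) <| andR (sglU (T.terms a k) fun x => Nat.beq x w) <|
  andR (T.indB a b) <| andR (T.indB b s) <| andR (sglU (T.terms b s) fun x => Nat.beq x k) <|
  andR (T.uCom a s) <|
  sglU (T.terms a b) fun r => andR (nlt r D.nroots) <| andR (T.indB r s) <| andR (T.uCom k r) <|
    sglU (T.terms r s) fun x => Nat.beq x w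

/-- The pair is in the list. -/
noncomputable def memP (a b : ℕ) (L : List (ℕ × ℕ)) : Bool :=
  anyL (fun p => andR (Nat.beq p.1 a) (Nat.beq p.2 b)) L

/-- All pairs with sum `w` are reached. -/
noncomputable def uReach (w : ℕ) (L : List (ℕ × ℕ × Option (ℕ × ℕ))) : List (ℕ × ℕ) → Bool :=
  @List.rec (ℕ × ℕ × Option (ℕ × ℕ)) (fun _ => List (ℕ × ℕ) → Bool)
    (fun seen => allR D.nroots fun a => allR D.nroots fun b =>
      orR (notR (Nat.beq (hdU (T.terms a b)) w)) (orR (isNilR (T.terms a b)) (memP a b seen)))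
    (fun e _ ih seen => andR (memP e.1 e.2.1 seen) <|
      @Option.rec (ℕ × ℕ) (fun _ => Bool)
        (andR (T.indB e.2.1 e.1) (ih ((e.2.1, e.1) :: seen)))
        (fun q => andR (T.uMove D w e.1 e.2.1 q.1 q.2) (ih ((hdU (T.terms e.1 q.1), q.2) :: seen))) e.2.2) L

/-- The certificate for one root: a first move, then the others. -/
noncomputable def uCert (c : (ℕ × ℕ × ℕ × ℕ × ℕ) × List (ℕ × ℕ × Option (ℕ × ℕ))) : Bool :=
  andR (T.uMove D c.1.1 c.1.2.1 c.1.2.2.1 c.1.2.2.2.1 c.1.2.2.2.2)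
    (T.uReach D c.1.1 c.2 [(c.1.2.1, c.1.2.2.1), (hdU (T.terms c.1.2.1 c.1.2.2.2.1), c.1.2.2.2.2)])

/-- All certificates. -/
noncomputable def chkUniv (C : List ((ℕ × ℕ × ℕ × ℕ × ℕ) × List (ℕ × ℕ × Option (ℕ × ℕ)))) : Bool :=
  andR (allR D.nroots fun r => T.uPair D r) <|
  allL (fun r => andR (T.uComm D r) (anyL (fun c => andR (Nat.beq c.1.1 r) (T.uCert D c)) C)) T.reps

end Tabs

variable {F : Type*} [Field F] {D : ChevalleyDatum} {T : Tabs}

namespace OK

variable (ok : OK D T)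

include ok

theorem comm_single {r s k : ℕ} {c : ℤ} (hr : r < D.nroots) (hs : s < D.nroots) (h1 : s ≠ r) (h2 : s ≠ T.neg r)
    (hq : T.terms r s = [(k, c, 1, 1)]) (a b : F) :
    ⁅ok.xG r a, ok.xG s b⁆ = ok.xG k ((c : F) * a * b) := by
  have key : ∀ t u : F, ok.xG s u * ok.xG r t = ok.xG r t * ok.xG s u * ok.xG k ((c : F) * (-t) * u) := by
    intro t u
    refine Units.ext ?_
    rw [Units.val_mul, Units.val_mul, Units.val_mul, coe_xG, coe_xG, coe_xG]
    have := ok.comm hr hs h1 (by rwa [ok.neg_eq hr]) t u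
    rw [this, ChevalleyDatum.commWord, ok.terms_eq hr hs, hq]
    simp [ChevalleyDatum.wordMat]
  have e : ok.xG k ((c : F) * (-(-a)) * (-b)) = ⁅ok.xG s b, ok.xG r a⁆ := by
    have h := congrArg (fun x => ok.xG s b * (ok.xG r a * x)) (key (-a) (-b))
    simp only [← ok.xG_inv r a, ← ok.xG_inv s b, mul_assoc, mul_inv_cancel_left] at h
    simp only [commutatorElement_def, mul_assoc]
    exact h.symm
  rw [← commutatorElement_inv, ← e, ok.xG_inv, neg_neg, mul_neg, neg_neg]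

theorem comm_nil {r s : ℕ} (hr : r < D.nroots) (hs : s < D.nroots) (h : T.uCom r s = true) (a b : F) :
    Commute (ok.xG r a) (ok.xG s b) := by
  simp only [Tabs.uCom, orR_iff, andR_iff, Nat.beq_eq, isNilR_iff, notR_iff, nbeq_false_iff] at h
  rcases h with rfl | ⟨h1, h2⟩
  · unfold Commute SemiconjBy
    rw [ok.xG_mul, ok.xG_mul, add_comm]
  by_cases e : s = r
  · subst e
    unfold Commute SemiconjBy
    rw [ok.xG_mul, ok.xG_mul, add_comm]
  refine (Commute.symm ?_)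
  refine Units.ext ?_
  rw [Units.val_mul, Units.val_mul, coe_xG, coe_xG]
  have := ok.comm hr hs e (by rwa [ok.neg_eq hr]) a b
  rw [this, ChevalleyDatum.commWord, ok.terms_eq hr hs, h1]
  simp [ChevalleyDatum.wordMat]

end OK

/-- A central extension, seen as a map to the matrices. -/
structure Lifts (ok : OKX D T) {Γ : Type*} [Group Γ] (ρ : Γ →* GL D.Idx F) : Prop where
  cen : ρ.ker ≤ Subgroup.center Γ
  lift : ∀ r < D.nroots, ∀ t : F, ∃ g, ρ g = ok.toOK.xG r t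

namespace Lifts

variable {ok : OKX D T} {Γ : Type*} [Group Γ] {ρ : Γ →* GL D.Idx F}

theorem center_factor (hl : Lifts ok ρ) {a a' : Γ} (h : ρ a = ρ a') :
    ∃ z ∈ Subgroup.center Γ, a = a' * z :=
  ⟨a'⁻¹ * a, hl.cen (by rw [MonoidHom.mem_ker, map_mul, map_inv, h, inv_mul_cancel]), by simp⟩

/-- A commutator only depends on the images. -/
theorem congr_comm (hl : Lifts ok ρ) {a a' b b' : Γ} (ha : ρ a = ρ a') (hb : ρ b = ρ b') : ⁅a, b⁆ = ⁅a', b'⁆ := by
  obtain ⟨z, hz, rfl⟩ := hl.center_factor ha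
  obtain ⟨y, hy, rfl⟩ := hl.center_factor hb
  rw [Subgroup.mem_center_iff] at hz hy
  simp only [commutatorElement_def, mul_inv_rev]
  calc a' * z * (b' * y) * (z⁻¹ * a'⁻¹) * (y⁻¹ * b'⁻¹)
      = a' * (z * ((b' * y) * z⁻¹)) * (a'⁻¹ * (y⁻¹ * b'⁻¹)) := by simp only [mul_assoc]
    _ = a' * (b' * y) * (a'⁻¹ * (y⁻¹ * b'⁻¹)) := by
        rw [← mul_assoc z, ← hz, mul_inv_cancel_right]
    _ = a' * b' * ((y * a'⁻¹) * y⁻¹) * b'⁻¹ := by simp only [mul_assoc]
    _ = _ := by rw [← hy, mul_inv_cancel_right]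

theorem conj_comm (g a b : Γ) : g * ⁅a, b⁆ * g⁻¹ = ⁅g * a * g⁻¹, g * b * g⁻¹⁆ := by
  simp [commutatorElement_def, mul_assoc]

/-- The lifts of the two roots commute. -/
def Com (ρ : Γ →* GL D.Idx F) (ok : OKX D T) (r s : ℕ) : Prop :=
  ∀ (g h : Γ) (t u : F), ρ g = ok.toOK.xG r t → ρ h = ok.toOK.xG s u → g * h = h * g

theorem com_rep (hl : Lifts ok ρ) {r : ℕ} (hr : r < D.nroots) (hc : T.uComm D r = true) {s : ℕ}
    (hs : s < D.nroots) (hrs : T.uCom r s = true) : Com ρ ok r s := by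
  intro g h t u hg hh
  simp only [Tabs.uComm, allR_iff, orR_iff, notR_iff, anyL_iff, upTo_eq, List.mem_range] at hc
  rcases hc s hs with e | ⟨p, hp, hc⟩
  · rw [hrs] at e; exact absurd e (by simp)
  revert hc
  generalize lookR s (T.chs D (T.neg p)) = L
  rcases L with _ | ⟨⟨q, c'⟩, L⟩
  · intro hc; exact absurd hc Bool.false_ne_true
  intro hc
  replace hc : andR (nlt q D.nroots) (andR (T.indB p q) (andR (T.uCom r p) (andR (T.uCom r q)
      (Tabs.sglU (T.terms p q) fun k => Nat.beq k s)))) = true := hc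
  simp only [andR_iff, nlt_iff, Tabs.indB, notR_iff, nbeq_false_iff, Tabs.sglU_iff, Nat.beq_eq] at hc
  obtain ⟨hq, ⟨h1, h2⟩, hrp, hrq, k, c, hc1, hterms, rfl⟩ := hc
  obtain ⟨gp, hgp⟩ := hl.lift p hp ((c : F) * u)
  obtain ⟨gq, hgq⟩ := hl.lift q hq 1
  have hcc : (c : F) * c = 1 := by rcases hc1 with rfl | rfl <;> simp
  have e : ρ ⁅gp, gq⁆ = ρ h := by
    rw [map_commutatorElement, hgp, hgq, hh, ok.toOK.comm_single hp hq h1 h2 hterms, mul_one, ← mul_assoc, hcc,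
      one_mul]
  obtain ⟨z, hz, rfl⟩ := hl.center_factor e.symm
  have hfix : ∀ x y : Γ, ρ x = ρ g → ρ g * ρ y = ρ y * ρ g → ρ (g * y * g⁻¹) = ρ y := by
    intro x y _ hxy
    rw [map_mul, map_mul, map_inv, hxy, mul_inv_cancel_right]
  have e2 : g * ⁅gp, gq⁆ * g⁻¹ = ⁅gp, gq⁆ := by
    rw [conj_comm]
    refine hl.congr_comm (hfix g gp rfl ?_) (hfix g gq rfl ?_)
    · rw [hg, hgp]; exact ok.toOK.comm_nil hr hp hrp _ _
    · rw [hg, hgq]; exact ok.toOK.comm_nil hr hq hrq _ _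
  rw [Subgroup.mem_center_iff] at hz
  rw [mul_inv_eq_iff_eq_mul] at e2
  rw [← mul_assoc, e2, mul_assoc, hz, ← mul_assoc]

/-- Induction along the order of the roots. -/
theorem order_induction {P : ℕ → Prop} (ok : OKX D T) (hrep : ∀ r ∈ T.reps, r < D.nroots → P r)
    (hstep : ∀ i c, i < D.rank → c < D.nroots → T.chkTransport D i c = true → P c → P (T.refl i c)) :
    ∀ r < D.nroots, P r := by
  suffices hh : ∀ (L : List (ℕ × Option (ℕ × ℕ))) (seen : List ℕ), T.chkOrder D L seen = true →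
      (∀ e ∈ L, e ∈ T.order) → (∀ a ∈ seen, a < D.nroots ∧ P a) → ∀ r < D.nroots, P r from
    hh T.order [] ok.toOK.order (fun _ => id) (by simp)
  intro L
  induction L with
  | nil =>
    intro seen hc _ hs a ha
    replace hc : allR D.nroots (fun r => anyL (fun s => Nat.beq s r) seen) = true := hc
    simp only [allR_iff, anyL_iff, Nat.beq_eq] at hc
    obtain ⟨b, hb, rfl⟩ := hc a ha
    exact (hs b hb).2
  | cons p L ih =>
    obtain ⟨a, o⟩ := p
    intro seen hc hL hs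
    replace hc : andR (nlt a D.nroots) (andR (@Option.rec (ℕ × ℕ) (fun _ => Bool) true
        (fun q => andR (nlt q.1 D.rank) <| andR (anyL (fun s => Nat.beq s q.2) seen) <|
          Nat.beq (T.refl q.1 q.2) a) o) (T.chkOrder D L (a :: seen))) = true := hc
    simp only [andR_iff, nlt_iff] at hc
    refine ih (a :: seen) hc.2.2 (fun e he => hL e (List.mem_cons_of_mem _ he)) ?_
    intro b hb
    rcases List.mem_cons.mp hb with rfl | hb
    swap
    · exact hs b hb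
    refine ⟨hc.1, ?_⟩
    rcases o with _ | ⟨i, c⟩
    · refine hrep b ?_ hc.1
      simp only [Tabs.reps, flatR_eq, List.mem_flatMap]
      exact ⟨_, hL _ List.mem_cons_self, List.mem_singleton.mpr rfl⟩
    · have h2 := hc.2.1
      simp only [andR_iff, nlt_iff, anyL_iff, Nat.beq_eq] at h2
      obtain ⟨hi, ⟨c', hc', rfl⟩, rfl⟩ := h2
      have hst := ok.toOK.steps
      simp only [Tabs.chkSteps, allL_iff] at hst
      exact hstep i c' hi (hs _ hc').1 (hst _ (hL _ List.mem_cons_self)) (hs _ hc').2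

/-- A lift of a fundamental monomial element. -/
theorem exists_nlift (hl : Lifts ok ρ) {i : ℕ} (hi : i < D.rank) :
    ∃ n : Γ, ρ n = ok.toOK.nG (T.smp i) 1 := by
  have hp := ok.toOK.smp_lt hi
  obtain ⟨a, ha⟩ := hl.lift _ hp 1
  obtain ⟨b, hb⟩ := hl.lift _ (ok.toOK.neg_lt hp) (-1⁻¹)
  exact ⟨a * b * a, by rw [map_mul, map_mul, ha, hb, ok.toOK.nG_eq hp]⟩

theorem transport_image (ok : OKX D T) {i x : ℕ} (hi : i < D.rank) (hx : x < D.nroots) {n g : Γ}
    (hn : ρ n = ok.toOK.nG (T.smp i) 1) {t : F} (hg : ρ g = ok.toOK.xG (T.refl i x) t) :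
    ρ (n⁻¹ * g * n) = ok.toOK.xG x ((T.eta i x : F) * t) := by
  have h := ok.toOK.n_xG hi hx ((T.eta i x : F) * t)
  rw [← mul_assoc, ok.toOK.eta_sq hi hx, one_mul, ← hg, ← hn] at h
  rw [map_mul, map_mul, map_inv, ← h]
  simp [mul_assoc]

theorem com_all (hl : Lifts ok ρ) (hu : ∀ r ∈ T.reps, T.uComm D r = true) :
    ∀ r < D.nroots, ∀ s < D.nroots, T.uCom r s = true → Com ρ ok r s := by
  refine order_induction ok (fun r hr hr' s hs h => hl.com_rep hr' (hu r hr) hs h) ?_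
  intro i c hi hc htr ih s hs hcs g h t u hg hh
  obtain ⟨n, hn⟩ := hl.exists_nlift hi
  have hs' := ok.toOK.refl_lt hi hs
  have hcs' : T.uCom c (T.refl i s) = true := by
    simp only [Tabs.uCom, orR_iff, andR_iff, Nat.beq_eq, isNilR_iff, notR_iff, nbeq_false_iff] at hcs ⊢
    rcases hcs with rfl | ⟨h1, h2⟩
    · left; exact ok.toOK.refl_refl hi hc
    right
    simp only [Tabs.chkTransport, allR_iff] at htr
    have e := eq_of_eqL eq_of_eqQ (htr _ hs')
    rw [ok.toOK.refl_refl hi hs, h1, mapR_eq] at e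
    refine ⟨List.map_eq_nil_iff.mp e.symm, fun e' => h2 ?_⟩
    rw [← ok.toOK.refl_refl hi hs, e', ok.toOK.refl_neg hi hc]
  have h1 := ih _ hs' hcs' (n⁻¹ * g * n) (n⁻¹ * h * n) _ _ (transport_image ok hi hc hn hg)
    (transport_image ok hi hs' hn (by rwa [ok.toOK.refl_refl hi hs]))
  have h2 := congrArg (fun x => n * x * n⁻¹) h1
  simpa [mul_assoc] using h2

/-- All commuting root elements lift to commuting elements. -/
def AllCom (ρ : Γ →* GL D.Idx F) (ok : OKX D T) : Prop :=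
  ∀ r < D.nroots, ∀ s < D.nroots, T.uCom r s = true → Com ρ ok r s

/-- The pair `a, b` has the single term `w`. -/
def PairU (D : ChevalleyDatum) (T : Tabs) (a b w : ℕ) : Prop :=
  a < D.nroots ∧ b < D.nroots ∧ b ≠ a ∧ b ≠ T.neg a ∧ ∃ c : ℤ, (c = 1 ∨ c = -1) ∧ T.terms a b = [(w, c, 1, 1)]

theorem pair_map {a b w : ℕ} (ok : OKX D T) (hp : PairU D T a b w) {g h : Γ} {t u : F}
    (hg : ρ g = ok.toOK.xG a t) (hh : ρ h = ok.toOK.xG b u) : ∃ v, ρ ⁅g, h⁆ = ok.toOK.xG w v := by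
  obtain ⟨ha, hb, h1, h2, c, -, hq⟩ := hp
  exact ⟨_, by rw [map_commutatorElement, hg, hh, ok.toOK.comm_single ha hb h1 h2 hq]⟩

theorem pair_add (_hl : Lifts ok ρ) (hK : AllCom ρ ok) {a b w : ℕ} (hp : PairU D T a b w) (hw : w < D.nroots)
    (hbw : T.uCom b w = true) {g h h' : Γ} {t u u' : F} (hg : ρ g = ok.toOK.xG a t) (hh : ρ h = ok.toOK.xG b u)
    (hh' : ρ h' = ok.toOK.xG b u') : ⁅g, h * h'⁆ = ⁅g, h⁆ * ⁅g, h'⁆ := by
  obtain ⟨v, hv⟩ := pair_map ok hp hg hh'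
  have hcomm := hK b hp.2.1 w hw hbw h ⁅g, h'⁆ u v hh hv
  have e : ⁅g, h * h'⁆ = ⁅g, h⁆ * (h * ⁅g, h'⁆ * h⁻¹) := by simp [commutatorElement_def, mul_assoc]
  rw [e, hcomm, mul_inv_cancel_right]

/-- The Hall-Witt identity in the case of commuting parameters. -/
theorem hall_witt {A B C : Γ} (h1 : ⁅A, C * B * C⁻¹⁆ = ⁅A, ⁅C, B⁆ * B⁆)
    (hAC : A * C = C * A) (hcom : ⁅C, B⁆ * ⁅A, B⁆ = ⁅A, B⁆ * ⁅C, B⁆) :
    ⁅⁅A, B⁆, C⁆ = ⁅A, ⁅C, B⁆⁆⁻¹ := by
  have e1 : C * ⁅A, B⁆ * C⁻¹ = ⁅A, ⁅C, B⁆⁆ * ⁅A, B⁆ := by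
    have e2 : ⁅A, ⁅C, B⁆ * B⁆ = ⁅A, ⁅C, B⁆⁆ * (⁅C, B⁆ * ⁅A, B⁆ * ⁅C, B⁆⁻¹) := by
      simp [commutatorElement_def, mul_assoc]
    rw [hcom, mul_inv_cancel_right] at e2
    rw [conj_comm, ← hAC, mul_inv_cancel_right, h1, e2]
  have e3 : ⁅⁅A, B⁆, C⁆ = ⁅A, B⁆ * (C * ⁅A, B⁆ * C⁻¹)⁻¹ := by simp [commutatorElement_def, mul_assoc]
  rw [e3, e1, mul_inv_rev, mul_inv_cancel_left]

/-- The move between the pairs `(a, k)` and `(r, s)`, with `r = a + b` and `k = b + s`. -/
theorem move_eq (hl : Lifts ok ρ) (hK : AllCom ρ ok) {w a k b s : ℕ} (hm : T.uMove D w a k b s = true)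
    (hw : w < D.nroots) (hkw : T.uCom k w = true) :
    PairU D T a k w ∧ PairU D T (Tabs.hdU (T.terms a b)) s w ∧ ∃ c₁ c₂ : F, c₁ * c₁ = 1 ∧ c₂ * c₂ = 1 ∧
      ∀ (x y z : F) (g h g' h' : Γ), ρ g = ok.toOK.xG (Tabs.hdU (T.terms a b)) (c₁ * x * y) →
        ρ h = ok.toOK.xG s z → ρ g' = ok.toOK.xG a x → ρ h' = ok.toOK.xG k (c₂ * y * z) →
        ⁅g, h⁆ = ⁅g', h'⁆ := by
  simp only [Tabs.uMove, andR_iff, nlt_iff, Tabs.indB, notR_iff, nbeq_false_iff, Tabs.sglU_iff, Nat.beq_eq] at hm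
  obtain ⟨ha, hk, hb, hs, ⟨hak1, hak2⟩, ⟨x3, c3, hc3, tak, hx3⟩, ⟨hab1, hab2⟩, ⟨hbs1, hbs2⟩,
    ⟨x2, c2, hc2, tbs, hx2⟩, has, r, c1, hc1, tab, hr, ⟨hrs1, hrs2⟩, hkr, x4, c4, hc4, trs, hx4⟩ := hm
  rw [hx3] at tak; rw [hx2] at tbs; rw [hx4] at trs
  have hr' : Tabs.hdU (T.terms a b) = r := by rw [tab]; rfl
  rw [hr']
  have hpak : PairU D T a k w := ⟨ha, hk, hak1, hak2, c3, hc3, tak⟩
  refine ⟨hpak, ⟨hr, hs, hrs1, hrs2, c4, hc4, trs⟩, (c1 : F), (c2 : F),
    by rcases hc1 with rfl | rfl <;> simp, by rcases hc2 with rfl | rfl <;> simp, ?_⟩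
  intro x y z g h g' h' hg hh hg' hh'
  obtain ⟨B, hB⟩ := hl.lift b hb y
  have hAB : ρ ⁅g', B⁆ = ok.toOK.xG r ((c1 : F) * x * y) := by
    rw [map_commutatorElement, hg', hB, ok.toOK.comm_single ha hb hab1 hab2 tab]
  have hCB : ρ ⁅h, B⁆ = ok.toOK.xG k (-((c2 : F) * y * z)) := by
    rw [← commutatorElement_inv B h, map_inv, map_commutatorElement, hB, hh,
      ok.toOK.comm_single hb hs hbs1 hbs2 tbs, ok.toOK.xG_inv]
  rw [hl.congr_comm (hg.trans hAB.symm) rfl]
  rw [hall_witt (A := g') (B := B) (C := h) (by congr 1; simp [commutatorElement_def, mul_assoc])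
    (hK a ha s hs has g' h x z hg' hh) (hK k hk r hr hkr ⁅h, B⁆ ⁅g', B⁆ _ _ hCB hAB)]
  have hadd := hl.pair_add hK hpak hw hkw hg' hCB hh'
  have hone : ⁅g', ⁅h, B⁆ * h'⁆ = 1 := by
    rw [hl.congr_comm (a' := g') (b' := 1) rfl ?_, commutatorElement_one_right]
    rw [map_mul, hCB, hh', ok.toOK.xG_mul, neg_add_cancel, ok.toOK.xG_zero, map_one]
  rw [hone] at hadd
  exact inv_eq_of_mul_eq_one_right hadd.symm

/-- The pairs with the sum `w` have their commutators in the range of `Y`. -/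
def GoodU (ρ : Γ →* GL D.Idx F) (ok : OKX D T) (Y : F → Γ) (a b : ℕ) : Prop :=
  ∀ (g h : Γ) (t u : F), ρ g = ok.toOK.xG a t → ρ h = ok.toOK.xG b u → ⁅g, h⁆ ∈ Set.range Y

/-- A root has a good family of lifts. -/
def Fam (ρ : Γ →* GL D.Idx F) (ok : OKX D T) (w : ℕ) : Prop :=
  ∃ Y : F → Γ, (∀ v, ρ (Y v) = ok.toOK.xG w v) ∧ (∀ v v', Y v * Y v' = Y (v + v')) ∧
    ∀ a b, PairU D T a b w → GoodU ρ ok Y a b

theorem com_of_pair (hu : ∀ r < D.nroots, T.uPair D r = true) {a b w : ℕ} (hp : PairU D T a b w) :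
    w < D.nroots ∧ T.uCom a w = true ∧ T.uCom b w = true := by
  obtain ⟨ha, hb, h1, h2, c, -, hq⟩ := hp
  have h := hu a ha
  simp only [Tabs.uPair, allR_iff, orR_iff, Nat.beq_eq, isNilR_iff, Tabs.sglU_iff, andR_iff, nlt_iff] at h
  rcases h b hb with e | e | e | ⟨k, c', -, hk, h'⟩
  · exact absurd e h1
  · exact absurd e h2
  · rw [e] at hq; simp at hq
  · rw [hk] at hq
    simp only [List.cons.injEq, Prod.mk.injEq, and_true] at hq
    rw [← hq.1]
    exact h'

theorem fam_rep (hl : Lifts ok ρ) (hK : AllCom ρ ok) (hu : ∀ r < D.nroots, T.uPair D r = true) {w : ℕ}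
    {C : (ℕ × ℕ × ℕ × ℕ × ℕ) × List (ℕ × ℕ × Option (ℕ × ℕ))} (hC : T.uCert D C = true) (hw : C.1.1 = w) :
    Fam ρ ok w := by
  obtain ⟨⟨w', a, k, b, s⟩, L⟩ := C
  subst hw
  replace hC : andR (T.uMove D w' a k b s) (T.uReach D w' L [(a, k), (Tabs.hdU (T.terms a b), s)]) = true := hC
  rw [andR_iff] at hC
  obtain ⟨hm, hreach⟩ := hC
  have hp : PairU D T a k w' := by
    have h := hm
    simp only [Tabs.uMove, andR_iff, nlt_iff, Tabs.indB, notR_iff, nbeq_false_iff, Tabs.sglU_iff, Nat.beq_eq] at h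
    obtain ⟨ha, hk, -, -, ⟨h1, h2⟩, ⟨x, c, hc, e, rfl⟩, -⟩ := h
    exact ⟨ha, hk, h1, h2, c, hc, e⟩
  obtain ⟨hwn, -, hkw⟩ := com_of_pair hu hp
  obtain ⟨-, hprs, c₁, c₂, hc₁, hc₂, hmv⟩ := hl.move_eq hK hm hwn hkw
  obtain ⟨ha, hk, hak1, hak2, c, hc, tak⟩ := id hp
  have hr := hprs.1
  have hs := hprs.2.1
  choose La hLa using hl.lift a ha
  choose Lk hLk using hl.lift k hk
  choose Lr hLr using hl.lift _ hr
  choose Ls hLs using hl.lift s hs
  have hcc : (c : F) * c = 1 := by rcases hc with rfl | rfl <;> simp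
  -- the product is all that matters
  have prod1 : ∀ t u : F, ⁅La t, Lk u⁆ = ⁅La 1, Lk (t * u)⁆ := by
    intro t u
    have e1 := hmv t 1 (c₂ * u) (Lr (c₁ * t * 1)) (Ls (c₂ * u)) (La t) (Lk u) (hLr _) (hLs _) (hLa t)
      (by rw [hLk, mul_one, ← mul_assoc, hc₂, one_mul])
    have e2 := hmv 1 t (c₂ * u) (Lr (c₁ * t * 1)) (Ls (c₂ * u)) (La 1) (Lk (t * u))
      (by rw [hLr]; congr 1; ring) (hLs _) (hLa 1)
      (by rw [hLk]; congr 1; linear_combination (norm := ring_nf) (t * u) * hc₂.symm)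
    exact e1.symm.trans e2
  let Y : F → Γ := fun v => ⁅La 1, Lk ((c : F) * v)⁆
  have hY : ∀ v, ρ (Y v) = ok.toOK.xG w' v := by
    intro v
    rw [map_commutatorElement, hLa, hLk, ok.toOK.comm_single ha hk hak1 hak2 tak, mul_one, ← mul_assoc, hcc, one_mul]
  have hadd : ∀ v v', Y v * Y v' = Y (v + v') := by
    intro v v'
    show ⁅La 1, Lk _⁆ * ⁅La 1, Lk _⁆ = ⁅La 1, Lk _⁆
    rw [← hl.pair_add hK hp hwn hkw (hLa 1) (hLk _) (hLk _)]
    refine hl.congr_comm rfl ?_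
    rw [map_mul, hLk, hLk, hLk, ok.toOK.xG_mul, mul_add]
  have hinv : ∀ v, (Y v)⁻¹ = Y (-v) := by
    intro v
    have h0 : Y 0 = 1 := by
      have := hadd 0 0
      rw [add_zero] at this
      exact mul_eq_left.mp this
    refine inv_eq_of_mul_eq_one_right ?_
    rw [hadd, add_neg_cancel, h0]
  have g1 : GoodU ρ ok Y a k := by
    intro g h t u hg hh
    refine ⟨(c : F) * (t * u), ?_⟩
    show ⁅La 1, Lk _⁆ = _
    rw [← mul_assoc, hcc, one_mul, ← prod1]
    exact hl.congr_comm ((hLa t).trans hg.symm) ((hLk u).trans hh.symm)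
  have gmove : ∀ a k b s, T.uMove D w' a k b s = true → GoodU ρ ok Y a k →
      GoodU ρ ok Y (Tabs.hdU (T.terms a b)) s := by
    intro a k b s hm' hg' g h t u hg hh
    have hp' : PairU D T a k w' := by
      have h := hm'
      simp only [Tabs.uMove, andR_iff, nlt_iff, Tabs.indB, notR_iff, nbeq_false_iff, Tabs.sglU_iff,
        Nat.beq_eq] at h
      obtain ⟨ha, hk, -, -, ⟨h1, h2⟩, ⟨x, c, hc, e, rfl⟩, -⟩ := h
      exact ⟨ha, hk, h1, h2, c, hc, e⟩
    obtain ⟨-, -, d₁, d₂, hd₁, hd₂, hmv'⟩ := hl.move_eq hK hm' hwn (com_of_pair hu hp').2.2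
    obtain ⟨g', hg''⟩ := hl.lift a hp'.1 (d₁ * t)
    obtain ⟨h', hh''⟩ := hl.lift k hp'.2.1 (d₂ * 1 * u)
    rw [hmv' (d₁ * t) 1 u g h g' h' (by rw [hg, mul_one, ← mul_assoc, hd₁, one_mul]) hh hg'' hh'']
    exact hg' g' h' _ _ hg'' hh''
  have gflip : ∀ a b, GoodU ρ ok Y a b → GoodU ρ ok Y b a := by
    intro a b hab g h t u hg hh
    obtain ⟨v, hv⟩ := hab h g u t hh hg
    exact ⟨-v, by rw [← hinv, hv, commutatorElement_inv]⟩
  refine ⟨Y, hY, hadd, ?_⟩
  suffices key : ∀ (L : List (ℕ × ℕ × Option (ℕ × ℕ))) (seen : List (ℕ × ℕ)), T.uReach D w' L seen = true →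
      (∀ p ∈ seen, GoodU ρ ok Y p.1 p.2) → ∀ a b, PairU D T a b w' → GoodU ρ ok Y a b from
    key L _ hreach (by simp [g1, gmove a k b s hm g1])
  intro L
  induction L with
  | nil =>
    intro seen hc hs a b hab
    replace hc : allR D.nroots (fun a => allR D.nroots fun b => orR (notR (Nat.beq (Tabs.hdU (T.terms a b)) w'))
      (orR (isNilR (T.terms a b)) (Tabs.memP a b seen))) = true := hc
    obtain ⟨ha', hb', -, -, c', -, hq⟩ := hab
    simp only [allR_iff, orR_iff, notR_iff, nbeq_false_iff, isNilR_iff, Tabs.memP, anyL_iff, andR_iff,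
      Nat.beq_eq] at hc
    rcases hc a ha' b hb' with e | e | ⟨⟨p1, p2⟩, hp', rfl, rfl⟩
    · exact absurd (show Tabs.hdU (T.terms a b) = w' by rw [hq]; rfl) e
    · rw [e] at hq; simp at hq
    · exact hs _ hp'
  | cons e L ih =>
    obtain ⟨x, y, o⟩ := e
    intro seen hc hs
    replace hc : andR (Tabs.memP x y seen) (@Option.rec (ℕ × ℕ) (fun _ => Bool)
        (andR (T.indB y x) (T.uReach D w' L ((y, x) :: seen)))
        (fun q => andR (T.uMove D w' x y q.1 q.2) (T.uReach D w' L ((Tabs.hdU (T.terms x q.1), q.2) :: seen)))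
        o) = true := hc
    simp only [andR_iff, Tabs.memP, anyL_iff, Nat.beq_eq] at hc
    obtain ⟨⟨⟨p1, p2⟩, hp', rfl, rfl⟩, hc⟩ := hc
    have hxy := hs _ hp'
    rcases o with _ | ⟨b', s'⟩
    · simp only [andR_iff] at hc
      exact ih _ hc.2 (List.forall_mem_cons.mpr ⟨gflip _ _ hxy, hs⟩)
    · simp only [andR_iff] at hc
      exact ih _ hc.2 (List.forall_mem_cons.mpr ⟨gmove _ _ _ _ hc.1 hxy, hs⟩)

theorem pair_transport (ok : OKX D T) (F : Type*) [Field F] (hu : ∀ r < D.nroots, T.uPair D r = true)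
    {i a b w : ℕ} (hi : i < D.rank) (hp : PairU D T a b w) (hw : w < D.nroots) :
    PairU D T (T.refl i a) (T.refl i b) (T.refl i w) := by
  obtain ⟨ha, hb, h1, h2, c, hc, hq⟩ := hp
  have ha' := ok.toOK.refl_lt hi ha
  have hb' := ok.toOK.refl_lt hi hb
  have e1 : T.refl i b ≠ T.refl i a := fun e => h1 (by
    rw [← ok.toOK.refl_refl hi hb, e, ok.toOK.refl_refl hi ha])
  have e2 : T.refl i b ≠ T.neg (T.refl i a) := fun e => h2 (by
    rw [← ok.toOK.refl_refl hi hb, e, ok.toOK.refl_neg hi ha', ok.toOK.refl_refl hi ha])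
  refine ⟨ha', hb', e1, e2, ?_⟩
  have hcc : ((c : F)) ≠ 0 := by rcases hc with rfl | rfl <;> simp
  have hcf := congrArg (fun x => ok.toOK.nG (F := F) (T.smp i) 1 * x * (ok.toOK.nG (T.smp i) 1)⁻¹)
    (ok.toOK.comm_single (F := F) ha hb h1 h2 hq (1 : F) 1)
  simp only [mul_one] at hcf
  rw [conj_comm, ok.toOK.n_xG hi ha, ok.toOK.n_xG hi hb, ok.toOK.n_xG hi hw] at hcf
  have hne : (T.eta i w : F) * c ≠ 0 := mul_ne_zero (left_ne_zero_of_mul_eq_one (ok.toOK.eta_sq hi hw)) hcc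
  have h := hu _ ha'
  simp only [Tabs.uPair, allR_iff, orR_iff, Nat.beq_eq, isNilR_iff, Tabs.sglU_iff, andR_iff, nlt_iff] at h
  rcases h _ hb' with e | e | e | ⟨k, c', hc', hk, hkn, -⟩
  · exact absurd e e1
  · exact absurd e e2
  · exfalso
    rw [commutatorElement_eq_one_iff_commute.mpr (ok.toOK.comm_nil ha' hb'
      (by simp [Tabs.uCom, e, nbeq_false_iff, e2]) _ _)] at hcf
    refine hne (ok.toOK.xG_right_inj (ok.toOK.refl_lt hi hw) ?_)
    rw [ok.toOK.xG_zero]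
    exact hcf.symm
  · refine ⟨c', hc', ?_⟩
    rw [ok.toOK.comm_single ha' hb' e1 e2 hk] at hcf
    rw [hk, ok.toOK.xG_eq_iff (ok.toOK.refl_lt hi hw) hkn hne hcf.symm]

theorem fam_all (hl : Lifts ok ρ) (hK : AllCom ρ ok) (hu : ∀ r < D.nroots, T.uPair D r = true)
    {C : List ((ℕ × ℕ × ℕ × ℕ × ℕ) × List (ℕ × ℕ × Option (ℕ × ℕ)))}
    (hC : ∀ r ∈ T.reps, anyL (fun c => andR (Nat.beq c.1.1 r) (T.uCert D c)) C = true) :
    ∀ w < D.nroots, Fam ρ ok w := by
  refine order_induction ok ?_ ?_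
  · intro r hr _
    have h := hC r hr
    simp only [anyL_iff, andR_iff, Nat.beq_eq] at h
    obtain ⟨c, -, hc1, hc2⟩ := h
    exact hl.fam_rep hK hu hc2 hc1
  intro i c hi hc _ ⟨Y, hY, hadd, hgood⟩
  obtain ⟨n, hn⟩ := hl.exists_nlift hi
  refine ⟨fun v => n * Y ((T.eta i c : F) * v) * n⁻¹, ?_, ?_, ?_⟩
  · intro v
    rw [map_mul, map_mul, map_inv, hY, hn, ok.toOK.n_xG hi hc, ← mul_assoc, ok.toOK.eta_sq hi hc, one_mul]
  · intro v v'
    show n * Y _ * n⁻¹ * (n * Y _ * n⁻¹) = n * Y _ * n⁻¹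
    rw [mul_add, ← hadd]
    simp [mul_assoc]
  intro a b hab g h t u hg hh
  obtain ⟨ha, hb, -⟩ := id hab
  have hp := pair_transport ok F hu hi hab (ok.toOK.refl_lt hi hc)
  rw [ok.toOK.refl_refl hi hc] at hp
  have ha' := ok.toOK.refl_lt hi ha
  have hb' := ok.toOK.refl_lt hi hb
  obtain ⟨v, hv⟩ := hgood _ _ hp (n⁻¹ * g * n) (n⁻¹ * h * n) _ _
    (transport_image ok hi ha' hn (by rwa [ok.toOK.refl_refl hi ha]))
    (transport_image ok hi hb' hn (by rwa [ok.toOK.refl_refl hi hb]))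
  refine ⟨(T.eta i c : F) * v, ?_⟩
  show n * Y _ * n⁻¹ = _
  rw [← mul_assoc (T.eta i c : F), ok.toOK.eta_sq hi hc, one_mul, hv, conj_comm]
  simp [mul_assoc]

/-- The universal property: the presented group maps to every central extension. -/
theorem exists_hom (hl : Lifts ok ρ) {C : List ((ℕ × ℕ × ℕ × ℕ × ℕ) × List (ℕ × ℕ × Option (ℕ × ℕ)))}
    (hu : T.chkUniv D C = true) : ∃ φ : D.SteinbergCover F →* Γ, ρ.comp φ = ok.scHom := by
  simp only [Tabs.chkUniv, andR_iff, allR_iff, allL_iff] at hu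
  obtain ⟨hp, hr⟩ := hu
  have hK : AllCom ρ ok := hl.com_all fun r h => (hr r h).1
  choose Y hY hadd hgood using hl.fam_all hK hp fun r h => (hr r h).2
  let f : Fin D.nroots × F → Γ := fun p => Y p.1 p.1.isLt p.2
  have hX : ∀ (r : ℕ) (hr : r < D.nroots) (t : F), FreeGroup.lift f (D.stX r t) = Y r hr t := by
    intro r hr t
    rw [ChevalleyDatum.stX, dif_pos hr, FreeGroup.lift_apply_of]
  have hinv : ∀ (r : ℕ) (hr : r < D.nroots) (t : F), (Y r hr t)⁻¹ = Y r hr (-t) := by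
    intro r hr t
    have h0 : Y r hr 0 = 1 := by
      have := hadd r hr 0 0
      rw [add_zero] at this
      exact mul_eq_left.mp this
    refine inv_eq_of_mul_eq_one_right ?_
    rw [hadd, add_neg_cancel, h0]
  have hrel : ∀ g ∈ D.steinbergRelsAB F, FreeGroup.lift f g = 1 := by
    rintro g (⟨r, a, b, hr, rfl⟩ | ⟨r, s, t, u, hr, hs, h1, h2, rfl⟩)
    · rw [map_mul, map_mul, map_inv, hX r hr, hX r hr, hX r hr, hadd, mul_inv_cancel]
    rw [ok.toOK.neg_eq hr] at h2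
    have hpr := hp r hr
    simp only [Tabs.uPair, allR_iff, orR_iff, Nat.beq_eq, isNilR_iff, Tabs.sglU_iff, andR_iff, nlt_iff] at hpr
    rcases hpr s hs with e | e | e | ⟨k, c, hc, hk, hkn, -⟩
    · exact absurd e h1
    · exact absurd e h2
    · have hcom := hK r hr s hs (by simp [Tabs.uCom, e, nbeq_false_iff, h2]) _ _ _ _ (hY r hr t) (hY s hs u)
      simp only [map_mul, map_inv, hX r hr, hX s hs, ChevalleyDatum.commWord, ok.toOK.terms_eq hr hs, e,
        List.map_nil, ChevalleyDatum.stWord, List.prod_nil, inv_one, mul_one]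
      rw [mul_assoc _ (Y s hs u), ← hcom]
      simp [mul_assoc]
    · obtain ⟨v, hv⟩ := hgood k hkn r s ⟨hr, hs, h1, h2, c, hc, hk⟩ _ _ _ _ (hY r hr (-t)) (hY s hs (-u))
      have e2 : -v = (c : F) * (-t) * u := by
        refine ok.toOK.xG_right_inj hkn ?_
        rw [← hY k hkn (-v), ← hinv k hkn v, hv, map_inv, map_commutatorElement, hY, hY,
          ok.toOK.comm_single hr hs h1 h2 hk, ok.toOK.xG_inv]
        congr 1
        ring
      simp only [map_mul, map_inv, hX r hr, hX s hs, ChevalleyDatum.commWord, ok.toOK.terms_eq hr hs, hk,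
        List.map_cons, List.map_nil, ChevalleyDatum.stWord, List.prod_cons, List.prod_nil, mul_one, pow_one,
        hX k hkn]
      rw [mul_inv_eq_one, ← e2, ← hinv k hkn v, hv, commutatorElement_inv, commutatorElement_def,
        hinv r hr, hinv s hs, hinv r hr, hinv s hs, neg_neg, neg_neg]
  refine ⟨PresentedGroup.toGroup hrel, PresentedGroup.ext fun p => ?_⟩
  rw [MonoidHom.comp_apply, PresentedGroup.toGroup.of]
  obtain ⟨⟨r, hr⟩, t⟩ := p
  rw [hY r hr t]
  have := ok.scHom_gen (F := F) hr t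
  rw [ChevalleyDatum.scGen, ChevalleyDatum.stX, dif_pos hr] at this
  exact this.symm

end Lifts

end Cfsg.Agent.Chev
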