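import Cfsg.Agent.Lib.Chev.ChevAutA
import Cfsg.Agent.Lib.Chev.StUniv
import Cfsg.Agent.Lib.Chev.RootPair

/-!
Automorphisms fixing both maximal unipotent subgroups on the fundamental root elements.
-/

set_option autoImplicit false

namespace Cfsg.Agent.Chev

open Cfsg.Lie

namespace Tabs

variable (D : ChevalleyDatum) (T : Tabs)

/-- A fundamental root and the negative of another have no commutator terms. -/
noncomputable def chkOpp : Bool :=
  allR D.rank fun i => allR D.rank fun j => orR (Nat.beq i j) (isNilR (T.terms (T.smp i) (T.neg (T.smp j))))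

end Tabs

variable {F : Type*} [Field F] {D : ChevalleyDatum} {T : Tabs} (ok : OKX D T)

namespace OKX

/-- A root element as an element of the group. -/
def el (r : ℕ) (t : F) : ↥(D.group F) := ⟨ok.toOK.xG r t, ok.toOK.xG_mem_group r t⟩

theorem coe_el (r : ℕ) (t : F) : (ok.el r t : GL D.Idx F) = ok.toOK.xG r t := rfl

theorem el_mem_root (r : ℕ) (t : F) : (ok.el r t : GL D.Idx F) ∈ D.rootSubgroup F r := ok.toOK.xG_mem_root r t

theorem el_add (r : ℕ) (t u : F) : ok.el r (t + u) = ok.el r t * ok.el r u :=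
  Subtype.ext (ok.toOK.xG_mul r t u).symm

theorem el_neg (r : ℕ) (t : F) : ok.el r (-t) = (ok.el r t)⁻¹ := Subtype.ext (ok.toOK.xG_inv r t).symm

theorem el_zero (r : ℕ) : ok.el r (0 : F) = 1 := Subtype.ext (ok.toOK.xG_zero r)

theorem el_inj {r : ℕ} (hr : r < D.nroots) {t u : F} (h : ok.el r t = ok.el r u) : t = u :=
  ok.toOK.xG_right_inj hr (congrArg Subtype.val h)

theorem mem_root_el {r : ℕ} {g : ↥(D.group F)} (h : (g : GL D.Idx F) ∈ D.rootSubgroup F r) : ∃ t, g = ok.el r t := by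
  obtain ⟨t, ht⟩ := ok.toOK.mem_root.mp h
  exact ⟨t, Subtype.ext ht⟩

/-- The group is generated by the root elements of the fundamental roots and their negatives. -/
theorem eq_of_simple {M : Type*} [Group M] {φ ψ : ↥(D.group F) →* M}
    (h : ∀ i < D.rank, ∀ t : F, φ (ok.el (T.smp i) t) = ψ (ok.el (T.smp i) t) ∧
      φ (ok.el (T.neg (T.smp i)) t) = ψ (ok.el (T.neg (T.smp i)) t)) : φ = ψ := by
  have hroot : ∀ r < D.nroots, ∀ t : F, φ (ok.el r t) = ψ (ok.el r t) := by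
    suffices hh : ∀ (L : List (ℕ × Option (ℕ × ℕ))) (seen : List ℕ), T.chkOrder D L seen = true →
        (∀ e ∈ L, e ∈ T.order) → (∀ a ∈ seen, a < D.nroots ∧ ∀ t : F, φ (ok.el a t) = ψ (ok.el a t)) →
        ∀ r < D.nroots, ∀ t : F, φ (ok.el r t) = ψ (ok.el r t) from
      hh T.order [] ok.toOK.order (fun _ => id) (by simp)
    intro L
    induction L with
    | nil =>
      intro seen hc _ hs a ha
      replace hc : allR D.nroots (fun r => anyL (fun s => Nat.beq s r) seen) = true := hc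
      simp only [allR_iff, anyL_iff, Nat.beq_eq] at hc
      obtain ⟨b, hb, rfl⟩ := hc a ha
      exact (hs b hb).2
    | cons p L ih =>
      obtain ⟨a, o⟩ := p
      intro seen hc hL hs
      replace hc : andR (nlt a D.nroots) (andR (@Option.rec (ℕ × ℕ) (fun _ => Bool) true
          (fun q => andR (nlt q.1 D.rank) <| andR (anyL (fun s => Nat.beq s q.2) seen) <|
            Nat.beq (T.refl q.1 q.2) a) o) (T.chkOrder D L (a :: seen))) = true := hc
      simp only [andR_iff, nlt_iff] at hc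
      refine ih (a :: seen) hc.2.2 (fun e he => hL e (List.mem_cons_of_mem _ he)) ?_
      intro b hb
      rcases List.mem_cons.mp hb with rfl | hb
      swap
      · exact hs b hb
      refine ⟨hc.1, fun t => ?_⟩
      rcases o with _ | ⟨i, c⟩
      · obtain ⟨i, hi, rfl⟩ := ok.toOK.rep_simple (r := b) (by
          simp only [Tabs.reps, flatR_eq, List.mem_flatMap]
          exact ⟨_, hL _ List.mem_cons_self, List.mem_singleton.mpr rfl⟩)
        exact (h i hi t).1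
      · have h2 := hc.2.1
        simp only [andR_iff, nlt_iff, anyL_iff, Nat.beq_eq] at h2
        obtain ⟨hi, ⟨c', hc', rfl⟩, rfl⟩ := h2
        obtain ⟨hcn, hcd⟩ := hs _ hc'
        have hp := ok.toOK.smp_lt hi
        have e : ok.el (T.refl i c') t =
            ok.el (T.smp i) 1 * ok.el (T.neg (T.smp i)) (-1⁻¹) * ok.el (T.smp i) 1 *
              ok.el c' ((T.eta i c' : F) * t) *
              (ok.el (T.smp i) 1 * ok.el (T.neg (T.smp i)) (-1⁻¹) * ok.el (T.smp i) 1)⁻¹ := by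
          refine Subtype.ext ?_
          simp only [Subgroup.coe_mul, Subgroup.coe_inv, coe_el]
          rw [← ok.toOK.nG_eq hp, ok.toOK.n_xG hi hcn, ← mul_assoc, ok.toOK.eta_sq hi hcn, one_mul]
        simp only [e, map_mul, map_inv, (h i hi _).1, (h i hi _).2, hcd]
  ext ⟨g, hg⟩
  have hle : D.group F ≤ (MonoidHom.eqLocus φ ψ).map (D.group F).subtype :=
    ok.toOK.group_le fun r hr t => ⟨_, hroot r hr t, rfl⟩
  obtain ⟨z, hz, e⟩ := hle hg
  obtain rfl : z = ⟨g, hg⟩ := Subtype.ext e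
  exact hz

include ok in
theorem hG_smp_xG {i s : ℕ} (hi : i < D.rank) (hs : s < D.nroots) {a : F} (ha : a ≠ 0) (t : F) :
    ok.toOK.hG (T.smp i) a * ok.toOK.xG s t * (ok.toOK.hG (T.smp i) a)⁻¹ = ok.toOK.xG s (a ^ T.cA i s * t) := by
  rw [ok.toOK.hG_eq_torG (ok.toOK.smp_lt hi) ha, ok.toOK.torG_xG (fun _ _ => zpow_ne_zero _ ha) hs]
  congr 2
  rw [Finset.prod_eq_single i]
  · rw [ok.toOK.cC_smp hi hi, if_pos rfl, zpow_one]
  · intro j hj hne
    rw [ok.toOK.cC_smp hi (Finset.mem_range.mp hj), if_neg hne, zpow_zero, one_zpow]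
  · intro h; exact absurd (Finset.mem_range.mpr hi) h

include ok in
theorem refl_fix_iff {i j : ℕ} (hi : i < D.rank) (hj : j < D.rank) (hne : j ≠ i) :
    T.refl i (T.smp j) = T.smp j ↔ T.cA i (T.smp j) = 0 := by
  have hs := ok.toOK.smp_lt hj
  have hp := ok.toOK.smp_lt hi
  have h := ok.toOK.refl_ok i hi _ hs
  simp only [Tabs.chkRefl, andR_iff, Nat.beq_eq, allR_iff, ieq_iff] at h
  constructor
  · intro e
    have h' := (h.2.2.2.2.2.2.2.2 i hi).1
    rw [e, (ok.toOK.smp_spec hi).2.1] at h'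
    omega
  · intro e
    rw [h.2.1, Tabs.reflT, if_neg (fun e' => hne (ok.smp_index hj hi e')),
      if_neg (ok.sgn_neg_ne (b := true) (StHyp.smp_sgn ok hi) (StHyp.smp_sgn ok hj))]
    simp [e]

/-- The root elements of a root and its negative do not commute. -/
theorem not_commute_neg {i : ℕ} (hi : i < D.rank) :
    ¬ ∀ t u : F, Commute (ok.toOK.xG (T.smp i) t) (ok.toOK.xG (T.neg (T.smp i)) u) := by
  intro h
  have hp := ok.toOK.smp_lt hi
  have e := ok.toOK.n_xG (F := F) hi hp 1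
  rw [(ok.toOK.smp_spec hi).2.2.1, ok.toOK.nG_eq hp] at e
  set x := ok.toOK.xG (T.smp i) (1 : F) with hx
  set y := ok.toOK.xG (T.neg (T.smp i)) (-(1 : F)⁻¹) with hy
  have hc : Commute (x * y * x) x :=
    ((Commute.refl x).mul_left (h 1 _).symm).mul_left (Commute.refl x)
  rw [hc.eq, mul_inv_cancel_right] at e
  exact ok.toOK.neg_ne hp (ok.toOK.xG_eq_iff hp (ok.toOK.neg_lt hp) one_ne_zero e).symm

/-- A negative root element normalising the positive root subgroup is trivial. -/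
theorem eq_zero_of_normalize {i : ℕ} (hi : i < D.rank) {d : F}
    (h : ∀ x ∈ D.rootSubgroup F (T.smp i),
      ok.toOK.xG (T.neg (T.smp i)) d * x * (ok.toOK.xG (T.neg (T.smp i)) d)⁻¹ ∈ D.rootSubgroup F (T.smp i)) :
    d = 0 := by
  by_contra hd
  have hp := ok.toOK.smp_lt hi
  have hn : ∀ x ∈ D.rootSubgroup F (T.smp i), ok.toOK.nG (T.smp i) (-d⁻¹) * x * (ok.toOK.nG (T.smp i) (-d⁻¹))⁻¹ ∈
      D.rootSubgroup F (T.smp i) := by
    intro x hx
    have e : ok.toOK.nG (T.smp i) (-d⁻¹) =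
        (ok.toOK.xG (T.smp i) d⁻¹)⁻¹ * ok.toOK.xG (T.neg (T.smp i)) d * (ok.toOK.xG (T.smp i) d⁻¹)⁻¹ := by
      rw [ok.n_eq_xGs hi hd]
      simp [mul_assoc]
    set z := ok.toOK.xG (T.smp i) d⁻¹
    have hz : z ∈ D.rootSubgroup F (T.smp i) := ok.toOK.xG_mem_root _ _
    have h1 := h _ (mul_mem (mul_mem (inv_mem hz) hx) hz)
    have h2 := mul_mem (mul_mem (inv_mem hz) h1) hz
    rw [e]
    simpa [mul_assoc] using h2
  obtain ⟨u, hu⟩ := ok.toOK.mem_root.mp (hn _ (ok.toOK.xG_mem_root _ 1))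
  have hA : ok.toOK.Act (ok.toOK.nG (T.smp i) (-d⁻¹)) (id ∘ T.refl i) := by
    rw [ok.toOK.nG_eq_hG_mul hp]
    exact (ok.toOK.act_diag (ok.toOK.hG_mem_diag hp (neg_ne_zero.mpr (inv_ne_zero hd)))).mul ok.toOK
      (ok.toOK.act_n hi)
  obtain ⟨a, ha, hc⟩ := hA.2.1 _ hp
  rw [(hc 1).1, Function.comp_apply, id, (ok.toOK.smp_spec hi).2.2.1] at hu
  exact ok.toOK.neg_ne hp (ok.toOK.xG_eq_iff (ok.toOK.neg_lt hp) hp (by simpa using ha) hu)

end OKX

/-- What an automorphism fixing both unipotent subgroups does on the fundamental root elements. -/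
structure SimpleSpec (ok : OKX D T) (φ : MulAut ↥(D.group F)) (σ : ℕ → ℕ) (f : ℕ → F → F) : Prop where
  lt : ∀ i < D.rank, σ i < D.rank
  inj : ∀ i < D.rank, ∀ j < D.rank, σ i = σ j → i = j
  adj : ∀ i < D.rank, ∀ j < D.rank, j ≠ i → T.cA i (T.smp j) = 0 → T.cA (σ i) (T.smp (σ j)) = 0
  add : ∀ i < D.rank, ∀ t u, f i (t + u) = f i t + f i u
  bij : ∀ i < D.rank, Function.Bijective (f i)
  pos : ∀ i < D.rank, ∀ t, φ (ok.el (T.smp i) t) = ok.el (T.smp (σ i)) (f i t)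
  neg : ∀ i < D.rank, ∀ t, φ (ok.el (T.neg (T.smp i)) t) = ok.el (T.neg (T.smp (σ i))) (f i t⁻¹)⁻¹
  tor : ∀ i < D.rank, ∀ j < D.rank, ∀ a, a ≠ 0 → ∀ t,
    f j (a ^ T.cA i (T.smp j) * t) = (f i a / f i 1) ^ T.cA (σ i) (T.smp (σ j)) * f j t

include ok in
theorem FixUV.exists_spec [Fintype F] {φ : MulAut ↥(D.group F)} (h : FixUV D φ) {w₀ : List ℕ} (hw₀ : T.chkLong D w₀ = true)
    (hopp : T.chkOpp D = true) : ∃ σ f, SimpleSpec ok φ σ f := by
  classical
  obtain ⟨σ, hσ⟩ := h.exists_perm ok hw₀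
  simp only [Tabs.chkLong, andR_iff, allL_iff, nlt_iff, allR_iff, orR_iff, notR_iff, anyL_iff, Tabs.piR_eq,
    upTo_eq, List.mem_range, Nat.beq_eq] at hw₀
  obtain ⟨hw, hlong', hsmp⟩ := hw₀
  have hlong : ∀ r < D.nroots, 0 < T.htf r → T.htf (piW T w₀ r) < 0 := by
    intro r hr h0
    rcases hlong' r hr with e | e
    · rw [ipos_iff.mpr h0] at e; exact absurd e (by simp)
    · have : (0 : ℤ) < -T.htf (piW T w₀ r) := ipos_iff.mp e
      omega
  set n₀ := ok.toOK.gW F w₀ with hn₀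
  have hA := ok.toOK.act_gW (F := F) w₀ hw
  have hn₀G : n₀ ∈ D.group F := ok.toOK.monomial_le_group
    (ok.toOK.mem_monomial.mpr ⟨1, one_mem _, w₀, hw, (one_mul _).symm⟩)
  choose ι hι hι' using hsmp
  have hιr : ∀ i (hi : i < D.rank), ∀ x : GL D.Idx F, x ∈ D.rootSubgroup F (T.smp i) ↔
      n₀ * x * n₀⁻¹ ∈ D.rootSubgroup F (T.neg (T.smp (ι i hi))) := by
    intro i hi x
    have e := ok.act_root_conj hA (ok.toOK.smp_lt hi)
    rw [hι' i hi] at e
    rw [← e]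
    constructor
    · exact fun h => ⟨x, h, rfl⟩
    · rintro ⟨y, hy, ey⟩
      exact (MulEquiv.injective _ ey) ▸ hy
  have hιinj : ∀ i (hi : i < D.rank) j (hj : j < D.rank), ι i hi = ι j hj → i = j := by
    intro i hi j hj e
    have h1 := (hιr j hj (ok.toOK.xG (T.smp i) 1)).mpr (by rw [← e]; exact (hιr i hi _).mp (ok.toOK.xG_mem_root _ _))
    obtain ⟨t, ht⟩ := ok.toOK.mem_root.mp h1
    exact ok.smp_index hi hj (ok.toOK.xG_eq_iff (ok.toOK.smp_lt hi) (ok.toOK.smp_lt hj) one_ne_zero ht)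
  have hιsurj : ∀ j < D.rank, ∃ i, ∃ hi : i < D.rank, ι i hi = j := by
    intro j hj
    obtain ⟨i, hi⟩ := Finite.surjective_of_injective (f := fun i : Fin D.rank => (⟨ι i i.isLt, hι i i.isLt⟩ :
      Fin D.rank)) (fun a b e => Fin.ext (hιinj a a.isLt b b.isLt (congrArg Fin.val e))) ⟨j, hj⟩
    exact ⟨i, i.isLt, congrArg Fin.val hi⟩
  -- positive roots, through the longest element
  let N : ↥(D.group F) := ⟨n₀, hn₀G⟩
  obtain ⟨n', -, hmap⟩ := ok.exists_conj_pos_neg (F := F)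
  have : Finite (GL D.Idx F) := Finite.of_injective _ Units.val_injective
  have hle : (D.posUnipotent F).map (MulAut.conj n₀).toMonoidHom ≤ D.negUnipotent F := by
    rintro _ ⟨y, hy, rfl⟩
    exact ok.pos_conj_neg hA hlong hy
  have hle' : (D.negUnipotent F).map (MulAut.conj n₀).toMonoidHom ≤ D.posUnipotent F := by
    rw [Subgroup.map_le_iff_le_comap, ChevalleyDatum.negUnipotent, Subgroup.closure_le]
    rintro g ⟨r, t, hr, hg⟩
    obtain ⟨hr1, hr2⟩ := ok.toOK.isNeg_iff.mp hr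
    obtain ⟨a, -, ha⟩ := hA.2.1 r hr1
    rw [ok.toOK.eq_xG hg, SetLike.mem_coe, Subgroup.mem_comap, MulEquiv.coe_toMonoidHom, MulAut.conj_apply, (ha t).1]
    have h1 := hlong (T.neg r) (ok.toOK.neg_lt hr1) (by rw [ok.toOK.ht_neg hr1]; omega)
    rw [ok.piW_neg hw hr1, ok.toOK.ht_neg (ok.piW_lt hw hr1)] at h1
    exact ok.toOK.xG_mem_pos (ok.toOK.isPos_iff.mpr ⟨ok.piW_lt hw hr1, by omega⟩) _
  have heq := Subgroup.eq_of_le_of_card_ge hle (by
    rw [← hmap, Subgroup.card_map_of_injective (MulEquiv.injective _),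
      Subgroup.card_map_of_injective (MulEquiv.injective _)])
  have heq' := Subgroup.eq_of_le_of_card_ge hle' (by
    rw [← hmap, Subgroup.card_map_of_injective (MulEquiv.injective _),
      Subgroup.card_map_of_injective (MulEquiv.injective _)])
  have hcU : ∀ x : GL D.Idx F, (n₀ * x * n₀⁻¹ ∈ D.negUnipotent F ↔ x ∈ D.posUnipotent F) ∧
      (n₀ * x * n₀⁻¹ ∈ D.posUnipotent F ↔ x ∈ D.negUnipotent F) := fun x =>
    ⟨⟨fun hx => by
        obtain ⟨y, hy, e⟩ := (heq.symm ▸ hx : n₀ * x * n₀⁻¹ ∈ (D.posUnipotent F).map (MulAut.conj n₀).toMonoidHom)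
        exact (MulEquiv.injective _ e) ▸ hy, fun hx => hle ⟨x, hx, rfl⟩⟩,
      ⟨fun hx => by
        obtain ⟨y, hy, e⟩ := (heq'.symm ▸ hx : n₀ * x * n₀⁻¹ ∈ (D.negUnipotent F).map (MulAut.conj n₀).toMonoidHom)
        exact (MulEquiv.injective _ e) ▸ hy, fun hx => hle' ⟨x, hx, rfl⟩⟩⟩
  let ψ : MulAut ↥(D.group F) := MulAut.conj N * φ * (MulAut.conj N)⁻¹
  have hψ : FixUV D ψ := by
    intro g
    have e : (ψ g : GL D.Idx F) = n₀ * (φ (N⁻¹ * g * N) : GL D.Idx F) * n₀⁻¹ := by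
      simp [ψ, N, MulAut.conj_symm_apply, mul_assoc]
    have e' : (g : GL D.Idx F) = n₀ * ((N⁻¹ * g * N : ↥(D.group F)) : GL D.Idx F) * n₀⁻¹ := by simp [N, mul_assoc]
    rw [e, e', (hcU _).1, (hcU _).2, (hcU _).1, (hcU _).2]
    exact ⟨(h _).2, (h _).1⟩
  obtain ⟨σ', hσ'⟩ := hψ.exists_perm ok (w₀ := w₀) (by
    simp only [Tabs.chkLong, andR_iff, allL_iff, nlt_iff, allR_iff, orR_iff, notR_iff, anyL_iff, Tabs.piR_eq,
      upTo_eq, List.mem_range, Nat.beq_eq]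
    exact ⟨hw, hlong', fun i hi => ⟨ι i hi, hι i hi, hι' i hi⟩⟩)
  have hτex : ∀ i < D.rank, ∃ j < D.rank, RootTo D φ (T.smp i) (T.smp j) := by
    intro i hi
    obtain ⟨h1, h2⟩ := hσ' (ι i hi) (hι i hi)
    obtain ⟨j, hj, hj'⟩ := hιsurj _ h1
    refine ⟨j, hj, fun g => ?_⟩
    have h3 := h2 (N * g * N⁻¹)
    rw [hιr j hj, hj', hιr i hi, show (N * g * N⁻¹ : ↥(D.group F)) = MulAut.conj N g from rfl] at *
    simpa [ψ, N, mul_assoc] using h3
  choose τ hτ hτ' using hτex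
  choose f hf using fun i (hi : i < D.rank) (t : F) => ok.mem_root_el (((hτ' i hi) _).mpr (ok.el_mem_root (T.smp i) t))
  choose g hg using fun i (hi : i < D.rank) (t : F) =>
    ok.mem_root_el ((((hσ i hi).2) _).mpr (ok.el_mem_root (T.neg (T.smp i)) t))
  have hsurjf : ∀ i (hi : i < D.rank), Function.Surjective (f i hi) := by
    intro i hi u
    obtain ⟨x, hx⟩ := φ.surjective (ok.el (T.smp (τ i hi)) u)
    obtain ⟨t, rfl⟩ := ok.mem_root_el (((hτ' i hi) x).mp (by rw [hx]; exact ok.el_mem_root _ _))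
    exact ⟨t, ok.el_inj (ok.toOK.smp_lt (hτ i hi)) (by rw [← hf, hx])⟩
  have hsurjg : ∀ i (hi : i < D.rank), Function.Surjective (g i hi) := by
    intro i hi u
    obtain ⟨x, hx⟩ := φ.surjective (ok.el (T.neg (T.smp (σ i))) u)
    obtain ⟨t, rfl⟩ := ok.mem_root_el (((hσ i hi).2 x).mp (by rw [hx]; exact ok.el_mem_root _ _))
    exact ⟨t, ok.el_inj (ok.toOK.neg_lt (ok.toOK.smp_lt (hσ i hi).1)) (by rw [← hg, hx])⟩
  simp only [Tabs.chkOpp, allR_iff, orR_iff, Nat.beq_eq, isNilR_iff] at hopp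
  have hτσ : ∀ i (hi : i < D.rank), τ i hi = σ i := by
    intro i hi
    by_contra hne
    refine ok.not_commute_neg (F := F) hi fun t u => ?_
    suffices hc : Commute (ok.el (T.smp i) t) (ok.el (T.neg (T.smp i)) u) from congrArg Subtype.val hc.eq
    refine φ.injective ?_
    rw [map_mul, map_mul, hf i hi t, hg i hi u]
    refine Subtype.ext ?_
    exact ok.toOK.comm_nil (ok.toOK.smp_lt (hτ i hi)) (ok.toOK.neg_lt (ok.toOK.smp_lt (hσ i hi).1)) (by
      simp only [Tabs.uCom, orR_iff, andR_iff, Nat.beq_eq, isNilR_iff, notR_iff, nbeq_false_iff]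
      refine Or.inr ⟨(hopp _ (hτ i hi) _ (hσ i hi).1).resolve_left hne, fun e => hne ?_⟩
      refine (ok.smp_index (hσ i hi).1 (hτ i hi) ?_).symm
      rw [← ok.toOK.neg_neg' (ok.toOK.smp_lt (hσ i hi).1), e, ok.toOK.neg_neg' (ok.toOK.smp_lt (hτ i hi))]) _ _
  let F' : ℕ → F → F := fun i => if hi : i < D.rank then f i hi else id
  have hpos : ∀ i < D.rank, ∀ t, φ (ok.el (T.smp i) t) = ok.el (T.smp (σ i)) (F' i t) := by
    intro i hi t
    simp only [F', dif_pos hi]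
    rw [hf i hi t, hτσ i hi]
  have hadd : ∀ i < D.rank, ∀ t u, F' i (t + u) = F' i t + F' i u := by
    intro i hi t u
    refine ok.el_inj (ok.toOK.smp_lt (hσ i hi).1) ?_
    rw [← hpos i hi, ok.el_add, map_mul, hpos i hi, hpos i hi, ← ok.el_add]
  have hbij : ∀ i < D.rank, Function.Bijective (F' i) := by
    intro i hi
    simp only [F', dif_pos hi]
    exact ((Finite.surjective_iff_bijective).mp (hsurjf i hi))
  have h0 : ∀ i < D.rank, F' i 0 = 0 := fun i hi => by simpa using hadd i hi 0 0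
  have hne : ∀ i < D.rank, ∀ t, t ≠ 0 → F' i t ≠ 0 := fun i hi t ht e =>
    ht ((hbij i hi).1 (e.trans (h0 i hi).symm))
  have hFneg : ∀ i < D.rank, ∀ t, F' i (-t) = -F' i t := fun i hi t => by
    rw [eq_neg_iff_add_eq_zero, ← hadd i hi, neg_add_cancel, h0 i hi]
  -- the monomial elements
  let nE : ℕ → F → ↥(D.group F) := fun i a =>
    ok.el (T.smp i) a * ok.el (T.neg (T.smp i)) (-a⁻¹) * ok.el (T.smp i) a
  have hnE : ∀ i < D.rank, ∀ a, (nE i a : GL D.Idx F) = ok.toOK.nG (T.smp i) a := by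
    intro i hi a
    rw [ok.toOK.nG_eq (ok.toOK.smp_lt hi)]
    rfl
  have hnconj : ∀ i < D.rank, ∀ a, a ≠ 0 → ∀ x, ok.toOK.nG (T.smp i) a * x * (ok.toOK.nG (T.smp i) a)⁻¹ ∈
      D.rootSubgroup F (T.neg (T.smp i)) ↔ x ∈ D.rootSubgroup F (T.smp i) := by
    intro i hi a ha x
    have hp := ok.toOK.smp_lt hi
    have hA : ok.toOK.Act (ok.toOK.nG (T.smp i) a) (id ∘ T.refl i) := by
      rw [ok.toOK.nG_eq_hG_mul hp]
      exact (ok.toOK.act_diag (ok.toOK.hG_mem_diag hp ha)).mul ok.toOK (ok.toOK.act_n hi)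
    have e := ok.act_root_conj hA hp
    rw [Function.comp_apply, id, (ok.toOK.smp_spec hi).2.2.1] at e
    rw [← e]
    constructor
    · rintro ⟨y, hy, ey⟩
      exact (MulEquiv.injective _ ey) ▸ hy
    · exact fun h => ⟨x, h, rfl⟩
  have hgval : ∀ i (hi : i < D.rank), ∀ t, g i hi t = (F' i t⁻¹)⁻¹ := by
    intro i hi t
    by_cases ht : t = 0
    · subst ht
      refine ok.el_inj (ok.toOK.neg_lt (ok.toOK.smp_lt (hσ i hi).1)) ?_
      rw [← hg, ok.el_zero, map_one, inv_zero, h0 i hi, inv_zero, ok.el_zero]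
    obtain ⟨a, rfl⟩ : ∃ a, t = -a⁻¹ := ⟨-t⁻¹, by rw [inv_neg, inv_inv, neg_neg]⟩
    have ha : a ≠ 0 := fun e => ht (by rw [e, inv_zero, neg_zero])
    have hs := (hσ i hi).1
    set u := F' i a
    have hu : u ≠ 0 := hne i hi a ha
    set v := g i hi (-a⁻¹)
    have him : φ (nE i a) = ok.el (T.smp (σ i)) u * ok.el (T.neg (T.smp (σ i))) v * ok.el (T.smp (σ i)) u := by
      simp only [nE, map_mul, hpos i hi, hg i hi]
      rfl
    have hiff : ∀ x : ↥(D.group F), ((φ (nE i a) * x * (φ (nE i a))⁻¹ : ↥(D.group F)) : GL D.Idx F) ∈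
        D.rootSubgroup F (T.neg (T.smp (σ i))) ↔ (x : GL D.Idx F) ∈ D.rootSubgroup F (T.smp (σ i)) := by
      intro x
      obtain ⟨y, rfl⟩ := φ.surjective x
      rw [← map_inv, ← map_mul, ← map_mul, (hσ i hi).2, ← hτσ i hi, hτ' i hi, Subgroup.coe_mul, Subgroup.coe_mul,
        Subgroup.coe_inv, hnE i hi, hnconj i hi a ha]
    suffices e : v - -u⁻¹ = 0 by
      rw [sub_eq_zero.mp e, inv_neg, inv_inv, hFneg i hi, inv_neg]
    refine ok.eq_zero_of_normalize hs fun x hx => ?_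
    have hp := ok.toOK.smp_lt hs
    set A := ok.toOK.xG (T.smp (σ i)) u with hA'
    set Bv := ok.toOK.xG (T.neg (T.smp (σ i))) v with hBv
    set B0 := ok.toOK.xG (T.neg (T.smp (σ i))) (-u⁻¹) with hB0
    have hAm : A ∈ D.rootSubgroup F (T.smp (σ i)) := ok.toOK.xG_mem_root _ _
    rw [sub_eq_add_neg, add_comm, ← ok.toOK.xG_mul, ← ok.toOK.xG_inv, ← hBv, ← hB0]
    set y := (B0⁻¹ * Bv) * x * (B0⁻¹ * Bv)⁻¹ with hy
    have hxG : A⁻¹ * x * A ∈ D.rootSubgroup F (T.smp (σ i)) := mul_mem (mul_mem (inv_mem hAm) hx) hAm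
    have hxG' : A⁻¹ * x * A ∈ D.group F := by
      obtain ⟨c, hc⟩ := ok.toOK.mem_root.mp hxG
      rw [hc]; exact ok.toOK.xG_mem_group _ _
    have h1 := (hiff ⟨_, hxG'⟩).mpr hxG
    rw [him, Subgroup.coe_mul, Subgroup.coe_mul, Subgroup.coe_inv] at h1
    simp only [Subgroup.coe_mul, OKX.coe_el, ← hA', ← hBv] at h1
    have e1 : (A * Bv * A) * (A⁻¹ * x * A) * (A * Bv * A)⁻¹ =
        ok.toOK.nG (T.smp (σ i)) u * (A⁻¹ * y * A) * (ok.toOK.nG (T.smp (σ i)) u)⁻¹ := by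
      rw [ok.toOK.nG_eq hp, ← hA', ← hB0, hy]
      simp [mul_assoc]
    rw [e1, hnconj _ hs u hu] at h1
    have h2 := mul_mem (mul_mem hAm h1) (inv_mem hAm)
    simpa [mul_assoc] using h2
  have hneg : ∀ i < D.rank, ∀ t, φ (ok.el (T.neg (T.smp i)) t) = ok.el (T.neg (T.smp (σ i))) (F' i t⁻¹)⁻¹ :=
    fun i hi t => by rw [hg i hi t, hgval i hi t]
  have hσinj : ∀ i < D.rank, ∀ j < D.rank, σ i = σ j → i = j := by
    intro i hi j hj e
    obtain ⟨u, hu⟩ := (hbij i hi).2 (F' j 1)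
    have h1 : φ (ok.el (T.smp i) u) = φ (ok.el (T.smp j) 1) := by rw [hpos i hi, hpos j hj, hu, e]
    exact ok.smp_index hi hj (ok.toOK.xG_eq_iff (ok.toOK.smp_lt hj) (ok.toOK.smp_lt hi) one_ne_zero
      (congrArg Subtype.val (φ.injective h1)).symm).symm
  have hnimg : ∀ i < D.rank, ∀ a, (φ (nE i a) : GL D.Idx F) = ok.toOK.nG (T.smp (σ i)) (F' i a) := by
    intro i hi a
    rw [ok.toOK.nG_eq (ok.toOK.smp_lt (hσ i hi).1)]
    simp only [nE, map_mul, hpos i hi, hneg i hi, Subgroup.coe_mul, OKX.coe_el, inv_neg, inv_inv, hFneg i hi]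
  refine ⟨σ, F', fun i hi => (hσ i hi).1, hσinj, ?_, hadd, hbij, hpos, hneg, ?_⟩
  · intro i hi j hj hij hA0
    have hs := (hσ i hi).1
    have ht := (hσ j hj).1
    rw [← ok.refl_fix_iff hs ht fun e => hij (hσinj j hj i hi e)]
    rw [← ok.refl_fix_iff hi hj hij] at hA0
    obtain ⟨c, -, hc⟩ := (ok.toOK.act_n (F := F) hi).2.1 _ (ok.toOK.smp_lt hj)
    rw [hA0] at hc
    have e := congrArg (fun z : ↥(D.group F) => (φ z : GL D.Idx F))
      (show nE i 1 * ok.el (T.smp j) 1 * (nE i 1)⁻¹ = ok.el (T.smp j) (c * 1) from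
        Subtype.ext (by simp only [Subgroup.coe_mul, Subgroup.coe_inv, OKX.coe_el, hnE i hi]; exact (hc 1).1))
    simp only [map_mul, map_inv, Subgroup.coe_mul, Subgroup.coe_inv, hpos j hj, OKX.coe_el, hnimg i hi] at e
    have hA2 : ok.toOK.Act (ok.toOK.nG (T.smp (σ i)) (F' i 1)) (id ∘ T.refl (σ i)) := by
      rw [ok.toOK.nG_eq_hG_mul (ok.toOK.smp_lt hs)]
      exact (ok.toOK.act_diag (ok.toOK.hG_mem_diag (ok.toOK.smp_lt hs) (hne i hi 1 one_ne_zero))).mul ok.toOK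
        (ok.toOK.act_n hs)
    obtain ⟨d, hd, hd'⟩ := hA2.2.1 _ (ok.toOK.smp_lt ht)
    rw [(hd' _).1] at e
    exact ok.toOK.xG_eq_iff (ok.toOK.refl_lt hs (ok.toOK.smp_lt ht)) (ok.toOK.smp_lt ht)
      (mul_ne_zero hd (hne j hj 1 one_ne_zero)) e
  · intro i hi j hj a ha t
    have hs := (hσ i hi).1
    have ht := (hσ j hj).1
    have hp := ok.toOK.smp_lt hs
    have hb : F' i a / F' i 1 ≠ 0 := div_ne_zero (hne i hi a ha) (hne i hi 1 one_ne_zero)
    have hh : ∀ (k : ℕ), k < D.nroots → ∀ b c : F, b ≠ 0 → c ≠ 0 →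
        ok.toOK.nG k b * (ok.toOK.nG k c)⁻¹ = ok.toOK.hG k (b / c) := by
      intro k hk b c hb hc
      rw [ok.toOK.nG_eq_hG_mul hk b, ok.toOK.nG_eq_hG_mul hk c, mul_inv_rev, mul_assoc, mul_inv_cancel_left,
        ok.toOK.hG_inv hk hc, ok.toOK.hG_mul hk hb (inv_ne_zero hc), div_eq_mul_inv]
    set z := nE i a * (nE i 1)⁻¹ with hz
    have hzv : (z : GL D.Idx F) = ok.toOK.hG (T.smp i) a := by
      rw [hz, Subgroup.coe_mul, Subgroup.coe_inv, hnE i hi, hnE i hi, hh _ (ok.toOK.smp_lt hi) a 1 ha one_ne_zero,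
        div_one]
    have hzi : (φ z : GL D.Idx F) = ok.toOK.hG (T.smp (σ i)) (F' i a / F' i 1) := by
      rw [hz, map_mul, map_inv, Subgroup.coe_mul, Subgroup.coe_inv, hnimg i hi, hnimg i hi,
        hh _ hp _ _ (hne i hi a ha) (hne i hi 1 one_ne_zero)]
    have e := congrArg (fun w : ↥(D.group F) => (φ w : GL D.Idx F))
      (show z * ok.el (T.smp j) t * z⁻¹ = ok.el (T.smp j) (a ^ T.cA i (T.smp j) * t) from
        Subtype.ext (by
          simp only [Subgroup.coe_mul, Subgroup.coe_inv, OKX.coe_el, hzv]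
          exact ok.hG_smp_xG hi (ok.toOK.smp_lt hj) ha t))
    simp only [map_mul, map_inv, Subgroup.coe_mul, Subgroup.coe_inv, hpos j hj, OKX.coe_el, hzi,
      ok.hG_smp_xG hs (ok.toOK.smp_lt ht) hb] at e
    exact (ok.toOK.xG_right_inj (ok.toOK.smp_lt ht) e).symm

end Cfsg.Agent.Chev
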