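import Cfsg.Agent.Lib.Chev.ChevAutB

/-!
Automorphisms fixing both maximal unipotent subgroups: the permutation is a symmetry from a checked list, and the
field maps are powers of one field automorphism, up to scalars.
-/

set_option autoImplicit false

namespace Cfsg.Agent.Chev

open Cfsg.Lie

namespace Tabs

variable (D : ChevalleyDatum) (T : Tabs)

/-- The next image is new and keeps non-adjacent fundamental roots non-adjacent. -/
noncomputable def okNext (pre : List ℕ) (v : ℕ) : Bool :=
  !(pre.contains v) && (List.range pre.length).all fun a =>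
    !(T.cA a (T.smp pre.length) == 0) || T.cA (pre.getD a 0) (T.smp v) == 0

/-- Every completion is one of the listed symmetries. -/
noncomputable def chkSyms (S : List (List ℕ)) (n : ℕ) : List ℕ → Bool :=
  @Nat.rec (fun _ => List ℕ → Bool) (fun pre => S.contains pre)
    (fun _ ih pre => (List.range D.rank).all fun v => !(T.okNext pre v) || ih (pre ++ [v])) n

/-- An edge `(i, j)` with the exponents matching. -/
noncomputable def edgeE (s e : List ℕ) (i j : ℕ) : Bool :=
  let m := (-(T.cA (s.getD i 0) (T.smp (s.getD j 0)))).toNat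
  T.cA i (T.smp j) == -1 && T.cA (s.getD i 0) (T.smp (s.getD j 0)) == -(m : ℤ) && decide (0 < m) &&
    e.getD j 1 == e.getD i 1 * m

/-- The edges reach every node. -/
noncomputable def chkSpanE (s e : List ℕ) (L : List (ℕ × ℕ)) : List ℕ → Bool :=
  @List.rec (ℕ × ℕ) (fun _ => List ℕ → Bool) (fun seen => (List.range D.rank).all fun i => seen.contains i)
    (fun q _ ih seen => decide (q.1 < D.rank) && decide (q.2 < D.rank) && seen.contains q.2 &&
      (T.edgeE s e q.2 q.1 || T.edgeE s e q.1 q.2) && ih (q.1 :: seen)) L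

/-- The listed symmetries with their exponents are all, and each has one field map. -/
noncomputable def chkAutS (S : List (List ℕ × List ℕ)) (r₀ : ℕ) (L : List (ℕ × ℕ)) : Bool :=
  decide (r₀ < D.rank) && !L.isEmpty && T.chkSyms D (S.map Prod.fst) D.rank [] &&
    S.all fun x => x.2.getD r₀ 1 == 1 && T.chkSpanE D x.1 x.2 L [r₀]

end Tabs

variable {F : Type*} [Field F] {D : ChevalleyDatum} {T : Tabs} {ok : OKX D T}
variable {φ : MulAut ↥(D.group F)} {σ : ℕ → ℕ} {f : ℕ → F → F}

namespace SimpleSpec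

variable (h : SimpleSpec ok φ σ f)

include h

theorem map_zero {i : ℕ} (hi : i < D.rank) : f i 0 = 0 := by simpa using h.add i hi 0 0

theorem one_ne {i : ℕ} (hi : i < D.rank) : f i 1 ≠ 0 := fun e =>
  one_ne_zero ((h.bij i hi).1 (e.trans (h.map_zero hi).symm))

theorem sym_mem {S : List (List ℕ)} : ∀ (n k : ℕ), k + n = D.rank →
    T.chkSyms D S n ((List.range k).map σ) = true → (List.range D.rank).map σ ∈ S := by
  intro n
  induction n with
  | zero =>
    intro k hk hc
    rw [← hk, Nat.add_zero]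
    exact List.contains_iff_mem.mp hc
  | succ n ih =>
    intro k hk hc
    replace hc : ((List.range D.rank).all fun v => !(T.okNext ((List.range k).map σ) v) ||
        T.chkSyms D S n ((List.range k).map σ ++ [v])) = true := hc
    have hk' : k < D.rank := by omega
    simp only [List.all_eq_true, List.mem_range, Bool.or_eq_true, Bool.not_eq_true'] at hc
    refine ih (k + 1) (by omega) ?_
    rw [List.range_succ, List.map_append]
    refine (hc (σ k) (h.lt k hk')).resolve_left ?_
    simp only [Tabs.okNext, Bool.not_eq_false, Bool.and_eq_true, Bool.not_eq_true', List.all_eq_true,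
      List.mem_range, List.length_map, List.length_range, Bool.or_eq_true, beq_iff_eq, beq_eq_false_iff_ne]
    refine ⟨?_, fun a ha => ?_⟩
    · rw [Bool.eq_false_iff, ne_eq, List.contains_iff_mem, List.mem_map]
      rintro ⟨a, ha, e⟩
      rw [List.mem_range] at ha
      exact absurd (h.inj a (by omega) k hk' e) (by omega)
    · by_cases hA : T.cA a (T.smp k) = 0
      · refine Or.inr ?_
        rw [List.getD_eq_getElem _ _ (by simpa using ha), List.getElem_map, List.getElem_range]
        exact h.adj a (by omega) k hk' (by omega) hA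
      · exact Or.inl hA

/-- Along an edge the normalised maps are multiplicative and related by a power. -/
theorem edge {i j m : ℕ} (hi : i < D.rank) (hj : j < D.rank) (hA : T.cA i (T.smp j) = -1)
    (hB : T.cA (σ i) (T.smp (σ j)) = -(m : ℤ)) (hm : 0 < m) :
    (∀ a, f j a / f j 1 = (f i a / f i 1) ^ m) ∧
      (∀ a b, f j (a * b) / f j 1 = f j a / f j 1 * (f j b / f j 1)) ∧
      (∀ a b, f i (a * b) / f i 1 = f i a / f i 1 * (f i b / f i 1)) ∧
      Function.Injective fun x : F => x ^ m := by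
  have key : ∀ a, a ≠ 0 → ∀ t, f j (a⁻¹ * t) / f j 1 = ((f i a / f i 1) ^ m)⁻¹ * (f j t / f j 1) := by
    intro a ha t
    have e := h.tor i hi j hj a ha t
    rw [hA, hB, zpow_neg_one, zpow_neg, zpow_natCast] at e
    rw [e, mul_div_assoc]
  have h1 := div_self (h.one_ne hj)
  have hmul : ∀ a b, f j (a * b) / f j 1 = f j a / f j 1 * (f j b / f j 1) := by
    intro a b
    by_cases ha : a = 0
    · simp [ha, h.map_zero hj]
    obtain ⟨c, rfl⟩ : ∃ c, a = c⁻¹ := ⟨a⁻¹, (inv_inv a).symm⟩
    have hc : c ≠ 0 := fun e => ha (by simp [e])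
    have e1 := key c hc 1
    rw [mul_one, h1, mul_one] at e1
    rw [key c hc b, e1]
  have hpow : ∀ a, f j a / f j 1 = (f i a / f i 1) ^ m := by
    intro a
    by_cases ha : a = 0
    · simp [ha, h.map_zero hi, h.map_zero hj, hm.ne']
    have e1 := key a ha 1
    rw [mul_one, h1, mul_one] at e1
    have e2 := hmul a⁻¹ a
    rw [inv_mul_cancel₀ ha, h1, e1] at e2
    exact (inv_mul_eq_one₀ (pow_ne_zero _ (div_ne_zero
      (fun e => ha ((h.bij i hi).1 (e.trans (h.map_zero hi).symm))) (h.one_ne hi)))).mp e2.symm |>.symm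
  have hinj : Function.Injective fun x : F => x ^ m := by
    intro x y e
    obtain ⟨a, ha⟩ := (h.bij i hi).2 (x * f i 1)
    obtain ⟨b, hb⟩ := (h.bij i hi).2 (y * f i 1)
    have e' : f j a / f j 1 = f j b / f j 1 := by
      rw [hpow, hpow, ha, hb, mul_div_cancel_right₀ _ (h.one_ne hi), mul_div_cancel_right₀ _ (h.one_ne hi)]
      exact e
    rw [div_left_inj' (h.one_ne hj)] at e'
    rw [(h.bij j hj).1 e', hb] at ha
    exact (mul_right_cancel₀ (h.one_ne hi) ha).symm
  refine ⟨hpow, hmul, fun a b => hinj ?_, hinj⟩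
  show _ ^ m = _ ^ m
  rw [mul_pow, ← hpow, ← hpow, ← hpow, hmul]

/-- One field automorphism carries all the maps. -/
theorem classify {S : List (List ℕ × List ℕ)} {r₀ : ℕ} {L : List (ℕ × ℕ)} (hS : T.chkAutS D S r₀ L = true) :
    ∃ x ∈ S, ∃ τ : F ≃+* F, (∀ i < D.rank, σ i = x.1.getD i 0) ∧
      (∀ i < D.rank, ∀ t, f i t = f i 1 * τ (t ^ x.2.getD i 1)) ∧
      ∀ i < D.rank, ∀ u v : F, (u + v) ^ x.2.getD i 1 = u ^ x.2.getD i 1 + v ^ x.2.getD i 1 := by
  simp only [Tabs.chkAutS, Bool.and_eq_true, decide_eq_true_iff, List.all_eq_true, beq_iff_eq,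
    Bool.not_eq_true', List.isEmpty_eq_false_iff] at hS
  obtain ⟨⟨⟨hr₀, hL⟩, hsym⟩, hall⟩ := hS
  obtain ⟨x, hx, hxσ⟩ := List.mem_map.mp (h.sym_mem D.rank 0 (by omega) (by simpa using hsym))
  obtain ⟨he₀, hspan⟩ := hall x hx
  have hσ : ∀ i < D.rank, σ i = x.1.getD i 0 := by
    intro i hi
    rw [hxσ, List.getD_eq_getElem _ _ (by simpa using hi), List.getElem_map, List.getElem_range]
  set e := x.2
  let F' : ℕ → F → F := fun i t => f i t / f i 1
  have hedge : ∀ i < D.rank, ∀ j < D.rank, T.edgeE x.1 e i j = true →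
      ∃ m, 0 < m ∧ e.getD j 1 = e.getD i 1 * m ∧ (∀ a, F' j a = F' i a ^ m) ∧
        (∀ a b, F' j (a * b) = F' j a * F' j b) ∧ (∀ a b, F' i (a * b) = F' i a * F' i b) ∧
        Function.Injective fun y : F => y ^ m := by
    intro i hi j hj hE
    simp only [Tabs.edgeE, Bool.and_eq_true, beq_iff_eq, decide_eq_true_iff, ← hσ i hi, ← hσ j hj] at hE
    exact ⟨_, hE.1.2, hE.2, h.edge hi hj hE.1.1.1 hE.1.1.2 hE.1.2⟩
  have hmul₀ : ∀ a b, F' r₀ (a * b) = F' r₀ a * F' r₀ b := by
    obtain ⟨q, L', rfl⟩ := List.exists_cons_of_ne_nil hL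
    replace hspan : (decide (q.1 < D.rank) && decide (q.2 < D.rank) && [r₀].contains q.2 &&
      (T.edgeE x.1 e q.2 q.1 || T.edgeE x.1 e q.1 q.2) && T.chkSpanE D x.1 e L' [q.1, r₀]) = true := hspan
    simp only [Bool.and_eq_true, decide_eq_true_iff, List.contains_iff_mem, List.mem_singleton,
      Bool.or_eq_true] at hspan
    obtain ⟨⟨⟨⟨hq1, hq2⟩, rfl⟩, hE | hE⟩, -⟩ := hspan
    · obtain ⟨_, -, -, -, -, h5, -⟩ := hedge _ hq2 _ hq1 hE
      exact h5
    · obtain ⟨_, -, -, -, h4, -, -⟩ := hedge _ hq1 _ hq2 hE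
      exact h4
  have hbij₀ : Function.Bijective (F' r₀) :=
    (Equiv.divRight₀ _ (h.one_ne hr₀)).bijective.comp (h.bij r₀ hr₀)
  have hadd₀ : ∀ a b, F' r₀ (a + b) = F' r₀ a + F' r₀ b := fun a b => by
    simp only [F', h.add r₀ hr₀, add_div]
  let τ : F ≃+* F := { Equiv.ofBijective _ hbij₀ with map_mul' := hmul₀, map_add' := hadd₀ }
  have hτ : ∀ t, τ t = F' r₀ t := fun t => rfl
  suffices key : ∀ (M : List (ℕ × ℕ)) (seen : List ℕ), T.chkSpanE D x.1 e M seen = true →
      (∀ a ∈ seen, a < D.rank → ∀ t, F' a t = τ t ^ e.getD a 1) →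
      ∀ i < D.rank, ∀ t, F' i t = τ t ^ e.getD i 1 by
    have hk := key L [r₀] hspan (by
      intro a ha _ t
      rw [List.mem_singleton.mp ha, he₀, pow_one, hτ])
    have hf : ∀ i < D.rank, ∀ t, f i t = f i 1 * τ (t ^ e.getD i 1) := fun i hi t => by
      rw [map_pow, ← hk i hi t, mul_div_cancel₀ _ (h.one_ne hi)]
    refine ⟨x, hx, τ, hσ, hf, fun i hi u v => τ.injective ?_⟩
    have e1 := h.add i hi u v
    rw [hf i hi, hf i hi u, hf i hi v, ← mul_add] at e1
    rw [map_add]
    exact mul_left_cancel₀ (h.one_ne hi) e1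
  intro M
  induction M with
  | nil =>
    intro seen hc hs i hi
    replace hc : ((List.range D.rank).all fun i => seen.contains i) = true := hc
    simp only [List.all_eq_true, List.mem_range, List.contains_iff_mem] at hc
    exact hs i (hc i hi) hi
  | cons q M ih =>
    intro seen hc hs
    replace hc : (decide (q.1 < D.rank) && decide (q.2 < D.rank) && seen.contains q.2 &&
      (T.edgeE x.1 e q.2 q.1 || T.edgeE x.1 e q.1 q.2) && T.chkSpanE D x.1 e M (q.1 :: seen)) = true := hc
    simp only [Bool.and_eq_true, decide_eq_true_iff, List.contains_iff_mem, Bool.or_eq_true] at hc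
    obtain ⟨⟨⟨⟨hq1, hq2⟩, hmem⟩, hE⟩, hrest⟩ := hc
    refine ih _ hrest fun a ha ha' t => ?_
    rcases List.mem_cons.mp ha with rfl | ha
    swap
    · exact hs a ha ha' t
    have hp := hs _ hmem hq2 t
    rcases hE with hE | hE
    · obtain ⟨m, -, he, hpw, -⟩ := hedge _ hq2 _ hq1 hE
      rw [hpw, hp, he, pow_mul]
    · obtain ⟨m, -, he, hpw, -, -, hinj⟩ := hedge _ hq1 _ hq2 hE
      refine hinj ?_
      show _ ^ m = _ ^ m
      rw [← hpw, hp, he, pow_mul]

end SimpleSpec

end Cfsg.Agent.Chev
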