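import Cfsg.Agent.Lib.Chev.Group
import Cfsg.Agent.Lib.Chev.Unip

/-!
Base change of Chevalley groups along homomorphisms of fields, and generation by fundamental root elements.
-/

set_option autoImplicit false

namespace Cfsg.Agent.Chev

open Cfsg.Lie

variable {A : Type*} [Field A] {B : Type*} [Field B] (f : A →+* B)

theorem colVal_map (τ : A) (L : List (ℕ × ℤ × ℕ)) (row : ℕ) : f (colVal τ L row) = colVal (f τ) L row := by
  rw [colVal, colVal, map_list_sum, List.map_map]
  refine congrArg List.sum (List.map_congr_left fun e _ => ?_)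
  rw [Function.comp_apply]
  split <;> simp

/-- A homomorphism of fields applied to every entry. -/
noncomputable def mapG (D : ChevalleyDatum) : GL D.Idx A →* GL D.Idx B := Matrix.GeneralLinearGroup.map f

theorem mapG_apply (D : ChevalleyDatum) (g : GL D.Idx A) (i j : D.Idx) :
    (mapG f D g : Matrix D.Idx D.Idx B) i j = f ((g : Matrix D.Idx D.Idx A) i j) := rfl

theorem mapG_injective (D : ChevalleyDatum) : Function.Injective (mapG f D) := fun g h e => by
  refine Units.ext (Matrix.ext fun i j => f.injective ?_)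
  rw [← mapG_apply f D g, e, mapG_apply]

theorem mapG_comp {C : Type*} [Field C] (g : B →+* C) (D : ChevalleyDatum) (x : GL D.Idx A) :
    mapG g D (mapG f D x) = mapG (g.comp f) D x := Units.ext (Matrix.ext fun _ _ => rfl)

theorem mapG_id (D : ChevalleyDatum) (x : GL D.Idx A) : mapG (RingHom.id A) D x = x :=
  Units.ext (Matrix.ext fun _ _ => rfl)

namespace OK

variable {D : ChevalleyDatum} {T : Tabs} (ok : OK D T)

include ok

theorem mapG_xG (r : ℕ) (t : A) : mapG f D (ok.xG r t) = ok.xG r (f t) := by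
  refine Units.ext (Matrix.ext fun i j => ?_)
  rw [mapG_apply, coe_xG, coe_xG]
  by_cases hr : r < D.nroots
  · rw [ok.xMat_eq hr, ok.xMat_eq hr, colVal_map]
  · rw [ChevalleyDatum.x, dif_neg hr, ChevalleyDatum.x, dif_neg hr]
    by_cases e : i = j
    · subst e; simp
    · simp [Matrix.one_apply_ne e]

theorem mapG_wordG : ∀ w : List (ℕ × A),
    mapG f D (ok.wordG w) = ok.wordG (w.map fun q => (q.1, f q.2))
  | [] => by simp [wordG]
  | (r, t) :: w => by
    have h : ∀ {K : Type _} [Field K] (s : ℕ) (u : K) (v : List (ℕ × K)),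
        ok.wordG ((s, u) :: v) = ok.xG s u * ok.wordG v := fun s u v => by
      rw [wordG, List.map_cons, List.prod_cons]; rfl
    rw [h, map_mul, ok.mapG_xG, mapG_wordG w, List.map_cons]
    rw [wordG, wordG, List.map_cons, List.prod_cons]

theorem mapG_nG (r : ℕ) (t : A) : mapG f D (ok.nG r t) = ok.nG r (f t) := by
  rw [nG, mapG_wordG, nG]
  simp [ChevalleyDatum.nWord, map_inv₀]

theorem mapG_hG (r : ℕ) (t : A) : mapG f D (ok.hG r t) = ok.hG r (f t) := by
  rw [hG, mapG_wordG, hG]
  simp [ChevalleyDatum.hWord, ChevalleyDatum.nWord, map_inv₀]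

theorem mapG_torG (c : ℕ → A) : mapG f D (ok.torG c) = ok.torG (fun i => f (c i)) := by
  rw [torG, mapG_wordG, torG]
  congr 1
  rw [List.map_flatMap]
  refine List.flatMap_congr fun i _ => ?_
  simp [ChevalleyDatum.hWord, ChevalleyDatum.nWord, map_inv₀]

theorem mapG_gW (w : List ℕ) : mapG f D (ok.gW A w) = ok.gW B w := by
  rw [gW, gW, map_list_prod, List.map_map]
  refine congrArg List.prod (List.map_congr_left fun i _ => ?_)
  rw [Function.comp_apply, mapG_nG, map_one]

theorem mapG_mem_group {g : GL D.Idx A} (hg : g ∈ D.group A) : mapG f D g ∈ D.group B :=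
  (show D.group A ≤ (D.group B).comap (mapG f D) from ok.group_le fun r _ t => by
    rw [Subgroup.mem_comap, ok.mapG_xG]
    exact ok.xG_mem_group r (f t)) hg

/-- The induced homomorphism of Chevalley groups. -/
noncomputable def groupMap : ↥(D.group A) →* ↥(D.group B) :=
  ((mapG f D).comp (D.group A).subtype).codRestrict (D.group B) fun g => ok.mapG_mem_group f g.2

theorem coe_groupMap (g : ↥(D.group A)) : (ok.groupMap f g : GL D.Idx B) = mapG f D g := rfl

/-- The isomorphism of groups over isomorphic fields. -/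
noncomputable def groupEquiv (e : A ≃+* B) : ↥(D.group A) ≃* ↥(D.group B) :=
  MonoidHom.toMulEquiv (ok.groupMap e.toRingHom) (ok.groupMap e.symm.toRingHom)
    (MonoidHom.ext fun g => Subtype.ext (by
      show mapG _ D (mapG _ D (g : GL D.Idx A)) = _
      rw [mapG_comp]
      refine Units.ext (Matrix.ext fun i j => ?_)
      rw [mapG_apply]
      exact e.symm_apply_apply _))
    (MonoidHom.ext fun g => Subtype.ext (by
      show mapG _ D (mapG _ D (g : GL D.Idx B)) = _
      rw [mapG_comp]
      refine Units.ext (Matrix.ext fun i j => ?_)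
      rw [mapG_apply]
      exact e.apply_symm_apply _))

theorem coe_groupEquiv (e : A ≃+* B) (g : ↥(D.group A)) :
    (ok.groupEquiv e g : GL D.Idx B) = mapG e.toRingHom D g := rfl

/-- The fundamental root elements and their negatives generate. -/
theorem group_le_simple {F : Type*} [Field F] {K : Subgroup (GL D.Idx F)}
    (h : ∀ i < D.rank, ∀ t : F, ok.xG (T.smp i) t ∈ K ∧ ok.xG (T.neg (T.smp i)) t ∈ K) : D.group F ≤ K := by
  refine ok.group_le ?_
  have hn : ∀ i < D.rank, ok.nG (T.smp i) (1 : F) ∈ K := fun i hi => by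
    rw [ok.nG_eq (ok.smp_lt hi)]
    exact mul_mem (mul_mem (h i hi 1).1 (h i hi _).2) (h i hi 1).1
  suffices hL : ∀ (L : List (ℕ × Option (ℕ × ℕ))) (seen : List ℕ), T.chkOrder D L seen = true →
      (∀ e ∈ L, e ∈ T.order) → (∀ a ∈ seen, a < D.nroots ∧ ∀ t : F, ok.xG a t ∈ K) →
      ∀ r < D.nroots, ∀ t : F, ok.xG r t ∈ K from hL T.order [] ok.order (fun _ => id) (by simp)
  intro L
  induction L with
  | nil =>
    intro seen hc _ hs r hr
    replace hc : allR D.nroots (fun r => anyL (fun s => Nat.beq s r) seen) = true := hc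
    simp only [allR_iff, anyL_iff, Nat.beq_eq] at hc
    obtain ⟨a, ha, rfl⟩ := hc r hr
    exact (hs a ha).2
  | cons x L ih =>
    obtain ⟨a, o⟩ := x
    intro seen hc hL hs r hr
    replace hc : andR (nlt a D.nroots) (andR (@Option.rec (ℕ × ℕ) (fun _ => Bool) true
        (fun q => andR (nlt q.1 D.rank) <| andR (anyL (fun s => Nat.beq s q.2) seen) <|
          Nat.beq (T.refl q.1 q.2) a) o) (T.chkOrder D L (a :: seen))) = true := hc
    simp only [andR_iff, nlt_iff] at hc
    refine ih (a :: seen) hc.2.2 (fun e he => hL e (List.mem_cons_of_mem _ he)) ?_ r hr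
    intro b hb
    rcases List.mem_cons.mp hb with rfl | hb
    swap
    · exact hs b hb
    refine ⟨hc.1, fun t => ?_⟩
    rcases o with _ | ⟨i, c⟩
    · obtain ⟨i, hi, rfl⟩ := ok.rep_simple (r := b) (by
        simp only [Tabs.reps, flatR_eq, List.mem_flatMap]
        exact ⟨_, hL _ List.mem_cons_self, List.mem_singleton.mpr rfl⟩)
      exact (h i hi t).1
    · have h2 := hc.2.1
      simp only [andR_iff, nlt_iff, anyL_iff, Nat.beq_eq] at h2
      obtain ⟨hi, ⟨c', hc', rfl⟩, rfl⟩ := h2
      obtain ⟨hcn, hcd⟩ := hs _ hc'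
      have e := ok.n_xG hi hcn ((T.eta i c' : F) * t)
      rw [← mul_assoc, ok.eta_sq hi hcn, one_mul] at e
      rw [← e]
      exact mul_mem (mul_mem (hn i hi) (hcd _)) (inv_mem (hn i hi))

/-- A field automorphism in the sense of the definition is the entrywise map. -/
theorem fieldAut_eq {F : Type*} [Field F] {φ : ↥(D.group F) ≃* ↥(D.group F)} {σ : F ≃+* F}
    (h : ∀ (g : ↥(D.group F)) (r : ℕ) (t : F), r < D.nroots →
      ((g : GL D.Idx F) : Matrix D.Idx D.Idx F) = D.x F r t →
        ((φ g : GL D.Idx F) : Matrix D.Idx D.Idx F) = D.x F r (σ t)) (g : ↥(D.group F)) :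
    (φ g : GL D.Idx F) = mapG σ.toRingHom D g := by
  let K : Subgroup (GL D.Idx F) :=
    { carrier := {x | ∃ hx : x ∈ D.group F, (φ ⟨x, hx⟩ : GL D.Idx F) = mapG σ.toRingHom D x}
      one_mem' := ⟨one_mem _, by rw [map_one, show (⟨1, _⟩ : ↥(D.group F)) = 1 from rfl, map_one]; rfl⟩
      mul_mem' := by
        rintro x y ⟨hx, ex⟩ ⟨hy, ey⟩
        refine ⟨mul_mem hx hy, ?_⟩
        rw [map_mul, ← ex, ← ey, show (⟨x * y, _⟩ : ↥(D.group F)) = ⟨x, hx⟩ * ⟨y, hy⟩ from rfl, map_mul]
        rfl
      inv_mem' := by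
        rintro x ⟨hx, ex⟩
        refine ⟨inv_mem hx, ?_⟩
        rw [map_inv, ← ex, show (⟨x⁻¹, _⟩ : ↥(D.group F)) = ⟨x, hx⟩⁻¹ from rfl, map_inv]
        rfl }
  obtain ⟨_, e⟩ := (show D.group F ≤ K from ok.group_le fun r hr t => ⟨ok.xG_mem_group r t, by
    rw [ok.mapG_xG]
    exact Units.ext (h ⟨_, ok.xG_mem_group r t⟩ r t hr rfl)⟩) g.2
  exact e

end OK

end Cfsg.Agent.Chev
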