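import Cfsg.Agent.Lib.Chev.ChevAutC
import Cfsg.Agent.Lib.Chev.Functorial
import Cfsg.Agent.Lib.Chev.Order
import Cfsg.Prelude.Def_KGroupFacts

/-!
The order of the outer automorphism group from the diagonal, field and graph automorphisms.
-/

set_option autoImplicit false

namespace Cfsg.Agent.Chev

open Cfsg.Lie

/-- The automorphisms of a finite field. -/
theorem card_ringEquiv_self {F : Type*} [Field F] [Fintype F] (p f : ℕ) [Fact p.Prime] [CharP F p]
    (hF : Fintype.card F = p ^ f) : Nat.card (F ≃+* F) = f := by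
  letI := ZMod.algebra F p
  have hfr : Module.finrank (ZMod p) F = f := by
    have e := Module.card_eq_pow_finrank (K := ZMod p) (V := F)
    rw [hF, ZMod.card] at e
    exact (Nat.pow_right_injective (Fact.out : p.Prime).two_le e).symm
  let r : (F ≃+* F) ≃ (F ≃ₐ[ZMod p] F) :=
    { toFun := fun φ => AlgEquiv.ofRingEquiv (f := φ) fun x =>
        RingHom.congr_fun (Subsingleton.elim ((φ : F →+* F).comp (algebraMap (ZMod p) F)) (algebraMap (ZMod p) F)) x
      invFun := fun ψ => ψ.toRingEquiv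
      left_inv := fun φ => RingEquiv.ext fun _ => rfl
      right_inv := fun ψ => AlgEquiv.ext fun _ => rfl }
  rw [Nat.card_congr r, IsGalois.card_aut_eq_finrank, hfr]

variable {F : Type*} [Field F] {D : ChevalleyDatum} {T : Tabs} (ok : OKX D T)

/-- What an automorphism does on the fundamental root elements and their negatives. -/
def Acts (φ : MulAut ↥(D.group F)) (s : ℕ → ℕ) (g : ℕ → F → F) : Prop :=
  ∀ i < D.rank, ∀ t, φ (ok.el (T.smp i) t) = ok.el (T.smp (s i)) (g i t) ∧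
    φ (ok.el (T.neg (T.smp i)) t) = ok.el (T.neg (T.smp (s i))) (g i t⁻¹)⁻¹

theorem SimpleSpec.acts {ok : OKX D T} {φ : MulAut ↥(D.group F)} {σ : ℕ → ℕ} {f : ℕ → F → F}
    (h : SimpleSpec ok φ σ f) : Acts ok φ σ f := fun i hi t => ⟨h.pos i hi t, h.neg i hi t⟩

namespace Acts

variable {ok} {φ ψ : MulAut ↥(D.group F)} {s s' : ℕ → ℕ} {g g' : ℕ → F → F}

theorem congr (h : Acts ok φ s g) (h1 : ∀ i < D.rank, s i = s' i) (h2 : ∀ i < D.rank, ∀ t, g i t = g' i t) :
    Acts ok φ s' g' := fun i hi t => by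
  rw [← h1 i hi, ← h2 i hi, ← h2 i hi]
  exact h i hi t

theorem mul (hψ : Acts ok ψ s' g') (hφ : Acts ok φ s g) (hs : ∀ i < D.rank, s i < D.rank) :
    Acts ok (ψ * φ) (fun i => s' (s i)) (fun i t => g' (s i) (g i t)) := fun i hi t => by
  refine ⟨?_, ?_⟩ <;> rw [MulAut.mul_apply]
  · rw [(hφ i hi t).1, (hψ _ (hs i hi) _).1]
  · rw [(hφ i hi t).2, (hψ _ (hs i hi) _).2, inv_inv]

theorem unique (hφ : Acts ok φ s g) (hψ : Acts ok ψ s g) : φ = ψ := by
  have h := ok.eq_of_simple (φ := φ.toMonoidHom) (ψ := ψ.toMonoidHom) fun i hi t =>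
    ⟨(hφ i hi t).1.trans (hψ i hi t).1.symm, (hφ i hi t).2.trans (hψ i hi t).2.symm⟩
  exact MulEquiv.ext fun x => DFunLike.congr_fun h x

theorem data_eq (hφ : Acts ok φ s g) (hφ' : Acts ok φ s' g') (hs : ∀ i < D.rank, s i < D.rank)
    (hs' : ∀ i < D.rank, s' i < D.rank) (hg : ∀ i < D.rank, g i 1 ≠ 0) :
    ∀ i < D.rank, s i = s' i ∧ ∀ t, g i t = g' i t := by
  intro i hi
  have e : T.smp (s i) = T.smp (s' i) := ok.toOK.xG_eq_iff (ok.toOK.smp_lt (hs i hi)) (ok.toOK.smp_lt (hs' i hi))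
    (hg i hi) (congrArg Subtype.val ((hφ i hi 1).1.symm.trans (hφ' i hi 1).1))
  have e' := ok.smp_index (hs i hi) (hs' i hi) e
  refine ⟨e', fun t => ok.el_inj (ok.toOK.smp_lt (hs i hi)) ?_⟩
  rw [← (hφ i hi t).1, (hφ' i hi t).1, e']

end Acts

/-- The automorphism maps root elements of positive roots into `U` and of negative roots into `V`. -/
def Pres (φ : MulAut ↥(D.group F)) : Prop :=
  ∀ r < D.nroots, ∀ t, (0 < T.htf r → (φ (ok.el r t) : GL D.Idx F) ∈ D.posUnipotent F) ∧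
    (T.htf r < 0 → (φ (ok.el r t) : GL D.Idx F) ∈ D.negUnipotent F)

namespace OKX

include ok

theorem fixUV_of_pres [Fintype F] {φ : MulAut ↥(D.group F)} (h : Pres ok φ) : FixUV D φ := by
  classical
  have : Finite (GL D.Idx F) := Finite.of_injective _ Units.val_injective
  have key : ∀ (S : Subgroup (GL D.Idx F)) (P : ℕ → Prop),
      S = Subgroup.closure {g : GL D.Idx F | ∃ (r : ℕ) (t : F), P r ∧
        (g : Matrix D.Idx D.Idx F) = D.x F r t} →
      S ≤ D.group F → (∀ r, P r → ∀ t, (φ (ok.el r t) : GL D.Idx F) ∈ S) →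
      ∀ x : ↥(D.group F), (φ x : GL D.Idx F) ∈ S ↔ (x : GL D.Idx F) ∈ S := by
    intro S P hS hle hroot
    let K : Subgroup ↥(D.group F) := S.subgroupOf (D.group F)
    have hK : K ≤ K.comap φ.toMonoidHom := by
      have hle' : S ≤ (K.comap φ.toMonoidHom).map (D.group F).subtype := by
        conv_lhs => rw [hS]
        refine (Subgroup.closure_le _).mpr ?_
        rintro g ⟨r, t, hr, hg⟩
        exact ⟨ok.el r t, hroot r hr t, (ok.toOK.eq_xG hg).symm⟩
      intro x hx
      obtain ⟨z, hz, e⟩ := hle' hx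
      exact Subtype.ext e ▸ hz
    have heq : K.map φ.toMonoidHom = K := Subgroup.eq_of_le_of_card_ge (Subgroup.map_le_iff_le_comap.mpr hK)
      (by rw [Subgroup.card_map_of_injective φ.injective])
    intro x
    refine ⟨fun hx => ?_, fun hx => hK hx⟩
    obtain ⟨y, hy, e⟩ : φ x ∈ K.map φ.toMonoidHom := by rw [heq]; exact hx
    exact φ.injective e ▸ hy
  exact fun g =>
    ⟨key _ D.IsPosRoot rfl ok.toOK.pos_le_group (fun r hr t => (h r (ok.toOK.isPos_iff.mp hr).1 t).1
        (ok.toOK.isPos_iff.mp hr).2) g,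
      key _ D.IsNegRoot rfl ok.toOK.neg_le_group (fun r hr t => (h r (ok.toOK.isNeg_iff.mp hr).1 t).2
        (ok.toOK.isNeg_iff.mp hr).2) g⟩

/-- An automorphism sending root elements to root elements of roots of the same sign. -/
theorem fixUV_of_roots [Fintype F] {φ : MulAut ↥(D.group F)} {π : ℕ → ℕ} {g : ℕ → F → F}
    (hπ : ∀ r < D.nroots, π r < D.nroots ∧ (0 < T.htf r ↔ 0 < T.htf (π r)))
    (h : ∀ r < D.nroots, ∀ t, φ (ok.el r t) = ok.el (π r) (g r t)) : FixUV D φ := by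
  refine ok.fixUV_of_pres fun r hr t => ⟨fun h0 => ?_, fun h0 => ?_⟩ <;> rw [h r hr t, coe_el]
  · exact ok.toOK.xG_mem_pos (ok.toOK.isPos_iff.mpr ⟨(hπ r hr).1, (hπ r hr).2.mp h0⟩) _
  · refine ok.toOK.xG_mem_neg (ok.toOK.isNeg_iff.mpr ⟨(hπ r hr).1, ?_⟩) _
    have := ok.toOK.ht_ne (hπ r hr).1
    have h1 := mt (hπ r hr).2.mpr (by omega)
    omega

/-- An element normalising both maximal unipotent subgroups lies in the diagonal subgroup. -/
theorem mem_diag_of_normalizes {g : GL D.Idx F} (hg : g ∈ D.group F)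
    (hU : ∀ x ∈ D.posUnipotent F, g * x * g⁻¹ ∈ D.posUnipotent F)
    (hV : ∀ x ∈ D.negUnipotent F, g * x * g⁻¹ ∈ D.negUnipotent F) : g ∈ D.diagonalSubgroup F := by
  obtain ⟨n₀, hn₀, hmap⟩ := ok.exists_conj_pos_neg (F := F)
  have hn₀G := ok.toOK.monomial_le_group hn₀
  have hback : ∀ x ∈ D.negUnipotent F, n₀⁻¹ * x * n₀ ∈ D.posUnipotent F := by
    intro x hx
    rw [← hmap] at hx
    obtain ⟨y, hy, rfl⟩ := hx
    simpa [mul_assoc] using hy
  have hfwd : ∀ x ∈ D.posUnipotent F, n₀ * x * n₀⁻¹ ∈ D.negUnipotent F := fun x hx => by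
    rw [← hmap]; exact ⟨x, hx, rfl⟩
  obtain ⟨t₀, ht₀, w, hw, hnw⟩ := ok.toOK.mem_monomial.mp hn₀
  have hnorm : ∀ t ∈ D.diagonalSubgroup F, n₀ * t * n₀⁻¹ ∈ D.diagonalSubgroup F := fun t ht => by
    rw [hnw, show t₀ * ok.toOK.gW F w * t * (t₀ * ok.toOK.gW F w)⁻¹ =
      t₀ * (ok.toOK.gW F w * t * (ok.toOK.gW F w)⁻¹) * t₀⁻¹ by simp [mul_assoc]]
    exact mul_mem (mul_mem ht₀ (ok.toOK.gW_normalizes w hw t ht)) (inv_mem ht₀)
  have hB : g ∈ D.borelSubgroup F :=
    ok.mem_borel_of_conj_pos hg fun r hr t => hU _ (ok.toOK.xG_mem_pos hr t)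
  have hB' : n₀⁻¹ * g * n₀ ∈ D.borelSubgroup F :=
    ok.mem_borel_of_conj_pos (mul_mem (mul_mem (inv_mem hn₀G) hg) hn₀G) fun r hr t => by
      have := hback _ (hV _ (hfwd _ (ok.toOK.xG_mem_pos hr t)))
      simpa [mul_assoc] using this
  obtain ⟨u, hu, t, ht, e⟩ := ok.toOK.mem_borel hB'
  have hv := hfwd u hu
  have hd := hnorm t ht
  have hsplit : g = n₀ * u * n₀⁻¹ * (n₀ * t * n₀⁻¹) := by
    calc g = n₀ * (n₀⁻¹ * g * n₀) * n₀⁻¹ := by simp [mul_assoc]
      _ = _ := by rw [e]; simp [mul_assoc]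
  have h1 : n₀ * u * n₀⁻¹ ∈ D.borelSubgroup F ⊓ D.negUnipotent F := by
    refine Subgroup.mem_inf.mpr ⟨?_, hv⟩
    rw [show n₀ * u * n₀⁻¹ = g * (n₀ * t * n₀⁻¹)⁻¹ by rw [hsplit]; simp [mul_assoc]]
    exact mul_mem hB (inv_mem (Subgroup.mem_sup_right hd))
  rw [ok.toOK.borel_inf_neg, Subgroup.mem_bot] at h1
  rw [hsplit, h1, one_mul]
  exact hd

/-- The field automorphism. -/
noncomputable def fldA (τ : F ≃+* F) : MulAut ↥(D.group F) := ok.toOK.groupEquiv τ

theorem fldA_el (τ : F ≃+* F) (r : ℕ) (t : F) : ok.fldA τ (ok.el r t) = ok.el r (τ t) := by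
  refine Subtype.ext ?_
  show mapG τ.toRingHom D (ok.toOK.xG r t) = _
  rw [ok.toOK.mapG_xG]
  rfl

theorem fldA_fix [Fintype F] (τ : F ≃+* F) : FixUV D (ok.fldA τ) :=
  ok.fixUV_of_roots (π := id) (g := fun _ => τ) (fun _ hr => ⟨hr, Iff.rfl⟩) fun r _ t => ok.fldA_el τ r t

theorem fldA_acts (τ : F ≃+* F) : Acts ok (ok.fldA τ) id fun _ => τ := fun i _ t =>
  ⟨ok.fldA_el τ _ t, by
    show _ = ok.el (T.neg (T.smp i)) (τ t⁻¹)⁻¹
    rw [ok.fldA_el, map_inv₀, inv_inv]⟩

/-- Conjugation by a torus element. -/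
theorem tor_conj_el (u : Fin D.rank → Fˣ) {r : ℕ} (hr : r < D.nroots) (t : F) :
    MulAut.conj (⟨ok.toOK.torG (OK.param u), ok.toOK.wordG_mem _⟩ : ↥(D.group F)) (ok.el r t) =
      ok.el r ((∏ i ∈ Finset.range D.rank, OK.param u i ^ T.cA i r) * t) :=
  Subtype.ext (ok.toOK.torG_xG (fun i _ => OK.param_ne u i) hr t)

theorem tor_conj_acts (u : Fin D.rank → Fˣ) :
    Acts ok (MulAut.conj (⟨ok.toOK.torG (OK.param u), ok.toOK.wordG_mem _⟩ : ↥(D.group F))) id
      fun i t => OK.param (monoMap (OK.torMat D T) u) i * t := by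
  intro i hi t
  have e : (∏ l ∈ Finset.range D.rank, OK.param u l ^ T.cA l (T.smp i)) =
      OK.param (monoMap (OK.torMat D T) u) i := by
    rw [show OK.param (monoMap (OK.torMat D T) u) i = ((monoMap (OK.torMat D T) u ⟨i, hi⟩ : Fˣ) : F) from
      dif_pos hi, monoMap_apply, Units.coe_prod, ← Fin.prod_univ_eq_prod_range]
    exact Finset.prod_congr rfl fun l _ => by rw [OK.param_val, Units.val_zpow_eq_zpow_val]; rfl
  refine ⟨by rw [ok.tor_conj_el u (ok.toOK.smp_lt hi), e]; rfl, ?_⟩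
  have en : (∏ l ∈ Finset.range D.rank, OK.param u l ^ T.cA l (T.neg (T.smp i))) =
      (OK.param (monoMap (OK.torMat D T) u) i)⁻¹ := by
    rw [← e, ← Finset.prod_inv_distrib]
    exact Finset.prod_congr rfl fun l hl => by
      rw [ok.toOK.cA_neg (ok.toOK.smp_lt hi) (Finset.mem_range.mp hl), zpow_neg]
  rw [ok.tor_conj_el u (ok.toOK.neg_lt (ok.toOK.smp_lt hi)), en]
  show ok.el _ _ = ok.el (T.neg (T.smp i)) _
  rw [mul_inv, inv_inv]

/-- The order of the outer automorphism group. -/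
theorem card_out [Fintype F] (p f : ℕ) [Fact p.Prime] [CharP F p] (hF : Fintype.card F = p ^ f)
    (n : ℕ) (s e : Fin n → ℕ → ℕ) (hs : ∀ k, ∀ i < D.rank, s k i < D.rank)
    (hsinj : ∀ k, ∀ i < D.rank, ∀ j < D.rank, s k i = s k j → i = j)
    (hdis : ∀ k k', (∀ i < D.rank, s k i = s k' i) → k = k') (he : ∀ k, ∃ i < D.rank, e k i = 1)
    (hdiag : ∀ c : Fin D.rank → Fˣ, ∃ δ : MulAut ↥(D.group F), FixUV D δ ∧
      Acts ok δ id fun i t => OK.param c i * t)
    (hgam : ∀ k, ∃ γ : MulAut ↥(D.group F), FixUV D γ ∧ Acts ok γ (s k) fun i t => t ^ e k i)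
    (hcls : ∀ φ : MulAut ↥(D.group F), FixUV D φ → ∃ k, ∃ c : Fin D.rank → Fˣ, ∃ τ : F ≃+* F,
      Acts ok φ (s k) fun i t => OK.param c i * τ (t ^ e k i)) :
    Nat.card (Cfsg.Out ↥(D.group F)) = n * Nat.card ↥(monoMap (G := Fˣ) (OK.torMat D T)).ker * f := by
  classical
  have : Finite (GL D.Idx F) := Finite.of_injective _ Units.val_injective
  have : Finite ↥(D.group F) := Subtype.finite
  have : Finite (F ≃+* F) := Finite.of_injective (fun τ : F ≃+* F => (τ : F → F)) DFunLike.coe_injective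
  choose δ hδF hδ using hdiag
  choose γ hγF hγ using hgam
  set M := (monoMap (G := Fˣ) (OK.torMat D T)).range with hM
  let perm : ∀ k : Fin n, Fin D.rank ≃ Fin D.rank := fun k =>
    Equiv.ofBijective (fun i => ⟨s k i, hs k i i.isLt⟩) (Finite.injective_iff_bijective.mp fun a b h =>
      Fin.ext (hsinj k a a.isLt b b.isLt (congrArg Fin.val h)))
  let std : Fin n → (Fin D.rank → Fˣ) → (F ≃+* F) → MulAut ↥(D.group F) := fun k c τ =>
    δ c * ok.fldA τ * γ k
  have hfix : ∀ {a b : MulAut ↥(D.group F)}, FixUV D a → FixUV D b → FixUV D (a * b) := fun ha hb x =>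
    ⟨(ha _).1.trans (hb x).1, (ha _).2.trans (hb x).2⟩
  have hstdF : ∀ k c τ, FixUV D (std k c τ) := fun k c τ =>
    hfix (hfix (hδF c) (ok.fldA_fix τ)) (hγF k)
  have hstd : ∀ k c τ, Acts ok (std k c τ) (s k) fun i t => OK.param c (s k i) * τ (t ^ e k i) := by
    intro k c τ
    exact ((hδ c).mul (ok.fldA_acts τ) (fun i hi => hi)).mul (hγ k) (hs k)
  let T₀ : (Fin D.rank → Fˣ) → ↥(D.group F) := fun u => ⟨ok.toOK.torG (OK.param u), ok.toOK.wordG_mem _⟩
  have htor : ∀ u k c τ, MulAut.conj (T₀ u) * std k c τ = std k (monoMap (OK.torMat D T) u * c) τ := by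
    intro u k c τ
    refine ((ok.tor_conj_acts u).mul (hstd k c τ) (hs k)).unique ((hstd _ _ _).congr (fun _ _ => rfl) ?_)
    intro i hi t
    simp only [OK.param, dif_pos (hs k i hi), Pi.mul_apply, Units.val_mul, mul_assoc]
  let Ψ : Fin n × ((Fin D.rank → Fˣ) ⧸ M) × (F ≃+* F) → Cfsg.Out ↥(D.group F) := fun z =>
    QuotientGroup.mk (std z.1 z.2.1.out z.2.2)
  have hbij : Function.Bijective Ψ := by
    constructor
    · rintro ⟨k, q, τ⟩ ⟨k', q', τ'⟩ h
      rw [QuotientGroup.eq_iff_div_mem] at h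
      obtain ⟨g, hg⟩ := h
      have e1 : MulAut.conj g * std k' q'.out τ' = std k q.out τ := by rw [hg, div_mul_cancel]
      have hgF : FixUV D (MulAut.conj g) := by
        rw [eq_mul_inv_of_mul_eq e1]
        exact hfix (hstdF _ _ _) (hstdF _ _ _).symm
      have hgd : (g : GL D.Idx F) ∈ D.diagonalSubgroup F := ok.mem_diag_of_normalizes g.2
        (fun x hx => (hgF ⟨x, ok.toOK.pos_le_group hx⟩).1.mpr hx)
        (fun x hx => (hgF ⟨x, ok.toOK.neg_le_group hx⟩).2.mpr hx)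
      obtain ⟨d, hd, hgd⟩ := ok.toOK.mem_diag.mp hgd
      let u : Fin D.rank → Fˣ := fun i => Units.mk0 (d i) (hd i i.isLt)
      have hgu : g = T₀ u := Subtype.ext (by
        rw [hgd]
        refine Units.ext ?_
        rw [ok.toOK.coe_torG hd, ok.toOK.coe_torG (fun i _ => OK.param_ne u i)]
        congr 1
        funext a
        rcases a with a | r
        · rfl
        exact Finset.prod_congr rfl fun i hi => by simp [OK.param, u, Finset.mem_range.mp hi])
      rw [hgu, htor] at e1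
      have hh := hstd k' (monoMap (OK.torMat D T) u * q'.out) τ'
      rw [e1] at hh
      have hd2 := hh.data_eq (hstd k q.out τ) (hs k') (hs k) (fun i _ => by simp [OK.param_ne])
      have hk : k' = k := hdis k' k fun i hi => (hd2 i hi).1
      subst hk
      have hc : monoMap (OK.torMat D T) u * q'.out = q.out := by
        funext l
        obtain ⟨i, rfl⟩ := (perm k').surjective l
        have := (hd2 i i.isLt).2 1
        simp only [one_pow, map_one, mul_one, OK.param, dif_pos (hs k' i i.isLt)] at this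
        exact Units.ext this
      have hq : q' = q := by
        rw [← QuotientGroup.out_eq' q, ← hc, ← QuotientGroup.out_eq' q', mul_comm, QuotientGroup.out_eq' q']
        conv_lhs => rw [← QuotientGroup.out_eq' q']
        exact (QuotientGroup.eq.mpr (by rw [inv_mul_cancel_left]; exact ⟨u, rfl⟩))
      subst hq
      obtain ⟨i, hi, hei⟩ := he k'
      have hτ : τ' = τ := RingEquiv.ext fun t => by
        have := (hd2 i hi).2 t
        simp only [hei, pow_one, hc] at this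
        exact mul_left_cancel₀ (OK.param_ne _ _) this
      rw [hτ]
    · intro x
      induction x using QuotientGroup.induction_on with | H φ =>
      obtain ⟨g, hg⟩ := ok.exists_fixUV p φ
      obtain ⟨k, c, τ, hc⟩ := hcls _ hg
      let c' : Fin D.rank → Fˣ := fun l => c ((perm k).symm l)
      have e1 : MulAut.conj g * φ = std k c' τ := by
        refine hc.unique ((hstd k c' τ).congr (fun _ _ => rfl) fun i hi t => ?_)
        simp only [OK.param, dif_pos (hs k i hi), dif_pos hi, c']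
        congr 3
        exact (perm k).symm_apply_apply ⟨i, hi⟩
      refine ⟨⟨k, QuotientGroup.mk c', τ⟩, ?_⟩
      obtain ⟨u, hu⟩ : c' * ((QuotientGroup.mk c' : (Fin D.rank → Fˣ) ⧸ M).out)⁻¹ ∈ M := by
        have := QuotientGroup.eq.mp (QuotientGroup.out_eq' (QuotientGroup.mk c' : (Fin D.rank → Fˣ) ⧸ M))
        rwa [mul_comm] at this
      have e2 : MulAut.conj (T₀ u) * std k (QuotientGroup.mk c' : (Fin D.rank → Fˣ) ⧸ M).out τ =
          MulAut.conj g * φ := by
        rw [htor, hu, inv_mul_cancel_right, e1]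
      show QuotientGroup.mk _ = QuotientGroup.mk φ
      rw [QuotientGroup.eq_iff_div_mem]
      refine ⟨(T₀ u)⁻¹ * g, ?_⟩
      rw [map_mul, map_inv, eq_div_iff_mul_eq', mul_assoc, ← e2, inv_mul_cancel_left]
  rw [← Nat.card_congr (Equiv.ofBijective Ψ hbij), Nat.card_prod, Nat.card_prod, Nat.card_fin,
    card_ringEquiv_self p f hF, mul_assoc]
  congr 2
  have h1 := Subgroup.index_mul_card M
  have h2 := Subgroup.index_mul_card (monoMap (G := Fˣ) (OK.torMat D T)).ker
  rw [Subgroup.index_ker, ← hM] at h2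
  rw [Subgroup.index_eq_card] at h1
  exact Nat.eq_of_mul_eq_mul_right Nat.card_pos (h1.trans (h2.symm.trans (mul_comm _ _)))

end OKX

end Cfsg.Agent.Chev
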