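import Cfsg.Agent.Lib.Chev.GraphExc

/-! The exceptional symmetries of G2, B2 and F4. -/

set_option autoImplicit false
set_option maxRecDepth 100000

namespace Cfsg.Agent.Chev

open Cfsg.Lie

/-- The symmetry of G2 in characteristic 3. -/
def G2.xtab : XTab := ⟨[2, 3, 0, 1, 5, 4, 7, 6, 10, 11, 8, 9], [1, 1, 3, 3, 3, 1, 1, 3, 3, 3, 1, 1]⟩

theorem G2.xtab_ok : G2.xtab.chk chevG2 G2.T 3 = true := by decide +kernel


/-- The symmetry of B2 in characteristic 2. -/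
def B2.xtab : XTab := ⟨[1, 0, 3, 2, 5, 4, 7, 6], [1, 2, 2, 1, 1, 2, 2, 1]⟩

theorem B2.xtab_ok : B2.xtab.chk chevB2 B2.T 2 = true := by decide +kernel


/-- The symmetry of F4 in characteristic 2. -/
def F4.xtab : XTab := ⟨[3, 7, 8, 0, 9, 11, 18, 1, 2, 4, 15, 5, 16, 21, 23, 10, 12, 19, 6, 17, 22, 13, 20, 14, 33, 27, 34, 25, 30, 41, 28, 35, 37, 24, 26, 31, 42, 32, 43, 45, 46, 29, 36, 38, 47, 39, 40, 44], [1, 1, 1, 2, 1, 1, 1, 2, 2, 2, 2, 2, 2, 2, 2, 1, 1, 1, 2, 2, 2, 1, 1, 1, 1, 1, 1, 2, 2, 2, 1, 1, 1, 2, 2, 2, 2, 2, 2, 2, 2, 1, 1, 1, 2, 1, 1, 1]⟩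

theorem F4.xtab_ok : F4.xtab.chk chevF4 F4.T 2 = true := by decide +kernel


end Cfsg.Agent.Chev
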