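import Cfsg.Agent.Lib.Chev.ChevAutE
import Cfsg.Agent.Lib.Chev.GraphExcData
import Cfsg.Agent.Lib.Chev.GraphE6

/-! Data for the outer automorphism groups of the exceptional Chevalley groups. -/

set_option autoImplicit false
set_option maxRecDepth 100000

namespace Cfsg.Agent.Chev

open Cfsg.Lie

/-- A longest word. -/
def G2.autW : List ℕ := [0, 1, 0, 1, 0, 1]

/-- The symmetries with their exponents. -/
def G2.autS : List (List ℕ × List ℕ) := [([0, 1], [1, 1]), ([1, 0], [3, 1])]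

theorem G2.autW_ok : G2.T.chkLong chevG2 G2.autW = true := by decide +kernel

theorem G2.opp_ok : G2.T.chkOpp chevG2 = true := by decide +kernel

theorem G2.autS_ok : G2.T.chkAutS chevG2 G2.autS 1 [(0, 1)] = true := by decide +kernel

/-- A longest word. -/
def F4.autW : List ℕ := [0, 1, 0, 2, 1, 0, 2, 1, 2, 3, 2, 1, 0, 2, 1, 2, 3, 2, 1, 0, 2, 1, 2, 3]

/-- The symmetries with their exponents. -/
def F4.autS : List (List ℕ × List ℕ) := [([0, 1, 2, 3], [1, 1, 1, 1]), ([3, 2, 1, 0], [2, 2, 1, 1])]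

theorem F4.autW_ok : F4.T.chkLong chevF4 F4.autW = true := by decide +kernel

theorem F4.opp_ok : F4.T.chkOpp chevF4 = true := by decide +kernel

theorem F4.autS_ok : F4.T.chkAutS chevF4 F4.autS 3 [(2, 3), (1, 2), (0, 1)] = true := by decide +kernel

/-- A longest word. -/
def E6.autW : List ℕ := [0, 1, 2, 0, 3, 1, 2, 0, 3, 2, 4, 3, 1, 2, 0, 3, 2, 4, 3, 1, 5, 4, 3, 1, 2, 0, 3, 2, 4, 3, 1, 5, 4, 3, 2, 0]

/-- The symmetries with their exponents. -/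
def E6.autS : List (List ℕ × List ℕ) := [([0, 1, 2, 3, 4, 5], [1, 1, 1, 1, 1, 1]), ([5, 1, 4, 3, 2, 0], [1, 1, 1, 1, 1, 1])]

theorem E6.autW_ok : E6.T.chkLong chevE6 E6.autW = true := by decide +kernel

theorem E6.opp_ok : E6.T.chkOpp chevE6 = true := by decide +kernel

theorem E6.autS_ok : E6.T.chkAutS chevE6 E6.autS 0 [(2, 0), (3, 2), (1, 3), (4, 3), (5, 4)] = true := by decide +kernel

/-- A longest word. -/
def E7.autW : List ℕ := [0, 1, 2, 0, 3, 1, 2, 0, 3, 2, 4, 3, 1, 2, 0, 3, 2, 4, 3, 1, 5, 4, 3, 1, 2, 0, 3, 2, 4, 3, 1, 5, 4, 3, 2, 0, 6, 5, 4, 3, 1, 2, 0, 3, 2, 4, 3, 1, 5, 4, 3, 2, 0, 6, 5, 4, 3, 1, 2, 3, 4, 5, 6]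

/-- The symmetries with their exponents. -/
def E7.autS : List (List ℕ × List ℕ) := [([0, 1, 2, 3, 4, 5, 6], [1, 1, 1, 1, 1, 1, 1])]

theorem E7.autW_ok : E7.T.chkLong chevE7 E7.autW = true := by decide +kernel

theorem E7.opp_ok : E7.T.chkOpp chevE7 = true := by decide +kernel

theorem E7.autS_ok : E7.T.chkAutS chevE7 E7.autS 0 [(2, 0), (3, 2), (1, 3), (4, 3), (5, 4), (6, 5)] = true := by decide +kernel

/-- A longest word. -/
def E8.autW : List ℕ := [0, 1, 2, 0, 3, 1, 2, 0, 3, 2, 4, 3, 1, 2, 0, 3, 2, 4, 3, 1, 5, 4, 3, 1, 2, 0, 3, 2, 4, 3, 1, 5, 4, 3, 2, 0, 6, 5, 4, 3, 1, 2, 0, 3, 2, 4, 3, 1, 5, 4, 3, 2, 0, 6, 5, 4, 3, 1, 2, 3, 4, 5, 6, 7, 6, 5, 4, 3, 1, 2, 0, 3, 2, 4, 3, 1, 5, 4, 3, 2, 0, 6, 5, 4, 3, 1, 2, 3, 4, 5, 6, 7, 6, 5, 4, 3, 1, 2, 0, 3, 2, 4, 3, 1, 5, 4, 3, 2, 0, 6, 5, 4, 3, 1, 2, 3, 4, 5, 6, 7]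

/-- The symmetries with their exponents. -/
def E8.autS : List (List ℕ × List ℕ) := [([0, 1, 2, 3, 4, 5, 6, 7], [1, 1, 1, 1, 1, 1, 1, 1])]

theorem E8.autW_ok : E8.T.chkLong chevE8 E8.autW = true := by decide +kernel

theorem E8.opp_ok : E8.T.chkOpp chevE8 = true := by decide +kernel

theorem E8.autS_ok : E8.T.chkAutS chevE8 E8.autS 0 [(2, 0), (3, 2), (1, 3), (4, 3), (5, 4), (6, 5), (7, 6)] = true := by decide +kernel

theorem G2.xsign : G2.xtab.chkSign chevG2 G2.T [1, 0] [3, 1] = true := by decide +kernel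

theorem F4.xsign : F4.xtab.chkSign chevF4 F4.T [3, 2, 1, 0] [2, 2, 1, 1] = true := by decide +kernel

theorem E6.coradd_ok : E6.T.chkCorAdd chevE6 = true := by decide +kernel

theorem E7.coradd_ok : E7.T.chkCorAdd chevE7 = true := by decide +kernel

theorem E6.psi_eq : (List.range 6).map (fun i => E6.g.psi i) = [5, 1, 4, 3, 2, 0] := by decide +kernel

theorem G2.autS_nd : ∀ a : Fin 2, ∀ b : Fin 2,
    (∀ i < 2, (G2.autS.getD a.val ([], [])).1.getD i 0 = (G2.autS.getD b.val ([], [])).1.getD i 0) → a = b := by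
  decide +kernel

theorem F4.autS_nd : ∀ a : Fin 2, ∀ b : Fin 2,
    (∀ i < 4, (F4.autS.getD a.val ([], [])).1.getD i 0 = (F4.autS.getD b.val ([], [])).1.getD i 0) → a = b := by
  decide +kernel

theorem E6.autS_nd : ∀ a : Fin 2, ∀ b : Fin 2,
    (∀ i < 6, (E6.autS.getD a.val ([], [])).1.getD i 0 = (E6.autS.getD b.val ([], [])).1.getD i 0) → a = b := by
  decide +kernel

end Cfsg.Agent.Chev
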