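import Cfsg.Agent.Lib.Chev.Unip

/-!
Automorphisms of the datum given by a permutation of the fundamental roots: the signed permutation
matrix on the coordinates and its effect on the root elements.
-/

set_option autoImplicit false

namespace Cfsg.Agent.Chev

open Cfsg.Lie

/-- A symmetry: images of the roots, signs, images of the fundamental roots, and its order. -/
structure GTab where
  /-- images of the roots -/
  pr : Tr ℕ
  /-- signs -/
  sg : Tr ℤ
  /-- images of the fundamental roots -/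
  ps : Tr ℕ
  /-- order -/
  k : ℕ

namespace GTab

variable (D : ChevalleyDatum) (T : Tabs) (g : GTab)

noncomputable def per (r : ℕ) : ℕ := g.pr.get 0 r
noncomputable def sgn (r : ℕ) : ℤ := g.sg.get 0 r
noncomputable def psi (i : ℕ) : ℕ := g.ps.get 0 i

/-- Iterated image of a root. -/
noncomputable def perI (j r : ℕ) : ℕ := @Nat.rec (fun _ => ℕ) r (fun _ x => g.per x) j

/-- Iterated image of a fundamental root. -/
noncomputable def psiI (j i : ℕ) : ℕ := @Nat.rec (fun _ => ℕ) i (fun _ x => g.psi x) j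

/-- Product of the signs along the first `j` members of an orbit. -/
noncomputable def sgnI (j r : ℕ) : ℤ :=
  @Nat.rec (fun _ => ℤ) 1 (fun i x => Int.mul (g.sgn (g.perI i r)) x) j

/-- The columns of the signed permutation matrix. -/
noncomputable def GC (c : ℕ) : List En :=
  @Bool.rec (fun _ => List En) [⟨Nat.add D.rank (g.per (Nat.sub c D.rank)), g.sgn (Nat.sub c D.rank), 0, 0⟩]
    [⟨g.psi c, Int.ofNat 1, 0, 0⟩] (nlt c D.rank)

/-- The columns of a power of the matrix. -/
noncomputable def GCpow (j : ℕ) : ℕ → List En :=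
  @Nat.rec (fun _ => ℕ → List En) idC (fun _ C => comp (g.GC D) C) j

/-- The matrix moves a root element to the expected one. -/
noncomputable def chkMove (r : ℕ) : Bool :=
  colsEqv (Nat.add D.rank D.nroots) (comp (g.GC D) (T.XC r 1 1 0))
    (comp (T.XC (g.per r) (g.sgn r) 1 0) (g.GC D))

/-- Facts on a root. -/
noncomputable def chkPerRoot (r : ℕ) : Bool :=
  andR (nlt (g.per r) D.nroots) <| andR (orR (ieq (g.sgn r) 1) (ieq (g.sgn r) (-1))) <|
  andR (Nat.beq (g.per (T.neg r)) (T.neg (g.per r))) <| andR (ieq (g.sgn (T.neg r)) (g.sgn r)) <|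
  andR (ieq (T.htf (g.per r)) (T.htf r)) <| andR (Nat.beq (g.perI g.k r) r) <| andR (ieq (g.sgnI g.k r) 1) <|
  andR (orR (notR (Nat.beq (g.per r) r)) (ieq (g.sgn r) 1)) <|
  allR D.rank fun i => andR (ieq (T.cC (g.per r) (g.psi i)) (T.cC r i)) (ieq (T.cA (g.psi i) (g.per r)) (T.cA i r))

/-- Facts on a fundamental root. -/
noncomputable def chkPerSimple (i : ℕ) : Bool :=
  andR (nlt (g.psi i) D.rank) <| andR (Nat.beq (g.per (T.smp i)) (T.smp (g.psi i))) <|
  andR (ieq (g.sgn (T.smp i)) 1) <| Nat.beq (g.psiI g.k i) i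

/-- All the checks. -/
noncomputable def chk : Bool :=
  andR (nlt 0 g.k) <| andR (allR D.rank (g.chkPerSimple D T)) <| andR (allR D.nroots (g.chkPerRoot D T)) <|
  andR (colsEqv (Nat.add D.rank D.nroots) (g.GCpow D g.k) idC) (allR D.nroots (g.chkMove D T))

end GTab

/-- A checked symmetry. -/
structure GOK (D : ChevalleyDatum) (T : Tabs) (g : GTab) : Prop where
  chk : g.chk D T = true

namespace GOK

variable {D : ChevalleyDatum} {T : Tabs} {g : GTab} (hg : GOK D T g)

include hg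

theorem k_pos : 0 < g.k := by
  have h := hg.chk; simp only [GTab.chk, andR_iff, nlt_iff] at h; exact h.1

theorem move {r : ℕ} (hr : r < D.nroots) : g.chkMove D T r = true := by
  have h := hg.chk; simp only [GTab.chk, andR_iff, allR_iff] at h; exact h.2.2.2.2 r hr

theorem pow_k : colsEqv (D.rank + D.nroots) (g.GCpow D g.k) idC = true := by
  have h := hg.chk; simp only [GTab.chk, andR_iff] at h; exact h.2.2.2.1

theorem root_facts {r : ℕ} (hr : r < D.nroots) :
    g.per r < D.nroots ∧ (g.sgn r = 1 ∨ g.sgn r = -1) ∧ g.per (T.neg r) = T.neg (g.per r) ∧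
      g.sgn (T.neg r) = g.sgn r ∧ T.htf (g.per r) = T.htf r ∧ g.perI g.k r = r ∧ g.sgnI g.k r = 1 ∧
      (g.per r = r → g.sgn r = 1) ∧
      ∀ i < D.rank, T.cC (g.per r) (g.psi i) = T.cC r i ∧ T.cA (g.psi i) (g.per r) = T.cA i r := by
  have h := hg.chk
  simp only [GTab.chk, andR_iff, allR_iff] at h
  have h' := h.2.2.1 r hr
  simp only [GTab.chkPerRoot, andR_iff, nlt_iff, orR_iff, ieq_iff, Nat.beq_eq, notR_iff, nbeq_false_iff,
    allR_iff] at h'
  refine ⟨h'.1, h'.2.1, h'.2.2.1, h'.2.2.2.1, h'.2.2.2.2.1, h'.2.2.2.2.2.1, h'.2.2.2.2.2.2.1, fun e => ?_,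
    h'.2.2.2.2.2.2.2.2⟩
  rcases h'.2.2.2.2.2.2.2.1 with e' | e'
  · exact absurd e e'
  · exact e'

theorem simple_facts {i : ℕ} (hi : i < D.rank) :
    g.psi i < D.rank ∧ g.per (T.smp i) = T.smp (g.psi i) ∧ g.sgn (T.smp i) = 1 ∧ g.psiI g.k i = i := by
  have h := hg.chk
  simp only [GTab.chk, andR_iff, allR_iff] at h
  have h' := h.2.1 i hi
  simp only [GTab.chkPerSimple, andR_iff, nlt_iff, Nat.beq_eq, ieq_iff] at h'
  exact h'

theorem per_lt {r : ℕ} (hr : r < D.nroots) : g.per r < D.nroots := (hg.root_facts hr).1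

theorem perI_lt : ∀ (j : ℕ) {r : ℕ}, r < D.nroots → g.perI j r < D.nroots
  | 0, _, hr => hr
  | j + 1, _, hr => hg.per_lt (perI_lt j hr)

theorem psiI_lt : ∀ (j : ℕ) {i : ℕ}, i < D.rank → g.psiI j i < D.rank
  | 0, _, hi => hi
  | j + 1, _, hi => (hg.simple_facts (psiI_lt j hi)).1

theorem perI_neg : ∀ (j : ℕ) {r : ℕ}, r < D.nroots → g.perI j (T.neg r) = T.neg (g.perI j r)
  | 0, _, _ => rfl
  | j + 1, r, hr => by
    show g.per (g.perI j (T.neg r)) = T.neg (g.per (g.perI j r))
    rw [perI_neg j hr, (hg.root_facts (hg.perI_lt j hr)).2.2.1]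

theorem perI_smp : ∀ (j : ℕ) {i : ℕ}, i < D.rank → g.perI j (T.smp i) = T.smp (g.psiI j i)
  | 0, _, _ => rfl
  | j + 1, i, hi => by
    show g.per (g.perI j (T.smp i)) = T.smp (g.psi (g.psiI j i))
    rw [perI_smp j hi, (hg.simple_facts (hg.psiI_lt j hi)).2.1]

theorem htf_perI : ∀ (j : ℕ) {r : ℕ}, r < D.nroots → T.htf (g.perI j r) = T.htf r
  | 0, _, _ => rfl
  | j + 1, r, hr => by
    show T.htf (g.per (g.perI j r)) = _
    rw [(hg.root_facts (hg.perI_lt j hr)).2.2.2.2.1, htf_perI j hr]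

omit hg in
theorem perI_add (j : ℕ) : ∀ (i r : ℕ), g.perI (i + j) r = g.perI i (g.perI j r)
  | 0, r => by rw [Nat.zero_add]; rfl
  | i + 1, r => by
    rw [Nat.add_right_comm]
    show g.per (g.perI (i + j) r) = g.per (g.perI i (g.perI j r))
    rw [perI_add j i r]

omit hg in
theorem perI_succ' (j r : ℕ) : g.perI (j + 1) r = g.perI j (g.per r) := by
  rw [perI_add 1 j r]; rfl

theorem per_inj {a b : ℕ} (ha : a < D.nroots) (hb : b < D.nroots) (h : g.per a = g.per b) : a = b := by
  obtain ⟨j, hj⟩ : ∃ j, g.k = j + 1 := ⟨g.k - 1, by have := hg.k_pos; omega⟩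
  have ea := (hg.root_facts ha).2.2.2.2.2.1
  have eb := (hg.root_facts hb).2.2.2.2.2.1
  rw [hj, perI_succ'] at ea eb
  rw [← ea, h, eb]

theorem perI_inj : ∀ (j : ℕ) {a b : ℕ}, a < D.nroots → b < D.nroots → g.perI j a = g.perI j b → a = b
  | 0, _, _, _, _, h => h
  | j + 1, _, _, ha, hb, h => perI_inj j ha hb (hg.per_inj (hg.perI_lt j ha) (hg.perI_lt j hb) h)

variable {F : Type*} [Field F]

omit hg in
/-- The signed permutation matrix. -/
noncomputable def mat (D : ChevalleyDatum) (g : GTab) (F : Type*) [Field F] : Matrix D.Idx D.Idx F :=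
  fun i j => valEn (1 : F) 1 (g.GC D (phi D j)) (phi D i)

omit hg in
theorem rep_mat (t u : F) : Rep (phi D) t u (g.GC D) (mat D g F) := by
  intro i j
  rcases j with j | s
  · simp only [mat, GTab.GC, phi, Sum.elim_inl, nlt_iff.mpr j.isLt, valEn_single, En.ev]
    simp
  · simp only [mat, GTab.GC, phi, Sum.elim_inr, nlt_false_iff.mpr (Nat.le_add_right D.rank (s : ℕ)), valEn_single,
      En.ev]
    simp

theorem inRange_GC : InRange (phi D) (g.GC D) := by
  intro j e he
  rcases j with j | s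
  · simp only [GTab.GC, phi, Sum.elim_inl, nlt_iff.mpr j.isLt, List.mem_singleton] at he
    subst he
    exact phi_surj D (Nat.lt_add_right _ (hg.simple_facts j.isLt).1)
  · simp only [GTab.GC, phi, Sum.elim_inr, nlt_false_iff.mpr (Nat.le_add_right D.rank (s : ℕ)),
      List.mem_singleton, Nat.sub_eq, Nat.add_eq, Nat.add_sub_cancel_left] at he
    subst he
    exact phi_surj D (Nat.add_lt_add_left (hg.per_lt s.isLt) _)

theorem inRange_pow : ∀ j, InRange (phi D) (g.GCpow D j)
  | 0 => InRange.idC _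
  | j + 1 => InRange.comp hg.inRange_GC (inRange_pow j)

theorem rep_pow : ∀ j, Rep (phi D) (1 : F) 1 (g.GCpow D j) (mat D g F ^ j)
  | 0 => by rw [pow_zero]; exact Rep.one (phi_injective D) 1 1
  | j + 1 => by
    rw [pow_succ']
    exact Rep.comp (phi_injective D) one_ne_zero one_ne_zero (rep_mat 1 1) (rep_pow j) (hg.inRange_pow j)

theorem mat_pow_k : mat D g F ^ g.k = 1 :=
  Rep.eq_of_colsEqv (phi_lt D) (hg.rep_pow g.k) (Rep.one (phi_injective D) 1 1) hg.pow_k

/-- The matrix as an invertible matrix. -/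
noncomputable def PG : GL D.Idx F where
  val := mat D g F
  inv := mat D g F ^ (g.k - 1)
  val_inv := by rw [← pow_succ', Nat.sub_add_cancel hg.k_pos, hg.mat_pow_k]
  inv_val := by rw [← pow_succ, Nat.sub_add_cancel hg.k_pos, hg.mat_pow_k]

variable (ok : OK D T)

include ok

theorem mat_x {r : ℕ} (hr : r < D.nroots) (t : F) :
    mat D g F * D.x F r t = D.x F (g.per r) ((g.sgn r : F) * t) * mat D g F := by
  by_cases ht : t = 0
  · subst ht; rw [mul_zero, ok.x_zero, ok.x_zero, mul_one, one_mul]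
  refine Rep.eq_of_colsEqv (t := t) (u := (1 : F)) (phi_lt D)
    (Rep.comp (phi_injective D) ht one_ne_zero (rep_mat t 1) (ok.rep_x hr t 1).1 (ok.inRange_XC hr _ _ _))
    (Rep.comp (phi_injective D) ht one_ne_zero ?_ (rep_mat t 1) hg.inRange_GC) (hg.move hr)
  simpa using ok.rep_XC (hg.per_lt hr) (g.sgn r) 1 0 t (1 : F)

theorem PG_xG {r : ℕ} (hr : r < D.nroots) (t : F) :
    hg.PG * ok.xG r t * hg.PG⁻¹ = ok.xG (g.per r) ((g.sgn r : F) * t) := by
  rw [mul_inv_eq_iff_eq_mul]
  exact Units.ext (hg.mat_x ok hr t)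

theorem PG_mem_group {x : GL D.Idx F} (hx : x ∈ D.group F) : hg.PG * x * hg.PG⁻¹ ∈ D.group F := by
  revert x
  suffices D.group F ≤ (D.group F).comap (MulAut.conj (hg.PG (F := F))).toMonoidHom from fun {x} hx => this hx
  refine ok.group_le fun r hr t => ?_
  rw [Subgroup.mem_comap, MulEquiv.coe_toMonoidHom, MulAut.conj_apply, hg.PG_xG ok hr]
  exact ok.xG_mem_group _ _

theorem PG_pow_k : (hg.PG (F := F)) ^ g.k = 1 :=
  Units.ext (by rw [Units.val_pow_eq_pow_val]; exact hg.mat_pow_k)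

/-- The automorphism of the group. -/
theorem exists_graphAut : ∃ α : ↥(D.group F) ≃* ↥(D.group F),
    ∀ (x : ↥(D.group F)) (r : ℕ) (t : F), r < D.nroots → ((x : GL D.Idx F) : Matrix D.Idx D.Idx F) = D.x F r t →
      ((α x : GL D.Idx F) : Matrix D.Idx D.Idx F) = D.x F (g.per r) ((g.sgn r : F) * t) := by
  have hpow : ∀ (j : ℕ) {x : GL D.Idx F}, x ∈ D.group F → hg.PG ^ j * x * (hg.PG ^ j)⁻¹ ∈ D.group F := by
    intro j
    induction j with
    | zero => intro x hx; simpa using hx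
    | succ j ih =>
      intro x hx
      have := hg.PG_mem_group ok (ih hx)
      rw [pow_succ']
      simpa [mul_assoc] using this
  have hinv : ∀ {x : GL D.Idx F}, x ∈ D.group F → (hg.PG : GL D.Idx F)⁻¹ * x * hg.PG ∈ D.group F := by
    intro x hx
    have e : (hg.PG : GL D.Idx F)⁻¹ = hg.PG ^ (g.k - 1) :=
      inv_eq_of_mul_eq_one_right (by rw [← pow_succ', Nat.sub_add_cancel hg.k_pos, hg.PG_pow_k ok])
    have := hpow (g.k - 1) hx
    rw [← e, inv_inv] at this
    exact this
  refine ⟨{ toFun := fun x => ⟨_, hg.PG_mem_group ok x.2⟩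
            invFun := fun x => ⟨_, hinv x.2⟩
            left_inv := fun x => Subtype.ext (by simp [mul_assoc])
            right_inv := fun x => Subtype.ext (by simp [mul_assoc])
            map_mul' := fun x y => Subtype.ext (by simp [mul_assoc]) }, fun x r t hr hx => ?_⟩
  show ((hg.PG * (x : GL D.Idx F) * hg.PG⁻¹ : GL D.Idx F) : Matrix D.Idx D.Idx F) = _
  rw [ok.eq_xG hx, hg.PG_xG ok hr]
  rfl

end GOK

end Cfsg.Agent.Chev
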