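import Cfsg.Agent.Lib.Chev.StPres
import Cfsg.Agent.Lib.Chev.Functorial

/-!
Graph automorphisms exchanging root lengths in characteristic two or three, from the presentation.
-/

set_option autoImplicit false

namespace Cfsg.Agent.Chev

open Cfsg.Lie

/-- The permutation of the roots and the exponents of an exceptional symmetry. -/
structure XTab where
  /-- images of the roots -/
  img : List ℕ
  /-- exponents -/
  ex : List ℕ

namespace XTab

variable (D : ChevalleyDatum) (T : Tabs) (p : ℕ) (g : XTab)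

/-- Image of a root. -/
def pi (r : ℕ) : ℕ := g.img.getD r 0

/-- Exponent at a root. -/
def e (r : ℕ) : ℕ := g.ex.getD r 1

/-- Commutator terms followed by the map, modulo the characteristic. -/
noncomputable def termA (r s : ℕ) : List (ℕ × ℤ × ℕ × ℕ) :=
  ((T.terms r s).map fun q => (g.pi q.1, (q.2.1 * (-1) ^ q.2.2.1) ^ g.e q.1 % (p : ℤ), q.2.2.1 * g.e q.1,
    q.2.2.2 * g.e q.1)).filter fun q => q.2.1 != 0

/-- Commutator terms of the images, modulo the characteristic. -/
noncomputable def termB (r s : ℕ) : List (ℕ × ℤ × ℕ × ℕ) :=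
  ((T.terms (g.pi r) (g.pi s)).map fun q => (q.1, q.2.1 * (-1) ^ q.2.2.1 % (p : ℤ), q.2.2.1 * g.e r,
    q.2.2.2 * g.e s)).filter fun q => q.2.1 != 0

/-- Two roots have commuting elements in this characteristic. -/
noncomputable def comB (x y : ℕ) : Bool :=
  x == y || (y != T.neg x && (T.terms x y).all fun q => q.2.1 % (p : ℤ) == 0)

/-- Facts on a root. -/
noncomputable def rootB (r : ℕ) : Bool :=
  decide (g.pi r < D.nroots) && (g.pi (g.pi r) == r) && (g.e r == 1 || g.e r == p) &&
    (g.e r * g.e (g.pi r) == p) && (g.pi (T.neg r) == T.neg (g.pi r))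

/-- Facts on a pair of roots. -/
noncomputable def pairB (r s : ℕ) : Bool :=
  s == r || s == T.neg r || ((g.termA T p r s).isPerm (g.termB T p r s) &&
    (g.termA T p r s).all fun x => decide (x.1 < D.nroots) && (g.termA T p r s).all fun y => comB T p x.1 y.1)

/-- All facts. -/
noncomputable def chk : Bool :=
  (List.range D.nroots).all fun r => g.rootB D T p r && (List.range D.nroots).all fun s => g.pairB D T p r s

end XTab

variable {D : ChevalleyDatum} {T : Tabs} {F : Type*} [Field F] (p : ℕ) [Fact p.Prime] [CharP F p]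

omit [Fact p.Prime] in
theorem cast_emod_char (a : ℤ) : ((a % (p : ℤ) : ℤ) : F) = (a : F) := by
  conv_rhs => rw [← Int.emod_add_mul_ediv a (p : ℤ)]
  simp [CharP.cast_eq_zero]

namespace OKX

variable (ok : OKX D T)

include ok

omit [Fact p.Prime] in
theorem com_of_comB {x y : ℕ} (hx : x < D.nroots) (hy : y < D.nroots) (h : XTab.comB T p x y = true) (a b : F) :
    Commute (ok.toOK.xG x a) (ok.toOK.xG y b) := by
  simp only [XTab.comB, Bool.or_eq_true, Bool.and_eq_true, beq_iff_eq, bne_iff_ne, List.all_eq_true] at h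
  by_cases e : x = y
  · subst e; exact (ok.toOK.xG_mul x a b).trans ((congrArg _ (add_comm a b)).trans (ok.toOK.xG_mul x b a).symm)
  obtain ⟨hn, hz⟩ := h.resolve_left e
  have h1 := ok.toOK.comm (F := F) hx hy (Ne.symm e) (by rwa [ok.toOK.neg_eq hx]) a b
  have h2 : D.wordMat F (D.commWord F x y a b) = 1 := by
    rw [← ok.toOK.coe_wordG, OK.wordG, ← Units.val_one]
    congr 1
    refine List.prod_eq_one fun z hz' => ?_
    simp only [ChevalleyDatum.commWord, ok.toOK.terms_eq hx hy, List.map_map, List.mem_map] at hz'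
    obtain ⟨q, hq, rfl⟩ := hz'
    have h0 : (q.2.1 : F) = 0 := by rw [← cast_emod_char p, hz q hq, Int.cast_zero]
    simp only [Function.comp_apply, h0, zero_mul, ok.toOK.xG_zero]
  rw [h2, mul_one] at h1
  refine Units.ext ?_
  rw [Units.val_mul, Units.val_mul, OK.coe_xG, OK.coe_xG]
  exact h1.symm

omit [Fact p.Prime] in
theorem filter_terms_prod (L : List (ℕ × ℤ × ℕ × ℕ)) (t u : F) :
    ((L.filter fun q => q.2.1 != 0).map fun q => ok.toOK.xG q.1 ((q.2.1 : F) * t ^ q.2.2.1 * u ^ q.2.2.2)).prod =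
      (L.map fun q => ok.toOK.xG q.1 ((q.2.1 : F) * t ^ q.2.2.1 * u ^ q.2.2.2)).prod := by
  induction L with
  | nil => rfl
  | cons q L ih =>
    by_cases h : q.2.1 = 0
    · rw [List.filter_cons_of_neg (by simp [h]), List.map_cons, List.prod_cons, ih, h, Int.cast_zero, zero_mul,
        zero_mul, ok.toOK.xG_zero, one_mul]
    · rw [List.filter_cons_of_pos (by simp [h]), List.map_cons, List.prod_cons, List.map_cons, List.prod_cons, ih]

theorem exc_rels {g : XTab} (hg : g.chk D T p = true) {w : FreeGroup (Fin D.nroots × F)}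
    (hw : w ∈ D.steinbergRelsAB F) :
    FreeGroup.lift (fun q => ok.toOK.xG (g.pi q.1) (q.2 ^ g.e q.1)) w = 1 := by
  simp only [XTab.chk, List.all_eq_true, List.mem_range, Bool.and_eq_true] at hg
  set L := FreeGroup.lift (fun q : Fin D.nroots × F => ok.toOK.xG (g.pi q.1) (q.2 ^ g.e q.1))
  have hX : ∀ (r : ℕ) (t : F), r < D.nroots → L (D.stX r t) = ok.toOK.xG (g.pi r) (t ^ g.e r) := by
    intro r t hr
    rw [ChevalleyDatum.stX, dif_pos hr, FreeGroup.lift_apply_of]
  have hroot : ∀ r < D.nroots, g.pi r < D.nroots ∧ g.pi (g.pi r) = r ∧ (g.e r = 1 ∨ g.e r = p) ∧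
      g.pi (T.neg r) = T.neg (g.pi r) := by
    intro r hr
    have := (hg r hr).1
    simp only [XTab.rootB, Bool.and_eq_true, Bool.or_eq_true, beq_iff_eq, decide_eq_true_iff] at this
    exact ⟨this.1.1.1.1, this.1.1.1.2, this.1.1.2, this.2⟩
  rcases hw with ⟨r, a, b, hr, rfl⟩ | ⟨r, s, a, b, hr, hs, h1, h2, rfl⟩
  · rw [map_mul, map_mul, map_inv, hX _ _ hr, hX _ _ hr, hX _ _ hr, ok.toOK.xG_mul, mul_inv_eq_one]
    congr 1
    rcases (hroot r hr).2.2.1 with e | e <;> rw [e]
    · simp
    · exact (add_pow_char a b p).symm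
  · obtain ⟨hr1, hr2, -, hr4⟩ := hroot r hr
    obtain ⟨hs1, hs2, -, -⟩ := hroot s hs
    rw [ok.toOK.neg_eq hr] at h2
    have g1 : g.pi s ≠ g.pi r := fun e => h1 (by rw [← hs2, e, hr2])
    have g2 : g.pi s ≠ T.neg (g.pi r) := by
      rw [← hr4]
      intro e
      refine h2 ?_
      rw [← hs2, e, (hroot _ (ok.toOK.neg_lt hr)).2.1]
    have hp := (hg r hr).2 s hs
    simp only [XTab.pairB, Bool.or_eq_true, beq_iff_eq, h1, h2, false_or, Bool.and_eq_true, List.isPerm_iff,
      List.all_eq_true, decide_eq_true_iff] at hp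
    obtain ⟨hperm, hcom⟩ := hp
    let f : ℕ × ℤ × ℕ × ℕ → GL D.Idx F := fun q => ok.toOK.xG q.1 ((q.2.1 : F) * a ^ q.2.2.1 * b ^ q.2.2.2)
    have e1 : L (D.stWord (D.commWord F r s a b)) = ((g.termA T p r s).map f).prod := by
      rw [ChevalleyDatum.stWord, map_list_prod, XTab.termA, ok.filter_terms_prod, ChevalleyDatum.commWord,
        ok.toOK.terms_eq hr hs, List.map_map, List.map_map, List.map_map]
      refine congrArg List.prod (List.map_congr_left fun q hq => ?_)
      simp only [Function.comp_apply, hX _ _ (ok.toOK.term_spec hr hs hq).1, cast_emod_char]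
      congr 1
      rw [neg_pow a]
      simp only [Int.cast_pow, Int.cast_mul, Int.cast_neg, Int.cast_one, mul_pow, ← pow_mul]
      ring
    have e2 : ok.toOK.wordG (D.commWord F (g.pi r) (g.pi s) (a ^ g.e r) (b ^ g.e s)) =
        ((g.termB T p r s).map f).prod := by
      rw [OK.wordG, XTab.termB, ok.filter_terms_prod, ChevalleyDatum.commWord, ok.toOK.terms_eq hr1 hs1,
        List.map_map, List.map_map]
      refine congrArg List.prod (List.map_congr_left fun q _ => ?_)
      simp only [Function.comp_apply, cast_emod_char]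
      congr 1
      rw [Int.cast_mul, Int.cast_pow, Int.cast_neg, Int.cast_one, neg_pow, ← pow_mul, ← pow_mul,
        mul_comm (g.e r), mul_comm (g.e s)]
      ring
    have e3 : ((g.termA T p r s).map f).prod = ((g.termB T p r s).map f).prod := by
      refine (hperm.map f).prod_eq' (List.pairwise_map.mpr ?_)
      exact List.pairwise_of_forall_mem_list fun x hx y hy =>
        ok.com_of_comB p (hcom x hx).1 (hcom y hy).1 ((hcom x hx).2 y hy) _ _
    have e4 : ok.toOK.xG (g.pi s) (b ^ g.e s) * ok.toOK.xG (g.pi r) (a ^ g.e r) =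
        ok.toOK.xG (g.pi r) (a ^ g.e r) * ok.toOK.xG (g.pi s) (b ^ g.e s) *
          ok.toOK.wordG (D.commWord F (g.pi r) (g.pi s) (a ^ g.e r) (b ^ g.e s)) := by
      refine Units.ext ?_
      rw [Units.val_mul, Units.val_mul, Units.val_mul, OK.coe_wordG]
      exact ok.toOK.comm hr1 hs1 g1 (by rwa [ok.toOK.neg_eq hr1]) _ _
    simp only [map_mul, map_inv, hX _ _ hr, hX _ _ hs, e1, e3, ← e2]
    rw [mul_assoc (_ * _) (ok.toOK.xG (g.pi s) (b ^ g.e s)), e4]
    simp [mul_assoc]

/-- The automorphism attached to the table over a perfect field. -/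
theorem exists_excAut {g : XTab} (hg : g.chk D T p = true) (hdn : Tabs.chkDn D T = true)
    (hwit : Tabs.chkWit D T = true) {M : List (List (ℕ × ℤ))} (hM : Tabs.chkCow D T M = true)
    (hperf : ∀ x : F, ∃ y : F, y ^ p = x) :
    ∃ α : ↥(D.group F) ≃* ↥(D.group F), ∀ (x : ↥(D.group F)) (r : ℕ) (t : F), r < D.nroots →
      ((x : GL D.Idx F) : Matrix D.Idx D.Idx F) = D.x F r t →
      ((α x : GL D.Idx F) : Matrix D.Idx D.Idx F) = D.x F (g.pi r) (t ^ g.e r) := by
  classical
  have hroot : ∀ r < D.nroots, g.pi r < D.nroots ∧ g.pi (g.pi r) = r ∧ (g.e r = 1 ∨ g.e r = p) ∧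
      g.e r * g.e (g.pi r) = p := by
    intro r hr
    simp only [XTab.chk, List.all_eq_true, List.mem_range, Bool.and_eq_true] at hg
    have := (hg r hr).1
    simp only [XTab.rootB, Bool.and_eq_true, Bool.or_eq_true, beq_iff_eq, decide_eq_true_iff] at this
    exact ⟨this.1.1.1.1, this.1.1.1.2, this.1.1.2, this.1.2⟩
  have st := ok.presented_hyp (R := D.steinbergRelsAB F) subset_rfl hdn hwit ok.scHom fun r hr t => ok.scHom_gen hr t
  let ρ : D.SteinbergCover F →* GL D.Idx F := PresentedGroup.toGroup fun _ hw => ok.exc_rels p hg hw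
  have hρ : ∀ r < D.nroots, ∀ t : F, ρ (PresentedGroup.mk _ (D.stX r t)) = ok.toOK.xG (g.pi r) (t ^ g.e r) := by
    intro r hr t
    rw [ChevalleyDatum.stX, dif_pos hr]
    exact PresentedGroup.toGroup.of _
  have hgrp : D.group F ≤ ρ.range := ok.toOK.group_le fun r hr t => by
    obtain ⟨h1, h2, h3, -⟩ := hroot r hr
    obtain ⟨y, hy⟩ : ∃ y : F, y ^ g.e (g.pi r) = t := by
      rcases (hroot _ h1).2.2.1 with e | e <;> rw [e]
      · exact ⟨t, pow_one t⟩
      · exact hperf t
    exact ⟨_, by rw [hρ _ h1 y, h2, hy]⟩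
  have hmem : ∀ z, ρ z ∈ D.group F := by
    intro z
    have hz : z ∈ Subgroup.closure {x | ∃ (r : ℕ) (t : F), r < D.nroots ∧
        x = PresentedGroup.mk (D.steinbergRelsAB F) (D.stX r t)} := by rw [st.gen]; exact Subgroup.mem_top z
    induction hz using Subgroup.closure_induction with
    | mem x hx => obtain ⟨r, t, hr, rfl⟩ := hx; rw [hρ r hr]; exact ok.toOK.xG_mem_group _ _
    | one => rw [map_one]; exact one_mem _
    | mul a b _ _ ha hb => rw [map_mul]; exact mul_mem ha hb
    | inv a _ ha => rw [map_inv]; exact inv_mem ha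
  let ρ' : D.SteinbergCover F →* ↥(D.group F) := ρ.codRestrict _ hmem
  have hsurj : Function.Surjective ρ' := fun x => by
    obtain ⟨z, hz⟩ := hgrp x.2
    exact ⟨z, Subtype.ext hz⟩
  have hker : st.toGrp.ker ≤ ρ'.ker := by
    rw [st.ker_toGrp, st.ker_eq_center hM]
    intro z hz
    rw [MonoidHom.mem_ker, ← Subgroup.mem_bot, ← ok.center_group_bot hM, Subgroup.mem_center_iff]
    intro x
    obtain ⟨w, rfl⟩ := hsurj x
    rw [← map_mul, ← map_mul, Subgroup.mem_center_iff.mp hz w]
  let a : ↥(D.group F) →* ↥(D.group F) := st.toGrp.liftOfSurjective st.toGrp_surjective ⟨ρ', hker⟩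
  have ha : ∀ w, a (st.toGrp w) = ρ' w := fun w =>
    MonoidHom.liftOfRightInverse_comp_apply _ _ _ _ w
  have hax : ∀ r < D.nroots, ∀ t : F,
      (a ⟨ok.toOK.xG r t, ok.toOK.xG_mem_group r t⟩ : GL D.Idx F) = ok.toOK.xG (g.pi r) (t ^ g.e r) := by
    intro r hr t
    have e : (⟨ok.toOK.xG r t, ok.toOK.xG_mem_group r t⟩ : ↥(D.group F)) =
        st.toGrp (PresentedGroup.mk _ (D.stX r t)) := Subtype.ext (st.map_y r hr t).symm
    rw [e, ha]
    exact hρ r hr t
  have hsq : ∀ x : ↥(D.group F), ((a (a x) : ↥(D.group F)) : GL D.Idx F) = mapG (frobenius F p) D x := by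
    have hle : D.group F ≤ (((D.group F).subtype.comp (a.comp a)).eqLocus
        ((mapG (frobenius F p) D).comp (D.group F).subtype)).map (D.group F).subtype := by
      refine ok.toOK.group_le fun r hr t => ?_
      refine ⟨⟨_, ok.toOK.xG_mem_group r t⟩, ?_, rfl⟩
      show (a (a _) : GL D.Idx F) = mapG (frobenius F p) D (ok.toOK.xG r t)
      obtain ⟨h1, h2, -, h4⟩ := hroot r hr
      have e : a ⟨ok.toOK.xG r t, ok.toOK.xG_mem_group r t⟩ =
          ⟨ok.toOK.xG (g.pi r) (t ^ g.e r), ok.toOK.xG_mem_group _ _⟩ := Subtype.ext (hax r hr t)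
      rw [e, hax _ h1, h2, ok.toOK.mapG_xG, ← pow_mul, h4, frobenius_def]
    intro x
    obtain ⟨z, hz, hzx⟩ := hle x.2
    obtain rfl : z = x := Subtype.ext hzx
    exact hz
  have hbij : Function.Bijective a := ⟨fun x y e => Subtype.ext (mapG_injective (frobenius F p) D
      (by rw [← hsq, ← hsq, e])), fun x => by
    obtain ⟨w, hw⟩ := hsurj x
    exact ⟨st.toGrp w, by rw [ha, hw]⟩⟩
  refine ⟨MulEquiv.ofBijective a hbij, fun x r t hr hx => ?_⟩
  have e : x = ⟨ok.toOK.xG r t, ok.toOK.xG_mem_group r t⟩ := Subtype.ext (ok.toOK.eq_xG hx)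
  rw [e, MulEquiv.ofBijective_apply, hax r hr t]
  rfl

end OKX

end Cfsg.Agent.Chev
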