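import Cfsg.Agent.Lib.Chev.ChevAutD
import Cfsg.Agent.Lib.Chev.GraphExc
import Cfsg.Agent.Lib.Chev.Graph

/-!
The diagonal and graph automorphisms in the form used for the order of the outer automorphism group.
-/

set_option autoImplicit false

namespace Cfsg.Agent.Chev

open Cfsg.Lie

namespace Tabs

variable (D : ChevalleyDatum) (T : Tabs)

/-- The coroot coefficients add along root addition. -/
noncomputable def chkCorAdd : Bool :=
  allR D.nroots fun r => allR D.nroots fun s => @Option.rec ℕ (fun _ => Bool) true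
    (fun k => allR D.rank fun i => ieq (T.cC k i) (Int.add (T.cC r i) (T.cC s i))) (T.cRoot D r s 1)

end Tabs

/-- The symmetry keeps signs of roots and has the stated effect on the fundamental roots. -/
noncomputable def XTab.chkSign (D : ChevalleyDatum) (T : Tabs) (g : XTab) (s e : List ℕ) : Bool :=
  ((List.range D.nroots).all fun r => decide (g.pi r < D.nroots) &&
    decide (0 < T.htf (g.pi r)) == decide (0 < T.htf r)) &&
  (List.range D.rank).all fun i => g.pi (T.smp i) == T.smp (s.getD i 0) &&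
    g.pi (T.neg (T.smp i)) == T.neg (T.smp (s.getD i 0)) && g.e (T.smp i) == e.getD i 1 &&
    g.e (T.neg (T.smp i)) == e.getD i 1

variable {F : Type*} [Field F] {D : ChevalleyDatum} {T : Tabs} (ok : OKX D T)

namespace OKX

include ok

/-- Diagonal automorphisms are inner when the torus map has trivial kernel. -/
theorem diag_inner [Fintype F] (hker : (monoMap (G := Fˣ) (OK.torMat D T)).ker = ⊥) (c : Fin D.rank → Fˣ) :
    ∃ δ : MulAut ↥(D.group F), FixUV D δ ∧ Acts ok δ id fun i t => OK.param c i * t := by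
  obtain ⟨u, hu⟩ := (Finite.injective_iff_surjective.mp ((MonoidHom.ker_eq_bot_iff _).mp hker)) c
  refine ⟨_, ?_, (ok.tor_conj_acts u).congr (fun _ _ => rfl) fun i _ t => by rw [hu]⟩
  exact ok.fixUV_of_roots (π := id) (g := fun r t => (∏ i ∈ Finset.range D.rank, OK.param u i ^ T.cA i r) * t)
    (fun r hr => ⟨hr, Iff.rfl⟩) fun r hr t => ok.tor_conj_el u hr t

/-- Diagonal automorphisms from characters of the root lattice. -/
theorem diag_char [Fintype F] (hc : T.chkChain D = true) (ha : T.chkCorAdd D = true) (c : Fin D.rank → Fˣ) :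
    ∃ δ : MulAut ↥(D.group F), FixUV D δ ∧ Acts ok δ id fun i t => OK.param c i * t := by
  classical
  simp only [Tabs.chkCorAdd, allR_iff] at ha
  let χ : ℕ → Fˣ := fun r => ∏ i : Fin D.rank, c i ^ T.cC r i
  have hneg : ∀ r < D.nroots, χ (T.neg r) = (χ r)⁻¹ := by
    intro r hr
    have h := ok.toOK.root r hr
    simp only [Tabs.chkRoot, andR_iff, allR_iff, ieq_iff] at h
    simp only [χ, ← Finset.prod_inv_distrib, ← zpow_neg]
    refine Finset.prod_congr rfl fun i _ => ?_
    rw [(h.2.2.2.2.2.2.2.1 i i.isLt).2]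
    rfl
  have hχ : D.IsRootCharacter χ := by
    refine ⟨fun r hr => by rw [ok.toOK.neg_eq hr]; exact hneg r hr, fun r s k hr hs hk => ?_⟩
    rw [ok.toOK.chainRoot_eq] at hk
    have h := ha r hr s hs
    rw [hk] at h
    simp only [allR_iff, ieq_iff] at h
    simp only [χ, ← Finset.prod_mul_distrib, ← zpow_add]
    exact Finset.prod_congr rfl fun i _ => by rw [h i i.isLt]; rfl
  let P : GL D.Idx F := ⟨D.charDiag F χ, D.charDiag F fun s => (χ s)⁻¹, by
    rw [ChevalleyDatum.charDiag, ChevalleyDatum.charDiag, Matrix.diagonal_mul_diagonal, ← Matrix.diagonal_one]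
    congr 1; funext a; rcases a with a | a <;> simp, by
    rw [ChevalleyDatum.charDiag, ChevalleyDatum.charDiag, Matrix.diagonal_mul_diagonal, ← Matrix.diagonal_one]
    congr 1; funext a; rcases a with a | a <;> simp⟩
  have hP : ∀ r < D.nroots, ∀ t, P * ok.toOK.xG r t * P⁻¹ = ok.toOK.xG r ((χ r : F) * t) := fun r hr t =>
    Units.ext (by rw [Units.val_mul, Units.val_mul, OK.coe_xG, OK.coe_xG]; exact ok.toOK.charDiag_conj hc hχ hr t)
  have hmem : ∀ x ∈ D.group F, P * x * P⁻¹ ∈ D.group F := by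
    have hle : D.group F ≤ (D.group F).comap (MulAut.conj P).toMonoidHom := ok.toOK.group_le fun r hr t => by
      rw [Subgroup.mem_comap, MulEquiv.coe_toMonoidHom, MulAut.conj_apply, hP r hr]
      exact ok.toOK.xG_mem_group _ _
    exact fun x hx => hle hx
  have hmem' : ∀ x ∈ D.group F, P⁻¹ * x * P ∈ D.group F := by
    have hle : D.group F ≤ (D.group F).comap (MulAut.conj P⁻¹).toMonoidHom := ok.toOK.group_le fun r hr t => by
      rw [Subgroup.mem_comap, MulEquiv.coe_toMonoidHom, MulAut.conj_apply, inv_inv]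
      have e := hP r hr ((χ r : F)⁻¹ * t)
      rw [mul_inv_cancel_left₀ (χ r).ne_zero] at e
      rw [← e, show P⁻¹ * (P * ok.toOK.xG r ((χ r : F)⁻¹ * t) * P⁻¹) * P =
        ok.toOK.xG r ((χ r : F)⁻¹ * t) by simp [mul_assoc]]
      exact ok.toOK.xG_mem_group _ _
    exact fun x hx => by simpa using hle hx
  let δ : MulAut ↥(D.group F) :=
    { toFun := fun x => ⟨_, hmem x x.2⟩
      invFun := fun x => ⟨_, hmem' x x.2⟩
      left_inv := fun x => Subtype.ext (by simp [mul_assoc])
      right_inv := fun x => Subtype.ext (by simp [mul_assoc])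
      map_mul' := fun x y => Subtype.ext (by simp [mul_assoc]) }
  have hδ : ∀ r < D.nroots, ∀ t, δ (ok.el r t) = ok.el r ((χ r : F) * t) := fun r hr t => Subtype.ext (hP r hr t)
  refine ⟨δ, ok.fixUV_of_roots (π := id) (g := fun r t => (χ r : F) * t) (fun r hr => ⟨hr, Iff.rfl⟩) hδ,
    fun i hi t => ?_⟩
  have hsimp : χ (T.smp i) = c ⟨i, hi⟩ := by
    simp only [χ]
    rw [Finset.prod_eq_single (⟨i, hi⟩ : Fin D.rank), ok.toOK.cC_smp hi hi, if_pos rfl, zpow_one]
    · intro j _ hne
      rw [ok.toOK.cC_smp hi j.isLt, if_neg (fun e => hne (Fin.ext e)), zpow_zero]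
    · intro h; exact absurd (Finset.mem_univ _) h
  simp only [OK.param, dif_pos hi, id]
  refine ⟨by rw [hδ _ (ok.toOK.smp_lt hi), hsimp], ?_⟩
  rw [hδ _ (ok.toOK.neg_lt (ok.toOK.smp_lt hi)), hneg _ (ok.toOK.smp_lt hi), hsimp, Units.val_inv_eq_inv_val,
    mul_inv, inv_inv]

/-- The identity as a graph automorphism. -/
theorem gam_one {s e : ℕ → ℕ} (hs : ∀ i < D.rank, s i = i) (he : ∀ i < D.rank, e i = 1) :
    ∃ γ : MulAut ↥(D.group F), FixUV D γ ∧ Acts ok γ s fun i t => t ^ e i :=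
  ⟨1, fun _ => ⟨Iff.rfl, Iff.rfl⟩, fun i hi t => by simp [hs i hi, he i hi]⟩

/-- Graph automorphisms from symmetries of the table. -/
theorem gam_graph [Fintype F] {g : GTab} (hg : GOK D T g) {s e : ℕ → ℕ} (hs : ∀ i < D.rank, s i = g.psi i)
    (he : ∀ i < D.rank, e i = 1) : ∃ γ : MulAut ↥(D.group F), FixUV D γ ∧ Acts ok γ s fun i t => t ^ e i := by
  obtain ⟨α, hα⟩ := hg.exists_graphAut ok.toOK (F := F)
  have hel : ∀ r < D.nroots, ∀ t, α (ok.el r t) = ok.el (g.per r) ((g.sgn r : F) * t) := fun r hr t =>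
    Subtype.ext (Units.ext ((hα _ r t hr (ok.toOK.coe_xG r t)).trans (ok.toOK.coe_xG _ _).symm))
  refine ⟨α, ok.fixUV_of_roots (π := g.per) (fun r hr => ⟨hg.per_lt hr, by rw [(hg.root_facts hr).2.2.2.2.1]⟩) hel,
    fun i hi t => ?_⟩
  obtain ⟨-, h1, h2, -⟩ := hg.simple_facts hi
  have hp := ok.toOK.smp_lt hi
  obtain ⟨-, -, h3, h4, -⟩ := hg.root_facts hp
  rw [hs i hi]
  simp only [he i hi, pow_one, inv_inv]
  exact ⟨by rw [hel _ hp, h1, h2, Int.cast_one, one_mul],
    by rw [hel _ (ok.toOK.neg_lt hp), h3, h4, h1, h2, Int.cast_one, one_mul]⟩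

/-- Graph automorphisms exchanging root lengths. -/
theorem gam_exc [Fintype F] (p : ℕ) [Fact p.Prime] [CharP F p] {g : XTab} (hg : g.chk D T p = true)
    (hdn : Tabs.chkDn D T = true) (hwit : Tabs.chkWit D T = true) {M : List (List (ℕ × ℤ))}
    (hM : Tabs.chkCow D T M = true) {sl el' : List ℕ} (hsg : g.chkSign D T sl el' = true) :
    ∃ γ : MulAut ↥(D.group F), FixUV D γ ∧
      Acts ok γ (fun i => sl.getD i 0) fun i t => t ^ el'.getD i 1 := by
  have : Finite F := inferInstance
  obtain ⟨α, hα⟩ := ok.exists_excAut p hg hdn hwit hM (bijective_frobenius F p).2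
  have hel : ∀ r < D.nroots, ∀ t, α (ok.el r t) = ok.el (g.pi r) (t ^ g.e r) := fun r hr t =>
    Subtype.ext (Units.ext ((hα _ r t hr (ok.toOK.coe_xG r t)).trans (ok.toOK.coe_xG _ _).symm))
  simp only [XTab.chkSign, Bool.and_eq_true, List.all_eq_true, List.mem_range, decide_eq_true_iff,
    beq_iff_eq, decide_eq_decide] at hsg
  refine ⟨α, ok.fixUV_of_roots (π := g.pi) (fun r hr => ⟨(hsg.1 r hr).1, (hsg.1 r hr).2.symm⟩) hel, fun i hi t => ?_⟩
  have hp := ok.toOK.smp_lt hi
  obtain ⟨⟨⟨h1, h2⟩, h3⟩, h4⟩ := hsg.2 i hi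
  exact ⟨by rw [hel _ hp, h1, h3],
    by rw [hel _ (ok.toOK.neg_lt hp), h2, h4]; simp only [inv_pow, inv_inv]⟩

/-- Classification in the form used for counting. -/
theorem cls [Fintype F] {w₀ : List ℕ} (hw₀ : T.chkLong D w₀ = true) (hopp : T.chkOpp D = true)
    {S : List (List ℕ × List ℕ)} {r₀ : ℕ} {L : List (ℕ × ℕ)} (hS : T.chkAutS D S r₀ L = true)
    {φ : MulAut ↥(D.group F)} (hφ : FixUV D φ) :
    ∃ x ∈ S, ∃ c : Fin D.rank → Fˣ, ∃ τ : F ≃+* F,
      (Acts ok φ (fun i => x.1.getD i 0) fun i t => OK.param c i * τ (t ^ x.2.getD i 1)) ∧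
      ∀ i < D.rank, ∀ u v : F, (u + v) ^ x.2.getD i 1 = u ^ x.2.getD i 1 + v ^ x.2.getD i 1 := by
  obtain ⟨σ, f, h⟩ := hφ.exists_spec ok hw₀ hopp
  obtain ⟨x, hx, τ, hσ, hf, hadd⟩ := h.classify hS
  refine ⟨x, hx, fun i => Units.mk0 (f i 1) (h.one_ne i.isLt), τ, h.acts.congr hσ fun i hi t => ?_, hadd⟩
  simp only [OK.param, dif_pos hi, Units.val_mk0]
  exact hf i hi t

end OKX

/-- The characteristic is the exponent when squaring or cubing is additive. -/
theorem char_of_pow_add (p m : ℕ) [Fact p.Prime] [CharP F p] [Fintype F] (hq : 3 ≤ Fintype.card F)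
    (hm : m = 2 ∨ m = 3) (h : ∀ u v : F, (u + v) ^ m = u ^ m + v ^ m) : p = m := by
  classical
  have hp : p.Prime := Fact.out
  rcases hm with rfl | rfl
  · have e : ((2 : ℕ) : F) = 0 := by have := h 1 1; push_cast; linear_combination this
    exact (Nat.prime_dvd_prime_iff_eq hp Nat.prime_two).mp ((CharP.cast_eq_zero_iff F p 2).mp e)
  · have e : ((2 * 3 : ℕ) : F) = 0 := by have := h 1 1; push_cast; linear_combination this
    rcases hp.dvd_mul.mp ((CharP.cast_eq_zero_iff F p _).mp e) with e | e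
    swap
    · exact (Nat.prime_dvd_prime_iff_eq hp Nat.prime_three).mp e
    have := (Nat.prime_dvd_prime_iff_eq hp Nat.prime_two).mp e
    subst this
    exfalso
    obtain ⟨x, hx⟩ : ∃ x : F, x ∉ ({0, 1} : Finset F) := by
      by_contra hc
      push Not at hc
      have := (Finset.card_le_card fun y (_ : y ∈ Finset.univ) => hc y).trans Finset.card_le_two
      rw [Finset.card_univ] at this
      omega
    simp only [Finset.mem_insert, Finset.mem_singleton, not_or] at hx
    have h2 : (2 : F) = 0 := CharTwo.two_eq_zero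
    have h1 : x * (x + 1) = 0 := by linear_combination h x 1 - (x * (x + 1)) * h2
    rcases mul_eq_zero.mp h1 with h1 | h1
    · exact hx.1 h1
    · exact hx.2 (CharTwo.add_eq_zero.mp h1)

end Cfsg.Agent.Chev
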