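import Cfsg.Agent.Lib.Chev.ChevAutE

/-! The order of the outer automorphism group from a list of symmetries. -/

set_option autoImplicit false

namespace Cfsg.Agent.Chev

open Cfsg.Lie

namespace OKX

variable {F : Type*} [Field F] {D : ChevalleyDatum} {T : Tabs} (ok : OKX D T)

include ok

/-- The order of the outer automorphism group, the available symmetries being a part of the checked list. -/
theorem card_out_list [Fintype F] (p f : ℕ) [Fact p.Prime] [CharP F p] (hF : Fintype.card F = p ^ f)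
    {w₀ : List ℕ} (hw₀ : T.chkLong D w₀ = true) (hopp : T.chkOpp D = true)
    {S S' : List (List ℕ × List ℕ)} {r₀ : ℕ} {L : List (ℕ × ℕ)} (hS : T.chkAutS D S r₀ L = true)
    (hsub : ∀ x ∈ S, (∀ i < D.rank, ∀ u v : F,
      (u + v) ^ x.2.getD i 1 = u ^ x.2.getD i 1 + v ^ x.2.getD i 1) → x ∈ S')
    (hwf : ∀ x ∈ S', (∀ i < D.rank, x.1.getD i 0 < D.rank) ∧
      (∀ i < D.rank, ∀ j < D.rank, x.1.getD i 0 = x.1.getD j 0 → i = j) ∧ ∃ i < D.rank, x.2.getD i 1 = 1)
    (hnd : ∀ a : Fin S'.length, ∀ b : Fin S'.length,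
      (∀ i < D.rank, S'[a.val].1.getD i 0 = S'[b.val].1.getD i 0) → a = b)
    (hdiag : ∀ c : Fin D.rank → Fˣ, ∃ δ : MulAut ↥(D.group F), FixUV D δ ∧
      Acts ok δ id fun i t => OK.param c i * t)
    (hgam : ∀ x ∈ S', ∃ γ : MulAut ↥(D.group F), FixUV D γ ∧
      Acts ok γ (fun i => x.1.getD i 0) fun i t => t ^ x.2.getD i 1) :
    Nat.card (Cfsg.Out ↥(D.group F)) = S'.length * Nat.card ↥(monoMap (G := Fˣ) (OK.torMat D T)).ker * f := by
  refine ok.card_out p f hF S'.length (fun k i => S'[k.val].1.getD i 0) (fun k i => S'[k.val].2.getD i 1)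
    (fun k => (hwf _ (List.getElem_mem _)).1) (fun k => (hwf _ (List.getElem_mem _)).2.1) hnd
    (fun k => (hwf _ (List.getElem_mem _)).2.2) hdiag (fun k => hgam _ (List.getElem_mem _)) fun φ hφ => ?_
  obtain ⟨x, hx, c, τ, h, hadd⟩ := ok.cls hw₀ hopp hS hφ
  obtain ⟨k, hk, rfl⟩ := List.mem_iff_getElem.mp (hsub x hx hadd)
  exact ⟨⟨k, hk⟩, c, τ, h⟩

end OKX

end Cfsg.Agent.Chev
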