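import Cfsg.Agent.Lib.Chev.ChevAutE

/-!
Diagonal, field and graph automorphisms as named kinds, and the data needed for the structure of the outer
automorphism group.
-/

set_option autoImplicit false

namespace Cfsg.Agent.Chev

open Cfsg.Lie

namespace Tabs

/-- The coefficient function is additive on the roots and standard on the fundamental ones. -/
noncomputable def chkChar (D : ChevalleyDatum) (T : Tabs) (a : ℕ → ℕ → ℤ) : Bool :=
  ((List.range D.nroots).all fun r => (List.range D.rank).all fun i => a (T.neg r) i == -(a r i)) &&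
  ((List.range D.rank).all fun j => (List.range D.rank).all fun i => a (T.smp j) i == if i = j then 1 else 0) &&
  (List.range D.nroots).all fun r => (List.range D.nroots).all fun s => (T.cRoot D r s 1).all fun k =>
    (List.range D.rank).all fun i => a k i == a r i + a s i

end Tabs

/-- The permutation is a symmetry of the diagram and the exponents are the prescribed ones. -/
def chkGraphData (D : ChevalleyDatum) (m : ℕ) (s e : List ℕ) : Bool :=
  ((List.range D.rank).all fun i => decide (s.getD i 0 < D.rank) &&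
    if D.isLong (D.simple (s.getD i 0)) && !D.isLong (D.simple i) then m != 0 && e.getD i 1 == m
    else e.getD i 1 == 1) &&
  (List.range D.rank).all fun i => (List.range D.rank).all fun j =>
    i == j || (D.bonds (s.getD i 0) (s.getD j 0) == D.bonds i j && s.getD i 0 != s.getD j 0)

variable {F : Type*} [Field F] {D : ChevalleyDatum} {T : Tabs} (ok : OKX D T)

namespace OKX

include ok

/-- A diagonal automorphism with given scalars on the fundamental root elements. -/
theorem exists_diag [Fintype F] (hc : T.chkChain D = true) {a : ℕ → ℕ → ℤ} (ha : T.chkChar D a = true)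
    (c : Fin D.rank → Fˣ) :
    ∃ δ : MulAut ↥(D.group F), D.IsDiagonalAut δ ∧ FixUV D δ ∧ Acts ok δ id fun i t => OK.param c i * t := by
  classical
  simp only [Tabs.chkChar, Bool.and_eq_true, List.all_eq_true, List.mem_range, beq_iff_eq] at ha
  obtain ⟨⟨hn, hs⟩, hadd⟩ := ha
  let χ : ℕ → Fˣ := fun r => ∏ i : Fin D.rank, c i ^ a r i
  have hneg : ∀ r < D.nroots, χ (T.neg r) = (χ r)⁻¹ := by
    intro r hr
    simp only [χ, ← Finset.prod_inv_distrib, ← zpow_neg]
    exact Finset.prod_congr rfl fun i _ => by rw [hn r hr i i.isLt]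
  have hχ : D.IsRootCharacter χ := by
    refine ⟨fun r hr => by rw [ok.toOK.neg_eq hr]; exact hneg r hr, fun r s k hr hs' hk => ?_⟩
    rw [ok.toOK.chainRoot_eq] at hk
    have h := hadd r hr s hs'
    rw [hk] at h
    simp only [Option.all_some, List.all_eq_true, List.mem_range, beq_iff_eq] at h
    simp only [χ, ← Finset.prod_mul_distrib, ← zpow_add]
    exact Finset.prod_congr rfl fun i _ => by rw [h i i.isLt]
  let P : GL D.Idx F := ⟨D.charDiag F χ, D.charDiag F fun s => (χ s)⁻¹, by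
    rw [ChevalleyDatum.charDiag, ChevalleyDatum.charDiag, Matrix.diagonal_mul_diagonal, ← Matrix.diagonal_one]
    congr 1; funext b; rcases b with b | b <;> simp, by
    rw [ChevalleyDatum.charDiag, ChevalleyDatum.charDiag, Matrix.diagonal_mul_diagonal, ← Matrix.diagonal_one]
    congr 1; funext b; rcases b with b | b <;> simp⟩
  have hP : ∀ r < D.nroots, ∀ t, P * ok.toOK.xG r t * P⁻¹ = ok.toOK.xG r ((χ r : F) * t) := fun r hr t =>
    Units.ext (by rw [Units.val_mul, Units.val_mul, OK.coe_xG, OK.coe_xG]; exact ok.toOK.charDiag_conj hc hχ hr t)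
  have hmem : ∀ x ∈ D.group F, P * x * P⁻¹ ∈ D.group F := by
    have hle : D.group F ≤ (D.group F).comap (MulAut.conj P).toMonoidHom := ok.toOK.group_le fun r hr t => by
      rw [Subgroup.mem_comap, MulEquiv.coe_toMonoidHom, MulAut.conj_apply, hP r hr]
      exact ok.toOK.xG_mem_group _ _
    exact fun x hx => hle hx
  have hmem' : ∀ x ∈ D.group F, P⁻¹ * x * P ∈ D.group F := by
    have hle : D.group F ≤ (D.group F).comap (MulAut.conj P⁻¹).toMonoidHom := ok.toOK.group_le fun r hr t => by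
      rw [Subgroup.mem_comap, MulEquiv.coe_toMonoidHom, MulAut.conj_apply, inv_inv]
      have e := hP r hr ((χ r : F)⁻¹ * t)
      rw [mul_inv_cancel_left₀ (χ r).ne_zero] at e
      rw [← e, show P⁻¹ * (P * ok.toOK.xG r ((χ r : F)⁻¹ * t) * P⁻¹) * P =
        ok.toOK.xG r ((χ r : F)⁻¹ * t) by simp [mul_assoc]]
      exact ok.toOK.xG_mem_group _ _
    exact fun x hx => by simpa using hle hx
  let δ : MulAut ↥(D.group F) :=
    { toFun := fun x => ⟨_, hmem x x.2⟩
      invFun := fun x => ⟨_, hmem' x x.2⟩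
      left_inv := fun x => Subtype.ext (by simp [mul_assoc])
      right_inv := fun x => Subtype.ext (by simp [mul_assoc])
      map_mul' := fun x y => Subtype.ext (by simp [mul_assoc]) }
  have hδ : ∀ r < D.nroots, ∀ t, δ (ok.el r t) = ok.el r ((χ r : F) * t) := fun r hr t => Subtype.ext (hP r hr t)
  refine ⟨δ, ⟨χ, hχ, fun g => rfl⟩,
    ok.fixUV_of_roots (π := id) (g := fun r t => (χ r : F) * t) (fun r hr => ⟨hr, Iff.rfl⟩) hδ, fun i hi t => ?_⟩
  have hsimp : χ (T.smp i) = c ⟨i, hi⟩ := by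
    simp only [χ]
    rw [Finset.prod_eq_single (⟨i, hi⟩ : Fin D.rank), hs i hi i hi, if_pos rfl, zpow_one]
    · intro j _ hne
      rw [hs i hi j j.isLt, if_neg (fun e => hne (Fin.ext e)), zpow_zero]
    · intro h; exact absurd (Finset.mem_univ _) h
  simp only [OK.param, dif_pos hi, id]
  refine ⟨by rw [hδ _ (ok.toOK.smp_lt hi), hsimp], ?_⟩
  rw [hδ _ (ok.toOK.neg_lt (ok.toOK.smp_lt hi)), hneg _ (ok.toOK.smp_lt hi), hsimp, Units.val_inv_eq_inv_val,
    mul_inv, inv_inv]

/-- Every diagonal automorphism scales the fundamental root elements. -/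
theorem acts_of_isDiag [Fintype F] (hc : T.chkChain D = true) {φ : MulAut ↥(D.group F)}
    (h : D.IsDiagonalAut φ) : ∃ c : Fin D.rank → Fˣ, FixUV D φ ∧ Acts ok φ id fun i t => OK.param c i * t := by
  obtain ⟨χ, hχ, hφ⟩ := h
  have hel : ∀ r < D.nroots, ∀ t, φ (ok.el r t) = ok.el r ((χ r : F) * t) := fun r hr t =>
    Subtype.ext (Units.ext (by
      rw [hφ, coe_el, coe_el, OK.coe_xG, OK.coe_xG]
      exact ok.toOK.charDiag_conj hc hχ hr t))
  refine ⟨fun i => χ (T.smp i), ok.fixUV_of_roots (π := id) (g := fun r t => (χ r : F) * t)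
    (fun r hr => ⟨hr, Iff.rfl⟩) hel, fun i hi t => ?_⟩
  have hp := ok.toOK.smp_lt hi
  simp only [OK.param, dif_pos hi, id]
  refine ⟨hel _ hp t, ?_⟩
  rw [hel _ (ok.toOK.neg_lt hp), ← ok.toOK.neg_eq hp, hχ.1 _ hp, Units.val_inv_eq_inv_val, mul_inv, inv_inv]

theorem fldA_isField (τ : F ≃+* F) : D.IsFieldAut (ok.fldA τ) := by
  refine ⟨τ, fun g r t hr hg => ?_⟩
  have e : g = ok.el r t := Subtype.ext (ok.toOK.eq_xG hg)
  rw [e, ok.fldA_el τ r t, coe_el, OK.coe_xG]

theorem eq_fldA_of_isField {φ : MulAut ↥(D.group F)} (h : D.IsFieldAut φ) : ∃ τ, φ = ok.fldA τ := by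
  obtain ⟨τ, hτ⟩ := h
  exact ⟨τ, MulEquiv.ext fun g => Subtype.ext (ok.toOK.fieldAut_eq hτ g)⟩

/-- Graph automorphisms as named. -/
theorem isGraph_of_acts {φ : MulAut ↥(D.group F)} {m : ℕ} {s e : List ℕ} (hm : m ≠ 0 → ringChar F = m)
    (hd : chkGraphData D m s e = true)
    (h : Acts ok φ (fun i => s.getD i 0) fun i t => t ^ e.getD i 1) : D.IsGraphAut φ := by
  simp only [chkGraphData, Bool.and_eq_true, List.all_eq_true, List.mem_range, decide_eq_true_iff,
    Bool.or_eq_true, beq_iff_eq, bne_iff_ne] at hd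
  obtain ⟨h1, h2⟩ := hd
  let π : Equiv.Perm (Fin D.rank) := Equiv.ofBijective (fun i => ⟨s.getD i 0, (h1 i i.isLt).1⟩)
    (Finite.injective_iff_bijective.mp fun a b e' => by
      by_contra hne
      exact ((h2 a a.isLt b b.isLt).resolve_left (fun e'' => hne (Fin.ext e''))).2 (congrArg Fin.val e'))
  refine ⟨π, fun i j hij => ((h2 i i.isLt j j.isLt).resolve_left fun e' => hij (Fin.ext e')).1, fun g i t => ?_⟩
  have hp := ok.toOK.smp_lt i.isLt
  have he : D.graphExp (ringChar F) i (π i) = e.getD i 1 := by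
    have h3 := (h1 i i.isLt).2
    show (if D.isLong (D.simple (s.getD i 0)) && !D.isLong (D.simple i) then ringChar F else 1) = _
    split_ifs with hc
    · rw [if_pos (by simpa using hc)] at h3
      simp only [Bool.and_eq_true, bne_iff_ne, beq_iff_eq] at h3
      rw [hm h3.1, h3.2]
    · rw [if_neg (by simpa using hc), beq_iff_eq] at h3
      rw [h3]
  obtain ⟨ha, hb⟩ := h i i.isLt t
  rw [he, ok.toOK.simple_eq i.isLt, ok.toOK.simple_eq (π i).isLt, ok.toOK.neg_eq hp,
    ok.toOK.neg_eq (ok.toOK.smp_lt (π i).isLt)]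
  refine ⟨fun hg => ?_, fun hg => ?_⟩
  · rw [show g = ok.el (T.smp i) t from Subtype.ext (ok.toOK.eq_xG hg), ha]
    exact ok.toOK.coe_xG _ _
  · rw [show g = ok.el (T.neg (T.smp i)) t from Subtype.ext (ok.toOK.eq_xG hg), hb]
    simp only [inv_pow, inv_inv]
    exact ok.toOK.coe_xG _ _

end OKX

/-- The facts from which the structure of the outer automorphism group follows. -/
structure AutHyp (ok : OKX D T) (F : Type*) [Field F] (S : List (List ℕ × List ℕ)) : Prop where
  chain : T.chkChain D = true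
  lt : ∀ a : Fin S.length, ∀ i < D.rank, S[a.val].1.getD i 0 < D.rank
  inj : ∀ a : Fin S.length, ∀ i < D.rank, ∀ j < D.rank, S[a.val].1.getD i 0 = S[a.val].1.getD j 0 → i = j
  nd : ∀ a b : Fin S.length, (∀ i < D.rank, S[a.val].1.getD i 0 = S[b.val].1.getD i 0) → a = b
  diag : ∀ c : Fin D.rank → Fˣ, ∃ δ : MulAut ↥(D.group F), D.IsDiagonalAut δ ∧ FixUV D δ ∧
    Acts ok δ id fun i t => OK.param c i * t
  gam : ∀ a : Fin S.length, ∃ γ : MulAut ↥(D.group F), D.IsGraphAut γ ∧ FixUV D γ ∧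
    Acts ok γ (fun i => S[a.val].1.getD i 0) fun i t => t ^ S[a.val].2.getD i 1
  cls : ∀ φ : MulAut ↥(D.group F), FixUV D φ → ∃ a : Fin S.length, ∃ c : Fin D.rank → Fˣ, ∃ τ : F ≃+* F,
    Acts ok φ (fun i => S[a.val].1.getD i 0) fun i t => OK.param c i * τ (t ^ S[a.val].2.getD i 1)
  size : S.length = 1 ∨ S.length = 2 ∨ (S.length = 6 ∧ ∃ a b : Fin S.length, ∃ i < D.rank,
    S[a.val].1.getD (S[b.val].1.getD i 0) 0 ≠ S[b.val].1.getD (S[a.val].1.getD i 0) 0)

/-- Every automorphism is inner times diagonal, graph and field automorphisms. -/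
theorem AutHyp.decomp [Fintype F] {ok : OKX D T} {S : List (List ℕ × List ℕ)} (H : AutHyp ok F S) (p : ℕ)
    [Fact p.Prime] [CharP F p] (θ : MulAut ↥(D.group F)) :
    ∃ (g : ↥(D.group F)) (δ γ : MulAut ↥(D.group F)) (τ : F ≃+* F), D.IsDiagonalAut δ ∧ D.IsGraphAut γ ∧
      MulAut.conj g * θ = δ * γ * ok.fldA τ := by
  classical
  obtain ⟨g, hg⟩ := ok.exists_fixUV p θ
  obtain ⟨a, c, τ, hc⟩ := H.cls _ hg
  obtain ⟨γ, hγ, -, hγ'⟩ := H.gam a
  let π : Fin D.rank ≃ Fin D.rank := Equiv.ofBijective (fun i => ⟨S[a.val].1.getD i 0, H.lt a i i.isLt⟩)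
    (Finite.injective_iff_bijective.mp fun x y e => Fin.ext (H.inj a x x.isLt y y.isLt (congrArg Fin.val e)))
  obtain ⟨δ, hδ, -, hδ'⟩ := H.diag fun l => c (π.symm l)
  refine ⟨g, δ, γ, τ, hδ, hγ, ?_⟩
  refine hc.unique (((hδ'.mul hγ' (H.lt a)).mul (ok.fldA_acts τ) (fun i hi => hi)).congr (fun _ _ => rfl) ?_)
  intro i hi t
  simp only [id, OK.param, dif_pos (H.lt a i hi), dif_pos hi, map_pow]
  congr 3
  exact π.symm_apply_apply ⟨i, hi⟩

end Cfsg.Agent.Chev
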