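import Cfsg.Agent.Lib.Chev.GraphSym
import Cfsg.Agent.Lib.Chev.LexD4

/-! All symmetries of the diagram of type D4, checked in the kernel. -/

set_option autoImplicit false
set_option maxRecDepth 100000

namespace Cfsg.Agent.Chev.D4

open Cfsg.Lie

def s0 : GTab where
  pr := (.node (0) (.node (1) (.node (3) (.node (7) (.node (15) .nil .nil) (.node (23) .nil .nil)) (.node (11) (.node (19) .nil .nil) .nil)) (.node (5) (.node (9) (.node (17) .nil .nil) .nil) (.node (13) (.node (21) .nil .nil) .nil))) (.node (2) (.node (4) (.node (8) (.node (16) .nil .nil) .nil) (.node (12) (.node (20) .nil .nil) .nil)) (.node (6) (.node (10) (.node (18) .nil .nil) .nil) (.node (14) (.node (22) .nil .nil) .nil))))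
  sg := (.node (1) (.node (1) (.node (1) (.node (1) (.node (1) .nil .nil) (.node (1) .nil .nil)) (.node (1) (.node (1) .nil .nil) .nil)) (.node (1) (.node (1) (.node (1) .nil .nil) .nil) (.node (1) (.node (1) .nil .nil) .nil))) (.node (1) (.node (1) (.node (1) (.node (1) .nil .nil) .nil) (.node (1) (.node (1) .nil .nil) .nil)) (.node (1) (.node (1) (.node (1) .nil .nil) .nil) (.node (1) (.node (1) .nil .nil) .nil))))
  ps := (.node (0) (.node (1) (.node (3) .nil .nil) .nil) (.node (2) .nil .nil))
  k := 1

theorem s0ok : GOK chevD4 T s0 := ⟨by decide +kernel⟩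

theorem s0uniq : T.chkUniq chevD4 s0 = true := by decide +kernel

def s1 : GTab where
  pr := (.node (0) (.node (1) (.node (6) (.node (4) (.node (15) .nil .nil) (.node (23) .nil .nil)) (.node (11) (.node (16) .nil .nil) .nil)) (.node (10) (.node (9) (.node (20) .nil .nil) .nil) (.node (18) (.node (21) .nil .nil) .nil))) (.node (2) (.node (7) (.node (8) (.node (19) .nil .nil) .nil) (.node (12) (.node (17) .nil .nil) .nil)) (.node (3) (.node (5) (.node (13) .nil .nil) .nil) (.node (14) (.node (22) .nil .nil) .nil))))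
  sg := (.node (1) (.node (1) (.node (-1) (.node (-1) (.node (1) .nil .nil) (.node (1) .nil .nil)) (.node (1) (.node (-1) .nil .nil) .nil)) (.node (1) (.node (1) (.node (-1) .nil .nil) .nil) (.node (1) (.node (1) .nil .nil) .nil))) (.node (1) (.node (-1) (.node (1) (.node (-1) .nil .nil) .nil) (.node (1) (.node (-1) .nil .nil) .nil)) (.node (-1) (.node (1) (.node (1) .nil .nil) .nil) (.node (1) (.node (1) .nil .nil) .nil))))
  ps := (.node (2) (.node (1) (.node (3) .nil .nil) .nil) (.node (0) .nil .nil))
  k := 2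

theorem s1ok : GOK chevD4 T s1 := ⟨by decide +kernel⟩

theorem s1uniq : T.chkUniq chevD4 s1 = true := by decide +kernel

def s2 : GTab where
  pr := (.node (0) (.node (1) (.node (3) (.node (7) (.node (19) .nil .nil) (.node (23) .nil .nil)) (.node (5) (.node (15) .nil .nil) .nil)) (.node (11) (.node (9) (.node (21) .nil .nil) .nil) (.node (13) (.node (17) .nil .nil) .nil))) (.node (6) (.node (8) (.node (4) (.node (16) .nil .nil) .nil) (.node (18) (.node (20) .nil .nil) .nil)) (.node (2) (.node (10) (.node (12) .nil .nil) .nil) (.node (14) (.node (22) .nil .nil) .nil))))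
  sg := (.node (1) (.node (1) (.node (1) (.node (1) (.node (-1) .nil .nil) (.node (1) .nil .nil)) (.node (1) (.node (-1) .nil .nil) .nil)) (.node (1) (.node (1) (.node (-1) .nil .nil) .nil) (.node (1) (.node (-1) .nil .nil) .nil))) (.node (-1) (.node (-1) (.node (-1) (.node (1) .nil .nil) .nil) (.node (1) (.node (1) .nil .nil) .nil)) (.node (-1) (.node (1) (.node (1) .nil .nil) .nil) (.node (1) (.node (1) .nil .nil) .nil))))
  ps := (.node (3) (.node (1) (.node (0) .nil .nil) .nil) (.node (2) .nil .nil))
  k := 2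

theorem s2ok : GOK chevD4 T s2 := ⟨by decide +kernel⟩

theorem s2uniq : T.chkUniq chevD4 s2 = true := by decide +kernel

def s3 : GTab where
  pr := (.node (0) (.node (1) (.node (2) (.node (8) (.node (16) .nil .nil) (.node (23) .nil .nil)) (.node (10) (.node (19) .nil .nil) .nil)) (.node (5) (.node (9) (.node (17) .nil .nil) .nil) (.node (12) (.node (20) .nil .nil) .nil))) (.node (3) (.node (4) (.node (7) (.node (15) .nil .nil) .nil) (.node (13) (.node (21) .nil .nil) .nil)) (.node (6) (.node (11) (.node (18) .nil .nil) .nil) (.node (14) (.node (22) .nil .nil) .nil))))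
  sg := (.node (1) (.node (1) (.node (1) (.node (1) (.node (1) .nil .nil) (.node (1) .nil .nil)) (.node (1) (.node (1) .nil .nil) .nil)) (.node (1) (.node (1) (.node (1) .nil .nil) .nil) (.node (1) (.node (1) .nil .nil) .nil))) (.node (1) (.node (1) (.node (1) (.node (1) .nil .nil) .nil) (.node (1) (.node (1) .nil .nil) .nil)) (.node (1) (.node (1) (.node (1) .nil .nil) .nil) (.node (1) (.node (1) .nil .nil) .nil))))
  ps := (.node (0) (.node (1) (.node (2) .nil .nil) .nil) (.node (3) .nil .nil))
  k := 2

theorem s3ok : GOK chevD4 T s3 := ⟨by decide +kernel⟩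

theorem s3uniq : T.chkUniq chevD4 s3 = true := by decide +kernel

def s4 : GTab where
  pr := (.node (0) (.node (1) (.node (2) (.node (8) (.node (19) .nil .nil) (.node (23) .nil .nil)) (.node (5) (.node (16) .nil .nil) .nil)) (.node (10) (.node (9) (.node (20) .nil .nil) .nil) (.node (12) (.node (17) .nil .nil) .nil))) (.node (6) (.node (7) (.node (4) (.node (15) .nil .nil) .nil) (.node (18) (.node (21) .nil .nil) .nil)) (.node (3) (.node (11) (.node (13) .nil .nil) .nil) (.node (14) (.node (22) .nil .nil) .nil))))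
  sg := (.node (1) (.node (1) (.node (1) (.node (1) (.node (-1) .nil .nil) (.node (1) .nil .nil)) (.node (1) (.node (-1) .nil .nil) .nil)) (.node (1) (.node (1) (.node (-1) .nil .nil) .nil) (.node (1) (.node (-1) .nil .nil) .nil))) (.node (-1) (.node (-1) (.node (-1) (.node (1) .nil .nil) .nil) (.node (1) (.node (1) .nil .nil) .nil)) (.node (-1) (.node (1) (.node (1) .nil .nil) .nil) (.node (1) (.node (1) .nil .nil) .nil))))
  ps := (.node (2) (.node (1) (.node (0) .nil .nil) .nil) (.node (3) .nil .nil))
  k := 3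

theorem s4ok : GOK chevD4 T s4 := ⟨by decide +kernel⟩

theorem s4uniq : T.chkUniq chevD4 s4 = true := by decide +kernel

def s5 : GTab where
  pr := (.node (0) (.node (1) (.node (6) (.node (4) (.node (16) .nil .nil) (.node (23) .nil .nil)) (.node (10) (.node (15) .nil .nil) .nil)) (.node (11) (.node (9) (.node (21) .nil .nil) .nil) (.node (18) (.node (20) .nil .nil) .nil))) (.node (3) (.node (8) (.node (7) (.node (19) .nil .nil) .nil) (.node (13) (.node (17) .nil .nil) .nil)) (.node (2) (.node (5) (.node (12) .nil .nil) .nil) (.node (14) (.node (22) .nil .nil) .nil))))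
  sg := (.node (1) (.node (1) (.node (-1) (.node (-1) (.node (1) .nil .nil) (.node (1) .nil .nil)) (.node (1) (.node (-1) .nil .nil) .nil)) (.node (1) (.node (1) (.node (-1) .nil .nil) .nil) (.node (1) (.node (1) .nil .nil) .nil))) (.node (1) (.node (-1) (.node (1) (.node (-1) .nil .nil) .nil) (.node (1) (.node (-1) .nil .nil) .nil)) (.node (-1) (.node (1) (.node (1) .nil .nil) .nil) (.node (1) (.node (1) .nil .nil) .nil))))
  ps := (.node (3) (.node (1) (.node (2) .nil .nil) .nil) (.node (0) .nil .nil))
  k := 3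

theorem s5ok : GOK chevD4 T s5 := ⟨by decide +kernel⟩

theorem s5uniq : T.chkUniq chevD4 s5 = true := by decide +kernel

theorem syms : T.chkSym chevD4 [s0, s1, s2, s3, s4, s5] = true := by decide +kernel

theorem sym_cover : ∀ g ∈ [s0, s1, s2, s3, s4, s5], GOK chevD4 T g ∧ T.chkUniq chevD4 g = true := by
  intro g hg
  simp only [List.mem_cons, List.not_mem_nil, or_false] at hg
  rcases hg with rfl | rfl | rfl | rfl | rfl | rfl
  exacts [⟨s0ok, s0uniq⟩, ⟨s1ok, s1uniq⟩, ⟨s2ok, s2uniq⟩, ⟨s3ok, s3uniq⟩, ⟨s4ok, s4uniq⟩, ⟨s5ok, s5uniq⟩]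

end Cfsg.Agent.Chev.D4
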