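import Cfsg.Agent.Lib.Chev.ChevAutG
import Cfsg.Agent.Lib.Chev.ChevAutData
import Cfsg.Agent.Lib.Chev.GraphExcData
import Cfsg.Agent.Lib.Chev.GraphE6
import Cfsg.Agent.Lib.Chev.GraphD4All
import Cfsg.Agent.Lib.Chev.CowData
import Cfsg.Agent.Lib.Chev.StData

/-! The data of all seven types. -/

set_option autoImplicit false
set_option maxRecDepth 100000

namespace Cfsg.Agent.Chev

open Cfsg.Lie

/-- Root coefficients from coroot coefficients when the exponents of an exceptional symmetry give the lengths. -/
noncomputable def Tabs.rootCoef (T : Tabs) (g : XTab) (r i : ℕ) : ℤ :=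
  T.cC r i * (g.e (T.smp i) : ℤ) / (g.e r : ℤ)

/-- A longest word. -/
def B2.autW : List ℕ := [0, 1, 0, 1]

/-- The symmetries with their exponents. -/
def B2.autS : List (List ℕ × List ℕ) := [([0, 1], [1, 1]), ([1, 0], [2, 1])]

/-- A longest word. -/
def D4.autW : List ℕ := [0, 1, 0, 2, 1, 0, 3, 1, 0, 2, 1, 3]

/-- The symmetries with their exponents. -/
def D4.autS : List (List ℕ × List ℕ) :=
  [([0, 1, 2, 3], [1, 1, 1, 1]), ([2, 1, 0, 3], [1, 1, 1, 1]), ([3, 1, 2, 0], [1, 1, 1, 1]),
    ([0, 1, 3, 2], [1, 1, 1, 1]), ([2, 1, 3, 0], [1, 1, 1, 1]), ([3, 1, 0, 2], [1, 1, 1, 1])]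

theorem B2.autW_ok : B2.T.chkLong chevB2 B2.autW = true := by decide +kernel

theorem B2.opp_ok : B2.T.chkOpp chevB2 = true := by decide +kernel

theorem B2.autS_ok : B2.T.chkAutS chevB2 B2.autS 1 [(0, 1)] = true := by decide +kernel

theorem D4.autW_ok : D4.T.chkLong chevD4 D4.autW = true := by decide +kernel

theorem D4.opp_ok : D4.T.chkOpp chevD4 = true := by decide +kernel

theorem D4.autS_ok : D4.T.chkAutS chevD4 D4.autS 1 [(0, 1), (2, 1), (3, 1)] = true := by decide +kernel

theorem B2.xsign : B2.xtab.chkSign chevB2 B2.T [1, 0] [2, 1] = true := by decide +kernel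

theorem G2.char_ok : G2.T.chkChar chevG2 (G2.T.rootCoef G2.xtab) = true := by decide +kernel

theorem B2.char_ok : B2.T.chkChar chevB2 (B2.T.rootCoef B2.xtab) = true := by decide +kernel

theorem F4.char_ok : F4.T.chkChar chevF4 (F4.T.rootCoef F4.xtab) = true := by decide +kernel

theorem D4.char_ok : D4.T.chkChar chevD4 D4.T.cC = true := by decide +kernel

theorem E6.char_ok : E6.T.chkChar chevE6 E6.T.cC = true := by decide +kernel

theorem E7.char_ok : E7.T.chkChar chevE7 E7.T.cC = true := by decide +kernel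

theorem E8.char_ok : E8.T.chkChar chevE8 E8.T.cC = true := by decide +kernel

theorem G2.gdata : (G2.autS.all fun x => chkGraphData chevG2 3 x.1 x.2) = true := by decide +kernel

theorem B2.gdata : (B2.autS.all fun x => chkGraphData chevB2 2 x.1 x.2) = true := by decide +kernel

theorem D4.gdata : (D4.autS.all fun x => chkGraphData chevD4 0 x.1 x.2) = true := by decide +kernel

theorem F4.gdata : (F4.autS.all fun x => chkGraphData chevF4 2 x.1 x.2) = true := by decide +kernel

theorem E6.gdata : (E6.autS.all fun x => chkGraphData chevE6 0 x.1 x.2) = true := by decide +kernel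

theorem E7.gdata : (E7.autS.all fun x => chkGraphData chevE7 0 x.1 x.2) = true := by decide +kernel

theorem E8.gdata : (E8.autS.all fun x => chkGraphData chevE8 0 x.1 x.2) = true := by decide +kernel

end Cfsg.Agent.Chev
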