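import Cfsg.Agent.Lib.Chev.ChevAutH

/-! The structure data holds for all seven types over every finite field. -/

set_option autoImplicit false

namespace Cfsg.Agent.Chev

open Cfsg.Lie

/-- Distinct symmetries, one, two or six of them, the six not all commuting. -/
def chkSymList (n : ℕ) (S : List (List ℕ × List ℕ)) : Bool :=
  ((List.range S.length).all fun a => (List.range S.length).all fun b => a == b ||
    (List.range n).any fun i => (S.getD a ([], [])).1.getD i 0 != (S.getD b ([], [])).1.getD i 0) &&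
  (S.length == 1 || S.length == 2 || (S.length == 6 && (List.range S.length).any fun a =>
    (List.range S.length).any fun b => (List.range n).any fun i =>
      (S.getD a ([], [])).1.getD ((S.getD b ([], [])).1.getD i 0) 0 !=
        (S.getD b ([], [])).1.getD ((S.getD a ([], [])).1.getD i 0) 0))

variable {F : Type*} [Field F] {D : ChevalleyDatum} {T : Tabs} (ok : OKX D T)

namespace OKX

include ok

theorem mkAutHyp [Fintype F] (hc : T.chkChain D = true) {a : ℕ → ℕ → ℤ} (ha : T.chkChar D a = true)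
    {w₀ : List ℕ} (hw₀ : T.chkLong D w₀ = true) (hopp : T.chkOpp D = true)
    {S S' : List (List ℕ × List ℕ)} {r₀ : ℕ} {L : List (ℕ × ℕ)} (hS : T.chkAutS D S r₀ L = true)
    (hsub : ∀ (φ : MulAut ↥(D.group F)) σ f, SimpleSpec ok φ σ f → ∀ x ∈ S, (∀ i < D.rank, σ i = x.1.getD i 0) →
      (∀ i < D.rank, ∀ u v : F, (u + v) ^ x.2.getD i 1 = u ^ x.2.getD i 1 + v ^ x.2.getD i 1) → x ∈ S')
    (hlist : chkSymList D.rank S' = true) {m : ℕ} (hm : m ≠ 0 → ringChar F = m)
    (hgd : (S'.all fun x => chkGraphData D m x.1 x.2) = true)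
    (hg : ∀ x ∈ S', ∃ γ : MulAut ↥(D.group F), FixUV D γ ∧
      Acts ok γ (fun i => x.1.getD i 0) fun i t => t ^ x.2.getD i 1) : AutHyp ok F S' := by
  classical
  simp only [List.all_eq_true] at hgd
  simp only [chkSymList, Bool.and_eq_true, Bool.or_eq_true, List.all_eq_true, List.mem_range, beq_iff_eq,
    List.any_eq_true, bne_iff_ne] at hlist
  have hget : ∀ k : Fin S'.length, S'.getD k ([], []) = S'[k.val] := fun k => List.getD_eq_getElem _ _ k.isLt
  have hwf : ∀ k : Fin S'.length, (∀ i < D.rank, S'[k.val].1.getD i 0 < D.rank) ∧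
      ∀ i < D.rank, ∀ j < D.rank, S'[k.val].1.getD i 0 = S'[k.val].1.getD j 0 → i = j := by
    intro k
    have h := hgd _ (List.getElem_mem k.isLt)
    simp only [chkGraphData, Bool.and_eq_true, List.all_eq_true, List.mem_range, decide_eq_true_iff,
      Bool.or_eq_true, beq_iff_eq, bne_iff_ne] at h
    exact ⟨fun i hi => (h.1 i hi).1, fun i hi j hj e => by
      by_contra hne; exact ((h.2 i hi j hj).resolve_left hne).2 e⟩
  refine ⟨hc, fun k => (hwf k).1, fun k => (hwf k).2, fun k l e => ?_, ok.exists_diag hc ha, fun k => ?_,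
    fun φ hφ => ?_, ?_⟩
  · by_contra hne
    obtain ⟨i, hi, hi'⟩ := (hlist.1 k k.isLt l l.isLt).resolve_left fun e' => hne (Fin.ext e')
    rw [hget, hget] at hi'
    exact hi' (e i hi)
  · obtain ⟨γ, hγ, hγ'⟩ := hg _ (List.getElem_mem k.isLt)
    exact ⟨γ, ok.isGraph_of_acts hm (hgd _ (List.getElem_mem k.isLt)) hγ', hγ, hγ'⟩
  · obtain ⟨σ, f, h⟩ := hφ.exists_spec ok hw₀ hopp
    obtain ⟨x, hx, τ, hσ, hf, hadd⟩ := h.classify hS
    obtain ⟨k, hk, rfl⟩ := List.mem_iff_getElem.mp (hsub φ σ f h x hx hσ hadd)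
    refine ⟨⟨k, hk⟩, fun i => Units.mk0 (f i 1) (h.one_ne i.isLt), τ, h.acts.congr hσ fun i hi t => ?_⟩
    simp only [OK.param, dif_pos hi, Units.val_mk0]
    exact hf i hi t
  · rcases hlist.2 with (h | h) | ⟨h, k, hk, l, hl, i, hi, hne⟩
    · exact Or.inl h
    · exact Or.inr (Or.inl h)
    · refine Or.inr (Or.inr ⟨h, ⟨k, hk⟩, ⟨l, hl⟩, i, hi, ?_⟩)
      rwa [hget ⟨k, hk⟩, hget ⟨l, hl⟩] at hne

/-- The symmetry list is only the identity. -/
theorem gam_id {s e : List ℕ} (h : ∀ i < D.rank, s.getD i 0 = i ∧ e.getD i 1 = 1) :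
    ∃ γ : MulAut ↥(D.group F), FixUV D γ ∧ Acts ok γ (fun i => s.getD i 0) fun i t => t ^ e.getD i 1 :=
  ok.gam_one (fun i hi => (h i hi).1) fun i hi => (h i hi).2

end OKX

/-- The characteristic is two when squaring is additive. -/
theorem char_of_pow_add_two (p : ℕ) [Fact p.Prime] [CharP F p] (h : ∀ u v : F, (u + v) ^ 2 = u ^ 2 + v ^ 2) :
    p = 2 := by
  have e : ((2 : ℕ) : F) = 0 := by have := h 1 1; push_cast; linear_combination this
  exact (Nat.prime_dvd_prime_iff_eq Fact.out Nat.prime_two).mp ((CharP.cast_eq_zero_iff F p 2).mp e)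

/-- Over the field of two elements the root lengths of G2 cannot be exchanged. -/
theorem G2.no_swap [Fintype F] (hF : Fintype.card F = 2) {φ : MulAut ↥(chevG2.group F)} {σ : ℕ → ℕ}
    {f : ℕ → F → F} (h : SimpleSpec G2.okx φ σ f) (h0 : σ 0 = 1) (h1 : σ 1 = 0) : False := by
  classical
  have ok := G2.okx
  have h01 : ∀ x : F, x ≠ 0 → x = 1 := by
    intro x hx
    by_contra hne
    have := Finset.card_le_univ ({0, 1, x} : Finset F)
    rw [Finset.card_insert_of_notMem (by simp [Ne.symm hx]), Finset.card_insert_of_notMem (by simp [Ne.symm hne]),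
      Finset.card_singleton, hF] at this
    omega
  have hm1 : (-1 : F) = 1 := h01 _ (neg_ne_zero.mpr one_ne_zero)
  have hf1 : ∀ i < 2, f i 1 = 1 := fun i hi => h01 _ (h.one_ne hi)
  let nE : ℕ → ↥(chevG2.group F) := fun i =>
    ok.el (G2.T.smp i) 1 * ok.el (G2.T.neg (G2.T.smp i)) (-1⁻¹) * ok.el (G2.T.smp i) 1
  have hφn : ∀ i < 2, φ (nE i) = nE (σ i) := by
    intro i hi
    simp only [nE, map_mul, h.pos i hi, h.neg i hi, inv_one, hm1, hf1 i hi]
  have hconj : ∀ i < 2, ∀ s < chevG2.nroots, nE i * ok.el s 1 * (nE i)⁻¹ = ok.el (G2.T.refl i s) 1 := by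
    intro i hi s hs
    refine Subtype.ext ?_
    simp only [nE, Subgroup.coe_mul, Subgroup.coe_inv, OKX.coe_el]
    rw [← ok.toOK.nG_eq (ok.toOK.smp_lt hi), ok.toOK.n_xG hi hs, mul_one]
    congr 1
    refine h01 _ fun e => ?_
    have := ok.toOK.eta_sq (F := F) hi hs
    rw [e, mul_zero] at this
    exact zero_ne_one this
  have hlt : ∀ i < 2, G2.T.smp i < chevG2.nroots := fun i hi => ok.toOK.smp_lt hi
  set b := G2.T.refl 1 (G2.T.refl 0 (G2.T.smp 1))
  set b' := G2.T.refl 0 (G2.T.refl 1 (G2.T.smp 0))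
  have key : ∀ x y, φ (x * y * x⁻¹) = φ x * φ y * (φ x)⁻¹ := fun x y => by rw [map_mul, map_mul, map_inv]
  have hb : φ (ok.el b 1) = ok.el b' 1 := by
    rw [← hconj 1 (by decide) _ (ok.toOK.refl_lt (i := 0) (by decide) (hlt 1 (by decide))),
      ← hconj 0 (by decide) _ (hlt 1 (by decide)), key, hφn 1 (by decide), key, hφn 0 (by decide), h.pos 1 (by decide), hf1 1 (by decide), h0, h1,
      hconj 1 (by decide) _ (hlt 0 (by decide)),
      hconj 0 (by decide) _ (ok.toOK.refl_lt (i := 1) (by decide) (hlt 0 (by decide)))]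
  have hblt : b < chevG2.nroots := ok.toOK.refl_lt (by decide) (ok.toOK.refl_lt (by decide) (hlt 1 (by decide)))
  have hb'lt : b' < chevG2.nroots := ok.toOK.refl_lt (by decide) (ok.toOK.refl_lt (by decide) (hlt 0 (by decide)))
  have hcom : Commute (ok.el (G2.T.smp 1) (1 : F)) (ok.el b 1) := Subtype.ext
    (ok.toOK.comm_nil (hlt 1 (by decide)) hblt (by decide +kernel) 1 1).eq
  have hcom' : Commute (ok.el (G2.T.smp 0) (1 : F)) (ok.el b' 1) := by
    have e := congrArg φ hcom.eq
    rw [map_mul, map_mul, h.pos 1 (by decide), hf1 1 (by decide), h1, hb] at e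
    exact e
  have hd : (((G2.T.terms (G2.T.smp 0) b').all fun q => decide (q.1 < chevG2.nroots) && decide (q.2.1 % 2 ≠ 0)) &&
      ((G2.T.terms (G2.T.smp 0) b').length == 1) && (b' != G2.T.smp 0) && (b' != G2.T.neg (G2.T.smp 0))) = true := by
    decide +kernel
  simp only [Bool.and_eq_true, List.all_eq_true, decide_eq_true_iff, beq_iff_eq, bne_iff_ne] at hd
  obtain ⟨⟨⟨hq, hlen⟩, hne⟩, hne'⟩ := hd
  obtain ⟨q, hqe⟩ := List.length_eq_one_iff.mp hlen
  have hc := ok.toOK.comm (F := F) (hlt 0 (by decide)) hb'lt hne (by rwa [ok.toOK.neg_eq (hlt 0 (by decide))]) 1 1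
  rw [← ok.toOK.coe_wordG, ← OK.coe_xG ok.toOK, ← OK.coe_xG ok.toOK, ← Units.val_mul, ← Units.val_mul,
    ← Units.val_mul] at hc
  have e := Units.ext hc
  have e2 := congrArg Subtype.val hcom'.eq
  simp only [Subgroup.coe_mul, OKX.coe_el] at e2
  rw [← e2] at e
  have hw : ok.toOK.wordG (chevG2.commWord F (G2.T.smp 0) b' (1 : F) 1) = 1 :=
    mul_left_cancel (e.symm.trans (mul_one _).symm)
  simp only [OK.wordG, ChevalleyDatum.commWord, ok.toOK.terms_eq (hlt 0 (by decide)) hb'lt, hqe, List.map_cons,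
    List.map_nil, List.prod_cons, List.prod_nil, mul_one, one_pow] at hw
  obtain ⟨hq1, hq2⟩ := hq q (by rw [hqe]; exact List.mem_singleton_self q)
  have hz : (q.2.1 : F) * (-1) ^ q.2.2.1 = 0 := by
    refine ok.toOK.xG_right_inj hq1 ?_
    rw [ok.toOK.xG_zero]
    simpa using hw
  have hodd : (q.2.1 : F) = 1 := by
    have h2 : (2 : F) = 0 := by rw [← one_add_one_eq_two]; nth_rewrite 1 [← hm1]; exact neg_add_cancel 1
    obtain ⟨k, hk⟩ : ∃ k, q.2.1 = 2 * k + 1 := ⟨q.2.1 / 2, by omega⟩
    rw [hk, Int.cast_add, Int.cast_mul, Int.cast_one, Int.cast_ofNat, h2, zero_mul, zero_add]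
  rw [hodd, one_mul] at hz
  exact pow_ne_zero _ (neg_ne_zero.mpr one_ne_zero) hz

/-- Every type has the data, over every finite field. -/
theorem exists_autHyp [Fintype F] (p : ℕ) [Fact p.Prime] [CharP F p] (D : ChevalleyDatum)
    (hD : D ∈ [chevG2, chevB2, chevD4, chevF4, chevE6, chevE7, chevE8]) :
    ∃ (T : Tabs) (ok : OKX D T) (S : List (List ℕ × List ℕ)), AutHyp ok F S := by
  classical
  simp only [List.mem_cons, List.not_mem_nil, or_false] at hD
  rcases hD with rfl | rfl | rfl | rfl | rfl | rfl | rfl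
  · by_cases hp : p = 3
    · subst hp
      refine ⟨_, G2.okx, G2.autS, G2.okx.mkAutHyp G2.chain G2.char_ok G2.autW_ok G2.opp_ok G2.autS_ok
        (fun _ _ _ _ x hx _ _ => hx) (by decide +kernel) (m := 3) (fun _ => ringChar.eq F 3) G2.gdata ?_⟩
      intro x hx
      simp only [G2.autS, List.mem_cons, List.not_mem_nil, or_false] at hx
      rcases hx with rfl | rfl
      · exact G2.okx.gam_id (show ∀ i < 2, _ by decide)
      · exact G2.okx.gam_exc 3 G2.xtab_ok G2.dn_ok G2.wit_ok G2.cow_ok G2.xsign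
    · refine ⟨_, G2.okx, [([0, 1], [1, 1])], G2.okx.mkAutHyp G2.chain G2.char_ok G2.autW_ok G2.opp_ok G2.autS_ok
        ?_ (by decide +kernel) (m := 0) (fun h => absurd rfl h) (by decide +kernel) ?_⟩
      · intro φ σ f hsp x hx hσ hadd
        simp only [G2.autS, List.mem_cons, List.not_mem_nil, or_false] at hx
        rcases hx with rfl | rfl
        · exact List.mem_singleton_self _
        exfalso
        by_cases hq : Fintype.card F = 2
        · exact G2.no_swap hq hsp (hσ 0 (by decide)) (hσ 1 (by decide))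
        · have := Fintype.one_lt_card (α := F)
          exact hp (char_of_pow_add (F := F) p 3 (by omega) (Or.inr rfl) fun u v => hadd 0 (by decide) u v)
      · intro x hx
        obtain rfl := List.mem_singleton.mp hx
        exact G2.okx.gam_id (show ∀ i < 2, _ by decide)
  · by_cases hp : p = 2
    · subst hp
      refine ⟨_, B2.okx, B2.autS, B2.okx.mkAutHyp B2.chain B2.char_ok B2.autW_ok B2.opp_ok B2.autS_ok
        (fun _ _ _ _ x hx _ _ => hx) (by decide +kernel) (m := 2) (fun _ => ringChar.eq F 2) B2.gdata ?_⟩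
      intro x hx
      simp only [B2.autS, List.mem_cons, List.not_mem_nil, or_false] at hx
      rcases hx with rfl | rfl
      · exact B2.okx.gam_id (show ∀ i < 2, _ by decide)
      · exact B2.okx.gam_exc 2 B2.xtab_ok B2.dn_ok B2.wit_ok B2.cow_ok B2.xsign
    · refine ⟨_, B2.okx, [([0, 1], [1, 1])], B2.okx.mkAutHyp B2.chain B2.char_ok B2.autW_ok B2.opp_ok B2.autS_ok
        ?_ (by decide +kernel) (m := 0) (fun h => absurd rfl h) (by decide +kernel) ?_⟩
      · intro φ σ f hsp x hx hσ hadd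
        simp only [B2.autS, List.mem_cons, List.not_mem_nil, or_false] at hx
        rcases hx with rfl | rfl
        · exact List.mem_singleton_self _
        exfalso
        refine hp (char_of_pow_add_two p fun u v => hadd 0 (by decide) u v)
      · intro x hx
        obtain rfl := List.mem_singleton.mp hx
        exact B2.okx.gam_id (show ∀ i < 2, _ by decide)
  · refine ⟨_, D4.okx, D4.autS, D4.okx.mkAutHyp D4.chain D4.char_ok D4.autW_ok D4.opp_ok D4.autS_ok
      (fun _ _ _ _ x hx _ _ => hx) (by decide +kernel) (m := 0) (fun h => absurd rfl h) D4.gdata ?_⟩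
    intro x hx
    simp only [D4.autS, List.mem_cons, List.not_mem_nil, or_false] at hx
    rcases hx with rfl | rfl | rfl | rfl | rfl | rfl
    · exact D4.okx.gam_id (show ∀ i < 4, _ by decide)
    · exact D4.okx.gam_graph D4.s1ok (show ∀ i < 4, _ by decide +kernel) (show ∀ i < 4, _ by decide)
    · exact D4.okx.gam_graph D4.s2ok (show ∀ i < 4, _ by decide +kernel) (show ∀ i < 4, _ by decide)
    · exact D4.okx.gam_graph D4.s3ok (show ∀ i < 4, _ by decide +kernel) (show ∀ i < 4, _ by decide)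
    · exact D4.okx.gam_graph D4.s4ok (show ∀ i < 4, _ by decide +kernel) (show ∀ i < 4, _ by decide)
    · exact D4.okx.gam_graph D4.s5ok (show ∀ i < 4, _ by decide +kernel) (show ∀ i < 4, _ by decide)
  · by_cases hp : p = 2
    · subst hp
      refine ⟨_, F4.okx, F4.autS, F4.okx.mkAutHyp F4.chain F4.char_ok F4.autW_ok F4.opp_ok F4.autS_ok
        (fun _ _ _ _ x hx _ _ => hx) (by decide +kernel) (m := 2) (fun _ => ringChar.eq F 2) F4.gdata ?_⟩
      intro x hx
      simp only [F4.autS, List.mem_cons, List.not_mem_nil, or_false] at hx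
      rcases hx with rfl | rfl
      · exact F4.okx.gam_id (show ∀ i < 4, _ by decide)
      · exact F4.okx.gam_exc 2 F4.xtab_ok F4.dn_ok F4.wit_ok F4.cow_ok F4.xsign
    · refine ⟨_, F4.okx, [([0, 1, 2, 3], [1, 1, 1, 1])], F4.okx.mkAutHyp F4.chain F4.char_ok F4.autW_ok F4.opp_ok
        F4.autS_ok ?_ (by decide +kernel) (m := 0) (fun h => absurd rfl h) (by decide +kernel) ?_⟩
      · intro φ σ f hsp x hx hσ hadd
        simp only [F4.autS, List.mem_cons, List.not_mem_nil, or_false] at hx
        rcases hx with rfl | rfl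
        · exact List.mem_singleton_self _
        exfalso
        exact hp (char_of_pow_add_two p fun u v => hadd 0 (by decide) u v)
      · intro x hx
        obtain rfl := List.mem_singleton.mp hx
        exact F4.okx.gam_id (show ∀ i < 4, _ by decide)
  · refine ⟨_, E6.okx, E6.autS, E6.okx.mkAutHyp E6.chain E6.char_ok E6.autW_ok E6.opp_ok E6.autS_ok
      (fun _ _ _ _ x hx _ _ => hx) (by decide +kernel) (m := 0) (fun h => absurd rfl h) E6.gdata ?_⟩
    intro x hx
    simp only [E6.autS, List.mem_cons, List.not_mem_nil, or_false] at hx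
    rcases hx with rfl | rfl
    · exact E6.okx.gam_id (show ∀ i < 6, _ by decide)
    · exact E6.okx.gam_graph E6.gok (show ∀ i < 6, _ by decide +kernel) (show ∀ i < 6, _ by decide)
  · refine ⟨_, E7.okx, E7.autS, E7.okx.mkAutHyp E7.chain E7.char_ok E7.autW_ok E7.opp_ok E7.autS_ok
      (fun _ _ _ _ x hx _ _ => hx) (by decide +kernel) (m := 0) (fun h => absurd rfl h) E7.gdata ?_⟩
    intro x hx
    simp only [E7.autS, List.mem_cons, List.not_mem_nil, or_false] at hx
    subst hx
    exact E7.okx.gam_id (show ∀ i < 7, _ by decide)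
  · refine ⟨_, E8.okx, E8.autS, E8.okx.mkAutHyp E8.chain E8.char_ok E8.autW_ok E8.opp_ok E8.autS_ok
      (fun _ _ _ _ x hx _ _ => hx) (by decide +kernel) (m := 0) (fun h => absurd rfl h) E8.gdata ?_⟩
    intro x hx
    simp only [E8.autS, List.mem_cons, List.not_mem_nil, or_false] at hx
    subst hx
    exact E8.okx.gam_id (show ∀ i < 8, _ by decide)

end Cfsg.Agent.Chev
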