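import Cfsg.Agent.Lib.Chev.ChevAutG

/-!
The structure of the outer automorphism group: diagonal and field parts, and the graph part on top.
-/

set_option autoImplicit false

namespace Cfsg.Agent.Chev

open Cfsg.Lie

/-- The automorphism group of a finite field is cyclic. -/
theorem isCyclic_ringEquiv_self (F : Type*) [Field F] [Finite F] : IsCyclic (F ≃+* F) := by
  obtain ⟨p, _⟩ := CharP.exists F
  have : Fintype F := Fintype.ofFinite F
  haveI : Fact p.Prime := ⟨CharP.char_is_prime F p⟩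
  letI := ZMod.algebra F p
  let r : (F ≃ₐ[ZMod p] F) →* (F ≃+* F) :=
    { toFun := fun ψ => ψ.toRingEquiv
      map_one' := rfl
      map_mul' := fun _ _ => rfl }
  have : IsCyclic (F ≃ₐ[ZMod p] F) := inferInstance
  refine isCyclic_of_surjective r fun φ => ⟨AlgEquiv.ofRingEquiv (f := φ) fun x =>
    RingHom.congr_fun (Subsingleton.elim ((φ : F →+* F).comp (algebraMap (ZMod p) F)) (algebraMap (ZMod p) F)) x,
    RingEquiv.ext fun _ => rfl⟩

variable {F : Type*} [Field F] {D : ChevalleyDatum} {T : Tabs} {ok : OKX D T}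

theorem fixUV_mul {a b : MulAut ↥(D.group F)} (ha : FixUV D a) (hb : FixUV D b) : FixUV D (a * b) := fun x =>
  ⟨(ha _).1.trans (hb x).1, (ha _).2.trans (hb x).2⟩

/-- Conjugation by an element fixing `U` and `V` scales the fundamental root elements. -/
theorem OKX.conj_fix_acts [Fintype F] (ok : OKX D T) {g : ↥(D.group F)} (h : FixUV D (MulAut.conj g)) :
    ∃ c : ℕ → F, (∀ i < D.rank, c i ≠ 0) ∧ Acts ok (MulAut.conj g) id fun i t => c i * t := by
  have hgd : (g : GL D.Idx F) ∈ D.diagonalSubgroup F := ok.mem_diag_of_normalizes g.2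
    (fun x hx => (h ⟨x, ok.toOK.pos_le_group hx⟩).1.mpr hx)
    (fun x hx => (h ⟨x, ok.toOK.neg_le_group hx⟩).2.mpr hx)
  obtain ⟨d, hd, hgd⟩ := ok.toOK.mem_diag.mp hgd
  refine ⟨fun i => ∏ l ∈ Finset.range D.rank, d l ^ T.cA l (T.smp i),
    fun i hi => Finset.prod_ne_zero_iff.mpr fun l hl => zpow_ne_zero _ (hd l (Finset.mem_range.mp hl)),
    fun i hi t => ?_⟩
  have hel : ∀ r < D.nroots, ∀ u, MulAut.conj g (ok.el r u) =
      ok.el r ((∏ l ∈ Finset.range D.rank, d l ^ T.cA l r) * u) := fun r hr u => Subtype.ext (by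
    rw [MulAut.conj_apply, Subgroup.coe_mul, Subgroup.coe_mul, Subgroup.coe_inv, coe_el, coe_el, hgd]
    exact ok.toOK.torG_xG hd hr u)
  have hp := ok.toOK.smp_lt hi
  refine ⟨hel _ hp t, ?_⟩
  rw [hel _ (ok.toOK.neg_lt hp)]
  congr 1
  rw [mul_inv, inv_inv, ← Finset.prod_inv_distrib]
  refine congrArg (· * t) (Finset.prod_congr rfl fun l hl => ?_)
  rw [ok.toOK.cA_neg hp (Finset.mem_range.mp hl), zpow_neg]

set_option maxHeartbeats 2000000 in
/-- The structure of the outer automorphism group. -/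
theorem AutHyp.out_structure [Fintype F] {S : List (List ℕ × List ℕ)} (H : AutHyp ok F S) (p : ℕ) [Fact p.Prime]
    [CharP F p] (Dbar Fbar : Subgroup (Cfsg.Out ↥(D.group F)))
    (hDbar : Dbar = (Subgroup.closure {φ : MulAut ↥(D.group F) | D.IsDiagonalAut φ}).map
      (QuotientGroup.mk' (Cfsg.Inn ↥(D.group F))))
    (hFbar : Fbar = (Subgroup.closure {φ : MulAut ↥(D.group F) | D.IsFieldAut φ}).map
      (QuotientGroup.mk' (Cfsg.Inn ↥(D.group F)))) :
    Dbar.Normal ∧ IsMulCommutative ↥Dbar ∧ IsCyclic ↥Fbar ∧ (Dbar ⊔ Fbar).Normal ∧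
      ((Dbar ⊔ Fbar).index = 1 ∨ (Dbar ⊔ Fbar).index = 2 ∨
        ((Dbar ⊔ Fbar).index = 6 ∧ ¬ commutator (Cfsg.Out ↥(D.group F)) ≤ Dbar ⊔ Fbar)) := by
  classical
  choose δ hδD hδF hδ using H.diag
  choose γ hγG hγF hγ using H.gam
  set q := QuotientGroup.mk' (Cfsg.Inn ↥(D.group F)) with hq
  have hid : ∀ i < D.rank, id i < D.rank := fun i hi => hi
  let δh : (Fin D.rank → Fˣ) →* MulAut ↥(D.group F) := MonoidHom.mk' δ fun c c' =>
    (hδ (c * c')).unique (((hδ c).mul (hδ c') hid).congr (fun _ _ => rfl) fun i hi t => by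
      simp only [id, OK.param, dif_pos hi, Pi.mul_apply, Units.val_mul, mul_assoc])
  let φh : (F ≃+* F) →* MulAut ↥(D.group F) := MonoidHom.mk' ok.fldA fun a b =>
    (ok.fldA_acts (a * b)).unique (((ok.fldA_acts a).mul (ok.fldA_acts b) hid).congr (fun _ _ => rfl)
      fun i _ t => rfl)
  have hDset : Subgroup.closure {φ : MulAut ↥(D.group F) | D.IsDiagonalAut φ} = δh.range := by
    refine le_antisymm ((Subgroup.closure_le _).mpr fun φ hφ => ?_) ?_
    · obtain ⟨c, -, hc⟩ := ok.acts_of_isDiag H.chain hφ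
      exact ⟨c, (hδ c).unique hc⟩
    · rintro _ ⟨c, rfl⟩
      exact Subgroup.subset_closure (hδD c)
  have hFset : Subgroup.closure {φ : MulAut ↥(D.group F) | D.IsFieldAut φ} = φh.range := by
    refine le_antisymm ((Subgroup.closure_le _).mpr fun φ hφ => ?_) ?_
    · obtain ⟨τ, rfl⟩ := ok.eq_fldA_of_isField hφ
      exact ⟨τ, rfl⟩
    · rintro _ ⟨τ, rfl⟩
      exact Subgroup.subset_closure (ok.fldA_isField τ)
  rw [hDset, ← MonoidHom.range_comp] at hDbar
  rw [hFset, ← MonoidHom.range_comp] at hFbar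
  subst hDbar hFbar
  have hdec : ∀ x : Cfsg.Out ↥(D.group F), ∃ c a τ, x = q (δ c) * q (γ a) * q (ok.fldA τ) := by
    intro x
    induction x using QuotientGroup.induction_on with | H θ =>
    obtain ⟨g, hg⟩ := ok.exists_fixUV p θ
    obtain ⟨a, c, τ, hc⟩ := H.cls _ hg
    let π : Fin D.rank ≃ Fin D.rank := Equiv.ofBijective (fun i => ⟨(S[a.val]'a.isLt).1.getD i 0, H.lt a i i.isLt⟩)
      (Finite.injective_iff_bijective.mp fun x y e => Fin.ext (H.inj a x x.isLt y y.isLt (congrArg Fin.val e)))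
    refine ⟨fun l => c (π.symm l), a, τ, ?_⟩
    have e : MulAut.conj g * θ = δ (fun l => c (π.symm l)) * γ a * ok.fldA τ := by
      refine hc.unique ((((hδ _).mul (hγ a) (H.lt a)).mul (ok.fldA_acts τ) hid).congr (fun _ _ => rfl) ?_)
      intro i hi t
      simp only [id, OK.param, dif_pos (H.lt a i hi), dif_pos hi, map_pow]
      congr 3
      exact π.symm_apply_apply ⟨i, hi⟩
    have e1 : q (MulAut.conj g) = 1 := (QuotientGroup.eq_one_iff _).mpr ⟨g, rfl⟩
    rw [← map_mul, ← map_mul, ← e, map_mul, e1, one_mul]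
    rfl
  -- how graph and field automorphisms move diagonal ones
  have hfd : ∀ τ c, ok.fldA τ * δ c = δ (fun l => Units.map (τ : F →* F) (c l)) * ok.fldA τ := by
    intro τ c
    refine (((ok.fldA_acts τ).mul (hδ c) hid).unique
      (((hδ _).mul (ok.fldA_acts τ) hid).congr (fun _ _ => rfl) fun i hi t => ?_))
    simp only [id, OK.param, dif_pos hi, map_mul]
    rfl
  have hgd : ∀ a c, ∃ c', γ a * δ c = δ c' * γ a := by
    intro a c
    let π : Fin D.rank ≃ Fin D.rank := Equiv.ofBijective (fun i => ⟨(S[a.val]'a.isLt).1.getD i 0, H.lt a i i.isLt⟩)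
      (Finite.injective_iff_bijective.mp fun x y e => Fin.ext (H.inj a x x.isLt y y.isLt (congrArg Fin.val e)))
    refine ⟨fun l => c (π.symm l) ^ (S[a.val]'a.isLt).2.getD (π.symm l) 1, ?_⟩
    refine (((hγ a).mul (hδ c) hid).unique (((hδ _).mul (hγ a) (H.lt a)).congr (fun _ _ => rfl) fun i hi t => ?_))
    have e : π.symm ⟨(S[a.val]'a.isLt).1.getD i 0, H.lt a i hi⟩ = ⟨i, hi⟩ := π.symm_apply_apply ⟨i, hi⟩
    simp only [id, OK.param, dif_pos hi, dif_pos (H.lt a i hi), e, Units.val_pow_eq_pow_val, mul_pow]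
  have hgf : ∀ a τ, γ a * ok.fldA τ = ok.fldA τ * γ a := by
    intro a τ
    refine (((hγ a).mul (ok.fldA_acts τ) hid).unique (((ok.fldA_acts τ).mul (hγ a) (H.lt a)).congr
      (fun _ _ => rfl) fun i _ t => ?_))
    simp only [id, map_pow]
  set Db := (q.comp δh).range with hDb
  set Fb := (q.comp φh).range with hFb
  have hDnorm : Db.Normal := by
    refine ⟨fun n hn x => ?_⟩
    obtain ⟨c, rfl⟩ := hn
    obtain ⟨c₀, a, τ, rfl⟩ := hdec x
    obtain ⟨c', hc'⟩ := hgd a fun l => Units.map (τ : F →* F) (c l)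
    refine ⟨c₀ * c' * c₀⁻¹, ?_⟩
    have e : δ c₀ * δ c' * (δ c₀)⁻¹ = δ c₀ * γ a * ok.fldA τ * δ c * (δ c₀ * γ a * ok.fldA τ)⁻¹ := by
      rw [eq_mul_inv_iff_mul_eq]
      simp only [← mul_assoc, inv_mul_cancel_right]
      rw [mul_assoc (δ c₀ * γ a) (ok.fldA τ) (δ c), hfd, ← mul_assoc, mul_assoc (δ c₀) (γ a), hc', ← mul_assoc]
    show q (δh (c₀ * c' * c₀⁻¹)) = _
    rw [map_mul δh, map_mul δh, map_inv δh]
    refine (congrArg q e).trans ?_
    simp only [map_mul, map_inv]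
    rfl
  have hDcomm : IsMulCommutative ↥Db := inferInstance
  have hFcyc : IsCyclic ↥Fb := by
    haveI := isCyclic_ringEquiv_self F
    exact isCyclic_of_surjective (q.comp φh).rangeRestrict (MonoidHom.rangeRestrict_surjective _)
  have hFcomm : ∀ x ∈ Fb, ∀ y ∈ Fb, x * y = y * x := fun x hx y hy => by
    have := hFcyc
    have h := (IsCyclic.commGroup (α := ↥Fb)).mul_comm ⟨x, hx⟩ ⟨y, hy⟩
    exact congrArg Subtype.val h
  have hN : (Db ⊔ Fb).Normal := by
    refine ⟨fun n hn x => ?_⟩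
    suffices hle : Db ⊔ Fb ≤ (Db ⊔ Fb).comap (MulAut.conj x).toMonoidHom from hle hn
    refine sup_le (fun y hy => Subgroup.mem_sup_left (hDnorm.conj_mem y hy x)) fun y hy => ?_
    obtain ⟨c₀, a, τ, rfl⟩ := hdec x
    obtain ⟨τ', rfl⟩ := hy
    rw [Subgroup.mem_comap, MulEquiv.coe_toMonoidHom, MulAut.conj_apply]
    show q (δ c₀) * q (γ a) * q (ok.fldA τ) * q (ok.fldA τ') * (q (δ c₀) * q (γ a) * q (ok.fldA τ))⁻¹ ∈ Db ⊔ Fb
    have e1 : q (ok.fldA τ) * q (ok.fldA τ') = q (ok.fldA τ') * q (ok.fldA τ) :=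
      hFcomm _ ⟨τ, rfl⟩ _ ⟨τ', rfl⟩
    have e2 : q (γ a) * q (ok.fldA τ') = q (ok.fldA τ') * q (γ a) := by rw [← map_mul, ← map_mul, hgf]
    rw [mul_assoc (q (δ c₀) * q (γ a)), e1, ← mul_assoc, mul_assoc (q (δ c₀)), e2,
      show q (δ c₀) * (q (ok.fldA τ') * q (γ a)) * q (ok.fldA τ) * (q (δ c₀) * q (γ a) * q (ok.fldA τ))⁻¹ =
        q (δ c₀) * q (ok.fldA τ') * (q (δ c₀))⁻¹ by simp [mul_assoc]]
    exact mul_mem (mul_mem (Subgroup.mem_sup_left ⟨c₀, rfl⟩) (Subgroup.mem_sup_right ⟨τ', rfl⟩))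
      (inv_mem (Subgroup.mem_sup_left ⟨c₀, rfl⟩))
  have hkey : ∀ (A B : MulAut ↥(D.group F)) (s s' : ℕ → ℕ) (e e' : ℕ → ℕ), FixUV D A → FixUV D B →
      Acts ok A s (fun i t => t ^ e i) → Acts ok B s' (fun i t => t ^ e' i) →
      (∀ i < D.rank, s i < D.rank) → (∀ i < D.rank, s' i < D.rank) → (q A)⁻¹ * q B ∈ Db ⊔ Fb →
      ∀ i < D.rank, s i = s' i := by
    intro A B s s' e e' hAF hBF hA hB hs hs' hmem
    rw [← SetLike.mem_coe, Subgroup.normal_mul] at hmem
    obtain ⟨_, ⟨c, rfl⟩, _, ⟨τ, rfl⟩, hm⟩ := hmem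
    replace hm : q B = q (A * δ c * ok.fldA τ) := by
      rw [map_mul, map_mul, mul_assoc, show q (δ c) * q (ok.fldA τ) = (q A)⁻¹ * q B from hm, mul_inv_cancel_left]
    obtain ⟨g, hg⟩ := (QuotientGroup.eq_iff_div_mem (N := Cfsg.Inn ↥(D.group F))).mp hm
    have e1 : MulAut.conj g * (A * δ c * ok.fldA τ) = B := by rw [hg, div_mul_cancel]
    have hX := fixUV_mul (fixUV_mul hAF (hδF c)) (ok.fldA_fix τ)
    have hgF : FixUV D (MulAut.conj g) := by
      rw [eq_mul_inv_of_mul_eq e1]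
      exact fixUV_mul hBF hX.symm
    obtain ⟨d, hd, hgA⟩ := ok.conj_fix_acts hgF
    have h2 := hgA.mul ((hA.mul (hδ c) hid).mul (ok.fldA_acts τ) hid) hs
    rw [e1] at h2
    exact fun i hi => (h2.data_eq hB hs hs' (fun j hj => mul_ne_zero (hd _ (hs j hj))
      (pow_ne_zero _ (by simp [OK.param_ne]))) i hi).1
  let Q := Cfsg.Out ↥(D.group F) ⧸ (Db ⊔ Fb)
  have hbij : Function.Bijective (fun a : Fin S.length => (QuotientGroup.mk (q (γ a)) : Q)) := by
    refine ⟨fun a b e => H.nd a b (hkey _ _ _ _ _ _ (hγF a) (hγF b) (hγ a) (hγ b) (H.lt a) (H.lt b)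
      (QuotientGroup.eq.mp e)), fun x => ?_⟩
    induction x using QuotientGroup.induction_on with | H x =>
    obtain ⟨c, a, τ, rfl⟩ := hdec x
    refine ⟨a, QuotientGroup.eq.mpr ?_⟩
    rw [show (q (γ a))⁻¹ * (q (δ c) * q (γ a) * q (ok.fldA τ)) =
      (q (γ a))⁻¹ * q (δ c) * q (γ a) * q (ok.fldA τ) by simp [mul_assoc]]
    exact mul_mem (Subgroup.mem_sup_left (hDnorm.conj_mem' (q (δ c)) ⟨c, rfl⟩ (q (γ a))))
      (Subgroup.mem_sup_right ⟨τ, rfl⟩)
  have hindex : (Db ⊔ Fb).index = S.length := by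
    rw [Subgroup.index_eq_card, ← Nat.card_congr (Equiv.ofBijective _ hbij), Nat.card_fin]
  refine ⟨hDnorm, hDcomm, hFcyc, hN, ?_⟩
  rw [hindex]
  rcases H.size with h | h | ⟨h, a, b, i, hi, hne⟩
  · exact Or.inl h
  · exact Or.inr (Or.inl h)
  refine Or.inr (Or.inr ⟨h, fun hle => hne ?_⟩)
  have hm : (q (γ a) * q (γ b))⁻¹ * (q (γ b) * q (γ a)) ∈ Db ⊔ Fb := by
    refine hle ?_
    rw [← Abelianization.ker_of, MonoidHom.mem_ker]
    simp only [map_mul, map_inv]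
    rw [mul_comm (Abelianization.of (q (γ b)))]
    exact inv_mul_cancel _
  rw [← map_mul, ← map_mul] at hm
  have hA : Acts ok (γ a * γ b) (fun i => (S[a.val]'a.isLt).1.getD ((S[b.val]'b.isLt).1.getD i 0) 0)
      (fun i t => t ^ ((S[b.val]'b.isLt).2.getD i 1 * (S[a.val]'a.isLt).2.getD ((S[b.val]'b.isLt).1.getD i 0) 1)) := by
    have h0 := (hγ a).mul (hγ b) (H.lt b)
    intro i hi t
    have h1 := h0 i hi t
    simp only [← pow_mul] at h1
    exact h1
  have hB : Acts ok (γ b * γ a) (fun i => (S[b.val]'b.isLt).1.getD ((S[a.val]'a.isLt).1.getD i 0) 0)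
      (fun i t => t ^ ((S[a.val]'a.isLt).2.getD i 1 * (S[b.val]'b.isLt).2.getD ((S[a.val]'a.isLt).1.getD i 0) 1)) := by
    have h0 := (hγ b).mul (hγ a) (H.lt a)
    intro i hi t
    have h1 := h0 i hi t
    simp only [← pow_mul] at h1
    exact h1
  exact hkey (γ a * γ b) (γ b * γ a) (fun i => (S[a.val]'a.isLt).1.getD ((S[b.val]'b.isLt).1.getD i 0) 0)
    (fun i => (S[b.val]'b.isLt).1.getD ((S[a.val]'a.isLt).1.getD i 0) 0)
    (fun i => (S[b.val]'b.isLt).2.getD i 1 * (S[a.val]'a.isLt).2.getD ((S[b.val]'b.isLt).1.getD i 0) 1)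
    (fun i => (S[a.val]'a.isLt).2.getD i 1 * (S[b.val]'b.isLt).2.getD ((S[a.val]'a.isLt).1.getD i 0) 1)
    (fixUV_mul (hγF a) (hγF b)) (fixUV_mul (hγF b) (hγF a)) hA hB
    (fun j hj => H.lt a _ (H.lt b j hj)) (fun j hj => H.lt b _ (H.lt a j hj)) hm i hi

end Cfsg.Agent.Chev
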