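import Cfsg.Agent.Lib.Chev.DataB2
import Cfsg.Prelude.Def_ChevB2

/-! Kernel evaluation of the checks for the datum of type B2. -/

set_option autoImplicit false
set_option maxRecDepth 100000

namespace Cfsg.Agent.Chev.B2

open Cfsg.Lie

theorem arr : T.chkArr chevB2 = true := by
  decide +kernel

theorem simp_ok : allR 2 (T.chkSimple chevB2) = true := by
  decide +kernel

theorem order_ok : T.chkOrder chevB2 T.order [] = true := by
  decide +kernel

theorem col0 : allFrom 0 8 (T.chkCol chevB2) = true := by
  decide +kernel

theorem root0 : allFrom 0 8 (T.chkRoot chevB2) = true := by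
  decide +kernel

theorem grad0 : allFrom 0 8 (T.chkGrad chevB2) = true := by
  decide +kernel

theorem terms_ok0 : allFrom 0 8 (T.chkTerms chevB2) = true := by
  decide +kernel

theorem refl_ok : allR 2 (fun i => allR 8 (T.chkRefl chevB2 i)) = true := by
  decide +kernel

theorem steps : T.chkSteps chevB2 = true := by
  decide +kernel


end Cfsg.Agent.Chev.B2
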