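import Cfsg.Agent.Lib.Chev.DataD4
import Cfsg.Prelude.Def_ChevD4

/-! Kernel evaluation of the checks for the datum of type D4. -/

set_option autoImplicit false
set_option maxRecDepth 100000

namespace Cfsg.Agent.Chev.D4

open Cfsg.Lie

theorem arr : T.chkArr chevD4 = true := by
  decide +kernel

theorem simp_ok : allR 4 (T.chkSimple chevD4) = true := by
  decide +kernel

theorem order_ok : T.chkOrder chevD4 T.order [] = true := by
  decide +kernel

theorem col0 : allFrom 0 24 (T.chkCol chevD4) = true := by
  decide +kernel

theorem root0 : allFrom 0 24 (T.chkRoot chevD4) = true := by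
  decide +kernel

theorem grad0 : allFrom 0 24 (T.chkGrad chevD4) = true := by
  decide +kernel

theorem terms_ok0 : allFrom 0 24 (T.chkTerms chevD4) = true := by
  decide +kernel

theorem refl_ok : allR 4 (fun i => allR 24 (T.chkRefl chevD4 i)) = true := by
  decide +kernel

theorem steps : T.chkSteps chevD4 = true := by
  decide +kernel


end Cfsg.Agent.Chev.D4
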