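import Cfsg.Agent.Lib.Chev.DataE6
import Cfsg.Prelude.Def_ChevE6

/-! Kernel evaluation of the checks for the datum of type E6. -/

set_option autoImplicit false
set_option maxRecDepth 100000

namespace Cfsg.Agent.Chev.E6

open Cfsg.Lie

theorem arr : T.chkArr chevE6 = true := by
  decide +kernel

theorem simp_ok : allR 6 (T.chkSimple chevE6) = true := by
  decide +kernel

theorem order_ok : T.chkOrder chevE6 T.order [] = true := by
  decide +kernel

theorem col0 : allFrom 0 72 (T.chkCol chevE6) = true := by
  decide +kernel

theorem root0 : allFrom 0 72 (T.chkRoot chevE6) = true := by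
  decide +kernel

theorem grad0 : allFrom 0 72 (T.chkGrad chevE6) = true := by
  decide +kernel

theorem terms_ok0 : allFrom 0 72 (T.chkTerms chevE6) = true := by
  decide +kernel

theorem refl_ok : allR 6 (fun i => allR 72 (T.chkRefl chevE6 i)) = true := by
  decide +kernel

theorem steps : T.chkSteps chevE6 = true := by
  decide +kernel


end Cfsg.Agent.Chev.E6
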