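import Cfsg.Agent.Lib.Chev.DataE8
import Cfsg.Prelude.Def_ChevE8

/-! Kernel evaluation of the checks for the datum of type E8. -/

set_option autoImplicit false
set_option maxRecDepth 100000

namespace Cfsg.Agent.Chev.E8

open Cfsg.Lie

theorem arr : T.chkArr chevE8 = true := by
  decide +kernel

theorem simp_ok : allR 8 (T.chkSimple chevE8) = true := by
  decide +kernel

theorem order_ok : T.chkOrder chevE8 T.order [] = true := by
  decide +kernel

theorem col0 : allFrom 0 60 (T.chkCol chevE8) = true := by
  decide +kernel

theorem root0 : allFrom 0 60 (T.chkRoot chevE8) = true := by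
  decide +kernel

theorem grad0 : allFrom 0 60 (T.chkGrad chevE8) = true := by
  decide +kernel

theorem terms_ok0 : allFrom 0 60 (T.chkTerms chevE8) = true := by
  decide +kernel

theorem col1 : allFrom 60 60 (T.chkCol chevE8) = true := by
  decide +kernel

theorem root1 : allFrom 60 60 (T.chkRoot chevE8) = true := by
  decide +kernel

theorem grad1 : allFrom 60 60 (T.chkGrad chevE8) = true := by
  decide +kernel

theorem terms_ok1 : allFrom 60 60 (T.chkTerms chevE8) = true := by
  decide +kernel

theorem col2 : allFrom 120 60 (T.chkCol chevE8) = true := by
  decide +kernel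

theorem root2 : allFrom 120 60 (T.chkRoot chevE8) = true := by
  decide +kernel

theorem grad2 : allFrom 120 60 (T.chkGrad chevE8) = true := by
  decide +kernel

theorem terms_ok2 : allFrom 120 60 (T.chkTerms chevE8) = true := by
  decide +kernel

theorem col3 : allFrom 180 60 (T.chkCol chevE8) = true := by
  decide +kernel

theorem root3 : allFrom 180 60 (T.chkRoot chevE8) = true := by
  decide +kernel

theorem grad3 : allFrom 180 60 (T.chkGrad chevE8) = true := by
  decide +kernel

theorem terms_ok3 : allFrom 180 60 (T.chkTerms chevE8) = true := by
  decide +kernel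

theorem refl_ok : allR 8 (fun i => allR 240 (T.chkRefl chevE8 i)) = true := by
  decide +kernel

theorem steps : T.chkSteps chevE8 = true := by
  decide +kernel


end Cfsg.Agent.Chev.E8
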