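import Cfsg.Agent.Lib.Chev.DataF4
import Cfsg.Prelude.Def_ChevF4

/-! Kernel evaluation of the checks for the datum of type F4. -/

set_option autoImplicit false
set_option maxRecDepth 100000

namespace Cfsg.Agent.Chev.F4

open Cfsg.Lie

theorem arr : T.chkArr chevF4 = true := by
  decide +kernel

theorem simp_ok : allR 4 (T.chkSimple chevF4) = true := by
  decide +kernel

theorem order_ok : T.chkOrder chevF4 T.order [] = true := by
  decide +kernel

theorem col0 : allFrom 0 48 (T.chkCol chevF4) = true := by
  decide +kernel

theorem root0 : allFrom 0 48 (T.chkRoot chevF4) = true := by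
  decide +kernel

theorem grad0 : allFrom 0 48 (T.chkGrad chevF4) = true := by
  decide +kernel

theorem terms_ok0 : allFrom 0 48 (T.chkTerms chevF4) = true := by
  decide +kernel

theorem refl_ok : allR 4 (fun i => allR 48 (T.chkRefl chevF4 i)) = true := by
  decide +kernel

theorem steps : T.chkSteps chevF4 = true := by
  decide +kernel


end Cfsg.Agent.Chev.F4
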