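import Cfsg.Agent.Lib.Chev.DataG2
import Cfsg.Prelude.Def_ChevG2

/-! Kernel evaluation of the checks for the datum of type G2. -/

set_option autoImplicit false
set_option maxRecDepth 100000

namespace Cfsg.Agent.Chev.G2

open Cfsg.Lie

theorem arr : T.chkArr chevG2 = true := by
  decide +kernel

theorem simp_ok : allR 2 (T.chkSimple chevG2) = true := by
  decide +kernel

theorem order_ok : T.chkOrder chevG2 T.order [] = true := by
  decide +kernel

theorem col0 : allFrom 0 12 (T.chkCol chevG2) = true := by
  decide +kernel

theorem root0 : allFrom 0 12 (T.chkRoot chevG2) = true := by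
  decide +kernel

theorem grad0 : allFrom 0 12 (T.chkGrad chevG2) = true := by
  decide +kernel

theorem terms_ok0 : allFrom 0 12 (T.chkTerms chevG2) = true := by
  decide +kernel

theorem refl_ok : allR 2 (fun i => allR 12 (T.chkRefl chevG2 i)) = true := by
  decide +kernel

theorem steps : T.chkSteps chevG2 = true := by
  decide +kernel


end Cfsg.Agent.Chev.G2
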