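import Cfsg.Agent.Lib.Chev.BN

/-!
The element exchanging the positive and the negative unipotent subgroups, and the core of the Borel subgroup.
-/

set_option autoImplicit false

namespace Cfsg.Agent.Chev

open Cfsg.Lie

variable {F : Type*} [Field F] {D : ChevalleyDatum} {T : Tabs}

namespace OKX

variable (ok : OKX D T)

include ok

theorem cC_piW {w : List ℕ} (hw : ∀ i ∈ w, i < D.rank) {r : ℕ} (hr : r < D.nroots) {j : ℕ} (hj : j < D.rank) :
    T.cC (piW T w r) j = ∑ k ∈ Finset.range D.rank, T.cC r k * T.cC (piW T w (T.smp k)) j := by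
  induction w generalizing j with
  | nil =>
    simp only [piW]
    rw [Finset.sum_eq_single j]
    · rw [ok.toOK.cC_smp hj hj, if_pos rfl, mul_one]
    · intro k hk hkj
      rw [ok.toOK.cC_smp (Finset.mem_range.mp hk) hj, if_neg (Ne.symm hkj), mul_zero]
    · intro h; exact absurd (Finset.mem_range.mpr hj) h
  | cons i v ih =>
    have hi := hw i List.mem_cons_self
    have hv : ∀ k ∈ v, k < D.rank := fun k hk => hw k (List.mem_cons_of_mem _ hk)
    have hlt : ∀ s < D.nroots, piW T v s < D.nroots := fun s hs => ((ok.toOK.act_gW (F := ℚ) v hv).1 s hs).1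
    simp only [piW]
    rw [ok.toOK.cC_refl hi hj (hlt r hr), ih hv hj]
    have e : T.pair D i (piW T v r) =
        ∑ k ∈ Finset.range D.rank, T.cC r k * T.pair D i (piW T v (T.smp k)) := by
      simp only [ok.toOK.sum_pair, Finset.mul_sum]
      rw [Finset.sum_comm]
      refine Finset.sum_congr rfl fun m hm => ?_
      rw [ih hv (Finset.mem_range.mp hm), Finset.sum_mul]
      exact Finset.sum_congr rfl fun k _ => by ring
    rw [e, ← sub_eq_zero]
    by_cases hji : j = i
    · simp only [if_pos hji, ← Finset.sum_sub_distrib]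
      refine Finset.sum_eq_zero fun k hk => ?_
      rw [ok.toOK.cC_refl hi hj (hlt _ (ok.toOK.smp_lt (Finset.mem_range.mp hk))), if_pos hji]
      ring
    · simp only [if_neg hji, sub_zero, ← Finset.sum_sub_distrib]
      refine Finset.sum_eq_zero fun k hk => ?_
      rw [ok.toOK.cC_refl hi hj (hlt _ (ok.toOK.smp_lt (Finset.mem_range.mp hk))), if_neg hji]
      ring

/-- Number of positive roots sent to negative roots. -/
noncomputable def negCount (_ : OKX D T) (w : List ℕ) : ℕ :=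
  ((Finset.range D.nroots).filter fun r => 0 < T.htf r ∧ T.htf (piW T w r) < 0).card

theorem negCount_succ {w : List ℕ} {i : ℕ} (hi : i < D.rank) (h : ¬ T.htf (piW T w (T.smp i)) < 0)
    (hw : ∀ k ∈ w, k < D.rank) : ok.negCount w < ok.negCount (w ++ [i]) := by
  have hp := ok.toOK.smp_lt hi
  refine lt_of_le_of_lt
    (b := (((Finset.range D.nroots).filter fun r => 0 < T.htf r ∧ T.htf (piW T (w ++ [i]) r) < 0).erase (T.smp i)).card)
    ?_ (Finset.card_erase_lt_of_mem ?_)
  · refine Finset.card_le_card_of_injOn (T.refl i) ?_ ?_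
    · intro r hr
      simp only [Finset.coe_filter, Finset.mem_range, Set.mem_setOf_eq] at hr
      obtain ⟨hr1, hr2, hr3⟩ := hr
      have hne : r ≠ T.smp i := fun e => h (e ▸ hr3)
      simp only [Finset.coe_erase, Finset.coe_filter, Finset.mem_range, Set.mem_diff, Set.mem_setOf_eq,
        Set.mem_singleton_iff]
      refine ⟨⟨ok.toOK.refl_lt hi hr1, ok.toOK.refl_pos hi hr1 hne hr2, ?_⟩, fun e => ?_⟩
      · rw [piW_append, piW, piW, ok.toOK.refl_refl hi hr1]; exact hr3
      · have e' := congrArg (T.refl i) e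
        rw [ok.toOK.refl_refl hi hr1, (ok.toOK.smp_spec hi).2.2.1] at e'
        rw [e', ok.toOK.ht_neg hp, (ok.toOK.smp_spec hi).1] at hr2
        omega
    · intro a ha b hb e
      simp only [Finset.coe_filter, Finset.mem_range, Set.mem_setOf_eq] at ha hb
      have := congrArg (T.refl i) e
      rwa [ok.toOK.refl_refl hi ha.1, ok.toOK.refl_refl hi hb.1] at this
  · simp only [Finset.mem_filter, Finset.mem_range]
    refine ⟨hp, by rw [(ok.toOK.smp_spec hi).1]; norm_num, ?_⟩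
    rw [piW_append, piW, piW, (ok.toOK.smp_spec hi).2.2.1,
      ((ok.toOK.act_gW (F := ℚ) w hw).1 _ hp).2, ok.toOK.ht_neg ((ok.toOK.act_gW (F := ℚ) w hw).1 _ hp).1]
    have := ok.toOK.ht_ne ((ok.toOK.act_gW (F := ℚ) w hw).1 _ hp).1
    omega

theorem exists_longest : ∃ w : List ℕ, (∀ i ∈ w, i < D.rank) ∧
    ∀ r < D.nroots, 0 < T.htf r → T.htf (piW T w r) < 0 := by
  classical
  have hb : ∀ k, (∃ w : List ℕ, (∀ i ∈ w, i < D.rank) ∧ D.nroots - ok.negCount w ≤ k) →
      ∃ w : List ℕ, (∀ i ∈ w, i < D.rank) ∧ ∀ i < D.rank, T.htf (piW T w (T.smp i)) < 0 := by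
    intro k
    induction k with
    | zero =>
      rintro ⟨w, hw, hk⟩
      refine ⟨w, hw, fun i hi => ?_⟩
      by_contra h
      have h1 := ok.negCount_succ hi h hw
      have h2 : ok.negCount (w ++ [i]) ≤ D.nroots :=
        (Finset.card_filter_le _ _).trans (le_of_eq (Finset.card_range _))
      omega
    | succ k ih =>
      rintro ⟨w, hw, hk⟩
      by_cases h : ∀ i < D.rank, T.htf (piW T w (T.smp i)) < 0
      · exact ⟨w, hw, h⟩
      push Not at h
      obtain ⟨i, hi, hne⟩ := h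
      have h1 := ok.negCount_succ hi (not_lt.mpr hne) hw
      exact ih ⟨w ++ [i], fun j hj => by
        rcases List.mem_append.mp hj with h | h
        · exact hw j h
        · rw [List.mem_singleton.mp h]; exact hi, by omega⟩
  obtain ⟨w, hw, hmax⟩ := hb D.nroots ⟨[], by simp, Nat.sub_le _ _⟩
  refine ⟨w, hw, fun r hr h0 => ?_⟩
  have hlt := ((ok.toOK.act_gW (F := ℚ) w hw).1 r hr).1
  by_contra hc
  have hpos : D.IsPosRoot (piW T w r) := ok.toOK.isPos_iff.mpr ⟨hlt, by have := ok.toOK.ht_ne hlt; omega⟩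
  have hrp : ∀ k < D.rank, 0 ≤ T.cC r k := by
    have h := (ok.toOK.isPos_iff (r := r)).mpr ⟨hr, h0⟩
    intro k hk
    refine h.2 _ ?_
    rw [ok.toOK.coroot_list hr]
    exact List.mem_map.mpr ⟨k, List.mem_range.mpr hk, rfl⟩
  obtain ⟨a, ha, b, hb', x, y, hxy⟩ := ok.toOK.bezout hlt
  have hz : ∀ j < D.rank, T.cC (piW T w r) j = 0 := by
    intro j hj
    refine le_antisymm ?_ (hpos.2 _ (by rw [ok.toOK.coroot_list hlt]; exact List.mem_map.mpr ⟨j, List.mem_range.mpr hj, rfl⟩))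
    rw [ok.cC_piW hw hr hj]
    refine Finset.sum_nonpos fun k hk => mul_nonpos_of_nonneg_of_nonpos (hrp k (Finset.mem_range.mp hk)) ?_
    have hk' := ok.toOK.smp_lt (Finset.mem_range.mp hk)
    have hk'' := ((ok.toOK.act_gW (F := ℚ) w hw).1 _ hk').1
    have hn : D.IsNegRoot (piW T w (T.smp k)) :=
      ok.toOK.isNeg_iff.mpr ⟨hk'', hmax k (Finset.mem_range.mp hk)⟩
    exact hn.2 _ (by rw [ok.toOK.coroot_list hk'']; exact List.mem_map.mpr ⟨j, List.mem_range.mpr hj, rfl⟩)
  rw [hz a ha, hz b hb'] at hxy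
  simp at hxy

theorem exists_conj_pos_neg : ∃ n ∈ D.monomialSubgroup F,
    (D.posUnipotent F).map (MulAut.conj n).toMonoidHom = D.negUnipotent F := by
  obtain ⟨w, hw, hneg⟩ := ok.exists_longest
  have hA := ok.toOK.act_gW (F := F) w hw
  refine ⟨ok.toOK.gW F w, ok.toOK.mem_monomial.mpr ⟨1, one_mem _, w, hw, by rw [one_mul]⟩, ?_⟩
  have hbij : ∀ s < D.nroots, T.htf s < 0 → ∃ r < D.nroots, 0 < T.htf r ∧ piW T w r = s := by
    intro s hs hs0
    have hinj : ∀ a < D.nroots, ∀ b < D.nroots, piW T w a = piW T w b → a = b := by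
      clear hneg hA
      induction w with
      | nil => exact fun a _ b _ h => h
      | cons i v ih =>
        intro a ha b hb h
        have hi := hw i List.mem_cons_self
        have hv : ∀ k ∈ v, k < D.rank := fun k hk => hw k (List.mem_cons_of_mem _ hk)
        have e := congrArg (T.refl i) h
        simp only [piW] at e
        rw [ok.toOK.refl_refl hi ((ok.toOK.act_gW (F := ℚ) v hv).1 a ha).1,
          ok.toOK.refl_refl hi ((ok.toOK.act_gW (F := ℚ) v hv).1 b hb).1] at e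
        exact ih hv a ha b hb e
    obtain ⟨a, ha', ha⟩ := Finset.surj_on_of_inj_on_of_card_le (s := Finset.range D.nroots) (t := Finset.range D.nroots)
      (fun a _ => piW T w a) (fun a ha => Finset.mem_range.mpr (hA.1 a (Finset.mem_range.mp ha)).1)
      (fun a b ha hb h => hinj a (Finset.mem_range.mp ha) b (Finset.mem_range.mp hb) h) le_rfl s
      (Finset.mem_range.mpr hs)
    have har : a < D.nroots := Finset.mem_range.mp ha'
    refine ⟨a, har, ?_, ha.symm⟩
    by_contra hc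
    have hn : 0 < T.htf (T.neg a) := by
      rw [ok.toOK.ht_neg har]; have := ok.toOK.ht_ne har; omega
    have := hneg _ (ok.toOK.neg_lt har) hn
    rw [(hA.1 a har).2, ← ha, ok.toOK.ht_neg hs] at this
    omega
  apply le_antisymm
  · rw [Subgroup.map_le_iff_le_comap, ChevalleyDatum.posUnipotent, Subgroup.closure_le]
    rintro g ⟨r, t, hr, hg⟩
    obtain ⟨hr1, hr2⟩ := ok.toOK.isPos_iff.mp hr
    obtain ⟨a, -, ha⟩ := hA.2.1 r hr1
    rw [ok.toOK.eq_xG hg, SetLike.mem_coe, Subgroup.mem_comap, MulEquiv.coe_toMonoidHom, MulAut.conj_apply,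
      (ha t).1]
    exact ok.toOK.xG_mem_neg (ok.toOK.isNeg_iff.mpr ⟨(hA.1 r hr1).1, hneg r hr1 hr2⟩) _
  · rw [ChevalleyDatum.negUnipotent, Subgroup.closure_le]
    rintro g ⟨s, t, hs, hg⟩
    obtain ⟨hs1, hs2⟩ := ok.toOK.isNeg_iff.mp hs
    obtain ⟨r, hr1, hr2, e⟩ := hbij s hs1 hs2
    obtain ⟨a, ha0, ha⟩ := hA.2.1 r hr1
    refine Subgroup.mem_map.mpr ⟨ok.toOK.xG r (a⁻¹ * t), ok.toOK.xG_mem_pos (ok.toOK.isPos_iff.mpr ⟨hr1, hr2⟩) _, ?_⟩
    rw [MulEquiv.coe_toMonoidHom, MulAut.conj_apply, (ha _).1, e, ← mul_assoc, mul_inv_cancel₀ ha0, one_mul]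
    exact (ok.toOK.eq_xG hg).symm

theorem core_eq_bot : ((D.borelSubgroup F).subgroupOf (D.group F)).normalCore = ⊥ := by
  set C := ((D.borelSubgroup F).subgroupOf (D.group F)).normalCore
  have hCB : C ≤ (D.borelSubgroup F).subgroupOf (D.group F) := Subgroup.normalCore_le _
  have hCn : C.Normal := Subgroup.normalCore_normal _
  obtain ⟨n₀, hn₀, hmap⟩ := ok.exists_conj_pos_neg (F := F)
  have hn₀G := ok.toOK.monomial_le_group hn₀
  have hH : ∀ g ∈ C, (g : GL D.Idx F) ∈ D.diagonalSubgroup F := by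
    intro g hg
    have h1 : (g : GL D.Idx F) ∈ D.borelSubgroup F := hCB hg
    have h2 := hCB (hCn.conj_mem g hg ⟨n₀, hn₀G⟩⁻¹)
    rw [Subgroup.mem_subgroupOf, inv_inv, Subgroup.coe_mul, Subgroup.coe_mul, Subgroup.coe_inv] at h2
    obtain ⟨u, hu, t, ht, e⟩ := ok.toOK.mem_borel h2
    have e' : (g : GL D.Idx F) = (n₀ * u * n₀⁻¹) * (n₀ * t * n₀⁻¹) := by
      rw [conj_mul, ← e]; simp [mul_assoc]
    refine ok.toOK.borel_inf_negB h1 ?_
    rw [e']
    refine mul_mem (Subgroup.mem_sup_left ?_) (Subgroup.mem_sup_right (ok.diag_normal_conj hn₀ ht))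
    rw [← hmap]
    exact Subgroup.mem_map.mpr ⟨u, hu, rfl⟩
  refine (Subgroup.eq_bot_iff_forall _).mpr fun g hg => Subtype.ext ?_
  obtain ⟨c, hc, hgc⟩ := ok.toOK.mem_diag.mp (hH g hg)
  have hchi : ∀ s : Fin D.nroots, ∏ i ∈ Finset.range D.rank, c i ^ T.cA i s = 1 := by
    intro s
    have hx := ok.toOK.xG_mem_group (F := F) (s : ℕ) 1
    have hk : (⟨(g : GL D.Idx F), g.2⟩ : ↥(D.group F)) * ⟨_, hx⟩ * ⟨(g : GL D.Idx F), g.2⟩⁻¹ * ⟨_, hx⟩⁻¹ ∈ C := by
      have := mul_mem hg (hCn.conj_mem g⁻¹ (inv_mem hg) ⟨_, hx⟩)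
      simpa [mul_assoc] using this
    have h1 := hH _ hk
    simp only [Subgroup.coe_mul, Subgroup.coe_inv] at h1
    obtain ⟨a, ha0, ha⟩ := (ok.toOK.act_diag (hH g hg)).2.1 (s : ℕ) s.isLt
    rw [(ha 1).1, mul_one, id, OK.xG_inv, OK.xG_mul] at h1
    -- a root element in the diagonal subgroup is trivial
    have h0 : a + -1 = 0 := by
      refine (ok.toOK.x_eq_one s.isLt _).mp ?_
      rcases ok.toOK.pos_or_neg s.isLt with hp | hp
      · have : ok.toOK.xG (s : ℕ) (a + -1) ∈ D.posUnipotent F ⊓ D.diagonalSubgroup F := ⟨ok.toOK.xG_mem_pos hp _, h1⟩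
        rw [ok.toOK.pos_inf_diag, Subgroup.mem_bot] at this
        rw [← ok.toOK.coe_xG, this]; rfl
      · have : ok.toOK.xG (s : ℕ) (a + -1) ∈ D.borelSubgroup F ⊓ D.negUnipotent F :=
          ⟨Subgroup.mem_sup_right h1, ok.toOK.xG_mem_neg hp _⟩
        rw [ok.toOK.borel_inf_neg, Subgroup.mem_bot] at this
        rw [← ok.toOK.coe_xG, this]; rfl
    have ha1 : a = 1 := by linear_combination h0
    subst ha1
    have h2 := (ha 1).1
    rw [mul_one, id, mul_inv_eq_iff_eq_mul] at h2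
    have h3 := congrArg (fun X : GL D.Idx F => (X : Matrix D.Idx D.Idx F)) h2
    simp only [Units.val_mul, OK.coe_xG, hgc, ok.toOK.coe_torG hc] at h3
    obtain ⟨A, hA, B, hB, x, y, hxy⟩ := ok.toOK.bezout s.isLt
    have key : ∀ j (hj : j < D.rank), (T.cC s j : F) * (∏ i ∈ Finset.range D.rank, c i ^ T.cA i s) = (T.cC s j : F) := by
      intro j hj
      have hn := ok.toOK.neg_lt (r := (s : ℕ)) s.isLt
      have e := congrFun (congrFun h3 (Sum.inl ⟨j, hj⟩)) (Sum.inr ⟨T.neg s, hn⟩)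
      rw [Matrix.diagonal_mul, Matrix.mul_diagonal, Sum.elim_inl, Sum.elim_inr, one_mul, ChevalleyDatum.x,
        dif_pos s.isLt] at e
      have h1' : (⟨T.neg s, hn⟩ : Fin D.nroots) ≠ s := fun e => ok.toOK.neg_ne s.isLt (congrArg Fin.val e)
      simp only [ChevalleyDatum.xMat, Matrix.of_apply, if_neg h1', ok.toOK.negIdx_eq s.isLt,
        ok.toOK.coroot_eq s.isLt hj, if_true, mul_one, Fin.eta] at e
      have hinv : ∏ i ∈ Finset.range D.rank, c i ^ T.cA i (T.neg s) =
          (∏ i ∈ Finset.range D.rank, c i ^ T.cA i s)⁻¹ := by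
        rw [← Finset.prod_inv_distrib]
        exact Finset.prod_congr rfl fun i hi => by rw [ok.toOK.cA_neg s.isLt (Finset.mem_range.mp hi), zpow_neg]
      rw [hinv] at e
      have hP : (∏ i ∈ Finset.range D.rank, c i ^ T.cA i s) ≠ 0 :=
        Finset.prod_ne_zero_iff.mpr fun i hi => zpow_ne_zero _ (hc i (Finset.mem_range.mp hi))
      conv_lhs => rw [e]
      rw [mul_assoc, inv_mul_cancel₀ hP, mul_one]
    calc (∏ i ∈ Finset.range D.rank, c i ^ T.cA i s)
        = ((x * T.cC s A + y * T.cC s B : ℤ) : F) * (∏ i ∈ Finset.range D.rank, c i ^ T.cA i s) := by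
          rw [hxy, Int.cast_one, one_mul]
      _ = ((x * T.cC s A + y * T.cC s B : ℤ) : F) := by
          push_cast
          rw [add_mul, mul_assoc, mul_assoc, key A hA, key B hB]
      _ = 1 := by rw [hxy, Int.cast_one]
  rw [hgc]
  refine Units.ext ?_
  rw [ok.toOK.coe_torG hc, Subgroup.coe_one, Units.val_one, ← Matrix.diagonal_one]
  congr 1
  funext a
  rcases a with a | s
  · simp
  · simpa using hchi s

end OKX

end Cfsg.Agent.Chev
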