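import Cfsg.Agent.Lib.Chev.Bruhat
import Cfsg.Agent.Lib.Chev.Poincare

/-!
A grading of the Lie algebra attached to a set of nodes, given by an integral combination of the Cartan integers.
-/

set_option autoImplicit false

namespace Cfsg.Agent.Chev

open Cfsg.Lie

/-- The value of a combination of the Cartan integers on a root. -/
noncomputable def Tabs.cowV (T : Tabs) (L : List (ℕ × ℤ)) (r : ℕ) : ℤ :=
  @List.rec (ℕ × ℤ) (fun _ => ℤ) 0 (fun e _ acc => Int.add (Int.mul e.2 (T.cA e.1 r)) acc) L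

/-- `M` gives for each node a combination which is positive exactly on the positive roots involving that node. -/
noncomputable def Tabs.chkCow (D : ChevalleyDatum) (T : Tabs) (M : List (List (ℕ × ℤ))) : Bool :=
  andR (allR D.rank fun k => allL (fun e => nlt e.1 D.rank) (M.getD k [])) <|
  allR D.rank fun k => allR D.nroots fun r => orR (notR (ipos (T.htf r)))
    (andR (inn (T.cowV (M.getD k []) r)) (beqB (ipos (T.cowV (M.getD k []) r)) (ipos (T.cC r k))))

theorem Tabs.cowV_eq (T : Tabs) (r : ℕ) :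
    ∀ L : List (ℕ × ℤ), T.cowV L r = (L.map fun e => e.2 * T.cA e.1 r).sum
  | [] => rfl
  | e :: L => by rw [List.map_cons, List.sum_cons, ← Tabs.cowV_eq T r L]; rfl

variable {F : Type*} [Field F] {D : ChevalleyDatum} {T : Tabs}

namespace OKX

variable (ok : OKX D T)

include ok

omit ok in
/-- The grading by the nodes outside `J`. -/
noncomputable def lam (D : ChevalleyDatum) (T : Tabs) (M : List (List (ℕ × ℤ))) (J : Set ℕ) (r : ℕ) : ℤ :=
  haveI := Classical.decPred (· ∈ J)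
  ∑ k ∈ (Finset.range D.rank).filter (· ∉ J), ((M.getD k []).map fun e => e.2 * T.cA e.1 r).sum

omit ok in
/-- The grading of the basis. -/
noncomputable def lamW (D : ChevalleyDatum) (T : Tabs) (M : List (List (ℕ × ℤ))) (J : Set ℕ) (a : D.Idx) : ℤ :=
  Sum.elim (fun _ => 0) (fun s : Fin D.nroots => lam D T M J s) a

theorem cow_spec {M : List (List (ℕ × ℤ))} (hM : Tabs.chkCow D T M = true) {k : ℕ} (hk : k < D.rank) :
    (∀ e ∈ M.getD k [], e.1 < D.rank) ∧ ∀ r < D.nroots, 0 < T.htf r →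
      0 ≤ ((M.getD k []).map fun e => e.2 * T.cA e.1 r).sum ∧
        (0 < ((M.getD k []).map fun e => e.2 * T.cA e.1 r).sum ↔ 0 < T.cC r k) := by
  simp only [Tabs.chkCow, andR_iff, allR_iff, allL_iff, nlt_iff, orR_iff, notR_iff, inn_iff, beqB_iff] at hM
  refine ⟨hM.1 k hk, fun r hr h0 => ?_⟩
  rcases hM.2 k hk r hr with e | ⟨e1, e2⟩
  · rw [ipos_iff.mpr h0] at e; simp at e
  · rw [Tabs.cowV_eq] at e1 e2
    exact ⟨e1, by rw [← ipos_iff, e2, ipos_iff]⟩

theorem lam_neg {M : List (List (ℕ × ℤ))} (hM : Tabs.chkCow D T M = true) (J : Set ℕ) {r : ℕ}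
    (hr : r < D.nroots) : lam D T M J (T.neg r) = -lam D T M J r := by
  classical
  rw [lam, lam, ← Finset.sum_neg_distrib]
  refine Finset.sum_congr rfl fun k hk => ?_
  have hk' := (ok.cow_spec hM (Finset.mem_range.mp (Finset.mem_filter.mp hk).1)).1
  rw [List.sum_neg, List.map_map]
  refine congrArg List.sum (List.map_congr_left fun e he => ?_)
  simp only [Function.comp_apply]
  rw [ok.toOK.cA_neg hr (hk' e he), mul_neg]

theorem inSub_iff {J : Set ℕ} {r : ℕ} : D.InRootSub J r ↔ r < D.nroots ∧ ∀ k < D.rank, k ∉ J → T.cC r k = 0 := by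
  constructor
  · rintro ⟨hr, h⟩
    exact ⟨hr, fun k hk hkJ => by rw [← ok.toOK.coroot_eq hr hk]; exact h k hk hkJ⟩
  · rintro ⟨hr, h⟩
    exact ⟨hr, fun k hk hkJ => by rw [ok.toOK.coroot_eq hr hk]; exact h k hk hkJ⟩

theorem cC_nonneg {r : ℕ} (hr : r < D.nroots) (h0 : 0 < T.htf r) {k : ℕ} (hk : k < D.rank) : 0 ≤ T.cC r k :=
  ((ok.toOK.isPos_iff (r := r)).mpr ⟨hr, h0⟩).2 _
    (by rw [ok.toOK.coroot_list hr]; exact List.mem_map.mpr ⟨k, List.mem_range.mpr hk, rfl⟩)

theorem cC_neg {r : ℕ} (hr : r < D.nroots) {k : ℕ} (hk : k < D.rank) : T.cC (T.neg r) k = -T.cC r k := by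
  have h := ok.toOK.root r hr
  simp only [Tabs.chkRoot, andR_iff, allR_iff, ieq_iff] at h
  exact (h.2.2.2.2.2.2.2.1 k hk).2

theorem inSub_neg {J : Set ℕ} {r : ℕ} (hr : r < D.nroots) : D.InRootSub J (T.neg r) ↔ D.InRootSub J r := by
  rw [ok.inSub_iff, ok.inSub_iff]
  constructor <;> rintro ⟨-, h⟩
  · exact ⟨hr, fun k hk hkJ => by have := h k hk hkJ; rwa [ok.cC_neg hr hk, neg_eq_zero] at this⟩
  · exact ⟨ok.toOK.neg_lt hr, fun k hk hkJ => by rw [ok.cC_neg hr hk, h k hk hkJ, neg_zero]⟩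

theorem lam_pos {M : List (List (ℕ × ℤ))} (hM : Tabs.chkCow D T M = true) (J : Set ℕ) {r : ℕ}
    (hr : r < D.nroots) (h0 : 0 < T.htf r) :
    0 ≤ lam D T M J r ∧ (lam D T M J r = 0 ↔ D.InRootSub J r) := by
  classical
  have hnn : ∀ k ∈ (Finset.range D.rank).filter (· ∉ J),
      0 ≤ ((M.getD k []).map fun e => e.2 * T.cA e.1 r).sum := fun k hk =>
    ((ok.cow_spec hM (Finset.mem_range.mp (Finset.mem_filter.mp hk).1)).2 r hr h0).1
  rw [lam, ok.inSub_iff, Finset.sum_eq_zero_iff_of_nonneg hnn]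
  refine ⟨Finset.sum_nonneg hnn, fun h => ⟨hr, fun k hk hkJ => ?_⟩, fun h k hk => ?_⟩
  · have h1 := h k (Finset.mem_filter.mpr ⟨Finset.mem_range.mpr hk, hkJ⟩)
    have h2 := ((ok.cow_spec hM hk).2 r hr h0).2
    have h3 := ok.cC_nonneg hr h0 hk
    rw [h1] at h2
    rcases h3.lt_or_eq with h3 | h3
    · exact absurd (h2.mpr h3) (lt_irrefl 0)
    · exact h3.symm
  · obtain ⟨hk1, hk2⟩ := Finset.mem_filter.mp hk
    have h2 := ((ok.cow_spec hM (Finset.mem_range.mp hk1)).2 r hr h0).2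
    rw [h.2 k (Finset.mem_range.mp hk1) hk2] at h2
    exact le_antisymm (not_lt.mp fun h4 => absurd (h2.mp h4) (lt_irrefl 0)) (hnn k hk)

theorem lam_eq_zero {M : List (List (ℕ × ℤ))} (hM : Tabs.chkCow D T M = true) {J : Set ℕ} {r : ℕ}
    (h : D.InRootSub J r) : lam D T M J r = 0 := by
  have hr := h.1
  rcases ok.toOK.pos_or_neg hr with hp | hn
  · exact ((ok.lam_pos hM J hr (ok.toOK.isPos_iff.mp hp).2).2).mpr h
  · have h0 := (ok.toOK.isNeg_iff.mp hn).2
    have := ((ok.lam_pos hM J (ok.toOK.neg_lt hr) (by rw [ok.toOK.ht_neg hr]; omega)).2).mpr ((ok.inSub_neg hr).mpr h)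
    rw [ok.lam_neg hM J hr, neg_eq_zero] at this
    exact this

theorem lamW_step {M : List (List (ℕ × ℤ))} (hM : Tabs.chkCow D T M = true) (J : Set ℕ) {r : ℕ}
    (hr : r < D.nroots) (t : F) {a b : D.Idx} (h : (D.x F r t - 1) a b ≠ 0) :
    ∃ k : ℕ, k ≠ 0 ∧ lamW D T M J a = lamW D T M J b + k * lam D T M J r := by
  classical
  rw [Matrix.sub_apply, ok.toOK.xMat_eq hr, Tabs.colT, colVal_cons] at h
  by_contra hc
  refine h ?_
  have : colVal t (T.ext r (phi D b)) (phi D a) = 0 := by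
    refine List.sum_eq_zero fun x hx => ?_
    obtain ⟨e, he, rfl⟩ := List.mem_map.mp hx
    rw [if_neg]
    intro e'
    obtain ⟨-, h1, -, -, h2⟩ := ok.toOK.ext_spec hr (phi_lt D b) he
    refine hc ⟨e.2.2, h1, ?_⟩
    have hw : ∀ z : D.Idx, lamW D T M J z =
        ∑ k ∈ (Finset.range D.rank).filter (fun i => i ∉ J),
          ((M.getD k []).map fun f => f.2 * Tabs.wt D (T.cA f.1) (phi D z)).sum := by
      rintro (z | z)
      · simp [lamW, Tabs.wt, phi, nlt_iff.mpr z.isLt]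
      · simp [lamW, lam, Tabs.wt, phi, nlt_false_iff.mpr (Nat.le_add_right D.rank (z : ℕ))]
    rw [hw, hw, lam, Finset.mul_sum, ← Finset.sum_add_distrib]
    refine Finset.sum_congr rfl fun k hk => ?_
    have hk' := (ok.cow_spec hM (Finset.mem_range.mp (Finset.mem_filter.mp hk).1)).1
    rw [← List.sum_map_mul_left, ← List.sum_map_add]
    refine congrArg List.sum (List.map_congr_left fun f hf => ?_)
    rw [← e', h2 f.1 (hk' f hf)]
    ring
  rw [this, add_zero, Matrix.one_apply]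
  simp [(phi_injective D).eq_iff, eq_comm]

theorem xG_mem_grade {M : List (List (ℕ × ℤ))} (hM : Tabs.chkCow D T M = true) (J : Set ℕ) {r : ℕ}
    (hr : r < D.nroots) (t : F) :
    (0 ≤ lam D T M J r → ok.toOK.xG r t ∈ uTri F (lamW D T M J) 0) ∧
    (0 < lam D T M J r → ok.toOK.xG r t ∈ uTri F (lamW D T M J) 1) ∧
    (lam D T M J r = 0 → ok.toOK.xG r t ∈ uTri F (fun a => -lamW D T M J a) 0) := by
  have hi : ((ok.toOK.xG r t)⁻¹ : GL D.Idx F) = ok.toOK.xG r (-t) := ok.toOK.xG_inv r t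
  refine ⟨fun h => ?_, fun h => ?_, fun h => ?_⟩
  all_goals
    constructor
  all_goals
    try rw [hi]
    intro a b hab
    by_contra hne
    rw [ok.toOK.coe_xG] at hne
    obtain ⟨k, hk, e⟩ := ok.lamW_step hM J hr _ hne
    simp only [Nat.cast_zero, add_zero, Nat.cast_one] at hab
    have : (1 : ℤ) ≤ k := by exact_mod_cast Nat.one_le_iff_ne_zero.mpr hk
    nlinarith

end OKX

end Cfsg.Agent.Chev
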