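import Cfsg.Agent.Lib.Chev.Tables

/-! Generated tables for the datum of type B2. -/

set_option autoImplicit false

namespace Cfsg.Agent.Chev.B2

def X0 : Tr (List (ℕ × ℤ × ℕ)) := (.node [(2, 2, 1)] (.node [] (.node [] (.node [(3, 1, 1)] .nil .nil) .nil) (.node [] (.node [(0, (-1), 1), (1, (-1), 1), (2, (-1), 2)] .nil .nil) .nil)) (.node [] (.node [] (.node [(4, (-1), 1)] .nil .nil) .nil) .nil))
def X1 : Tr (List (ℕ × ℤ × ℕ)) := (.node [] (.node [(3, 1, 1)] (.node [] (.node [(5, (-2), 1)] .nil .nil) .nil) (.node [] (.node [(7, (-1), 1), (5, 1, 2)] .nil .nil) .nil)) (.node [] (.node [(2, 2, 1)] (.node [(0, (-1), 1), (1, (-2), 1), (3, (-1), 2)] .nil .nil) .nil) (.node [(4, 1, 1), (2, 1, 2)] .nil .nil)))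
def X2 : Tr (List (ℕ × ℤ × ℕ)) := (.node [(4, 2, 1)] (.node [(4, (-1), 1)] (.node [(2, (-2), 1)] (.node [(0, (-1), 1), (4, (-1), 2)] .nil .nil) .nil) (.node [(3, 1, 1), (2, (-1), 2)] (.node [(8, 1, 1), (6, (-1), 2)] .nil .nil) .nil)) (.node [] (.node [] (.node [(6, (-2), 1)] .nil .nil) .nil) .nil))
def X3 : Tr (List (ℕ × ℤ × ℕ)) := (.node [(5, (-2), 1)] (.node [(5, 2, 1)] .nil .nil) (.node [] (.node [(3, (-1), 1)] (.node [(7, 1, 1)] .nil .nil) .nil) (.node [(1, (-1), 1), (5, (-1), 2)] .nil .nil)))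
def X4 : Tr (List (ℕ × ℤ × ℕ)) := (.node [(6, 2, 1)] (.node [(6, (-2), 1)] (.node [(4, (-1), 1)] (.node [(8, 1, 1)] .nil .nil) .nil) (.node [(1, 1, 1), (6, (-1), 2)] .nil .nil)) .nil)
def X5 : Tr (List (ℕ × ℤ × ℕ)) := (.node [(7, (-2), 1)] (.node [(7, 1, 1)] (.node [(5, 2, 1)] .nil .nil) .nil) (.node [(3, (-1), 1), (5, (-1), 2)] (.node [(0, 1, 1), (7, (-1), 2)] (.node [(9, 2, 1)] .nil .nil) .nil) (.node [(8, (-1), 1), (9, (-1), 2)] .nil .nil)))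
def X6 : Tr (List (ℕ × ℤ × ℕ)) := (.node [] (.node [(8, (-1), 1)] (.node [(0, 1, 1), (1, 2, 1), (8, (-1), 2)] (.node [(9, (-2), 1)] .nil .nil) .nil) (.node [(7, (-1), 1), (9, 1, 2)] .nil .nil)) (.node [(4, 1, 1), (6, 1, 2)] (.node [(6, 2, 1)] .nil .nil) .nil))
def X7 : Tr (List (ℕ × ℤ × ℕ)) := (.node [(9, (-2), 1)] (.node [] (.node [(7, 1, 1)] .nil .nil) .nil) (.node [(0, 1, 1), (1, 1, 1), (9, (-1), 2)] (.node [(8, (-1), 1)] .nil .nil) .nil))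
def M0 : Tr (List (ℕ × ℤ × ℕ × ℕ)) := (.node [] (.node [] .nil (.node [(1, 1, 1, 1), (3, (-1), 1, 2)] .nil .nil)) (.node [] .nil (.node [(2, (-1), 1, 1), (4, 1, 1, 2)] .nil .nil)))
def C0 : List (ℕ × List (ℕ × ℤ)) := [(5, [(1, 1)]), (6, [(2, (-1))])]
def M1 : Tr (List (ℕ × ℤ × ℕ × ℕ)) := (.node [] (.node [] (.node [] (.node [(5, (-1), 1, 1), (3, 1, 2, 1)] .nil .nil) .nil) (.node [(3, (-2), 1, 1)] .nil .nil)) (.node [(0, 2, 1, 1)] (.node [(2, 1, 1, 1), (0, 1, 2, 1)] .nil .nil) .nil))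
def C1 : List (ℕ × List (ℕ × ℤ)) := [(2, [(0, 2)]), (4, [(2, 1), (0, 1)]), (5, [(3, (-2))]), (7, [(5, (-1)), (3, 1)])]
def M2 : Tr (List (ℕ × ℤ × ℕ × ℕ)) := (.node [] (.node [(0, (-2), 1, 1)] (.node [(1, 1, 1, 1), (0, (-1), 2, 1)] (.node [(6, 1, 1, 1), (4, (-1), 2, 1)] .nil .nil) .nil) .nil) (.node [] .nil (.node [(4, (-2), 1, 1)] .nil .nil)))
def C2 : List (ℕ × List (ℕ × ℤ)) := [(1, [(0, (-2))]), (3, [(1, 1), (0, (-1))]), (6, [(4, (-2))]), (7, [(6, 1), (4, (-1))])]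
def M3 : Tr (List (ℕ × ℤ × ℕ × ℕ)) := (.node [] .nil (.node [(1, (-1), 1, 1), (0, (-1), 1, 2)] .nil (.node [(5, 1, 1, 1), (7, 1, 1, 2)] .nil .nil)))
def C3 : List (ℕ × List (ℕ × ℤ)) := [(2, [(1, (-1))]), (6, [(5, 1)])]
def M4 : Tr (List (ℕ × ℤ × ℕ × ℕ)) := (.node [] (.node [(2, (-1), 1, 1), (0, 1, 1, 2)] .nil (.node [(6, 1, 1, 1), (7, (-1), 1, 2)] .nil .nil)) .nil)
def C4 : List (ℕ × List (ℕ × ℤ)) := [(1, [(2, (-1))]), (5, [(6, 1)])]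
def M5 : Tr (List (ℕ × ℤ × ℕ × ℕ)) := (.node [(1, (-1), 1, 1), (3, (-1), 2, 1)] (.node [(3, 2, 1, 1)] .nil .nil) (.node [] (.node [(6, (-1), 1, 1), (7, (-1), 2, 1)] .nil .nil) (.node [(7, 2, 1, 1)] .nil .nil)))
def C5 : List (ℕ × List (ℕ × ℤ)) := [(0, [(1, (-1)), (3, (-1))]), (1, [(3, 2)]), (4, [(6, (-1)), (7, (-1))]), (6, [(7, 2)])]
def M6 : Tr (List (ℕ × ℤ × ℕ × ℕ)) := (.node [(2, 1, 1, 1), (4, 1, 2, 1)] (.node [] (.node [(5, (-1), 1, 1), (7, 1, 2, 1)] .nil .nil) (.node [(7, (-2), 1, 1)] .nil .nil)) (.node [(4, 2, 1, 1)] .nil .nil))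
def C6 : List (ℕ × List (ℕ × ℤ)) := [(0, [(2, 1), (4, 1)]), (2, [(4, 2)]), (3, [(5, (-1)), (7, 1)]), (5, [(7, (-2))])]
def M7 : Tr (List (ℕ × ℤ × ℕ × ℕ)) := (.node [] (.node [(5, 1, 1, 1), (3, 1, 1, 2)] .nil .nil) (.node [(6, (-1), 1, 1), (4, (-1), 1, 2)] .nil .nil))
def C7 : List (ℕ × List (ℕ × ℤ)) := [(1, [(5, 1)]), (2, [(6, (-1))])]
set_option maxRecDepth 20000 in
def T : Tabs where
  X := (.node X0 (.node X1 (.node X3 (.node X7 .nil .nil) .nil) (.node X5 .nil .nil)) (.node X2 (.node X4 .nil .nil) (.node X6 .nil .nil)))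
  ht := (.node (-3) (.node (-2) (.node (-1) (.node 3 .nil .nil) .nil) (.node 1 .nil .nil)) (.node (-1) (.node 1 .nil .nil) (.node 2 .nil .nil)))
  rf := (.node (.node (3, (-1)) (.node (1, (-1)) (.node (0, (-1)) (.node (4, (-1)) .nil .nil) .nil) (.node (2, (-1)) .nil .nil)) (.node (5, (-1)) (.node (7, (-1)) .nil .nil) (.node (6, (-1)) .nil .nil))) (.node (.node (0, 1) (.node (2, (-1)) (.node (4, (-1)) (.node (7, 1) .nil .nil) .nil) (.node (6, 1) .nil .nil)) (.node (1, 1) (.node (3, (-1)) .nil .nil) (.node (5, (-1)) .nil .nil))) .nil .nil) .nil)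
  A := (.node (.node (-2) (.node 0 (.node 2 (.node 2 .nil .nil) .nil) (.node 2 .nil .nil)) (.node (-2) (.node (-2) .nil .nil) (.node 0 .nil .nil))) (.node (.node 0 (.node (-1) (.node (-2) (.node 0 .nil .nil) .nil) (.node (-1) .nil .nil)) (.node 1 (.node 2 .nil .nil) (.node 1 .nil .nil))) .nil .nil) .nil)
  cor := (.node (.node (-1) (.node (-1) .nil .nil) .nil) (.node (.node (-1) (.node (-2) .nil .nil) .nil) (.node (.node 0 (.node (-1) .nil .nil) .nil) (.node (.node 1 (.node 1 .nil .nil) .nil) .nil .nil) .nil) (.node (.node 1 (.node 0 .nil .nil) .nil) .nil .nil)) (.node (.node (-1) (.node 0 .nil .nil) .nil) (.node (.node 0 (.node 1 .nil .nil) .nil) .nil .nil) (.node (.node 1 (.node 2 .nil .nil) .nil) .nil .nil)))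
  ng := (.node 7 (.node 6 (.node 4 (.node 0 .nil .nil) .nil) (.node 2 .nil .nil)) (.node 5 (.node 3 .nil .nil) (.node 1 .nil .nil)))
  sp := (.node 5 (.node 4 .nil .nil) .nil)
  ch := (.node C0 (.node C1 (.node C3 (.node C7 .nil .nil) .nil) (.node C5 .nil .nil)) (.node C2 (.node C4 .nil .nil) (.node C6 .nil .nil)))
  tm := (.node M0 (.node M1 (.node M3 (.node M7 .nil .nil) .nil) (.node M5 .nil .nil)) (.node M2 (.node M4 .nil .nil) (.node M6 .nil .nil)))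
  bz := (.node (0, 0, (-1), 0) (.node (0, 0, (-1), 0) (.node (1, 1, (-1), 0) (.node (0, 0, 1, 0) .nil .nil) .nil) (.node (0, 0, 1, 0) .nil .nil)) (.node (0, 0, (-1), 0) (.node (1, 1, 1, 0) .nil .nil) (.node (0, 0, 1, 0) .nil .nil)))
  order := [(5, none), (2, some (0, 5)), (6, some (1, 5)), (1, some (1, 2)), (4, none), (7, some (0, 4)), (3, some (1, 4)), (0, some (0, 3))]

end Cfsg.Agent.Chev.B2
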