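import Cfsg.Agent.Lib.Chev.Tables

/-! Generated tables for the datum of type D4. -/

set_option autoImplicit false

namespace Cfsg.Agent.Chev.D4

def X0 : Tr (List (ℕ × ℤ × ℕ)) := (.node [] (.node [(4, 1, 1)] (.node [] (.node [] .nil (.node [(10, (-1), 1)] .nil .nil)) (.node [] (.node [(6, (-1), 1)] .nil .nil) (.node [(0, (-1), 1), (1, (-2), 1), (2, (-1), 1), (3, (-1), 1), (4, (-1), 2)] .nil .nil))) (.node [] (.node [] .nil (.node [(12, 1, 1)] .nil .nil)) (.node [] (.node [(8, 1, 1)] .nil .nil) .nil))) (.node [] (.node [] (.node [] .nil (.node [(11, 1, 1)] .nil .nil)) (.node [] (.node [(7, (-1), 1)] .nil .nil) .nil)) (.node [] (.node [] (.node [(5, 1, 1)] .nil .nil) (.node [(13, (-1), 1)] .nil .nil)) .nil)))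
def X1 : Tr (List (ℕ × ℤ × ℕ)) := (.node [(5, 1, 1)] (.node [(5, (-1), 1)] (.node [(5, 1, 1)] .nil (.node [] .nil (.node [(18, (-1), 1)] .nil .nil))) (.node [] (.node [] (.node [(7, 1, 1)] .nil .nil) (.node [(15, (-1), 1)] .nil .nil)) (.node [(4, 1, 1)] (.node [(9, 1, 1)] .nil .nil) .nil))) (.node [(5, 1, 1)] (.node [] (.node [] (.node [(6, 1, 1)] .nil .nil) (.node [(14, (-1), 1)] .nil .nil)) .nil) (.node [] (.node [] .nil (.node [(0, (-1), 1), (1, (-1), 1), (2, (-1), 1), (3, (-1), 1), (5, (-1), 2)] .nil .nil)) (.node [] (.node [(10, (-1), 1)] .nil .nil) .nil))))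
def X2 : Tr (List (ℕ × ℤ × ℕ)) := (.node [(6, 1, 1)] (.node [] (.node [(6, (-1), 1)] (.node [] (.node [(5, 1, 1)] .nil .nil) (.node [(14, (-1), 1)] .nil .nil)) (.node [] .nil (.node [(19, 1, 1)] .nil .nil))) (.node [] (.node [] (.node [(8, 1, 1)] .nil .nil) (.node [(0, (-1), 1), (1, (-1), 1), (2, (-1), 1), (6, (-1), 2)] .nil .nil)) .nil)) (.node [(6, 1, 1)] (.node [] .nil (.node [(4, (-1), 1)] (.node [(9, 1, 1)] .nil .nil) .nil)) (.node [] (.node [] .nil (.node [(16, (-1), 1)] .nil .nil)) (.node [] (.node [(11, (-1), 1)] .nil .nil) .nil))))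
def X3 : Tr (List (ℕ × ℤ × ℕ)) := (.node [(7, 1, 1)] (.node [] (.node [(7, 1, 1)] (.node [] .nil (.node [(15, (-1), 1)] .nil .nil)) (.node [(4, (-1), 1)] (.node [(9, 1, 1)] .nil .nil) (.node [(20, 1, 1)] .nil .nil))) .nil) (.node [(7, (-1), 1)] (.node [] (.node [] (.node [(8, 1, 1)] .nil .nil) (.node [(0, (-1), 1), (1, (-1), 1), (3, (-1), 1), (7, (-1), 2)] .nil .nil)) .nil) (.node [] (.node [] .nil (.node [(17, (-1), 1)] .nil .nil)) (.node [(5, 1, 1)] (.node [(12, (-1), 1)] .nil .nil) .nil))))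
def X4 : Tr (List (ℕ × ℤ × ℕ)) := (.node [(8, 1, 1)] (.node [(8, 1, 1)] (.node [(8, (-1), 1)] (.node [] (.node [(7, 1, 1)] .nil .nil) (.node [(0, (-1), 1), (1, (-1), 1), (8, (-1), 2)] .nil .nil)) (.node [] .nil (.node [(21, (-1), 1)] .nil .nil))) (.node [] (.node [] .nil (.node [(17, (-1), 1)] .nil .nil)) .nil)) (.node [(8, (-1), 1)] (.node [] (.node [] .nil (.node [(16, (-1), 1)] .nil .nil)) .nil) (.node [] (.node [(4, 1, 1)] (.node [(9, 1, 1)] .nil .nil) .nil) (.node [(6, 1, 1)] (.node [(13, (-1), 1)] .nil .nil) .nil))))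
def X5 : Tr (List (ℕ × ℤ × ℕ)) := (.node [(9, 2, 1)] (.node [(9, (-1), 1)] (.node [] (.node [] .nil (.node [(18, (-1), 1)] .nil .nil)) (.node [(6, 1, 1)] .nil .nil)) (.node [] (.node [] .nil (.node [(20, (-1), 1)] .nil .nil)) (.node [(8, 1, 1)] .nil .nil))) (.node [] (.node [] (.node [] .nil (.node [(19, (-1), 1)] .nil .nil)) (.node [(7, 1, 1)] .nil .nil)) (.node [] (.node [(5, 1, 1)] .nil (.node [(21, (-1), 1)] .nil .nil)) (.node [] (.node [(0, (-1), 1), (9, (-1), 2)] .nil .nil) .nil))))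
def X6 : Tr (List (ℕ × ℤ × ℕ)) := (.node [(10, (-1), 1)] (.node [] (.node [(10, 1, 1)] .nil (.node [] (.node [(14, (-1), 1)] .nil .nil) (.node [(23, 1, 1)] .nil .nil))) (.node [] (.node [(5, (-1), 1)] (.node [(12, 1, 1)] .nil .nil) .nil) (.node [] (.node [(1, (-1), 1), (2, (-1), 1), (3, (-1), 1), (10, (-1), 2)] .nil .nil) .nil))) (.node [(10, 1, 1)] (.node [] (.node [(4, (-1), 1)] (.node [(11, 1, 1)] .nil .nil) .nil) (.node [] (.node [(15, (-1), 1)] .nil .nil) .nil)) (.node [] (.node [] .nil (.node [(22, 1, 1)] .nil .nil)) .nil)))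
def X7 : Tr (List (ℕ × ℤ × ℕ)) := (.node [(11, (-1), 1)] (.node [(11, 1, 1)] (.node [(11, (-1), 1)] (.node [(4, 1, 1)] (.node [(10, 1, 1)] .nil .nil) .nil) (.node [] .nil (.node [(24, (-1), 1)] .nil .nil))) (.node [] (.node [(6, (-1), 1)] (.node [(13, 1, 1)] .nil .nil) (.node [(22, 1, 1)] .nil .nil)) (.node [] (.node [(16, (-1), 1)] .nil .nil) .nil))) (.node [(11, 1, 1)] (.node [] .nil (.node [] (.node [(1, (-1), 1), (2, (-1), 1), (11, (-1), 2)] .nil .nil) .nil)) (.node [] (.node [] (.node [(14, (-1), 1)] .nil .nil) .nil) .nil)))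
def X8 : Tr (List (ℕ × ℤ × ℕ)) := (.node [(12, (-1), 1)] (.node [(12, 1, 1)] (.node [(12, 1, 1)] .nil (.node [] (.node [(1, (-1), 1), (3, (-1), 1), (12, (-1), 2)] .nil .nil) (.node [(25, (-1), 1)] .nil .nil))) (.node [] (.node [(7, (-1), 1)] .nil .nil) (.node [] (.node [(17, (-1), 1)] .nil .nil) .nil))) (.node [(12, (-1), 1)] (.node [] (.node [] (.node [(13, 1, 1)] .nil .nil) (.node [(22, 1, 1)] .nil .nil)) .nil) (.node [(4, 1, 1)] (.node [] (.node [(15, (-1), 1)] .nil .nil) .nil) (.node [(10, 1, 1)] .nil .nil))))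
def X9 : Tr (List (ℕ × ℤ × ℕ)) := (.node [(13, (-1), 1)] (.node [(13, 2, 1)] (.node [(13, (-1), 1)] (.node [] (.node [(12, 1, 1)] .nil .nil) (.node [(22, 1, 1)] .nil .nil)) (.node [] (.node [(16, (-1), 1)] .nil .nil) (.node [(26, 1, 1)] .nil .nil))) (.node [(4, (-1), 1)] (.node [(8, (-1), 1)] .nil .nil) .nil)) (.node [(13, (-1), 1)] (.node [] .nil (.node [] (.node [(17, (-1), 1)] .nil .nil) .nil)) (.node [] (.node [] (.node [(1, (-1), 1), (13, (-1), 2)] .nil .nil) .nil) (.node [(11, 1, 1)] .nil .nil))))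
def X10 : Tr (List (ℕ × ℤ × ℕ)) := (.node [] (.node [(14, (-1), 1)] (.node [] (.node [(5, (-1), 1)] .nil .nil) .nil) (.node [] (.node [] (.node [(2, (-1), 1), (14, (-1), 2)] .nil .nil) (.node [(23, 1, 1)] .nil .nil)) (.node [(11, (-1), 1)] (.node [(19, 1, 1)] .nil .nil) .nil))) (.node [(14, 2, 1)] (.node [] (.node [(6, (-1), 1)] .nil .nil) (.node [(10, (-1), 1)] (.node [(18, 1, 1)] .nil .nil) .nil)) (.node [] (.node [] .nil (.node [(24, 1, 1)] .nil .nil)) .nil)))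
def X11 : Tr (List (ℕ × ℤ × ℕ)) := (.node [] (.node [(15, (-1), 1)] (.node [(15, 2, 1)] .nil (.node [(10, (-1), 1)] (.node [(18, 1, 1)] .nil .nil) .nil)) (.node [] .nil (.node [(12, (-1), 1)] (.node [(20, 1, 1)] .nil .nil) .nil))) (.node [] (.node [] (.node [(7, (-1), 1)] (.node [(3, (-1), 1), (15, (-1), 2)] .nil .nil) (.node [(23, 1, 1)] .nil .nil)) .nil) (.node [(5, (-1), 1)] (.node [] .nil (.node [(25, 1, 1)] .nil .nil)) .nil)))
def X12 : Tr (List (ℕ × ℤ × ℕ)) := (.node [] (.node [(16, 1, 1)] (.node [(16, (-2), 1)] (.node [(8, (-1), 1)] (.node [(3, 1, 1), (16, (-1), 2)] .nil .nil) (.node [(24, 1, 1)] .nil .nil)) .nil) (.node [(6, (-1), 1)] (.node [] .nil (.node [(26, 1, 1)] .nil .nil)) .nil)) (.node [] (.node [] .nil (.node [(13, (-1), 1)] (.node [(21, 1, 1)] .nil .nil) .nil)) (.node [] (.node [(11, (-1), 1)] (.node [(19, 1, 1)] .nil .nil) .nil) .nil)))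
def X13 : Tr (List (ℕ × ℤ × ℕ)) := (.node [] (.node [(17, 1, 1)] (.node [] (.node [] .nil (.node [(25, 1, 1)] .nil .nil)) (.node [(13, (-1), 1)] (.node [(21, 1, 1)] .nil .nil) .nil)) (.node [(7, (-1), 1)] .nil .nil)) (.node [(17, (-2), 1)] (.node [] (.node [] .nil (.node [(26, 1, 1)] .nil .nil)) .nil) (.node [(8, (-1), 1)] (.node [(12, (-1), 1)] (.node [(20, 1, 1)] .nil .nil) .nil) (.node [(2, 1, 1), (17, (-1), 2)] .nil .nil))))
def X14 : Tr (List (ℕ × ℤ × ℕ)) := (.node [(18, 1, 1)] (.node [(18, (-2), 1)] (.node [(18, 1, 1)] .nil (.node [(14, 1, 1)] .nil .nil)) (.node [] (.node [] (.node [(20, (-1), 1)] .nil .nil) .nil) (.node [(1, 1, 1), (18, (-1), 2)] .nil .nil))) (.node [(18, 1, 1)] (.node [(5, (-1), 1)] (.node [(9, (-1), 1)] (.node [(19, (-1), 1)] .nil .nil) .nil) (.node [(15, 1, 1)] .nil .nil)) (.node [] (.node [] .nil (.node [(27, 1, 1)] .nil .nil)) (.node [] (.node [(23, 1, 1)] .nil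 .nil) .nil))))
def X15 : Tr (List (ℕ × ℤ × ℕ)) := (.node [(19, 1, 1)] (.node [(19, (-1), 1)] (.node [(19, (-1), 1)] (.node [(9, (-1), 1)] (.node [(18, (-1), 1)] .nil .nil) .nil) .nil) (.node [] (.node [] (.node [(21, (-1), 1)] .nil .nil) (.node [(27, (-1), 1)] .nil .nil)) (.node [(16, 1, 1)] .nil .nil))) (.node [(19, 1, 1)] (.node [(6, 1, 1)] .nil (.node [(1, 1, 1), (3, 1, 1), (19, (-1), 2)] .nil .nil)) (.node [] (.node [(14, 1, 1)] .nil .nil) (.node [] (.node [(24, 1, 1)] .nil .nil) .nil))))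
def X16 : Tr (List (ℕ × ℤ × ℕ)) := (.node [(20, 1, 1)] (.node [(20, (-1), 1)] (.node [(20, 1, 1)] .nil (.node [(1, 1, 1), (2, 1, 1), (20, (-1), 2)] .nil .nil)) (.node [] .nil (.node [(17, 1, 1)] .nil .nil))) (.node [(20, (-1), 1)] (.node [(7, 1, 1)] (.node [] (.node [(21, (-1), 1)] .nil .nil) (.node [(27, (-1), 1)] .nil .nil)) .nil) (.node [(9, (-1), 1)] (.node [(15, 1, 1)] .nil .nil) (.node [(18, (-1), 1)] (.node [(25, 1, 1)] .nil .nil) .nil))))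
def X17 : Tr (List (ℕ × ℤ × ℕ)) := (.node [(21, 1, 1)] (.node [] (.node [(21, (-1), 1)] (.node [] (.node [(20, (-1), 1)] .nil .nil) (.node [(27, 1, 1)] .nil .nil)) (.node [(16, 1, 1)] .nil .nil)) (.node [(9, (-1), 1)] .nil .nil)) (.node [(21, (-1), 1)] (.node [(8, (-1), 1)] .nil (.node [(17, 1, 1)] .nil .nil)) (.node [] (.node [(1, 1, 1), (2, 1, 1), (3, 1, 1), (21, (-1), 2)] .nil .nil) (.node [(19, (-1), 1)] (.node [(26, 1, 1)] .nil .nil) .nil))))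
def X18 : Tr (List (ℕ × ℤ × ℕ)) := (.node [(22, (-2), 1)] (.node [(22, 1, 1)] (.node [] (.node [(12, 1, 1)] .nil .nil) (.node [] (.node [(24, (-1), 1)] .nil .nil) .nil)) (.node [(10, 1, 1)] (.node [(0, 1, 1), (22, (-1), 2)] .nil .nil) (.node [] (.node [(26, (-1), 1)] .nil .nil) .nil))) (.node [] (.node [] (.node [(13, 1, 1)] .nil .nil) (.node [] (.node [(25, (-1), 1)] .nil .nil) .nil)) (.node [(11, 1, 1)] (.node [] (.node [(23, (-1), 1)] .nil .nil) .nil) .nil)))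
def X19 : Tr (List (ℕ × ℤ × ℕ)) := (.node [(23, (-1), 1)] (.node [(23, (-1), 1)] (.node [(23, 1, 1)] (.node [(15, 1, 1)] .nil .nil) .nil) (.node [] (.node [(18, 1, 1)] (.node [(25, (-1), 1)] .nil .nil) .nil) (.node [(22, (-1), 1)] (.node [(27, (-1), 1)] .nil .nil) .nil))) (.node [(23, 1, 1)] (.node [(10, 1, 1)] (.node [(0, 1, 1), (1, 1, 1), (23, (-1), 2)] (.node [(24, (-1), 1)] .nil .nil) .nil) .nil) (.node [(14, 1, 1)] .nil .nil)))
def X20 : Tr (List (ℕ × ℤ × ℕ)) := (.node [(24, (-1), 1)] (.node [] (.node [(24, (-1), 1)] (.node [(0, 1, 1), (1, 1, 1), (3, 1, 1), (24, (-1), 2)] (.node [(23, (-1), 1)] .nil .nil) .nil) .nil) (.node [(14, 1, 1)] (.node [(19, 1, 1)] (.node [(26, (-1), 1)] .nil .nil) .nil) .nil)) (.node [(24, 1, 1)] (.node [(11, (-1), 1)] (.node [(16, 1, 1)] .nil .nil) (.node [(22, (-1), 1)] (.node [(27, 1, 1)] .nil .nil) .nil)) .nil))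
def X21 : Tr (List (ℕ × ℤ × ℕ)) := (.node [(25, (-1), 1)] (.node [] (.node [(25, 1, 1)] .nil (.node [(22, (-1), 1)] (.node [(27, 1, 1)] .nil .nil) .nil)) (.node [(15, 1, 1)] (.node [(20, 1, 1)] .nil .nil) .nil)) (.node [(25, (-1), 1)] (.node [(12, (-1), 1)] (.node [(17, 1, 1)] (.node [(26, (-1), 1)] .nil .nil) .nil) .nil) (.node [(0, 1, 1), (1, 1, 1), (2, 1, 1), (25, (-1), 2)] .nil (.node [(23, (-1), 1)] .nil .nil))))
def X22 : Tr (List (ℕ × ℤ × ℕ)) := (.node [(26, (-1), 1)] (.node [(26, 1, 1)] (.node [(26, (-1), 1)] (.node [(17, 1, 1)] (.node [(25, (-1), 1)] .nil .nil) .nil) .nil) (.node [(0, 1, 1), (1, 1, 1), (2, 1, 1), (3, 1, 1), (26, (-1), 2)] (.node [(21, 1, 1)] .nil .nil) .nil)) (.node [(26, (-1), 1)] (.node [(13, 1, 1)] .nil .nil) (.node [(16, 1, 1)] (.node [(22, (-1), 1)] (.node [(27, (-1), 1)] .nil .nil) .nil) (.node [(24, (-1), 1)] .nil .nil))))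
def X23 : Tr (List (ℕ × ℤ × ℕ)) := (.node [] (.node [(27, (-1), 1)] (.node [] (.node [(20, (-1), 1)] .nil .nil) (.node [(24, 1, 1)] .nil .nil)) (.node [(18, 1, 1)] .nil (.node [(26, (-1), 1)] .nil .nil))) (.node [] (.node [(0, 1, 1), (1, 2, 1), (2, 1, 1), (3, 1, 1), (27, (-1), 2)] (.node [(21, 1, 1)] .nil .nil) (.node [(25, 1, 1)] .nil .nil)) (.node [(19, (-1), 1)] (.node [(23, (-1), 1)] .nil .nil) .nil)))
def M0 : Tr (List (ℕ × ℤ × ℕ × ℕ)) := (.node [] (.node [] (.node [] (.node [] (.node [(2, (-1), 1, 1)] .nil .nil) .nil) (.node [] (.node [(6, (-1), 1, 1)] .nil .nil) .nil)) (.node [] (.node [] (.node [(4, 1, 1, 1)] .nil .nil) .nil) (.node [] (.node [(8, 1, 1, 1)] .nil .nil) .nil))) (.node [] (.node [] (.node [] (.node [(3, (-1), 1, 1)] .nil .nil) .nil) (.node [] (.node [(7, 1, 1, 1)] .nil .nil) .nil)) (.node [] .nil (.node [(1, 1, 1, 1)] (.node [(9, (-1), 1, 1)] .nil .nil) .nil))))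
def C0 : List (ℕ × List (ℕ × ℤ)) := [(14, [(1, 1)]), (15, [(2, (-1))]), (16, [(3, (-1))]), (17, [(4, 1)]), (19, [(6, (-1))]), (20, [(7, 1)]), (21, [(8, 1)]), (22, [(9, (-1))])]
def M1 : Tr (List (ℕ × ℤ × ℕ × ℕ)) := (.node [] (.node [] (.node [] (.node [] .nil (.node [(14, (-1), 1, 1)] .nil .nil)) .nil) (.node [] (.node [(0, 1, 1, 1)] (.node [(5, 1, 1, 1)] .nil .nil) .nil) (.node [(3, 1, 1, 1)] (.node [(11, (-1), 1, 1)] .nil .nil) .nil))) (.node [] (.node [] .nil (.node [(2, 1, 1, 1)] (.node [(10, (-1), 1, 1)] .nil .nil) .nil)) (.node [] (.node [] (.node [(6, (-1), 1, 1)] .nil .nil) .nil) .nil)))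
def C1 : List (ℕ × List (ℕ × ℤ)) := [(9, [(0, 1)]), (12, [(2, 1)]), (13, [(3, 1)]), (17, [(5, 1)]), (18, [(6, (-1))]), (20, [(10, (-1))]), (21, [(11, (-1))]), (23, [(14, (-1))])]
def M2 : Tr (List (ℕ × ℤ × ℕ × ℕ)) := (.node [] (.node [] (.node [] (.node [] .nil (.node [(15, 1, 1, 1)] .nil .nil)) (.node [(1, 1, 1, 1)] (.node [(10, (-1), 1, 1)] .nil .nil) .nil)) (.node [] .nil (.node [(4, 1, 1, 1)] .nil .nil))) (.node [] (.node [] (.node [(0, (-1), 1, 1)] (.node [(5, 1, 1, 1)] .nil .nil) .nil) .nil) (.node [] (.node [] (.node [(7, (-1), 1, 1)] .nil .nil) .nil) (.node [] (.node [(12, (-1), 1, 1)] .nil .nil) .nil))))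
def C2 : List (ℕ × List (ℕ × ℤ)) := [(8, [(0, (-1))]), (11, [(1, 1)]), (13, [(4, 1)]), (16, [(5, 1)]), (18, [(7, (-1))]), (19, [(10, (-1))]), (22, [(12, (-1))]), (23, [(15, 1)])]
def M3 : Tr (List (ℕ × ℤ × ℕ × ℕ)) := (.node [] (.node [] (.node [] (.node [(0, (-1), 1, 1)] (.node [(5, 1, 1, 1)] .nil .nil) (.node [(16, 1, 1, 1)] .nil .nil)) (.node [] (.node [(11, (-1), 1, 1)] .nil .nil) .nil)) .nil) (.node [] (.node [] .nil (.node [(4, 1, 1, 1)] .nil .nil)) (.node [] (.node [(1, 1, 1, 1)] (.node [(8, (-1), 1, 1)] .nil .nil) .nil) (.node [] (.node [(13, (-1), 1, 1)] .nil .nil) .nil))))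
def C3 : List (ℕ × List (ℕ × ℤ)) := [(7, [(0, (-1))]), (10, [(1, 1)]), (12, [(4, 1)]), (15, [(5, 1)]), (18, [(8, (-1))]), (19, [(11, (-1))]), (22, [(13, (-1))]), (23, [(16, 1)])]
def M4 : Tr (List (ℕ × ℤ × ℕ × ℕ)) := (.node [] (.node [] (.node [] (.node [] .nil (.node [(17, (-1), 1, 1)] .nil .nil)) (.node [(3, 1, 1, 1)] .nil .nil)) (.node [] .nil (.node [] (.node [(13, (-1), 1, 1)] .nil .nil) .nil))) (.node [] (.node [] .nil (.node [] (.node [(12, (-1), 1, 1)] .nil .nil) .nil)) (.node [(0, 1, 1, 1)] (.node [(2, 1, 1, 1)] (.node [(9, (-1), 1, 1)] .nil .nil) .nil) (.node [(5, 1, 1, 1)] .nil .nil))))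
def C4 : List (ℕ × List (ℕ × ℤ)) := [(6, [(0, 1)]), (10, [(2, 1)]), (11, [(3, 1)]), (14, [(5, 1)]), (18, [(9, (-1))]), (20, [(12, (-1))]), (21, [(13, (-1))]), (23, [(17, (-1))])]
def M5 : Tr (List (ℕ × ℤ × ℕ × ℕ)) := (.node [] (.node [] (.node [] (.node [(2, 1, 1, 1)] .nil .nil) (.node [] (.node [(14, (-1), 1, 1)] .nil .nil) .nil)) (.node [] (.node [(4, 1, 1, 1)] .nil .nil) (.node [] (.node [(16, (-1), 1, 1)] .nil .nil) .nil))) (.node [] (.node [] (.node [(3, 1, 1, 1)] .nil .nil) (.node [] (.node [(15, (-1), 1, 1)] .nil .nil) .nil)) (.node [(1, 1, 1, 1)] .nil (.node [] (.node [(17, (-1), 1, 1)] .nil .nil) .nil))))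
def C5 : List (ℕ × List (ℕ × ℤ)) := [(6, [(1, 1)]), (7, [(2, 1)]), (8, [(3, 1)]), (9, [(4, 1)]), (19, [(14, (-1))]), (20, [(15, (-1))]), (21, [(16, (-1))]), (22, [(17, (-1))])]
def M6 : Tr (List (ℕ × ℤ × ℕ × ℕ)) := (.node [] (.node [] (.node [] (.node [] (.node [(10, (-1), 1, 1)] .nil .nil) (.node [(19, 1, 1, 1)] .nil .nil)) .nil) (.node [(1, (-1), 1, 1)] .nil (.node [(8, 1, 1, 1)] .nil .nil))) (.node [] (.node [(0, (-1), 1, 1)] (.node [] (.node [(11, (-1), 1, 1)] .nil .nil) .nil) (.node [(7, 1, 1, 1)] .nil .nil)) (.node [] .nil (.node [] (.node [(18, 1, 1, 1)] .nil .nil) .nil))))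
def C6 : List (ℕ × List (ℕ × ℤ)) := [(4, [(0, (-1))]), (5, [(1, (-1))]), (12, [(7, 1)]), (13, [(8, 1)]), (15, [(10, (-1))]), (16, [(11, (-1))]), (22, [(18, 1)]), (23, [(19, 1)])]
def M7 : Tr (List (ℕ × ℤ × ℕ × ℕ)) := (.node [] (.node [] (.node [(0, 1, 1, 1)] (.node [] .nil (.node [(20, (-1), 1, 1)] .nil .nil)) (.node [(6, 1, 1, 1)] .nil .nil)) (.node [(2, (-1), 1, 1)] (.node [] (.node [(12, (-1), 1, 1)] .nil .nil) .nil) (.node [(9, 1, 1, 1)] (.node [(18, 1, 1, 1)] .nil .nil) .nil))) (.node [] .nil (.node [] .nil (.node [(10, (-1), 1, 1)] .nil .nil))))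
def C7 : List (ℕ × List (ℕ × ℤ)) := [(3, [(0, 1)]), (5, [(2, (-1))]), (11, [(6, 1)]), (13, [(9, 1)]), (14, [(10, (-1))]), (17, [(12, (-1))]), (21, [(18, 1)]), (23, [(20, (-1))])]
def M8 : Tr (List (ℕ × ℤ × ℕ × ℕ)) := (.node [] (.node [] (.node [] (.node [] .nil (.node [(21, (-1), 1, 1)] .nil .nil)) .nil) (.node [(3, (-1), 1, 1)] (.node [] (.node [(13, (-1), 1, 1)] .nil .nil) .nil) .nil)) (.node [(0, 1, 1, 1)] (.node [] .nil (.node [(9, 1, 1, 1)] (.node [(18, 1, 1, 1)] .nil .nil) .nil)) (.node [] (.node [(6, 1, 1, 1)] .nil .nil) (.node [(11, (-1), 1, 1)] .nil .nil))))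
def C8 : List (ℕ × List (ℕ × ℤ)) := [(2, [(0, 1)]), (5, [(3, (-1))]), (10, [(6, 1)]), (12, [(9, 1)]), (14, [(11, (-1))]), (17, [(13, (-1))]), (20, [(18, 1)]), (23, [(21, (-1))])]
def M9 : Tr (List (ℕ × ℤ × ℕ × ℕ)) := (.node [] (.node [(0, (-1), 1, 1)] (.node [] (.node [] (.node [(12, (-1), 1, 1)] .nil .nil) (.node [(22, 1, 1, 1)] .nil .nil)) (.node [(8, 1, 1, 1)] (.node [(18, 1, 1, 1)] .nil .nil) .nil)) (.node [(4, (-1), 1, 1)] .nil .nil)) (.node [] (.node [] (.node [] (.node [(13, (-1), 1, 1)] .nil .nil) .nil) .nil) (.node [] (.node [(7, 1, 1, 1)] .nil .nil) .nil)))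
def C9 : List (ℕ × List (ℕ × ℤ)) := [(1, [(0, (-1))]), (5, [(4, (-1))]), (10, [(7, 1)]), (11, [(8, 1)]), (15, [(12, (-1))]), (16, [(13, (-1))]), (19, [(18, 1)]), (23, [(22, 1)])]
def M10 : Tr (List (ℕ × ℤ × ℕ × ℕ)) := (.node [] (.node [] (.node [(1, (-1), 1, 1)] .nil .nil) (.node [] (.node [(7, (-1), 1, 1)] (.node [(15, 1, 1, 1)] .nil .nil) .nil) (.node [] (.node [(19, 1, 1, 1)] .nil .nil) .nil))) (.node [] (.node [(2, (-1), 1, 1)] (.node [(6, (-1), 1, 1)] (.node [(14, 1, 1, 1)] .nil .nil) .nil) .nil) (.node [] .nil (.node [] (.node [(20, 1, 1, 1)] .nil .nil) .nil))))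
def C10 : List (ℕ × List (ℕ × ℤ)) := [(3, [(1, (-1))]), (4, [(2, (-1))]), (8, [(6, (-1))]), (9, [(7, (-1))]), (16, [(14, 1)]), (17, [(15, 1)]), (21, [(19, 1)]), (22, [(20, 1)])]
def M11 : Tr (List (ℕ × ℤ × ℕ × ℕ)) := (.node [] (.node [] (.node [] (.node [(6, (-1), 1, 1)] (.node [(14, 1, 1, 1)] .nil .nil) .nil) .nil) (.node [] (.node [(8, (-1), 1, 1)] (.node [(16, 1, 1, 1)] .nil .nil) .nil) .nil)) (.node [(1, (-1), 1, 1)] (.node [(3, (-1), 1, 1)] .nil (.node [] (.node [(19, 1, 1, 1)] .nil .nil) .nil)) (.node [] .nil (.node [] (.node [(21, 1, 1, 1)] .nil .nil) .nil))))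
def C11 : List (ℕ × List (ℕ × ℤ)) := [(2, [(1, (-1))]), (4, [(3, (-1))]), (7, [(6, (-1))]), (9, [(8, (-1))]), (15, [(14, 1)]), (17, [(16, 1)]), (20, [(19, 1)]), (22, [(21, 1)])]
def M12 : Tr (List (ℕ × ℤ × ℕ × ℕ)) := (.node [] (.node [(2, (-1), 1, 1)] (.node [(4, (-1), 1, 1)] .nil (.node [] (.node [(20, 1, 1, 1)] .nil .nil) .nil)) (.node [] .nil (.node [] (.node [(22, 1, 1, 1)] .nil .nil) .nil))) (.node [] (.node [] (.node [(9, (-1), 1, 1)] (.node [(17, 1, 1, 1)] .nil .nil) .nil) .nil) (.node [(7, (-1), 1, 1)] .nil (.node [(15, 1, 1, 1)] .nil .nil))))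
def C12 : List (ℕ × List (ℕ × ℤ)) := [(1, [(2, (-1))]), (3, [(4, (-1))]), (6, [(7, (-1))]), (8, [(9, (-1))]), (14, [(15, 1)]), (16, [(17, 1)]), (19, [(20, 1)]), (21, [(22, 1)])]
def M13 : Tr (List (ℕ × ℤ × ℕ × ℕ)) := (.node [] (.node [(3, (-1), 1, 1)] (.node [] (.node [(9, (-1), 1, 1)] (.node [(17, 1, 1, 1)] .nil .nil) .nil) (.node [] (.node [(21, 1, 1, 1)] .nil .nil) .nil)) .nil) (.node [(4, (-1), 1, 1)] (.node [] .nil (.node [] (.node [(22, 1, 1, 1)] .nil .nil) .nil)) (.node [(8, (-1), 1, 1)] .nil (.node [(16, 1, 1, 1)] .nil .nil))))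
def C13 : List (ℕ × List (ℕ × ℤ)) := [(1, [(3, (-1))]), (2, [(4, (-1))]), (6, [(8, (-1))]), (7, [(9, (-1))]), (14, [(16, 1)]), (15, [(17, 1)]), (19, [(21, 1)]), (20, [(22, 1)])]
def M14 : Tr (List (ℕ × ℤ × ℕ × ℕ)) := (.node [(1, (-1), 1, 1)] (.node [] (.node [] (.node [(10, 1, 1, 1)] .nil .nil) .nil) (.node [] .nil (.node [(16, (-1), 1, 1)] .nil .nil))) (.node [] (.node [(5, (-1), 1, 1)] (.node [(11, 1, 1, 1)] .nil .nil) (.node [(15, (-1), 1, 1)] .nil .nil)) (.node [] (.node [] (.node [(19, 1, 1, 1)] .nil .nil) .nil) (.node [] (.node [(23, 1, 1, 1)] .nil .nil) .nil))))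
def C14 : List (ℕ × List (ℕ × ℤ)) := [(0, [(1, (-1))]), (4, [(5, (-1))]), (7, [(10, 1)]), (8, [(11, 1)]), (12, [(15, (-1))]), (13, [(16, (-1))]), (18, [(19, 1)]), (22, [(23, 1)])]
def M15 : Tr (List (ℕ × ℤ × ℕ × ℕ)) := (.node [(2, 1, 1, 1)] (.node [] (.node [(5, (-1), 1, 1)] .nil (.node [(14, (-1), 1, 1)] .nil .nil)) (.node [] (.node [(12, 1, 1, 1)] .nil .nil) (.node [(17, (-1), 1, 1)] (.node [(23, (-1), 1, 1)] .nil .nil) .nil))) (.node [] .nil (.node [(10, 1, 1, 1)] (.node [] (.node [(20, 1, 1, 1)] .nil .nil) .nil) .nil)))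
def C15 : List (ℕ × List (ℕ × ℤ)) := [(0, [(2, 1)]), (3, [(5, (-1))]), (6, [(10, 1)]), (9, [(12, 1)]), (11, [(14, (-1))]), (13, [(17, (-1))]), (18, [(20, 1)]), (21, [(23, (-1))])]
def M16 : Tr (List (ℕ × ℤ × ℕ × ℕ)) := (.node [(3, 1, 1, 1)] (.node [] .nil (.node [] (.node [(13, 1, 1, 1)] .nil .nil) .nil)) (.node [(5, (-1), 1, 1)] (.node [] .nil (.node [(17, (-1), 1, 1)] (.node [(23, (-1), 1, 1)] .nil .nil) .nil)) (.node [(11, 1, 1, 1)] (.node [(14, (-1), 1, 1)] (.node [(21, 1, 1, 1)] .nil .nil) .nil) .nil)))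
def C16 : List (ℕ × List (ℕ × ℤ)) := [(0, [(3, 1)]), (2, [(5, (-1))]), (6, [(11, 1)]), (9, [(13, 1)]), (10, [(14, (-1))]), (12, [(17, (-1))]), (18, [(21, 1)]), (20, [(23, (-1))])]
def M17 : Tr (List (ℕ × ℤ × ℕ × ℕ)) := (.node [(4, (-1), 1, 1)] (.node [(5, (-1), 1, 1)] (.node [] (.node [(12, 1, 1, 1)] .nil .nil) (.node [(16, (-1), 1, 1)] (.node [(23, 1, 1, 1)] .nil .nil) .nil)) .nil) (.node [] (.node [] (.node [(13, 1, 1, 1)] .nil .nil) .nil) (.node [] (.node [(15, (-1), 1, 1)] (.node [(22, 1, 1, 1)] .nil .nil) .nil) .nil)))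
def C17 : List (ℕ × List (ℕ × ℤ)) := [(0, [(4, (-1))]), (1, [(5, (-1))]), (7, [(12, 1)]), (8, [(13, 1)]), (10, [(15, (-1))]), (11, [(16, (-1))]), (18, [(22, 1)]), (19, [(23, 1)])]
def M18 : Tr (List (ℕ × ℤ × ℕ × ℕ)) := (.node [] (.node [(6, 1, 1, 1)] (.node [(8, 1, 1, 1)] (.node [] (.node [(20, (-1), 1, 1)] .nil .nil) .nil) .nil) (.node [] (.node [] (.node [(22, (-1), 1, 1)] .nil .nil) .nil) .nil)) (.node [(7, 1, 1, 1)] (.node [(9, 1, 1, 1)] (.node [] (.node [(21, (-1), 1, 1)] .nil .nil) .nil) .nil) (.node [] .nil (.node [(19, (-1), 1, 1)] .nil .nil))))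
def C18 : List (ℕ × List (ℕ × ℤ)) := [(1, [(6, 1)]), (2, [(7, 1)]), (3, [(8, 1)]), (4, [(9, 1)]), (14, [(19, (-1))]), (15, [(20, (-1))]), (16, [(21, (-1))]), (17, [(22, (-1))])]
def M19 : Tr (List (ℕ × ℤ × ℕ × ℕ)) := (.node [(6, 1, 1, 1)] (.node [] (.node [(11, 1, 1, 1)] .nil .nil) (.node [(14, 1, 1, 1)] (.node [(18, (-1), 1, 1)] (.node [(23, (-1), 1, 1)] .nil .nil) .nil) (.node [(21, (-1), 1, 1)] .nil .nil))) (.node [(10, 1, 1, 1)] (.node [] .nil (.node [(20, (-1), 1, 1)] .nil .nil)) .nil))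
def C19 : List (ℕ × List (ℕ × ℤ)) := [(0, [(6, 1)]), (2, [(10, 1)]), (3, [(11, 1)]), (5, [(14, 1)]), (9, [(18, (-1))]), (12, [(20, (-1))]), (13, [(21, (-1))]), (17, [(23, (-1))])]
def M20 : Tr (List (ℕ × ℤ × ℕ × ℕ)) := (.node [(7, (-1), 1, 1)] (.node [(10, 1, 1, 1)] (.node [] .nil (.node [(19, (-1), 1, 1)] .nil .nil)) (.node [(15, 1, 1, 1)] .nil (.node [(22, (-1), 1, 1)] .nil .nil))) (.node [] (.node [(12, 1, 1, 1)] (.node [(18, (-1), 1, 1)] (.node [(23, 1, 1, 1)] .nil .nil) .nil) .nil) .nil))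
def C20 : List (ℕ × List (ℕ × ℤ)) := [(0, [(7, (-1))]), (1, [(10, 1)]), (4, [(12, 1)]), (5, [(15, 1)]), (8, [(18, (-1))]), (11, [(19, (-1))]), (13, [(22, (-1))]), (16, [(23, 1)])]
def M21 : Tr (List (ℕ × ℤ × ℕ × ℕ)) := (.node [(8, (-1), 1, 1)] (.node [(11, 1, 1, 1)] (.node [] (.node [(18, (-1), 1, 1)] (.node [(23, 1, 1, 1)] .nil .nil) .nil) .nil) (.node [(16, 1, 1, 1)] .nil .nil)) (.node [] (.node [(13, 1, 1, 1)] .nil (.node [(22, (-1), 1, 1)] .nil .nil)) (.node [] (.node [(19, (-1), 1, 1)] .nil .nil) .nil)))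
def C21 : List (ℕ × List (ℕ × ℤ)) := [(0, [(8, (-1))]), (1, [(11, 1)]), (4, [(13, 1)]), (5, [(16, 1)]), (7, [(18, (-1))]), (10, [(19, (-1))]), (12, [(22, (-1))]), (15, [(23, 1)])]
def M22 : Tr (List (ℕ × ℤ × ℕ × ℕ)) := (.node [(9, 1, 1, 1)] (.node [] (.node [(13, 1, 1, 1)] .nil (.node [(21, (-1), 1, 1)] .nil .nil)) (.node [(17, 1, 1, 1)] .nil .nil)) (.node [(12, 1, 1, 1)] .nil (.node [(18, (-1), 1, 1)] (.node [(20, (-1), 1, 1)] .nil .nil) (.node [(23, (-1), 1, 1)] .nil .nil))))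
def C22 : List (ℕ × List (ℕ × ℤ)) := [(0, [(9, 1)]), (2, [(12, 1)]), (3, [(13, 1)]), (5, [(17, 1)]), (6, [(18, (-1))]), (10, [(20, (-1))]), (11, [(21, (-1))]), (14, [(23, (-1))])]
def M23 : Tr (List (ℕ × ℤ × ℕ × ℕ)) := (.node [] (.node [(14, 1, 1, 1)] (.node [(16, (-1), 1, 1)] (.node [(20, 1, 1, 1)] .nil .nil) .nil) (.node [] (.node [(22, (-1), 1, 1)] .nil .nil) .nil)) (.node [(15, (-1), 1, 1)] (.node [(17, 1, 1, 1)] (.node [(21, 1, 1, 1)] .nil .nil) .nil) (.node [(19, (-1), 1, 1)] .nil .nil)))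
def C23 : List (ℕ × List (ℕ × ℤ)) := [(1, [(14, 1)]), (2, [(15, (-1))]), (3, [(16, (-1))]), (4, [(17, 1)]), (6, [(19, (-1))]), (7, [(20, 1)]), (8, [(21, 1)]), (9, [(22, (-1))])]
set_option maxRecDepth 20000 in
def T : Tabs where
  X := (.node X0 (.node X1 (.node X3 (.node X7 (.node X15 .nil .nil) (.node X23 .nil .nil)) (.node X11 (.node X19 .nil .nil) .nil)) (.node X5 (.node X9 (.node X17 .nil .nil) .nil) (.node X13 (.node X21 .nil .nil) .nil))) (.node X2 (.node X4 (.node X8 (.node X16 .nil .nil) .nil) (.node X12 (.node X20 .nil .nil) .nil)) (.node X6 (.node X10 (.node X18 .nil .nil) .nil) (.node X14 (.node X22 .nil .nil) .nil))))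
  ht := (.node (-5) (.node (-4) (.node (-3) (.node (-2) (.node 2 .nil .nil) (.node 5 .nil .nil)) (.node (-1) (.node 2 .nil .nil) .nil)) (.node (-1) (.node (-1) (.node 3 .nil .nil) .nil) (.node 1 (.node 3 .nil .nil) .nil))) (.node (-3) (.node (-2) (.node (-2) (.node 2 .nil .nil) .nil) (.node 1 (.node 3 .nil .nil) .nil)) (.node (-3) (.node (-1) (.node 1 .nil .nil) .nil) (.node 1 (.node 4 .nil .nil) .nil))))
  rf := (.node (.node (0, 1) (.node (6, 1) (.node (8, 1) (.node (2, (-1)) (.node (20, (-1)) .nil .nil) (.node (23, 1) .nil .nil)) (.node (11, 1) (.node (14, 1) .nil .nil) .nil)) (.node (18, (-1)) (.node (4, (-1)) (.node (22, (-1)) .nil .nil) .nil) (.node (13, 1) (.node (16, 1) .nil .nil) .nil))) (.node (7, 1) (.node (9, 1) (.node (3, (-1)) (.node (21, (-1)) .nil .nil) .nil) (.node (12, 1) (.node (15, 1) .nil .nil) .nil)) (.node (1, (-1)) (.node (10, 1) (.node (5, (-1)) .nil .nil) .nil) (.node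 (19, (-1)) (.node (17, 1) .nil .nil) .nil)))) (.node (.node (1, (-1)) (.node (0, 1) (.node (3, 1) (.node (10, 1) (.node (12, 1) .nil .nil) (.node (22, (-1)) .nil .nil)) (.node (8, (-1)) (.node (18, (-1)) .nil .nil) .nil)) (.node (4, 1) (.node (14, (-1)) (.node (17, 1) .nil .nil) .nil) (.node (16, (-1)) (.node (21, 1) .nil .nil) .nil))) (.node (2, 1) (.node (5, (-1)) (.node (11, 1) (.node (13, 1) .nil .nil) .nil) (.node (15, (-1)) (.node (20, 1) .nil .nil) .nil)) (.node (6, 1) (.node (7, (-1)) (.node (19, 1) .nil .nil) .nil) (.node (9, (-1)) (.node (23, 1) .nil .nil) .nil)))) (.node (.node (0, 1) (.node (2, (-1)) (.node (4, (-1)) (.node (6, 1) (.node (14, (-1)) .nil .nil) (.node (23, 1) .nil .nil)) (.node (12, (-1)) (.node (20, 1) .nil .nil) .nil)) (.node (5, 1) (.node (8, 1) (.node (16, (-1)) .nil .nil) .nil) (.node (13, 1) (.node (22, 1) .nil .nil) .nil))) (.node (1, 1) (.node (3, 1) (.node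 (9, (-1)) (.node (17, 1) .nil .nil) .nil) (.node (11, (-1)) (.node (19, (-1)) .nil .nil) .nil)) (.node (7, (-1)) (.node (10, 1) (.node (18, 1) .nil .nil) .nil) (.node (15, 1) (.node (21, (-1)) .nil .nil) .nil)))) .nil .nil) .nil) (.node (.node (0, 1) (.node (3, (-1)) (.node (1, 1) (.node (9, (-1)) (.node (17, 1) .nil .nil) (.node (23, 1) .nil .nil)) (.node (11, 1) (.node (21, 1) .nil .nil) .nil)) (.node (5, 1) (.node (7, 1) (.node (15, (-1)) .nil .nil) .nil) (.node (10, (-1)) (.node (19, (-1)) .nil .nil) .nil))) (.node (4, (-1)) (.node (2, 1) (.node (6, 1) (.node (14, (-1)) .nil .nil) .nil) (.node (12, 1) (.node (22, 1) .nil .nil) .nil)) (.node (8, (-1)) (.node (13, (-1)) (.node (18, 1) .nil .nil) .nil) (.node (16, 1) (.node (20, (-1)) .nil .nil) .nil)))) .nil .nil))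
  A := (.node (.node 0 (.node (-1) (.node (-1) (.node 1 (.node (-1) .nil .nil) (.node 0 .nil .nil)) (.node 0 (.node 1 .nil .nil) .nil)) (.node (-2) (.node 1 (.node (-1) .nil .nil) .nil) (.node 0 (.node 1 .nil .nil) .nil))) (.node (-1) (.node (-1) (.node 1 (.node (-1) .nil .nil) .nil) (.node 0 (.node 1 .nil .nil) .nil)) (.node 1 (.node 0 (.node 2 .nil .nil) .nil) (.node (-1) (.node 1 .nil .nil) .nil)))) (.node (.node (-1) (.node 1 (.node 0 (.node (-1) (.node 1 .nil .nil) (.node 1 .nil .nil)) (.node 1 (.node 1 .nil .nil) .nil)) (.node 1 (.node (-2) (.node 0 .nil .nil) .nil) (.node (-1) (.node 0 .nil .nil) .nil))) (.node 0 (.node (-1) (.node (-1) (.node 1 .nil .nil) .nil) (.node (-1) (.node 0 .nil .nil) .nil)) (.node 0 (.node 1 (.node (-1) .nil .nil) .nil) (.node 2 (.node (-1) .nil .nil) .nil)))) (.node (.node 0 (.node (-1) (.node (-1) (.node 1 (.node 1 .nil .nil) (.node 0 .nil .nil)) (.node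 (-2) (.node (-1) .nil .nil) .nil)) (.node 0 (.node 1 (.node 1 .nil .nil) .nil) (.node 0 (.node (-1) .nil .nil) .nil))) (.node 1 (.node 1 (.node (-1) (.node (-1) .nil .nil) .nil) (.node 2 (.node 1 .nil .nil) .nil)) (.node (-1) (.node 0 (.node 0 .nil .nil) .nil) (.node (-1) (.node 1 .nil .nil) .nil)))) .nil .nil) .nil) (.node (.node 0 (.node (-1) (.node 1 (.node (-1) (.node (-1) .nil .nil) (.node 0 .nil .nil)) (.node 0 (.node (-1) .nil .nil) .nil)) (.node 0 (.node 1 (.node 1 .nil .nil) .nil) (.node 2 (.node 1 .nil .nil) .nil))) (.node (-1) (.node 1 (.node 1 (.node 1 .nil .nil) .nil) (.node 0 (.node (-1) .nil .nil) .nil)) (.node (-1) (.node (-2) (.node 0 .nil .nil) .nil) (.node (-1) (.node 1 .nil .nil) .nil)))) .nil .nil))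
  cor := (.node (.node (-1) (.node (-2) (.node (-1) .nil .nil) .nil) (.node (-1) .nil .nil)) (.node (.node (-1) (.node (-1) (.node (-1) .nil .nil) .nil) (.node (-1) .nil .nil)) (.node (.node (-1) (.node (-1) (.node (-1) .nil .nil) .nil) (.node 0 .nil .nil)) (.node (.node 0 (.node (-1) (.node 0 .nil .nil) .nil) (.node (-1) .nil .nil)) (.node (.node 0 (.node 1 (.node 1 .nil .nil) .nil) (.node 0 .nil .nil)) .nil .nil) (.node (.node 1 (.node 2 (.node 1 .nil .nil) .nil) (.node 1 .nil .nil)) .nil .nil)) (.node (.node 0 (.node 0 (.node (-1) .nil .nil) .nil) (.node 0 .nil .nil)) (.node (.node 1 (.node 1 (.node 0 .nil .nil) .nil) (.node 0 .nil .nil)) .nil .nil) .nil)) (.node (.node (-1) (.node 0 (.node 0 .nil .nil) .nil) (.node 0 .nil .nil)) (.node (.node 0 (.node (-1) (.node 0 .nil .nil) .nil) (.node 0 .nil .nil)) (.node (.node 0 (.node 1 (.node 1 .nil .nil) .nil) (.node 1 .nil .nil)) .nil .nil)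 .nil) (.node (.node 0 (.node 0 (.node 0 .nil .nil) .nil) (.node 1 .nil .nil)) (.node (.node 1 (.node 1 (.node 0 .nil .nil) .nil) (.node 1 .nil .nil)) .nil .nil) .nil))) (.node (.node (-1) (.node (-1) (.node 0 .nil .nil) .nil) (.node (-1) .nil .nil)) (.node (.node (-1) (.node (-1) (.node 0 .nil .nil) .nil) (.node 0 .nil .nil)) (.node (.node 0 (.node (-1) (.node (-1) .nil .nil) .nil) (.node 0 .nil .nil)) (.node (.node 0 (.node 1 (.node 0 .nil .nil) .nil) (.node 1 .nil .nil)) .nil .nil) .nil) (.node (.node 0 (.node 0 (.node 1 .nil .nil) .nil) (.node 0 .nil .nil)) (.node (.node 1 (.node 1 (.node 1 .nil .nil) .nil) (.node 0 .nil .nil)) .nil .nil) .nil)) (.node (.node 0 (.node (-1) (.node (-1) .nil .nil) .nil) (.node (-1) .nil .nil)) (.node (.node 0 (.node 0 (.node 0 .nil .nil) .nil) (.node (-1) .nil .nil)) (.node (.node 1 (.node 0 (.node 0 .nil .nil) .nil) (.node 0 .nil .nil)) .nil .nil) .nil)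 (.node (.node 0 (.node 1 (.node 0 .nil .nil) .nil) (.node 0 .nil .nil)) (.node (.node 1 (.node 1 (.node 1 .nil .nil) .nil) (.node 1 .nil .nil)) .nil .nil) .nil))))
  ng := (.node 23 (.node 22 (.node 20 (.node 16 (.node 8 .nil .nil) (.node 0 .nil .nil)) (.node 12 (.node 4 .nil .nil) .nil)) (.node 18 (.node 14 (.node 6 .nil .nil) .nil) (.node 10 (.node 2 .nil .nil) .nil))) (.node 21 (.node 19 (.node 15 (.node 7 .nil .nil) .nil) (.node 11 (.node 3 .nil .nil) .nil)) (.node 17 (.node 13 (.node 5 .nil .nil) .nil) (.node 9 (.node 1 .nil .nil) .nil))))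
  sp := (.node 18 (.node 14 (.node 12 .nil .nil) .nil) (.node 13 .nil .nil))
  ch := (.node C0 (.node C1 (.node C3 (.node C7 (.node C15 .nil .nil) (.node C23 .nil .nil)) (.node C11 (.node C19 .nil .nil) .nil)) (.node C5 (.node C9 (.node C17 .nil .nil) .nil) (.node C13 (.node C21 .nil .nil) .nil))) (.node C2 (.node C4 (.node C8 (.node C16 .nil .nil) .nil) (.node C12 (.node C20 .nil .nil) .nil)) (.node C6 (.node C10 (.node C18 .nil .nil) .nil) (.node C14 (.node C22 .nil .nil) .nil))))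
  tm := (.node M0 (.node M1 (.node M3 (.node M7 (.node M15 .nil .nil) (.node M23 .nil .nil)) (.node M11 (.node M19 .nil .nil) .nil)) (.node M5 (.node M9 (.node M17 .nil .nil) .nil) (.node M13 (.node M21 .nil .nil) .nil))) (.node M2 (.node M4 (.node M8 (.node M16 .nil .nil) .nil) (.node M12 (.node M20 .nil .nil) .nil)) (.node M6 (.node M10 (.node M18 .nil .nil) .nil) (.node M14 (.node M22 .nil .nil) .nil))))
  bz := (.node (0, 0, (-1), 0) (.node (0, 0, (-1), 0) (.node (0, 0, (-1), 0) (.node (1, 1, (-1), 0) (.node (1, 1, 1, 0) .nil .nil) (.node (0, 0, 1, 0) .nil .nil)) (.node (3, 3, (-1), 0) (.node (0, 0, 1, 0) .nil .nil) .nil)) (.node (0, 0, (-1), 0) (.node (1, 1, (-1), 0) (.node (1, 1, 1, 0) .nil .nil) .nil) (.node (2, 2, 1, 0) (.node (0, 0, 1, 0) .nil .nil) .nil))) (.node (0, 0, (-1), 0) (.node (0, 0, (-1), 0) (.node (1, 1, (-1), 0) (.node (1, 1, 1, 0) .nil .nil) .nil) (.node (3, 3, 1, 0)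 (.node (0, 0, 1, 0) .nil .nil) .nil)) (.node (1, 1, (-1), 0) (.node (2, 2, (-1), 0) (.node (0, 0, 1, 0) .nil .nil) .nil) (.node (1, 1, 1, 0) (.node (0, 0, 1, 0) .nil .nil) .nil))))
  order := [(18, none), (5, some (0, 18)), (19, some (1, 18)), (4, some (1, 5)), (14, some (0, 19)), (21, some (2, 19)), (20, some (3, 19)), (9, some (0, 4)), (2, some (2, 4)), (3, some (3, 4)), (16, some (2, 14)), (15, some (3, 14)), (22, some (3, 21)), (7, some (2, 9)), (8, some (3, 9)), (1, some (3, 2)), (13, some (1, 16)), (17, some (3, 16)), (12, some (1, 15)), (23, some (1, 22)), (10, some (1, 7)), (6, some (3, 7)), (11, some (1, 8)), (0, some (1, 1))]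

end Cfsg.Agent.Chev.D4
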