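import Cfsg.Agent.Lib.Chev.Tables

/-! Generated tables for the datum of type E6. -/

set_option autoImplicit false

namespace Cfsg.Agent.Chev.E6

def X0 : Tr (List (ℕ × ℤ × ℕ)) := (.node [] (.node [(6, 1, 1)] (.node [] (.node [] .nil (.node [] (.node [] (.node [(26, 1, 1)] .nil .nil) .nil) (.node [(10, (-1), 1)] .nil .nil))) (.node [] (.node [] (.node [] (.node [(22, (-1), 1)] .nil .nil) .nil) .nil) (.node [] (.node [] (.node [(30, 1, 1)] .nil .nil) .nil) (.node [(14, 1, 1)] .nil .nil)))) (.node [] (.node [] .nil (.node [] (.node [] (.node [(28, 1, 1)] .nil .nil) .nil) (.node [(12, (-1), 1)] .nil .nil))) (.node [] (.node [] (.node [] (.node [(24, (-1), 1)] .nil .nil) .nil) (.node [(8, (-1), 1)] .nil .nil)) (.node [] (.node [] (.node [(0, (-1), 1), (1, (-2), 1), (2, (-2), 1), (3, (-3), 1), (4, (-2), 1), (5, (-1), 1), (6, (-1), 2)] .nil .nil) .nil) (.node [(16, 1, 1)] .nil .nil))))) (.node [] (.node [] (.node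 [] .nil (.node [] (.node [] (.node [(27, (-1), 1)] .nil .nil) .nil) (.node [(11, 1, 1)] .nil .nil))) (.node [] (.node [] (.node [] (.node [(23, 1, 1)] .nil .nil) .nil) (.node [(7, 1, 1)] .nil .nil)) (.node [] (.node [] (.node [(31, (-1), 1)] .nil .nil) .nil) (.node [(15, (-1), 1)] .nil .nil)))) (.node [] (.node [] .nil (.node [] (.node [] (.node [(29, (-1), 1)] .nil .nil) .nil) (.node [(13, 1, 1)] .nil .nil))) (.node [] (.node [] (.node [] (.node [(25, (-1), 1)] .nil .nil) .nil) (.node [(9, 1, 1)] .nil .nil)) .nil))))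
def X1 : Tr (List (ℕ × ℤ × ℕ)) := (.node [] (.node [(7, (-1), 1)] (.node [(7, 1, 1)] (.node [] (.node [] (.node [(6, 1, 1)] .nil .nil) (.node [(10, 1, 1)] .nil .nil)) (.node [] (.node [] (.node [(33, 1, 1)] .nil .nil) .nil) .nil)) (.node [] (.node [] .nil (.node [(13, 1, 1)] .nil .nil)) (.node [] (.node [] (.node [(38, (-1), 1)] .nil .nil) .nil) (.node [(17, 1, 1)] .nil .nil)))) (.node [] (.node [] (.node [] (.node [] (.node [(23, 1, 1)] .nil .nil) .nil) (.node [(11, 1, 1)] .nil .nil)) (.node [] (.node [] (.node [(36, (-1), 1)] .nil .nil) .nil) .nil)) (.node [] .nil (.node [] (.node [(8, 1, 1)] (.node [(52, (-1), 1)] .nil .nil) .nil) (.node [(19, 1, 1)] .nil .nil))))) (.node [] (.node [] (.node [] (.node [] (.node [] (.node [(22, (-1), 1)] .nil .nil) .nil) .nil) (.node [] (.node [] (.node [(34, (-1), 1)] .nil .nil) .nil) .nil)) (.node [] .nil (.node [] (.node [] (.node [(0, (-1), 1), (1, (-1), 1), (2, (-2),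 1), (3, (-3), 1), (4, (-2), 1), (5, (-1), 1), (7, (-1), 2)] .nil .nil) .nil) (.node [(18, (-1), 1)] .nil .nil)))) (.node [] (.node [] (.node [] (.node [] (.node [(24, (-1), 1)] .nil .nil) .nil) (.node [(12, (-1), 1)] .nil .nil)) (.node [] (.node [] (.node [(37, 1, 1)] .nil .nil) .nil) .nil)) (.node [] (.node [] (.node [] (.node [(32, (-1), 1)] .nil .nil) .nil) .nil) (.node [] (.node [(9, (-1), 1)] .nil .nil) .nil)))))
def X2 : Tr (List (ℕ × ℤ × ℕ)) := (.node [] (.node [] (.node [(8, (-1), 1)] (.node [] (.node [] (.node [] (.node [(22, (-1), 1)] .nil .nil) .nil) .nil) .nil) (.node [] (.node [] .nil (.node [(15, 1, 1)] .nil .nil)) (.node [] (.node [(9, 1, 1)] (.node [(0, (-1), 1), (1, (-1), 1), (2, (-2), 1), (3, (-2), 1), (4, (-2), 1), (5, (-1), 1), (8, (-1), 2)] .nil .nil) .nil) .nil))) (.node [] (.node [] (.node [] (.node [] (.node [(25, 1, 1)] .nil .nil) .nil) .nil) (.node [] (.node [] (.node [(39, 1, 1)]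 .nil .nil) .nil) (.node [(17, 1, 1)] .nil .nil))) (.node [] (.node [] (.node [] (.node [(33, 1, 1)] .nil .nil) .nil) .nil) (.node [] (.node [] (.node [(53, 1, 1)] .nil .nil) .nil) (.node [(20, 1, 1)] .nil .nil))))) (.node [(8, 1, 1)] (.node [(8, 1, 1)] (.node [] (.node [] .nil (.node [(11, 1, 1)] .nil .nil)) (.node [] (.node [] (.node [(35, (-1), 1)] .nil .nil) .nil) .nil)) (.node [] (.node [] (.node [] (.node [(32, (-1), 1)] .nil .nil) .nil) .nil) (.node [] (.node [(10, (-1), 1)] (.node [(45, (-1), 1)] .nil .nil) .nil) .nil))) (.node [] (.node [] (.node [] (.node [] (.node [(26, (-1), 1)] .nil .nil) .nil) (.node [(14, (-1), 1)] .nil .nil)) (.node [] (.node [] (.node [(40, (-1), 1)] .nil .nil) .nil) (.node [(18, (-1), 1)] .nil .nil))) (.node [] (.node [] (.node [(7, 1, 1)] .nil .nil) .nil) (.node [(6, (-1), 1)] .nil .nil)))))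
def X3 : Tr (List (ℕ × ℤ × ℕ)) := (.node [] (.node [] (.node [] (.node [] (.node [] (.node [] (.node [(23, (-1), 1)] .nil .nil) .nil) .nil) (.node [] (.node [] (.node [(35, (-1), 1)] .nil .nil) .nil) .nil)) (.node [] (.node [] (.node [] (.node [(32, (-1), 1)] .nil .nil) .nil) (.node [(16, 1, 1)] .nil .nil)) (.node [] (.node [] (.node [(43, (-1), 1)] .nil .nil) .nil) .nil))) (.node [(9, 1, 1)] (.node [] (.node [] .nil (.node [(14, (-1), 1)] .nil .nil)) (.node [] (.node [] (.node [(41, (-1), 1)] .nil .nil) .nil) .nil)) (.node [] (.node [] (.node [(7, (-1), 1)] (.node [(34, 1, 1)] .nil .nil) .nil) .nil) (.node [(6, 1, 1)] (.node [] (.node [(54, (-1), 1)] .nil .nil) .nil) .nil)))) (.node [(9, 1, 1)] (.node [(9, (-1), 1)] (.node [] (.node [] (.node [] (.node [(25, 1, 1)] .nil .nil) .nil) (.node [(12, 1, 1)] .nil .nil)) (.node [] (.node [(8, 1, 1)] .nil .nil) (.node [(17, 1, 1)] .nil .nil))) (.node [] .nil (.node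 [] (.node [] (.node [(46, 1, 1)] .nil .nil) .nil) (.node [(20, 1, 1)] .nil .nil)))) (.node [] (.node [] (.node [] (.node [] (.node [(27, (-1), 1)] .nil .nil) .nil) .nil) (.node [] (.node [(10, 1, 1)] (.node [(0, (-1), 1), (1, (-1), 1), (2, (-2), 1), (3, (-2), 1), (4, (-1), 1), (5, (-1), 1), (9, (-1), 2)] .nil .nil) .nil) (.node [(19, (-1), 1)] .nil .nil))) .nil)))
def X4 : Tr (List (ℕ × ℤ × ℕ)) := (.node [] (.node [] (.node [] (.node [] (.node [] (.node [] (.node [(24, (-1), 1)] .nil .nil) .nil) .nil) (.node [] (.node [(8, (-1), 1)] .nil .nil) .nil)) (.node [] (.node [] (.node [] (.node [(33, (-1), 1)] .nil .nil) .nil) .nil) (.node [] (.node [] (.node [(44, 1, 1)] .nil .nil) .nil) (.node [(20, 1, 1)] .nil .nil)))) (.node [(10, (-1), 1)] (.node [] (.node [] (.node [] (.node [(27, (-1), 1)] .nil .nil) .nil) (.node [(15, (-1), 1)] .nil .nil)) (.node [] (.node [(9, 1, 1)] (.node [(0, (-1), 1), (1, (-1), 1), (2,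 (-2), 1), (3, (-2), 1), (4, (-1), 1), (10, (-1), 2)] .nil .nil) .nil) (.node [(19, (-1), 1)] .nil .nil))) (.node [] .nil (.node [] (.node [] (.node [(55, 1, 1)] .nil .nil) .nil) .nil)))) (.node [(10, 1, 1)] (.node [] (.node [] (.node [] (.node [] (.node [(26, 1, 1)] .nil .nil) .nil) (.node [(13, 1, 1)] .nil .nil)) (.node [] .nil (.node [(18, 1, 1)] .nil .nil))) (.node [] (.node [] (.node [(7, 1, 1)] (.node [(34, 1, 1)] .nil .nil) .nil) .nil) (.node [(6, (-1), 1)] (.node [] (.node [(47, (-1), 1)] .nil .nil) .nil) .nil))) (.node [] (.node [] (.node [] .nil (.node [(16, 1, 1)] .nil .nil)) (.node [] (.node [] (.node [(42, (-1), 1)] .nil .nil) .nil) .nil)) (.node [] (.node [] (.node [] (.node [(35, (-1), 1)] .nil .nil) .nil) .nil) .nil))))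
def X5 : Tr (List (ℕ × ℤ × ℕ)) := (.node [(11, 1, 1)] (.node [] (.node [] (.node [] (.node [] .nil (.node [(15, (-1), 1)] .nil .nil)) (.node [] (.node [] (.node [(40, (-1), 1)] .nil .nil) .nil) (.node [(18, (-1), 1)] .nil .nil))) (.node [] (.node [] (.node [(8, 1, 1)] .nil .nil) .nil) (.node [(6, 1, 1)] (.node [(12, 1, 1)] (.node [(48, (-1), 1)] .nil .nil) .nil) .nil))) (.node [] (.node [] (.node [] (.node [] (.node [(28, 1, 1)] .nil .nil) .nil) .nil) .nil) (.node [] (.node [] (.node [] (.node [(37, (-1), 1)] .nil .nil) .nil) .nil) (.node [] (.node [] (.node [(56, (-1), 1)] .nil .nil) .nil) (.node [(21, 1, 1)] .nil .nil))))) (.node [(11, (-1), 1)] (.node [(11, 1, 1)] (.node [] .nil (.node [] (.node [] (.node [(0, (-1), 1), (1, (-1), 1), (2, (-1), 1), (3, (-2), 1), (4, (-2), 1), (5, (-1), 1), (11, (-1), 2)] .nil .nil) .nil) .nil)) (.node [] (.node [] (.node [] (.node [(36, 1, 1)] .nil .nil) .nil) .nil) (.node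 [] (.node [(13, (-1), 1)] (.node [(49, (-1), 1)] .nil .nil) .nil) .nil))) (.node [] (.node [] (.node [] (.node [(7, 1, 1)] (.node [(29, (-1), 1)] .nil .nil) .nil) .nil) .nil) (.node [] (.node [] (.node [] (.node [(39, 1, 1)] .nil .nil) .nil) (.node [(17, 1, 1)] .nil .nil)) (.node [] (.node [(14, 1, 1)] .nil .nil) (.node [(22, (-1), 1)] .nil .nil))))))
def X6 : Tr (List (ℕ × ℤ × ℕ)) := (.node [(12, 1, 1)] (.node [] (.node [(12, 1, 1)] (.node [] (.node [] .nil (.node [(16, (-1), 1)] .nil .nil)) (.node [] (.node [] (.node [(0, (-1), 1), (1, (-1), 1), (2, (-1), 1), (3, (-2), 1), (4, (-1), 1), (5, (-1), 1), (12, (-1), 2)] .nil .nil) .nil) (.node [(19, (-1), 1)] .nil .nil))) (.node [] (.node [] (.node [(9, 1, 1)] (.node [(36, 1, 1)] .nil .nil) .nil) .nil) .nil)) (.node [(12, 1, 1)] (.node [] (.node [] (.node [(7, (-1), 1)] .nil .nil) .nil) .nil) (.node [] (.node [] (.node [] (.node [(38, (-1), 1)] .nil .nil) .nil)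 (.node [(17, 1, 1)] .nil .nil)) (.node [] (.node [(14, 1, 1)] (.node [(57, 1, 1)] .nil .nil) .nil) .nil)))) (.node [(12, (-1), 1)] (.node [(12, (-1), 1)] (.node [] (.node [] (.node [] (.node [(28, 1, 1)] .nil .nil) .nil) .nil) (.node [] (.node [(11, 1, 1)] (.node [(43, (-1), 1)] .nil .nil) .nil) .nil)) (.node [] .nil (.node [] (.node [] (.node [(50, 1, 1)] .nil .nil) .nil) (.node [(21, 1, 1)] .nil .nil)))) (.node [] (.node [] (.node [] (.node [] (.node [(30, (-1), 1)] .nil .nil) .nil) .nil) (.node [(6, (-1), 1)] (.node [(13, 1, 1)] (.node [(48, (-1), 1)] .nil .nil) .nil) .nil)) (.node [] (.node [] (.node [] (.node [(41, (-1), 1)] .nil .nil) .nil) .nil) (.node [] .nil (.node [(23, (-1), 1)] .nil .nil))))))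
def X7 : Tr (List (ℕ × ℤ × ℕ)) := (.node [(13, 1, 1)] (.node [] (.node [(13, 1, 1)] (.node [] .nil (.node [] (.node [(11, (-1), 1)] (.node [(42, (-1), 1)] .nil .nil) .nil) .nil)) (.node [] (.node [] (.node [(10, 1, 1)] (.node [(37, 1, 1)] .nil .nil) .nil) .nil) (.node [] .nil (.node [(21, 1, 1)] .nil .nil)))) (.node [(13, (-1), 1)] (.node [] (.node [] (.node [] (.node [(30, (-1), 1)] .nil .nil) .nil) .nil) (.node [(6, 1, 1)] (.node [(12, 1, 1)] (.node [(48, (-1), 1)] .nil .nil) .nil) .nil)) (.node [] (.node [] .nil (.node [(18, 1, 1)] .nil .nil)) (.node [] (.node [(15, 1, 1)] (.node [(58, (-1), 1)] .nil .nil) .nil) .nil)))) (.node [(13, (-1), 1)] (.node [] (.node [] (.node [] (.node [(7, 1, 1)] (.node [(29, 1, 1)] .nil .nil) .nil) .nil) (.node [] (.node [] (.node [(44, 1, 1)] .nil .nil) .nil) .nil)) (.node [] (.node [] (.node [] (.node [(38, (-1), 1)] .nil .nil) .nil) .nil) (.node [] (.node [] (.node [(51,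 (-1), 1)] .nil .nil) .nil) .nil))) (.node [] .nil (.node [] (.node [] (.node [] (.node [(0, (-1), 1), (1, (-1), 1), (2, (-1), 1), (3, (-2), 1), (4, (-1), 1), (13, (-1), 2)] .nil .nil) .nil) (.node [(19, (-1), 1)] .nil .nil)) (.node [] (.node [(16, (-1), 1)] .nil .nil) (.node [(24, (-1), 1)] .nil .nil))))))
def X8 : Tr (List (ℕ × ℤ × ℕ)) := (.node [(14, 1, 1)] (.node [(14, 1, 1)] (.node [(14, (-1), 1)] (.node [] (.node [] (.node [] (.node [(28, 1, 1)] .nil .nil) .nil) .nil) (.node [] (.node [] (.node [(45, (-1), 1)] .nil .nil) .nil) (.node [(20, (-1), 1)] .nil .nil))) (.node [] (.node [] (.node [] (.node [(39, (-1), 1)] .nil .nil) .nil) .nil) (.node [] (.node [] (.node [(50, 1, 1)] .nil .nil) .nil) .nil))) (.node [(14, 1, 1)] (.node [] (.node [] (.node [(8, (-1), 1)] .nil .nil) .nil) .nil) (.node [] (.node [] (.node [(11, 1, 1)] (.node [(0, (-1), 1), (1, (-1), 1), (2, (-1), 1), (3, (-1), 1), (4, (-1), 1), (5,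 (-1), 1), (14, (-1), 2)] .nil .nil) .nil) .nil) (.node [] (.node [] (.node [(59, (-1), 1)] .nil .nil) .nil) .nil)))) (.node [] (.node [] (.node [] .nil (.node [(6, 1, 1)] (.node [] (.node [(46, (-1), 1)] .nil .nil) .nil) .nil)) (.node [] (.node [] (.node [] (.node [(41, (-1), 1)] .nil .nil) .nil) (.node [(17, 1, 1)] .nil .nil)) (.node [] (.node [(16, 1, 1)] .nil .nil) .nil))) (.node [] (.node [] (.node [] (.node [(9, (-1), 1)] (.node [(31, (-1), 1)] .nil .nil) .nil) .nil) (.node [] (.node [(15, 1, 1)] (.node [(49, 1, 1)] .nil .nil) .nil) (.node [(21, 1, 1)] .nil .nil))) (.node [] (.node [] (.node [(12, 1, 1)] .nil .nil) .nil) (.node [] .nil (.node [(25, (-1), 1)] .nil .nil))))))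
def X9 : Tr (List (ℕ × ℤ × ℕ)) := (.node [(15, 1, 1)] (.node [(15, 1, 1)] (.node [(15, (-1), 1)] (.node [] (.node [] (.node [] (.node [(29, 1, 1)] .nil .nil) .nil) .nil) (.node [(6, (-1), 1)] .nil .nil)) (.node [] (.node [] (.node [] (.node [(40, (-1), 1)] .nil .nil) .nil) .nil) (.node [] (.node [(16, 1, 1)] (.node [(51, (-1), 1)] .nil .nil) .nil) .nil))) (.node [(15, (-1), 1)] (.node [] (.node [] (.node [] (.node [(31, (-1), 1)] .nil .nil) .nil) .nil) (.node [] (.node [(14, 1, 1)] (.node [(49, 1, 1)] .nil .nil) .nil) (.node [(21, 1, 1)] .nil .nil))) (.node [] (.node [] (.node [] (.node [(42, (-1), 1)] .nil .nil) .nil) .nil) (.node [] (.node [] (.node [(60, 1, 1)] .nil .nil) .nil) .nil)))) (.node [] (.node [(15, 1, 1)] (.node [] (.node [] (.node [(8, 1, 1)] .nil .nil) .nil) (.node [] (.node [] (.node [(47, 1, 1)] .nil .nil) .nil) .nil)) (.node [] (.node [] (.node [(11, (-1), 1)] (.node [(0, (-1), 1), (1, (-1),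 1), (2, (-1), 1), (3, (-1), 1), (4, (-1), 1), (15, (-1), 2)] .nil .nil) .nil) (.node [(18, 1, 1)] .nil .nil)) .nil)) (.node [] (.node [] (.node [] (.node [(10, (-1), 1)] .nil .nil) .nil) .nil) (.node [] (.node [] (.node [(13, 1, 1)] (.node [(45, (-1), 1)] .nil .nil) .nil) (.node [(20, (-1), 1)] .nil .nil)) (.node [] .nil (.node [(26, (-1), 1)] .nil .nil))))))
def X10 : Tr (List (ℕ × ℤ × ℕ)) := (.node [(16, 1, 1)] (.node [(16, 1, 1)] (.node [] (.node [] (.node [] (.node [] (.node [(30, 1, 1)] .nil .nil) .nil) .nil) (.node [] (.node [(14, 1, 1)] (.node [(47, 1, 1)] .nil .nil) .nil) .nil)) (.node [] (.node [] (.node [] (.node [(0, (-1), 1), (1, (-1), 1), (2, (-1), 1), (3, (-1), 1), (16, (-1), 2)] .nil .nil) .nil) .nil) .nil)) (.node [] (.node [] (.node [] (.node [(10, 1, 1)] .nil .nil) .nil) (.node [] (.node [] (.node [(50, (-1), 1)] .nil .nil) .nil) .nil)) (.node [] (.node [] (.node [(13, (-1), 1)] (.node [(44,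 (-1), 1)] .nil .nil) .nil) (.node [(20, (-1), 1)] .nil .nil)) (.node [] (.node [] (.node [(61, (-1), 1)] .nil .nil) .nil) .nil)))) (.node [] (.node [(16, (-1), 1)] (.node [] (.node [] (.node [(9, 1, 1)] (.node [(31, (-1), 1)] .nil .nil) .nil) .nil) (.node [] (.node [(15, 1, 1)] .nil .nil) (.node [(21, 1, 1)] .nil .nil))) (.node [] (.node [] (.node [(12, (-1), 1)] (.node [(43, (-1), 1)] .nil .nil) .nil) (.node [(19, 1, 1)] .nil .nil)) .nil)) (.node [] (.node [] .nil (.node [] (.node [] (.node [(51, (-1), 1)] .nil .nil) .nil) .nil)) (.node [] (.node [(6, 1, 1)] (.node [] (.node [(46, 1, 1)] .nil .nil) .nil) .nil) (.node [] .nil (.node [(27, (-1), 1)] .nil .nil))))))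
def X11 : Tr (List (ℕ × ℤ × ℕ)) := (.node [(17, 1, 1)] (.node [(17, (-1), 1)] (.node [] (.node [] (.node [] (.node [(14, 1, 1)] (.node [(36, (-1), 1)] .nil .nil) .nil) (.node [(20, 1, 1)] .nil .nil)) (.node [] (.node [] (.node [(53, (-1), 1)] .nil .nil) .nil) .nil)) (.node [] (.node [] .nil (.node [(21, 1, 1)] .nil .nil)) (.node [(9, 1, 1)] (.node [] (.node [(57, (-1), 1)] .nil .nil) .nil) .nil))) (.node [(17, 1, 1)] (.node [] (.node [] (.node [] (.node [(41, (-1), 1)] .nil .nil) .nil) .nil) .nil) (.node [] (.node [] (.node [] (.node [(52, (-1), 1)] .nil .nil) .nil) .nil) (.node [(11, 1, 1)] .nil .nil)))) (.node [] (.node [] (.node [] (.node [] (.node [] (.node [(39, (-1), 1)] .nil .nil) .nil) .nil) (.node [(7, 1, 1)] (.node [] (.node [(54, (-1), 1)] .nil .nil) .nil) .nil)) (.node [] .nil (.node [] (.node [(19, 1, 1)] (.node [(59, (-1), 1)] .nil .nil) .nil) .nil))) (.node [] (.node [] (.node [] (.node [] (.node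 [(0, (-1), 1), (2, (-1), 1), (3, (-1), 1), (4, (-1), 1), (5, (-1), 1), (17, (-1), 2)] .nil .nil) .nil) .nil) (.node [(8, 1, 1)] (.node [(18, 1, 1)] (.node [(56, (-1), 1)] .nil .nil) .nil) .nil)) (.node [] .nil (.node [(12, 1, 1)] .nil (.node [(32, (-1), 1)] .nil .nil))))))
def X12 : Tr (List (ℕ × ℤ × ℕ)) := (.node [(18, 1, 1)] (.node [(18, (-1), 1)] (.node [] (.node [] (.node [] (.node [(15, 1, 1)] (.node [(37, (-1), 1)] .nil .nil) .nil) .nil) (.node [(7, (-1), 1)] .nil .nil)) (.node [] .nil (.node [(10, 1, 1)] (.node [(19, 1, 1)] (.node [(58, 1, 1)] .nil .nil) .nil) .nil))) (.node [(18, (-1), 1)] (.node [] (.node [] (.node [] (.node [(0, (-1), 1), (2, (-1), 1), (3, (-1), 1), (4, (-1), 1), (18, (-1), 2)] .nil .nil) .nil) .nil) (.node [(8, (-1), 1)] (.node [(17, 1, 1)] (.node [(56, (-1), 1)] .nil .nil) .nil) .nil)) .nil)) (.node [] (.node [(18, 1, 1)] (.node [] (.node [] (.node [] (.node [(40, (-1), 1)] .nil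 .nil) .nil) .nil) (.node [] (.node [] (.node [(55, 1, 1)] .nil .nil) .nil) .nil)) (.node [] (.node [] (.node [] (.node [(52, (-1), 1)] .nil .nil) .nil) .nil) (.node [(11, (-1), 1)] (.node [] (.node [(60, 1, 1)] .nil .nil) .nil) .nil))) (.node [] (.node [] (.node [] (.node [] (.node [(42, (-1), 1)] .nil .nil) .nil) (.node [(21, 1, 1)] .nil .nil)) .nil) (.node [] (.node [] (.node [] (.node [(53, (-1), 1)] .nil .nil) .nil) .nil) (.node [(13, 1, 1)] (.node [(20, 1, 1)] .nil .nil) (.node [(33, (-1), 1)] .nil .nil))))))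
def X13 : Tr (List (ℕ × ℤ × ℕ)) := (.node [(19, 1, 1)] (.node [(19, (-1), 1)] (.node [(19, 1, 1)] (.node [] (.node [] (.node [(16, 1, 1)] (.node [(38, (-1), 1)] .nil .nil) .nil) .nil) (.node [] (.node [(17, 1, 1)] (.node [(55, 1, 1)] .nil .nil) .nil) .nil)) (.node [] (.node [] (.node [] (.node [(52, (-1), 1)] .nil .nil) .nil) .nil) .nil)) (.node [] (.node [] (.node [] (.node [] (.node [(43, (-1), 1)] .nil .nil) .nil) (.node [(21, 1, 1)] .nil .nil)) (.node [(9, (-1), 1)] (.node [] (.node [(57, 1, 1)] .nil .nil) .nil) .nil)) (.node [] .nil (.node [(13, (-1), 1)] (.node [(20, 1, 1)] .nil .nil) .nil)))) (.node [] (.node [(19, (-1), 1)] (.node [] (.node [] (.node [] (.node [(0, (-1), 1), (2, (-1), 1), (3, (-1), 1), (19, (-1), 2)] .nil .nil) .nil) .nil) (.node [] (.node [(18, 1, 1)] .nil .nil) .nil)) (.node [] .nil (.node [(12, (-1), 1)] (.node [] (.node [(61, (-1), 1)] .nil .nil) .nil) .nil))) (.node [] (.node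 [] (.node [] (.node [] (.node [(44, (-1), 1)] .nil .nil) .nil) .nil) (.node [(10, (-1), 1)] (.node [] (.node [(58, 1, 1)] .nil .nil) .nil) .nil)) (.node [] (.node [(7, 1, 1)] (.node [] (.node [(54, 1, 1)] .nil .nil) .nil) .nil) (.node [] .nil (.node [(34, (-1), 1)] .nil .nil))))))
def X14 : Tr (List (ℕ × ℤ × ℕ)) := (.node [(20, 1, 1)] (.node [] (.node [(20, (-1), 1)] (.node [] (.node [] (.node [] (.node [(0, (-1), 1), (2, (-1), 1), (20, (-1), 2)] .nil .nil) .nil) .nil) (.node [(9, 1, 1)] .nil .nil)) (.node [] (.node [] (.node [] (.node [(53, 1, 1)] .nil .nil) .nil) .nil) (.node [] (.node [] (.node [(61, (-1), 1)] .nil .nil) .nil) .nil))) (.node [] (.node [] (.node [] (.node [] (.node [(46, (-1), 1)] .nil .nil) .nil) .nil) (.node [] (.node [] (.node [(59, (-1), 1)] .nil .nil) .nil) .nil)) (.node [] (.node [] (.node [(18, 1, 1)] (.node [(55, 1, 1)] .nil .nil) .nil) .nil) (.node [(15, (-1), 1)] .nil .nil))))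 (.node [(20, 1, 1)] (.node [] (.node [] (.node [] (.node [] (.node [(45, (-1), 1)] .nil .nil) .nil) (.node [(21, 1, 1)] .nil .nil)) (.node [(10, 1, 1)] .nil .nil)) (.node [] (.node [] (.node [(17, 1, 1)] (.node [(54, 1, 1)] .nil .nil) .nil) .nil) (.node [(14, (-1), 1)] .nil .nil))) (.node [] (.node [] (.node [] (.node [] (.node [(47, (-1), 1)] .nil .nil) .nil) .nil) (.node [] (.node [] (.node [(60, (-1), 1)] .nil .nil) .nil) .nil)) (.node [] (.node [(8, 1, 1)] (.node [(19, 1, 1)] .nil .nil) .nil) (.node [(16, (-1), 1)] .nil (.node [(35, (-1), 1)] .nil .nil))))))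
def X15 : Tr (List (ℕ × ℤ × ℕ)) := (.node [(21, 2, 1)] (.node [] (.node [] (.node [] (.node [] (.node [] (.node [(48, (-1), 1)] .nil .nil) .nil) .nil) (.node [(12, 1, 1)] (.node [] (.node [(60, (-1), 1)] .nil .nil) .nil) .nil)) (.node [] (.node [] (.node [(20, 1, 1)] (.node [(56, (-1), 1)] .nil .nil) .nil) .nil) (.node [(16, 1, 1)] .nil .nil))) (.node [] (.node [] (.node [] (.node [(18, 1, 1)] (.node [(50, (-1), 1)] .nil .nil) .nil) .nil) (.node [(14, 1, 1)] .nil .nil)) (.node [] (.node [] (.node [] (.node [(58, (-1), 1)] .nil .nil) .nil) .nil) .nil))) (.node [(21, (-1), 1)] (.node [] (.node [] (.node [] (.node [(17, 1, 1)] (.node [(49, (-1), 1)] .nil .nil) .nil) .nil) (.node [(13, 1, 1)] (.node [] (.node [(61, (-1), 1)] .nil .nil) .nil) .nil)) (.node [] (.node [] (.node [] (.node [(57, (-1), 1)] .nil .nil) .nil) .nil) .nil)) (.node [] (.node [] (.node [] (.node [(19, 1, 1)] (.node [(51, (-1), 1)] .nil .nil)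 .nil) .nil) (.node [(15, 1, 1)] .nil .nil)) (.node [] (.node [(11, 1, 1)] (.node [] (.node [(59, (-1), 1)] .nil .nil) .nil) .nil) (.node [] .nil (.node [(0, (-1), 1), (21, (-1), 2)] .nil .nil))))))
def X16 : Tr (List (ℕ × ℤ × ℕ)) := (.node [(22, (-1), 1)] (.node [] (.node [] (.node [] (.node [] .nil (.node [(26, (-1), 1)] .nil .nil)) (.node [] .nil (.node [(33, (-1), 1)] .nil .nil))) (.node [] (.node [(7, (-1), 1)] .nil (.node [(29, (-1), 1)] .nil .nil)) (.node [] (.node [(23, 1, 1)] (.node [(63, 1, 1)] .nil .nil) .nil) (.node [(39, 1, 1)] .nil .nil)))) (.node [] (.node [] .nil (.node [] .nil (.node [(36, 1, 1)] .nil .nil))) (.node [] (.node [(11, (-1), 1)] .nil .nil) (.node [] (.node [] (.node [(67, 1, 1)] .nil .nil) .nil) (.node [(1, (-1), 1), (2, (-1), 1), (3, (-2), 1), (4, (-2), 1), (5, (-1), 1), (22, (-1), 2)] .nil .nil))))) (.node [] (.node [(22, 1, 1)] (.node [] (.node [(6, (-1), 1)] .nil .nil) (.node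 [] (.node [] (.node [(62, 1, 1)] .nil .nil) .nil) .nil)) (.node [] (.node [(8, (-1), 1)] .nil .nil) (.node [] (.node [(24, (-1), 1)] (.node [(64, 1, 1)] .nil .nil) .nil) (.node [(40, (-1), 1)] .nil .nil)))) (.node [] (.node [] (.node [] .nil (.node [(28, 1, 1)] .nil .nil)) (.node [] .nil (.node [(37, (-1), 1)] .nil .nil))) (.node [] (.node [] .nil (.node [(32, 1, 1)] .nil .nil)) (.node [] (.node [(25, 1, 1)] .nil .nil) .nil)))))
def X17 : Tr (List (ℕ × ℤ × ℕ)) := (.node [(23, (-1), 1)] (.node [] (.node [(23, 1, 1)] (.node [] (.node [(6, 1, 1)] .nil (.node [(27, (-1), 1)] .nil .nil)) (.node [] (.node [] (.node [(62, 1, 1)] .nil .nil) .nil) (.node [(34, (-1), 1)] .nil .nil))) (.node [] (.node [] .nil (.node [(30, (-1), 1)] .nil .nil)) (.node [] .nil (.node [(41, (-1), 1)] .nil .nil)))) (.node [(23, 1, 1)] (.node [] (.node [] .nil (.node [(28, 1, 1)] .nil .nil)) .nil) (.node [] (.node [(12, (-1), 1)] .nil (.node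 [(32, 1, 1)] .nil .nil)) (.node [] (.node [(25, 1, 1)] (.node [(68, (-1), 1)] .nil .nil) .nil) (.node [(43, (-1), 1)] .nil .nil))))) (.node [] (.node [(23, (-1), 1)] (.node [] .nil (.node [] (.node [(22, 1, 1)] .nil .nil) (.node [(36, 1, 1)] .nil .nil))) (.node [] (.node [(9, (-1), 1)] .nil .nil) (.node [] (.node [] (.node [(65, (-1), 1)] .nil .nil) .nil) (.node [(1, (-1), 1), (2, (-1), 1), (3, (-2), 1), (4, (-1), 1), (5, (-1), 1), (23, (-1), 2)] .nil .nil)))) (.node [] (.node [] (.node [(7, 1, 1)] .nil .nil) (.node [] (.node [(24, 1, 1)] (.node [(63, 1, 1)] .nil .nil) .nil) (.node [(38, (-1), 1)] .nil .nil))) .nil)))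
def X18 : Tr (List (ℕ × ℤ × ℕ)) := (.node [(24, (-1), 1)] (.node [] (.node [(24, 1, 1)] (.node [] .nil (.node [] (.node [(22, (-1), 1)] .nil .nil) .nil)) (.node [] .nil (.node [] .nil (.node [(1, (-1), 1), (2, (-1), 1), (3, (-2), 1), (4, (-1), 1), (24, (-1), 2)] .nil .nil)))) (.node [(24, (-1), 1)] (.node [] (.node [(7, (-1), 1)] .nil (.node [(29, 1, 1)] .nil .nil)) (.node [] (.node [(23, 1, 1)] (.node [(63, 1, 1)] .nil .nil) .nil) (.node [(38, (-1), 1)] .nil .nil))) (.node [] (.node [(13, (-1), 1)] .nil (.node [(33, 1, 1)] .nil .nil)) (.node [] (.node [(26, 1, 1)] (.node [(69, 1, 1)] .nil .nil) .nil) (.node [(44, 1, 1)] .nil .nil))))) (.node [] (.node [] (.node [] .nil (.node [] .nil (.node [(37, 1, 1)] .nil .nil))) (.node [] (.node [(10, (-1), 1)] .nil .nil) (.node [] (.node [] (.node [(66, 1, 1)] .nil .nil) .nil) (.node [(42, (-1), 1)] .nil .nil)))) (.node [] (.node [] (.node [] .nil (.node [(30, (-1),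 1)] .nil .nil)) .nil) (.node [(6, (-1), 1)] (.node [] (.node [] (.node [(62, 1, 1)] .nil .nil) .nil) (.node [(34, (-1), 1)] .nil .nil)) (.node [] (.node [(27, (-1), 1)] .nil .nil) .nil)))))
def X19 : Tr (List (ℕ × ℤ × ℕ)) := (.node [(25, (-1), 1)] (.node [(25, 1, 1)] (.node [(25, (-1), 1)] (.node [] .nil (.node [] .nil (.node [(35, (-1), 1)] .nil .nil))) (.node [] (.node [(9, 1, 1)] .nil (.node [(31, (-1), 1)] .nil .nil)) (.node [] (.node [] (.node [(65, (-1), 1)] .nil .nil) .nil) .nil))) (.node [(25, 1, 1)] (.node [] .nil (.node [] .nil (.node [(41, (-1), 1)] .nil .nil))) (.node [(6, (-1), 1)] (.node [(14, (-1), 1)] (.node [(22, 1, 1)] (.node [(62, 1, 1)] .nil .nil) .nil) .nil) (.node [] (.node [] (.node [(70, 1, 1)] .nil .nil) .nil) (.node [(46, (-1), 1)] .nil .nil))))) (.node [(25, 1, 1)] (.node [] (.node [] (.node [] .nil (.node [(28, 1, 1)] .nil .nil)) (.node [] .nil (.node [(39, (-1), 1)] .nil .nil)))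 (.node [] (.node [] .nil (.node [(32, 1, 1)] .nil .nil)) (.node [] (.node [(27, 1, 1)] .nil .nil) (.node [(45, (-1), 1)] .nil .nil)))) (.node [] (.node [] (.node [(8, 1, 1)] .nil .nil) (.node [] (.node [(26, 1, 1)] (.node [(64, (-1), 1)] .nil .nil) .nil) (.node [(1, (-1), 1), (2, (-1), 1), (3, (-1), 1), (4, (-1), 1), (5, (-1), 1), (25, (-1), 2)] .nil .nil))) (.node [] (.node [] (.node [(23, 1, 1)] .nil .nil) .nil) .nil))))
def X20 : Tr (List (ℕ × ℤ × ℕ)) := (.node [(26, (-1), 1)] (.node [(26, 1, 1)] (.node [(26, (-1), 1)] .nil (.node [] (.node [(10, 1, 1)] .nil .nil) (.node [] (.node [(27, 1, 1)] (.node [(66, 1, 1)] .nil .nil) .nil) (.node [(45, (-1), 1)] .nil .nil)))) (.node [(26, (-1), 1)] (.node [] (.node [(8, (-1), 1)] .nil .nil) (.node [] (.node [(25, 1, 1)] (.node [(64, (-1), 1)] .nil .nil) .nil) (.node [(1, (-1), 1), (2, (-1), 1), (3, (-1), 1), (4, (-1), 1), (26, (-1), 2)] .nil .nil))) (.node [] (.node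 [(15, (-1), 1)] .nil .nil) (.node [] (.node [] (.node [(71, (-1), 1)] .nil .nil) .nil) (.node [(47, 1, 1)] .nil .nil))))) (.node [(26, 1, 1)] (.node [(26, 1, 1)] (.node [] (.node [] .nil (.node [(29, 1, 1)] .nil .nil)) (.node [] .nil (.node [(40, (-1), 1)] .nil .nil))) (.node [(6, 1, 1)] (.node [] (.node [(22, (-1), 1)] (.node [(62, 1, 1)] .nil .nil) .nil) (.node [(33, 1, 1)] .nil .nil)) .nil)) (.node [] (.node [] (.node [] .nil (.node [(31, (-1), 1)] .nil .nil)) (.node [] .nil (.node [(42, (-1), 1)] .nil .nil))) (.node [] (.node [] (.node [(24, 1, 1)] .nil .nil) (.node [(35, (-1), 1)] .nil .nil)) .nil))))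
def X21 : Tr (List (ℕ × ℤ × ℕ)) := (.node [(27, (-1), 1)] (.node [(27, 1, 1)] (.node [] (.node [] .nil (.node [] (.node [(25, 1, 1)] .nil .nil) .nil)) (.node [(6, (-1), 1)] (.node [] (.node [] (.node [(62, 1, 1)] .nil .nil) .nil) .nil) (.node [] .nil (.node [(46, 1, 1)] .nil .nil)))) (.node [] (.node [] (.node [(9, (-1), 1)] .nil (.node [(31, (-1), 1)] .nil .nil)) (.node [] (.node [] (.node [(65, 1, 1)] .nil .nil) .nil) (.node [(43, (-1), 1)] .nil .nil))) (.node [] (.node [(16, (-1), 1)] (.node [(24, (-1), 1)] .nil .nil) (.node [(35, (-1), 1)] .nil .nil)) (.node [] (.node [] (.node [(72, 1, 1)] .nil .nil) .nil) .nil)))) (.node [(27, 1, 1)] (.node [(27, (-1), 1)] (.node [] (.node [] .nil (.node [(30, 1, 1)] .nil .nil)) (.node [] (.node [(26, 1, 1)] .nil .nil) (.node [(1, (-1), 1), (2, (-1), 1), (3, (-1), 1), (27, (-1), 2)] .nil .nil))) (.node [] (.node [] (.node [(23, (-1), 1)] .nil .nil) (.node [(34, 1, 1)]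 .nil .nil)) (.node [] .nil (.node [(47, 1, 1)] .nil .nil)))) (.node [] (.node [] (.node [(10, (-1), 1)] .nil .nil) (.node [] (.node [] (.node [(66, 1, 1)] .nil .nil) .nil) (.node [(44, (-1), 1)] .nil .nil))) .nil)))
def X22 : Tr (List (ℕ × ℤ × ℕ)) := (.node [] (.node [(28, 1, 1)] (.node [] (.node [] (.node [] .nil (.node [(31, 1, 1)] .nil .nil)) (.node [] (.node [] (.node [(64, (-1), 1)] .nil .nil) .nil) (.node [(1, (-1), 1), (3, (-1), 1), (4, (-1), 1), (5, (-1), 1), (28, (-1), 2)] .nil .nil))) (.node [] (.node [(12, 1, 1)] (.node [(25, 1, 1)] .nil .nil) .nil) .nil)) (.node [(28, 1, 1)] (.node [] (.node [] (.node [(22, 1, 1)] .nil .nil) .nil) .nil) (.node [] (.node [] (.node [] (.node [(63, (-1), 1)] .nil .nil) .nil) (.node [(39, (-1), 1)] .nil .nil)) (.node [] (.node [] (.node [(73, (-1), 1)] .nil .nil) .nil) (.node [(50, (-1), 1)] .nil .nil))))) (.node [(28, (-1), 1)] (.node [] (.node [] .nil (.node [] (.node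 [] (.node [(65, (-1), 1)] .nil .nil) .nil) .nil)) (.node [] (.node [(14, 1, 1)] .nil (.node [(36, (-1), 1)] .nil .nil)) (.node [] (.node [(30, 1, 1)] .nil .nil) (.node [(49, (-1), 1)] .nil .nil)))) (.node [] (.node [(6, 1, 1)] (.node [(11, 1, 1)] (.node [(23, 1, 1)] .nil .nil) .nil) (.node [] (.node [(29, 1, 1)] .nil .nil) (.node [(48, (-1), 1)] .nil .nil))) (.node [] (.node [] .nil (.node [(41, (-1), 1)] .nil .nil)) .nil))))
def X23 : Tr (List (ℕ × ℤ × ℕ)) := (.node [] (.node [(29, 1, 1)] (.node [] (.node [] .nil (.node [] .nil (.node [(42, (-1), 1)] .nil .nil))) (.node [] (.node [(13, 1, 1)] (.node [(26, 1, 1)] .nil .nil) .nil) (.node [] (.node [(30, 1, 1)] .nil .nil) (.node [(49, (-1), 1)] .nil .nil)))) (.node [(29, (-1), 1)] (.node [(6, (-1), 1)] (.node [(11, (-1), 1)] .nil .nil) (.node [] (.node [(28, 1, 1)] .nil .nil) (.node [(48, (-1), 1)] .nil .nil))) (.node [] (.node [] .nil (.node [(40, (-1), 1)]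 .nil .nil)) (.node [] (.node [] (.node [(74, 1, 1)] .nil .nil) .nil) (.node [(51, 1, 1)] .nil .nil))))) (.node [(29, (-1), 1)] (.node [(29, 1, 1)] (.node [] (.node [] (.node [(22, (-1), 1)] .nil .nil) .nil) (.node [] (.node [] (.node [(66, 1, 1)] .nil .nil) .nil) .nil)) (.node [] (.node [(15, 1, 1)] (.node [] (.node [(63, (-1), 1)] .nil .nil) .nil) (.node [(37, (-1), 1)] .nil .nil)) .nil)) (.node [] (.node [] (.node [] (.node [(24, 1, 1)] .nil .nil) .nil) .nil) (.node [] (.node [] (.node [] (.node [(64, (-1), 1)] .nil .nil) .nil) (.node [(1, (-1), 1), (3, (-1), 1), (4, (-1), 1), (29, (-1), 2)] .nil .nil)) (.node [] (.node [(31, 1, 1)] .nil .nil) .nil)))))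
def X24 : Tr (List (ℕ × ℤ × ℕ)) := (.node [] (.node [(30, 1, 1)] (.node [(30, 1, 1)] (.node [] .nil (.node [] (.node [(28, 1, 1)] (.node [(66, 1, 1)] .nil .nil) .nil) (.node [(44, (-1), 1)] .nil .nil))) (.node [] (.node [] (.node [(27, 1, 1)] (.node [(63, (-1), 1)] .nil .nil) .nil) .nil) (.node [] .nil (.node [(50, 1, 1)] .nil .nil)))) (.node [] (.node [] (.node [(12, (-1), 1)] (.node [(24, (-1), 1)] .nil .nil) .nil) .nil) (.node [] (.node [] .nil (.node [(1, (-1), 1), (3, (-1), 1), (30, (-1), 2)] .nil .nil)) (.node [] (.node [(31, 1, 1)] (.node [(75, (-1), 1)] .nil .nil) .nil) .nil)))) (.node [(30, (-1), 1)] (.node [(30, (-1), 1)] (.node [(6, 1, 1)] (.node [] (.node [(23, (-1), 1)] .nil .nil) .nil) (.node [] (.node [(29, 1, 1)] .nil .nil) (.node [(48, (-1), 1)] .nil .nil))) (.node [] (.node [(16, 1, 1)] .nil (.node [(38, (-1), 1)] .nil .nil)) (.node [] .nil (.node [(51, 1, 1)] .nil .nil)))) (.node [] (.node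 [] (.node [(13, (-1), 1)] .nil .nil) .nil) (.node [] (.node [] (.node [] (.node [(65, 1, 1)] .nil .nil) .nil) (.node [(43, (-1), 1)] .nil .nil)) .nil))))
def X25 : Tr (List (ℕ × ℤ × ℕ)) := (.node [] (.node [(31, 2, 1)] (.node [(31, (-1), 1)] (.node [(6, (-1), 1)] .nil (.node [] .nil (.node [(47, (-1), 1)] .nil .nil))) (.node [] (.node [(16, (-1), 1)] (.node [] (.node [(64, 1, 1)] .nil .nil) .nil) .nil) .nil)) (.node [] (.node [] (.node [(14, (-1), 1)] (.node [(26, (-1), 1)] .nil .nil) .nil) (.node [] .nil (.node [(50, 1, 1)] .nil .nil))) (.node [] (.node [] (.node [(29, 1, 1)] (.node [(66, 1, 1)] .nil .nil) .nil) (.node [(45, (-1), 1)] .nil .nil)) (.node [] (.node [] (.node [(76, 1, 1)] .nil .nil) .nil) .nil)))) (.node [] (.node [] (.node [] (.node [] (.node [(25, (-1), 1)] .nil .nil) .nil) (.node [] .nil (.node [(49, 1, 1)] .nil .nil))) (.node [] (.node [] (.node [(28, 1, 1)] (.node [(65, 1, 1)] .nil .nil)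 .nil) (.node [(1, (-1), 1), (31, (-1), 2)] .nil .nil)) .nil)) (.node [] (.node [] (.node [(15, (-1), 1)] (.node [(27, (-1), 1)] .nil .nil) .nil) (.node [] .nil (.node [(51, 1, 1)] .nil .nil))) (.node [] (.node [] (.node [(30, 1, 1)] .nil .nil) (.node [(46, (-1), 1)] .nil .nil)) .nil))))
def X26 : Tr (List (ℕ × ℤ × ℕ)) := (.node [(32, (-1), 1)] (.node [(32, (-1), 1)] (.node [] (.node [] (.node [(8, (-1), 1)] (.node [(25, 1, 1)] .nil .nil) (.node [(35, 1, 1)] .nil .nil)) .nil) (.node [] (.node [] .nil (.node [(2, (-1), 1), (3, (-1), 1), (4, (-1), 1), (5, (-1), 1), (32, (-1), 2)] .nil .nil)) (.node [] (.node [] (.node [(68, 1, 1)] .nil .nil) .nil) .nil))) (.node [(32, 1, 1)] (.node [] (.node [] .nil (.node [(39, (-1), 1)] .nil .nil)) .nil) (.node [(7, (-1), 1)] (.node [(17, (-1), 1)] .nil .nil) (.node [(22, 1, 1)] .nil (.node [(54, (-1), 1)] .nil .nil))))) (.node [(32, 1, 1)] (.node [] (.node [] (.node [(9, (-1),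 1)] .nil (.node [(36, (-1), 1)] .nil .nil)) .nil) (.node [] .nil (.node [] (.node [(34, 1, 1)] (.node [(70, 1, 1)] .nil .nil) .nil) (.node [(53, (-1), 1)] .nil .nil)))) (.node [] (.node [] (.node [] (.node [] (.node [(62, 1, 1)] .nil .nil) .nil) (.node [(41, (-1), 1)] .nil .nil)) (.node [] (.node [(33, 1, 1)] (.node [(67, 1, 1)] .nil .nil) .nil) (.node [(52, (-1), 1)] .nil .nil))) (.node [] .nil (.node [(23, 1, 1)] .nil .nil)))))
def X27 : Tr (List (ℕ × ℤ × ℕ)) := (.node [(33, (-1), 1)] (.node [(33, (-1), 1)] (.node [] (.node [] (.node [] (.node [(26, 1, 1)] .nil .nil) .nil) .nil) (.node [] (.node [] .nil (.node [(42, (-1), 1)] .nil .nil)) (.node [] (.node [(34, 1, 1)] (.node [(69, (-1), 1)] .nil .nil) .nil) (.node [(53, (-1), 1)] .nil .nil)))) (.node [(33, (-1), 1)] (.node [] (.node [] (.node [] (.node [(62, 1, 1)] .nil .nil) .nil) (.node [(40, (-1), 1)] .nil .nil)) (.node [] (.node [(32, 1, 1)] (.node [(67,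 1, 1)] .nil .nil) .nil) (.node [(52, (-1), 1)] .nil .nil))) (.node [] (.node [(18, (-1), 1)] .nil .nil) (.node [] .nil (.node [(55, 1, 1)] .nil .nil))))) (.node [(33, 1, 1)] (.node [(33, 1, 1)] (.node [] (.node [(10, (-1), 1)] .nil (.node [(37, (-1), 1)] .nil .nil)) .nil) (.node [(7, 1, 1)] .nil (.node [(22, (-1), 1)] (.node [] (.node [(71, (-1), 1)] .nil .nil) .nil) .nil))) (.node [] (.node [] (.node [] .nil (.node [(2, (-1), 1), (3, (-1), 1), (4, (-1), 1), (33, (-1), 2)] .nil .nil)) .nil) (.node [(8, 1, 1)] .nil (.node [(24, 1, 1)] (.node [(35, 1, 1)] .nil .nil) .nil)))))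
def X28 : Tr (List (ℕ × ℤ × ℕ)) := (.node [(34, (-1), 1)] (.node [(34, (-1), 1)] (.node [(34, 1, 1)] (.node [] (.node [(10, 1, 1)] (.node [(27, 1, 1)] .nil .nil) .nil) (.node [] (.node [(32, 1, 1)] .nil .nil) .nil)) (.node [(7, (-1), 1)] (.node [] .nil (.node [(44, (-1), 1)] .nil .nil)) (.node [] .nil (.node [(54, 1, 1)] .nil .nil)))) (.node [] (.node [] (.node [] .nil (.node [(2, (-1), 1), (3, (-1), 1), (34, (-1), 2)] .nil .nil)) (.node [] (.node [] (.node [(68, (-1), 1)] .nil .nil) .nil) .nil)) (.node [] (.node [(19, (-1), 1)] .nil .nil) (.node [(24, (-1), 1)] (.node [(35, 1, 1)] .nil .nil) .nil)))) (.node [(34, 1, 1)] (.node [(34, (-1), 1)] (.node [] (.node [] (.node [] (.node [(62, 1, 1)] .nil .nil) .nil) (.node [(38, (-1), 1)] .nil .nil)) (.node [] (.node [(33, 1, 1)] .nil .nil) (.node [(52, (-1), 1)] .nil .nil))) (.node [] .nil (.node [(23, (-1), 1)] (.node [] (.node [(72, 1, 1)] .nil .nil) .nil) (.node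 [(55, 1, 1)] .nil .nil)))) (.node [] (.node [] (.node [] .nil (.node [(43, (-1), 1)] .nil .nil)) (.node [] (.node [] (.node [(69, (-1), 1)] .nil .nil) .nil) .nil)) (.node [(9, 1, 1)] .nil .nil))))
def X29 : Tr (List (ℕ × ℤ × ℕ)) := (.node [(35, (-1), 1)] (.node [] (.node [(35, (-1), 1)] (.node [] (.node [] (.node [] (.node [(62, 1, 1)] .nil .nil) .nil) .nil) .nil) (.node [(8, (-1), 1)] (.node [] .nil (.node [(47, (-1), 1)] .nil .nil)) (.node [] (.node [] (.node [(72, 1, 1)] .nil .nil) .nil) .nil))) (.node [] (.node [] (.node [] .nil (.node [(45, (-1), 1)] .nil .nil)) (.node [] (.node [] (.node [(70, 1, 1)] .nil .nil) .nil) (.node [(54, 1, 1)] .nil .nil))) (.node [(10, (-1), 1)] (.node [(20, (-1), 1)] (.node [(33, 1, 1)] .nil .nil) .nil) (.node [(26, (-1), 1)] .nil .nil)))) (.node [(35, 2, 1)] (.node [] (.node [] (.node [] .nil (.node [(2, (-1), 1), (35, (-1), 2)] .nil .nil)) (.node [] .nil (.node [(53, 1,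 1)] .nil .nil))) (.node [(9, (-1), 1)] (.node [] (.node [(32, 1, 1)] .nil .nil) .nil) (.node [(25, (-1), 1)] .nil .nil))) (.node [] (.node [] (.node [] .nil (.node [(46, (-1), 1)] .nil .nil)) (.node [] (.node [] (.node [(71, 1, 1)] .nil .nil) .nil) (.node [(55, 1, 1)] .nil .nil))) (.node [] (.node [] (.node [(34, 1, 1)] .nil .nil) .nil) (.node [(27, (-1), 1)] .nil .nil)))))
def X30 : Tr (List (ℕ × ℤ × ℕ)) := (.node [] (.node [(36, (-1), 1)] (.node [(36, 1, 1)] (.node [] (.node [(11, 1, 1)] (.node [(28, (-1), 1)] .nil .nil) (.node [(3, (-1), 1), (4, (-1), 1), (5, (-1), 1), (36, (-1), 2)] .nil .nil)) (.node [] (.node [] (.node [(67, (-1), 1)] .nil .nil) .nil) (.node [(52, 1, 1)] .nil .nil))) (.node [] (.node [] (.node [(32, (-1), 1)] .nil .nil) (.node [(48, 1, 1)] .nil .nil)) (.node [(23, 1, 1)] .nil .nil))) (.node [(36, 1, 1)] .nil (.node [] .nil (.node [] (.node [(39, (-1), 1)] .nil .nil) (.node [(57, (-1),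 1)] .nil .nil))))) (.node [(36, (-1), 1)] (.node [] (.node [] (.node [(12, 1, 1)] .nil .nil) (.node [] (.node [] (.node [(68, (-1), 1)] .nil .nil) .nil) .nil)) (.node [] (.node [(17, (-1), 1)] .nil .nil) (.node [] (.node [(38, 1, 1)] (.node [(73, 1, 1)] .nil .nil) .nil) (.node [(56, (-1), 1)] .nil .nil)))) (.node [] (.node [(7, (-1), 1)] (.node [] (.node [] (.node [(63, 1, 1)] .nil .nil) .nil) .nil) (.node [(22, 1, 1)] (.node [(37, 1, 1)] .nil .nil) .nil)) (.node [] .nil (.node [] (.node [(41, (-1), 1)] .nil .nil) .nil)))))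
def X31 : Tr (List (ℕ × ℤ × ℕ)) := (.node [] (.node [(37, (-1), 1)] (.node [(37, 1, 1)] (.node [] (.node [] (.node [(29, (-1), 1)] .nil .nil) (.node [(42, (-1), 1)] .nil .nil)) .nil) (.node [] (.node [] (.node [(33, (-1), 1)] .nil .nil) .nil) (.node [(24, 1, 1)] (.node [(38, 1, 1)] .nil .nil) (.node [(56, (-1), 1)] .nil .nil)))) (.node [(37, (-1), 1)] (.node [(7, 1, 1)] (.node [] (.node [] (.node [(63, 1, 1)] .nil .nil) .nil) .nil) (.node [(22, (-1), 1)] (.node [(36, 1, 1)] .nil .nil) .nil)) (.node [] .nil (.node [] (.node [(40, (-1), 1)] .nil .nil) (.node [(58, 1, 1)] .nil .nil))))) (.node [(37, (-1), 1)] (.node [(37, 1, 1)] (.node [] (.node [(13, 1, 1)] .nil .nil) (.node [] (.node [] (.node [(69, 1, 1)] .nil .nil) .nil) .nil)) (.node [] (.node [(18, (-1), 1)] .nil .nil) (.node [] (.node [] (.node [(74, (-1), 1)] .nil .nil) .nil) .nil))) (.node [] (.node [] (.node [] .nil (.node [(48, 1, 1)] .nil .nil)) .nil)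 (.node [(11, (-1), 1)] (.node [] (.node [] (.node [(67, (-1), 1)] .nil .nil) .nil) (.node [(52, 1, 1)] .nil .nil)) (.node [] (.node [(3, (-1), 1), (4, (-1), 1), (37, (-1), 2)] .nil .nil) .nil)))))
def X32 : Tr (List (ℕ × ℤ × ℕ)) := (.node [] (.node [(38, (-1), 1)] (.node [(38, 2, 1)] (.node [] (.node [(13, (-1), 1)] (.node [(30, (-1), 1)] .nil .nil) (.node [(44, (-1), 1)] .nil .nil)) (.node [] (.node [(36, 1, 1)] (.node [(69, 1, 1)] .nil .nil) .nil) .nil)) (.node [] (.node [] (.node [(34, (-1), 1)] .nil .nil) .nil) (.node [] .nil (.node [(57, 1, 1)] .nil .nil)))) (.node [] (.node [] (.node [] .nil (.node [(48, 1, 1)] .nil .nil)) (.node [(23, (-1), 1)] .nil .nil)) (.node [] (.node [] .nil (.node [(52, 1, 1)] .nil .nil)) (.node [] (.node [(3, (-1), 1), (38, (-1), 2)] .nil .nil) .nil)))) (.node [(38, (-1), 1)] (.node [(38, (-1), 1)] (.node [(7, (-1), 1)] (.node [] (.node [] (.node [(63, 1, 1)] .nil .nil) .nil)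 .nil) (.node [] (.node [(37, 1, 1)] .nil .nil) .nil)) (.node [] (.node [(19, (-1), 1)] .nil .nil) (.node [] (.node [] (.node [(75, 1, 1)] .nil .nil) .nil) (.node [(58, 1, 1)] .nil .nil)))) (.node [] (.node [] .nil (.node [(24, (-1), 1)] .nil .nil)) (.node [(12, (-1), 1)] (.node [] (.node [] (.node [(68, 1, 1)] .nil .nil) .nil) .nil) (.node [] (.node [(43, (-1), 1)] .nil .nil) .nil)))))
def X33 : Tr (List (ℕ × ℤ × ℕ)) := (.node [] (.node [] (.node [(39, (-1), 1)] (.node [] (.node [] .nil (.node [(45, 1, 1)] .nil .nil)) (.node [] .nil (.node [(53, 1, 1)] .nil .nil))) (.node [] (.node [(17, (-1), 1)] .nil (.node [(49, 1, 1)] .nil .nil)) (.node [(25, (-1), 1)] (.node [(41, (-1), 1)] (.node [(73, (-1), 1)] .nil .nil) .nil) .nil))) (.node [(39, 1, 1)] .nil (.node [(11, 1, 1)] (.node [] (.node [] (.node [(67, 1, 1)] .nil .nil) .nil) .nil) (.node [] .nil (.node [(59, (-1), 1)] .nil .nil))))) (.node [] (.node [(39,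 1, 1)] (.node [] (.node [(14, (-1), 1)] .nil .nil) (.node [(22, 1, 1)] (.node [] (.node [(70, (-1), 1)] .nil .nil) .nil) .nil)) (.node [] .nil (.node [] (.node [(4, (-1), 1), (5, (-1), 1), (39, (-1), 2)] .nil .nil) .nil))) (.node [] (.node [(8, 1, 1)] (.node [] (.node [(32, (-1), 1)] (.node [(64, 1, 1)] .nil .nil) .nil) .nil) (.node [] (.node [(40, 1, 1)] .nil .nil) (.node [(56, 1, 1)] .nil .nil))) (.node [] (.node [] (.node [(36, (-1), 1)] .nil .nil) .nil) (.node [(28, (-1), 1)] .nil .nil)))))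
def X34 : Tr (List (ℕ × ℤ × ℕ)) := (.node [] (.node [] (.node [(40, (-1), 1)] (.node [] .nil (.node [(22, (-1), 1)] .nil .nil)) (.node [] (.node [(18, (-1), 1)] .nil .nil) (.node [(26, (-1), 1)] (.node [(4, (-1), 1), (40, (-1), 2)] (.node [(74, 1, 1)] .nil .nil) .nil) .nil))) (.node [(40, (-1), 1)] (.node [(8, (-1), 1)] (.node [] (.node [] (.node [(64, 1, 1)] .nil .nil) .nil) .nil) (.node [] (.node [(39, 1, 1)] .nil .nil) (.node [(56, 1, 1)] .nil .nil))) (.node [] .nil (.node [] .nil (.node [(60, 1, 1)] .nil .nil))))) (.node [] (.node [(40, 2, 1)] (.node [] (.node [(15, (-1), 1)] .nil .nil) (.node [] (.node [] (.node [(71, 1, 1)] .nil .nil) .nil) .nil)) (.node [(11, (-1), 1)] (.node [] (.node [] (.node [(67, 1, 1)] .nil .nil) .nil) .nil) (.node [] (.node [(42, (-1), 1)] .nil .nil) .nil))) (.node [] (.node [] (.node [] (.node [(33, (-1), 1)] .nil .nil) (.node [(49, 1, 1)] .nil .nil)) .nil) (.node [] (.node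 [] (.node [(37, (-1), 1)] .nil .nil) (.node [(53, 1, 1)] .nil .nil)) (.node [(29, (-1), 1)] (.node [(45, 1, 1)] .nil .nil) .nil)))))
def X35 : Tr (List (ℕ × ℤ × ℕ)) := (.node [] (.node [] (.node [] (.node [] (.node [(14, (-1), 1)] .nil (.node [(46, 1, 1)] .nil .nil)) (.node [] (.node [] (.node [(70, 1, 1)] .nil .nil) .nil) (.node [(54, 1, 1)] .nil .nil))) (.node [] (.node [] .nil (.node [(50, 1, 1)] .nil .nil)) .nil)) (.node [(41, 2, 1)] (.node [] (.node [] (.node [(32, (-1), 1)] .nil .nil) .nil) .nil) (.node [(12, (-1), 1)] (.node [] (.node [(36, (-1), 1)] (.node [(68, 1, 1)] .nil .nil) .nil) .nil) (.node [(28, (-1), 1)] .nil .nil)))) (.node [] (.node [(41, (-1), 1)] (.node [] .nil (.node [(23, (-1), 1)] (.node [(39, (-1), 1)] .nil .nil) .nil)) (.node [] .nil (.node [] (.node [(43, 1, 1)] .nil .nil) (.node [(59, 1, 1)] .nil .nil)))) (.node [] (.node [(9, (-1), 1)] (.node [(17, (-1), 1)] (.node [] (.node [(65,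 1, 1)] .nil .nil) .nil) .nil) (.node [(25, (-1), 1)] (.node [(5, (-1), 1), (41, (-1), 2)] (.node [(73, 1, 1)] .nil .nil) .nil) (.node [(57, 1, 1)] .nil .nil))) .nil)))
def X36 : Tr (List (ℕ × ℤ × ℕ)) := (.node [] (.node [] (.node [] (.node [] .nil (.node [(24, (-1), 1)] (.node [(40, (-1), 1)] .nil .nil) .nil)) (.node [] .nil (.node [] (.node [(44, 1, 1)] .nil .nil) (.node [(60, 1, 1)] .nil .nil)))) (.node [(42, (-2), 1)] (.node [(10, (-1), 1)] (.node [(18, (-1), 1)] (.node [] (.node [(66, 1, 1)] .nil .nil) .nil) .nil) (.node [(26, (-1), 1)] (.node [(5, 1, 1), (42, (-1), 2)] (.node [(74, 1, 1)] .nil .nil) .nil) (.node [(58, 1, 1)] .nil .nil))) .nil)) (.node [] (.node [(42, 1, 1)] (.node [] (.node [] (.node [(33, (-1), 1)] .nil .nil) .nil) .nil) (.node [(13, (-1), 1)] (.node [] (.node [(37, (-1), 1)] (.node [(69, 1, 1)] .nil .nil) .nil) .nil) (.node [(29, (-1), 1)] .nil .nil))) (.node [] (.node [] (.node []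 .nil (.node [(51, 1, 1)] .nil .nil)) .nil) (.node [(15, (-1), 1)] (.node [] (.node [] (.node [(71, 1, 1)] .nil .nil) .nil) (.node [(55, 1, 1)] .nil .nil)) (.node [] (.node [(47, 1, 1)] .nil .nil) .nil)))))
def X37 : Tr (List (ℕ × ℤ × ℕ)) := (.node [] (.node [] (.node [(43, 1, 1)] (.node [] (.node [(16, (-1), 1)] .nil .nil) (.node [] (.node [(41, 1, 1)] (.node [(72, 1, 1)] .nil .nil) .nil) .nil)) (.node [(12, (-1), 1)] (.node [] (.node [] (.node [(68, 1, 1)] .nil .nil) .nil) .nil) .nil)) (.node [(43, 1, 1)] (.node [] (.node [] (.node [(34, (-1), 1)] .nil .nil) (.node [(50, 1, 1)] .nil .nil)) .nil) (.node [] (.node [] (.node [(38, (-1), 1)] .nil .nil) (.node [(54, 1, 1)] .nil .nil)) (.node [(30, (-1), 1)] (.node [(46, 1, 1)] .nil .nil) .nil)))) (.node [] (.node [(43, (-2), 1)] (.node [(9, (-1), 1)] (.node [] (.node [] (.node [(65, 1, 1)] .nil .nil) .nil) .nil) (.node [] (.node [(4, 1, 1), (43, (-1), 2)] .nil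 .nil) (.node [(57, 1, 1)] .nil .nil))) (.node [] .nil (.node [] .nil (.node [(61, 1, 1)] .nil .nil)))) (.node [] (.node [] (.node [(19, (-1), 1)] .nil .nil) (.node [(27, (-1), 1)] (.node [(44, (-1), 1)] (.node [(75, 1, 1)] .nil .nil) .nil) .nil)) (.node [] (.node [(23, (-1), 1)] .nil .nil) .nil))))
def X38 : Tr (List (ℕ × ℤ × ℕ)) := (.node [] (.node [] (.node [(44, 1, 1)] (.node [] .nil (.node [] (.node [(4, 1, 1), (5, 1, 1), (44, (-1), 2)] .nil .nil) .nil)) (.node [(13, 1, 1)] (.node [] (.node [] (.node [(69, 1, 1)] .nil .nil) .nil) .nil) (.node [] .nil (.node [(61, (-1), 1)] .nil .nil)))) (.node [(44, (-1), 1)] (.node [] (.node [(19, (-1), 1)] .nil (.node [(51, 1, 1)] .nil .nil)) (.node [(27, (-1), 1)] (.node [(43, (-1), 1)] (.node [(75, (-1), 1)] .nil .nil) .nil) .nil)) (.node [] (.node [] .nil (.node [(55, 1, 1)] .nil .nil)) (.node [] (.node [(47, 1, 1)] .nil .nil) .nil)))) (.node [] (.node [(44, (-1),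 1)] (.node [(10, 1, 1)] (.node [] (.node [(34, (-1), 1)] (.node [(66, 1, 1)] .nil .nil) .nil) .nil) (.node [] (.node [(42, 1, 1)] .nil .nil) (.node [(58, 1, 1)] .nil .nil))) (.node [] (.node [] (.node [(38, (-1), 1)] .nil .nil) .nil) (.node [(30, (-1), 1)] .nil .nil))) (.node [] .nil (.node [(16, (-1), 1)] (.node [(24, 1, 1)] (.node [] (.node [(72, (-1), 1)] .nil .nil) .nil) .nil) .nil))))
def X39 : Tr (List (ℕ × ℤ × ℕ)) := (.node [] (.node [(45, 1, 1)] (.node [(45, (-2), 1)] (.node [(8, (-1), 1)] (.node [] (.node [] (.node [(64, 1, 1)] .nil .nil) .nil) .nil) (.node [(25, (-1), 1)] .nil .nil)) (.node [] (.node [(20, (-1), 1)] .nil .nil) (.node [] (.node [(46, (-1), 1)] (.node [(76, 1, 1)] .nil .nil) .nil) .nil))) (.node [] (.node [] .nil (.node [] .nil (.node [(59, 1, 1)] .nil .nil))) (.node [(15, (-1), 1)] (.node [] (.node [(40, 1, 1)] (.node [(71, 1, 1)] .nil .nil) .nil) .nil) .nil))) (.node [(45, 1, 1)]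 (.node [(45, 1, 1)] (.node [] (.node [] .nil (.node [(49, 1, 1)] .nil .nil)) (.node [(26, (-1), 1)] .nil .nil)) (.node [(14, (-1), 1)] (.node [] (.node [(39, 1, 1)] (.node [(70, 1, 1)] .nil .nil) .nil) (.node [(53, 1, 1)] .nil .nil)) (.node [] (.node [(47, (-1), 1)] .nil .nil) .nil))) (.node [] (.node [] (.node [] (.node [(35, (-1), 1)] .nil .nil) .nil) (.node [] .nil (.node [(60, 1, 1)] .nil .nil))) (.node [] (.node [] (.node [(3, 1, 1), (45, (-1), 2)] .nil .nil) .nil) (.node [(31, (-1), 1)] .nil .nil)))))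
def X40 : Tr (List (ℕ × ℤ × ℕ)) := (.node [] (.node [(46, 1, 1)] (.node [(46, (-1), 1)] (.node [(9, 1, 1)] (.node [] (.node [] (.node [(65, 1, 1)] .nil .nil) .nil) .nil) .nil) (.node [(14, (-1), 1)] (.node [] (.node [] (.node [(70, (-1), 1)] .nil .nil) .nil) .nil) .nil)) (.node [(46, 1, 1)] (.node [] (.node [] (.node [(35, (-1), 1)] .nil .nil) .nil) .nil) (.node [(16, 1, 1)] (.node [] (.node [(3, 1, 1), (4, 1, 1), (46, (-1), 2)] (.node [(72, 1, 1)] .nil .nil) .nil) .nil) (.node [(31, (-1), 1)] .nil .nil)))) (.node [(46, 1, 1)] (.node [(46, (-1), 1)] (.node [] (.node [] .nil (.node [(50, 1, 1)] .nil .nil)) (.node [(27, 1, 1)] (.node [(45, (-1), 1)] .nil .nil) (.node [(59, (-1), 1)] .nil .nil))) (.node [] (.node [] (.node [(41, 1, 1)] .nil .nil) (.node [(54, 1, 1)] .nil .nil)) .nil)) (.node [] (.node [] (.node [(20, (-1), 1)] .nil .nil) (.node [] (.node [(47, (-1), 1)] (.node [(76, (-1), 1)] .nil .nil) .nil)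 (.node [(61, 1, 1)] .nil .nil))) (.node [] (.node [(25, (-1), 1)] (.node [(43, 1, 1)] .nil .nil) .nil) .nil))))
def X41 : Tr (List (ℕ × ℤ × ℕ)) := (.node [] (.node [(47, 1, 1)] (.node [(47, (-1), 1)] (.node [(10, (-1), 1)] (.node [] (.node [] (.node [(66, 1, 1)] .nil .nil) .nil) .nil) (.node [(27, 1, 1)] (.node [(45, (-1), 1)] .nil .nil) .nil)) (.node [(15, 1, 1)] (.node [] (.node [] (.node [(71, (-1), 1)] .nil .nil) .nil) .nil) .nil)) (.node [(47, (-1), 1)] (.node [] (.node [(20, (-1), 1)] .nil .nil) (.node [] (.node [(46, (-1), 1)] (.node [(76, 1, 1)] .nil .nil) .nil) (.node [(61, (-1), 1)] .nil .nil))) (.node [] (.node [] (.node [(42, 1, 1)] .nil .nil) .nil) .nil))) (.node [(47, 1, 1)] (.node [] (.node [] (.node [] (.node [(35, (-1), 1)] .nil .nil) (.node [(51, 1, 1)] .nil .nil)) (.node [] .nil (.node [(60, (-1), 1)] .nil .nil))) (.node [(16, 1, 1)] (.node [] (.node [(3, 1, 1), (4, 1, 1), (5, 1, 1), (47,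 (-1), 2)] (.node [(72, (-1), 1)] .nil .nil) .nil) (.node [(55, 1, 1)] .nil .nil)) (.node [(31, (-1), 1)] .nil .nil))) (.node [] .nil (.node [] (.node [(26, 1, 1)] (.node [(44, 1, 1)] .nil .nil) .nil) .nil))))
def X42 : Tr (List (ℕ × ℤ × ℕ)) := (.node [(48, 1, 1)] (.node [] (.node [(48, 1, 1)] (.node [] (.node [] .nil (.node [(51, (-1), 1)] .nil .nil)) (.node [] (.node [] (.node [(74, 1, 1)] .nil .nil) .nil) (.node [(58, 1, 1)] .nil .nil))) (.node [] (.node [] (.node [(2, 1, 1), (48, (-1), 2)] .nil .nil) .nil) (.node [(30, (-1), 1)] .nil .nil))) (.node [] (.node [(12, (-1), 1)] (.node [] (.node [(37, 1, 1)] .nil .nil) .nil) (.node [(28, (-1), 1)] .nil .nil)) (.node [] (.node [] .nil (.node [(56, 1, 1)] .nil .nil)) (.node [] (.node [(49, (-1), 1)] .nil .nil) .nil)))) (.node [(48, (-2), 1)] (.node [] (.node [(11, (-1), 1)] (.node [] (.node [(36, 1, 1)] .nil .nil) .nil) (.node [] (.node [] (.node [(75, 1, 1)]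 .nil .nil) .nil) .nil)) (.node [] (.node [(21, (-1), 1)] .nil .nil) .nil)) (.node [] (.node [(13, (-1), 1)] (.node [] (.node [(38, 1, 1)] .nil .nil) .nil) (.node [(29, (-1), 1)] .nil .nil)) (.node [] (.node [] (.node [] (.node [(73, 1, 1)] .nil .nil) .nil) (.node [(57, 1, 1)] .nil .nil)) (.node [] (.node [(50, (-1), 1)] .nil .nil) (.node [(63, 1, 1)] .nil .nil))))))
def X43 : Tr (List (ℕ × ℤ × ℕ)) := (.node [(49, 1, 1)] (.node [(49, 1, 1)] (.node [(49, (-1), 1)] (.node [(11, (-1), 1)] .nil (.node [(28, (-1), 1)] .nil (.node [(60, 1, 1)] .nil .nil))) (.node [] (.node [(21, (-1), 1)] (.node [(45, 1, 1)] .nil .nil) .nil) (.node [(31, 1, 1)] (.node [(50, (-1), 1)] .nil .nil) .nil))) (.node [] (.node [(14, 1, 1)] (.node [] (.node [(40, 1, 1)] .nil .nil) .nil) .nil) (.node [] (.node [] (.node [] (.node [(74, (-1), 1)] .nil .nil) .nil) .nil) .nil))) (.node [(49, (-1), 1)] (.node [(49, 1, 1)] (.node [] (.node [] (.node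 [(39, 1, 1)] .nil .nil) .nil) (.node [(29, (-1), 1)] (.node [] (.node [(76, 1, 1)] .nil .nil) .nil) .nil)) (.node [] (.node [] (.node [] (.node [(73, (-1), 1)] .nil .nil) .nil) (.node [(56, (-1), 1)] .nil .nil)) (.node [] (.node [(51, (-1), 1)] .nil .nil) .nil))) (.node [] (.node [(15, 1, 1)] (.node [] (.node [(2, 1, 1), (3, 1, 1), (49, (-1), 2)] .nil .nil) .nil) .nil) (.node [] (.node [] (.node [(48, (-1), 1)] .nil .nil) (.node [(59, 1, 1)] .nil .nil)) (.node [] .nil (.node [(64, 1, 1)] .nil .nil))))))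
def X44 : Tr (List (ℕ × ℤ × ℕ)) := (.node [(50, 1, 1)] (.node [(50, 1, 1)] (.node [] (.node [(12, 1, 1)] .nil (.node [] (.node [] (.node [(76, (-1), 1)] .nil .nil) .nil) (.node [(61, 1, 1)] .nil .nil))) (.node [] (.node [] (.node [(46, 1, 1)] (.node [(73, 1, 1)] .nil .nil) .nil) .nil) .nil)) (.node [(50, 1, 1)] (.node [] (.node [] (.node [(2, 1, 1), (3, 1, 1), (4, 1, 1), (50, (-1), 2)] .nil .nil) .nil) .nil) (.node [] (.node [] (.node [(48, (-1), 1)] (.node [(75, (-1), 1)] .nil .nil) .nil) (.node [(59, (-1), 1)] .nil .nil)) .nil))) (.node [(50, (-1), 1)] (.node [(50, (-1), 1)] (.node [(14, 1, 1)] (.node [] (.node [(41, 1, 1)] .nil .nil) .nil) (.node [(30, 1, 1)] (.node [(49, (-1), 1)] .nil .nil) .nil)) (.node [] (.node [] .nil (.node [(57, (-1), 1)] .nil .nil)) .nil)) (.node [] (.node [(16, (-1), 1)] (.node [(21, (-1), 1)] (.node [(43, 1, 1)] .nil .nil) .nil) (.node [(31, 1, 1)] (.node [(51, (-1), 1)] .nil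 .nil) .nil)) (.node [] (.node [(28, (-1), 1)] .nil .nil) (.node [] .nil (.node [(65, 1, 1)] .nil .nil))))))
def X45 : Tr (List (ℕ × ℤ × ℕ)) := (.node [(51, 1, 1)] (.node [(51, 1, 1)] (.node [] (.node [(13, (-1), 1)] .nil (.node [(30, 1, 1)] (.node [(49, (-1), 1)] .nil .nil) .nil)) (.node [] (.node [] (.node [(47, 1, 1)] (.node [(74, 1, 1)] .nil .nil) .nil) .nil) .nil)) (.node [(51, (-1), 1)] (.node [(16, (-1), 1)] (.node [(21, (-1), 1)] (.node [(42, 1, 1)] .nil .nil) .nil) (.node [(31, 1, 1)] (.node [(50, (-1), 1)] .nil .nil) .nil)) (.node [] (.node [] .nil (.node [(60, (-1), 1)] .nil .nil)) .nil))) (.node [(51, (-1), 1)] (.node [] (.node [(15, (-1), 1)] (.node [] (.node [(2, 1, 1), (3, 1, 1), (4, 1, 1), (5, 1, 1), (51, (-1), 2)] .nil .nil) .nil) .nil) (.node [] (.node [] (.node [(48, (-1), 1)] (.node [(75, 1, 1)] .nil .nil) .nil) (.node [(58, (-1), 1)] .nil .nil)) .nil)) (.node [] (.node [] (.node [] (.node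 [(44, 1, 1)] .nil .nil) .nil) .nil) (.node [] (.node [(29, 1, 1)] (.node [] (.node [(76, 1, 1)] .nil .nil) .nil) (.node [(61, (-1), 1)] .nil .nil)) (.node [] .nil (.node [(66, 1, 1)] .nil .nil))))))
def X46 : Tr (List (ℕ × ℤ × ℕ)) := (.node [] (.node [(52, (-2), 1)] (.node [(52, 1, 1)] (.node [] (.node [(18, (-1), 1)] (.node [(1, 1, 1), (52, (-1), 2)] .nil .nil) (.node [(55, (-1), 1)] .nil .nil)) .nil) (.node [] (.node [] .nil (.node [(58, 1, 1)] .nil .nil)) (.node [(34, (-1), 1)] .nil .nil))) (.node [] (.node [] (.node [] (.node [] (.node [(68, 1, 1)] .nil .nil) .nil) (.node [(56, 1, 1)] .nil .nil)) (.node [(32, (-1), 1)] .nil .nil)) (.node [] .nil (.node [(37, 1, 1)] (.node [(53, (-1), 1)] .nil .nil) .nil)))) (.node [] (.node [] (.node [] (.node [(19, (-1), 1)] (.node [] (.node [(67, 1, 1)] .nil .nil) .nil) .nil) .nil) (.node [] .nil (.node [(36, 1, 1)] (.node [] (.node [(77, 1, 1)] .nil .nil) .nil) .nil)))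 (.node [(7, (-1), 1)] (.node [] (.node [] (.node [] (.node [(69, 1, 1)] .nil .nil) .nil) (.node [(57, 1, 1)] .nil .nil)) (.node [(33, (-1), 1)] .nil .nil)) (.node [(17, (-1), 1)] .nil (.node [(38, 1, 1)] (.node [(54, (-1), 1)] .nil .nil) .nil)))))
def X47 : Tr (List (ℕ × ℤ × ℕ)) := (.node [] (.node [(53, (-1), 1)] (.node [(53, (-1), 1)] (.node [] (.node [] (.node [(45, 1, 1)] (.node [(67, (-1), 1)] .nil .nil) .nil) .nil) (.node [(32, (-1), 1)] .nil .nil)) (.node [] (.node [] .nil (.node [(60, 1, 1)] .nil .nil)) (.node [(35, 1, 1)] (.node [(54, (-1), 1)] (.node [(77, (-1), 1)] .nil .nil) .nil) .nil))) (.node [] (.node [] (.node [] (.node [] (.node [(70, 1, 1)] .nil .nil) .nil) .nil) .nil) (.node [(18, (-1), 1)] .nil (.node [(40, 1, 1)] .nil .nil)))) (.node [(53, 1, 1)] (.node [(53, 1, 1)] (.node [] (.node [(20, 1, 1)] .nil (.node [(56, (-1), 1)] .nil .nil)) (.node [(33, (-1), 1)] .nil .nil)) (.node [(17, (-1),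 1)] .nil (.node [(39, 1, 1)] (.node [(55, (-1), 1)] .nil .nil) .nil))) (.node [(8, 1, 1)] (.node [] (.node [] (.node [] (.node [(71, 1, 1)] .nil .nil) .nil) (.node [(59, 1, 1)] .nil .nil)) .nil) (.node [] (.node [] (.node [(52, (-1), 1)] .nil .nil) .nil) (.node [(1, 1, 1), (3, 1, 1), (53, (-1), 2)] .nil .nil)))))
def X48 : Tr (List (ℕ × ℤ × ℕ)) := (.node [] (.node [(54, (-1), 1)] (.node [] (.node [] (.node [(20, 1, 1)] (.node [(46, 1, 1)] (.node [(68, (-1), 1)] .nil .nil) .nil) .nil) .nil) (.node [(17, (-1), 1)] (.node [] .nil (.node [(61, 1, 1)] .nil .nil)) .nil)) (.node [(54, 1, 1)] (.node [] (.node [] .nil (.node [(59, (-1), 1)] .nil .nil)) .nil) (.node [(19, 1, 1)] (.node [] (.node [(52, (-1), 1)] .nil .nil) .nil) (.node [(1, 1, 1), (3, 1, 1), (4, 1, 1), (54, (-1), 2)] .nil .nil)))) (.node [(54, 1, 1)] (.node [(54, (-1), 1)] (.node [] (.node [] (.node [] (.node [(70, (-1), 1)] .nil .nil) .nil) (.node [(57,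 (-1), 1)] .nil .nil)) (.node [(34, 1, 1)] (.node [(53, (-1), 1)] .nil .nil) .nil)) (.node [] .nil (.node [(41, 1, 1)] .nil .nil))) (.node [(9, (-1), 1)] (.node [] (.node [] (.node [] (.node [(72, 1, 1)] .nil .nil) .nil) .nil) (.node [(35, 1, 1)] (.node [(55, (-1), 1)] (.node [(77, 1, 1)] .nil .nil) .nil) .nil)) (.node [] (.node [(32, (-1), 1)] .nil .nil) (.node [(43, 1, 1)] .nil .nil)))))
def X49 : Tr (List (ℕ × ℤ × ℕ)) := (.node [] (.node [(55, (-1), 1)] (.node [] (.node [] (.node [] (.node [(47, 1, 1)] (.node [(69, (-1), 1)] .nil .nil) .nil) .nil) (.node [(34, 1, 1)] (.node [(53, (-1), 1)] .nil .nil) .nil)) (.node [(18, 1, 1)] .nil .nil)) (.node [(55, (-1), 1)] (.node [] (.node [] (.node [] (.node [(72, (-1), 1)] .nil .nil) .nil) (.node [(60, (-1), 1)] .nil .nil)) (.node [(35, 1, 1)] (.node [(54, (-1), 1)] (.node [(77, (-1), 1)] .nil .nil) .nil) .nil)) (.node [] .nil (.node [(42, 1, 1)] .nil .nil)))) (.node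 [(55, 1, 1)] (.node [] (.node [] (.node [] (.node [] (.node [(71, (-1), 1)] .nil .nil) .nil) (.node [(58, (-1), 1)] .nil .nil)) .nil) (.node [(19, 1, 1)] (.node [] (.node [(52, (-1), 1)] .nil .nil) .nil) (.node [(1, 1, 1), (3, 1, 1), (4, 1, 1), (5, 1, 1), (55, (-1), 2)] .nil .nil))) (.node [(10, 1, 1)] (.node [] (.node [] .nil (.node [(61, (-1), 1)] .nil .nil)) .nil) (.node [(20, 1, 1)] (.node [(33, 1, 1)] .nil .nil) (.node [(44, 1, 1)] .nil .nil)))))
def X50 : Tr (List (ℕ × ℤ × ℕ)) := (.node [(56, 1, 1)] (.node [(56, (-1), 1)] (.node [] (.node [] (.node [] (.node [(49, (-1), 1)] .nil .nil) (.node [(60, 1, 1)] .nil .nil)) (.node [(36, (-1), 1)] .nil .nil)) (.node [] (.node [] (.node [(53, (-1), 1)] .nil .nil) .nil) (.node [(1, 1, 1), (2, 1, 1), (3, 1, 1), (56, (-1), 2)] (.node [(57, (-1), 1)] .nil .nil) .nil))) (.node [] (.node [(17, (-1), 1)] (.node [] (.node [] (.node [(73, 1, 1)] .nil .nil) .nil) .nil)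 (.node [(39, 1, 1)] .nil .nil)) .nil)) (.node [(56, (-1), 1)] (.node [(56, 1, 1)] (.node [] (.node [(21, (-1), 1)] .nil .nil) (.node [(37, (-1), 1)] (.node [] (.node [(77, 1, 1)] .nil .nil) .nil) .nil)) (.node [] .nil (.node [] (.node [(58, (-1), 1)] .nil .nil) .nil))) (.node [(11, (-1), 1)] (.node [(18, (-1), 1)] (.node [] (.node [(52, 1, 1)] (.node [(74, 1, 1)] .nil .nil) .nil) .nil) (.node [(40, 1, 1)] .nil .nil)) (.node [] .nil (.node [(48, 1, 1)] (.node [(59, 1, 1)] .nil .nil) (.node [(67, 1, 1)] .nil .nil))))))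
def X51 : Tr (List (ℕ × ℤ × ℕ)) := (.node [(57, 1, 1)] (.node [(57, (-1), 1)] (.node [(57, 1, 1)] (.node [] (.node [(21, (-1), 1)] (.node [(50, (-1), 1)] .nil .nil) (.node [(61, 1, 1)] .nil .nil)) (.node [] (.node [] (.node [(77, (-1), 1)] .nil .nil) .nil) .nil)) (.node [] (.node [] (.node [(54, (-1), 1)] .nil .nil) .nil) (.node [(43, 1, 1)] .nil .nil))) (.node [(57, 1, 1)] (.node [] (.node [] (.node [(52, 1, 1)] .nil .nil) .nil) (.node [(41, 1, 1)] .nil .nil)) (.node [] .nil (.node [(48, 1, 1)] (.node [(59, (-1), 1)] .nil .nil) .nil)))) (.node [(57, (-1), 1)] (.node [(57, (-1), 1)] (.node [(17, (-1), 1)] (.node [] (.node [] (.node [(73, (-1), 1)] .nil .nil) .nil) .nil) (.node [(38, 1, 1)] (.node [(56, (-1), 1)] .nil .nil) .nil)) .nil) (.node [(12, 1, 1)] (.node [(19, 1, 1)] (.node [] (.node [] (.node [(75, 1, 1)] .nil .nil) .nil) .nil) (.node [(1, 1, 1), (2, 1, 1), (3, 1, 1), (4, 1, 1), (57, (-1), 2)] (.node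 [(58, (-1), 1)] .nil .nil) .nil)) (.node [] (.node [(36, (-1), 1)] .nil .nil) (.node [] .nil (.node [(68, 1, 1)] .nil .nil))))))
def X52 : Tr (List (ℕ × ℤ × ℕ)) := (.node [(58, 1, 1)] (.node [(58, (-1), 1)] (.node [(58, 1, 1)] (.node [] (.node [] (.node [(51, (-1), 1)] .nil .nil) .nil) (.node [(38, 1, 1)] (.node [(56, (-1), 1)] .nil .nil) .nil)) (.node [] (.node [] (.node [(55, (-1), 1)] .nil .nil) .nil) (.node [(44, 1, 1)] .nil .nil))) (.node [(58, (-1), 1)] (.node [(19, 1, 1)] (.node [] (.node [] (.node [(75, (-1), 1)] .nil .nil) .nil) .nil) (.node [(1, 1, 1), (2, 1, 1), (3, 1, 1), (4, 1, 1), (5, 1, 1), (58, (-1), 2)] (.node [(57, (-1), 1)] .nil .nil) .nil)) (.node [] .nil (.node [] (.node [(60, (-1), 1)] .nil .nil) .nil)))) (.node [(58, (-1), 1)] (.node [] (.node [(18, 1, 1)] (.node [] (.node [(52, 1, 1)] (.node [(74, (-1), 1)] .nil .nil) .nil) .nil) .nil) (.node [] .nil (.node [(48, 1, 1)] .nil .nil)))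 (.node [(13, (-1), 1)] (.node [] .nil (.node [(42, 1, 1)] .nil .nil)) (.node [(21, (-1), 1)] (.node [(37, 1, 1)] (.node [] (.node [(77, 1, 1)] .nil .nil) .nil) .nil) (.node [] (.node [(61, (-1), 1)] .nil .nil) (.node [(69, 1, 1)] .nil .nil))))))
def X53 : Tr (List (ℕ × ℤ × ℕ)) := (.node [(59, 1, 1)] (.node [] (.node [(59, (-1), 1)] (.node [(17, (-1), 1)] (.node [] (.node [] (.node [(73, 1, 1)] .nil .nil) .nil) .nil) (.node [(41, 1, 1)] .nil .nil)) (.node [] .nil (.node [(46, (-1), 1)] .nil .nil))) (.node [(59, 1, 1)] (.node [] (.node [] (.node [(53, 1, 1)] .nil .nil) .nil) .nil) (.node [(21, (-1), 1)] (.node [] (.node [(56, 1, 1)] (.node [(77, 1, 1)] .nil .nil) .nil) .nil) (.node [(49, 1, 1)] .nil .nil)))) (.node [] (.node [] (.node [] .nil (.node [(1, 1, 1), (2, 1, 1), (3, 2, 1), (4, 1, 1), (59, (-1), 2)] .nil .nil)) (.node [] .nil (.node [] (.node [(61, 1, 1)] .nil .nil) .nil))) (.node [(14, (-1), 1)] (.node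 [(20, (-1), 1)] (.node [] (.node [(54, (-1), 1)] (.node [(76, 1, 1)] .nil .nil) .nil) .nil) (.node [(45, 1, 1)] (.node [(60, (-1), 1)] .nil .nil) .nil)) (.node [] (.node [(39, (-1), 1)] (.node [(57, (-1), 1)] .nil .nil) .nil) (.node [(50, (-1), 1)] .nil (.node [(70, 1, 1)] .nil .nil))))))
def X54 : Tr (List (ℕ × ℤ × ℕ)) := (.node [(60, 1, 1)] (.node [] (.node [(60, (-1), 1)] (.node [(18, 1, 1)] (.node [] (.node [] (.node [(74, 1, 1)] .nil .nil) .nil) .nil) (.node [(1, 1, 1), (2, 1, 1), (3, 2, 1), (4, 1, 1), (5, 1, 1), (60, (-1), 2)] .nil .nil)) (.node [] .nil (.node [(47, (-1), 1)] (.node [(61, (-1), 1)] .nil .nil) .nil))) (.node [(60, (-1), 1)] (.node [(20, (-1), 1)] (.node [] (.node [] (.node [(76, (-1), 1)] .nil .nil) .nil) .nil) (.node [(45, 1, 1)] (.node [(59, (-1), 1)] .nil .nil) .nil)) .nil)) (.node [] (.node [(60, 1, 1)] (.node [] (.node [] (.node [(53, 1, 1)] .nil .nil) .nil) (.node [(42, 1, 1)] .nil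 .nil)) (.node [(21, (-1), 1)] (.node [] (.node [(56, 1, 1)] (.node [(77, (-1), 1)] .nil .nil) .nil) .nil) (.node [(49, 1, 1)] .nil .nil))) (.node [(15, 1, 1)] (.node [] (.node [] (.node [(55, (-1), 1)] .nil .nil) .nil) .nil) (.node [] (.node [(40, 1, 1)] (.node [(58, (-1), 1)] .nil .nil) .nil) (.node [(51, (-1), 1)] .nil (.node [(71, 1, 1)] .nil .nil))))))
def X55 : Tr (List (ℕ × ℤ × ℕ)) := (.node [(61, 1, 1)] (.node [] (.node [] (.node [(19, (-1), 1)] (.node [] (.node [] (.node [(75, 1, 1)] .nil .nil) .nil) .nil) (.node [(43, 1, 1)] (.node [(59, 1, 1)] .nil .nil) .nil)) (.node [(21, (-1), 1)] (.node [] (.node [] (.node [(77, 1, 1)] .nil .nil) .nil) .nil) .nil)) (.node [] (.node [] (.node [] (.node [(55, (-1), 1)] .nil .nil) .nil) (.node [(46, 1, 1)] .nil .nil)) (.node [] (.node [] (.node [(58, (-1), 1)] .nil .nil) .nil) (.node [(51, (-1), 1)] .nil .nil)))) (.node [] (.node [(61, (-1), 1)] (.node [(20, (-1),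 1)] (.node [] (.node [(54, 1, 1)] (.node [(76, 1, 1)] .nil .nil) .nil) .nil) (.node [(44, (-1), 1)] (.node [(60, (-1), 1)] .nil .nil) .nil)) (.node [] (.node [] (.node [(57, 1, 1)] .nil .nil) .nil) (.node [(50, 1, 1)] .nil .nil))) (.node [(16, (-1), 1)] (.node [] .nil (.node [(47, (-1), 1)] .nil .nil)) (.node [] (.node [(1, 1, 1), (2, 1, 1), (3, 2, 1), (4, 2, 1), (5, 1, 1), (61, (-1), 2)] .nil .nil) (.node [] .nil (.node [(72, 1, 1)] .nil .nil))))))
def X56 : Tr (List (ℕ × ℤ × ℕ)) := (.node [(62, (-2), 1)] (.node [] (.node [] (.node [] (.node [(26, 1, 1)] .nil .nil) .nil) (.node [(22, 1, 1)] (.node [(34, 1, 1)] .nil (.node [(66, (-1), 1)] .nil .nil)) (.node [] .nil (.node [(70, (-1), 1)] .nil .nil)))) (.node [] (.node [] (.node [(32, 1, 1)] .nil (.node [(64, (-1), 1)] .nil .nil)) (.node [] .nil (.node [(68, (-1), 1)] .nil .nil))) (.node [(24, 1, 1)] (.node [(0, 1, 1), (62, (-1), 2)] .nil .nil) (.node [] .nil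 (.node [(72, (-1), 1)] .nil .nil))))) (.node [(62, 1, 1)] (.node [] (.node [] (.node [(27, 1, 1)] .nil (.node [(63, (-1), 1)] .nil .nil)) (.node [] .nil (.node [(67, (-1), 1)] .nil .nil))) (.node [(23, 1, 1)] (.node [(35, 1, 1)] .nil .nil) (.node [] .nil (.node [(71, (-1), 1)] .nil .nil)))) (.node [] (.node [] (.node [(33, 1, 1)] .nil (.node [(65, (-1), 1)] .nil .nil)) (.node [] .nil (.node [(69, (-1), 1)] .nil .nil))) (.node [(25, 1, 1)] .nil .nil))))
def X57 : Tr (List (ℕ × ℤ × ℕ)) := (.node [(63, (-1), 1)] (.node [] (.node [(63, 1, 1)] (.node [] (.node [(29, (-1), 1)] .nil (.node [(66, (-1), 1)] .nil .nil)) (.node [] .nil (.node [(69, 1, 1)] .nil .nil))) (.node [] (.node [(38, 1, 1)] (.node [(62, (-1), 1)] .nil .nil) .nil) (.node [] .nil (.node [(73, (-1), 1)] .nil .nil)))) (.node [] (.node [(23, 1, 1)] (.node [(36, 1, 1)] .nil .nil) .nil) (.node [] (.node [(48, 1, 1)] .nil (.node [(67, 1, 1)] .nil .nil))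 (.node [] (.node [(64, (-1), 1)] .nil .nil) (.node [(75, (-1), 1)] .nil .nil))))) (.node [(63, (-1), 1)] (.node [] (.node [(22, 1, 1)] (.node [(30, (-1), 1)] .nil .nil) .nil) (.node [] (.node [(0, 1, 1), (2, 1, 1), (63, (-1), 2)] .nil .nil) (.node [] .nil (.node [(74, (-1), 1)] .nil .nil)))) (.node [] (.node [(24, 1, 1)] (.node [(37, 1, 1)] .nil .nil) .nil) (.node [(28, (-1), 1)] (.node [] .nil (.node [(68, 1, 1)] .nil .nil)) (.node [] (.node [(65, (-1), 1)] .nil .nil) .nil)))))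
def X58 : Tr (List (ℕ × ℤ × ℕ)) := (.node [(64, (-1), 1)] (.node [(64, 1, 1)] (.node [(64, (-1), 1)] (.node [(22, 1, 1)] .nil (.node [] .nil (.node [(71, 1, 1)] .nil .nil))) (.node [] (.node [(0, 1, 1), (2, 1, 1), (3, 1, 1), (64, (-1), 2)] .nil .nil) (.node [] (.node [(65, (-1), 1)] .nil .nil) .nil))) (.node [] (.node [(25, (-1), 1)] (.node [(39, 1, 1)] .nil .nil) (.node [] .nil (.node [(73, 1, 1)] .nil .nil))) (.node [(29, (-1), 1)] (.node [(49, 1, 1)] .nil .nil) (.node [] .nil (.node [(76, (-1), 1)] .nil .nil))))) (.node [] (.node [(64, 1, 1)] (.node [] (.node [(31, 1, 1)] .nil .nil) .nil) (.node [(28, (-1), 1)] (.node [(45, 1, 1)] .nil (.node [(67, (-1), 1)] .nil .nil)) (.node [] (.node [(66, (-1), 1)] .nil .nil) .nil))) (.node [] (.node [(26, (-1), 1)] (.node [(40, 1, 1)] (.node [(62, (-1), 1)] .nil .nil) .nil) (.node [] .nil (.node [(74, 1, 1)] .nil .nil))) (.node [] (.node [] (.node [(63, (-1), 1)] .nil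 .nil) (.node [(70, 1, 1)] .nil .nil)) .nil))))
def X59 : Tr (List (ℕ × ℤ × ℕ)) := (.node [(65, (-1), 1)] (.node [(65, 1, 1)] (.node [] (.node [(23, (-1), 1)] (.node [(31, 1, 1)] .nil .nil) (.node [] .nil (.node [(72, 1, 1)] .nil .nil))) (.node [(28, (-1), 1)] (.node [(43, 1, 1)] .nil .nil) .nil)) (.node [(65, 1, 1)] (.node [] (.node [(41, 1, 1)] (.node [(62, (-1), 1)] .nil .nil) .nil) .nil) (.node [(30, 1, 1)] (.node [(50, 1, 1)] (.node [(63, (-1), 1)] .nil .nil) (.node [(70, (-1), 1)] .nil .nil)) .nil))) (.node [] (.node [(65, (-1), 1)] (.node [(25, (-1), 1)] .nil (.node [] (.node [(64, (-1), 1)] .nil .nil) (.node [(73, (-1), 1)] .nil .nil))) (.node [] (.node [(46, 1, 1)] .nil (.node [(68, (-1), 1)] .nil .nil)) (.node [] .nil (.node [(76, 1, 1)] .nil .nil)))) (.node [] (.node [(27, 1, 1)] (.node [(0, 1, 1), (2, 1, 1), (3, 1, 1), (4, 1, 1), (65, (-1), 2)] .nil .nil) (.node [] (.node [(66, (-1), 1)] .nil .nil)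 (.node [(75, 1, 1)] .nil .nil))) .nil)))
def X60 : Tr (List (ℕ × ℤ × ℕ)) := (.node [(66, (-1), 1)] (.node [(66, 1, 1)] (.node [] (.node [(24, 1, 1)] .nil (.node [] (.node [(64, (-1), 1)] .nil .nil) .nil)) (.node [(29, 1, 1)] (.node [(44, 1, 1)] .nil .nil) (.node [] .nil (.node [(76, (-1), 1)] .nil .nil)))) (.node [(66, (-1), 1)] (.node [(27, 1, 1)] (.node [(0, 1, 1), (2, 1, 1), (3, 1, 1), (4, 1, 1), (5, 1, 1), (66, (-1), 2)] .nil .nil) (.node [] (.node [(65, (-1), 1)] .nil .nil) (.node [(75, (-1), 1)] .nil .nil))) (.node [] (.node [(51, 1, 1)] .nil (.node [(71, (-1), 1)] .nil .nil)) .nil))) (.node [] (.node [] (.node [(26, 1, 1)] (.node [] (.node [(62, (-1), 1)] .nil .nil) .nil) (.node [] .nil (.node [(74, (-1), 1)] .nil .nil))) (.node [(30, 1, 1)] (.node [(47, 1, 1)] (.node [(63, (-1), 1)] .nil .nil) (.node [(69, (-1), 1)] .nil .nil)) .nil)) (.node [] (.node [] (.node [(42, 1, 1)] .nil .nil) .nil) (.node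 [(31, 1, 1)] (.node [] .nil (.node [(72, (-1), 1)] .nil .nil)) .nil))))
def X61 : Tr (List (ℕ × ℤ × ℕ)) := (.node [(67, (-1), 1)] (.node [(67, (-1), 1)] (.node [] (.node [] (.node [(40, 1, 1)] (.node [(64, (-1), 1)] .nil .nil) (.node [(71, 1, 1)] .nil .nil)) .nil) (.node [] (.node [(52, 1, 1)] .nil (.node [(74, (-1), 1)] .nil .nil)) (.node [(62, (-1), 1)] (.node [(68, (-1), 1)] .nil .nil) .nil))) (.node [] (.node [(32, 1, 1)] .nil .nil) (.node [(37, (-1), 1)] (.node [(56, 1, 1)] .nil .nil) (.node [] .nil (.node [(77, (-1), 1)] .nil .nil))))) (.node [] (.node [(67, 1, 1)] (.node [] (.node [(0, 1, 1), (1, 1, 1), (2, 1, 1), (3, 1, 1), (67, (-1), 2)] .nil .nil) .nil) (.node [(36, (-1), 1)] (.node [(53, (-1), 1)] .nil .nil) (.node [] (.node [(69, (-1), 1)] .nil .nil) .nil))) (.node [(22, 1, 1)] (.node [(33, 1, 1)] (.node [] .nil (.node [(73, (-1), 1)] .nil .nil)) .nil) (.node [(39, 1, 1)] .nil (.node [(63, 1, 1)]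 (.node [(70, 1, 1)] .nil .nil) .nil)))))
def X62 : Tr (List (ℕ × ℤ × ℕ)) := (.node [(68, (-1), 1)] (.node [(68, (-1), 1)] (.node [(68, 1, 1)] (.node [] (.node [(0, 1, 1), (1, 1, 1), (2, 1, 1), (3, 1, 1), (4, 1, 1), (68, (-1), 2)] (.node [(65, (-1), 1)] .nil .nil) (.node [(72, 1, 1)] .nil .nil)) .nil) (.node [(36, (-1), 1)] (.node [] .nil (.node [(75, (-1), 1)] .nil .nil)) .nil)) (.node [(68, 1, 1)] (.node [] (.node [] .nil (.node [(73, 1, 1)] .nil .nil)) .nil) (.node [(38, 1, 1)] (.node [(57, 1, 1)] .nil .nil) (.node [(63, 1, 1)] (.node [(70, (-1), 1)] .nil .nil) .nil)))) (.node [] (.node [(68, (-1), 1)] (.node [(32, 1, 1)] (.node [(43, 1, 1)] .nil .nil) (.node [] (.node [(67, (-1), 1)] .nil .nil) .nil)) (.node [] (.node [(54, (-1), 1)] .nil .nil) (.node [] .nil (.node [(77, 1, 1)] .nil .nil)))) (.node [(23, (-1), 1)] (.node [(34, (-1), 1)] (.node [(52, 1, 1)] .nil .nil) (.node [(62, (-1), 1)] (.node [(69,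 (-1), 1)] .nil .nil) .nil)) (.node [(41, 1, 1)] .nil .nil))))
def X63 : Tr (List (ℕ × ℤ × ℕ)) := (.node [(69, (-1), 1)] (.node [(69, (-1), 1)] (.node [(69, 1, 1)] (.node [] (.node [(42, 1, 1)] (.node [(66, (-1), 1)] .nil .nil) .nil) (.node [] (.node [(67, (-1), 1)] .nil .nil) .nil)) (.node [(37, 1, 1)] .nil (.node [] .nil (.node [(77, (-1), 1)] .nil .nil)))) (.node [(69, (-1), 1)] (.node [(34, (-1), 1)] (.node [(52, 1, 1)] .nil (.node [(74, 1, 1)] .nil .nil)) (.node [(62, (-1), 1)] (.node [(68, (-1), 1)] .nil .nil) .nil)) (.node [] (.node [(58, 1, 1)] .nil .nil) (.node [] (.node [(71, (-1), 1)] .nil .nil) .nil)))) (.node [] (.node [] (.node [(33, (-1), 1)] (.node [(44, 1, 1)] .nil .nil) .nil) (.node [(38, 1, 1)] (.node [(55, (-1), 1)] .nil .nil) (.node [(63, 1, 1)] .nil .nil))) (.node [(24, 1, 1)] (.node [] (.node [] .nil (.node [(75, 1, 1)] .nil .nil)) .nil) (.node [(0, 1, 1), (1, 1, 1), (2, 1, 1), (3, 1,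 1), (4, 1, 1), (5, 1, 1), (69, (-1), 2)] .nil (.node [] (.node [(72, (-1), 1)] .nil .nil) .nil)))))
def X64 : Tr (List (ℕ × ℤ × ℕ)) := (.node [(70, (-1), 1)] (.node [] (.node [(70, (-1), 1)] (.node [(32, 1, 1)] (.node [(45, 1, 1)] .nil .nil) .nil) (.node [(39, (-1), 1)] (.node [(54, (-1), 1)] .nil (.node [(76, (-1), 1)] .nil .nil)) .nil)) (.node [(70, 1, 1)] .nil (.node [(0, 1, 1), (1, 1, 1), (2, 1, 1), (3, 2, 1), (4, 1, 1), (70, (-1), 2)] (.node [(59, 1, 1)] (.node [(67, 1, 1)] .nil .nil) .nil) (.node [(64, 1, 1)] .nil .nil)))) (.node [(70, 1, 1)] (.node [] (.node [] (.node [(46, (-1), 1)] .nil (.node [(73, (-1), 1)] .nil .nil)) (.node [(62, (-1), 1)] .nil .nil)) (.node [(41, 1, 1)] .nil (.node [] (.node [(72, 1, 1)] .nil .nil) .nil))) (.node [(25, 1, 1)] (.node [(35, 1, 1)] (.node [(53, 1, 1)] .nil .nil) (.node [] (.node [(71, (-1), 1)] .nil .nil) (.node [(77, (-1), 1)] .nil .nil))) (.node [] (.node [] (.node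 [(68, (-1), 1)] .nil .nil) .nil) (.node [(65, (-1), 1)] .nil .nil)))))
def X65 : Tr (List (ℕ × ℤ × ℕ)) := (.node [(71, (-1), 1)] (.node [] (.node [(71, (-1), 1)] (.node [(33, (-1), 1)] .nil (.node [(62, (-1), 1)] .nil .nil)) (.node [(40, 1, 1)] (.node [(55, (-1), 1)] .nil .nil) (.node [] (.node [(72, (-1), 1)] .nil .nil) .nil))) (.node [(71, (-1), 1)] (.node [(35, 1, 1)] (.node [(53, 1, 1)] .nil .nil) (.node [] (.node [(70, (-1), 1)] .nil .nil) (.node [(77, 1, 1)] .nil .nil))) (.node [(42, 1, 1)] (.node [(60, 1, 1)] .nil .nil) .nil))) (.node [(71, 1, 1)] (.node [(71, 1, 1)] (.node [] (.node [(47, (-1), 1)] .nil (.node [(74, (-1), 1)] .nil .nil)) .nil) (.node [(0, 1, 1), (1, 1, 1), (2, 1, 1), (3, 2, 1), (4, 1, 1), (5, 1, 1), (71, (-1), 2)] (.node [] (.node [(67, 1, 1)] .nil .nil) .nil) (.node [(64, 1, 1)] .nil .nil))) (.node [(26, (-1), 1)] (.node [] (.node [] .nil (.node [(76, 1, 1)] .nil .nil)) .nil) (.node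 [(45, 1, 1)] (.node [] (.node [(69, (-1), 1)] .nil .nil) .nil) (.node [(66, (-1), 1)] .nil .nil)))))
def X66 : Tr (List (ℕ × ℤ × ℕ)) := (.node [(72, (-1), 1)] (.node [] (.node [] (.node [(34, 1, 1)] (.node [(47, (-1), 1)] .nil .nil) (.node [] (.node [(70, 1, 1)] .nil .nil) .nil)) (.node [(0, 1, 1), (1, 1, 1), (2, 1, 1), (3, 2, 1), (4, 2, 1), (5, 1, 1), (72, (-1), 2)] .nil .nil)) (.node [] (.node [] (.node [(54, 1, 1)] .nil (.node [(76, (-1), 1)] .nil .nil)) .nil) (.node [(44, (-1), 1)] (.node [(61, 1, 1)] (.node [(69, (-1), 1)] .nil .nil) .nil) (.node [(66, (-1), 1)] .nil .nil)))) (.node [(72, 1, 1)] (.node [(72, (-1), 1)] (.node [(35, 1, 1)] (.node [] .nil (.node [(75, (-1), 1)] .nil .nil)) (.node [] (.node [(71, (-1), 1)] .nil .nil) (.node [(77, (-1), 1)] .nil .nil))) (.node [(43, 1, 1)] (.node [] (.node [(68, 1, 1)] .nil .nil) .nil) (.node [(65, 1, 1)] .nil .nil))) (.node [(27, 1, 1)] (.node [] (.node [(55,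 (-1), 1)] .nil .nil) .nil) (.node [(46, 1, 1)] (.node [(62, (-1), 1)] .nil .nil) .nil))))
def X67 : Tr (List (ℕ × ℤ × ℕ)) := (.node [] (.node [] (.node [] (.node [(36, 1, 1)] (.node [(49, (-1), 1)] .nil (.node [(76, (-1), 1)] .nil .nil)) (.node [] .nil (.node [(77, 1, 1)] .nil .nil))) (.node [] (.node [(57, (-1), 1)] (.node [(70, (-1), 1)] .nil .nil) .nil) (.node [(65, (-1), 1)] .nil .nil))) (.node [(73, 1, 1)] (.node [(41, 1, 1)] (.node [] (.node [(67, (-1), 1)] .nil .nil) .nil) .nil) (.node [(48, 1, 1)] .nil .nil))) (.node [(73, (-1), 1)] (.node [] (.node [(39, (-1), 1)] (.node [(50, 1, 1)] .nil .nil) (.node [(63, (-1), 1)] .nil .nil)) (.node [] (.node [(59, 1, 1)] .nil .nil) (.node [] (.node [(75, 1, 1)] .nil .nil) .nil))) (.node [(28, (-1), 1)] (.node [(0, 1, 1), (1, 1, 1), (2, 2, 1), (3, 2, 1), (4, 1, 1), (73, (-1), 2)] (.node [(56, 1, 1)] (.node [(68, 1, 1)] .nil .nil) .nil) (.node [(64, 1, 1)] (.node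 [(74, (-1), 1)] .nil .nil) .nil)) .nil)))
def X68 : Tr (List (ℕ × ℤ × ℕ)) := (.node [] (.node [] (.node [] (.node [(37, (-1), 1)] .nil (.node [(63, (-1), 1)] .nil .nil)) (.node [] (.node [(58, (-1), 1)] (.node [(71, (-1), 1)] .nil .nil) .nil) (.node [(66, (-1), 1)] (.node [(75, (-1), 1)] .nil .nil) .nil))) (.node [(74, (-1), 1)] (.node [(0, 1, 1), (1, 1, 1), (2, 2, 1), (3, 2, 1), (4, 1, 1), (5, 1, 1), (74, (-1), 2)] (.node [(56, 1, 1)] .nil .nil) (.node [(64, 1, 1)] (.node [(73, (-1), 1)] .nil .nil) .nil)) .nil)) (.node [(74, (-1), 1)] (.node [(74, 1, 1)] (.node [(40, 1, 1)] (.node [(51, 1, 1)] (.node [(67, (-1), 1)] .nil .nil) .nil) .nil) (.node [(48, 1, 1)] (.node [(60, 1, 1)] .nil .nil) .nil)) (.node [(29, 1, 1)] (.node [(42, 1, 1)] (.node [] (.node [(69, 1, 1)] .nil .nil) .nil) .nil) (.node [(49, (-1), 1)] (.node [] .nil (.node [(77, (-1), 1)] .nil .nil)) (.node [] (.node [(76, 1, 1)] .nil .nil) .nil)))))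
def X69 : Tr (List (ℕ × ℤ × ℕ)) := (.node [] (.node [] (.node [(75, 1, 1)] (.node [(38, 1, 1)] (.node [(51, 1, 1)] .nil .nil) (.node [] (.node [(73, 1, 1)] .nil .nil) .nil)) (.node [(48, 1, 1)] (.node [] (.node [(72, (-1), 1)] .nil .nil) .nil) .nil)) (.node [] (.node [(43, 1, 1)] (.node [(57, 1, 1)] (.node [(69, 1, 1)] .nil .nil) .nil) (.node [(65, 1, 1)] .nil .nil)) (.node [] (.node [] .nil (.node [(77, 1, 1)] .nil .nil)) (.node [] (.node [(76, (-1), 1)] .nil .nil) .nil)))) (.node [(75, (-1), 1)] (.node [(75, (-1), 1)] (.node [(0, 1, 1), (1, 1, 1), (2, 2, 1), (3, 2, 1), (4, 2, 1), (5, 1, 1), (75, (-1), 2)] (.node [] (.node [(68, (-1), 1)] .nil .nil) .nil) (.node [] (.node [(74, (-1), 1)] .nil .nil) .nil)) (.node [] (.node [(61, 1, 1)] .nil .nil) .nil)) (.node [(30, (-1), 1)] (.node [(44, (-1), 1)] (.node [(58, (-1), 1)] .nil .nil) (.node [(66, (-1), 1)] .nil .nil)) (.node [(50, (-1), 1)] (.node [(63, (-1),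 1)] .nil .nil) .nil))))
def X70 : Tr (List (ℕ × ℤ × ℕ)) := (.node [] (.node [(76, 1, 1)] (.node [(76, (-1), 1)] (.node [(0, 1, 1), (1, 1, 1), (2, 2, 1), (3, 3, 1), (4, 2, 1), (5, 1, 1), (76, (-1), 2)] .nil (.node [(65, 1, 1)] .nil .nil)) (.node [(49, 1, 1)] (.node [(61, 1, 1)] .nil .nil) .nil)) (.node [] (.node [(46, (-1), 1)] (.node [(59, 1, 1)] (.node [(71, 1, 1)] .nil .nil) .nil) .nil) (.node [(51, 1, 1)] (.node [] (.node [(74, 1, 1)] .nil .nil) .nil) .nil))) (.node [] (.node [] (.node [(45, 1, 1)] (.node [] (.node [(70, (-1), 1)] .nil .nil) .nil) (.node [(66, (-1), 1)] .nil .nil)) (.node [(50, (-1), 1)] (.node [] (.node [(73, (-1), 1)] .nil .nil) (.node [(77, (-1), 1)] .nil .nil)) .nil)) (.node [(31, 1, 1)] (.node [(47, 1, 1)] (.node [(60, (-1), 1)] (.node [(72, (-1), 1)] .nil .nil) .nil) .nil) (.node [] (.node [(64, (-1), 1)] (.node [(75, (-1), 1)] .nil .nil) .nil) .nil))))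
def X71 : Tr (List (ℕ × ℤ × ℕ)) := (.node [] (.node [(77, (-1), 1)] (.node [] (.node [(52, 1, 1)] (.node [(60, (-1), 1)] (.node [(76, (-1), 1)] .nil .nil) .nil) (.node [(68, 1, 1)] .nil .nil)) (.node [(56, 1, 1)] .nil (.node [(72, (-1), 1)] .nil .nil))) (.node [] (.node [(54, 1, 1)] .nil (.node [(70, (-1), 1)] .nil .nil)) (.node [(58, 1, 1)] .nil (.node [(74, (-1), 1)] .nil .nil)))) (.node [] (.node [] (.node [(53, (-1), 1)] (.node [(61, 1, 1)] .nil .nil) (.node [(69, (-1), 1)] .nil .nil)) (.node [(57, (-1), 1)] .nil (.node [(73, 1, 1)] .nil .nil))) (.node [(0, 1, 1), (1, 2, 1), (2, 2, 1), (3, 3, 1), (4, 2, 1), (5, 1, 1), (77, (-1), 2)] (.node [(55, (-1), 1)] .nil (.node [(71, 1, 1)] .nil .nil)) (.node [(59, 1, 1)] (.node [(67, (-1), 1)] .nil .nil) (.node [(75, 1, 1)] .nil .nil)))))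
def M0 : Tr (List (ℕ × ℤ × ℕ × ℕ)) := (.node [] (.node [] (.node [] (.node [] (.node [] (.node [] (.node [(18, (-1), 1, 1)] .nil .nil) .nil) (.node [(2, (-1), 1, 1)] .nil .nil)) (.node [] .nil (.node [(10, 1, 1, 1)] .nil .nil))) (.node [] (.node [] (.node [] (.node [(22, 1, 1, 1)] .nil .nil) .nil) (.node [(6, (-1), 1, 1)] .nil .nil)) .nil)) (.node [] (.node [] (.node [] (.node [] (.node [(20, 1, 1, 1)] .nil .nil) .nil) (.node [(4, (-1), 1, 1)] .nil .nil)) .nil) (.node [] (.node [] (.node [] (.node [(24, 1, 1, 1)] .nil .nil) .nil) (.node [(8, 1, 1, 1)] .nil .nil)) (.node [] .nil (.node [(16, (-1), 1, 1)] .nil .nil))))) (.node [] (.node [] (.node [] (.node [] (.node [] (.node [(19, (-1), 1, 1)] .nil .nil) .nil) (.node [(3, 1, 1, 1)] .nil .nil)) .nil) (.node [] (.node [] (.node [] (.node [(23, (-1), 1, 1)] .nil .nil) .nil) (.node [(7, 1, 1, 1)] .nil .nil)) .nil)) (.node [] (.node [] (.node [] (.node [] (.node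 [(21, (-1), 1, 1)] .nil .nil) .nil) (.node [(5, 1, 1, 1)] .nil .nil)) .nil) (.node [] (.node [] (.node [] (.node [(25, (-1), 1, 1)] .nil .nil) .nil) (.node [(9, (-1), 1, 1)] .nil .nil)) (.node [] (.node [(1, 1, 1, 1)] .nil .nil) (.node [(17, 1, 1, 1)] .nil .nil))))))
def C0 : List (ℕ × List (ℕ × ℤ)) := [(46, [(1, 1)]), (47, [(2, (-1))]), (48, [(3, 1)]), (49, [(4, (-1))]), (50, [(5, 1)]), (51, [(6, (-1))]), (52, [(7, 1)]), (53, [(8, 1)]), (54, [(9, (-1))]), (55, [(10, 1)]), (61, [(16, (-1))]), (62, [(17, 1)]), (63, [(18, (-1))]), (64, [(19, (-1))]), (65, [(20, 1)]), (66, [(21, (-1))]), (67, [(22, 1)]), (68, [(23, (-1))]), (69, [(24, 1)]), (70, [(25, (-1))])]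
def M1 : Tr (List (ℕ × ℤ × ℕ × ℕ)) := (.node [] (.node [] (.node [] (.node [] .nil (.node [] (.node [(2, 1, 1, 1)] (.node [(46, (-1), 1, 1)] .nil .nil) .nil) (.node [(13, 1, 1, 1)] .nil .nil))) (.node [] (.node [] (.node [] (.node [(30, (-1), 1, 1)] .nil .nil) .nil) .nil) (.node [] (.node [(5, 1, 1, 1)] .nil .nil) (.node [(17, 1, 1, 1)] .nil .nil)))) (.node [] (.node [] (.node [] (.node [] (.node [(27, 1, 1, 1)] .nil .nil) .nil) .nil) (.node [(0, 1, 1, 1)] (.node [(4, 1, 1, 1)] .nil .nil) .nil)) (.node [] (.node [] (.node [] (.node [(32, (-1), 1, 1)] .nil .nil) .nil) (.node [(11, 1, 1, 1)] .nil .nil)) (.node [] (.node [(7, 1, 1, 1)] .nil .nil) .nil)))) (.node [] (.node [] (.node [] (.node [] (.node [] (.node [(26, (-1), 1, 1)] .nil .nil) .nil) .nil) (.node [] (.node [(3, (-1), 1, 1)] .nil .nil) .nil)) (.node [] (.node [] (.node [] (.node [(31, 1, 1, 1)] .nil .nil) .nil) .nil) (.node [] (.node [(6, (-1), 1,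 1)] .nil .nil) (.node [(18, (-1), 1, 1)] .nil .nil)))) (.node [] (.node [] (.node [] (.node [] (.node [(28, (-1), 1, 1)] .nil .nil) .nil) .nil) (.node [] .nil (.node [(16, (-1), 1, 1)] .nil .nil))) (.node [] (.node [] .nil (.node [(12, (-1), 1, 1)] .nil .nil)) .nil))))
def C1 : List (ℕ × List (ℕ × ℤ)) := [(25, [(0, 1)]), (39, [(2, 1)]), (40, [(3, (-1))]), (41, [(4, 1)]), (43, [(5, 1)]), (44, [(6, (-1))]), (45, [(7, 1)]), (53, [(11, 1)]), (54, [(12, (-1))]), (55, [(13, 1)]), (58, [(16, (-1))]), (59, [(17, 1)]), (60, [(18, (-1))]), (64, [(26, (-1))]), (65, [(27, 1)]), (66, [(28, (-1))]), (67, [(30, (-1))]), (68, [(31, 1)]), (69, [(32, (-1))]), (71, [(46, (-1))])]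
def M2 : Tr (List (ℕ × ℤ × ℕ × ℕ)) := (.node [] (.node [] (.node [] (.node [] (.node [] (.node [] (.node [(27, 1, 1, 1)] .nil .nil) .nil) .nil) (.node [] (.node [] (.node [(47, 1, 1, 1)] .nil .nil) .nil) (.node [(14, 1, 1, 1)] .nil .nil))) (.node [] (.node [] (.node [] (.node [(33, 1, 1, 1)] .nil .nil) .nil) (.node [(11, 1, 1, 1)] .nil .nil)) (.node [] .nil (.node [(19, 1, 1, 1)] .nil .nil)))) (.node [] (.node [] .nil (.node [] .nil (.node [(16, (-1), 1, 1)] .nil .nil))) (.node [] (.node [] (.node [(3, 1, 1, 1)] .nil .nil) .nil) (.node [] (.node [(9, 1, 1, 1)] .nil .nil) .nil)))) (.node [] (.node [] (.node [] (.node [] (.node [(1, 1, 1, 1)] .nil .nil) .nil) (.node [(0, (-1), 1, 1)] .nil .nil)) (.node [] (.node [] (.node [] (.node [(34, (-1), 1, 1)] .nil .nil) .nil) (.node [(12, (-1), 1, 1)] .nil .nil)) (.node [] (.node [(8, (-1), 1, 1)] .nil .nil) (.node [(20, (-1), 1, 1)] .nil .nil)))) (.node [] (.node []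 (.node [] (.node [] (.node [(29, (-1), 1, 1)] .nil .nil) .nil) .nil) (.node [] (.node [(5, 1, 1, 1)] .nil .nil) .nil)) (.node [] (.node [] (.node [(4, (-1), 1, 1)] (.node [(39, (-1), 1, 1)] .nil .nil) .nil) .nil) (.node [] .nil (.node [(26, (-1), 1, 1)] .nil .nil))))))
def C2 : List (ℕ × List (ℕ × ℤ)) := [(24, [(0, (-1))]), (32, [(1, 1)]), (37, [(3, 1)]), (38, [(4, (-1))]), (42, [(5, 1)]), (44, [(8, (-1))]), (45, [(9, 1)]), (51, [(11, 1)]), (52, [(12, (-1))]), (55, [(14, 1)]), (57, [(16, (-1))]), (59, [(19, 1)]), (60, [(20, (-1))]), (62, [(26, (-1))]), (63, [(27, 1)]), (66, [(29, (-1))]), (67, [(33, 1)]), (68, [(34, (-1))]), (70, [(39, (-1))]), (71, [(47, 1)])]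
def M3 : Tr (List (ℕ × ℤ × ℕ × ℕ)) := (.node [] (.node [] (.node [] (.node [] (.node [] (.node [(1, (-1), 1, 1)] (.node [(28, 1, 1, 1)] .nil .nil) .nil) .nil) (.node [(0, 1, 1, 1)] (.node [] (.node [(48, (-1), 1, 1)] .nil .nil) .nil) .nil)) (.node [] (.node [] (.node [] (.node [(35, (-1), 1, 1)] .nil .nil) .nil) .nil) (.node [] (.node [(8, (-1), 1, 1)] .nil .nil) .nil))) (.node [] (.node [] (.node [] (.node [] (.node [(29, (-1), 1, 1)] .nil .nil) .nil) .nil) (.node [] .nil (.node [(17, (-1), 1, 1)] .nil .nil))) (.node [] (.node [] (.node [] (.node [(37, (-1), 1, 1)] .nil .nil) .nil) .nil) (.node [] (.node [(10, 1, 1, 1)] .nil .nil) (.node [(26, (-1), 1, 1)] .nil .nil))))) (.node [] (.node [] .nil (.node [] (.node [] (.node [(4, 1, 1, 1)] .nil .nil) (.node [(13, (-1), 1, 1)] .nil .nil)) (.node [] .nil (.node [(21, (-1), 1, 1)] .nil .nil)))) (.node [] (.node [] (.node [] (.node [(2, 1, 1, 1)] .nil .nil) (.node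 [(11, 1, 1, 1)] .nil .nil)) (.node [] (.node [(6, 1, 1, 1)] .nil .nil) (.node [(19, 1, 1, 1)] .nil .nil))) (.node [] (.node [] (.node [] (.node [(40, 1, 1, 1)] .nil .nil) .nil) (.node [(14, 1, 1, 1)] .nil .nil)) .nil))))
def C3 : List (ℕ × List (ℕ × ℤ)) := [(23, [(0, 1)]), (31, [(1, (-1))]), (34, [(2, 1)]), (36, [(4, 1)]), (42, [(6, 1)]), (43, [(8, (-1))]), (45, [(10, 1)]), (50, [(11, 1)]), (52, [(13, (-1))]), (54, [(14, 1)]), (57, [(17, (-1))]), (58, [(19, 1)]), (60, [(21, (-1))]), (61, [(26, (-1))]), (63, [(28, 1)]), (65, [(29, (-1))]), (67, [(35, (-1))]), (69, [(37, (-1))]), (70, [(40, 1)]), (71, [(48, (-1))])]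
def M4 : Tr (List (ℕ × ℤ × ℕ × ℕ)) := (.node [] (.node [] (.node [] (.node [] .nil (.node [] (.node [] (.node [(49, 1, 1, 1)] .nil .nil) .nil) .nil)) (.node [] (.node [] (.node [(3, 1, 1, 1)] .nil .nil) (.node [(13, (-1), 1, 1)] .nil .nil)) (.node [] (.node [(9, (-1), 1, 1)] .nil .nil) (.node [(21, (-1), 1, 1)] .nil .nil)))) (.node [] (.node [] (.node [] (.node [(2, (-1), 1, 1)] .nil .nil) .nil) (.node [] .nil (.node [(18, (-1), 1, 1)] .nil .nil))) (.node [] (.node [] (.node [] (.node [(38, 1, 1, 1)] .nil .nil) .nil) (.node [(14, 1, 1, 1)] .nil .nil)) (.node [] .nil (.node [(27, (-1), 1, 1)] .nil .nil))))) (.node [] (.node [] (.node [] (.node [] (.node [] (.node [(29, (-1), 1, 1)] .nil .nil) .nil) .nil) .nil) (.node [] (.node [] (.node [] (.node [(36, (-1), 1, 1)] .nil .nil) .nil) .nil) (.node [] (.node [(10, 1, 1, 1)] .nil .nil) .nil))) (.node [] (.node [] (.node [] .nil (.node [(12, 1, 1, 1)] .nil .nil))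 (.node [] (.node [(7, 1, 1, 1)] .nil .nil) (.node [(20, 1, 1, 1)] .nil .nil))) (.node [] (.node [(0, (-1), 1, 1)] (.node [] (.node [(41, (-1), 1, 1)] .nil .nil) .nil) .nil) (.node [(1, 1, 1, 1)] .nil (.node [(28, 1, 1, 1)] .nil .nil))))))
def C4 : List (ℕ × List (ℕ × ℤ)) := [(22, [(0, (-1))]), (30, [(1, 1)]), (33, [(2, (-1))]), (35, [(3, 1)]), (42, [(7, 1)]), (43, [(9, (-1))]), (44, [(10, 1)]), (50, [(12, 1)]), (51, [(13, (-1))]), (53, [(14, 1)]), (57, [(18, (-1))]), (58, [(20, 1)]), (59, [(21, (-1))]), (61, [(27, (-1))]), (62, [(28, 1)]), (64, [(29, (-1))]), (68, [(36, (-1))]), (69, [(38, 1)]), (70, [(41, (-1))]), (71, [(49, 1)])]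
def M5 : Tr (List (ℕ × ℤ × ℕ × ℕ)) := (.node [] (.node [] (.node [] (.node [] (.node [] (.node [] (.node [(31, (-1), 1, 1)] .nil .nil) .nil) .nil) (.node [] (.node [] (.node [(50, (-1), 1, 1)] .nil .nil) .nil) (.node [(15, 1, 1, 1)] .nil .nil))) (.node [] .nil (.node [] .nil (.node [(22, 1, 1, 1)] .nil .nil)))) (.node [] (.node [] (.node [] (.node [] (.node [(34, (-1), 1, 1)] .nil .nil) .nil) (.node [(12, (-1), 1, 1)] .nil .nil)) (.node [] (.node [(9, (-1), 1, 1)] .nil .nil) .nil)) (.node [] (.node [(0, 1, 1, 1)] (.node [(6, 1, 1, 1)] (.node [(42, (-1), 1, 1)] .nil .nil) .nil) .nil) (.node [(2, 1, 1, 1)] .nil .nil)))) (.node [] (.node [] (.node [] (.node [] (.node [] (.node [(33, 1, 1, 1)] .nil .nil) .nil) (.node [(11, 1, 1, 1)] .nil .nil)) (.node [] (.node [(8, 1, 1, 1)] .nil .nil) (.node [(16, (-1), 1, 1)] .nil .nil))) (.node [] .nil (.node [(1, 1, 1, 1)] .nil (.node [(23, (-1), 1, 1)] .nil .nil)))) (.node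 [] .nil (.node [] (.node [] (.node [(7, (-1), 1, 1)] (.node [(43, (-1), 1, 1)] .nil .nil) .nil) .nil) (.node [] .nil (.node [(30, 1, 1, 1)] .nil .nil))))))
def C5 : List (ℕ × List (ℕ × ℤ)) := [(21, [(0, 1)]), (28, [(1, 1)]), (29, [(2, 1)]), (37, [(6, 1)]), (38, [(7, (-1))]), (40, [(8, 1)]), (41, [(9, (-1))]), (48, [(11, 1)]), (49, [(12, (-1))]), (55, [(15, 1)]), (56, [(16, (-1))]), (59, [(22, 1)]), (60, [(23, (-1))]), (62, [(30, 1)]), (63, [(31, (-1))]), (64, [(33, 1)]), (65, [(34, (-1))]), (69, [(42, (-1))]), (70, [(43, (-1))]), (71, [(50, (-1))])]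
def M6 : Tr (List (ℕ × ℤ × ℕ × ℕ)) := (.node [] (.node [] (.node [] (.node [] (.node [] (.node [] (.node [(32, (-1), 1, 1)] .nil .nil) .nil) (.node [(11, 1, 1, 1)] .nil .nil)) (.node [] (.node [(8, 1, 1, 1)] (.node [(51, 1, 1, 1)] .nil .nil) .nil) .nil)) (.node [] .nil (.node [(1, (-1), 1, 1)] .nil .nil))) (.node [] (.node [] (.node [] .nil (.node [(13, (-1), 1, 1)] .nil .nil)) (.node [] (.node [(10, (-1), 1, 1)] .nil .nil) .nil)) (.node [] .nil (.node [(3, 1, 1, 1)] .nil (.node [(30, 1, 1, 1)] .nil .nil))))) (.node [] (.node [] (.node [] (.node [] (.node [] (.node [(35, (-1), 1, 1)] .nil .nil) .nil) .nil) (.node [] .nil (.node [(17, (-1), 1, 1)] .nil .nil))) (.node [] (.node [(0, (-1), 1, 1)] (.node [(7, 1, 1, 1)] (.node [(42, (-1), 1, 1)] .nil .nil) .nil) .nil) (.node [] .nil (.node [(24, (-1), 1, 1)] .nil .nil)))) (.node [] (.node [] (.node [] (.node [(5, 1, 1, 1)] (.node [(37, (-1), 1, 1)] .nil .nil) .nil)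 .nil) (.node [] .nil (.node [(22, 1, 1, 1)] .nil .nil))) (.node [] (.node [] (.node [] (.node [(44, 1, 1, 1)] .nil .nil) .nil) (.node [(15, 1, 1, 1)] .nil .nil)) .nil))))
def C6 : List (ℕ × List (ℕ × ℤ)) := [(20, [(0, (-1))]), (27, [(1, (-1))]), (29, [(3, 1)]), (34, [(5, 1)]), (36, [(7, 1)]), (39, [(8, 1)]), (41, [(10, (-1))]), (47, [(11, 1)]), (49, [(13, (-1))]), (54, [(15, 1)]), (56, [(17, (-1))]), (58, [(22, 1)]), (60, [(24, (-1))]), (61, [(30, 1)]), (63, [(32, (-1))]), (64, [(35, (-1))]), (66, [(37, (-1))]), (68, [(42, (-1))]), (70, [(44, 1)]), (71, [(51, 1)])]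
def M7 : Tr (List (ℕ × ℤ × ℕ × ℕ)) := (.node [] (.node [] (.node [] (.node [] (.node [] .nil (.node [(12, 1, 1, 1)] .nil .nil)) (.node [] (.node [(9, 1, 1, 1)] (.node [(52, (-1), 1, 1)] .nil .nil) .nil) .nil)) (.node [] (.node [(0, 1, 1, 1)] (.node [(6, 1, 1, 1)] (.node [(42, (-1), 1, 1)] .nil .nil) .nil) .nil) (.node [] .nil (.node [(24, (-1), 1, 1)] .nil .nil)))) (.node [] (.node [] (.node [] (.node [(5, (-1), 1, 1)] (.node [(36, (-1), 1, 1)] .nil .nil) .nil) .nil) .nil) (.node [] (.node [] .nil (.node [(15, 1, 1, 1)] .nil .nil)) (.node [(4, 1, 1, 1)] .nil (.node [(31, 1, 1, 1)] .nil .nil))))) (.node [] (.node [] (.node [] (.node [] .nil (.node [(13, (-1), 1, 1)] .nil .nil)) (.node [] (.node [(10, (-1), 1, 1)] .nil .nil) (.node [(18, (-1), 1, 1)] .nil .nil))) .nil) (.node [] (.node [] (.node [] (.node [] (.node [(38, 1, 1, 1)] .nil .nil) .nil) .nil) (.node [(1, 1, 1, 1)] .nil (.node [(23, 1, 1, 1)] .nil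 .nil))) (.node [] (.node [] (.node [] (.node [(45, (-1), 1, 1)] .nil .nil) .nil) .nil) (.node [] .nil (.node [(32, (-1), 1, 1)] .nil .nil))))))
def C7 : List (ℕ × List (ℕ × ℤ)) := [(19, [(0, 1)]), (26, [(1, 1)]), (29, [(4, 1)]), (33, [(5, (-1))]), (35, [(6, 1)]), (39, [(9, 1)]), (40, [(10, (-1))]), (47, [(12, 1)]), (48, [(13, (-1))]), (53, [(15, 1)]), (56, [(18, (-1))]), (58, [(23, 1)]), (59, [(24, (-1))]), (61, [(31, 1)]), (62, [(32, (-1))]), (65, [(36, (-1))]), (66, [(38, 1)]), (67, [(42, (-1))]), (70, [(45, (-1))]), (71, [(52, (-1))])]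
def M8 : Tr (List (ℕ × ℤ × ℕ × ℕ)) := (.node [] (.node [] (.node [] (.node [] (.node [] (.node [(5, 1, 1, 1)] .nil .nil) .nil) (.node [] (.node [] (.node [(53, (-1), 1, 1)] .nil .nil) .nil) .nil)) (.node [] .nil (.node [(2, (-1), 1, 1)] .nil .nil))) (.node [] (.node [] (.node [] (.node [] (.node [(39, (-1), 1, 1)] .nil .nil) .nil) (.node [(14, (-1), 1, 1)] .nil .nil)) (.node [] .nil (.node [(22, 1, 1, 1)] .nil .nil))) (.node [] (.node [] (.node [] (.node [(44, 1, 1, 1)] .nil .nil) .nil) .nil) (.node [] .nil (.node [(33, (-1), 1, 1)] .nil .nil))))) (.node [] (.node [] (.node [] (.node [] (.node [(6, 1, 1, 1)] .nil .nil) .nil) (.node [] .nil (.node [(19, (-1), 1, 1)] .nil .nil))) (.node [] (.node [] (.node [(9, 1, 1, 1)] (.node [(43, 1, 1, 1)] .nil .nil) .nil) (.node [(15, 1, 1, 1)] .nil .nil)) (.node [(3, (-1), 1, 1)] .nil (.node [(25, (-1), 1, 1)] .nil .nil)))) (.node [] (.node [] (.node [(0, 1, 1, 1)] (.node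 [] (.node [(40, (-1), 1, 1)] .nil .nil) .nil) .nil) .nil) (.node [] (.node [] (.node [(10, 1, 1, 1)] .nil .nil) .nil) (.node [] (.node [(11, 1, 1, 1)] .nil .nil) (.node [(35, (-1), 1, 1)] .nil .nil))))))
def C8 : List (ℕ × List (ℕ × ℤ)) := [(18, [(0, 1)]), (27, [(2, (-1))]), (28, [(3, (-1))]), (31, [(5, 1)]), (32, [(6, 1)]), (36, [(9, 1)]), (38, [(10, 1)]), (46, [(11, 1)]), (49, [(14, (-1))]), (52, [(15, 1)]), (56, [(19, (-1))]), (57, [(22, 1)]), (60, [(25, (-1))]), (61, [(33, (-1))]), (62, [(35, (-1))]), (65, [(39, (-1))]), (66, [(40, (-1))]), (68, [(43, 1)]), (69, [(44, 1)]), (71, [(53, (-1))])]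
def M9 : Tr (List (ℕ × ℤ × ℕ × ℕ)) := (.node [] (.node [] (.node [] (.node [] (.node [] (.node [] (.node [(36, (-1), 1, 1)] .nil .nil) .nil) .nil) (.node [] (.node [] (.node [(54, 1, 1, 1)] .nil .nil) .nil) .nil)) (.node [] (.node [] (.node [(8, 1, 1, 1)] (.node [(43, 1, 1, 1)] .nil .nil) .nil) (.node [(15, 1, 1, 1)] .nil .nil)) (.node [] .nil (.node [(25, (-1), 1, 1)] .nil .nil)))) (.node [] (.node [] (.node [(0, (-1), 1, 1)] .nil .nil) (.node [] .nil (.node [(23, 1, 1, 1)] .nil .nil))) (.node [] (.node [] (.node [(10, 1, 1, 1)] (.node [(45, (-1), 1, 1)] .nil .nil) .nil) .nil) (.node [] .nil (.node [(34, (-1), 1, 1)] .nil .nil))))) (.node [] (.node [] (.node [] (.node [] (.node [(7, 1, 1, 1)] (.node [(39, (-1), 1, 1)] .nil .nil) .nil) (.node [(14, (-1), 1, 1)] .nil .nil)) (.node [] .nil (.node [(20, (-1), 1, 1)] .nil .nil))) (.node [] .nil (.node [(4, (-1), 1, 1)] .nil .nil))) (.node [] (.node [] (.node []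 (.node [] (.node [(41, 1, 1, 1)] .nil .nil) .nil) .nil) (.node [(2, 1, 1, 1)] .nil .nil)) (.node [] .nil (.node [(5, (-1), 1, 1)] (.node [(12, 1, 1, 1)] .nil .nil) .nil)))))
def C9 : List (ℕ × List (ℕ × ℤ)) := [(17, [(0, (-1))]), (26, [(2, 1)]), (28, [(4, (-1))]), (30, [(5, (-1))]), (32, [(7, 1)]), (35, [(8, 1)]), (37, [(10, 1)]), (46, [(12, 1)]), (48, [(14, (-1))]), (51, [(15, 1)]), (56, [(20, (-1))]), (57, [(23, 1)]), (59, [(25, (-1))]), (61, [(34, (-1))]), (63, [(36, (-1))]), (64, [(39, (-1))]), (66, [(41, 1)]), (67, [(43, 1)]), (69, [(45, (-1))]), (71, [(54, 1)])]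
def M10 : Tr (List (ℕ × ℤ × ℕ × ℕ)) := (.node [] (.node [] (.node [] (.node [] (.node [] (.node [(7, (-1), 1, 1)] (.node [(38, (-1), 1, 1)] .nil .nil) .nil) (.node [(14, (-1), 1, 1)] .nil .nil)) (.node [] (.node [] (.node [(55, (-1), 1, 1)] .nil .nil) .nil) .nil)) (.node [] (.node [] (.node [] (.node [(44, (-1), 1, 1)] .nil .nil) .nil) .nil) (.node [(4, 1, 1, 1)] .nil .nil))) (.node [] (.node [] (.node [] (.node [(8, 1, 1, 1)] (.node [(41, 1, 1, 1)] .nil .nil) .nil) .nil) (.node [] .nil (.node [(24, 1, 1, 1)] .nil .nil))) .nil)) (.node [] (.node [] (.node [] (.node [(0, 1, 1, 1)] (.node [] (.node [(40, 1, 1, 1)] .nil .nil) .nil) .nil) (.node [] .nil (.node [(21, (-1), 1, 1)] .nil .nil))) (.node [] (.node [] (.node [] (.node [(45, (-1), 1, 1)] .nil .nil) .nil) .nil) .nil)) (.node [] (.node [] (.node [] (.node [(9, 1, 1, 1)] .nil .nil) (.node [(15, 1, 1, 1)] .nil .nil)) (.node [(3, 1, 1, 1)] .nil (.node [(25,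 (-1), 1, 1)] .nil .nil))) (.node [] .nil (.node [(6, (-1), 1, 1)] (.node [(13, 1, 1, 1)] .nil .nil) (.node [(37, (-1), 1, 1)] .nil .nil))))))
def C10 : List (ℕ × List (ℕ × ℤ)) := [(16, [(0, 1)]), (26, [(3, 1)]), (27, [(4, 1)]), (30, [(6, (-1))]), (31, [(7, (-1))]), (33, [(8, 1)]), (34, [(9, 1)]), (46, [(13, 1)]), (47, [(14, (-1))]), (50, [(15, 1)]), (56, [(21, (-1))]), (57, [(24, 1)]), (58, [(25, (-1))]), (62, [(37, (-1))]), (63, [(38, (-1))]), (64, [(40, 1)]), (65, [(41, 1)]), (67, [(44, (-1))]), (68, [(45, (-1))]), (71, [(55, (-1))])]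
def M11 : Tr (List (ℕ × ℤ × ℕ × ℕ)) := (.node [] (.node [] (.node [] (.node [] (.node [] (.node [] (.node [(46, (-1), 1, 1)] .nil .nil) .nil) .nil) (.node [(5, 1, 1, 1)] .nil .nil)) (.node [] .nil (.node [] .nil (.node [(35, (-1), 1, 1)] .nil .nil)))) (.node [] (.node [] (.node [] (.node [] (.node [(47, (-1), 1, 1)] .nil .nil) .nil) .nil) (.node [(8, 1, 1, 1)] (.node [(14, 1, 1, 1)] .nil .nil) (.node [(30, (-1), 1, 1)] .nil .nil))) (.node [] (.node [(3, 1, 1, 1)] (.node [] (.node [(51, (-1), 1, 1)] .nil .nil) .nil) .nil) (.node [] (.node [(15, 1, 1, 1)] .nil .nil) .nil)))) (.node [] (.node [] (.node [] .nil (.node [(6, 1, 1, 1)] .nil (.node [(26, (-1), 1, 1)] .nil .nil))) (.node [] (.node [(2, 1, 1, 1)] (.node [(12, 1, 1, 1)] (.node [(50, (-1), 1, 1)] .nil .nil) .nil) .nil) .nil)) (.node [] (.node [] (.node [(1, 1, 1, 1)] (.node [] (.node [(48, (-1), 1, 1)] .nil .nil) .nil) .nil) (.node [] .nil (.node [(33,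 (-1), 1, 1)] .nil .nil))) (.node [] (.node [] (.node [(13, 1, 1, 1)] (.node [(53, (-1), 1, 1)] .nil .nil) .nil) .nil) .nil))))
def C11 : List (ℕ × List (ℕ × ℤ)) := [(18, [(1, 1)]), (20, [(2, 1)]), (21, [(3, 1)]), (23, [(5, 1)]), (24, [(6, 1)]), (25, [(8, 1)]), (36, [(12, 1)]), (38, [(13, 1)]), (41, [(14, 1)]), (45, [(15, 1)]), (56, [(26, (-1))]), (57, [(30, (-1))]), (58, [(33, (-1))]), (59, [(35, (-1))]), (63, [(46, (-1))]), (65, [(47, (-1))]), (66, [(48, (-1))]), (68, [(50, (-1))]), (69, [(51, (-1))]), (70, [(53, (-1))])]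
def M12 : Tr (List (ℕ × ℤ × ℕ × ℕ)) := (.node [] (.node [] (.node [] .nil (.node [] (.node [(2, (-1), 1, 1)] (.node [(11, 1, 1, 1)] (.node [(50, (-1), 1, 1)] .nil .nil) .nil) .nil) .nil)) (.node [] (.node [] (.node [(1, (-1), 1, 1)] .nil .nil) (.node [(9, 1, 1, 1)] .nil (.node [(31, (-1), 1, 1)] .nil .nil))) (.node [] (.node [(4, 1, 1, 1)] (.node [(13, 1, 1, 1)] (.node [(52, 1, 1, 1)] .nil .nil) .nil) .nil) .nil))) (.node [] (.node [] (.node [] (.node [] (.node [] (.node [(47, (-1), 1, 1)] .nil .nil) .nil) .nil) (.node [(7, 1, 1, 1)] (.node [(14, 1, 1, 1)] .nil .nil) (.node [(27, (-1), 1, 1)] .nil .nil))) (.node [] .nil (.node [] (.node [(15, 1, 1, 1)] .nil .nil) (.node [(36, (-1), 1, 1)] .nil .nil)))) (.node [] (.node [] (.node [] (.node [] (.node [(49, 1, 1, 1)] .nil .nil) .nil) .nil) (.node [] .nil (.node [(34, (-1), 1, 1)] .nil .nil))) (.node [] (.node [(5, (-1), 1, 1)] (.node [] (.node [(54, 1, 1, 1)]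 .nil .nil) .nil) .nil) (.node [] .nil (.node [(46, (-1), 1, 1)] .nil .nil))))))
def C12 : List (ℕ × List (ℕ × ℤ)) := [(17, [(1, (-1))]), (19, [(2, (-1))]), (21, [(4, 1)]), (22, [(5, (-1))]), (24, [(7, 1)]), (25, [(9, 1)]), (35, [(11, 1)]), (37, [(13, 1)]), (40, [(14, 1)]), (44, [(15, 1)]), (56, [(27, (-1))]), (57, [(31, (-1))]), (58, [(34, (-1))]), (60, [(36, (-1))]), (62, [(46, (-1))]), (64, [(47, (-1))]), (66, [(49, 1)]), (67, [(50, (-1))]), (69, [(52, 1)]), (70, [(54, 1)])]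
def M13 : Tr (List (ℕ × ℤ × ℕ × ℕ)) := (.node [] (.node [] (.node [] (.node [] .nil (.node [(7, (-1), 1, 1)] (.node [(14, 1, 1, 1)] .nil .nil) .nil)) (.node [] (.node [(3, (-1), 1, 1)] (.node [] (.node [(51, 1, 1, 1)] .nil .nil) .nil) .nil) (.node [] (.node [(15, 1, 1, 1)] .nil .nil) (.node [(37, (-1), 1, 1)] .nil .nil)))) (.node [] (.node [] (.node [] (.node [(11, 1, 1, 1)] (.node [(49, 1, 1, 1)] .nil .nil) .nil) .nil) (.node [(10, 1, 1, 1)] .nil (.node [(32, (-1), 1, 1)] .nil .nil))) (.node [] .nil (.node [] .nil (.node [(46, (-1), 1, 1)] .nil .nil))))) (.node [] (.node [] (.node [] (.node [(1, 1, 1, 1)] (.node [] (.node [(48, 1, 1, 1)] .nil .nil) .nil) .nil) (.node [] .nil (.node [(28, (-1), 1, 1)] .nil .nil))) (.node [] (.node [(4, (-1), 1, 1)] (.node [] (.node [(52, 1, 1, 1)] .nil .nil) .nil) .nil) (.node [] .nil (.node [(38, (-1), 1, 1)] .nil .nil)))) (.node [] (.node [] (.node [] (.node [(12, 1, 1,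 1)] .nil .nil) .nil) .nil) (.node [] (.node [(6, (-1), 1, 1)] (.node [] (.node [(55, (-1), 1, 1)] .nil .nil) .nil) .nil) .nil))))
def C13 : List (ℕ × List (ℕ × ℤ)) := [(16, [(1, 1)]), (19, [(3, (-1))]), (20, [(4, (-1))]), (22, [(6, (-1))]), (23, [(7, (-1))]), (25, [(10, 1)]), (33, [(11, 1)]), (34, [(12, 1)]), (39, [(14, 1)]), (43, [(15, 1)]), (56, [(28, (-1))]), (57, [(32, (-1))]), (59, [(37, (-1))]), (60, [(38, (-1))]), (61, [(46, (-1))]), (64, [(48, 1)]), (65, [(49, 1)]), (67, [(51, 1)]), (68, [(52, 1)]), (70, [(55, (-1))])]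
def M14 : Tr (List (ℕ × ℤ × ℕ × ℕ)) := (.node [] (.node [] (.node [] (.node [] (.node [] (.node [(12, 1, 1, 1)] (.node [(49, 1, 1, 1)] .nil .nil) .nil) .nil) (.node [(9, (-1), 1, 1)] .nil .nil)) (.node [] (.node [] (.node [] (.node [(53, (-1), 1, 1)] .nil .nil) .nil) .nil) (.node [] .nil (.node [(40, (-1), 1, 1)] .nil .nil)))) (.node [] (.node [] (.node [(3, 1, 1, 1)] .nil .nil) .nil) (.node [] (.node [] (.node [] (.node [(55, (-1), 1, 1)] .nil .nil) .nil) .nil) (.node [] .nil (.node [(47, 1, 1, 1)] .nil .nil))))) (.node [] (.node [] (.node [] (.node [(2, 1, 1, 1)] (.node [(13, 1, 1, 1)] .nil .nil) .nil) (.node [(10, (-1), 1, 1)] .nil (.node [(29, (-1), 1, 1)] .nil .nil))) (.node [] (.node [] (.node [] (.node [(54, (-1), 1, 1)] .nil .nil) .nil) .nil) (.node [] .nil (.node [(41, (-1), 1, 1)] .nil .nil)))) (.node [] (.node [] (.node [(4, 1, 1, 1)] .nil .nil) (.node [] (.node [(15, 1, 1, 1)] .nil .nil) (.node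 [(39, (-1), 1, 1)] .nil .nil))) (.node [] (.node [(8, (-1), 1, 1)] .nil .nil) (.node [(11, 1, 1, 1)] .nil (.node [(48, 1, 1, 1)] .nil .nil))))))
def C14 : List (ℕ × List (ℕ × ℤ)) := [(16, [(2, 1)]), (17, [(3, 1)]), (18, [(4, 1)]), (22, [(8, (-1))]), (23, [(9, (-1))]), (24, [(10, (-1))]), (30, [(11, 1)]), (31, [(12, 1)]), (32, [(13, 1)]), (42, [(15, 1)]), (56, [(29, (-1))]), (58, [(39, (-1))]), (59, [(40, (-1))]), (60, [(41, (-1))]), (61, [(47, 1)]), (62, [(48, 1)]), (63, [(49, 1)]), (67, [(53, (-1))]), (68, [(54, (-1))]), (69, [(55, (-1))])]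
def M15 : Tr (List (ℕ × ℤ × ℕ × ℕ)) := (.node [] (.node [] (.node [] (.node [] (.node [] (.node [] (.node [(52, (-1), 1, 1)] .nil .nil) .nil) .nil) .nil) (.node [] (.node [(8, 1, 1, 1)] .nil .nil) (.node [(12, 1, 1, 1)] .nil (.node [(44, (-1), 1, 1)] .nil .nil)))) (.node [] (.node [] (.node [(6, 1, 1, 1)] (.node [] (.node [(54, (-1), 1, 1)] .nil .nil) .nil) .nil) (.node [] .nil (.node [(42, (-1), 1, 1)] .nil .nil))) (.node [] (.node [(10, 1, 1, 1)] .nil .nil) (.node [(14, 1, 1, 1)] .nil (.node [(50, (-1), 1, 1)] .nil .nil))))) (.node [] (.node [] (.node [] (.node [(5, 1, 1, 1)] (.node [] (.node [(53, (-1), 1, 1)] .nil .nil) .nil) .nil) .nil) (.node [] (.node [(9, 1, 1, 1)] .nil .nil) (.node [(13, 1, 1, 1)] .nil (.node [(45, (-1), 1, 1)] .nil .nil)))) (.node [] (.node [] (.node [(7, 1, 1, 1)] (.node [] (.node [(55, (-1), 1, 1)] .nil .nil) .nil) .nil) (.node [(11, 1, 1, 1)] .nil (.node [(43, (-1), 1, 1)] .nil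 .nil))) (.node [] .nil (.node [] .nil (.node [(51, (-1), 1, 1)] .nil .nil))))))
def C15 : List (ℕ × List (ℕ × ℤ)) := [(16, [(5, 1)]), (17, [(6, 1)]), (18, [(7, 1)]), (19, [(8, 1)]), (20, [(9, 1)]), (21, [(10, 1)]), (26, [(11, 1)]), (27, [(12, 1)]), (28, [(13, 1)]), (29, [(14, 1)]), (57, [(42, (-1))]), (58, [(43, (-1))]), (59, [(44, (-1))]), (60, [(45, (-1))]), (61, [(50, (-1))]), (62, [(51, (-1))]), (63, [(52, (-1))]), (64, [(53, (-1))]), (65, [(54, (-1))]), (66, [(55, (-1))])]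
def M16 : Tr (List (ℕ × ℤ × ℕ × ℕ)) := (.node [] (.node [] (.node [] (.node [] (.node [(5, (-1), 1, 1)] .nil .nil) (.node [] (.node [] (.node [(61, 1, 1, 1)] .nil .nil) .nil) .nil)) (.node [] (.node [] .nil (.node [(30, 1, 1, 1)] .nil .nil)) .nil)) (.node [] (.node [] (.node [] .nil (.node [(27, (-1), 1, 1)] .nil .nil)) (.node [] (.node [(20, (-1), 1, 1)] .nil .nil) .nil)) (.node [(1, (-1), 1, 1)] (.node [] (.node [(17, 1, 1, 1)] (.node [(57, 1, 1, 1)] .nil .nil) .nil) (.node [(33, 1, 1, 1)] .nil .nil)) (.node [] (.node [(23, (-1), 1, 1)] .nil .nil) .nil)))) (.node [] (.node [] (.node [] (.node [] .nil (.node [(26, 1, 1, 1)] .nil .nil)) (.node [] (.node [(19, 1, 1, 1)] .nil .nil) .nil)) (.node [] (.node [] .nil (.node [(31, (-1), 1, 1)] .nil .nil)) (.node [] (.node [(22, 1, 1, 1)] .nil .nil) .nil))) (.node [] (.node [(0, (-1), 1, 1)] (.node [] (.node [] (.node [(56, 1, 1, 1)] .nil .nil) .nil) .nil) .nil) (.node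 [(2, (-1), 1, 1)] (.node [] (.node [(18, (-1), 1, 1)] (.node [(58, 1, 1, 1)] .nil .nil) .nil) (.node [(34, (-1), 1, 1)] .nil .nil)) .nil))))
def C16 : List (ℕ × List (ℕ × ℤ)) := [(10, [(0, (-1))]), (13, [(1, (-1))]), (14, [(2, (-1))]), (15, [(5, (-1))]), (37, [(17, 1)]), (38, [(18, (-1))]), (40, [(19, 1)]), (41, [(20, (-1))]), (44, [(22, 1)]), (45, [(23, (-1))]), (48, [(26, 1)]), (49, [(27, (-1))]), (51, [(30, 1)]), (52, [(31, (-1))]), (53, [(33, 1)]), (54, [(34, (-1))]), (66, [(56, 1)]), (69, [(57, 1)]), (70, [(58, 1)]), (71, [(61, 1)])]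
def M17 : Tr (List (ℕ × ℤ × ℕ × ℕ)) := (.node [] (.node [] (.node [] (.node [] (.node [(6, (-1), 1, 1)] .nil (.node [(26, 1, 1, 1)] .nil .nil)) (.node [] (.node [(19, 1, 1, 1)] (.node [(62, (-1), 1, 1)] .nil .nil) .nil) (.node [(37, (-1), 1, 1)] .nil .nil))) (.node [] .nil (.node [] (.node [(22, 1, 1, 1)] .nil .nil) .nil))) (.node [] (.node [(0, 1, 1, 1)] (.node [] (.node [] (.node [(56, 1, 1, 1)] .nil .nil) .nil) (.node [(28, (-1), 1, 1)] .nil .nil)) (.node [] (.node [(21, (-1), 1, 1)] .nil .nil) .nil)) (.node [] (.node [] .nil (.node [(35, (-1), 1, 1)] .nil .nil)) (.node [] (.node [(24, (-1), 1, 1)] .nil .nil) .nil)))) (.node [] (.node [] .nil (.node [(1, 1, 1, 1)] (.node [] (.node [(18, 1, 1, 1)] (.node [(57, 1, 1, 1)] .nil .nil) .nil) (.node [(32, (-1), 1, 1)] .nil .nil)) .nil)) (.node [] (.node [] (.node [] (.node [(16, 1, 1, 1)] .nil .nil) (.node [(30, 1, 1, 1)] .nil .nil)) .nil) (.node [(3, (-1), 1,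 1)] (.node [] (.node [] (.node [(59, (-1), 1, 1)] .nil .nil) .nil) .nil) .nil))))
def C17 : List (ℕ × List (ℕ × ℤ)) := [(9, [(0, 1)]), (12, [(1, 1)]), (14, [(3, (-1))]), (15, [(6, (-1))]), (34, [(16, 1)]), (36, [(18, 1)]), (39, [(19, 1)]), (41, [(21, (-1))]), (43, [(22, 1)]), (45, [(24, (-1))]), (47, [(26, 1)]), (49, [(28, (-1))]), (50, [(30, 1)]), (52, [(32, (-1))]), (53, [(35, (-1))]), (55, [(37, (-1))]), (65, [(56, 1)]), (68, [(57, 1)]), (70, [(59, (-1))]), (71, [(62, (-1))])]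
def M18 : Tr (List (ℕ × ℤ × ℕ × ℕ)) := (.node [] (.node [] (.node [] (.node [] (.node [(7, (-1), 1, 1)] .nil (.node [(27, 1, 1, 1)] .nil .nil)) (.node [] (.node [(20, 1, 1, 1)] (.node [(63, 1, 1, 1)] .nil .nil) .nil) (.node [(38, 1, 1, 1)] .nil .nil))) (.node [(1, (-1), 1, 1)] (.node [] (.node [(17, 1, 1, 1)] (.node [(57, 1, 1, 1)] .nil .nil) .nil) (.node [(32, (-1), 1, 1)] .nil .nil)) (.node [] (.node [(23, 1, 1, 1)] .nil .nil) .nil))) (.node [] (.node [] (.node [] (.node [(16, (-1), 1, 1)] .nil .nil) .nil) .nil) .nil)) (.node [] (.node [] (.node [(0, (-1), 1, 1)] (.node [] (.node [] (.node [(56, 1, 1, 1)] .nil .nil) .nil) (.node [(28, (-1), 1, 1)] .nil .nil)) (.node [] (.node [(21, (-1), 1, 1)] .nil .nil) .nil)) (.node [] .nil (.node [] (.node [(24, (-1), 1, 1)] .nil .nil) .nil))) (.node [] (.node [] (.node [] .nil (.node [(31, 1, 1, 1)] .nil .nil)) .nil) (.node [(4, (-1), 1, 1)] (.node [] (.node [] (.node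 [(60, 1, 1, 1)] .nil .nil) .nil) (.node [(36, (-1), 1, 1)] .nil .nil)) .nil))))
def C18 : List (ℕ × List (ℕ × ℤ)) := [(8, [(0, (-1))]), (11, [(1, (-1))]), (14, [(4, (-1))]), (15, [(7, (-1))]), (33, [(16, (-1))]), (35, [(17, 1)]), (39, [(20, 1)]), (40, [(21, (-1))]), (43, [(23, 1)]), (44, [(24, (-1))]), (47, [(27, 1)]), (48, [(28, (-1))]), (50, [(31, 1)]), (51, [(32, (-1))]), (54, [(36, (-1))]), (55, [(38, 1)]), (64, [(56, 1)]), (67, [(57, 1)]), (70, [(60, 1)]), (71, [(63, 1)])]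
def M19 : Tr (List (ℕ × ℤ × ℕ × ℕ)) := (.node [] (.node [] (.node [] (.node [(0, (-1), 1, 1)] (.node [(8, (-1), 1, 1)] (.node [(16, 1, 1, 1)] (.node [(56, 1, 1, 1)] .nil .nil) .nil) .nil) (.node [] (.node [] (.node [(64, 1, 1, 1)] .nil .nil) .nil) (.node [(40, (-1), 1, 1)] .nil .nil))) (.node [] (.node [] .nil (.node [(35, (-1), 1, 1)] .nil .nil)) .nil)) (.node [] (.node [] (.node [] .nil (.node [(29, (-1), 1, 1)] .nil .nil)) .nil) (.node [(3, 1, 1, 1)] (.node [] (.node [] (.node [(59, (-1), 1, 1)] .nil .nil) .nil) .nil) (.node [] (.node [(25, (-1), 1, 1)] .nil .nil) .nil)))) (.node [] (.node [] (.node [] (.node [] (.node [(17, 1, 1, 1)] .nil .nil) .nil) .nil) (.node [(2, 1, 1, 1)] (.node [] (.node [(20, 1, 1, 1)] (.node [(58, (-1), 1, 1)] .nil .nil) .nil) .nil) .nil)) (.node [] (.node [] (.node [] .nil (.node [(33, (-1), 1, 1)] .nil .nil)) (.node [] (.node [(22, 1, 1, 1)] .nil .nil) .nil)) (.node [] (.node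 [] (.node [(21, 1, 1, 1)] .nil .nil) (.node [(39, (-1), 1, 1)] .nil .nil)) (.node [] (.node [(26, 1, 1, 1)] .nil .nil) .nil)))))
def C19 : List (ℕ × List (ℕ × ℤ)) := [(7, [(0, (-1))]), (12, [(2, 1)]), (13, [(3, 1)]), (15, [(8, (-1))]), (31, [(16, 1)]), (32, [(17, 1)]), (36, [(20, 1)]), (38, [(21, 1)]), (42, [(22, 1)]), (45, [(25, (-1))]), (46, [(26, 1)]), (49, [(29, (-1))]), (50, [(33, (-1))]), (51, [(35, (-1))]), (54, [(39, (-1))]), (55, [(40, (-1))]), (63, [(56, 1)]), (68, [(58, (-1))]), (69, [(59, (-1))]), (71, [(64, 1)])]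
def M20 : Tr (List (ℕ × ℤ × ℕ × ℕ)) := (.node [] (.node [] (.node [] (.node [] (.node [(9, (-1), 1, 1)] .nil .nil) (.node [] (.node [] (.node [(65, (-1), 1, 1)] .nil .nil) .nil) (.node [(41, 1, 1, 1)] .nil .nil))) (.node [(2, (-1), 1, 1)] (.node [] (.node [(19, 1, 1, 1)] (.node [(58, (-1), 1, 1)] .nil .nil) .nil) .nil) .nil)) (.node [] .nil (.node [(4, 1, 1, 1)] (.node [] (.node [(21, 1, 1, 1)] (.node [(60, 1, 1, 1)] .nil .nil) .nil) (.node [(39, (-1), 1, 1)] .nil .nil)) .nil))) (.node [] (.node [] (.node [] (.node [] (.node [(18, 1, 1, 1)] .nil .nil) (.node [(29, (-1), 1, 1)] .nil .nil)) .nil) (.node [] (.node [] .nil (.node [(36, (-1), 1, 1)] .nil .nil)) (.node [] (.node [(25, (-1), 1, 1)] .nil .nil) .nil))) (.node [(0, 1, 1, 1)] (.node [] (.node [] .nil (.node [(34, (-1), 1, 1)] .nil .nil)) (.node [] (.node [(23, 1, 1, 1)] .nil .nil) .nil)) (.node [] .nil (.node [(16, (-1), 1, 1)] (.node [(27, 1, 1, 1)]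 .nil .nil) (.node [(56, 1, 1, 1)] .nil .nil))))))
def C20 : List (ℕ × List (ℕ × ℤ)) := [(6, [(0, 1)]), (11, [(2, (-1))]), (13, [(4, 1)]), (15, [(9, (-1))]), (30, [(16, (-1))]), (32, [(18, 1)]), (35, [(19, 1)]), (37, [(21, 1)]), (42, [(23, 1)]), (44, [(25, (-1))]), (46, [(27, 1)]), (48, [(29, (-1))]), (50, [(34, (-1))]), (52, [(36, (-1))]), (53, [(39, (-1))]), (55, [(41, 1)]), (62, [(56, 1)]), (67, [(58, (-1))]), (69, [(60, 1)]), (71, [(65, (-1))])]
def M21 : Tr (List (ℕ × ℤ × ℕ × ℕ)) := (.node [] (.node [] (.node [] (.node [] (.node [(10, (-1), 1, 1)] (.node [(18, (-1), 1, 1)] .nil .nil) (.node [(29, (-1), 1, 1)] .nil .nil)) (.node [] (.node [] (.node [(66, 1, 1, 1)] .nil .nil) .nil) .nil)) (.node [(3, (-1), 1, 1)] (.node [] (.node [] (.node [(59, 1, 1, 1)] .nil .nil) .nil) (.node [(37, (-1), 1, 1)] .nil .nil)) (.node [] (.node [(25, (-1), 1, 1)] .nil .nil) .nil))) (.node [(0, (-1), 1, 1)] (.node [] (.node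 [] (.node [(19, 1, 1, 1)] .nil .nil) .nil) .nil) (.node [] (.node [] .nil (.node [(40, 1, 1, 1)] .nil .nil)) (.node [] .nil (.node [(56, 1, 1, 1)] .nil .nil))))) (.node [] (.node [] .nil (.node [(4, (-1), 1, 1)] (.node [] (.node [] (.node [(60, 1, 1, 1)] .nil .nil) .nil) (.node [(38, (-1), 1, 1)] .nil .nil)) .nil)) (.node [] (.node [] (.node [] (.node [(20, 1, 1, 1)] .nil .nil) .nil) (.node [] (.node [(24, 1, 1, 1)] .nil .nil) .nil)) (.node [] (.node [] .nil (.node [(41, 1, 1, 1)] .nil .nil)) (.node [(17, (-1), 1, 1)] (.node [(28, 1, 1, 1)] .nil .nil) .nil)))))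
def C21 : List (ℕ × List (ℕ × ℤ)) := [(5, [(0, (-1))]), (11, [(3, (-1))]), (12, [(4, (-1))]), (15, [(10, (-1))]), (30, [(17, (-1))]), (31, [(18, (-1))]), (33, [(19, 1)]), (34, [(20, 1)]), (42, [(24, 1)]), (43, [(25, (-1))]), (46, [(28, 1)]), (47, [(29, (-1))]), (51, [(37, (-1))]), (52, [(38, (-1))]), (53, [(40, 1)]), (54, [(41, 1)]), (61, [(56, 1)]), (67, [(59, 1)]), (68, [(60, 1)]), (71, [(66, 1)])]
def M22 : Tr (List (ℕ × ℤ × ℕ × ℕ)) := (.node [] (.node [] (.node [] (.node [] (.node [] (.node [] (.node [(57, (-1), 1, 1)] .nil .nil) .nil) (.node [(33, (-1), 1, 1)] .nil .nil)) (.node [] (.node [] (.node [(67, (-1), 1, 1)] .nil .nil) .nil) (.node [(44, (-1), 1, 1)] .nil .nil))) (.node [] .nil (.node [(16, 1, 1, 1)] .nil .nil))) (.node [] (.node [] (.node [] (.node [] (.node [(58, (-1), 1, 1)] .nil .nil) .nil) .nil) (.node [] (.node [(25, 1, 1, 1)] .nil .nil) .nil)) (.node [(6, 1, 1, 1)] .nil (.node [(19, 1,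 1, 1)] .nil .nil)))) (.node [] (.node [(0, 1, 1, 1)] (.node [] (.node [] .nil (.node [(35, (-1), 1, 1)] .nil .nil)) .nil) (.node [(5, 1, 1, 1)] (.node [] (.node [(23, 1, 1, 1)] .nil .nil) (.node [(42, (-1), 1, 1)] .nil .nil)) (.node [(17, 1, 1, 1)] .nil .nil))) (.node [] (.node [] (.node [] (.node [] (.node [(59, (-1), 1, 1)] .nil .nil) .nil) .nil) .nil) (.node [(8, 1, 1, 1)] (.node [] (.node [(24, 1, 1, 1)] .nil .nil) (.node [(43, (-1), 1, 1)] .nil .nil)) (.node [] (.node [(30, (-1), 1, 1)] .nil .nil) .nil)))))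
def C22 : List (ℕ × List (ℕ × ℤ)) := [(4, [(0, 1)]), (12, [(5, 1)]), (13, [(6, 1)]), (14, [(8, 1)]), (27, [(16, 1)]), (28, [(17, 1)]), (29, [(19, 1)]), (36, [(23, 1)]), (38, [(24, 1)]), (41, [(25, 1)]), (46, [(30, (-1))]), (47, [(33, (-1))]), (48, [(35, (-1))]), (52, [(42, (-1))]), (54, [(43, (-1))]), (55, [(44, (-1))]), (63, [(57, (-1))]), (65, [(58, (-1))]), (66, [(59, (-1))]), (71, [(67, (-1))])]
def M23 : Tr (List (ℕ × ℤ × ℕ × ℕ)) := (.node [] (.node [] (.node [(0, (-1), 1, 1)] (.node [] (.node [] .nil (.node [(34, (-1), 1, 1)] .nil .nil)) (.node [] (.node [] (.node [(68, 1, 1, 1)] .nil .nil) .nil) (.node [(45, 1, 1, 1)] .nil .nil))) (.node [(5, (-1), 1, 1)] (.node [] (.node [(22, 1, 1, 1)] .nil .nil) (.node [(42, (-1), 1, 1)] .nil .nil)) .nil)) (.node [] (.node [] (.node [] .nil (.node [(36, (-1), 1, 1)] .nil .nil)) .nil) (.node [(7, 1, 1, 1)] (.node [] (.node [(24, 1, 1, 1)] .nil .nil) (.node [(43, (-1),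 1, 1)] .nil .nil)) (.node [(20, 1, 1, 1)] .nil .nil)))) (.node [] (.node [] (.node [] (.node [] (.node [] (.node [(58, (-1), 1, 1)] .nil .nil) .nil) .nil) (.node [] (.node [(25, 1, 1, 1)] .nil .nil) .nil)) (.node [] .nil (.node [(18, 1, 1, 1)] .nil .nil))) (.node [] (.node [] (.node [] (.node [] (.node [(60, 1, 1, 1)] .nil .nil) .nil) .nil) (.node [(16, (-1), 1, 1)] .nil .nil)) (.node [(9, 1, 1, 1)] .nil (.node [] (.node [(31, (-1), 1, 1)] .nil .nil) (.node [(57, (-1), 1, 1)] .nil .nil))))))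
def C23 : List (ℕ × List (ℕ × ℤ)) := [(3, [(0, (-1))]), (11, [(5, (-1))]), (13, [(7, 1)]), (14, [(9, 1)]), (26, [(16, (-1))]), (28, [(18, 1)]), (29, [(20, 1)]), (35, [(22, 1)]), (37, [(24, 1)]), (40, [(25, 1)]), (46, [(31, (-1))]), (47, [(34, (-1))]), (49, [(36, (-1))]), (51, [(42, (-1))]), (53, [(43, (-1))]), (55, [(45, 1)]), (62, [(57, (-1))]), (64, [(58, (-1))]), (66, [(60, 1)]), (71, [(68, 1)])]
def M24 : Tr (List (ℕ × ℤ × ℕ × ℕ)) := (.node [] (.node [] (.node [] (.node [] .nil (.node [] (.node [(25, 1, 1, 1)] (.node [(69, (-1), 1, 1)] .nil .nil) .nil) .nil)) (.node [(6, (-1), 1, 1)] .nil (.node [(18, (-1), 1, 1)] .nil .nil))) (.node [] (.node [] (.node [] (.node [(22, 1, 1, 1)] (.node [(60, 1, 1, 1)] .nil .nil) .nil) (.node [(38, (-1), 1, 1)] .nil .nil)) .nil) (.node [] (.node [] .nil (.node [(44, 1, 1, 1)] .nil .nil)) (.node [(21, 1, 1, 1)] .nil (.node [(57, (-1), 1, 1)] .nil .nil))))) (.node [(0, 1,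 1, 1)] (.node [] (.node [] (.node [] (.node [] (.node [(59, 1, 1, 1)] .nil .nil) .nil) (.node [(37, (-1), 1, 1)] .nil .nil)) .nil) (.node [(7, (-1), 1, 1)] .nil .nil)) (.node [] (.node [] (.node [] (.node [(23, 1, 1, 1)] .nil .nil) (.node [(42, (-1), 1, 1)] .nil .nil)) (.node [(17, (-1), 1, 1)] .nil .nil)) (.node [(10, 1, 1, 1)] (.node [] .nil (.node [(45, 1, 1, 1)] .nil .nil)) (.node [] (.node [(32, (-1), 1, 1)] .nil .nil) .nil)))))
def C24 : List (ℕ × List (ℕ × ℤ)) := [(2, [(0, 1)]), (11, [(6, (-1))]), (12, [(7, (-1))]), (14, [(10, 1)]), (26, [(17, (-1))]), (27, [(18, (-1))]), (29, [(21, 1)]), (33, [(22, 1)]), (34, [(23, 1)]), (39, [(25, 1)]), (46, [(32, (-1))]), (48, [(37, (-1))]), (49, [(38, (-1))]), (50, [(42, (-1))]), (53, [(44, 1)]), (54, [(45, 1)]), (61, [(57, (-1))]), (64, [(59, 1)]), (65, [(60, 1)]), (71, [(69, (-1))])]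
def M25 : Tr (List (ℕ × ℤ × ℕ × ℕ)) := (.node [] (.node [(0, (-1), 1, 1)] (.node [] (.node [] (.node [] (.node [(23, 1, 1, 1)] (.node [(60, 1, 1, 1)] .nil .nil) .nil) (.node [(39, (-1), 1, 1)] .nil .nil)) (.node [] (.node [] (.node [(70, 1, 1, 1)] .nil .nil) .nil) .nil)) (.node [(8, (-1), 1, 1)] (.node [] .nil (.node [(44, 1, 1, 1)] .nil .nil)) (.node [(20, (-1), 1, 1)] .nil .nil))) (.node [] (.node [] (.node [] .nil (.node [(41, (-1), 1, 1)] .nil .nil)) .nil) (.node [(10, (-1), 1, 1)] .nil (.node [] .nil (.node [(58, 1, 1, 1)] .nil .nil))))) (.node [] (.node [] (.node [] (.node [] (.node [(24, 1, 1, 1)] .nil .nil) (.node [(40, (-1), 1, 1)] .nil .nil)) .nil) (.node [(9, (-1), 1, 1)] (.node [] .nil (.node [(45, 1, 1, 1)] .nil .nil)) (.node [(21, (-1), 1, 1)] .nil .nil))) (.node [] (.node [] (.node [] .nil (.node [(43, 1, 1, 1)] .nil .nil)) (.node [(19, (-1), 1, 1)] .nil .nil)) (.node [] .nil (.node [(22, 1,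 1, 1)] .nil (.node [(59, 1, 1, 1)] .nil .nil))))))
def C25 : List (ℕ × List (ℕ × ℤ)) := [(1, [(0, (-1))]), (11, [(8, (-1))]), (12, [(9, (-1))]), (13, [(10, (-1))]), (26, [(19, (-1))]), (27, [(20, (-1))]), (28, [(21, (-1))]), (30, [(22, 1)]), (31, [(23, 1)]), (32, [(24, 1)]), (47, [(39, (-1))]), (48, [(40, (-1))]), (49, [(41, (-1))]), (50, [(43, 1)]), (51, [(44, 1)]), (52, [(45, 1)]), (61, [(58, 1)]), (62, [(59, 1)]), (63, [(60, 1)]), (71, [(70, 1)])]
def M26 : Tr (List (ℕ × ℤ × ℕ × ℕ)) := (.node [] (.node [] (.node [] (.node [(1, (-1), 1, 1)] (.node [(11, (-1), 1, 1)] .nil .nil) (.node [(16, 1, 1, 1)] .nil (.node [(48, (-1), 1, 1)] .nil .nil))) (.node [] .nil (.node [] (.node [(33, (-1), 1, 1)] .nil .nil) .nil))) (.node [] (.node [(2, (-1), 1, 1)] .nil (.node [(19, 1, 1, 1)] (.node [(29, 1, 1, 1)] .nil .nil) .nil)) (.node [] (.node [] (.node [] (.node [(62, 1, 1, 1)] .nil .nil) .nil) .nil) .nil))) (.node []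 (.node [] (.node [] .nil (.node [(17, 1, 1, 1)] .nil .nil)) (.node [] (.node [] (.node [(27, 1, 1, 1)] (.node [(61, 1, 1, 1)] .nil .nil) .nil) (.node [(46, (-1), 1, 1)] .nil .nil)) (.node [] (.node [(35, (-1), 1, 1)] .nil .nil) (.node [(56, 1, 1, 1)] .nil .nil)))) (.node [] (.node [(3, (-1), 1, 1)] .nil (.node [] (.node [(30, (-1), 1, 1)] .nil .nil) .nil)) (.node [] (.node [] (.node [(28, 1, 1, 1)] (.node [(64, 1, 1, 1)] .nil .nil) .nil) (.node [(47, (-1), 1, 1)] .nil .nil)) .nil))))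
def C26 : List (ℕ × List (ℕ × ℤ)) := [(7, [(1, (-1))]), (9, [(2, (-1))]), (10, [(3, (-1))]), (15, [(11, (-1))]), (23, [(16, 1)]), (24, [(17, 1)]), (25, [(19, 1)]), (36, [(27, 1)]), (38, [(28, 1)]), (41, [(29, 1)]), (42, [(30, (-1))]), (43, [(33, (-1))]), (44, [(35, (-1))]), (52, [(46, (-1))]), (54, [(47, (-1))]), (55, [(48, (-1))]), (60, [(56, 1)]), (68, [(61, 1)]), (69, [(62, 1)]), (70, [(64, 1)])]
def M27 : Tr (List (ℕ × ℤ × ℕ × ℕ)) := (.node [] (.node [] (.node [] (.node [] (.node [(12, (-1), 1, 1)] .nil .nil) (.node [] .nil (.node [(49, 1, 1, 1)] .nil .nil))) (.node [] (.node [] (.node [(26, 1, 1, 1)] (.node [(61, 1, 1, 1)] .nil .nil) .nil) (.node [(46, (-1), 1, 1)] .nil .nil)) (.node [] (.node [(34, (-1), 1, 1)] .nil .nil) (.node [(56, 1, 1, 1)] .nil .nil)))) (.node [] (.node [] .nil (.node [(20, 1, 1, 1)] .nil .nil)) (.node [] (.node [] (.node [(28, 1, 1, 1)] (.node [(63, (-1), 1, 1)] .nil .nil) .nil)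 (.node [(47, (-1), 1, 1)] .nil .nil)) (.node [] (.node [(36, (-1), 1, 1)] .nil .nil) .nil)))) (.node [] (.node [] (.node [(2, 1, 1, 1)] .nil (.node [(18, 1, 1, 1)] (.node [(29, 1, 1, 1)] .nil .nil) .nil)) .nil) (.node [(1, 1, 1, 1)] (.node [(4, (-1), 1, 1)] .nil (.node [] (.node [(31, (-1), 1, 1)] .nil .nil) .nil)) (.node [] (.node [(16, (-1), 1, 1)] (.node [] (.node [(65, (-1), 1, 1)] .nil .nil) .nil) .nil) .nil))))
def C27 : List (ℕ × List (ℕ × ℤ)) := [(6, [(1, 1)]), (8, [(2, 1)]), (10, [(4, (-1))]), (15, [(12, (-1))]), (22, [(16, (-1))]), (24, [(18, 1)]), (25, [(20, 1)]), (35, [(26, 1)]), (37, [(28, 1)]), (40, [(29, 1)]), (42, [(31, (-1))]), (43, [(34, (-1))]), (45, [(36, (-1))]), (51, [(46, (-1))]), (53, [(47, (-1))]), (55, [(49, 1)]), (59, [(56, 1)]), (67, [(61, 1)]), (69, [(63, (-1))]), (70, [(65, (-1))])]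
def M28 : Tr (List (ℕ × ℤ × ℕ × ℕ)) := (.node [] (.node [] (.node [] (.node [] (.node [(13, (-1), 1, 1)] .nil .nil) (.node [(18, (-1), 1, 1)] (.node [(29, 1, 1, 1)] .nil .nil) .nil)) (.node [] (.node [] (.node [] (.node [(62, (-1), 1, 1)] .nil .nil) .nil) .nil) .nil)) (.node [(1, (-1), 1, 1)] (.node [(4, 1, 1, 1)] (.node [] (.node [(26, 1, 1, 1)] .nil .nil) .nil) (.node [(21, 1, 1, 1)] .nil .nil)) (.node [] (.node [] .nil (.node [(48, 1, 1, 1)] .nil .nil)) (.node [] (.node [(38, (-1), 1, 1)] .nil .nil) .nil)))) (.node [] (.node [] (.node [(3, 1, 1, 1)] .nil .nil) (.node [] (.node [] (.node [] (.node [(63, (-1), 1, 1)] .nil .nil) .nil) .nil) (.node [] (.node [(37, (-1), 1, 1)] .nil .nil) .nil))) (.node [] (.node [] (.node [] (.node [(27, 1, 1, 1)] .nil .nil) (.node [(46, (-1), 1, 1)] .nil .nil)) (.node [] (.node [(32, (-1), 1, 1)] .nil .nil) (.node [(56, 1, 1, 1)] .nil .nil))) (.node [] (.node [(17, (-1), 1,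 1)] (.node [] (.node [(66, 1, 1, 1)] .nil .nil) .nil) (.node [(49, 1, 1, 1)] .nil .nil)) .nil))))
def C28 : List (ℕ × List (ℕ × ℤ)) := [(5, [(1, (-1))]), (8, [(3, 1)]), (9, [(4, 1)]), (15, [(13, (-1))]), (22, [(17, (-1))]), (23, [(18, (-1))]), (25, [(21, 1)]), (33, [(26, 1)]), (34, [(27, 1)]), (39, [(29, 1)]), (42, [(32, (-1))]), (44, [(37, (-1))]), (45, [(38, (-1))]), (50, [(46, (-1))]), (53, [(48, 1)]), (54, [(49, 1)]), (58, [(56, 1)]), (67, [(62, (-1))]), (68, [(63, (-1))]), (70, [(66, 1)])]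
def M29 : Tr (List (ℕ × ℤ × ℕ × ℕ)) := (.node [] (.node [] (.node [] (.node [(4, (-1), 1, 1)] (.node [(14, (-1), 1, 1)] (.node [(27, 1, 1, 1)] .nil .nil) .nil) (.node [(20, (-1), 1, 1)] .nil .nil)) (.node [] (.node [] (.node [] (.node [(64, 1, 1, 1)] .nil .nil) .nil) (.node [(48, 1, 1, 1)] .nil .nil)) (.node [] (.node [(39, (-1), 1, 1)] .nil .nil) .nil))) (.node [(2, (-1), 1, 1)] (.node [] .nil (.node [] .nil (.node [(56, 1, 1, 1)] .nil .nil))) (.node [] (.node [] (.node [] (.node [(66, 1, 1, 1)] .nil .nil) .nil) .nil) (.node [] (.node [(41, (-1), 1, 1)] .nil .nil) .nil)))) (.node [] (.node [] (.node [] (.node [] (.node [(28, 1, 1, 1)] .nil .nil) .nil) (.node [(21, (-1), 1, 1)] .nil .nil)) (.node [] (.node [] (.node [] (.node [(65, 1, 1, 1)] .nil .nil) .nil) (.node [(49, 1, 1, 1)] .nil .nil)) (.node [] (.node [(40, (-1), 1, 1)] .nil .nil) .nil))) (.node [(3, (-1), 1, 1)] (.node [] (.node [] .nil (.node [(47,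 1, 1, 1)] .nil .nil)) .nil) (.node [] (.node [(19, (-1), 1, 1)] .nil .nil) (.node [(26, 1, 1, 1)] .nil .nil)))))
def C29 : List (ℕ × List (ℕ × ℤ)) := [(5, [(2, (-1))]), (6, [(3, (-1))]), (7, [(4, (-1))]), (15, [(14, (-1))]), (22, [(19, (-1))]), (23, [(20, (-1))]), (24, [(21, (-1))]), (30, [(26, 1)]), (31, [(27, 1)]), (32, [(28, 1)]), (43, [(39, (-1))]), (44, [(40, (-1))]), (45, [(41, (-1))]), (50, [(47, 1)]), (51, [(48, 1)]), (52, [(49, 1)]), (57, [(56, 1)]), (67, [(64, 1)]), (68, [(65, 1)]), (69, [(66, 1)])]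
def M30 : Tr (List (ℕ × ℤ × ℕ × ℕ)) := (.node [] (.node [] (.node [] (.node [] .nil (.node [] (.node [(33, (-1), 1, 1)] .nil .nil) (.node [(51, (-1), 1, 1)] .nil .nil))) .nil) (.node [] (.node [(5, 1, 1, 1)] (.node [] (.node [] (.node [(61, (-1), 1, 1)] .nil .nil) .nil) (.node [(46, 1, 1, 1)] .nil .nil)) (.node [(22, (-1), 1, 1)] .nil .nil)) (.node [] (.node [(17, 1, 1, 1)] .nil .nil) (.node [(26, (-1), 1, 1)] (.node [(42, 1, 1, 1)] .nil .nil) .nil)))) (.node [] (.node [(1, (-1), 1, 1)] (.node [] .nil (.node [] (.node [(35, (-1), 1, 1)] .nil .nil) .nil)) (.node [] (.node [(16, 1, 1, 1)] (.node [(31, 1, 1, 1)] .nil .nil) .nil) (.node [] .nil (.node [(57, 1, 1, 1)] .nil .nil)))) (.node [] (.node [(6, 1, 1, 1)] (.node [] (.node [] (.node [(62, (-1), 1, 1)] .nil .nil) .nil) .nil) .nil) (.node [(11, (-1), 1, 1)] (.node [] (.node [(32, 1, 1, 1)] (.node [(67, 1, 1, 1)] .nil .nil) .nil) (.node [(50, (-1), 1, 1)] .nil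 .nil)) .nil))))
def C30 : List (ℕ × List (ℕ × ℤ)) := [(4, [(1, (-1))]), (9, [(5, 1)]), (10, [(6, 1)]), (14, [(11, (-1))]), (20, [(16, 1)]), (21, [(17, 1)]), (25, [(22, (-1))]), (29, [(26, (-1))]), (36, [(31, 1)]), (38, [(32, 1)]), (39, [(33, (-1))]), (40, [(35, (-1))]), (45, [(42, 1)]), (49, [(46, 1)]), (54, [(50, (-1))]), (55, [(51, (-1))]), (60, [(57, 1)]), (65, [(61, (-1))]), (66, [(62, (-1))]), (70, [(67, 1)])]
def M31 : Tr (List (ℕ × ℤ × ℕ × ℕ)) := (.node [] (.node [] (.node [(1, 1, 1, 1)] (.node [] .nil (.node [] (.node [(34, (-1), 1, 1)] .nil .nil) (.node [(52, 1, 1, 1)] .nil .nil))) (.node [] (.node [(16, (-1), 1, 1)] (.node [(30, 1, 1, 1)] .nil .nil) .nil) (.node [] .nil (.node [(57, 1, 1, 1)] .nil .nil)))) (.node [] (.node [] .nil (.node [(23, (-1), 1, 1)] (.node [(36, (-1), 1, 1)] .nil .nil) .nil)) (.node [] (.node [(18, 1, 1, 1)] (.node [(32, 1, 1, 1)] .nil .nil) (.node [(50, (-1), 1, 1)] .nil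 .nil)) (.node [(27, (-1), 1, 1)] .nil .nil)))) (.node [] (.node [] (.node [(5, (-1), 1, 1)] (.node [] (.node [] (.node [(61, (-1), 1, 1)] .nil .nil) .nil) (.node [(46, 1, 1, 1)] .nil .nil)) .nil) (.node [] .nil (.node [] (.node [(42, 1, 1, 1)] .nil .nil) .nil))) (.node [] (.node [(7, 1, 1, 1)] (.node [] (.node [] (.node [(63, 1, 1, 1)] .nil .nil) .nil) .nil) .nil) (.node [(12, (-1), 1, 1)] (.node [] (.node [] (.node [(68, (-1), 1, 1)] .nil .nil) .nil) .nil) .nil))))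
def C31 : List (ℕ × List (ℕ × ℤ)) := [(3, [(1, 1)]), (8, [(5, (-1))]), (10, [(7, 1)]), (14, [(12, (-1))]), (19, [(16, (-1))]), (21, [(18, 1)]), (25, [(23, (-1))]), (29, [(27, (-1))]), (35, [(30, 1)]), (37, [(32, 1)]), (39, [(34, (-1))]), (41, [(36, (-1))]), (44, [(42, 1)]), (48, [(46, 1)]), (53, [(50, (-1))]), (55, [(52, 1)]), (59, [(57, 1)]), (64, [(61, (-1))]), (66, [(63, 1)]), (70, [(68, (-1))])]
def M32 : Tr (List (ℕ × ℤ × ℕ × ℕ)) := (.node [] (.node [] (.node [] (.node [] (.node [] .nil (.node [(46, 1, 1, 1)] .nil .nil)) .nil) (.node [] (.node [(17, (-1), 1, 1)] .nil .nil) (.node [] (.node [(42, 1, 1, 1)] .nil .nil) .nil))) (.node [] (.node [(7, (-1), 1, 1)] (.node [] (.node [(30, 1, 1, 1)] (.node [(63, 1, 1, 1)] .nil .nil) .nil) .nil) (.node [(24, (-1), 1, 1)] (.node [(38, (-1), 1, 1)] .nil .nil) .nil)) (.node [] (.node [] .nil (.node [(51, 1, 1, 1)] .nil .nil)) (.node [(28, (-1), 1, 1)] .nil .nil))))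 (.node [(1, (-1), 1, 1)] (.node [] (.node [(6, (-1), 1, 1)] (.node [] (.node [] (.node [(62, 1, 1, 1)] .nil .nil) .nil) .nil) (.node [] (.node [(37, (-1), 1, 1)] .nil .nil) .nil)) (.node [] (.node [(18, (-1), 1, 1)] .nil .nil) .nil)) (.node [] (.node [] (.node [] (.node [(31, 1, 1, 1)] .nil .nil) .nil) (.node [] .nil (.node [(57, 1, 1, 1)] .nil .nil))) (.node [(13, (-1), 1, 1)] (.node [] (.node [] (.node [(69, 1, 1, 1)] .nil .nil) .nil) (.node [(52, 1, 1, 1)] .nil .nil)) .nil))))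
def C32 : List (ℕ × List (ℕ × ℤ)) := [(2, [(1, (-1))]), (8, [(6, (-1))]), (9, [(7, (-1))]), (14, [(13, (-1))]), (19, [(17, (-1))]), (20, [(18, (-1))]), (25, [(24, (-1))]), (29, [(28, (-1))]), (33, [(30, 1)]), (34, [(31, 1)]), (40, [(37, (-1))]), (41, [(38, (-1))]), (43, [(42, 1)]), (47, [(46, 1)]), (53, [(51, 1)]), (54, [(52, 1)]), (58, [(57, 1)]), (64, [(62, 1)]), (65, [(63, 1)]), (70, [(69, 1)])]
def M33 : Tr (List (ℕ × ℤ × ℕ × ℕ)) := (.node [] (.node [] (.node [] (.node [(5, 1, 1, 1)] (.node [] (.node [] (.node [(61, 1, 1, 1)] .nil .nil) .nil) .nil) (.node [] .nil (.node [(53, (-1), 1, 1)] .nil .nil))) .nil) (.node [] (.node [] (.node [] .nil (.node [(47, 1, 1, 1)] .nil .nil)) (.node [] (.node [(39, 1, 1, 1)] .nil .nil) .nil)) (.node [(11, (-1), 1, 1)] (.node [(19, (-1), 1, 1)] (.node [(35, (-1), 1, 1)] (.node [(67, (-1), 1, 1)] .nil .nil) .nil) .nil) (.node [] (.node [(43, 1, 1, 1)] .nil .nil) .nil))))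 (.node [] (.node [(2, 1, 1, 1)] (.node [] (.node [] (.node [(30, (-1), 1, 1)] .nil .nil) .nil) (.node [(22, (-1), 1, 1)] .nil .nil)) (.node [] (.node [] (.node [(34, 1, 1, 1)] .nil .nil) (.node [(50, 1, 1, 1)] .nil .nil)) (.node [(26, (-1), 1, 1)] .nil (.node [(58, 1, 1, 1)] .nil .nil)))) (.node [] (.node [(8, (-1), 1, 1)] (.node [(16, 1, 1, 1)] (.node [] (.node [(64, (-1), 1, 1)] .nil .nil) .nil) .nil) .nil) .nil)))
def C33 : List (ℕ × List (ℕ × ℤ)) := [(4, [(2, 1)]), (7, [(5, 1)]), (10, [(8, (-1))]), (13, [(11, (-1))]), (18, [(16, 1)]), (21, [(19, (-1))]), (24, [(22, (-1))]), (28, [(26, (-1))]), (32, [(30, (-1))]), (36, [(34, 1)]), (37, [(35, (-1))]), (41, [(39, 1)]), (45, [(43, 1)]), (49, [(47, 1)]), (52, [(50, 1)]), (55, [(53, (-1))]), (60, [(58, 1)]), (63, [(61, 1)]), (66, [(64, (-1))]), (69, [(67, (-1))])]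
def M34 : Tr (List (ℕ × ℤ × ℕ × ℕ)) := (.node [] (.node [] (.node [(2, (-1), 1, 1)] (.node [] .nil (.node [] .nil (.node [(54, 1, 1, 1)] .nil .nil))) (.node [] (.node [] (.node [(33, 1, 1, 1)] .nil .nil) (.node [(50, 1, 1, 1)] .nil .nil)) (.node [] .nil (.node [(58, 1, 1, 1)] .nil .nil)))) (.node [] (.node [] (.node [(16, (-1), 1, 1)] .nil .nil) .nil) (.node [(12, (-1), 1, 1)] (.node [(20, (-1), 1, 1)] (.node [] (.node [(68, 1, 1, 1)] .nil .nil) .nil) .nil) .nil))) (.node [] (.node [] (.node [] (.node [] (.node [(31, (-1), 1, 1)] .nil .nil) (.node [(47, 1, 1, 1)] .nil .nil)) (.node [(23, (-1), 1, 1)] (.node [(39, 1, 1, 1)] .nil .nil) .nil)) (.node [] .nil (.node [(27, (-1), 1, 1)] (.node [(43, 1, 1, 1)] .nil .nil) .nil))) (.node [(5, (-1), 1, 1)] (.node [(9, (-1), 1, 1)] (.node [] (.node [] (.node [(65, 1, 1, 1)] .nil .nil) .nil) .nil) .nil) (.node [] (.node [] (.node [(36, (-1), 1, 1)] .nil .nil) .nil) (.node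 [] .nil (.node [(61, 1, 1, 1)] .nil .nil))))))
def C34 : List (ℕ × List (ℕ × ℤ)) := [(3, [(2, (-1))]), (6, [(5, (-1))]), (10, [(9, (-1))]), (13, [(12, (-1))]), (17, [(16, (-1))]), (21, [(20, (-1))]), (24, [(23, (-1))]), (28, [(27, (-1))]), (32, [(31, (-1))]), (35, [(33, 1)]), (38, [(36, (-1))]), (40, [(39, 1)]), (44, [(43, 1)]), (48, [(47, 1)]), (51, [(50, 1)]), (55, [(54, 1)]), (59, [(58, 1)]), (62, [(61, 1)]), (66, [(65, 1)]), (69, [(68, 1)])]
def M35 : Tr (List (ℕ × ℤ × ℕ × ℕ)) := (.node [] (.node [] (.node [] (.node [(6, (-1), 1, 1)] (.node [] (.node [(30, (-1), 1, 1)] (.node [(62, 1, 1, 1)] .nil .nil) .nil) .nil) (.node [(22, (-1), 1, 1)] .nil .nil)) (.node [] .nil (.node [(26, (-1), 1, 1)] .nil .nil))) (.node [] (.node [(8, (-1), 1, 1)] (.node [] (.node [] (.node [(64, 1, 1, 1)] .nil .nil) .nil) (.node [(48, 1, 1, 1)] .nil .nil)) (.node [] (.node [(40, 1, 1, 1)] .nil .nil) .nil)) (.node [] .nil (.node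 [] (.node [(44, 1, 1, 1)] .nil .nil) .nil)))) (.node [] (.node [(3, (-1), 1, 1)] .nil (.node [(11, (-1), 1, 1)] (.node [(19, (-1), 1, 1)] (.node [] (.node [(67, 1, 1, 1)] .nil .nil) .nil) (.node [(51, 1, 1, 1)] .nil .nil)) (.node [] .nil (.node [(59, 1, 1, 1)] .nil .nil)))) (.node [] (.node [] (.node [(17, (-1), 1, 1)] (.node [(33, (-1), 1, 1)] .nil .nil) .nil) .nil) (.node [] (.node [] (.node [(37, 1, 1, 1)] .nil .nil) (.node [(53, 1, 1, 1)] .nil .nil)) .nil))))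
def C35 : List (ℕ × List (ℕ × ℤ)) := [(4, [(3, (-1))]), (7, [(6, (-1))]), (9, [(8, (-1))]), (12, [(11, (-1))]), (18, [(17, (-1))]), (20, [(19, (-1))]), (23, [(22, (-1))]), (27, [(26, (-1))]), (31, [(30, (-1))]), (34, [(33, (-1))]), (38, [(37, 1)]), (41, [(40, 1)]), (45, [(44, 1)]), (49, [(48, 1)]), (52, [(51, 1)]), (54, [(53, 1)]), (60, [(59, 1)]), (63, [(62, 1)]), (65, [(64, 1)]), (68, [(67, 1)])]
def M36 : Tr (List (ℕ × ℤ × ℕ × ℕ)) := (.node [] (.node [] (.node [(4, (-1), 1, 1)] .nil (.node [(12, (-1), 1, 1)] (.node [(20, (-1), 1, 1)] (.node [] (.node [(68, 1, 1, 1)] .nil .nil) .nil) (.node [(52, 1, 1, 1)] .nil .nil)) (.node [] .nil (.node [(60, 1, 1, 1)] .nil .nil)))) (.node [] (.node [] (.node [(18, (-1), 1, 1)] (.node [(34, (-1), 1, 1)] .nil .nil) .nil) .nil) (.node [] (.node [] (.node [(38, 1, 1, 1)] .nil .nil) (.node [(54, 1, 1, 1)] .nil .nil)) .nil))) (.node [] (.node [] (.node [(9, (-1), 1, 1)] (.node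 [] (.node [] (.node [(65, 1, 1, 1)] .nil .nil) .nil) (.node [(49, 1, 1, 1)] .nil .nil)) (.node [] (.node [(41, 1, 1, 1)] .nil .nil) .nil)) (.node [] .nil (.node [] (.node [(45, 1, 1, 1)] .nil .nil) .nil))) (.node [(7, (-1), 1, 1)] (.node [] .nil (.node [(27, (-1), 1, 1)] .nil .nil)) (.node [] (.node [(23, (-1), 1, 1)] .nil .nil) (.node [(31, (-1), 1, 1)] .nil (.node [(63, 1, 1, 1)] .nil .nil))))))
def C36 : List (ℕ × List (ℕ × ℤ)) := [(3, [(4, (-1))]), (6, [(7, (-1))]), (8, [(9, (-1))]), (11, [(12, (-1))]), (17, [(18, (-1))]), (19, [(20, (-1))]), (22, [(23, (-1))]), (26, [(27, (-1))]), (30, [(31, (-1))]), (33, [(34, (-1))]), (37, [(38, 1)]), (40, [(41, 1)]), (44, [(45, 1)]), (48, [(49, 1)]), (51, [(52, 1)]), (53, [(54, 1)]), (59, [(60, 1)]), (62, [(63, 1)]), (64, [(65, 1)]), (67, [(68, 1)])]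
def M37 : Tr (List (ℕ × ℤ × ℕ × ℕ)) := (.node [] (.node [] (.node [] (.node [] (.node [] (.node [(32, (-1), 1, 1)] .nil .nil) (.node [(48, 1, 1, 1)] .nil .nil)) (.node [(24, (-1), 1, 1)] (.node [(40, 1, 1, 1)] .nil .nil) .nil)) (.node [] .nil (.node [(28, (-1), 1, 1)] (.node [(44, 1, 1, 1)] .nil .nil) .nil))) (.node [(6, (-1), 1, 1)] (.node [(10, (-1), 1, 1)] (.node [] (.node [(35, 1, 1, 1)] (.node [(66, 1, 1, 1)] .nil .nil) .nil) .nil) .nil) (.node [] .nil (.node [] .nil (.node [(62, 1, 1, 1)] .nil .nil))))) (.node [(3, (-1), 1, 1)] (.node [] (.node [] (.node [(17, (-1), 1, 1)] .nil .nil) .nil) (.node [(13, (-1), 1, 1)] (.node [(21, (-1), 1, 1)] (.node [(38, (-1), 1, 1)] (.node [(69, 1, 1, 1)] .nil .nil) .nil) .nil) .nil)) (.node [] (.node [] (.node [] .nil (.node [(51, 1, 1, 1)] .nil .nil)) (.node [] .nil (.node [(59, 1, 1, 1)] .nil .nil))) (.node [] (.node [] .nil (.node [(55, 1, 1, 1)] .nil .nil)) .nil))))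
def C37 : List (ℕ × List (ℕ × ℤ)) := [(2, [(3, (-1))]), (5, [(6, (-1))]), (9, [(10, (-1))]), (12, [(13, (-1))]), (16, [(17, (-1))]), (20, [(21, (-1))]), (23, [(24, (-1))]), (27, [(28, (-1))]), (31, [(32, (-1))]), (33, [(35, 1)]), (36, [(38, (-1))]), (39, [(40, 1)]), (43, [(44, 1)]), (47, [(48, 1)]), (50, [(51, 1)]), (54, [(55, 1)]), (58, [(59, 1)]), (61, [(62, 1)]), (65, [(66, 1)]), (68, [(69, 1)])]
def M38 : Tr (List (ℕ × ℤ × ℕ × ℕ)) := (.node [] (.node [] (.node [] (.node [] (.node [] .nil (.node [(49, 1, 1, 1)] .nil .nil)) (.node [] (.node [(41, 1, 1, 1)] .nil .nil) .nil)) (.node [(13, (-1), 1, 1)] (.node [(21, (-1), 1, 1)] (.node [(37, (-1), 1, 1)] (.node [(69, (-1), 1, 1)] .nil .nil) .nil) .nil) (.node [] (.node [(45, 1, 1, 1)] .nil .nil) .nil))) (.node [(7, 1, 1, 1)] .nil (.node [] (.node [] .nil (.node [(55, (-1), 1, 1)] .nil .nil)) (.node [] .nil (.node [(63, 1, 1, 1)] .nil .nil))))) (.node [(4, 1,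 1, 1)] (.node [] (.node [(10, (-1), 1, 1)] (.node [(18, 1, 1, 1)] (.node [] (.node [(66, (-1), 1, 1)] .nil .nil) .nil) .nil) .nil) .nil) (.node [] (.node [] (.node [] (.node [(36, 1, 1, 1)] .nil .nil) (.node [(52, 1, 1, 1)] .nil .nil)) (.node [(28, (-1), 1, 1)] .nil (.node [(60, 1, 1, 1)] .nil .nil))) (.node [] (.node [(24, (-1), 1, 1)] .nil .nil) (.node [(32, (-1), 1, 1)] .nil .nil)))))
def C38 : List (ℕ × List (ℕ × ℤ)) := [(2, [(4, 1)]), (5, [(7, 1)]), (8, [(10, (-1))]), (11, [(13, (-1))]), (16, [(18, 1)]), (19, [(21, (-1))]), (22, [(24, (-1))]), (26, [(28, (-1))]), (30, [(32, (-1))]), (34, [(36, 1)]), (35, [(37, (-1))]), (39, [(41, 1)]), (43, [(45, 1)]), (47, [(49, 1)]), (50, [(52, 1)]), (53, [(55, (-1))]), (58, [(60, 1)]), (61, [(63, 1)]), (64, [(66, (-1))]), (67, [(69, (-1))])]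
def M39 : Tr (List (ℕ × ℤ × ℕ × ℕ)) := (.node [] (.node [(2, (-1), 1, 1)] (.node [] (.node [(9, (-1), 1, 1)] (.node [] (.node [(34, 1, 1, 1)] (.node [(65, 1, 1, 1)] .nil .nil) .nil) .nil) .nil) (.node [] (.node [] .nil (.node [(53, 1, 1, 1)] .nil .nil)) .nil)) (.node [] (.node [] (.node [(19, (-1), 1, 1)] .nil .nil) (.node [] .nil (.node [(58, 1, 1, 1)] .nil .nil))) (.node [(14, (-1), 1, 1)] (.node [] (.node [(40, (-1), 1, 1)] (.node [(70, 1, 1, 1)] .nil .nil) .nil) .nil) .nil))) (.node [] (.node [] (.node [] .nil (.node [(25, (-1), 1, 1)] .nil .nil)) (.node [] (.node [] .nil (.node [(54, 1, 1, 1)] .nil .nil)) (.node [(29, (-1), 1, 1)] .nil .nil))) (.node [(8, (-1), 1, 1)] (.node [] (.node [(20, (-1), 1, 1)] .nil .nil) (.node [] (.node [(43, 1, 1, 1)] .nil .nil) .nil)) (.node [] (.node [] (.node [(41, (-1), 1, 1)] .nil .nil) .nil) (.node [(33, 1, 1, 1)] (.node [(47, 1, 1, 1)] .nil .nil) (.node [(64, 1, 1,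 1)] .nil .nil))))))
def C39 : List (ℕ × List (ℕ × ℤ)) := [(1, [(2, (-1))]), (6, [(8, (-1))]), (7, [(9, (-1))]), (13, [(14, (-1))]), (17, [(19, (-1))]), (18, [(20, (-1))]), (24, [(25, (-1))]), (28, [(29, (-1))]), (30, [(33, 1)]), (31, [(34, 1)]), (37, [(40, (-1))]), (38, [(41, (-1))]), (42, [(43, 1)]), (46, [(47, 1)]), (51, [(53, 1)]), (52, [(54, 1)]), (57, [(58, 1)]), (62, [(64, 1)]), (63, [(65, 1)]), (69, [(70, 1)])]
def M40 : Tr (List (ℕ × ℤ × ℕ × ℕ)) := (.node [] (.node [(3, 1, 1, 1)] (.node [] (.node [(10, 1, 1, 1)] (.node [] (.node [] (.node [(66, 1, 1, 1)] .nil .nil) .nil) .nil) (.node [(25, (-1), 1, 1)] .nil .nil)) (.node [] .nil (.node [(29, (-1), 1, 1)] .nil .nil))) (.node [(8, (-1), 1, 1)] (.node [] .nil (.node [] .nil (.node [(59, 1, 1, 1)] .nil .nil))) (.node [] .nil (.node [] .nil (.node [(64, (-1), 1, 1)] .nil .nil))))) (.node [] (.node [] (.node [] (.node [(19, (-1), 1, 1)] (.node [(37, 1, 1,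 1)] .nil .nil) .nil) .nil) (.node [(14, (-1), 1, 1)] (.node [] (.node [(41, (-1), 1, 1)] (.node [(70, (-1), 1, 1)] .nil .nil) .nil) (.node [(55, 1, 1, 1)] .nil .nil)) .nil)) (.node [] (.node [] (.node [(21, 1, 1, 1)] (.node [(39, (-1), 1, 1)] .nil .nil) (.node [(53, (-1), 1, 1)] .nil .nil)) (.node [] (.node [(44, 1, 1, 1)] .nil .nil) .nil)) (.node [] .nil (.node [(35, 1, 1, 1)] (.node [(48, 1, 1, 1)] .nil .nil) .nil)))))
def C40 : List (ℕ × List (ℕ × ℤ)) := [(1, [(3, 1)]), (5, [(8, (-1))]), (7, [(10, 1)]), (12, [(14, (-1))]), (16, [(19, (-1))]), (18, [(21, 1)]), (23, [(25, (-1))]), (27, [(29, (-1))]), (30, [(35, 1)]), (32, [(37, 1)]), (34, [(39, (-1))]), (36, [(41, (-1))]), (42, [(44, 1)]), (46, [(48, 1)]), (50, [(53, (-1))]), (52, [(55, 1)]), (57, [(59, 1)]), (61, [(64, (-1))]), (63, [(66, 1)]), (68, [(70, (-1))])]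
def M41 : Tr (List (ℕ × ℤ × ℕ × ℕ)) := (.node [] (.node [(4, (-1), 1, 1)] (.node [] (.node [] (.node [] (.node [(36, 1, 1, 1)] .nil .nil) .nil) .nil) (.node [(14, (-1), 1, 1)] (.node [] (.node [(40, (-1), 1, 1)] (.node [(70, 1, 1, 1)] .nil .nil) .nil) (.node [(55, (-1), 1, 1)] .nil .nil)) .nil)) (.node [(9, 1, 1, 1)] (.node [] (.node [(21, 1, 1, 1)] (.node [(39, (-1), 1, 1)] .nil .nil) .nil) (.node [] .nil (.node [(60, 1, 1, 1)] .nil .nil))) (.node [] .nil (.node [] .nil (.node [(65, (-1), 1, 1)] .nil .nil))))) (.node [] (.node [] (.node [] (.node [(20, 1, 1, 1)] (.node [(38, 1, 1, 1)] .nil .nil) .nil) .nil) .nil) (.node [(10, 1, 1, 1)] (.node [] (.node [] .nil (.node [(54, (-1), 1, 1)] .nil .nil)) (.node [(29, (-1), 1, 1)] (.node [(45, 1, 1, 1)] .nil .nil) .nil)) (.node [] (.node [(25, (-1), 1, 1)] .nil .nil) (.node [] (.node [(49, 1, 1, 1)] .nil .nil) (.node [(66, (-1), 1, 1)] .nil .nil))))))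
def C41 : List (ℕ × List (ℕ × ℤ)) := [(1, [(4, (-1))]), (5, [(9, 1)]), (6, [(10, 1)]), (11, [(14, (-1))]), (16, [(20, 1)]), (17, [(21, 1)]), (22, [(25, (-1))]), (26, [(29, (-1))]), (31, [(36, 1)]), (32, [(38, 1)]), (33, [(39, (-1))]), (35, [(40, (-1))]), (42, [(45, 1)]), (46, [(49, 1)]), (50, [(54, (-1))]), (51, [(55, (-1))]), (57, [(60, 1)]), (61, [(65, (-1))]), (62, [(66, (-1))]), (67, [(70, 1)])]
def M42 : Tr (List (ℕ × ℤ × ℕ × ℕ)) := (.node [] (.node [] (.node [(6, (-1), 1, 1)] (.node [] (.node [] .nil (.node [(50, 1, 1, 1)] .nil .nil)) (.node [] (.node [(43, (-1), 1, 1)] .nil .nil) .nil)) (.node [] (.node [(22, (-1), 1, 1)] .nil .nil) (.node [(31, 1, 1, 1)] .nil .nil))) (.node [] (.node [] (.node [] (.node [] (.node [(68, 1, 1, 1)] .nil .nil) .nil) (.node [(52, 1, 1, 1)] .nil .nil)) (.node [] (.node [(45, (-1), 1, 1)] .nil .nil) .nil)) (.node [] (.node [(24, (-1), 1, 1)] .nil .nil) .nil))) (.node [(5,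 (-1), 1, 1)] (.node [(7, (-1), 1, 1)] (.node [] (.node [] (.node [] (.node [(67, 1, 1, 1)] .nil .nil) .nil) (.node [(51, 1, 1, 1)] .nil .nil)) (.node [] (.node [(44, (-1), 1, 1)] .nil .nil) (.node [(57, 1, 1, 1)] .nil .nil))) (.node [] (.node [(23, (-1), 1, 1)] .nil .nil) (.node [(32, 1, 1, 1)] .nil .nil))) (.node [] (.node [] (.node [] (.node [] (.node [(69, 1, 1, 1)] .nil .nil) .nil) .nil) (.node [(30, 1, 1, 1)] .nil .nil)) (.node [(15, (-1), 1, 1)] .nil .nil))))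
def C42 : List (ℕ × List (ℕ × ℤ)) := [(2, [(5, (-1))]), (3, [(6, (-1))]), (4, [(7, (-1))]), (14, [(15, (-1))]), (19, [(22, (-1))]), (20, [(23, (-1))]), (21, [(24, (-1))]), (26, [(30, 1)]), (27, [(31, 1)]), (28, [(32, 1)]), (39, [(43, (-1))]), (40, [(44, (-1))]), (41, [(45, (-1))]), (47, [(50, 1)]), (48, [(51, 1)]), (49, [(52, 1)]), (56, [(57, 1)]), (64, [(67, 1)]), (65, [(68, 1)]), (66, [(69, 1)])]
def M43 : Tr (List (ℕ × ℤ × ℕ × ℕ)) := (.node [] (.node [(5, (-1), 1, 1)] (.node [(8, 1, 1, 1)] (.node [] (.node [] (.node [] (.node [(68, (-1), 1, 1)] .nil .nil) .nil) .nil) .nil) (.node [] .nil (.node [(34, 1, 1, 1)] .nil .nil))) (.node [] (.node [] (.node [(22, (-1), 1, 1)] .nil (.node [(54, 1, 1, 1)] .nil .nil)) .nil) (.node [(15, (-1), 1, 1)] (.node [(25, 1, 1, 1)] (.node [(44, (-1), 1, 1)] .nil .nil) .nil) (.node [(39, 1, 1, 1)] .nil .nil)))) (.node [] (.node [(9, 1, 1, 1)] (.node [] (.node [] (.node [(42,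 (-1), 1, 1)] .nil .nil) (.node [(53, 1, 1, 1)] .nil .nil)) (.node [] .nil (.node [(58, 1, 1, 1)] .nil .nil))) .nil) (.node [] (.node [] (.node [(23, (-1), 1, 1)] (.node [] (.node [(70, 1, 1, 1)] .nil .nil) .nil) .nil) (.node [(33, 1, 1, 1)] .nil .nil)) (.node [] (.node [] (.node [(45, (-1), 1, 1)] .nil .nil) .nil) (.node [] (.node [(50, (-1), 1, 1)] .nil .nil) (.node [(67, (-1), 1, 1)] .nil .nil))))))
def C43 : List (ℕ × List (ℕ × ℤ)) := [(1, [(5, (-1))]), (3, [(8, 1)]), (4, [(9, 1)]), (13, [(15, (-1))]), (17, [(22, (-1))]), (18, [(23, (-1))]), (21, [(25, 1)]), (26, [(33, 1)]), (27, [(34, 1)]), (29, [(39, 1)]), (32, [(42, (-1))]), (37, [(44, (-1))]), (38, [(45, (-1))]), (46, [(50, (-1))]), (48, [(53, 1)]), (49, [(54, 1)]), (56, [(58, 1)]), (62, [(67, (-1))]), (63, [(68, (-1))]), (66, [(70, 1)])]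
def M44 : Tr (List (ℕ × ℤ × ℕ × ℕ)) := (.node [] (.node [(6, 1, 1, 1)] (.node [] (.node [] (.node [] (.node [(42, (-1), 1, 1)] (.node [(69, (-1), 1, 1)] .nil .nil) .nil) (.node [(53, (-1), 1, 1)] .nil .nil)) .nil) .nil) (.node [] (.node [] (.node [] (.node [] (.node [(70, (-1), 1, 1)] .nil .nil) .nil) (.node [(55, 1, 1, 1)] .nil .nil)) .nil) (.node [] .nil (.node [(40, 1, 1, 1)] .nil (.node [(67, 1, 1, 1)] .nil .nil))))) (.node [(8, 1, 1, 1)] (.node [(10, (-1), 1, 1)] (.node [] (.node [(22, (-1), 1, 1)] .nil .nil) (.node [] .nil (.node [(59, 1, 1, 1)] .nil .nil))) (.node [(15, (-1), 1, 1)] (.node [(25, 1, 1, 1)] (.node [(45, (-1), 1, 1)] .nil .nil) .nil) (.node [(37, 1, 1, 1)] .nil .nil))) (.node [] (.node [] (.node [(24, 1, 1, 1)] (.node [(43, (-1), 1, 1)] .nil .nil) .nil) (.node [(35, 1, 1, 1)] .nil .nil)) (.node [] .nil (.node [] (.node [(51, (-1), 1, 1)] .nil .nil) .nil)))))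
def C44 : List (ℕ × List (ℕ × ℤ)) := [(1, [(6, 1)]), (2, [(8, 1)]), (4, [(10, (-1))]), (12, [(15, (-1))]), (16, [(22, (-1))]), (18, [(24, 1)]), (20, [(25, 1)]), (26, [(35, 1)]), (28, [(37, 1)]), (29, [(40, 1)]), (31, [(42, (-1))]), (34, [(43, (-1))]), (36, [(45, (-1))]), (46, [(51, (-1))]), (47, [(53, (-1))]), (49, [(55, 1)]), (56, [(59, 1)]), (61, [(67, 1)]), (63, [(69, (-1))]), (65, [(70, (-1))])]
def M45 : Tr (List (ℕ × ℤ × ℕ × ℕ)) := (.node [] (.node [(7, (-1), 1, 1)] (.node [(10, (-1), 1, 1)] (.node [] (.node [] .nil (.node [(54, (-1), 1, 1)] .nil .nil)) .nil) (.node [(15, (-1), 1, 1)] (.node [(25, 1, 1, 1)] (.node [(44, (-1), 1, 1)] .nil .nil) .nil) (.node [(36, 1, 1, 1)] .nil .nil))) (.node [] (.node [] (.node [(24, 1, 1, 1)] (.node [(43, (-1), 1, 1)] .nil .nil) .nil) .nil) (.node [] .nil (.node [(41, 1, 1, 1)] .nil (.node [(68, 1, 1, 1)] .nil .nil))))) (.node [(9, (-1), 1, 1)] (.node [] (.node [] (.node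 [(23, 1, 1, 1)] (.node [] (.node [(70, 1, 1, 1)] .nil .nil) .nil) (.node [(55, (-1), 1, 1)] .nil .nil)) (.node [] .nil (.node [(60, 1, 1, 1)] .nil .nil))) (.node [] .nil (.node [(38, 1, 1, 1)] .nil .nil))) (.node [] .nil (.node [] .nil (.node [(42, (-1), 1, 1)] (.node [(52, (-1), 1, 1)] .nil .nil) (.node [(69, 1, 1, 1)] .nil .nil))))))
def C45 : List (ℕ × List (ℕ × ℤ)) := [(1, [(7, (-1))]), (2, [(9, (-1))]), (3, [(10, (-1))]), (11, [(15, (-1))]), (16, [(23, 1)]), (17, [(24, 1)]), (19, [(25, 1)]), (27, [(36, 1)]), (28, [(38, 1)]), (29, [(41, 1)]), (30, [(42, (-1))]), (33, [(43, (-1))]), (35, [(44, (-1))]), (46, [(52, (-1))]), (47, [(54, (-1))]), (48, [(55, (-1))]), (56, [(60, 1)]), (61, [(68, 1)]), (62, [(69, 1)]), (64, [(70, 1)])]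
def M46 : Tr (List (ℕ × ℤ × ℕ × ℕ)) := (.node [(1, (-1), 1, 1)] (.node [] (.node [] (.node [] .nil (.node [(31, 1, 1, 1)] (.node [(47, (-1), 1, 1)] .nil .nil) .nil)) (.node [] (.node [(26, (-1), 1, 1)] .nil .nil) (.node [] (.node [(50, 1, 1, 1)] .nil .nil) (.node [(62, 1, 1, 1)] .nil .nil)))) (.node [] (.node [(12, (-1), 1, 1)] .nil (.node [] (.node [(49, (-1), 1, 1)] .nil .nil) .nil)) (.node [] (.node [(28, (-1), 1, 1)] .nil .nil) (.node [] (.node [(52, 1, 1, 1)] .nil .nil) .nil)))) (.node [] (.node [] (.node [(11, (-1), 1, 1)] .nil (.node [(32, 1, 1, 1)] (.node [(48, (-1), 1, 1)] .nil .nil) .nil)) (.node [] (.node [(27, (-1), 1, 1)] .nil .nil) (.node [] (.node [(51, 1, 1, 1)] .nil .nil) (.node [(63, 1, 1, 1)] .nil .nil)))) (.node [] (.node [(13, (-1), 1, 1)] .nil (.node [] .nil (.node [(61, 1, 1, 1)] .nil .nil))) (.node [] (.node [(30, 1, 1, 1)] (.node [] (.node [(71, 1, 1, 1)] .nil .nil) .nil) .nil) .nil))))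
def C46 : List (ℕ × List (ℕ × ℤ)) := [(0, [(1, (-1))]), (8, [(11, (-1))]), (9, [(12, (-1))]), (10, [(13, (-1))]), (19, [(26, (-1))]), (20, [(27, (-1))]), (21, [(28, (-1))]), (22, [(30, 1)]), (23, [(31, 1)]), (24, [(32, 1)]), (39, [(47, (-1))]), (40, [(48, (-1))]), (41, [(49, (-1))]), (43, [(50, 1)]), (44, [(51, 1)]), (45, [(52, 1)]), (58, [(61, 1)]), (59, [(62, 1)]), (60, [(63, 1)]), (70, [(71, 1)])]
def M47 : Tr (List (ℕ × ℤ × ℕ × ℕ)) := (.node [(2, 1, 1, 1)] (.node [] (.node [] (.node [(12, (-1), 1, 1)] .nil (.node [(34, 1, 1, 1)] .nil .nil)) (.node [] .nil (.node [] .nil (.node [(64, 1, 1, 1)] .nil .nil)))) (.node [] (.node [] (.node [(26, (-1), 1, 1)] .nil .nil) (.node [(39, 1, 1, 1)] .nil (.node [(61, (-1), 1, 1)] .nil .nil))) (.node [] (.node [(29, 1, 1, 1)] (.node [(48, (-1), 1, 1)] (.node [(71, (-1), 1, 1)] .nil .nil) .nil) .nil) (.node [] (.node [(54, 1, 1, 1)] .nil .nil) .nil)))) (.node [] (.node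 [] (.node [] (.node [] (.node [(46, (-1), 1, 1)] .nil .nil) .nil) .nil) (.node [] .nil (.node [] (.node [(53, 1, 1, 1)] .nil .nil) (.node [(65, 1, 1, 1)] .nil .nil)))) (.node [(11, (-1), 1, 1)] (.node [(14, 1, 1, 1)] (.node [(27, (-1), 1, 1)] .nil .nil) (.node [] (.node [(50, (-1), 1, 1)] .nil .nil) .nil)) (.node [] (.node [(33, 1, 1, 1)] (.node [(49, (-1), 1, 1)] .nil .nil) .nil) .nil))))
def C47 : List (ℕ × List (ℕ × ℤ)) := [(0, [(2, 1)]), (6, [(11, (-1))]), (7, [(12, (-1))]), (10, [(14, 1)]), (17, [(26, (-1))]), (18, [(27, (-1))]), (21, [(29, 1)]), (22, [(33, 1)]), (23, [(34, 1)]), (25, [(39, 1)]), (32, [(46, (-1))]), (37, [(48, (-1))]), (38, [(49, (-1))]), (42, [(50, (-1))]), (44, [(53, 1)]), (45, [(54, 1)]), (57, [(61, (-1))]), (59, [(64, 1)]), (60, [(65, 1)]), (69, [(71, (-1))])]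
def M48 : Tr (List (ℕ × ℤ × ℕ × ℕ)) := (.node [(3, (-1), 1, 1)] (.node [] (.node [] (.node [(13, 1, 1, 1)] (.node [] (.node [(46, (-1), 1, 1)] .nil .nil) .nil) .nil) (.node [] .nil (.node [] (.node [(53, (-1), 1, 1)] .nil .nil) .nil))) (.node [(11, (-1), 1, 1)] (.node [(14, 1, 1, 1)] .nil (.node [(40, 1, 1, 1)] .nil (.node [(62, (-1), 1, 1)] .nil .nil))) (.node [] .nil (.node [] (.node [(55, 1, 1, 1)] .nil .nil) .nil)))) (.node [] (.node [] (.node [] (.node [(26, (-1), 1, 1)] .nil .nil) (.node [(37, 1, 1, 1)] .nil .nil)) (.node [] (.node [(29, 1, 1, 1)] (.node [(49, (-1), 1, 1)] (.node [(71, 1, 1, 1)] .nil .nil) .nil) .nil) (.node [] .nil (.node [(66, 1, 1, 1)] .nil .nil)))) (.node [] (.node [] (.node [(28, 1, 1, 1)] (.node [(47, (-1), 1, 1)] .nil .nil) .nil) (.node [] (.node [(51, (-1), 1, 1)] .nil .nil) (.node [(64, (-1), 1, 1)] .nil .nil))) (.node [] (.node [(35, 1, 1, 1)] .nil .nil) .nil))))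
def C48 : List (ℕ × List (ℕ × ℤ)) := [(0, [(3, (-1))]), (5, [(11, (-1))]), (7, [(13, 1)]), (9, [(14, 1)]), (16, [(26, (-1))]), (18, [(28, 1)]), (20, [(29, 1)]), (22, [(35, 1)]), (24, [(37, 1)]), (25, [(40, 1)]), (31, [(46, (-1))]), (34, [(47, (-1))]), (36, [(49, (-1))]), (42, [(51, (-1))]), (43, [(53, (-1))]), (45, [(55, 1)]), (57, [(62, (-1))]), (58, [(64, (-1))]), (60, [(66, 1)]), (68, [(71, 1)])]
def M49 : Tr (List (ℕ × ℤ × ℕ × ℕ)) := (.node [(4, 1, 1, 1)] (.node [] (.node [] (.node [] .nil (.node [(36, 1, 1, 1)] .nil .nil)) (.node [] (.node [(29, 1, 1, 1)] (.node [(48, (-1), 1, 1)] (.node [(71, (-1), 1, 1)] .nil .nil) .nil) .nil) (.node [] (.node [(54, (-1), 1, 1)] .nil .nil) (.node [(66, (-1), 1, 1)] .nil .nil)))) (.node [(12, 1, 1, 1)] (.node [] (.node [(28, 1, 1, 1)] (.node [(47, (-1), 1, 1)] .nil .nil) .nil) (.node [(41, 1, 1, 1)] .nil (.node [(63, (-1), 1, 1)] .nil .nil))) .nil)) (.node [] (.node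 [] (.node [(14, 1, 1, 1)] (.node [(27, 1, 1, 1)] .nil .nil) (.node [(38, 1, 1, 1)] .nil .nil)) (.node [] .nil (.node [] (.node [(55, (-1), 1, 1)] .nil .nil) .nil))) (.node [(13, 1, 1, 1)] (.node [] .nil (.node [] (.node [(52, (-1), 1, 1)] .nil .nil) (.node [(65, (-1), 1, 1)] .nil .nil))) (.node [] .nil (.node [(46, (-1), 1, 1)] .nil .nil)))))
def C49 : List (ℕ × List (ℕ × ℤ)) := [(0, [(4, 1)]), (5, [(12, 1)]), (6, [(13, 1)]), (8, [(14, 1)]), (16, [(27, 1)]), (17, [(28, 1)]), (19, [(29, 1)]), (23, [(36, 1)]), (24, [(38, 1)]), (25, [(41, 1)]), (30, [(46, (-1))]), (33, [(47, (-1))]), (35, [(48, (-1))]), (42, [(52, (-1))]), (43, [(54, (-1))]), (44, [(55, (-1))]), (57, [(63, (-1))]), (58, [(65, (-1))]), (59, [(66, (-1))]), (67, [(71, (-1))])]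
def M50 : Tr (List (ℕ × ℤ × ℕ × ℕ)) := (.node [(5, (-1), 1, 1)] (.node [] (.node [(11, (-1), 1, 1)] .nil (.node [] (.node [(33, 1, 1, 1)] .nil .nil) (.node [] .nil (.node [(67, 1, 1, 1)] .nil .nil)))) (.node [] (.node [] (.node [(30, (-1), 1, 1)] .nil .nil) (.node [(43, (-1), 1, 1)] (.node [(54, 1, 1, 1)] .nil .nil) .nil)) (.node [] (.node [] (.node [(51, (-1), 1, 1)] .nil .nil) .nil) (.node [(47, (-1), 1, 1)] .nil .nil)))) (.node [] (.node [(12, (-1), 1, 1)] (.node [] .nil (.node [(42, 1, 1, 1)] (.node [(53, 1, 1, 1)] .nil .nil) (.node [(61, 1, 1, 1)] .nil .nil))) (.node [] (.node [(34, 1, 1, 1)] .nil .nil) (.node [(46, 1, 1, 1)] .nil (.node [(68, 1, 1, 1)] .nil .nil)))) (.node [] (.node [(15, (-1), 1, 1)] (.node [(31, (-1), 1, 1)] (.node [] (.node [(71, 1, 1, 1)] .nil .nil) .nil) .nil) .nil) (.node [] (.node [] (.node [(52, (-1), 1, 1)] .nil .nil) .nil) .nil))))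
def C50 : List (ℕ × List (ℕ × ℤ)) := [(0, [(5, (-1))]), (3, [(11, (-1))]), (4, [(12, (-1))]), (10, [(15, (-1))]), (17, [(30, (-1))]), (18, [(31, (-1))]), (19, [(33, 1)]), (20, [(34, 1)]), (24, [(42, 1)]), (25, [(43, (-1))]), (28, [(46, 1)]), (29, [(47, (-1))]), (37, [(51, (-1))]), (38, [(52, (-1))]), (40, [(53, 1)]), (41, [(54, 1)]), (56, [(61, 1)]), (59, [(67, 1)]), (60, [(68, 1)]), (66, [(71, 1)])]
def M51 : Tr (List (ℕ × ℤ × ℕ × ℕ)) := (.node [(6, 1, 1, 1)] (.node [] (.node [] (.node [] .nil (.node [(42, 1, 1, 1)] (.node [(53, (-1), 1, 1)] .nil .nil) .nil)) (.node [] (.node [(35, 1, 1, 1)] .nil .nil) (.node [(46, 1, 1, 1)] .nil .nil))) (.node [] (.node [(15, (-1), 1, 1)] (.node [] (.node [] (.node [(71, (-1), 1, 1)] .nil .nil) .nil) .nil) (.node [(44, (-1), 1, 1)] (.node [(55, 1, 1, 1)] .nil .nil) .nil)) (.node [] (.node [(37, 1, 1, 1)] .nil .nil) (.node [(48, (-1), 1, 1)] .nil .nil)))) (.node [(11, (-1),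 1, 1)] (.node [(13, 1, 1, 1)] (.node [] (.node [(30, (-1), 1, 1)] .nil .nil) (.node [] .nil (.node [(62, 1, 1, 1)] .nil .nil))) (.node [] (.node [] (.node [(52, (-1), 1, 1)] .nil .nil) .nil) (.node [] .nil (.node [(69, 1, 1, 1)] .nil .nil)))) (.node [] (.node [] (.node [(32, 1, 1, 1)] (.node [(50, (-1), 1, 1)] .nil .nil) .nil) (.node [] .nil (.node [(67, (-1), 1, 1)] .nil .nil))) .nil)))
def C51 : List (ℕ × List (ℕ × ℤ)) := [(0, [(6, 1)]), (2, [(11, (-1))]), (4, [(13, 1)]), (9, [(15, (-1))]), (16, [(30, (-1))]), (18, [(32, 1)]), (19, [(35, 1)]), (21, [(37, 1)]), (23, [(42, 1)]), (25, [(44, (-1))]), (27, [(46, 1)]), (29, [(48, (-1))]), (34, [(50, (-1))]), (36, [(52, (-1))]), (39, [(53, (-1))]), (41, [(55, 1)]), (56, [(62, 1)]), (58, [(67, (-1))]), (60, [(69, 1)]), (65, [(71, (-1))])]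
def M52 : Tr (List (ℕ × ℤ × ℕ × ℕ)) := (.node [(7, (-1), 1, 1)] (.node [] (.node [(13, 1, 1, 1)] (.node [] .nil (.node [] (.node [(54, (-1), 1, 1)] .nil .nil) .nil)) (.node [] (.node [] (.node [(51, (-1), 1, 1)] .nil .nil) .nil) (.node [] .nil (.node [(69, (-1), 1, 1)] .nil .nil)))) (.node [] (.node [] (.node [(32, 1, 1, 1)] (.node [(50, (-1), 1, 1)] .nil .nil) .nil) (.node [(45, (-1), 1, 1)] .nil .nil)) (.node [] (.node [(38, 1, 1, 1)] .nil .nil) (.node [(49, (-1), 1, 1)] .nil .nil)))) (.node [(12, 1, 1, 1)] (.node [] (.node [(15, (-1), 1, 1)] (.node [(31, 1, 1, 1)] (.node [] (.node [(71, 1, 1, 1)] .nil .nil) .nil) .nil) (.node [] (.node [(55, (-1), 1, 1)] .nil .nil) (.node [(63, 1, 1, 1)] .nil .nil))) (.node [] (.node [(36, 1, 1, 1)] .nil .nil) .nil)) (.node [] (.node [] .nil (.node [(46, 1, 1, 1)] .nil (.node [(68, (-1), 1, 1)] .nil .nil))) (.node [] (.node [(42, 1, 1, 1)] .nil .nil) .nil))))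
def C52 : List (ℕ × List (ℕ × ℤ)) := [(0, [(7, (-1))]), (2, [(12, 1)]), (3, [(13, 1)]), (8, [(15, (-1))]), (16, [(31, 1)]), (17, [(32, 1)]), (20, [(36, 1)]), (21, [(38, 1)]), (22, [(42, 1)]), (25, [(45, (-1))]), (26, [(46, 1)]), (29, [(49, (-1))]), (33, [(50, (-1))]), (35, [(51, (-1))]), (39, [(54, (-1))]), (40, [(55, (-1))]), (56, [(63, 1)]), (58, [(68, (-1))]), (59, [(69, (-1))]), (64, [(71, 1)])]
def M53 : Tr (List (ℕ × ℤ × ℕ × ℕ)) := (.node [(8, (-1), 1, 1)] (.node [(11, (-1), 1, 1)] (.node [] (.node [(15, (-1), 1, 1)] (.node [] (.node [(50, 1, 1, 1)] (.node [(71, 1, 1, 1)] .nil .nil) .nil) .nil) (.node [(43, 1, 1, 1)] .nil .nil)) (.node [] .nil (.node [(47, 1, 1, 1)] .nil .nil))) (.node [] (.node [] (.node [(35, 1, 1, 1)] .nil .nil) (.node [] .nil (.node [(67, 1, 1, 1)] .nil .nil))) (.node [] (.node [(40, (-1), 1, 1)] .nil .nil) .nil))) (.node [] (.node [(14, (-1), 1, 1)] (.node [] (.node [(33, (-1),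 1, 1)] (.node [(51, (-1), 1, 1)] .nil .nil) .nil) (.node [(44, (-1), 1, 1)] .nil (.node [(64, 1, 1, 1)] .nil .nil))) (.node [] (.node [(39, 1, 1, 1)] (.node [(54, (-1), 1, 1)] .nil .nil) .nil) (.node [(48, (-1), 1, 1)] .nil (.node [(70, 1, 1, 1)] .nil .nil)))) (.node [] .nil (.node [] (.node [] (.node [(55, 1, 1, 1)] .nil .nil) .nil) .nil))))
def C53 : List (ℕ × List (ℕ × ℤ)) := [(0, [(8, (-1))]), (1, [(11, (-1))]), (4, [(14, (-1))]), (7, [(15, (-1))]), (16, [(33, (-1))]), (17, [(35, 1)]), (20, [(39, 1)]), (21, [(40, (-1))]), (23, [(43, 1)]), (24, [(44, (-1))]), (27, [(47, 1)]), (28, [(48, (-1))]), (31, [(50, 1)]), (32, [(51, (-1))]), (36, [(54, (-1))]), (38, [(55, 1)]), (56, [(64, 1)]), (57, [(67, 1)]), (60, [(70, 1)]), (63, [(71, 1)])]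
def M54 : Tr (List (ℕ × ℤ × ℕ × ℕ)) := (.node [(9, 1, 1, 1)] (.node [(12, 1, 1, 1)] (.node [(14, (-1), 1, 1)] .nil (.node [] (.node [(39, 1, 1, 1)] (.node [(53, (-1), 1, 1)] .nil .nil) .nil) (.node [] .nil (.node [(70, (-1), 1, 1)] .nil .nil)))) (.node [] (.node [] .nil (.node [] .nil (.node [(68, 1, 1, 1)] .nil .nil))) (.node [] (.node [(41, (-1), 1, 1)] (.node [(55, (-1), 1, 1)] .nil .nil) .nil) .nil))) (.node [] (.node [] (.node [] (.node [(34, 1, 1, 1)] (.node [(52, (-1), 1, 1)] .nil .nil) .nil) (.node [(45, (-1), 1, 1)] .nil (.node [(65, 1, 1, 1)] .nil .nil))) (.node [] .nil (.node [(49, (-1), 1, 1)] .nil .nil))) (.node [(15, (-1), 1, 1)] (.node [] (.node [(36, 1, 1, 1)] .nil .nil) (.node [(47, 1, 1, 1)] .nil .nil)) (.node [] (.node [(43, 1, 1, 1)] .nil .nil) (.node [(50, 1, 1, 1)] .nil (.node [(71, (-1), 1, 1)] .nil .nil))))))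
def C54 : List (ℕ × List (ℕ × ℤ)) := [(0, [(9, 1)]), (1, [(12, 1)]), (3, [(14, (-1))]), (6, [(15, (-1))]), (16, [(34, 1)]), (18, [(36, 1)]), (19, [(39, 1)]), (21, [(41, (-1))]), (22, [(43, 1)]), (24, [(45, (-1))]), (26, [(47, 1)]), (28, [(49, (-1))]), (30, [(50, 1)]), (32, [(52, (-1))]), (35, [(53, (-1))]), (37, [(55, (-1))]), (56, [(65, 1)]), (57, [(68, 1)]), (59, [(70, (-1))]), (62, [(71, (-1))])]
def M55 : Tr (List (ℕ × ℤ × ℕ × ℕ)) := (.node [(10, (-1), 1, 1)] (.node [(13, (-1), 1, 1)] (.node [] (.node [] (.node [] (.node [(52, (-1), 1, 1)] .nil .nil) .nil) (.node [(45, (-1), 1, 1)] .nil .nil)) (.node [] (.node [(40, 1, 1, 1)] .nil .nil) (.node [(49, (-1), 1, 1)] .nil .nil))) (.node [(15, (-1), 1, 1)] (.node [] (.node [(37, 1, 1, 1)] (.node [(53, 1, 1, 1)] .nil .nil) .nil) (.node [] .nil (.node [(69, 1, 1, 1)] .nil .nil))) (.node [] .nil (.node [] .nil (.node [(71, 1, 1, 1)] .nil .nil))))) (.node [(14,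 (-1), 1, 1)] (.node [] (.node [] .nil (.node [] .nil (.node [(66, 1, 1, 1)] .nil .nil))) (.node [] (.node [(41, (-1), 1, 1)] .nil .nil) .nil)) (.node [] (.node [] (.node [(38, (-1), 1, 1)] (.node [(54, (-1), 1, 1)] .nil .nil) .nil) (.node [(48, 1, 1, 1)] .nil (.node [(70, 1, 1, 1)] .nil .nil))) (.node [] (.node [(44, 1, 1, 1)] .nil .nil) (.node [(51, 1, 1, 1)] .nil .nil)))))
def C55 : List (ℕ × List (ℕ × ℤ)) := [(0, [(10, (-1))]), (1, [(13, (-1))]), (2, [(14, (-1))]), (5, [(15, (-1))]), (17, [(37, 1)]), (18, [(38, (-1))]), (19, [(40, 1)]), (20, [(41, (-1))]), (22, [(44, 1)]), (23, [(45, (-1))]), (26, [(48, 1)]), (27, [(49, (-1))]), (30, [(51, 1)]), (31, [(52, (-1))]), (33, [(53, 1)]), (34, [(54, (-1))]), (56, [(66, 1)]), (57, [(69, 1)]), (58, [(70, 1)]), (61, [(71, 1)])]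
def M56 : Tr (List (ℕ × ℤ × ℕ × ℕ)) := (.node [] (.node [] (.node [] (.node [(18, 1, 1, 1)] .nil (.node [] .nil (.node [(66, (-1), 1, 1)] .nil .nil))) (.node [(26, 1, 1, 1)] (.node [] .nil (.node [(62, (-1), 1, 1)] .nil .nil)) (.node [] (.node [(58, (-1), 1, 1)] .nil .nil) .nil))) (.node [(16, 1, 1, 1)] (.node [(20, 1, 1, 1)] .nil .nil) (.node [(28, 1, 1, 1)] (.node [] .nil (.node [(64, (-1), 1, 1)] .nil .nil)) (.node [] (.node [(60, (-1), 1, 1)] .nil .nil) .nil)))) (.node [] (.node [] (.node [(19, 1, 1, 1)] .nil .nil) (.node [(27, 1, 1, 1)] (.node [] .nil (.node [(63, (-1), 1, 1)] .nil .nil)) (.node [] (.node [(59, (-1), 1, 1)] .nil .nil) .nil))) (.node [(17, 1, 1, 1)] (.node [(21, 1, 1, 1)] (.node [] .nil (.node [(61, (-1), 1, 1)] .nil .nil)) (.node [] (.node [(57, (-1), 1, 1)] .nil .nil) .nil)) (.node [(29, 1, 1, 1)] (.node [] .nil (.node [(65, (-1), 1, 1)] .nil .nil)) .nil))))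
def C56 : List (ℕ × List (ℕ × ℤ)) := [(5, [(16, 1)]), (6, [(17, 1)]), (7, [(18, 1)]), (8, [(19, 1)]), (9, [(20, 1)]), (10, [(21, 1)]), (11, [(26, 1)]), (12, [(27, 1)]), (13, [(28, 1)]), (14, [(29, 1)]), (42, [(57, (-1))]), (43, [(58, (-1))]), (44, [(59, (-1))]), (45, [(60, (-1))]), (50, [(61, (-1))]), (51, [(62, (-1))]), (52, [(63, (-1))]), (53, [(64, (-1))]), (54, [(65, (-1))]), (55, [(66, (-1))])]
def M57 : Tr (List (ℕ × ℤ × ℕ × ℕ)) := (.node [] (.node [] (.node [(17, 1, 1, 1)] (.node [] (.node [(42, 1, 1, 1)] .nil (.node [(61, 1, 1, 1)] .nil .nil)) (.node [] (.node [(58, (-1), 1, 1)] .nil .nil) (.node [(69, (-1), 1, 1)] .nil .nil))) (.node [(30, 1, 1, 1)] .nil .nil)) (.node [] (.node [(23, (-1), 1, 1)] (.node [] .nil (.node [(63, 1, 1, 1)] .nil .nil)) (.node [] (.node [(60, (-1), 1, 1)] .nil .nil) .nil)) (.node [(32, 1, 1, 1)] (.node [] .nil (.node [(67, (-1), 1, 1)] .nil .nil)) (.node [(56, (-1), 1, 1)]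 .nil .nil)))) (.node [(16, 1, 1, 1)] (.node [(18, 1, 1, 1)] (.node [(22, (-1), 1, 1)] (.node [] .nil (.node [(62, 1, 1, 1)] .nil .nil)) (.node [] (.node [(59, (-1), 1, 1)] .nil .nil) .nil)) (.node [(31, 1, 1, 1)] .nil .nil)) (.node [] (.node [(24, (-1), 1, 1)] .nil .nil) (.node [] (.node [] .nil (.node [(68, (-1), 1, 1)] .nil .nil)) .nil))))
def C57 : List (ℕ × List (ℕ × ℤ)) := [(2, [(16, 1)]), (3, [(17, 1)]), (4, [(18, 1)]), (8, [(22, (-1))]), (9, [(23, (-1))]), (10, [(24, (-1))]), (11, [(30, 1)]), (12, [(31, 1)]), (13, [(32, 1)]), (15, [(42, 1)]), (29, [(56, (-1))]), (39, [(58, (-1))]), (40, [(59, (-1))]), (41, [(60, (-1))]), (47, [(61, 1)]), (48, [(62, 1)]), (49, [(63, 1)]), (53, [(67, (-1))]), (54, [(68, (-1))]), (55, [(69, (-1))])]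
def M58 : Tr (List (ℕ × ℤ × ℕ × ℕ)) := (.node [] (.node [(16, 1, 1, 1)] (.node [(19, (-1), 1, 1)] (.node [(23, (-1), 1, 1)] (.node [(43, 1, 1, 1)] .nil .nil) (.node [] .nil (.node [(70, (-1), 1, 1)] .nil .nil))) (.node [(33, 1, 1, 1)] (.node [] .nil (.node [(67, 1, 1, 1)] .nil .nil)) .nil)) (.node [] (.node [] (.node [] .nil (.node [(65, 1, 1, 1)] .nil .nil)) .nil) (.node [] (.node [] (.node [(59, (-1), 1, 1)] .nil .nil) .nil) .nil))) (.node [] (.node [(20, (-1), 1, 1)] (.node [] (.node [] (.node [(57, (-1), 1, 1)] .nil .nil) (.node [(64, 1, 1, 1)] .nil .nil)) .nil) (.node [(34, 1, 1, 1)] (.node [] .nil (.node [(68, 1, 1, 1)] .nil .nil)) (.node [(56, (-1), 1, 1)] .nil .nil))) (.node [(22, (-1), 1, 1)] (.node [(25, 1, 1, 1)] .nil .nil) (.node [(39, 1, 1, 1)] (.node [] (.node [(60, (-1), 1, 1)] .nil .nil) .nil) (.node [] (.node [(61, (-1), 1, 1)] .nil .nil) .nil)))))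
def C58 : List (ℕ × List (ℕ × ℤ)) := [(1, [(16, 1)]), (3, [(19, (-1))]), (4, [(20, (-1))]), (6, [(22, (-1))]), (7, [(23, (-1))]), (10, [(25, 1)]), (11, [(33, 1)]), (12, [(34, 1)]), (14, [(39, 1)]), (15, [(43, 1)]), (28, [(56, (-1))]), (32, [(57, (-1))]), (37, [(59, (-1))]), (38, [(60, (-1))]), (46, [(61, (-1))]), (48, [(64, 1)]), (49, [(65, 1)]), (51, [(67, 1)]), (52, [(68, 1)]), (55, [(70, (-1))])]
def M59 : Tr (List (ℕ × ℤ × ℕ × ℕ)) := (.node [] (.node [(17, (-1), 1, 1)] (.node [] (.node [(24, 1, 1, 1)] (.node [(44, 1, 1, 1)] (.node [(57, (-1), 1, 1)] .nil .nil) (.node [(64, (-1), 1, 1)] .nil .nil)) .nil) (.node [(35, 1, 1, 1)] .nil (.node [(56, (-1), 1, 1)] .nil .nil))) (.node [(22, (-1), 1, 1)] (.node [(25, 1, 1, 1)] (.node [] .nil (.node [(66, 1, 1, 1)] .nil .nil)) .nil) (.node [(37, 1, 1, 1)] .nil .nil))) (.node [(19, (-1), 1, 1)] (.node [(21, 1, 1, 1)] .nil (.node [] (.node [] (.node [(60, (-1), 1,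 1)] .nil .nil) (.node [(69, 1, 1, 1)] .nil .nil)) .nil)) (.node [] (.node [] (.node [] (.node [(58, (-1), 1, 1)] .nil .nil) (.node [(67, (-1), 1, 1)] .nil .nil)) .nil) (.node [(40, 1, 1, 1)] (.node [] .nil (.node [(70, 1, 1, 1)] .nil .nil)) (.node [] (.node [(62, (-1), 1, 1)] .nil .nil) .nil)))))
def C59 : List (ℕ × List (ℕ × ℤ)) := [(1, [(17, (-1))]), (2, [(19, (-1))]), (4, [(21, 1)]), (5, [(22, (-1))]), (7, [(24, 1)]), (9, [(25, 1)]), (11, [(35, 1)]), (13, [(37, 1)]), (14, [(40, 1)]), (15, [(44, 1)]), (27, [(56, (-1))]), (31, [(57, (-1))]), (34, [(58, (-1))]), (36, [(60, (-1))]), (46, [(62, (-1))]), (47, [(64, (-1))]), (49, [(66, 1)]), (50, [(67, (-1))]), (52, [(69, 1)]), (54, [(70, 1)])]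
def M60 : Tr (List (ℕ × ℤ × ℕ × ℕ)) := (.node [] (.node [(18, 1, 1, 1)] (.node [(21, 1, 1, 1)] (.node [] (.node [(45, 1, 1, 1)] .nil (.node [(65, (-1), 1, 1)] .nil .nil)) .nil) (.node [] (.node [] (.node [(59, (-1), 1, 1)] .nil .nil) (.node [(69, (-1), 1, 1)] .nil .nil)) .nil)) (.node [(23, 1, 1, 1)] (.node [] (.node [] (.node [(58, (-1), 1, 1)] .nil .nil) .nil) .nil) (.node [(38, 1, 1, 1)] (.node [] .nil (.node [(70, (-1), 1, 1)] .nil .nil)) .nil))) (.node [(20, 1, 1, 1)] (.node [] (.node [(25, 1, 1, 1)] (.node [] .nil (.node [(66, (-1), 1, 1)] .nil .nil)) .nil) (.node [(36, 1, 1, 1)] .nil .nil)) (.node [(24, 1, 1, 1)] (.node [] (.node [] .nil (.node [(68, (-1), 1, 1)] .nil .nil)) (.node [(56, (-1), 1, 1)] .nil .nil)) (.node [(41, 1, 1, 1)] .nil (.node [(57, (-1), 1, 1)] (.node [(63, (-1), 1, 1)] .nil .nil) .nil)))))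
def C60 : List (ℕ × List (ℕ × ℤ)) := [(1, [(18, 1)]), (2, [(20, 1)]), (3, [(21, 1)]), (5, [(23, 1)]), (6, [(24, 1)]), (8, [(25, 1)]), (12, [(36, 1)]), (13, [(38, 1)]), (14, [(41, 1)]), (15, [(45, 1)]), (26, [(56, (-1))]), (30, [(57, (-1))]), (33, [(58, (-1))]), (35, [(59, (-1))]), (46, [(63, (-1))]), (47, [(65, (-1))]), (48, [(66, (-1))]), (50, [(68, (-1))]), (51, [(69, (-1))]), (53, [(70, (-1))])]
def M61 : Tr (List (ℕ × ℤ × ℕ × ℕ)) := (.node [(16, 1, 1, 1)] (.node [] (.node [(26, 1, 1, 1)] (.node [(31, (-1), 1, 1)] (.node [(50, 1, 1, 1)] .nil .nil) (.node [] .nil (.node [(71, (-1), 1, 1)] .nil .nil))) .nil) (.node [] (.node [(34, 1, 1, 1)] .nil (.node [(58, (-1), 1, 1)] (.node [(65, 1, 1, 1)] .nil .nil) .nil)) (.node [(46, 1, 1, 1)] (.node [(56, (-1), 1, 1)] (.node [(62, (-1), 1, 1)] .nil .nil) .nil) (.node [] (.node [(68, (-1), 1, 1)] .nil .nil) .nil)))) (.node [] (.node [(27, 1, 1, 1)] (.node [(33, 1,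 1, 1)] .nil (.node [(57, 1, 1, 1)] (.node [(64, 1, 1, 1)] .nil .nil) .nil)) (.node [] .nil (.node [] (.node [(67, (-1), 1, 1)] .nil .nil) .nil))) (.node [(30, (-1), 1, 1)] .nil (.node [(47, (-1), 1, 1)] (.node [] (.node [(63, (-1), 1, 1)] .nil .nil) .nil) .nil))))
def C61 : List (ℕ × List (ℕ × ℤ)) := [(0, [(16, 1)]), (3, [(26, 1)]), (4, [(27, 1)]), (6, [(30, (-1))]), (7, [(31, (-1))]), (8, [(33, 1)]), (9, [(34, 1)]), (13, [(46, 1)]), (14, [(47, (-1))]), (15, [(50, 1)]), (21, [(56, (-1))]), (24, [(57, 1)]), (25, [(58, (-1))]), (37, [(62, (-1))]), (38, [(63, (-1))]), (40, [(64, 1)]), (41, [(65, 1)]), (44, [(67, (-1))]), (45, [(68, (-1))]), (55, [(71, (-1))])]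
def M62 : Tr (List (ℕ × ℤ × ℕ × ℕ)) := (.node [(17, (-1), 1, 1)] (.node [] (.node [] (.node [(32, 1, 1, 1)] (.node [(51, 1, 1, 1)] .nil .nil) (.node [(57, 1, 1, 1)] (.node [(64, (-1), 1, 1)] .nil .nil) .nil)) (.node [] .nil (.node [] (.node [(67, 1, 1, 1)] .nil .nil) .nil))) (.node [(30, (-1), 1, 1)] (.node [] .nil (.node [(59, (-1), 1, 1)] (.node [(66, 1, 1, 1)] .nil .nil) .nil)) (.node [] .nil (.node [] (.node [(69, (-1), 1, 1)] .nil .nil) .nil)))) (.node [(26, 1, 1, 1)] (.node [(28, (-1), 1, 1)] (.node [(35, 1, 1, 1)] .nil .nil) (.node [(46, 1, 1, 1)] (.node [(56, (-1), 1, 1)] (.node [(63, (-1), 1, 1)] .nil .nil) .nil) .nil)) (.node [] (.node [(37, 1, 1, 1)] (.node [] (.node [(61, (-1), 1, 1)] .nil .nil) .nil) .nil) (.node [(48, (-1), 1, 1)] (.node [] .nil (.node [(71, 1, 1, 1)] .nil .nil)) .nil))))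
def C62 : List (ℕ × List (ℕ × ℤ)) := [(0, [(17, (-1))]), (2, [(26, 1)]), (4, [(28, (-1))]), (5, [(30, (-1))]), (7, [(32, 1)]), (8, [(35, 1)]), (10, [(37, 1)]), (12, [(46, 1)]), (14, [(48, (-1))]), (15, [(51, 1)]), (20, [(56, (-1))]), (23, [(57, 1)]), (25, [(59, (-1))]), (34, [(61, (-1))]), (36, [(63, (-1))]), (39, [(64, (-1))]), (41, [(66, 1)]), (43, [(67, 1)]), (45, [(69, (-1))]), (54, [(71, 1)])]
def M63 : Tr (List (ℕ × ℤ × ℕ × ℕ)) := (.node [(18, 1, 1, 1)] (.node [] (.node [(28, (-1), 1, 1)] (.node [] (.node [(52, 1, 1, 1)] .nil .nil) (.node [] (.node [(65, (-1), 1, 1)] .nil .nil) .nil)) (.node [(46, 1, 1, 1)] (.node [(56, (-1), 1, 1)] (.node [(62, (-1), 1, 1)] .nil .nil) .nil) (.node [] (.node [(68, 1, 1, 1)] .nil .nil) .nil))) (.node [(31, 1, 1, 1)] (.node [(36, 1, 1, 1)] (.node [] (.node [(61, (-1), 1, 1)] .nil .nil) .nil) (.node [(60, (-1), 1, 1)] .nil .nil)) (.node [] (.node [] .nil (.node [(71, (-1),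 1, 1)] .nil .nil)) .nil))) (.node [(27, (-1), 1, 1)] (.node [] (.node [] .nil (.node [] (.node [(66, (-1), 1, 1)] .nil .nil) .nil)) (.node [] .nil (.node [] (.node [(69, 1, 1, 1)] .nil .nil) .nil))) (.node [(32, 1, 1, 1)] (.node [(38, 1, 1, 1)] .nil .nil) (.node [(49, (-1), 1, 1)] (.node [(57, 1, 1, 1)] .nil .nil) .nil))))
def C63 : List (ℕ × List (ℕ × ℤ)) := [(0, [(18, 1)]), (2, [(27, (-1))]), (3, [(28, (-1))]), (5, [(31, 1)]), (6, [(32, 1)]), (9, [(36, 1)]), (10, [(38, 1)]), (11, [(46, 1)]), (14, [(49, (-1))]), (15, [(52, 1)]), (19, [(56, (-1))]), (22, [(57, 1)]), (25, [(60, (-1))]), (33, [(61, (-1))]), (35, [(62, (-1))]), (39, [(65, (-1))]), (40, [(66, (-1))]), (43, [(68, 1)]), (44, [(69, 1)]), (53, [(71, (-1))])]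
def M64 : Tr (List (ℕ × ℤ × ℕ × ℕ)) := (.node [(19, 1, 1, 1)] (.node [(26, 1, 1, 1)] (.node [] (.node [] (.node [(53, 1, 1, 1)] (.node [(61, 1, 1, 1)] .nil .nil) .nil) (.node [(58, 1, 1, 1)] .nil .nil)) .nil) (.node [(33, (-1), 1, 1)] (.node [(39, 1, 1, 1)] .nil .nil) (.node [(48, (-1), 1, 1)] .nil (.node [] (.node [(70, (-1), 1, 1)] .nil .nil) .nil)))) (.node [] (.node [(29, 1, 1, 1)] (.node [] (.node [] (.node [(62, (-1), 1, 1)] .nil .nil) .nil) (.node [(59, (-1), 1, 1)] .nil .nil)) (.node [(47, 1, 1, 1)] (.node [] (.node [(65, (-1), 1, 1)] .nil .nil) (.node [(71, (-1), 1, 1)] .nil .nil)) .nil)) (.node [(35, 1, 1, 1)] (.node [(40, (-1), 1, 1)] (.node [(56, (-1), 1, 1)] .nil .nil) (.node [] (.node [(67, (-1), 1, 1)] .nil .nil) .nil)) (.node [] (.node [] (.node [(66, 1, 1, 1)] .nil .nil) .nil) .nil))))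
def C64 : List (ℕ × List (ℕ × ℤ)) := [(0, [(19, 1)]), (1, [(26, 1)]), (4, [(29, 1)]), (5, [(33, (-1))]), (6, [(35, 1)]), (9, [(39, 1)]), (10, [(40, (-1))]), (12, [(47, 1)]), (13, [(48, (-1))]), (15, [(53, 1)]), (18, [(56, (-1))]), (23, [(58, 1)]), (24, [(59, (-1))]), (31, [(61, 1)]), (32, [(62, (-1))]), (36, [(65, (-1))]), (38, [(66, 1)]), (42, [(67, (-1))]), (45, [(70, (-1))]), (52, [(71, (-1))])]
def M65 : Tr (List (ℕ × ℤ × ℕ × ℕ)) := (.node [(20, (-1), 1, 1)] (.node [(27, (-1), 1, 1)] (.node [(29, 1, 1, 1)] (.node [(36, 1, 1, 1)] (.node [(54, 1, 1, 1)] .nil .nil) .nil) (.node [(47, 1, 1, 1)] (.node [] (.node [(64, (-1), 1, 1)] .nil .nil) (.node [(71, 1, 1, 1)] .nil .nil)) .nil)) (.node [(34, 1, 1, 1)] (.node [] (.node [(56, (-1), 1, 1)] .nil .nil) .nil) (.node [(49, (-1), 1, 1)] (.node [] (.node [(66, (-1), 1, 1)] .nil .nil) .nil) .nil))) (.node [] (.node [] (.node [(39, 1, 1, 1)] (.node [] (.node [(63,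 (-1), 1, 1)] .nil .nil) .nil) (.node [(60, (-1), 1, 1)] .nil .nil)) (.node [] .nil (.node [] (.node [(70, 1, 1, 1)] .nil .nil) .nil))) (.node [] (.node [(41, (-1), 1, 1)] .nil (.node [] (.node [(68, (-1), 1, 1)] .nil .nil) .nil)) (.node [] (.node [(58, 1, 1, 1)] .nil .nil) (.node [(61, 1, 1, 1)] .nil .nil)))))
def C65 : List (ℕ × List (ℕ × ℤ)) := [(0, [(20, (-1))]), (1, [(27, (-1))]), (3, [(29, 1)]), (5, [(34, 1)]), (7, [(36, 1)]), (8, [(39, 1)]), (10, [(41, (-1))]), (11, [(47, 1)]), (13, [(49, (-1))]), (15, [(54, 1)]), (17, [(56, (-1))]), (22, [(58, 1)]), (24, [(60, (-1))]), (30, [(61, 1)]), (32, [(63, (-1))]), (35, [(64, (-1))]), (37, [(66, (-1))]), (42, [(68, (-1))]), (44, [(70, 1)]), (51, [(71, 1)])]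
def M66 : Tr (List (ℕ × ℤ × ℕ × ℕ)) := (.node [(21, 1, 1, 1)] (.node [(28, 1, 1, 1)] (.node [] (.node [(38, (-1), 1, 1)] (.node [(55, 1, 1, 1)] (.node [(63, (-1), 1, 1)] .nil .nil) .nil) (.node [(60, (-1), 1, 1)] .nil .nil)) (.node [(48, 1, 1, 1)] .nil (.node [] (.node [(70, (-1), 1, 1)] .nil .nil) .nil))) (.node [] (.node [(41, (-1), 1, 1)] (.node [] (.node [(64, 1, 1, 1)] .nil .nil) .nil) .nil) .nil)) (.node [(29, 1, 1, 1)] (.node [] (.node [(40, 1, 1, 1)] (.node [(56, (-1), 1, 1)] .nil .nil) .nil) (.node [(49, (-1), 1, 1)] .nil .nil)) (.node [(37, 1, 1, 1)] (.node [] (.node [] (.node [(65, (-1), 1, 1)] .nil .nil) (.node [(71, (-1), 1, 1)] .nil .nil)) (.node [] (.node [(69, (-1), 1, 1)] .nil .nil) .nil)) (.node [] (.node [(59, 1, 1, 1)] .nil .nil) (.node [(62, 1, 1, 1)] .nil .nil)))))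
def C66 : List (ℕ × List (ℕ × ℤ)) := [(0, [(21, 1)]), (1, [(28, 1)]), (2, [(29, 1)]), (6, [(37, 1)]), (7, [(38, (-1))]), (8, [(40, 1)]), (9, [(41, (-1))]), (11, [(48, 1)]), (12, [(49, (-1))]), (15, [(55, 1)]), (16, [(56, (-1))]), (22, [(59, 1)]), (23, [(60, (-1))]), (30, [(62, 1)]), (31, [(63, (-1))]), (33, [(64, 1)]), (34, [(65, (-1))]), (42, [(69, (-1))]), (43, [(70, (-1))]), (50, [(71, (-1))])]
def M67 : Tr (List (ℕ × ℤ × ℕ × ℕ)) := (.node [(22, (-1), 1, 1)] (.node [(30, 1, 1, 1)] (.node [(35, 1, 1, 1)] (.node [(42, 1, 1, 1)] .nil .nil) (.node [] .nil (.node [(61, (-1), 1, 1)] .nil .nil))) (.node [] (.node [(43, (-1), 1, 1)] (.node [] .nil (.node [(71, 1, 1, 1)] .nil .nil)) (.node [] (.node [(70, (-1), 1, 1)] .nil .nil) .nil)) (.node [(51, (-1), 1, 1)] (.node [(59, (-1), 1, 1)] .nil .nil) (.node [(64, (-1), 1, 1)] .nil .nil)))) (.node [(33, (-1), 1, 1)] (.node [] .nil (.node [(50, 1, 1, 1)] (.node [(58,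 1, 1, 1)] (.node [(68, (-1), 1, 1)] .nil .nil) .nil) (.node [(62, 1, 1, 1)] .nil .nil))) (.node [] (.node [(44, 1, 1, 1)] (.node [(57, (-1), 1, 1)] .nil .nil) .nil) (.node [(53, 1, 1, 1)] (.node [] (.node [(69, 1, 1, 1)] .nil .nil) .nil) .nil))))
def C67 : List (ℕ × List (ℕ × ℤ)) := [(0, [(22, (-1))]), (1, [(30, 1)]), (2, [(33, (-1))]), (3, [(35, 1)]), (7, [(42, 1)]), (9, [(43, (-1))]), (10, [(44, 1)]), (12, [(50, 1)]), (13, [(51, (-1))]), (14, [(53, 1)]), (18, [(57, (-1))]), (20, [(58, 1)]), (21, [(59, (-1))]), (27, [(61, (-1))]), (28, [(62, 1)]), (29, [(64, (-1))]), (36, [(68, (-1))]), (38, [(69, 1)]), (41, [(70, (-1))]), (49, [(71, 1)])]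
def M68 : Tr (List (ℕ × ℤ × ℕ × ℕ)) := (.node [(23, 1, 1, 1)] (.node [(31, (-1), 1, 1)] (.node [] .nil (.node [(50, 1, 1, 1)] (.node [(58, 1, 1, 1)] (.node [(67, (-1), 1, 1)] .nil .nil) .nil) .nil)) (.node [] (.node [] (.node [(57, (-1), 1, 1)] .nil .nil) .nil) (.node [(52, (-1), 1, 1)] (.node [(60, (-1), 1, 1)] (.node [(69, (-1), 1, 1)] .nil .nil) .nil) (.node [(65, (-1), 1, 1)] .nil .nil)))) (.node [(34, 1, 1, 1)] (.node [(36, 1, 1, 1)] (.node [(43, (-1), 1, 1)] (.node [] .nil (.node [(71, (-1), 1, 1)] .nil .nil)) (.node [] (.node [(70, 1, 1, 1)] .nil .nil) .nil)) (.node [] .nil (.node [(63, 1, 1, 1)] .nil .nil))) (.node [(42, 1, 1, 1)] (.node [(45, 1, 1, 1)] .nil (.node [(61, (-1), 1, 1)] .nil .nil)) (.node [(54, 1, 1, 1)] .nil .nil))))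
def C68 : List (ℕ × List (ℕ × ℤ)) := [(0, [(23, 1)]), (1, [(31, (-1))]), (2, [(34, 1)]), (4, [(36, 1)]), (6, [(42, 1)]), (8, [(43, (-1))]), (10, [(45, 1)]), (11, [(50, 1)]), (13, [(52, (-1))]), (14, [(54, 1)]), (17, [(57, (-1))]), (19, [(58, 1)]), (21, [(60, (-1))]), (26, [(61, (-1))]), (28, [(63, 1)]), (29, [(65, (-1))]), (35, [(67, (-1))]), (37, [(69, (-1))]), (40, [(70, 1)]), (48, [(71, (-1))])]
def M69 : Tr (List (ℕ × ℤ × ℕ × ℕ)) := (.node [(24, (-1), 1, 1)] (.node [(32, 1, 1, 1)] (.node [(37, 1, 1, 1)] (.node [] (.node [] .nil (.node [(71, 1, 1, 1)] .nil .nil)) (.node [] (.node [(70, (-1), 1, 1)] .nil .nil) .nil)) (.node [(51, 1, 1, 1)] (.node [(59, 1, 1, 1)] .nil .nil) (.node [(63, 1, 1, 1)] .nil .nil))) (.node [(42, 1, 1, 1)] (.node [(45, 1, 1, 1)] (.node [] (.node [(67, 1, 1, 1)] .nil .nil) .nil) .nil) (.node [] .nil (.node [(66, (-1), 1, 1)] .nil .nil)))) (.node [] (.node [(38, (-1), 1, 1)] (.node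 [(44, (-1), 1, 1)] (.node [(57, (-1), 1, 1)] .nil .nil) .nil) (.node [(52, (-1), 1, 1)] (.node [(60, (-1), 1, 1)] .nil .nil) .nil)) (.node [] (.node [] (.node [] (.node [(68, (-1), 1, 1)] .nil .nil) .nil) (.node [(62, (-1), 1, 1)] .nil .nil)) (.node [(55, 1, 1, 1)] .nil .nil))))
def C69 : List (ℕ × List (ℕ × ℤ)) := [(0, [(24, (-1))]), (1, [(32, 1)]), (3, [(37, 1)]), (4, [(38, (-1))]), (5, [(42, 1)]), (8, [(44, (-1))]), (9, [(45, 1)]), (11, [(51, 1)]), (12, [(52, (-1))]), (14, [(55, 1)]), (16, [(57, (-1))]), (19, [(59, 1)]), (20, [(60, (-1))]), (26, [(62, (-1))]), (27, [(63, 1)]), (29, [(66, (-1))]), (33, [(67, 1)]), (34, [(68, (-1))]), (39, [(70, (-1))]), (47, [(71, 1)])]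
def M70 : Tr (List (ℕ × ℤ × ℕ × ℕ)) := (.node [(25, 1, 1, 1)] (.node [] (.node [(40, (-1), 1, 1)] (.node [(45, 1, 1, 1)] (.node [] (.node [(68, 1, 1, 1)] .nil .nil) .nil) .nil) (.node [(53, 1, 1, 1)] .nil (.node [(65, 1, 1, 1)] .nil .nil))) (.node [(43, 1, 1, 1)] (.node [] (.node [(59, 1, 1, 1)] .nil .nil) .nil) (.node [(55, 1, 1, 1)] .nil .nil))) (.node [(39, 1, 1, 1)] (.node [(41, 1, 1, 1)] (.node [] (.node [(58, (-1), 1, 1)] (.node [(69, (-1), 1, 1)] .nil .nil) .nil) .nil) (.node [(54, (-1), 1, 1)] .nil (.node [(66, (-1), 1, 1)] .nil .nil))) (.node [(44, (-1), 1, 1)] (.node [] (.node [(60, (-1), 1, 1)] .nil .nil) (.node [(64, (-1), 1, 1)] .nil .nil)) (.node [] .nil (.node [(67, (-1), 1, 1)] (.node [(71, (-1), 1, 1)] .nil .nil) .nil)))))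
def C70 : List (ℕ × List (ℕ × ℤ)) := [(0, [(25, 1)]), (2, [(39, 1)]), (3, [(40, (-1))]), (4, [(41, 1)]), (5, [(43, 1)]), (6, [(44, (-1))]), (7, [(45, 1)]), (11, [(53, 1)]), (12, [(54, (-1))]), (13, [(55, 1)]), (16, [(58, (-1))]), (17, [(59, 1)]), (18, [(60, (-1))]), (26, [(64, (-1))]), (27, [(65, 1)]), (28, [(66, (-1))]), (30, [(67, (-1))]), (31, [(68, 1)]), (32, [(69, (-1))]), (46, [(71, (-1))])]
def M71 : Tr (List (ℕ × ℤ × ℕ × ℕ)) := (.node [] (.node [(46, 1, 1, 1)] (.node [(48, 1, 1, 1)] (.node [(52, 1, 1, 1)] .nil (.node [(68, (-1), 1, 1)] .nil .nil)) (.node [] (.node [(64, (-1), 1, 1)] .nil .nil) .nil)) (.node [(50, 1, 1, 1)] (.node [(54, (-1), 1, 1)] (.node [(62, 1, 1, 1)] .nil .nil) (.node [(70, (-1), 1, 1)] .nil .nil)) (.node [] (.node [(66, (-1), 1, 1)] .nil .nil) .nil))) (.node [(47, (-1), 1, 1)] (.node [(49, (-1), 1, 1)] (.node [(53, 1, 1, 1)] (.node [(61, (-1), 1, 1)] .nil .nil) (.node [(69, 1,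 1, 1)] .nil .nil)) (.node [] (.node [(65, 1, 1, 1)] .nil .nil) .nil)) (.node [(51, (-1), 1, 1)] (.node [(55, 1, 1, 1)] (.node [(63, (-1), 1, 1)] .nil .nil) .nil) (.node [] (.node [(67, 1, 1, 1)] .nil .nil) .nil))))
def C71 : List (ℕ × List (ℕ × ℤ)) := [(1, [(46, 1)]), (2, [(47, (-1))]), (3, [(48, 1)]), (4, [(49, (-1))]), (5, [(50, 1)]), (6, [(51, (-1))]), (7, [(52, 1)]), (8, [(53, 1)]), (9, [(54, (-1))]), (10, [(55, 1)]), (16, [(61, (-1))]), (17, [(62, 1)]), (18, [(63, (-1))]), (19, [(64, (-1))]), (20, [(65, 1)]), (21, [(66, (-1))]), (22, [(67, 1)]), (23, [(68, (-1))]), (24, [(69, 1)]), (25, [(70, (-1))])]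
set_option maxRecDepth 20000 in
def T : Tabs where
  X := (.node X0 (.node X1 (.node X3 (.node X7 (.node X15 (.node X31 (.node X63 .nil .nil) .nil) (.node X47 .nil .nil)) (.node X23 (.node X39 (.node X71 .nil .nil) .nil) (.node X55 .nil .nil))) (.node X11 (.node X19 (.node X35 (.node X67 .nil .nil) .nil) (.node X51 .nil .nil)) (.node X27 (.node X43 .nil .nil) (.node X59 .nil .nil)))) (.node X5 (.node X9 (.node X17 (.node X33 (.node X65 .nil .nil) .nil) (.node X49 .nil .nil)) (.node X25 (.node X41 .nil .nil) (.node X57 .nil .nil))) (.node X13 (.node X21 (.node X37 (.node X69 .nil .nil) .nil) (.node X53 .nil .nil)) (.node X29 (.node X45 .nil .nil) (.node X61 .nil .nil))))) (.node X2 (.node X4 (.node X8 (.node X16 (.node X32 (.node X64 .nil .nil) .nil) (.node X48 .nil .nil)) (.node X24 (.node X40 .nil .nil) (.node X56 .nil .nil))) (.node X12 (.node X20 (.node X36 (.node X68 .nil .nil) .nil) (.node X52 .nil .nil))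 (.node X28 (.node X44 .nil .nil) (.node X60 .nil .nil)))) (.node X6 (.node X10 (.node X18 (.node X34 (.node X66 .nil .nil) .nil) (.node X50 .nil .nil)) (.node X26 (.node X42 .nil .nil) (.node X58 .nil .nil))) (.node X14 (.node X22 (.node X38 (.node X70 .nil .nil) .nil) (.node X54 .nil .nil)) (.node X30 (.node X46 .nil .nil) (.node X62 .nil .nil))))))
  ht := (.node (-11) (.node (-10) (.node (-8) (.node (-6) (.node (-1) (.node (-2) (.node 6 .nil .nil) .nil) (.node 2 .nil .nil)) (.node (-3) (.node 1 (.node 11 .nil .nil) .nil) (.node 7 .nil .nil))) (.node (-5) (.node (-5) (.node (-1) (.node 7 .nil .nil) .nil) (.node 4 .nil .nil)) (.node (-3) (.node 2 .nil .nil) (.node 4 .nil .nil)))) (.node (-8) (.node (-5) (.node (-6) (.node (-2) (.node 7 .nil .nil) .nil) (.node 4 .nil .nil)) (.node (-1) (.node 3 .nil .nil) (.node 2 .nil .nil))) (.node (-3) (.node (-3) (.node 1 (.node 9 .nil .nil) .nil) (.node 5 .nil .nil))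 (.node (-1) (.node 4 .nil .nil) (.node 4 .nil .nil))))) (.node (-9) (.node (-7) (.node (-6) (.node (-7) (.node (-1) (.node 6 .nil .nil) .nil) (.node 3 .nil .nil)) (.node (-2) (.node 2 .nil .nil) (.node 1 .nil .nil))) (.node (-4) (.node (-4) (.node 1 (.node 8 .nil .nil) .nil) (.node 5 .nil .nil)) (.node (-2) (.node 3 .nil .nil) (.node 5 .nil .nil)))) (.node (-7) (.node (-4) (.node (-5) (.node (-1) (.node 8 .nil .nil) .nil) (.node 3 .nil .nil)) (.node (-4) (.node 1 .nil .nil) (.node 3 .nil .nil))) (.node (-2) (.node (-4) (.node 2 (.node 10 .nil .nil) .nil) (.node 6 .nil .nil)) (.node (-3) (.node 1 .nil .nil) (.node 5 .nil .nil))))))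
  rf := (.node (.node (0, 1) (.node (1, 1) (.node (3, 1) (.node (18, 1) (.node (56, (-1)) (.node (31, 1) (.node (52, 1) .nil .nil) .nil) (.node (47, 1) .nil .nil)) (.node (23, 1) (.node (39, 1) (.node (71, 1) .nil .nil) .nil) (.node (66, (-1)) .nil .nil))) (.node (26, 1) (.node (8, (-1)) (.node (35, 1) (.node (67, 1) .nil .nil) .nil) (.node (62, (-1)) .nil .nil)) (.node (12, (-1)) (.node (58, (-1)) .nil .nil) (.node (44, 1) .nil .nil)))) (.node (16, 1) (.node (20, 1) (.node (6, (-1)) (.node (33, 1) (.node (54, 1) .nil .nil) .nil) (.node (49, 1) .nil .nil)) (.node (25, 1) (.node (41, 1) .nil .nil) (.node (42, 1) .nil .nil))) (.node (28, 1) (.node (10, (-1)) (.node (37, 1) (.node (69, 1) .nil .nil) .nil) (.node (64, (-1)) .nil .nil)) (.node (14, (-1)) (.node (60, (-1)) .nil .nil) (.node (50, 1) .nil .nil))))) (.node (2, 1) (.node (4, 1) (.node (19, 1) (.node (5, (-1)) (.node (32, 1) (.node (53, 1) .nil .nil)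 .nil) (.node (48, 1) .nil .nil)) (.node (24, 1) (.node (40, 1) .nil .nil) (.node (15, (-1)) .nil .nil))) (.node (27, 1) (.node (9, (-1)) (.node (36, 1) (.node (68, 1) .nil .nil) .nil) (.node (63, (-1)) .nil .nil)) (.node (13, (-1)) (.node (59, (-1)) .nil .nil) (.node (45, 1) .nil .nil)))) (.node (17, 1) (.node (21, 1) (.node (7, (-1)) (.node (34, 1) (.node (55, 1) .nil .nil) .nil) (.node (61, (-1)) .nil .nil)) (.node (11, (-1)) (.node (57, (-1)) .nil .nil) (.node (43, 1) .nil .nil))) (.node (29, 1) (.node (22, 1) (.node (38, 1) (.node (70, 1) .nil .nil) .nil) (.node (65, (-1)) .nil .nil)) (.node (30, 1) (.node (46, 1) .nil .nil) (.node (51, 1) .nil .nil)))))) (.node (.node (1, (-1)) (.node (0, 1) (.node (3, 1) (.node (7, 1) (.node (15, 1) (.node (23, (-1)) (.node (60, (-1)) .nil .nil) .nil) (.node (39, 1) .nil .nil)) (.node (31, 1) (.node (47, (-1)) (.node (70, (-1)) .nil .nil) .nil) (.node (55, 1) .nil .nil)))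 (.node (8, 1) (.node (26, (-1)) (.node (35, 1) (.node (67, 1) .nil .nil) .nil) (.node (44, (-1)) .nil .nil)) (.node (20, 1) (.node (50, 1) .nil .nil) (.node (62, 1) .nil .nil)))) (.node (5, 1) (.node (12, (-1)) (.node (17, 1) (.node (33, 1) (.node (65, 1) .nil .nil) .nil) (.node (41, 1) .nil .nil)) (.node (46, (-1)) (.node (49, (-1)) .nil .nil) (.node (57, 1) .nil .nil))) (.node (10, 1) (.node (28, (-1)) (.node (37, 1) (.node (69, 1) .nil .nil) .nil) (.node (53, 1) .nil .nil)) (.node (29, 1) (.node (52, 1) .nil .nil) (.node (58, (-1)) .nil .nil))))) (.node (2, 1) (.node (4, 1) (.node (11, (-1)) (.node (16, 1) (.node (24, (-1)) (.node (64, 1) .nil .nil) .nil) (.node (40, 1) .nil .nil)) (.node (32, 1) (.node (48, (-1)) .nil .nil) (.node (56, 1) .nil .nil))) (.node (9, 1) (.node (27, (-1)) (.node (36, 1) (.node (68, 1) .nil .nil) .nil) (.node (45, (-1)) .nil .nil)) (.node (21, 1) (.node (51, 1) .nil .nil) (.node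 (63, 1) .nil .nil)))) (.node (6, 1) (.node (13, (-1)) (.node (18, 1) (.node (34, 1) (.node (66, 1) .nil .nil) .nil) (.node (43, (-1)) .nil .nil)) (.node (19, 1) (.node (42, 1) .nil .nil) (.node (61, 1) .nil .nil))) (.node (14, 1) (.node (30, 1) (.node (38, 1) (.node (71, 1) .nil .nil) .nil) (.node (54, 1) .nil .nil)) (.node (22, (-1)) (.node (25, (-1)) .nil .nil) (.node (59, (-1)) .nil .nil)))))) (.node (.node (0, 1) (.node (2, (-1)) (.node (3, 1) (.node (9, (-1)) (.node (15, 1) (.node (34, 1) (.node (65, 1) .nil .nil) .nil) (.node (46, (-1)) .nil .nil)) (.node (23, 1) (.node (32, (-1)) (.node (71, 1) .nil .nil) .nil) (.node (55, 1) .nil .nil))) (.node (11, 1) (.node (17, 1) (.node (35, 1) (.node (67, 1) .nil .nil) .nil) (.node (53, 1) .nil .nil)) (.node (27, 1) (.node (42, (-1)) .nil .nil) (.node (59, 1) .nil .nil)))) (.node (5, 1) (.node (7, 1) (.node (19, (-1)) (.node (30, (-1)) (.node (63, (-1)) .nil .nil)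 .nil) (.node (49, 1) .nil .nil)) (.node (24, 1) (.node (38, 1) .nil .nil) (.node (58, 1) .nil .nil))) (.node (14, (-1)) (.node (21, 1) (.node (40, (-1)) (.node (70, 1) .nil .nil) .nil) (.node (51, (-1)) .nil .nil)) (.node (28, 1) (.node (45, 1) .nil .nil) (.node (61, 1) .nil .nil))))) (.node (1, 1) (.node (4, 1) (.node (6, 1) (.node (16, 1) (.node (39, (-1)) (.node (62, (-1)) .nil .nil) .nil) (.node (48, 1) .nil .nil)) (.node (25, (-1)) (.node (37, 1) .nil .nil) (.node (56, 1) .nil .nil))) (.node (12, 1) (.node (18, 1) (.node (36, 1) (.node (68, 1) .nil .nil) .nil) (.node (54, 1) .nil .nil)) (.node (29, (-1)) (.node (44, 1) .nil .nil) (.node (60, 1) .nil .nil)))) (.node (8, (-1)) (.node (10, 1) (.node (20, (-1)) (.node (31, (-1)) (.node (66, 1) .nil .nil) .nil) (.node (50, 1) .nil .nil)) (.node (26, 1) (.node (43, 1) .nil .nil) (.node (57, (-1)) .nil .nil))) (.node (13, 1) (.node (22, 1) (.node (41, (-1))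 (.node (69, (-1)) .nil .nil) .nil) (.node (52, (-1)) .nil .nil)) (.node (33, 1) (.node (47, 1) .nil .nil) (.node (64, 1) .nil .nil)))))) .nil .nil) (.node (.node (0, 1) (.node (1, 1) (.node (4, (-1)) (.node (6, 1) (.node (15, 1) (.node (30, 1) (.node (62, (-1)) .nil .nil) .nil) (.node (47, 1) .nil .nil)) (.node (22, 1) (.node (39, 1) (.node (71, 1) .nil .nil) .nil) (.node (55, 1) .nil .nil))) (.node (12, (-1)) (.node (20, (-1)) (.node (36, (-1)) (.node (68, 1) .nil .nil) .nil) (.node (52, 1) .nil .nil)) (.node (26, 1) (.node (43, 1) .nil .nil) (.node (60, 1) .nil .nil)))) (.node (5, 1) (.node (8, 1) (.node (18, (-1)) (.node (34, (-1)) (.node (64, (-1)) .nil .nil) .nil) (.node (48, (-1)) .nil .nil)) (.node (25, 1) (.node (40, (-1)) .nil .nil) (.node (57, 1) .nil .nil))) (.node (13, 1) (.node (21, 1) (.node (38, 1) (.node (69, 1) .nil .nil) .nil) (.node (54, 1) .nil .nil)) (.node (29, 1) (.node (44, (-1)) .nil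 .nil) (.node (61, 1) .nil .nil))))) (.node (2, 1) (.node (3, 1) (.node (9, (-1)) (.node (16, 1) (.node (32, 1) (.node (65, 1) .nil .nil) .nil) (.node (49, 1) .nil .nil)) (.node (24, 1) (.node (41, 1) .nil .nil) (.node (56, 1) .nil .nil))) (.node (11, 1) (.node (19, 1) (.node (35, (-1)) (.node (67, (-1)) .nil .nil) .nil) (.node (51, (-1)) .nil .nil)) (.node (28, 1) (.node (45, 1) .nil .nil) (.node (59, (-1)) .nil .nil)))) (.node (7, (-1)) (.node (10, 1) (.node (17, 1) (.node (33, 1) (.node (66, 1) .nil .nil) .nil) (.node (50, 1) .nil .nil)) (.node (27, (-1)) (.node (42, 1) .nil .nil) (.node (58, 1) .nil .nil))) (.node (14, 1) (.node (23, (-1)) (.node (37, (-1)) (.node (70, 1) .nil .nil) .nil) (.node (53, (-1)) .nil .nil)) (.node (31, (-1)) (.node (46, 1) .nil .nil) (.node (63, 1) .nil .nil)))))) .nil .nil)) (.node (.node (0, 1) (.node (1, 1) (.node (6, (-1)) (.node (4, 1) (.node (14, 1) (.node (27, (-1)) (.node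 (63, 1) .nil .nil) .nil) (.node (50, 1) .nil .nil)) (.node (20, 1) (.node (43, (-1)) (.node (71, 1) .nil .nil) .nil) (.node (55, 1) .nil .nil))) (.node (11, 1) (.node (22, (-1)) (.node (35, 1) (.node (64, (-1)) .nil .nil) .nil) (.node (48, (-1)) .nil .nil)) (.node (31, 1) (.node (39, 1) .nil .nil) (.node (59, 1) .nil .nil)))) (.node (2, 1) (.node (9, 1) (.node (17, 1) (.node (33, 1) (.node (68, 1) .nil .nil) .nil) (.node (52, 1) .nil .nil)) (.node (25, 1) (.node (45, (-1)) .nil .nil) (.node (56, (-1)) .nil .nil))) (.node (13, 1) (.node (24, (-1)) (.node (37, 1) (.node (66, (-1)) .nil .nil) .nil) (.node (53, 1) .nil .nil)) (.node (42, (-1)) (.node (41, 1) .nil .nil) (.node (61, 1) .nil .nil))))) (.node (5, (-1)) (.node (7, (-1)) (.node (8, 1) (.node (16, 1) (.node (28, (-1)) (.node (67, 1) .nil .nil) .nil) (.node (51, 1) .nil .nil)) (.node (21, 1) (.node (44, (-1)) .nil .nil) (.node (57, 1) .nil .nil))) (.node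 (12, 1) (.node (23, (-1)) (.node (36, 1) (.node (65, (-1)) .nil .nil) .nil) (.node (49, (-1)) .nil .nil)) (.node (32, 1) (.node (40, 1) .nil .nil) (.node (60, 1) .nil .nil)))) (.node (3, 1) (.node (10, 1) (.node (18, 1) (.node (34, 1) (.node (69, 1) .nil .nil) .nil) (.node (47, (-1)) .nil .nil)) (.node (30, 1) (.node (29, (-1)) .nil .nil) (.node (58, 1) .nil .nil))) (.node (15, (-1)) (.node (19, 1) (.node (38, 1) (.node (70, 1) .nil .nil) .nil) (.node (54, 1) .nil .nil)) (.node (26, (-1)) (.node (46, 1) .nil .nil) (.node (62, 1) .nil .nil)))))) (.node (.node (0, 1) (.node (1, 1) (.node (2, 1) (.node (7, 1) (.node (15, 1) (.node (32, (-1)) (.node (63, 1) .nil .nil) .nil) (.node (48, 1) .nil .nil)) (.node (24, (-1)) (.node (40, 1) (.node (71, 1) .nil .nil) .nil) (.node (54, (-1)) .nil .nil))) (.node (11, 1) (.node (19, 1) (.node (33, (-1)) (.node (67, 1) .nil .nil) .nil) (.node (50, (-1)) .nil .nil)) (.node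 (28, (-1)) (.node (44, 1) .nil .nil) (.node (58, (-1)) .nil .nil)))) (.node (6, (-1)) (.node (10, (-1)) (.node (16, 1) (.node (35, 1) (.node (66, 1) .nil .nil) .nil) (.node (49, 1) .nil .nil)) (.node (25, 1) (.node (41, 1) .nil .nil) (.node (57, 1) .nil .nil))) (.node (12, 1) (.node (20, 1) (.node (34, (-1)) (.node (68, (-1)) .nil .nil) .nil) (.node (53, 1) .nil .nil)) (.node (29, 1) (.node (45, 1) .nil .nil) (.node (62, 1) .nil .nil))))) (.node (3, (-1)) (.node (4, 1) (.node (8, 1) (.node (17, (-1)) (.node (31, 1) (.node (64, 1) .nil .nil) .nil) (.node (47, (-1)) .nil .nil)) (.node (23, 1) (.node (39, (-1)) .nil .nil) (.node (56, 1) .nil .nil))) (.node (13, (-1)) (.node (21, (-1)) (.node (38, (-1)) (.node (69, 1) .nil .nil) .nil) (.node (52, 1) .nil .nil)) (.node (27, 1) (.node (43, (-1)) .nil .nil) (.node (60, 1) .nil .nil)))) (.node (5, 1) (.node (9, 1) (.node (18, 1) (.node (37, (-1)) (.node (65, (-1))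 .nil .nil) .nil) (.node (51, 1) .nil .nil)) (.node (26, 1) (.node (42, 1) .nil .nil) (.node (59, 1) .nil .nil))) (.node (14, 1) (.node (22, 1) (.node (36, 1) (.node (70, 1) .nil .nil) .nil) (.node (55, 1) .nil .nil)) (.node (30, 1) (.node (46, 1) .nil .nil) (.node (61, (-1)) .nil .nil)))))) .nil .nil) .nil))
  A := (.node (.node 0 (.node 0 (.node 0 (.node (-1) (.node (-2) (.node 0 (.node 1 .nil .nil) .nil) (.node 0 .nil .nil)) (.node 0 (.node 0 (.node 0 .nil .nil) .nil) (.node (-1) .nil .nil))) (.node (-1) (.node 1 (.node 0 (.node 0 .nil .nil) .nil) (.node (-1) .nil .nil)) (.node 1 (.node (-1) .nil .nil) (.node 1 .nil .nil)))) (.node (-1) (.node (-1) (.node 1 (.node 0 (.node 1 .nil .nil) .nil) (.node 0 .nil .nil)) (.node 0 (.node 0 .nil .nil) (.node 1 .nil .nil))) (.node (-1) (.node 1 (.node 0 (.node 0 .nil .nil) .nil) (.node (-1) .nil .nil)) (.node 1 (.node (-1) .nil .nil) (.node 1 .nil .nil))))) (.node 0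 (.node 0 (.node (-1) (.node 1 (.node 0 (.node 1 .nil .nil) .nil) (.node 0 .nil .nil)) (.node 0 (.node 0 .nil .nil) (.node 2 .nil .nil))) (.node (-1) (.node 1 (.node 0 (.node 0 .nil .nil) .nil) (.node (-1) .nil .nil)) (.node 1 (.node (-1) .nil .nil) (.node 1 .nil .nil)))) (.node (-1) (.node (-1) (.node 1 (.node 0 (.node 1 .nil .nil) .nil) (.node (-1) .nil .nil)) (.node 1 (.node (-1) .nil .nil) (.node 1 .nil .nil))) (.node (-1) (.node 0 (.node 0 (.node 0 .nil .nil) .nil) (.node (-1) .nil .nil)) (.node 0 (.node 0 .nil .nil) (.node 1 .nil .nil)))))) (.node (.node (-1) (.node 1 (.node 0 (.node 0 (.node 0 (.node 1 (.node 1 .nil .nil) .nil) (.node 1 .nil .nil)) (.node (-1) (.node (-1) (.node 1 .nil .nil) .nil) (.node 0 .nil .nil))) (.node 1 (.node (-1) (.node 0 (.node 0 .nil .nil) .nil) (.node 1 .nil .nil)) (.node 1 (.node (-1) .nil .nil) (.node (-1) .nil .nil)))) (.node 0 (.node (-1) (.node 0 (.node 0 (.node 0 .nil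 .nil) .nil) (.node 1 .nil .nil)) (.node (-2) (.node (-1) .nil .nil) (.node 0 .nil .nil))) (.node 1 (.node (-1) (.node 0 (.node 0 .nil .nil) .nil) (.node 0 .nil .nil)) (.node 0 (.node (-1) .nil .nil) (.node 1 .nil .nil))))) (.node 0 (.node 0 (.node (-1) (.node 0 (.node 1 (.node 0 .nil .nil) .nil) (.node 1 .nil .nil)) (.node (-1) (.node (-1) .nil .nil) (.node 0 .nil .nil))) (.node 1 (.node (-1) (.node 0 (.node 0 .nil .nil) .nil) (.node 1 .nil .nil)) (.node 1 (.node (-1) .nil .nil) (.node (-1) .nil .nil)))) (.node 0 (.node (-1) (.node 0 (.node 0 (.node 0 .nil .nil) .nil) (.node 1 .nil .nil)) (.node 1 (.node 0 .nil .nil) (.node (-1) .nil .nil))) (.node 0 (.node (-1) (.node 0 (.node (-1) .nil .nil) .nil) (.node 0 .nil .nil)) (.node 1 (.node 2 .nil .nil) (.node 1 .nil .nil)))))) (.node (.node 0 (.node (-1) (.node 0 (.node (-1) (.node 0 (.node (-1) (.node (-1) .nil .nil) .nil) (.node 1 .nil .nil)) (.node 0 (.node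 2 (.node 0 .nil .nil) .nil) (.node 0 .nil .nil))) (.node 0 (.node 1 (.node 0 (.node 0 .nil .nil) .nil) (.node (-1) .nil .nil)) (.node 0 (.node 1 .nil .nil) (.node 0 .nil .nil)))) (.node 0 (.node 1 (.node (-1) (.node 1 (.node 1 .nil .nil) .nil) (.node 0 .nil .nil)) (.node 1 (.node 1 .nil .nil) (.node (-1) .nil .nil))) (.node (-1) (.node 0 (.node (-1) (.node (-1) .nil .nil) .nil) (.node 1 .nil .nil)) (.node 1 (.node 0 .nil .nil) (.node 0 .nil .nil))))) (.node 1 (.node 0 (.node 1 (.node 0 (.node (-2) (.node 1 .nil .nil) .nil) (.node 0 .nil .nil)) (.node (-1) (.node 1 .nil .nil) (.node 0 .nil .nil))) (.node 0 (.node 1 (.node 0 (.node 0 .nil .nil) .nil) (.node (-1) .nil .nil)) (.node (-1) (.node 0 .nil .nil) (.node 0 .nil .nil)))) (.node (-1) (.node 0 (.node (-1) (.node 1 (.node 0 .nil .nil) .nil) (.node 0 .nil .nil)) (.node 0 (.node (-1) .nil .nil) (.node 1 .nil .nil))) (.node 1 (.node 0 (.node (-1) (.node 1 .nil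 .nil) .nil) (.node 1 .nil .nil)) (.node (-1) (.node (-1) .nil .nil) (.node (-1) .nil .nil)))))) .nil .nil) (.node (.node 0 (.node 0 (.node (-1) (.node 1 (.node 0 (.node 1 (.node 1 .nil .nil) .nil) (.node 0 .nil .nil)) (.node 1 (.node 0 (.node 0 .nil .nil) .nil) (.node 0 .nil .nil))) (.node (-1) (.node (-1) (.node (-2) (.node (-1) .nil .nil) .nil) (.node (-1) .nil .nil)) (.node 1 (.node 0 .nil .nil) (.node (-1) .nil .nil)))) (.node 0 (.node 1 (.node (-1) (.node (-1) (.node 1 .nil .nil) .nil) (.node 1 .nil .nil)) (.node 0 (.node 1 .nil .nil) (.node 0 .nil .nil))) (.node 0 (.node 0 (.node (-1) (.node 0 .nil .nil) .nil) (.node (-1) .nil .nil)) (.node 0 (.node 1 .nil .nil) (.node 0 .nil .nil))))) (.node 0 (.node 1 (.node (-1) (.node 0 (.node 0 (.node (-1) .nil .nil) .nil) (.node (-1) .nil .nil)) (.node 0 (.node (-1) .nil .nil) (.node 0 .nil .nil))) (.node 1 (.node 1 (.node 2 (.node 1 .nil .nil) .nil) (.node 1 .nil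 .nil)) (.node 0 (.node (-1) .nil .nil) (.node 1 .nil .nil)))) (.node (-1) (.node 0 (.node 1 (.node 1 (.node 0 .nil .nil) .nil) (.node 0 .nil .nil)) (.node (-1) (.node 0 .nil .nil) (.node 0 .nil .nil))) (.node 0 (.node (-1) (.node 1 (.node 0 .nil .nil) .nil) (.node 1 .nil .nil)) (.node (-1) (.node 0 .nil .nil) (.node (-1) .nil .nil)))))) .nil .nil)) (.node (.node 0 (.node 0 (.node (-1) (.node 1 (.node 1 (.node 1 (.node 0 .nil .nil) .nil) (.node (-1) .nil .nil)) (.node 1 (.node (-1) (.node 0 .nil .nil) .nil) (.node 0 .nil .nil))) (.node 0 (.node (-1) (.node 0 (.node 1 .nil .nil) .nil) (.node 1 .nil .nil)) (.node (-1) (.node 1 .nil .nil) (.node 0 .nil .nil)))) (.node 1 (.node 0 (.node 0 (.node 0 (.node (-1) .nil .nil) .nil) (.node (-1) .nil .nil)) (.node 0 (.node (-1) .nil .nil) (.node 1 .nil .nil))) (.node 0 (.node (-1) (.node 0 (.node 1 .nil .nil) .nil) (.node 0 .nil .nil)) (.node (-2) (.node 1 .nil .nil) (.node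 0 .nil .nil))))) (.node (-1) (.node (-1) (.node 0 (.node 0 (.node 1 (.node (-1) .nil .nil) .nil) (.node (-1) .nil .nil)) (.node 1 (.node (-1) .nil .nil) (.node (-1) .nil .nil))) (.node 0 (.node (-1) (.node 0 (.node 1 .nil .nil) .nil) (.node 1 .nil .nil)) (.node (-1) (.node 1 .nil .nil) (.node 0 .nil .nil)))) (.node 1 (.node 0 (.node 0 (.node 0 (.node (-1) .nil .nil) .nil) (.node 1 .nil .nil)) (.node (-1) (.node 2 .nil .nil) (.node 0 .nil .nil))) (.node (-1) (.node 1 (.node 0 (.node 0 .nil .nil) .nil) (.node 0 .nil .nil)) (.node 1 (.node 0 .nil .nil) (.node 0 .nil .nil)))))) (.node (.node 0 (.node 0 (.node 1 (.node 0 (.node 0 (.node (-1) (.node 0 .nil .nil) .nil) (.node (-1) .nil .nil)) (.node (-1) (.node (-1) (.node 0 .nil .nil) .nil) (.node 1 .nil .nil))) (.node 0 (.node 0 (.node 1 (.node 0 .nil .nil) .nil) (.node 1 .nil .nil)) (.node (-1) (.node (-1) .nil .nil) (.node 1 .nil .nil)))) (.node (-1) (.node (-1)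 (.node 1 (.node (-1) (.node (-1) .nil .nil) .nil) (.node 0 .nil .nil)) (.node 0 (.node 0 .nil .nil) (.node 0 .nil .nil))) (.node 1 (.node 1 (.node 2 (.node 1 .nil .nil) .nil) (.node 0 .nil .nil)) (.node 0 (.node 0 .nil .nil) (.node (-1) .nil .nil))))) (.node (-1) (.node 0 (.node 0 (.node (-1) (.node 1 (.node 0 .nil .nil) .nil) (.node 1 .nil .nil)) (.node 1 (.node 1 .nil .nil) (.node 0 .nil .nil))) (.node (-1) (.node (-1) (.node (-1) (.node (-1) .nil .nil) .nil) (.node 0 .nil .nil)) (.node 1 (.node 1 .nil .nil) (.node 0 .nil .nil)))) (.node 1 (.node 1 (.node 0 (.node (-2) (.node 1 .nil .nil) .nil) (.node (-1) .nil .nil)) (.node 0 (.node 0 .nil .nil) (.node (-1) .nil .nil))) (.node 0 (.node 0 (.node 1 (.node 0 .nil .nil) .nil) (.node (-1) .nil .nil)) (.node 0 (.node 0 .nil .nil) (.node 1 .nil .nil)))))) .nil .nil) .nil))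
  cor := (.node (.node (-1) (.node (-2) (.node (-3) .nil .nil) (.node (-1) .nil .nil)) (.node (-2) (.node (-2) .nil .nil) .nil)) (.node (.node (-1) (.node (-1) (.node (-3) .nil .nil) (.node (-1) .nil .nil)) (.node (-2) (.node (-2) .nil .nil) .nil)) (.node (.node (-1) (.node (-1) (.node (-2) .nil .nil) (.node (-1) .nil .nil)) (.node (-2) (.node (-1) .nil .nil) .nil)) (.node (.node (-1) (.node (-1) (.node (-2) .nil .nil) (.node 0 .nil .nil)) (.node (-1) (.node (-1) .nil .nil) .nil)) (.node (.node (-1) (.node 0 (.node 0 .nil .nil) (.node 0 .nil .nil)) (.node 0 (.node 0 .nil .nil) .nil)) (.node (.node 0 (.node 0 (.node (-1) .nil .nil) (.node 0 .nil .nil)) (.node 0 (.node (-1) .nil .nil) .nil)) (.node (.node 1 (.node 1 (.node 1 .nil .nil) (.node 1 .nil .nil)) (.node 1 (.node 1 .nil .nil) .nil)) .nil .nil) .nil) (.node (.node 0 (.node 1 (.node 1 .nil .nil) (.node 0 .nil .nil)) (.node 0 (.node 0 .nil .nil) .nil))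 .nil .nil)) (.node (.node 0 (.node (-1) (.node (-1) .nil .nil) (.node 0 .nil .nil)) (.node 0 (.node (-1) .nil .nil) .nil)) (.node (.node 0 (.node 0 (.node 1 .nil .nil) (.node 0 .nil .nil)) (.node 0 (.node 0 .nil .nil) .nil)) (.node (.node 1 (.node 2 (.node 3 .nil .nil) (.node 1 .nil .nil)) (.node 2 (.node 2 .nil .nil) .nil)) .nil .nil) .nil) (.node (.node 0 (.node 1 (.node 2 .nil .nil) (.node 1 .nil .nil)) (.node 1 (.node 2 .nil .nil) .nil)) .nil .nil))) (.node (.node (-1) (.node 0 (.node (-1) .nil .nil) (.node (-1) .nil .nil)) (.node (-1) (.node (-1) .nil .nil) .nil)) (.node (.node 0 (.node (-1) (.node (-1) .nil .nil) (.node (-1) .nil .nil)) (.node (-1) (.node (-1) .nil .nil) .nil)) (.node (.node 0 (.node 0 (.node 0 .nil .nil) (.node (-1) .nil .nil)) (.node 0 (.node 0 .nil .nil) .nil)) (.node (.node 1 (.node 1 (.node 2 .nil .nil) (.node 0 .nil .nil)) (.node 2 (.node 1 .nil .nil) .nil)) .nil .nil) .nil) (.node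 (.node 0 (.node 1 (.node 1 .nil .nil) (.node 0 .nil .nil)) (.node 1 (.node 1 .nil .nil) .nil)) .nil .nil)) (.node (.node 0 (.node 0 (.node (-1) .nil .nil) (.node 0 .nil .nil)) (.node (-1) (.node (-1) .nil .nil) .nil)) (.node (.node 0 (.node 0 (.node 1 .nil .nil) (.node 0 .nil .nil)) (.node 1 (.node 0 .nil .nil) .nil)) .nil .nil) (.node (.node 1 (.node 0 (.node 1 .nil .nil) (.node 0 .nil .nil)) (.node 1 (.node 1 .nil .nil) .nil)) .nil .nil)))) (.node (.node (-1) (.node (-1) (.node (-2) .nil .nil) (.node (-1) .nil .nil)) (.node (-1) (.node (-2) .nil .nil) .nil)) (.node (.node (-1) (.node (-1) (.node (-1) .nil .nil) (.node 0 .nil .nil)) (.node (-1) (.node (-1) .nil .nil) .nil)) (.node (.node 0 (.node (-1) (.node (-2) .nil .nil) (.node (-1) .nil .nil)) (.node (-1) (.node (-1) .nil .nil) .nil)) (.node (.node 0 (.node 0 (.node 0 .nil .nil) (.node (-1) .nil .nil)) (.node 0 (.node (-1) .nil .nil) .nil)) (.node (.node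 1 (.node 1 (.node 2 .nil .nil) (.node 1 .nil .nil)) (.node 1 (.node 1 .nil .nil) .nil)) .nil .nil) .nil) (.node (.node 0 (.node 1 (.node 1 .nil .nil) (.node 1 .nil .nil)) (.node 0 (.node 1 .nil .nil) .nil)) .nil .nil)) (.node (.node 0 (.node (-1) (.node 0 .nil .nil) (.node 0 .nil .nil)) (.node 0 (.node 0 .nil .nil) .nil)) (.node (.node 0 (.node 0 (.node 1 .nil .nil) (.node 1 .nil .nil)) (.node 0 (.node 1 .nil .nil) .nil)) .nil .nil) (.node (.node 1 (.node 0 (.node 0 .nil .nil) (.node 0 .nil .nil)) (.node 1 (.node 0 .nil .nil) .nil)) .nil .nil))) (.node (.node (-1) (.node 0 (.node (-1) .nil .nil) (.node 0 .nil .nil)) (.node (-1) (.node 0 .nil .nil) .nil)) (.node (.node 0 (.node (-1) (.node (-1) .nil .nil) (.node 0 .nil .nil)) (.node (-1) (.node 0 .nil .nil) .nil)) (.node (.node 0 (.node 0 (.node 0 .nil .nil) (.node 0 .nil .nil)) (.node 0 (.node 1 .nil .nil) .nil)) (.node (.node 1 (.node 1 (.node 2 .nil .nil)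 (.node 1 .nil .nil)) (.node 2 (.node 2 .nil .nil) .nil)) .nil .nil) .nil) (.node (.node 0 (.node 1 (.node 2 .nil .nil) (.node 0 .nil .nil)) (.node 1 (.node 1 .nil .nil) .nil)) .nil .nil)) (.node (.node 0 (.node 0 (.node 0 .nil .nil) (.node 0 .nil .nil)) (.node (-1) (.node 0 .nil .nil) .nil)) (.node (.node 0 (.node 0 (.node 1 .nil .nil) (.node 1 .nil .nil)) (.node 1 (.node 1 .nil .nil) .nil)) .nil .nil) (.node (.node 1 (.node 1 (.node 1 .nil .nil) (.node 0 .nil .nil)) (.node 1 (.node 0 .nil .nil) .nil)) .nil .nil))))) (.node (.node (-1) (.node (-1) (.node (-2) .nil .nil) (.node (-1) .nil .nil)) (.node (-2) (.node (-2) .nil .nil) .nil)) (.node (.node (-1) (.node (-1) (.node (-2) .nil .nil) (.node 0 .nil .nil)) (.node (-2) (.node (-1) .nil .nil) .nil)) (.node (.node (-1) (.node (-1) (.node (-1) .nil .nil) (.node (-1) .nil .nil)) (.node (-1) (.node (-1) .nil .nil) .nil)) (.node (.node 0 (.node (-1) (.node (-2)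 .nil .nil) (.node (-1) .nil .nil)) (.node (-1) (.node (-2) .nil .nil) .nil)) (.node (.node 0 (.node 0 (.node (-1) .nil .nil) (.node 0 .nil .nil)) (.node 0 (.node 0 .nil .nil) .nil)) (.node (.node 1 (.node 1 (.node 2 .nil .nil) (.node 0 .nil .nil)) (.node 1 (.node 1 .nil .nil) .nil)) .nil .nil) .nil) (.node (.node 0 (.node 1 (.node 1 .nil .nil) (.node 0 .nil .nil)) (.node 0 (.node 1 .nil .nil) .nil)) .nil .nil)) (.node (.node 0 (.node (-1) (.node (-1) .nil .nil) (.node 0 .nil .nil)) (.node 0 (.node 0 .nil .nil) .nil)) (.node (.node 0 (.node 0 (.node 1 .nil .nil) (.node 0 .nil .nil)) (.node 0 (.node 1 .nil .nil) .nil)) .nil .nil) (.node (.node 1 (.node 0 (.node 0 .nil .nil) (.node 0 .nil .nil)) (.node 0 (.node 0 .nil .nil) .nil)) .nil .nil))) (.node (.node (-1) (.node 0 (.node (-1) .nil .nil) (.node 0 .nil .nil)) (.node (-1) (.node (-1) .nil .nil) .nil)) (.node (.node 0 (.node (-1) (.node (-1) .nil .nil) (.node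 0 .nil .nil)) (.node (-1) (.node (-1) .nil .nil) .nil)) (.node (.node 0 (.node 0 (.node 0 .nil .nil) (.node 1 .nil .nil)) (.node 0 (.node 0 .nil .nil) .nil)) (.node (.node 1 (.node 1 (.node 2 .nil .nil) (.node 1 .nil .nil)) (.node 2 (.node 1 .nil .nil) .nil)) .nil .nil) .nil) (.node (.node 0 (.node 1 (.node 1 .nil .nil) (.node 1 .nil .nil)) (.node 1 (.node 1 .nil .nil) .nil)) .nil .nil)) (.node (.node 0 (.node 0 (.node (-1) .nil .nil) (.node 0 .nil .nil)) (.node (-1) (.node 0 .nil .nil) .nil)) (.node (.node 0 (.node 0 (.node 1 .nil .nil) (.node 0 .nil .nil)) (.node 1 (.node 1 .nil .nil) .nil)) .nil .nil) (.node (.node 1 (.node 0 (.node 1 .nil .nil) (.node 1 .nil .nil)) (.node 1 (.node 1 .nil .nil) .nil)) .nil .nil)))) (.node (.node (-1) (.node (-1) (.node (-2) .nil .nil) (.node (-1) .nil .nil)) (.node (-1) (.node (-1) .nil .nil) .nil)) (.node (.node (-1) (.node (-1) (.node (-1) .nil .nil) (.node 0 .nil .nil))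 (.node (-1) (.node 0 .nil .nil) .nil)) (.node (.node 0 (.node (-1) (.node (-2) .nil .nil) (.node 0 .nil .nil)) (.node (-1) (.node (-1) .nil .nil) .nil)) (.node (.node 0 (.node 0 (.node 0 .nil .nil) (.node 0 .nil .nil)) (.node 0 (.node (-1) .nil .nil) .nil)) (.node (.node 1 (.node 1 (.node 2 .nil .nil) (.node 1 .nil .nil)) (.node 1 (.node 2 .nil .nil) .nil)) .nil .nil) .nil) (.node (.node 0 (.node 1 (.node 1 .nil .nil) (.node 0 .nil .nil)) (.node 1 (.node 0 .nil .nil) .nil)) .nil .nil)) (.node (.node 0 (.node 0 (.node (-1) .nil .nil) (.node (-1) .nil .nil)) (.node (-1) (.node (-1) .nil .nil) .nil)) (.node (.node 0 (.node 0 (.node 0 .nil .nil) (.node 0 .nil .nil)) (.node 1 (.node 0 .nil .nil) .nil)) .nil .nil) (.node (.node 1 (.node 0 (.node 1 .nil .nil) (.node 0 .nil .nil)) (.node 1 (.node 0 .nil .nil) .nil)) .nil .nil))) (.node (.node (-1) (.node 0 (.node 0 .nil .nil) (.node 0 .nil .nil)) (.node (-1) (.node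 0 .nil .nil) .nil)) (.node (.node 0 (.node (-1) (.node (-1) .nil .nil) (.node (-1) .nil .nil)) (.node 0 (.node (-1) .nil .nil) .nil)) (.node (.node 0 (.node 0 (.node 0 .nil .nil) (.node 1 .nil .nil)) (.node 0 (.node 1 .nil .nil) .nil)) (.node (.node 1 (.node 1 (.node 3 .nil .nil) (.node 1 .nil .nil)) (.node 2 (.node 2 .nil .nil) .nil)) .nil .nil) .nil) (.node (.node 0 (.node 1 (.node 2 .nil .nil) (.node 1 .nil .nil)) (.node 1 (.node 1 .nil .nil) .nil)) .nil .nil)) (.node (.node 0 (.node 0 (.node (-1) .nil .nil) (.node (-1) .nil .nil)) (.node 0 (.node (-1) .nil .nil) .nil)) (.node (.node 0 (.node 1 (.node 0 .nil .nil) (.node 0 .nil .nil)) (.node 0 (.node 0 .nil .nil) .nil)) .nil .nil) (.node (.node 1 (.node 1 (.node 1 .nil .nil) (.node 0 .nil .nil)) (.node 1 (.node 1 .nil .nil) .nil)) .nil .nil))))))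
  ng := (.node 71 (.node 70 (.node 68 (.node 64 (.node 56 (.node 40 (.node 8 .nil .nil) .nil) (.node 24 .nil .nil)) (.node 48 (.node 32 (.node 0 .nil .nil) .nil) (.node 16 .nil .nil))) (.node 60 (.node 52 (.node 36 (.node 4 .nil .nil) .nil) (.node 20 .nil .nil)) (.node 44 (.node 28 .nil .nil) (.node 12 .nil .nil)))) (.node 66 (.node 62 (.node 54 (.node 38 (.node 6 .nil .nil) .nil) (.node 22 .nil .nil)) (.node 46 (.node 30 .nil .nil) (.node 14 .nil .nil))) (.node 58 (.node 50 (.node 34 (.node 2 .nil .nil) .nil) (.node 18 .nil .nil)) (.node 42 (.node 26 .nil .nil) (.node 10 .nil .nil))))) (.node 69 (.node 67 (.node 63 (.node 55 (.node 39 (.node 7 .nil .nil) .nil) (.node 23 .nil .nil)) (.node 47 (.node 31 .nil .nil) (.node 15 .nil .nil))) (.node 59 (.node 51 (.node 35 (.node 3 .nil .nil) .nil) (.node 19 .nil .nil)) (.node 43 (.node 27 .nil .nil) (.node 11 .nil .nil)))) (.node 65 (.node 61 (.node 53 (.node 37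 (.node 5 .nil .nil) .nil) (.node 21 .nil .nil)) (.node 45 (.node 29 .nil .nil) (.node 13 .nil .nil))) (.node 57 (.node 49 (.node 33 (.node 1 .nil .nil) .nil) (.node 17 .nil .nil)) (.node 41 (.node 25 .nil .nil) (.node 9 .nil .nil))))))
  sp := (.node 56 (.node 46 (.node 39 .nil .nil) (.node 36 .nil .nil)) (.node 42 (.node 37 .nil .nil) .nil))
  ch := (.node C0 (.node C1 (.node C3 (.node C7 (.node C15 (.node C31 (.node C63 .nil .nil) .nil) (.node C47 .nil .nil)) (.node C23 (.node C39 (.node C71 .nil .nil) .nil) (.node C55 .nil .nil))) (.node C11 (.node C19 (.node C35 (.node C67 .nil .nil) .nil) (.node C51 .nil .nil)) (.node C27 (.node C43 .nil .nil) (.node C59 .nil .nil)))) (.node C5 (.node C9 (.node C17 (.node C33 (.node C65 .nil .nil) .nil) (.node C49 .nil .nil)) (.node C25 (.node C41 .nil .nil) (.node C57 .nil .nil))) (.node C13 (.node C21 (.node C37 (.node C69 .nil .nil) .nil) (.node C53 .nil .nil)) (.node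 C29 (.node C45 .nil .nil) (.node C61 .nil .nil))))) (.node C2 (.node C4 (.node C8 (.node C16 (.node C32 (.node C64 .nil .nil) .nil) (.node C48 .nil .nil)) (.node C24 (.node C40 .nil .nil) (.node C56 .nil .nil))) (.node C12 (.node C20 (.node C36 (.node C68 .nil .nil) .nil) (.node C52 .nil .nil)) (.node C28 (.node C44 .nil .nil) (.node C60 .nil .nil)))) (.node C6 (.node C10 (.node C18 (.node C34 (.node C66 .nil .nil) .nil) (.node C50 .nil .nil)) (.node C26 (.node C42 .nil .nil) (.node C58 .nil .nil))) (.node C14 (.node C22 (.node C38 (.node C70 .nil .nil) .nil) (.node C54 .nil .nil)) (.node C30 (.node C46 .nil .nil) (.node C62 .nil .nil))))))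
  tm := (.node M0 (.node M1 (.node M3 (.node M7 (.node M15 (.node M31 (.node M63 .nil .nil) .nil) (.node M47 .nil .nil)) (.node M23 (.node M39 (.node M71 .nil .nil) .nil) (.node M55 .nil .nil))) (.node M11 (.node M19 (.node M35 (.node M67 .nil .nil) .nil) (.node M51 .nil .nil)) (.node M27 (.node M43 .nil .nil) (.node M59 .nil .nil)))) (.node M5 (.node M9 (.node M17 (.node M33 (.node M65 .nil .nil) .nil) (.node M49 .nil .nil)) (.node M25 (.node M41 .nil .nil) (.node M57 .nil .nil))) (.node M13 (.node M21 (.node M37 (.node M69 .nil .nil) .nil) (.node M53 .nil .nil)) (.node M29 (.node M45 .nil .nil) (.node M61 .nil .nil))))) (.node M2 (.node M4 (.node M8 (.node M16 (.node M32 (.node M64 .nil .nil) .nil) (.node M48 .nil .nil)) (.node M24 (.node M40 .nil .nil) (.node M56 .nil .nil))) (.node M12 (.node M20 (.node M36 (.node M68 .nil .nil) .nil) (.node M52 .nil .nil)) (.node M28 (.node M44 .nil .nil) (.node M60 .nil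 .nil)))) (.node M6 (.node M10 (.node M18 (.node M34 (.node M66 .nil .nil) .nil) (.node M50 .nil .nil)) (.node M26 (.node M42 .nil .nil) (.node M58 .nil .nil))) (.node M14 (.node M22 (.node M38 (.node M70 .nil .nil) .nil) (.node M54 .nil .nil)) (.node M30 (.node M46 .nil .nil) (.node M62 .nil .nil))))))
  bz := (.node (0, 0, (-1), 0) (.node (0, 0, (-1), 0) (.node (0, 0, (-1), 0) (.node (0, 0, (-1), 0) (.node (0, 0, (-1), 0) (.node (3, 3, (-1), 0) (.node (0, 0, 1, 0) .nil .nil) .nil) (.node (1, 1, 1, 0) .nil .nil)) (.node (1, 1, (-1), 0) (.node (3, 3, 1, 0) (.node (0, 0, 1, 0) .nil .nil) .nil) (.node (1, 1, 1, 0) .nil .nil))) (.node (0, 0, (-1), 0) (.node (1, 1, (-1), 0) (.node (5, 5, (-1), 0) (.node (0, 0, 1, 0) .nil .nil) .nil) (.node (1, 1, 1, 0) .nil .nil)) (.node (2, 2, (-1), 0) (.node (2, 2, 1, 0) .nil .nil) (.node (0, 0, 1, 0) .nil .nil)))) (.node (0, 0, (-1), 0) (.node (0, 0, (-1), 0) (.node (1, 1, (-1),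 0) (.node (4, 4, (-1), 0) (.node (0, 0, 1, 0) .nil .nil) .nil) (.node (1, 1, 1, 0) .nil .nil)) (.node (1, 1, (-1), 0) (.node (3, 3, 1, 0) .nil .nil) (.node (0, 0, 1, 0) .nil .nil))) (.node (0, 0, (-1), 0) (.node (1, 1, (-1), 0) (.node (4, 4, 1, 0) (.node (0, 0, 1, 0) .nil .nil) .nil) (.node (1, 1, 1, 0) .nil .nil)) (.node (2, 2, (-1), 0) (.node (2, 2, 1, 0) .nil .nil) (.node (0, 0, 1, 0) .nil .nil))))) (.node (0, 0, (-1), 0) (.node (0, 0, (-1), 0) (.node (0, 0, (-1), 0) (.node (1, 1, (-1), 0) (.node (3, 3, (-1), 0) (.node (0, 0, 1, 0) .nil .nil) .nil) (.node (1, 1, 1, 0) .nil .nil)) (.node (1, 1, (-1), 0) (.node (3, 3, 1, 0) .nil .nil) (.node (0, 0, 1, 0) .nil .nil))) (.node (0, 0, (-1), 0) (.node (1, 1, (-1), 0) (.node (5, 5, 1, 0) (.node (0, 0, 1, 0) .nil .nil) .nil) (.node (1, 1, 1, 0) .nil .nil)) (.node (2, 2, (-1), 0) (.node (2, 2, 1, 0) .nil .nil) (.node (0, 0, 1, 0) .nil .nil)))) (.node (0, 0, (-1),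 0) (.node (0, 0, (-1), 0) (.node (1, 1, (-1), 0) (.node (4, 4, (-1), 0) (.node (0, 0, 1, 0) .nil .nil) .nil) (.node (1, 1, 1, 0) .nil .nil)) (.node (2, 2, (-1), 0) (.node (2, 2, 1, 0) .nil .nil) (.node (0, 0, 1, 0) .nil .nil))) (.node (0, 0, (-1), 0) (.node (1, 1, (-1), 0) (.node (4, 4, 1, 0) (.node (0, 0, 1, 0) .nil .nil) .nil) (.node (1, 1, 1, 0) .nil .nil)) (.node (3, 3, (-1), 0) (.node (1, 1, 1, 0) .nil .nil) (.node (0, 0, 1, 0) .nil .nil))))))
  order := [(56, none), (15, some (0, 56)), (57, some (2, 56)), (14, some (2, 15)), (42, some (0, 57)), (58, some (3, 57)), (29, some (0, 14)), (13, some (3, 14)), (43, some (3, 42)), (61, some (1, 58)), (59, some (4, 58)), (28, some (3, 29)), (10, some (1, 13)), (12, some (4, 13)), (50, some (1, 43)), (39, some (2, 43)), (44, some (4, 43)), (62, some (4, 61)), (60, some (5, 59)), (21, some (1, 28)), (32, some (2, 28)), (27, some (4, 28)), (9, some (4, 10)), (11,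 some (5, 12)), (47, some (2, 50)), (51, some (4, 50)), (40, some (4, 39)), (45, some (5, 44)), (64, some (3, 62)), (63, some (5, 62)), (24, some (2, 21)), (20, some (4, 21)), (31, some (4, 32)), (26, some (5, 27)), (7, some (3, 9)), (8, some (5, 9)), (46, some (3, 47)), (48, some (4, 47)), (53, some (3, 51)), (52, some (5, 51)), (37, some (3, 40)), (41, some (5, 40)), (67, some (2, 64)), (65, some (5, 64)), (25, some (3, 24)), (23, some (4, 24)), (18, some (3, 20)), (19, some (5, 20)), (34, some (3, 31)), (30, some (5, 31)), (4, some (2, 7)), (6, some (5, 7)), (49, some (5, 48)), (54, some (5, 53)), (38, some (5, 37)), (68, some (5, 67)), (66, some (4, 65)), (22, some (5, 23)), (17, some (5, 18)), (33, some (5, 34)), (3, some (5, 4)), (5, some (4, 6)), (55, some (4, 54)), (36, some (4, 38)), (69, some (4, 68)), (16, some (4, 17)), (35, some (4, 33)), (2, some (4, 3)), (70, some (3, 69)), (1, some (3, 2)),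 (71, some (1, 70)), (0, some (1, 1))]

end Cfsg.Agent.Chev.E6
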