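import Cfsg.Agent.Lib.Chev.Tables

/-! Generated tables for the datum of type E7. -/

set_option autoImplicit false

namespace Cfsg.Agent.Chev.E7

def X0 : Tr (List (ℕ × ℤ × ℕ)) := (.node [(7, 1, 1)] (.node [] (.node [] (.node [] (.node [] (.node [] (.node [] (.node [(35, (-1), 1)] .nil .nil) .nil) .nil) (.node [] .nil (.node [(19, 1, 1)] .nil .nil))) (.node [] (.node [] .nil (.node [(11, (-1), 1)] .nil .nil)) (.node [] .nil (.node [(27, 1, 1)] .nil .nil)))) (.node [] (.node [] (.node [] (.node [] (.node [(39, (-1), 1)] .nil .nil) .nil) .nil) (.node [] .nil (.node [(23, (-1), 1)] .nil .nil))) (.node [] (.node [] .nil (.node [(15, 1, 1)] .nil .nil)) (.node [] .nil (.node [(31, 1, 1)] .nil .nil))))) (.node [] (.node [] (.node [] (.node [] (.node [] (.node [(37, (-1), 1)] .nil .nil) .nil) .nil) (.node [] .nil (.node [(21, (-1), 1)] .nil .nil))) (.node [] (.node [] .nil (.node [(13, (-1), 1)] .nil .nil)) (.node [] .nil (.node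 [(29, 1, 1)] .nil .nil)))) (.node [] (.node [] (.node [] .nil (.node [(9, (-1), 1)] .nil .nil)) (.node [] .nil (.node [(25, (-1), 1)] .nil .nil))) (.node [] (.node [] .nil (.node [(17, 1, 1)] .nil .nil)) (.node [] .nil (.node [(33, 1, 1)] .nil .nil)))))) (.node [] (.node [] (.node [] (.node [] (.node [] (.node [] (.node [(36, 1, 1)] .nil .nil) .nil) .nil) (.node [] .nil (.node [(20, (-1), 1)] .nil .nil))) (.node [] (.node [] .nil (.node [(12, 1, 1)] .nil .nil)) (.node [] .nil (.node [(28, (-1), 1)] .nil .nil)))) (.node [] (.node [] (.node [] (.node [] (.node [(0, (-2), 1), (1, (-2), 1), (2, (-3), 1), (3, (-4), 1), (4, (-3), 1), (5, (-2), 1), (6, (-1), 1), (7, (-1), 2)] .nil .nil) .nil) (.node [(8, 1, 1)] .nil .nil)) (.node [] .nil (.node [(24, 1, 1)] .nil .nil))) (.node [] (.node [] .nil (.node [(16, (-1), 1)] .nil .nil)) (.node [] .nil (.node [(32, (-1), 1)] .nil .nil))))) (.node [] (.node [] (.node [] (.node [] (.node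 [] (.node [(38, 1, 1)] .nil .nil) .nil) .nil) (.node [] .nil (.node [(22, 1, 1)] .nil .nil))) (.node [] (.node [] .nil (.node [(14, (-1), 1)] .nil .nil)) (.node [] .nil (.node [(30, (-1), 1)] .nil .nil)))) (.node [] (.node [] (.node [] .nil (.node [(10, 1, 1)] .nil .nil)) (.node [] .nil (.node [(26, 1, 1)] .nil .nil))) (.node [] (.node [] .nil (.node [(18, (-1), 1)] .nil .nil)) (.node [] .nil (.node [(34, 1, 1)] .nil .nil)))))))
def X1 : Tr (List (ℕ × ℤ × ℕ)) := (.node [(8, (-1), 1)] (.node [] (.node [] (.node [] (.node [] (.node [] (.node [] (.node [(56, 1, 1)] .nil .nil) .nil) (.node [(19, (-1), 1)] .nil .nil)) .nil) (.node [] (.node [(7, 1, 1)] .nil .nil) (.node [] .nil (.node [(43, (-1), 1)] .nil .nil)))) (.node [] (.node [] (.node [] (.node [] (.node [(0, (-1), 1), (1, (-2), 1), (2, (-3), 1), (3, (-4), 1), (4, (-3), 1), (5, (-2), 1), (6, (-1), 1), (8, (-1), 2)] .nil .nil) .nil) (.node [(23, 1, 1)] .nil .nil)) (.node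 [] (.node [(12, (-1), 1)] .nil .nil) .nil)) (.node [] .nil (.node [] (.node [(15, (-1), 1)] .nil .nil) (.node [(47, (-1), 1)] .nil .nil))))) (.node [] (.node [] (.node [] (.node [] (.node [] (.node [(58, 1, 1)] .nil .nil) .nil) (.node [(21, 1, 1)] .nil .nil)) (.node [] (.node [(10, (-1), 1)] .nil .nil) .nil)) (.node [] .nil (.node [] .nil (.node [(45, (-1), 1)] .nil .nil)))) (.node [] (.node [] .nil (.node [] .nil (.node [(41, 1, 1)] .nil .nil))) (.node [] .nil (.node [] (.node [(17, (-1), 1)] .nil .nil) (.node [(49, (-1), 1)] .nil .nil)))))) (.node [(8, 1, 1)] (.node [] (.node [] (.node [] (.node [] (.node [] (.node [(57, (-1), 1)] .nil .nil) .nil) (.node [(20, 1, 1)] .nil .nil)) (.node [] (.node [(9, 1, 1)] .nil .nil) .nil)) (.node [] .nil (.node [] .nil (.node [(44, 1, 1)] .nil .nil)))) (.node [] (.node [] (.node [] (.node [] (.node [(100, (-1), 1)] .nil .nil) .nil) .nil) (.node [] (.node [(13, 1, 1)] .nil .nil) (.node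 [(40, (-1), 1)] .nil .nil))) (.node [] .nil (.node [] (.node [(16, 1, 1)] .nil .nil) (.node [(48, 1, 1)] .nil .nil))))) (.node [] (.node [] (.node [] (.node [] (.node [] (.node [(59, (-1), 1)] .nil .nil) .nil) (.node [(22, (-1), 1)] .nil .nil)) (.node [] (.node [(11, 1, 1)] .nil .nil) .nil)) (.node [] .nil (.node [] (.node [(14, 1, 1)] .nil .nil) (.node [(46, 1, 1)] .nil .nil)))) (.node [] (.node [] .nil (.node [] .nil (.node [(42, (-1), 1)] .nil .nil))) (.node [] .nil (.node [] (.node [(18, 1, 1)] .nil .nil) (.node [(55, (-1), 1)] .nil .nil)))))))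
def X2 : Tr (List (ℕ × ℤ × ℕ)) := (.node [] (.node [] (.node [(9, 1, 1)] (.node [] (.node [] (.node [] (.node [] (.node [(61, (-1), 1)] .nil .nil) .nil) (.node [(25, (-1), 1)] .nil .nil)) (.node [] (.node [(13, (-1), 1)] .nil .nil) (.node [(41, 1, 1)] .nil .nil))) (.node [] .nil (.node [] (.node [(15, (-1), 1)] .nil .nil) .nil))) (.node [] (.node [] (.node [] (.node [] (.node [(80, (-1), 1)] .nil .nil) .nil) (.node [(29, 1, 1)] .nil .nil)) (.node [] .nil (.node [(45, (-1), 1)] .nil .nil))) (.node [] .nil (.node [(8, 1, 1)] .nil (.node [(51, (-1), 1)] .nil .nil))))) (.node [] (.node [] (.node [] (.node [] (.node [] (.node [(63, (-1), 1)] .nil .nil) .nil) (.node [(27, 1, 1)] .nil .nil)) (.node [] .nil (.node [(43, (-1), 1)] .nil .nil))) (.node [] .nil (.node [] (.node [(17, (-1), 1)] .nil .nil) .nil))) (.node [] .nil (.node [] (.node [] (.node [(11, (-1), 1)] .nil .nil) .nil) (.node [] .nil (.node [(53, (-1), 1)] .nil .nil))))))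 (.node [(9, (-1), 1)] (.node [] (.node [] (.node [] (.node [] (.node [] (.node [(62, 1, 1)] .nil .nil) .nil) (.node [(26, 1, 1)] .nil .nil)) (.node [] .nil (.node [(42, (-1), 1)] .nil .nil))) (.node [] .nil (.node [] (.node [(16, 1, 1)] .nil .nil) .nil))) (.node [] (.node [] (.node [] (.node [] (.node [(101, 1, 1)] .nil .nil) .nil) .nil) .nil) (.node [] (.node [] (.node [(10, 1, 1)] .nil .nil) .nil) (.node [] .nil (.node [(52, 1, 1)] .nil .nil))))) (.node [] (.node [] (.node [] (.node [] (.node [] (.node [(0, (-1), 1), (1, (-2), 1), (2, (-2), 1), (3, (-4), 1), (4, (-3), 1), (5, (-2), 1), (6, (-1), 1), (9, (-1), 2)] .nil .nil) .nil) (.node [(28, (-1), 1)] .nil .nil)) (.node [] .nil (.node [(44, 1, 1)] .nil .nil))) (.node [] .nil (.node [] .nil (.node [(50, 1, 1)] .nil .nil)))) (.node [] (.node [] (.node [(7, (-1), 1)] .nil .nil) (.node [] (.node [(14, 1, 1)] .nil .nil) .nil)) (.node [] (.node [] (.node [(12, 1, 1)] .nil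 .nil) (.node [(40, (-1), 1)] .nil .nil)) (.node [] (.node [(24, 1, 1)] .nil .nil) (.node [(60, 1, 1)] .nil .nil)))))))
def X3 : Tr (List (ℕ × ℤ × ℕ)) := (.node [] (.node [(10, 1, 1)] (.node [(10, (-1), 1)] (.node [] (.node [] (.node [] (.node [(9, 1, 1)] (.node [(65, 1, 1)] .nil .nil) .nil) .nil) .nil) (.node [] .nil (.node [] (.node [(18, (-1), 1)] .nil .nil) (.node [(50, 1, 1)] .nil .nil)))) (.node [] (.node [] (.node [] (.node [] (.node [(81, 1, 1)] .nil .nil) .nil) (.node [(32, 1, 1)] .nil .nil)) (.node [] .nil (.node [(48, (-1), 1)] .nil .nil))) (.node [] (.node [] (.node [(13, 1, 1)] .nil .nil) (.node [(40, (-1), 1)] .nil .nil)) (.node [] (.node [(24, 1, 1)] .nil .nil) .nil)))) (.node [] (.node [] (.node [] (.node [] (.node [] (.node [(0, (-1), 1), (1, (-2), 1), (2, (-2), 1), (3, (-3), 1), (4, (-3), 1), (5, (-2), 1), (6, (-1), 1), (10, (-1), 2)] .nil .nil) .nil) (.node [(30, 1, 1)] .nil .nil)) (.node [] .nil (.node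 [(46, (-1), 1)] .nil .nil))) (.node [] (.node [] (.node [(11, 1, 1)] .nil .nil) .nil) (.node [] (.node [(20, (-1), 1)] .nil .nil) (.node [(52, 1, 1)] .nil .nil)))) (.node [] (.node [] (.node [(7, 1, 1)] .nil .nil) (.node [] (.node [(14, 1, 1)] .nil .nil) .nil)) (.node [] (.node [] .nil (.node [(42, (-1), 1)] .nil .nil)) (.node [] (.node [(26, 1, 1)] .nil .nil) (.node [(54, (-1), 1)] .nil .nil)))))) (.node [] (.node [(10, 1, 1)] (.node [] (.node [] (.node [] (.node [] (.node [(66, (-1), 1)] .nil .nil) .nil) .nil) .nil) (.node [] .nil (.node [] (.node [(19, 1, 1)] .nil .nil) (.node [(51, (-1), 1)] .nil .nil)))) (.node [] (.node [] (.node [] (.node [] (.node [(102, (-1), 1)] .nil .nil) .nil) .nil) .nil) (.node [] (.node [] .nil (.node [(41, 1, 1)] .nil .nil)) (.node [] (.node [(25, (-1), 1)] .nil .nil) .nil)))) (.node [] (.node [] (.node [] (.node [] (.node [] (.node [(76, (-1), 1)] .nil .nil) .nil) (.node [(31, (-1), 1)]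 .nil .nil)) (.node [] .nil (.node [(47, 1, 1)] .nil .nil))) (.node [] (.node [] (.node [(12, (-1), 1)] .nil .nil) .nil) (.node [(8, (-1), 1)] .nil .nil))) (.node [] .nil (.node [] .nil (.node [] .nil (.node [(64, (-1), 1)] .nil .nil)))))))
def X4 : Tr (List (ℕ × ℤ × ℕ)) := (.node [] (.node [(11, 1, 1)] (.node [] (.node [] (.node [] (.node [] (.node [] (.node [(68, (-1), 1)] .nil .nil) .nil) (.node [(30, 1, 1)] .nil .nil)) (.node [] .nil (.node [(46, (-1), 1)] .nil .nil))) (.node [] (.node [] (.node [(12, 1, 1)] .nil .nil) .nil) .nil)) (.node [] (.node [] (.node [] (.node [] (.node [(82, (-1), 1)] .nil .nil) .nil) (.node [(33, 1, 1)] .nil .nil)) (.node [] .nil (.node [(49, (-1), 1)] .nil .nil))) .nil)) (.node [(11, 1, 1)] (.node [] (.node [] (.node [] (.node [] (.node [(73, (-1), 1)] .nil .nil) .nil) .nil) .nil) (.node [] .nil (.node [(8, 1, 1)] (.node [(22, (-1), 1)] .nil .nil) (.node [(53, 1, 1)] .nil .nil)))) (.node []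 (.node [] .nil (.node [] (.node [(15, 1, 1)] .nil .nil) (.node [(50, 1, 1)] .nil .nil))) (.node [] (.node [] .nil (.node [(44, (-1), 1)] .nil .nil)) (.node [] (.node [(28, 1, 1)] .nil .nil) .nil))))) (.node [] (.node [(11, (-1), 1)] (.node [] (.node [] (.node [] (.node [] (.node [(0, (-1), 1), (1, (-2), 1), (2, (-2), 1), (3, (-3), 1), (4, (-2), 1), (5, (-2), 1), (6, (-1), 1), (11, (-1), 2)] .nil .nil) .nil) (.node [(31, (-1), 1)] .nil .nil)) (.node [] .nil (.node [(47, 1, 1)] .nil .nil))) (.node [] (.node [] (.node [(13, (-1), 1)] .nil .nil) .nil) (.node [] (.node [(21, 1, 1)] .nil .nil) .nil))) (.node [] (.node [] (.node [(7, (-1), 1)] (.node [] (.node [(103, 1, 1)] .nil .nil) .nil) .nil) .nil) (.node [] (.node [] .nil (.node [(43, 1, 1)] .nil .nil)) (.node [] (.node [(27, (-1), 1)] .nil .nil) (.node [(54, (-1), 1)] .nil .nil))))) (.node [] (.node [] (.node [] (.node [] (.node [(10, 1, 1)] (.node [(77, 1, 1)] .nil .nil)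 .nil) .nil) .nil) (.node [] (.node [] .nil (.node [(40, (-1), 1)] .nil .nil)) (.node [] (.node [(24, 1, 1)] .nil .nil) .nil))) (.node [] (.node [] .nil (.node [] (.node [(18, (-1), 1)] .nil .nil) (.node [(51, (-1), 1)] .nil .nil))) (.node [] .nil (.node [(9, (-1), 1)] .nil (.node [(67, 1, 1)] .nil .nil)))))))
def X5 : Tr (List (ℕ × ℤ × ℕ)) := (.node [] (.node [(12, 1, 1)] (.node [] (.node [] (.node [] (.node [] (.node [] (.node [(0, (-1), 1), (1, (-2), 1), (2, (-2), 1), (3, (-3), 1), (4, (-2), 1), (5, (-1), 1), (6, (-1), 1), (12, (-1), 2)] .nil .nil) .nil) .nil) .nil) (.node [] .nil (.node [] (.node [(21, 1, 1)] .nil .nil) .nil))) (.node [] (.node [] (.node [(7, 1, 1)] (.node [] (.node [(83, 1, 1)] .nil .nil) .nil) .nil) .nil) (.node [] (.node [] .nil (.node [(43, 1, 1)] .nil .nil)) (.node [] (.node [(27, (-1), 1)] .nil .nil) (.node [(54, (-1), 1)] .nil .nil))))) (.node [(12, (-1), 1)] (.node [] (.node [] (.node [] (.node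 [(10, (-1), 1)] (.node [(74, 1, 1)] .nil .nil) .nil) .nil) .nil) (.node [] .nil (.node [] (.node [(23, (-1), 1)] .nil .nil) .nil))) (.node [] (.node [] .nil (.node [] (.node [(16, 1, 1)] .nil .nil) .nil)) (.node [] (.node [] .nil (.node [(45, (-1), 1)] .nil .nil)) (.node [(9, 1, 1)] (.node [(29, 1, 1)] .nil .nil) .nil))))) (.node [] (.node [] (.node [] (.node [] (.node [] (.node [] (.node [(71, (-1), 1)] .nil .nil) .nil) (.node [(32, (-1), 1)] .nil .nil)) (.node [] .nil (.node [(48, 1, 1)] .nil .nil))) (.node [] .nil (.node [(8, (-1), 1)] .nil (.node [(53, 1, 1)] .nil .nil)))) (.node [] (.node [] (.node [] (.node [(11, 1, 1)] (.node [(104, (-1), 1)] .nil .nil) .nil) .nil) (.node [] .nil (.node [(50, 1, 1)] .nil .nil))) .nil)) (.node [(12, 1, 1)] (.node [] (.node [] (.node [] (.node [] (.node [(78, (-1), 1)] .nil .nil) .nil) (.node [(33, 1, 1)] .nil .nil)) (.node [] .nil (.node [(49, (-1), 1)] .nil .nil))) (.node [] (.node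 [] .nil (.node [(41, (-1), 1)] .nil .nil)) (.node [] (.node [(25, 1, 1)] .nil .nil) .nil))) (.node [] (.node [] (.node [] (.node [(13, 1, 1)] .nil .nil) .nil) (.node [] (.node [(19, (-1), 1)] .nil .nil) (.node [(52, (-1), 1)] .nil .nil))) (.node [] (.node [] .nil (.node [(46, (-1), 1)] .nil .nil)) (.node [] (.node [(30, 1, 1)] .nil .nil) (.node [(69, (-1), 1)] .nil .nil)))))))
def X6 : Tr (List (ℕ × ℤ × ℕ)) := (.node [] (.node [(13, 1, 1)] (.node [] (.node [] (.node [] (.node [] (.node [] (.node [(70, (-1), 1)] .nil .nil) .nil) (.node [(32, (-1), 1)] .nil .nil)) (.node [] .nil (.node [(48, 1, 1)] .nil .nil))) (.node [] .nil (.node [(8, 1, 1)] (.node [(22, 1, 1)] .nil .nil) (.node [(53, 1, 1)] .nil .nil)))) (.node [] (.node [] (.node [] (.node [(11, (-1), 1)] (.node [(84, (-1), 1)] .nil .nil) .nil) .nil) .nil) (.node [] (.node [] .nil (.node [(44, 1, 1)] .nil .nil)) (.node [] (.node [(28, (-1), 1)] .nil .nil) .nil)))) (.node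 [] (.node [] (.node [] (.node [] (.node [] (.node [(75, (-1), 1)] .nil .nil) .nil) (.node [(33, 1, 1)] .nil .nil)) (.node [] .nil (.node [(49, (-1), 1)] .nil .nil))) .nil) (.node [] (.node [] (.node [] (.node [(12, 1, 1)] .nil .nil) .nil) (.node [] (.node [(17, 1, 1)] .nil .nil) (.node [(52, (-1), 1)] .nil .nil))) .nil))) (.node [] (.node [] (.node [] (.node [] (.node [] (.node [(10, 1, 1)] (.node [(72, 1, 1)] .nil .nil) .nil) .nil) .nil) (.node [] .nil (.node [] (.node [(23, (-1), 1)] .nil .nil) .nil))) (.node [] (.node [] (.node [] (.node [] (.node [(105, 1, 1)] .nil .nil) .nil) .nil) (.node [] .nil (.node [(51, 1, 1)] .nil .nil))) (.node [] (.node [] .nil (.node [(45, (-1), 1)] .nil .nil)) (.node [(9, (-1), 1)] (.node [(29, 1, 1)] .nil .nil) .nil)))) (.node [(13, (-1), 1)] (.node [] (.node [] (.node [(7, (-1), 1)] (.node [] (.node [(79, 1, 1)] .nil .nil) .nil) .nil) .nil) (.node [] (.node [] .nil (.node [(42, (-1), 1)]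 .nil .nil)) (.node [] (.node [(26, 1, 1)] .nil .nil) (.node [(54, (-1), 1)] .nil .nil)))) (.node [] (.node [] .nil (.node [] (.node [(20, (-1), 1)] .nil .nil) .nil)) (.node [] (.node [] .nil (.node [(47, (-1), 1)] .nil .nil)) (.node [] (.node [(31, 1, 1)] .nil .nil) (.node [(0, (-1), 1), (1, (-2), 1), (2, (-2), 1), (3, (-3), 1), (4, (-2), 1), (5, (-1), 1), (13, (-1), 2)] .nil .nil)))))))
def X7 : Tr (List (ℕ × ℤ × ℕ)) := (.node [] (.node [(14, (-1), 1)] (.node [] (.node [] (.node [] .nil (.node [] (.node [(20, 1, 1)] .nil .nil) .nil)) (.node [] (.node [] .nil (.node [(40, (-1), 1)] .nil .nil)) (.node [] .nil (.node [(60, (-1), 1)] .nil .nil)))) (.node [] (.node [] (.node [] (.node [] (.node [(90, (-1), 1)] .nil .nil) .nil) (.node [(36, 1, 1)] .nil .nil)) (.node [] (.node [(25, (-1), 1)] .nil .nil) (.node [(57, (-1), 1)] .nil .nil))) (.node [] (.node [] (.node [(17, 1, 1)] .nil .nil) .nil) (.node [] .nil (.node [(65, 1,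 1)] .nil .nil))))) (.node [] (.node [] (.node [] (.node [(7, (-1), 1)] (.node [] (.node [(85, (-1), 1)] .nil .nil) .nil) (.node [(34, 1, 1)] .nil .nil)) (.node [(8, 1, 1)] .nil (.node [(55, (-1), 1)] .nil .nil))) (.node [] (.node [] (.node [(15, 1, 1)] .nil .nil) (.node [(42, (-1), 1)] .nil .nil)) (.node [] .nil (.node [(62, (-1), 1)] .nil .nil)))) (.node [] (.node [] .nil (.node [(9, 1, 1)] .nil .nil)) (.node [] (.node [] (.node [(18, 1, 1)] .nil .nil) .nil) (.node [] .nil (.node [(0, (-1), 1), (1, (-1), 1), (2, (-2), 1), (3, (-3), 1), (4, (-3), 1), (5, (-2), 1), (6, (-1), 1), (14, (-1), 2)] .nil .nil)))))) (.node [] (.node [(14, 1, 1)] (.node [] .nil (.node [] (.node [] .nil (.node [(41, 1, 1)] .nil .nil)) (.node [] .nil (.node [(61, 1, 1)] .nil .nil)))) (.node [] (.node [] (.node [] (.node [] (.node [(106, 1, 1)] .nil .nil) .nil) .nil) (.node [] (.node [(26, 1, 1)] .nil .nil) .nil)) (.node [] .nil (.node [] .nil (.node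 [(66, (-1), 1)] .nil .nil))))) (.node [] (.node [] (.node [] (.node [] (.node [] (.node [(86, (-1), 1)] .nil .nil) .nil) (.node [(35, (-1), 1)] .nil .nil)) (.node [] (.node [(24, 1, 1)] .nil .nil) (.node [(56, 1, 1)] .nil .nil))) (.node [] (.node [] (.node [(16, (-1), 1)] .nil .nil) .nil) (.node [] .nil (.node [(64, (-1), 1)] .nil .nil)))) (.node [] (.node [] .nil (.node [(10, 1, 1)] .nil .nil)) (.node [] (.node [] (.node [(19, (-1), 1)] .nil .nil) .nil) .nil)))))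
def X8 : Tr (List (ℕ × ℤ × ℕ)) := (.node [] (.node [(15, (-1), 1)] (.node [(15, 1, 1)] (.node [] (.node [] (.node [] .nil (.node [(34, 1, 1)] .nil .nil)) (.node [] (.node [(22, 1, 1)] .nil .nil) (.node [(55, (-1), 1)] .nil .nil))) (.node [] (.node [] (.node [(16, 1, 1)] .nil .nil) .nil) .nil)) (.node [] (.node [] (.node [] (.node [] (.node [(91, 1, 1)] .nil .nil) .nil) (.node [(37, 1, 1)] .nil .nil)) (.node [] (.node [(27, (-1), 1)] .nil .nil) (.node [(58, (-1), 1)] .nil .nil))) (.node [] .nil (.node [] .nil (.node [(68, (-1), 1)] .nil .nil))))) (.node [(15, 1, 1)] (.node [] (.node [] .nil (.node [] (.node [(24, 1, 1)] .nil .nil) .nil)) (.node [] (.node [] .nil (.node [(44, (-1), 1)] .nil .nil)) (.node [] .nil (.node [(63, (-1), 1)] .nil .nil)))) (.node [] (.node [] .nil (.node [] .nil (.node [(60, (-1), 1)] .nil .nil))) (.node [] .nil (.node [] .nil (.node [(73, (-1), 1)] .nil .nil)))))) (.node [] (.node [(15, (-1), 1)]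 (.node [] (.node [] (.node [(7, 1, 1)] (.node [] (.node [(85, (-1), 1)] .nil .nil) .nil) (.node [(35, (-1), 1)] .nil .nil)) (.node [(8, (-1), 1)] .nil (.node [(56, 1, 1)] .nil .nil))) (.node [] (.node [] (.node [(17, (-1), 1)] .nil .nil) (.node [(43, 1, 1)] .nil .nil)) .nil)) (.node [] (.node [] (.node [] (.node [] (.node [(107, (-1), 1)] .nil .nil) .nil) .nil) (.node [(9, (-1), 1)] (.node [(28, 1, 1)] .nil .nil) .nil)) (.node [] (.node [] (.node [(18, 1, 1)] .nil .nil) .nil) (.node [] .nil (.node [(0, (-1), 1), (1, (-1), 1), (2, (-2), 1), (3, (-3), 1), (4, (-2), 1), (5, (-2), 1), (6, (-1), 1), (15, (-1), 2)] .nil .nil))))) (.node [] (.node [] (.node [] (.node [] (.node [(14, 1, 1)] (.node [(87, 1, 1)] .nil .nil) .nil) .nil) .nil) (.node [] .nil (.node [] .nil (.node [(67, 1, 1)] .nil .nil)))) (.node [] (.node [] (.node [] .nil (.node [(40, (-1), 1)] .nil .nil)) (.node [(11, 1, 1)] .nil (.node [(61, 1, 1)] .nil .nil)))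 (.node [] (.node [] (.node [(21, (-1), 1)] .nil .nil) .nil) .nil)))))
def X9 : Tr (List (ℕ × ℤ × ℕ)) := (.node [] (.node [(16, (-1), 1)] (.node [(16, 1, 1)] (.node [] (.node [] (.node [(7, (-1), 1)] (.node [] (.node [(85, (-1), 1)] .nil .nil) .nil) .nil) (.node [(8, 1, 1)] (.node [(23, 1, 1)] .nil .nil) .nil)) (.node [] (.node [] .nil (.node [(43, 1, 1)] .nil .nil)) .nil)) (.node [] (.node [] (.node [] (.node [] (.node [(92, (-1), 1)] .nil .nil) .nil) .nil) (.node [(9, 1, 1)] .nil .nil)) (.node [] .nil (.node [] .nil (.node [(0, (-1), 1), (1, (-1), 1), (2, (-2), 1), (3, (-3), 1), (4, (-2), 1), (5, (-1), 1), (6, (-1), 1), (16, (-1), 2)] .nil .nil))))) (.node [(16, (-1), 1)] (.node [] (.node [] (.node [] (.node [(14, (-1), 1)] .nil .nil) .nil) (.node [] (.node [(25, 1, 1)] .nil .nil) .nil)) (.node [] (.node [] .nil (.node [(45, (-1), 1)] .nil .nil)) .nil)) (.node [] .nil (.node [] (.node [] (.node [(21, (-1), 1)] .nil .nil)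 .nil) (.node [] .nil (.node [(74, 1, 1)] .nil .nil)))))) (.node [] (.node [] (.node [] (.node [] (.node [] .nil (.node [(36, (-1), 1)] .nil .nil)) (.node [] .nil (.node [(57, 1, 1)] .nil .nil))) (.node [] .nil (.node [] .nil (.node [(63, (-1), 1)] .nil .nil)))) (.node [] (.node [] (.node [] (.node [(15, 1, 1)] (.node [(108, 1, 1)] .nil .nil) .nil) .nil) (.node [] (.node [(29, 1, 1)] .nil .nil) (.node [(60, (-1), 1)] .nil .nil))) (.node [] (.node [] (.node [(19, 1, 1)] .nil .nil) .nil) (.node [] .nil (.node [(71, (-1), 1)] .nil .nil))))) (.node [(16, 1, 1)] (.node [] (.node [] (.node [] (.node [] (.node [(88, (-1), 1)] .nil .nil) .nil) (.node [(37, 1, 1)] .nil .nil)) (.node [] (.node [(27, (-1), 1)] .nil .nil) (.node [(58, (-1), 1)] .nil .nil))) (.node [] .nil (.node [] .nil (.node [(69, (-1), 1)] .nil .nil)))) (.node [] (.node [] (.node [] (.node [(17, 1, 1)] .nil .nil) (.node [(41, (-1), 1)] .nil .nil)) (.node [(12, 1,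 1)] .nil (.node [(62, 1, 1)] .nil .nil))) (.node [] (.node [] .nil (.node [(55, (-1), 1)] .nil .nil)) (.node [] (.node [(34, 1, 1)] .nil .nil) .nil))))))
def X10 : Tr (List (ℕ × ℤ × ℕ)) := (.node [] (.node [(17, (-1), 1)] (.node [(17, 1, 1)] (.node [] (.node [] (.node [] .nil (.node [(36, (-1), 1)] .nil .nil)) (.node [] .nil (.node [(57, 1, 1)] .nil .nil))) (.node [] (.node [] .nil (.node [(44, 1, 1)] .nil .nil)) (.node [] .nil (.node [(63, (-1), 1)] .nil .nil)))) (.node [] (.node [] (.node [] (.node [(15, (-1), 1)] (.node [(93, 1, 1)] .nil .nil) .nil) .nil) (.node [] (.node [(29, 1, 1)] .nil .nil) .nil)) (.node [] .nil (.node [] .nil (.node [(70, (-1), 1)] .nil .nil))))) (.node [] (.node [] (.node [] (.node [] .nil (.node [(37, 1, 1)] .nil .nil)) (.node [] (.node [(26, 1, 1)] .nil .nil) (.node [(58, (-1), 1)] .nil .nil))) .nil) (.node [] (.node [] (.node [] (.node [(16, 1, 1)] .nil .nil) .nil) (.node [] .nil (.node [(62,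 1, 1)] .nil .nil))) (.node [] (.node [] (.node [(22, (-1), 1)] .nil .nil) .nil) (.node [] .nil (.node [(75, (-1), 1)] .nil .nil)))))) (.node [] (.node [] (.node [] (.node [] (.node [] (.node [(14, 1, 1)] .nil .nil) .nil) .nil) (.node [] (.node [] .nil (.node [(45, (-1), 1)] .nil .nil)) .nil)) (.node [] (.node [] (.node [] (.node [] (.node [(109, (-1), 1)] .nil .nil) .nil) .nil) (.node [] .nil (.node [(61, (-1), 1)] .nil .nil))) (.node [] (.node [] (.node [(20, 1, 1)] .nil .nil) .nil) (.node [] .nil (.node [(72, 1, 1)] .nil .nil))))) (.node [(17, (-1), 1)] (.node [] (.node [] (.node [] (.node [] (.node [(89, 1, 1)] .nil .nil) .nil) .nil) (.node [(9, (-1), 1)] (.node [(28, (-1), 1)] .nil .nil) .nil)) (.node [] .nil (.node [] .nil (.node [(0, (-1), 1), (1, (-1), 1), (2, (-2), 1), (3, (-3), 1), (4, (-2), 1), (5, (-1), 1), (17, (-1), 2)] .nil .nil)))) (.node [] (.node [] (.node [] .nil (.node [(42, (-1), 1)] .nil .nil)) (.node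 [(13, 1, 1)] .nil .nil)) (.node [(7, 1, 1)] (.node [(8, (-1), 1)] (.node [(23, 1, 1)] .nil .nil) (.node [(56, (-1), 1)] .nil .nil)) (.node [] (.node [(35, 1, 1)] .nil .nil) (.node [(85, (-1), 1)] .nil .nil)))))))
def X11 : Tr (List (ℕ × ℤ × ℕ)) := (.node [] (.node [] (.node [(18, (-1), 1)] (.node [] (.node [] (.node [] (.node [(15, 1, 1)] .nil .nil) .nil) .nil) (.node [] (.node [] (.node [(19, 1, 1)] .nil .nil) .nil) (.node [] .nil (.node [(67, 1, 1)] .nil .nil)))) (.node [] (.node [] (.node [] (.node [] (.node [(94, (-1), 1)] .nil .nil) .nil) (.node [(38, 1, 1)] .nil .nil)) (.node [] (.node [(30, (-1), 1)] .nil .nil) (.node [(59, (-1), 1)] .nil .nil))) (.node [] (.node [] (.node [(22, (-1), 1)] .nil .nil) .nil) .nil))) (.node [(18, 1, 1)] (.node [] (.node [] (.node [] (.node [] (.node [(87, 1, 1)] .nil .nil) .nil) .nil) .nil) (.node [] (.node [] .nil (.node [(47, (-1), 1)] .nil .nil)) (.node [] .nil (.node [(0, (-1), 1),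 (1, (-1), 1), (2, (-2), 1), (3, (-2), 1), (4, (-2), 1), (5, (-2), 1), (6, (-1), 1), (18, (-1), 2)] .nil .nil)))) (.node [] (.node [] (.node [] .nil (.node [(40, (-1), 1)] .nil .nil)) (.node [(11, (-1), 1)] .nil (.node [(64, 1, 1)] .nil .nil))) (.node [(7, (-1), 1)] (.node [(8, 1, 1)] .nil (.node [(56, 1, 1)] .nil .nil)) (.node [] (.node [(35, (-1), 1)] .nil .nil) (.node [(77, (-1), 1)] .nil .nil)))))) (.node [(18, 1, 1)] (.node [] (.node [] (.node [] (.node [] (.node [] (.node [(86, 1, 1)] .nil .nil) .nil) .nil) (.node [] (.node [(24, 1, 1)] .nil .nil) .nil)) (.node [] (.node [] (.node [(20, (-1), 1)] .nil .nil) (.node [(46, 1, 1)] .nil .nil)) (.node [] .nil (.node [(68, (-1), 1)] .nil .nil)))) (.node [] (.node [] (.node [] (.node [] (.node [(110, 1, 1)] .nil .nil) .nil) .nil) (.node [(10, (-1), 1)] (.node [(31, 1, 1)] .nil .nil) .nil)) (.node [] (.node [] .nil (.node [(55, (-1), 1)] .nil .nil)) (.node [] (.node [(34, 1,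 1)] .nil .nil) (.node [(76, (-1), 1)] .nil .nil))))) (.node [] (.node [] .nil (.node [] (.node [] (.node [(21, 1, 1)] .nil .nil) .nil) .nil)) (.node [] (.node [] .nil (.node [] .nil (.node [(65, (-1), 1)] .nil .nil))) (.node [] .nil (.node [(14, 1, 1)] .nil .nil))))))
def X12 : Tr (List (ℕ × ℤ × ℕ)) := (.node [] (.node [] (.node [(19, (-1), 1)] (.node [] (.node [] (.node [] (.node [(16, 1, 1)] (.node [(86, 1, 1)] .nil .nil) .nil) .nil) .nil) (.node [] (.node [] .nil (.node [(46, 1, 1)] .nil .nil)) (.node [] .nil (.node [(69, (-1), 1)] .nil .nil)))) (.node [] (.node [] (.node [] (.node [] (.node [(95, 1, 1)] .nil .nil) .nil) .nil) (.node [(10, 1, 1)] .nil .nil)) (.node [] (.node [] (.node [(23, (-1), 1)] .nil .nil) (.node [(55, (-1), 1)] .nil .nil)) (.node [] (.node [(34, 1, 1)] .nil .nil) (.node [(76, (-1), 1)] .nil .nil))))) (.node [(19, (-1), 1)] (.node [] (.node [] (.node [] (.node [] (.node [(88, (-1), 1)] .nil .nil)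 .nil) .nil) .nil) (.node [] (.node [] (.node [(21, 1, 1)] .nil .nil) (.node [(48, (-1), 1)] .nil .nil)) (.node [] .nil (.node [(71, (-1), 1)] .nil .nil)))) (.node [] (.node [] (.node [] .nil (.node [(41, (-1), 1)] .nil .nil)) (.node [(12, (-1), 1)] .nil .nil)) (.node [] (.node [] .nil (.node [(57, 1, 1)] .nil .nil)) (.node [(14, (-1), 1)] (.node [(36, (-1), 1)] .nil .nil) (.node [(78, 1, 1)] .nil .nil)))))) (.node [(19, 1, 1)] (.node [(19, 1, 1)] (.node [] (.node [] .nil (.node [] (.node [(25, 1, 1)] .nil .nil) .nil)) (.node [] .nil (.node [] .nil (.node [(0, (-1), 1), (1, (-1), 1), (2, (-2), 1), (3, (-2), 1), (4, (-2), 1), (5, (-1), 1), (6, (-1), 1), (19, (-1), 2)] .nil .nil)))) (.node [] (.node [] (.node [] (.node [(18, 1, 1)] (.node [(111, (-1), 1)] .nil .nil) .nil) .nil) (.node [] (.node [(32, 1, 1)] .nil .nil) (.node [(64, 1, 1)] .nil .nil))) (.node [(7, 1, 1)] (.node [(8, (-1), 1)] .nil .nil) .nil))) (.node [(19,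 1, 1)] (.node [] (.node [] (.node [] .nil (.node [(38, 1, 1)] .nil .nil)) (.node [] (.node [(30, (-1), 1)] .nil .nil) (.node [(59, (-1), 1)] .nil .nil))) .nil) (.node [] (.node [] (.node [] (.node [(20, 1, 1)] .nil .nil) .nil) (.node [] .nil (.node [(66, (-1), 1)] .nil .nil))) .nil))))
def X13 : Tr (List (ℕ × ℤ × ℕ)) := (.node [] (.node [] (.node [(20, (-1), 1)] (.node [] (.node [] (.node [] (.node [(17, 1, 1)] .nil .nil) .nil) .nil) (.node [] (.node [] .nil (.node [(47, 1, 1)] .nil .nil)) (.node [] .nil (.node [(0, (-1), 1), (1, (-1), 1), (2, (-2), 1), (3, (-2), 1), (4, (-2), 1), (5, (-1), 1), (20, (-1), 2)] .nil .nil)))) (.node [] (.node [] (.node [] (.node [(18, (-1), 1)] (.node [(96, (-1), 1)] .nil .nil) .nil) .nil) (.node [] (.node [(32, 1, 1)] .nil .nil) .nil)) (.node [(7, (-1), 1)] (.node [(8, 1, 1)] .nil (.node [(56, (-1), 1)] .nil .nil)) (.node [] (.node [(35, 1, 1)] .nil .nil) .nil)))) (.node [] (.node [] (.node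 [] (.node [] (.node [] (.node [(89, 1, 1)] .nil .nil) .nil) (.node [(38, 1, 1)] .nil .nil)) (.node [] .nil (.node [(59, (-1), 1)] .nil .nil))) (.node [] (.node [] (.node [(22, 1, 1)] .nil .nil) .nil) (.node [] .nil (.node [(72, 1, 1)] .nil .nil)))) (.node [] (.node [] (.node [] (.node [(19, 1, 1)] .nil .nil) (.node [(42, (-1), 1)] .nil .nil)) (.node [(13, (-1), 1)] .nil (.node [(66, (-1), 1)] .nil .nil))) (.node [] .nil (.node [] .nil (.node [(79, (-1), 1)] .nil .nil)))))) (.node [(20, 1, 1)] (.node [(20, 1, 1)] (.node [] (.node [] .nil (.node [] (.node [(26, 1, 1)] .nil .nil) .nil)) (.node [] (.node [] .nil (.node [(48, (-1), 1)] .nil .nil)) (.node [] .nil (.node [(70, (-1), 1)] .nil .nil)))) (.node [] (.node [] (.node [] (.node [] (.node [(112, 1, 1)] .nil .nil) .nil) .nil) (.node [] .nil (.node [(65, 1, 1)] .nil .nil))) (.node [] (.node [] .nil (.node [(57, 1, 1)] .nil .nil)) (.node [(14, 1, 1)] (.node [(36, (-1), 1)]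 .nil .nil) .nil)))) (.node [(20, (-1), 1)] (.node [] (.node [] .nil (.node [(10, (-1), 1)] (.node [(31, (-1), 1)] .nil .nil) .nil)) (.node [] (.node [] (.node [(23, (-1), 1)] .nil .nil) .nil) (.node [] .nil (.node [(76, (-1), 1)] .nil .nil)))) (.node [] .nil (.node [] .nil (.node [] .nil (.node [(86, 1, 1)] .nil .nil)))))))
def X14 : Tr (List (ℕ × ℤ × ℕ)) := (.node [] (.node [] (.node [] (.node [] (.node [] (.node [] (.node [] (.node [(87, (-1), 1)] .nil .nil) .nil) .nil) .nil) .nil) (.node [] (.node [] (.node [] (.node [] (.node [(97, (-1), 1)] .nil .nil) .nil) .nil) (.node [(11, 1, 1)] .nil .nil)) (.node [] .nil (.node [] .nil (.node [(77, 1, 1)] .nil .nil))))) (.node [] (.node [] (.node [] (.node [] (.node [(18, 1, 1)] .nil .nil) .nil) (.node [] (.node [(30, (-1), 1)] .nil .nil) .nil)) (.node [] (.node [] .nil (.node [(49, (-1), 1)] .nil .nil)) (.node [] .nil (.node [(74, (-1), 1)] .nil .nil)))) (.node [] (.node [] (.node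 [] .nil (.node [(43, (-1), 1)] .nil .nil)) (.node [] .nil (.node [(69, (-1), 1)] .nil .nil))) (.node [] (.node [] .nil (.node [(58, 1, 1)] .nil .nil)) (.node [(15, (-1), 1)] (.node [(37, (-1), 1)] .nil .nil) .nil))))) (.node [(21, 1, 1)] (.node [(21, (-1), 1)] (.node [] (.node [] (.node [] (.node [] (.node [(88, (-1), 1)] .nil .nil) .nil) (.node [(38, 1, 1)] .nil .nil)) (.node [] (.node [(27, 1, 1)] .nil .nil) (.node [(59, (-1), 1)] .nil .nil))) (.node [] (.node [] (.node [(23, 1, 1)] .nil .nil) .nil) (.node [] .nil (.node [(73, (-1), 1)] .nil .nil)))) (.node [] (.node [] (.node [] (.node [] (.node [(113, 1, 1)] .nil .nil) .nil) .nil) (.node [(12, 1, 1)] (.node [(33, 1, 1)] .nil .nil) (.node [(67, (-1), 1)] .nil .nil))) (.node [] .nil (.node [] .nil (.node [(78, 1, 1)] .nil .nil))))) (.node [(21, 1, 1)] (.node [] (.node [] (.node [] (.node [(19, 1, 1)] .nil .nil) .nil) .nil) (.node [(7, (-1), 1)] (.node [(8, 1, 1)] .nil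 (.node [(55, (-1), 1)] .nil .nil)) (.node [] (.node [(34, 1, 1)] .nil .nil) .nil))) (.node [] (.node [] (.node [] (.node [(22, 1, 1)] .nil .nil) (.node [(46, 1, 1)] .nil .nil)) (.node [] .nil (.node [(0, (-1), 1), (1, (-1), 1), (2, (-2), 1), (3, (-2), 1), (4, (-1), 1), (5, (-1), 1), (6, (-1), 1), (21, (-1), 2)] .nil .nil))) (.node [] .nil (.node [(16, (-1), 1)] .nil .nil))))))
def X15 : Tr (List (ℕ × ℤ × ℕ)) := (.node [] (.node [] (.node [] (.node [] (.node [] (.node [] .nil (.node [(38, 1, 1)] .nil .nil)) (.node [] .nil (.node [(59, (-1), 1)] .nil .nil))) (.node [] (.node [] (.node [(23, 1, 1)] .nil .nil) .nil) (.node [] .nil (.node [(73, (-1), 1)] .nil .nil)))) (.node [] (.node [] (.node [] (.node [] (.node [(98, 1, 1)] .nil .nil) .nil) .nil) (.node [] (.node [(33, 1, 1)] .nil .nil) .nil)) .nil)) (.node [(22, 1, 1)] (.node [] (.node [] .nil (.node [] (.node [(31, (-1), 1)] .nil .nil) .nil)) (.node [(7, 1, 1)] (.node [(8,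 (-1), 1)] .nil .nil) (.node [] .nil (.node [(75, 1, 1)] .nil .nil)))) (.node [] (.node [] (.node [] (.node [(21, 1, 1)] .nil .nil) (.node [(44, (-1), 1)] .nil .nil)) (.node [] .nil (.node [(0, (-1), 1), (1, (-1), 1), (2, (-2), 1), (3, (-2), 1), (4, (-1), 1), (5, (-1), 1), (22, (-1), 2)] .nil .nil))) .nil))) (.node [(22, 1, 1)] (.node [(22, (-1), 1)] (.node [] (.node [] (.node [] (.node [(18, (-1), 1)] (.node [(89, 1, 1)] .nil .nil) .nil) .nil) (.node [] (.node [(28, 1, 1)] .nil .nil) .nil)) (.node [] (.node [] .nil (.node [(49, (-1), 1)] .nil .nil)) .nil)) (.node [] (.node [] (.node [] (.node [] (.node [(114, (-1), 1)] .nil .nil) .nil) .nil) (.node [(13, 1, 1)] .nil (.node [(68, (-1), 1)] .nil .nil))) (.node [] (.node [] .nil (.node [(58, 1, 1)] .nil .nil)) (.node [(15, 1, 1)] (.node [(37, (-1), 1)] .nil .nil) (.node [(79, (-1), 1)] .nil .nil))))) (.node [(22, (-1), 1)] (.node [] (.node [] (.node [] (.node [(20, 1, 1)]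 .nil .nil) .nil) (.node [(11, (-1), 1)] .nil .nil)) (.node [] (.node [] .nil (.node [(56, (-1), 1)] .nil .nil)) (.node [] (.node [(35, 1, 1)] .nil .nil) (.node [(77, 1, 1)] .nil .nil)))) (.node [] (.node [] (.node [] .nil (.node [(47, 1, 1)] .nil .nil)) (.node [] .nil (.node [(70, (-1), 1)] .nil .nil))) (.node [] .nil (.node [(17, (-1), 1)] .nil (.node [(87, (-1), 1)] .nil .nil)))))))
def X16 : Tr (List (ℕ × ℤ × ℕ)) := (.node [] (.node [] (.node [] (.node [] (.node [] (.node [] (.node [] (.node [(89, 1, 1)] .nil .nil) .nil) .nil) .nil) (.node [] (.node [] .nil (.node [(49, (-1), 1)] .nil .nil)) (.node [] .nil (.node [(74, 1, 1)] .nil .nil)))) (.node [] (.node [] (.node [] (.node [(21, 1, 1)] (.node [(99, (-1), 1)] .nil .nil) .nil) .nil) (.node [(13, (-1), 1)] .nil .nil)) (.node [] (.node [] .nil (.node [(58, 1, 1)] .nil .nil)) (.node [] (.node [(37, (-1), 1)] .nil .nil) (.node [(79, (-1), 1)] .nil .nil))))) (.node [(23,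 (-1), 1)] (.node [] (.node [] (.node [] (.node [(20, (-1), 1)] .nil .nil) .nil) (.node [] (.node [(32, (-1), 1)] .nil .nil) .nil)) .nil) (.node [] (.node [] (.node [] .nil (.node [(45, (-1), 1)] .nil .nil)) (.node [] .nil (.node [(71, (-1), 1)] .nil .nil))) (.node [] .nil (.node [(17, 1, 1)] .nil .nil))))) (.node [(23, 1, 1)] (.node [] (.node [] (.node [] (.node [] (.node [(19, (-1), 1)] .nil .nil) .nil) (.node [] (.node [(29, 1, 1)] .nil .nil) .nil)) (.node [(7, (-1), 1)] (.node [(8, 1, 1)] .nil .nil) (.node [] .nil (.node [(75, 1, 1)] .nil .nil)))) (.node [] (.node [] (.node [] (.node [(22, 1, 1)] (.node [(115, 1, 1)] .nil .nil) .nil) .nil) (.node [] .nil (.node [(0, (-1), 1), (1, (-1), 1), (2, (-2), 1), (3, (-2), 1), (4, (-1), 1), (23, (-1), 2)] .nil .nil))) (.node [] .nil (.node [(16, 1, 1)] .nil .nil)))) (.node [] (.node [] (.node [] .nil (.node [(12, (-1), 1)] (.node [(33, 1, 1)] .nil .nil) .nil)) (.node [] (.node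 [] .nil (.node [(57, (-1), 1)] .nil .nil)) (.node [] (.node [(36, 1, 1)] .nil .nil) (.node [(78, (-1), 1)] .nil .nil)))) (.node [] (.node [] (.node [] .nil (.node [(48, 1, 1)] .nil .nil)) (.node [] .nil (.node [(72, (-1), 1)] .nil .nil))) (.node [] (.node [] .nil (.node [(59, (-1), 1)] .nil .nil)) (.node [] (.node [(38, 1, 1)] .nil .nil) (.node [(88, 1, 1)] .nil .nil)))))))
def X17 : Tr (List (ℕ × ℤ × ℕ)) := (.node [(24, 1, 1)] (.node [] (.node [] (.node [] (.node [] .nil (.node [] (.node [(31, (-1), 1)] .nil .nil) (.node [(64, 1, 1)] .nil .nil))) (.node [(7, 1, 1)] (.node [] (.node [(25, 1, 1)] .nil .nil) .nil) .nil)) (.node [] (.node [] (.node [] .nil (.node [(39, 1, 1)] .nil .nil)) (.node [] .nil (.node [(0, (-1), 1), (1, (-1), 1), (2, (-1), 1), (3, (-2), 1), (4, (-2), 1), (5, (-2), 1), (6, (-1), 1), (24, (-1), 2)] .nil .nil))) (.node [] (.node [] (.node [(28, (-1), 1)] .nil .nil) .nil) (.node [(18, 1, 1)] .nil .nil))))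 (.node [(24, 1, 1)] (.node [] (.node [] (.node [] (.node [] (.node [(91, (-1), 1)] .nil .nil) .nil) .nil) (.node [(11, 1, 1)] .nil (.node [(67, 1, 1)] .nil .nil))) (.node [] (.node [] .nil (.node [(51, (-1), 1)] .nil .nil)) (.node [(14, 1, 1)] (.node [(35, (-1), 1)] .nil .nil) (.node [(80, (-1), 1)] .nil .nil)))) (.node [] .nil (.node [] (.node [(9, 1, 1)] .nil (.node [(61, (-1), 1)] .nil .nil)) (.node [] .nil (.node [(82, (-1), 1)] .nil .nil)))))) (.node [(24, (-1), 1)] (.node [] (.node [] (.node [] (.node [] (.node [] (.node [(90, (-1), 1)] .nil .nil) .nil) .nil) (.node [(10, 1, 1)] .nil (.node [(65, (-1), 1)] .nil .nil))) (.node [] (.node [] (.node [(26, (-1), 1)] .nil .nil) (.node [(50, 1, 1)] .nil .nil)) (.node [] (.node [(34, 1, 1)] .nil .nil) .nil))) (.node [] (.node [] (.node [] (.node [] (.node [(116, (-1), 1)] .nil .nil) .nil) (.node [(40, (-1), 1)] .nil .nil)) .nil) (.node [] (.node [] .nil (.node [(60, 1, 1)]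 .nil .nil)) (.node [] .nil (.node [(81, (-1), 1)] .nil .nil))))) (.node [] (.node [] (.node [] (.node [] (.node [] (.node [(94, (-1), 1)] .nil .nil) .nil) .nil) (.node [] .nil (.node [(68, (-1), 1)] .nil .nil))) (.node [] (.node [] (.node [(27, 1, 1)] .nil .nil) .nil) (.node [(15, 1, 1)] .nil .nil))) (.node [] .nil (.node [] (.node [] (.node [(30, 1, 1)] .nil .nil) .nil) .nil)))))
def X18 : Tr (List (ℕ × ℤ × ℕ)) := (.node [(25, 1, 1)] (.node [] (.node [] (.node [] (.node [] (.node [] (.node [] (.node [(90, (-1), 1)] .nil .nil) .nil) .nil) (.node [(10, (-1), 1)] (.node [(32, (-1), 1)] .nil .nil) .nil)) (.node [] (.node [] .nil (.node [(50, 1, 1)] .nil .nil)) (.node [] (.node [(34, 1, 1)] .nil .nil) .nil))) (.node [] (.node [] .nil (.node [] .nil (.node [(71, (-1), 1)] .nil .nil))) (.node [] (.node [] (.node [(29, (-1), 1)] .nil .nil) (.node [(60, 1, 1)] .nil .nil)) (.node [(19, 1, 1)] .nil (.node [(81, (-1), 1)] .nil .nil)))))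 (.node [(25, (-1), 1)] (.node [] (.node [] (.node [] (.node [] (.node [(92, 1, 1)] .nil .nil) .nil) .nil) (.node [(12, 1, 1)] .nil (.node [(69, (-1), 1)] .nil .nil))) (.node [] (.node [] (.node [(27, 1, 1)] .nil .nil) (.node [(52, (-1), 1)] .nil .nil)) (.node [] (.node [(36, (-1), 1)] .nil .nil) .nil))) (.node [] .nil (.node [] (.node [] (.node [(30, 1, 1)] .nil .nil) (.node [(62, (-1), 1)] .nil .nil)) (.node [] .nil (.node [(83, 1, 1)] .nil .nil)))))) (.node [(25, (-1), 1)] (.node [(25, 1, 1)] (.node [] (.node [] .nil (.node [] .nil (.node [(66, (-1), 1)] .nil .nil))) (.node [] .nil (.node [(14, (-1), 1)] .nil (.node [(80, (-1), 1)] .nil .nil)))) (.node [] (.node [] (.node [] (.node [(24, 1, 1)] (.node [(117, 1, 1)] .nil .nil) .nil) (.node [(41, (-1), 1)] .nil .nil)) .nil) (.node [] (.node [(9, (-1), 1)] .nil .nil) .nil))) (.node [(25, 1, 1)] (.node [] (.node [] (.node [] (.node [] (.node [(95, 1, 1)] .nil .nil) .nil)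 (.node [(39, 1, 1)] .nil .nil)) (.node [] .nil (.node [(0, (-1), 1), (1, (-1), 1), (2, (-1), 1), (3, (-2), 1), (4, (-2), 1), (5, (-1), 1), (6, (-1), 1), (25, (-1), 2)] .nil .nil))) (.node [] .nil (.node [(16, 1, 1)] .nil .nil))) (.node [] (.node [(7, (-1), 1)] (.node [] (.node [(26, 1, 1)] .nil .nil) .nil) .nil) (.node [] (.node [] .nil (.node [(64, 1, 1)] .nil .nil)) .nil)))))
def X19 : Tr (List (ℕ × ℤ × ℕ)) := (.node [(26, 1, 1)] (.node [] (.node [] (.node [] (.node [] .nil (.node [] .nil (.node [(66, (-1), 1)] .nil .nil))) (.node [] (.node [] .nil (.node [(51, 1, 1)] .nil .nil)) (.node [(14, 1, 1)] (.node [(35, 1, 1)] .nil .nil) (.node [(80, (-1), 1)] .nil .nil)))) (.node [] (.node [] (.node [] (.node [(24, (-1), 1)] .nil .nil) .nil) (.node [] .nil (.node [(72, 1, 1)] .nil .nil))) (.node [] (.node [(9, 1, 1)] .nil (.node [(61, 1, 1)] .nil .nil)) (.node [(20, 1, 1)] .nil .nil)))) (.node [] (.node [] (.node [] (.node []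 (.node [] (.node [(93, (-1), 1)] .nil .nil) .nil) (.node [(39, 1, 1)] .nil .nil)) (.node [(13, 1, 1)] .nil (.node [(0, (-1), 1), (1, (-1), 1), (2, (-1), 1), (3, (-2), 1), (4, (-2), 1), (5, (-1), 1), (26, (-1), 2)] .nil .nil))) (.node [] (.node [] (.node [(28, 1, 1)] .nil .nil) .nil) .nil)) (.node [] (.node [(7, 1, 1)] (.node [] (.node [(25, 1, 1)] .nil .nil) .nil) .nil) (.node [] (.node [] (.node [(31, 1, 1)] .nil .nil) .nil) (.node [] .nil (.node [(84, (-1), 1)] .nil .nil)))))) (.node [(26, (-1), 1)] (.node [(26, 1, 1)] (.node [] .nil (.node [] (.node [] .nil (.node [(52, (-1), 1)] .nil .nil)) (.node [] (.node [(36, (-1), 1)] .nil .nil) .nil))) (.node [] (.node [] (.node [] (.node [] (.node [(118, (-1), 1)] .nil .nil) .nil) (.node [(42, (-1), 1)] .nil .nil)) .nil) (.node [] (.node [] .nil (.node [(62, (-1), 1)] .nil .nil)) .nil))) (.node [(26, (-1), 1)] (.node [] (.node [] (.node [] (.node [] (.node [(96, (-1), 1)] .nil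 .nil) .nil) .nil) (.node [] .nil (.node [(70, (-1), 1)] .nil .nil))) (.node [] (.node [] (.node [(29, (-1), 1)] .nil .nil) .nil) (.node [(17, 1, 1)] .nil (.node [(81, (-1), 1)] .nil .nil)))) (.node [] .nil (.node [] (.node [(10, 1, 1)] (.node [(32, (-1), 1)] .nil .nil) (.node [(65, 1, 1)] .nil .nil)) (.node [] .nil (.node [(90, (-1), 1)] .nil .nil)))))))
def X20 : Tr (List (ℕ × ℤ × ℕ)) := (.node [(27, 1, 1)] (.node [] (.node [(27, 1, 1)] (.node [] (.node [] (.node [] (.node [] (.node [(91, 1, 1)] .nil .nil) .nil) .nil) (.node [(11, (-1), 1)] (.node [(33, (-1), 1)] .nil .nil) (.node [(69, (-1), 1)] .nil .nil))) .nil) (.node [] (.node [] .nil (.node [] .nil (.node [(74, (-1), 1)] .nil .nil))) (.node [] .nil (.node [(21, 1, 1)] .nil (.node [(82, 1, 1)] .nil .nil))))) (.node [] (.node [] (.node [] (.node [] (.node [(24, 1, 1)] .nil .nil) .nil) .nil) (.node [] (.node [] .nil (.node [(53, (-1), 1)] .nil .nil)) (.node [(16, (-1),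 1)] (.node [(37, (-1), 1)] .nil .nil) .nil))) (.node [] .nil (.node [] (.node [] .nil (.node [(63, (-1), 1)] .nil .nil)) .nil)))) (.node [(27, (-1), 1)] (.node [(27, (-1), 1)] (.node [] (.node [] (.node [] (.node [] (.node [(92, 1, 1)] .nil .nil) .nil) (.node [(39, 1, 1)] .nil .nil)) (.node [(12, (-1), 1)] .nil (.node [(0, (-1), 1), (1, (-1), 1), (2, (-1), 1), (3, (-2), 1), (4, (-1), 1), (5, (-1), 1), (6, (-1), 1), (27, (-1), 2)] .nil .nil))) (.node [] (.node [] (.node [(29, 1, 1)] .nil .nil) .nil) (.node [(15, (-1), 1)] .nil .nil))) (.node [] (.node [(7, 1, 1)] (.node [] (.node [] (.node [(119, (-1), 1)] .nil .nil) .nil) (.node [(43, (-1), 1)] .nil .nil)) .nil) (.node [] (.node [] (.node [(30, 1, 1)] .nil .nil) .nil) (.node [] .nil (.node [(83, 1, 1)] .nil .nil))))) (.node [(27, 1, 1)] (.node [] (.node [] (.node [] (.node [(25, 1, 1)] (.node [(97, (-1), 1)] .nil .nil) .nil) .nil) (.node [] .nil (.node [(73, (-1), 1)] .nil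 .nil))) (.node [] (.node [(9, 1, 1)] .nil (.node [(60, 1, 1)] .nil .nil)) .nil)) (.node [] (.node [] (.node [] (.node [(28, 1, 1)] .nil .nil) (.node [(50, 1, 1)] .nil .nil)) (.node [] (.node [(34, 1, 1)] .nil .nil) (.node [(80, (-1), 1)] .nil .nil))) (.node [] (.node [] .nil (.node [(67, (-1), 1)] .nil .nil)) .nil)))))
def X21 : Tr (List (ℕ × ℤ × ℕ)) := (.node [(28, 1, 1)] (.node [] (.node [(28, 1, 1)] (.node [] (.node [] (.node [] .nil (.node [(39, 1, 1)] .nil .nil)) (.node [] .nil (.node [(0, (-1), 1), (1, (-1), 1), (2, (-1), 1), (3, (-2), 1), (4, (-1), 1), (5, (-1), 1), (28, (-1), 2)] .nil .nil))) (.node [] (.node [] (.node [(29, 1, 1)] .nil .nil) .nil) (.node [(15, 1, 1)] .nil .nil))) (.node [] (.node [(7, (-1), 1)] .nil (.node [] .nil (.node [(75, 1, 1)] .nil .nil))) (.node [] .nil (.node [(22, 1, 1)] .nil .nil)))) (.node [(28, 1, 1)] (.node [] (.node [] .nil (.node [] .nil (.node [(73, (-1), 1)] .nil .nil))) (.node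 [] (.node [(9, (-1), 1)] .nil .nil) (.node [(17, (-1), 1)] .nil .nil))) (.node [] (.node [] (.node [] (.node [(27, 1, 1)] .nil .nil) .nil) (.node [] .nil (.node [(80, (-1), 1)] .nil .nil))) .nil))) (.node [(28, (-1), 1)] (.node [(28, (-1), 1)] (.node [] (.node [] (.node [] (.node [(24, (-1), 1)] (.node [(93, (-1), 1)] .nil .nil) .nil) .nil) (.node [(13, (-1), 1)] .nil (.node [(70, (-1), 1)] .nil .nil))) (.node [] (.node [] .nil (.node [(53, (-1), 1)] .nil .nil)) (.node [] (.node [(37, (-1), 1)] .nil .nil) .nil))) (.node [] (.node [] (.node [] (.node [] (.node [(120, 1, 1)] .nil .nil) .nil) (.node [(44, (-1), 1)] .nil .nil)) .nil) (.node [] (.node [] (.node [(31, 1, 1)] .nil .nil) (.node [(63, (-1), 1)] .nil .nil)) (.node [] .nil (.node [(84, (-1), 1)] .nil .nil))))) (.node [(28, (-1), 1)] (.node [] (.node [] (.node [] (.node [(26, 1, 1)] (.node [(98, 1, 1)] .nil .nil) .nil) .nil) .nil) (.node [] (.node [] .nil (.node [(61,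 1, 1)] .nil .nil)) (.node [] .nil (.node [(82, 1, 1)] .nil .nil)))) (.node [] (.node [] (.node [] .nil (.node [(51, 1, 1)] .nil .nil)) (.node [] (.node [(35, 1, 1)] .nil .nil) .nil)) (.node [] (.node [(11, 1, 1)] (.node [(33, (-1), 1)] .nil .nil) (.node [(68, (-1), 1)] .nil .nil)) (.node [] .nil (.node [(91, 1, 1)] .nil .nil)))))))
def X22 : Tr (List (ℕ × ℤ × ℕ)) := (.node [(29, 1, 1)] (.node [] (.node [(29, 1, 1)] (.node [] (.node [] (.node [] (.node [] (.node [(93, (-1), 1)] .nil .nil) .nil) .nil) (.node [(13, 1, 1)] .nil (.node [(71, (-1), 1)] .nil .nil))) (.node [] (.node [] .nil (.node [(53, (-1), 1)] .nil .nil)) (.node [(16, 1, 1)] (.node [(37, (-1), 1)] .nil .nil) .nil))) (.node [] (.node [] (.node [] (.node [(27, 1, 1)] .nil .nil) .nil) .nil) (.node [] (.node [] .nil (.node [(63, (-1), 1)] .nil .nil)) (.node [(23, 1, 1)] .nil (.node [(84, (-1), 1)] .nil .nil))))) (.node [(29, (-1), 1)] (.node [] (.node [] (.node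 [] (.node [(26, (-1), 1)] .nil .nil) .nil) (.node [] .nil (.node [(74, 1, 1)] .nil .nil))) .nil) (.node [] .nil (.node [] (.node [] (.node [(33, (-1), 1)] .nil .nil) .nil) .nil)))) (.node [(29, (-1), 1)] (.node [] (.node [] (.node [] (.node [] (.node [(25, (-1), 1)] .nil .nil) .nil) (.node [] .nil (.node [(72, (-1), 1)] .nil .nil))) (.node [] (.node [(9, 1, 1)] .nil .nil) (.node [(17, 1, 1)] .nil .nil))) (.node [] (.node [] (.node [] (.node [(28, 1, 1)] (.node [(121, (-1), 1)] .nil .nil) .nil) (.node [(45, (-1), 1)] .nil .nil)) (.node [] .nil (.node [(80, (-1), 1)] .nil .nil))) (.node [] (.node [] (.node [(32, 1, 1)] .nil .nil) .nil) .nil))) (.node [] (.node [] (.node [(7, 1, 1)] (.node [] (.node [] (.node [(99, (-1), 1)] .nil .nil) .nil) .nil) (.node [] .nil (.node [(75, 1, 1)] .nil .nil))) (.node [] (.node [] .nil (.node [(62, 1, 1)] .nil .nil)) (.node [] .nil (.node [(83, (-1), 1)] .nil .nil)))) (.node [] (.node [] (.node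 [] .nil (.node [(52, 1, 1)] .nil .nil)) (.node [] (.node [(36, 1, 1)] .nil .nil) .nil)) (.node [] (.node [(12, 1, 1)] .nil (.node [(0, (-1), 1), (1, (-1), 1), (2, (-1), 1), (3, (-2), 1), (4, (-1), 1), (29, (-1), 2)] .nil .nil)) (.node [] (.node [(39, 1, 1)] .nil .nil) (.node [(92, (-1), 1)] .nil .nil)))))))
def X23 : Tr (List (ℕ × ℤ × ℕ)) := (.node [(30, 1, 1)] (.node [(30, 1, 1)] (.node [(30, (-1), 1)] (.node [] (.node [] (.node [] (.node [(27, 1, 1)] (.node [(94, (-1), 1)] .nil .nil) .nil) .nil) .nil) .nil) (.node [] (.node [] .nil (.node [] .nil (.node [(78, (-1), 1)] .nil .nil))) (.node [] (.node [] (.node [(33, 1, 1)] .nil .nil) (.node [(67, (-1), 1)] .nil .nil)) .nil))) (.node [] (.node [] (.node [(7, (-1), 1)] (.node [] (.node [] (.node [(97, (-1), 1)] .nil .nil) .nil) .nil) .nil) (.node [] (.node [] .nil (.node [(54, (-1), 1)] .nil .nil)) (.node [(19, (-1), 1)] (.node [(38, (-1), 1)] .nil .nil) (.node [(83, 1, 1)]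 .nil .nil)))) (.node [] (.node [] (.node [] .nil (.node [(50, 1, 1)] .nil .nil)) (.node [] (.node [(34, 1, 1)] .nil .nil) .nil)) (.node [] (.node [(12, 1, 1)] .nil (.node [(0, (-1), 1), (1, (-1), 1), (2, (-1), 1), (3, (-1), 1), (4, (-1), 1), (5, (-1), 1), (6, (-1), 1), (30, (-1), 2)] .nil .nil)) (.node [(24, 1, 1)] (.node [(39, 1, 1)] .nil .nil) .nil))))) (.node [] (.node [] (.node [] (.node [] (.node [] (.node [] (.node [(95, (-1), 1)] .nil .nil) .nil) .nil) (.node [] .nil (.node [(76, (-1), 1)] .nil .nil))) (.node [] (.node [] (.node [(32, 1, 1)] .nil .nil) .nil) (.node [(18, (-1), 1)] .nil (.node [(82, 1, 1)] .nil .nil)))) (.node [] (.node [] (.node [] (.node [] (.node [(122, 1, 1)] .nil .nil) .nil) (.node [(46, (-1), 1)] .nil .nil)) .nil) (.node [] (.node [(11, 1, 1)] .nil (.node [(69, (-1), 1)] .nil .nil)) .nil))) (.node [(30, 1, 1)] (.node [] (.node [] .nil (.node [] .nil (.node [(77, (-1), 1)] .nil .nil))) (.node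 [] (.node [(10, 1, 1)] .nil (.node [(64, (-1), 1)] .nil .nil)) (.node [(21, (-1), 1)] .nil .nil))) (.node [] (.node [] (.node [] (.node [(31, 1, 1)] .nil .nil) .nil) (.node [] .nil (.node [(81, 1, 1)] .nil .nil))) (.node [] .nil (.node [(25, 1, 1)] .nil .nil))))))
def X24 : Tr (List (ℕ × ℤ × ℕ)) := (.node [(31, 1, 1)] (.node [(31, 1, 1)] (.node [(31, (-1), 1)] (.node [] (.node [] (.node [] (.node [(28, 1, 1)] .nil .nil) .nil) (.node [] .nil (.node [(76, (-1), 1)] .nil .nil))) (.node [] (.node [] (.node [(32, 1, 1)] .nil .nil) .nil) (.node [(18, 1, 1)] .nil (.node [(82, 1, 1)] .nil .nil)))) (.node [] (.node [] .nil (.node [] .nil (.node [(79, 1, 1)] .nil .nil))) (.node [] (.node [(11, (-1), 1)] .nil (.node [(68, (-1), 1)] .nil .nil)) .nil))) (.node [(31, 1, 1)] (.node [] (.node [] (.node [] (.node [] (.node [(98, 1, 1)] .nil .nil) .nil) .nil) (.node [] .nil (.node [(77, (-1), 1)] .nil .nil))) (.node [] (.node [(10, (-1),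 1)] .nil .nil) (.node [(20, (-1), 1)] .nil (.node [(84, (-1), 1)] .nil .nil)))) (.node [] (.node [] (.node [] (.node [(30, 1, 1)] .nil .nil) (.node [(51, 1, 1)] .nil .nil)) (.node [] (.node [(35, 1, 1)] .nil .nil) (.node [(81, 1, 1)] .nil .nil))) (.node [] (.node [(13, 1, 1)] .nil (.node [(70, (-1), 1)] .nil .nil)) .nil)))) (.node [] (.node [] (.node [] (.node [(7, 1, 1)] (.node [] (.node [] (.node [(96, 1, 1)] .nil .nil) .nil) .nil) .nil) (.node [] (.node [] .nil (.node [(54, (-1), 1)] .nil .nil)) (.node [] (.node [(38, (-1), 1)] .nil .nil) .nil))) (.node [] (.node [] (.node [] (.node [] (.node [(123, (-1), 1)] .nil .nil) .nil) (.node [(47, (-1), 1)] .nil .nil)) .nil) (.node [] (.node [] .nil (.node [(0, (-1), 1), (1, (-1), 1), (2, (-1), 1), (3, (-1), 1), (4, (-1), 1), (5, (-1), 1), (31, (-1), 2)] .nil .nil)) (.node [(24, (-1), 1)] (.node [(39, 1, 1)] .nil .nil) .nil)))) (.node [(31, (-1), 1)] (.node [] .nil (.node []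 (.node [] (.node [(33, 1, 1)] .nil .nil) (.node [(65, (-1), 1)] .nil .nil)) (.node [(22, (-1), 1)] .nil .nil))) (.node [] .nil (.node [] .nil (.node [(26, 1, 1)] .nil (.node [(94, (-1), 1)] .nil .nil)))))))
def X25 : Tr (List (ℕ × ℤ × ℕ)) := (.node [(32, 1, 1)] (.node [(32, 1, 1)] (.node [(32, (-1), 1)] (.node [] (.node [(7, (-1), 1)] (.node [] (.node [(29, 1, 1)] (.node [(96, 1, 1)] .nil .nil) .nil) .nil) .nil) (.node [] (.node [] .nil (.node [(54, (-1), 1)] .nil .nil)) (.node [(19, 1, 1)] (.node [(38, (-1), 1)] .nil .nil) (.node [(83, (-1), 1)] .nil .nil)))) (.node [] (.node [] (.node [] (.node [(30, 1, 1)] .nil .nil) .nil) .nil) (.node [] (.node [(12, (-1), 1)] .nil (.node [(0, (-1), 1), (1, (-1), 1), (2, (-1), 1), (3, (-1), 1), (4, (-1), 1), (32, (-1), 2)] .nil .nil)) (.node [] (.node [(39, 1, 1)] .nil .nil) .nil)))) (.node [(32, (-1), 1)] (.node [] (.node [] (.node [] (.node [] (.node [(99, (-1), 1)] .nil .nil) .nil)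 .nil) (.node [] .nil (.node [(78, 1, 1)] .nil .nil))) (.node [] (.node [] (.node [(33, 1, 1)] .nil .nil) .nil) .nil)) (.node [] (.node [] (.node [] .nil (.node [(52, 1, 1)] .nil .nil)) (.node [] (.node [(36, 1, 1)] .nil .nil) .nil)) (.node [] (.node [] .nil (.node [(72, (-1), 1)] .nil .nil)) (.node [(26, (-1), 1)] .nil .nil))))) (.node [] (.node [(32, 1, 1)] (.node [] .nil (.node [] (.node [(10, 1, 1)] .nil .nil) (.node [(20, 1, 1)] .nil (.node [(84, (-1), 1)] .nil .nil)))) (.node [] (.node [] (.node [] (.node [(31, 1, 1)] (.node [(124, 1, 1)] .nil .nil) .nil) (.node [(48, (-1), 1)] .nil .nil)) (.node [] .nil (.node [(81, 1, 1)] .nil .nil))) (.node [] (.node [(13, (-1), 1)] .nil (.node [(71, (-1), 1)] .nil .nil)) (.node [(25, (-1), 1)] .nil .nil)))) (.node [] (.node [] (.node [] .nil (.node [] .nil (.node [(79, 1, 1)] .nil .nil))) (.node [] (.node [] .nil (.node [(66, (-1), 1)] .nil .nil)) (.node [(23, (-1), 1)] .nil .nil)))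 (.node [] .nil (.node [] (.node [] .nil (.node [(76, (-1), 1)] .nil .nil)) (.node [] .nil (.node [(95, 1, 1)] .nil .nil)))))))
def X26 : Tr (List (ℕ × ℤ × ℕ)) := (.node [(33, 1, 1)] (.node [(33, 1, 1)] (.node [] (.node [] (.node [] (.node [] (.node [] (.node [(98, (-1), 1)] .nil .nil) .nil) .nil) (.node [] .nil (.node [(78, 1, 1)] .nil .nil))) (.node [] .nil (.node [(21, 1, 1)] .nil .nil))) (.node [] .nil (.node [] (.node [] .nil (.node [(73, (-1), 1)] .nil .nil)) .nil))) (.node [] (.node [] (.node [] (.node [] (.node [(31, 1, 1)] .nil .nil) .nil) .nil) (.node [] (.node [(12, 1, 1)] .nil .nil) (.node [(23, 1, 1)] .nil .nil))) (.node [] (.node [] (.node [] .nil (.node [(53, 1, 1)] .nil .nil)) (.node [] (.node [(37, 1, 1)] .nil .nil) (.node [(83, (-1), 1)] .nil .nil))) (.node [] (.node [] .nil (.node [(75, (-1), 1)] .nil .nil)) (.node [(28, (-1), 1)] .nil .nil))))) (.node [] (.node [(33, (-1), 1)] (.node [] (.node [] (.node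 [] (.node [(30, 1, 1)] (.node [(99, (-1), 1)] .nil .nil) .nil) .nil) (.node [] .nil (.node [(79, 1, 1)] .nil .nil))) (.node [] (.node [(11, 1, 1)] .nil .nil) (.node [(22, 1, 1)] .nil .nil))) (.node [] (.node [] (.node [] (.node [] (.node [(125, (-1), 1)] .nil .nil) .nil) (.node [(49, (-1), 1)] .nil .nil)) (.node [] .nil (.node [(82, (-1), 1)] .nil .nil))) (.node [] (.node [] .nil (.node [(74, (-1), 1)] .nil .nil)) (.node [(27, (-1), 1)] .nil .nil)))) (.node [] (.node [] (.node [] (.node [] (.node [(32, 1, 1)] .nil .nil) .nil) .nil) (.node [] (.node [(13, 1, 1)] .nil (.node [(0, (-1), 1), (1, (-1), 1), (2, (-1), 1), (3, (-1), 1), (33, (-1), 2)] .nil .nil)) (.node [] (.node [(39, 1, 1)] .nil .nil) .nil))) (.node [(7, 1, 1)] (.node [] (.node [] .nil (.node [(54, (-1), 1)] .nil .nil)) (.node [] (.node [(38, (-1), 1)] .nil .nil) (.node [(84, (-1), 1)] .nil .nil))) (.node [] (.node [] .nil (.node [(77, 1, 1)] .nil .nil)) (.node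 [(29, (-1), 1)] .nil (.node [(97, (-1), 1)] .nil .nil)))))))
def X27 : Tr (List (ℕ × ℤ × ℕ)) := (.node [(34, 1, 1)] (.node [(34, (-1), 1)] (.node [] (.node [] (.node [] .nil (.node [(18, 1, 1)] (.node [(38, 1, 1)] .nil .nil) .nil)) (.node [] (.node [] .nil (.node [(67, (-1), 1)] .nil .nil)) .nil)) (.node [] (.node [] .nil (.node [(24, 1, 1)] .nil (.node [(88, (-1), 1)] .nil .nil))) (.node [] (.node [] (.node [(37, 1, 1)] .nil .nil) .nil) (.node [] .nil (.node [(94, (-1), 1)] .nil .nil))))) (.node [] (.node [] (.node [] .nil (.node [(21, 1, 1)] .nil .nil)) (.node [] (.node [] .nil (.node [(0, (-1), 1), (2, (-1), 1), (3, (-1), 1), (4, (-1), 1), (5, (-1), 1), (6, (-1), 1), (34, (-1), 2)] .nil .nil)) (.node [] .nil (.node [(92, (-1), 1)] .nil .nil)))) (.node [(7, 1, 1)] (.node [] (.node [] .nil (.node [(60, (-1), 1)] .nil .nil)) (.node [(27, 1, 1)] .nil .nil)) (.node [] (.node [(16, 1, 1)] .nil (.node [(85, (-1), 1)] .nil .nil))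 (.node [] .nil (.node [(97, (-1), 1)] .nil .nil)))))) (.node [] (.node [] (.node [] (.node [] .nil (.node [(19, 1, 1)] .nil (.node [(86, (-1), 1)] .nil .nil))) (.node [] (.node [] (.node [(36, 1, 1)] .nil .nil) (.node [(69, (-1), 1)] .nil .nil)) (.node [] .nil (.node [(91, (-1), 1)] .nil .nil)))) (.node [] (.node [] (.node [] (.node [] (.node [(126, (-1), 1)] .nil .nil) .nil) (.node [(55, (-1), 1)] .nil .nil)) (.node [(25, 1, 1)] (.node [(39, 1, 1)] .nil .nil) .nil)) (.node [] (.node [(15, 1, 1)] .nil .nil) (.node [] .nil (.node [(95, (-1), 1)] .nil .nil))))) (.node [(34, 1, 1)] (.node [] (.node [] .nil (.node [] .nil (.node [(87, (-1), 1)] .nil .nil))) (.node [] (.node [(14, 1, 1)] .nil .nil) .nil)) (.node [] (.node [] (.node [] (.node [(35, 1, 1)] .nil .nil) (.node [(64, (-1), 1)] .nil .nil)) (.node [(30, 1, 1)] .nil (.node [(90, (-1), 1)] .nil .nil))) .nil))))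
def X28 : Tr (List (ℕ × ℤ × ℕ)) := (.node [(35, 1, 1)] (.node [(35, (-1), 1)] (.node [] (.node [] (.node [] .nil (.node [] .nil (.node [(86, (-1), 1)] .nil .nil))) (.node [] (.node [] (.node [(36, 1, 1)] .nil .nil) (.node [(68, (-1), 1)] .nil .nil)) (.node [] .nil (.node [(91, (-1), 1)] .nil .nil)))) (.node [] (.node [] .nil (.node [] (.node [(39, 1, 1)] .nil .nil) (.node [(89, 1, 1)] .nil .nil))) (.node [] (.node [(15, (-1), 1)] .nil .nil) .nil))) (.node [(35, 1, 1)] (.node [] (.node [] .nil (.node [(22, 1, 1)] .nil (.node [(87, (-1), 1)] .nil .nil))) (.node [] (.node [(14, (-1), 1)] .nil (.node [(70, (-1), 1)] .nil .nil)) (.node [] .nil (.node [(93, 1, 1)] .nil .nil)))) (.node [] (.node [] (.node [] (.node [(34, 1, 1)] .nil .nil) (.node [(61, (-1), 1)] .nil .nil)) (.node [(28, 1, 1)] .nil (.node [(90, (-1), 1)] .nil .nil))) (.node [] (.node [(17, 1, 1)] .nil .nil) (.node [] .nil (.node [(98, 1, 1)] .nil .nil)))))) (.node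 [] (.node [] (.node [] (.node [] .nil (.node [(20, 1, 1)] .nil .nil)) (.node [] (.node [] .nil (.node [(0, (-1), 1), (2, (-1), 1), (3, (-1), 1), (4, (-1), 1), (5, (-1), 1), (35, (-1), 2)] .nil .nil)) .nil)) (.node [(7, (-1), 1)] (.node [] (.node [] (.node [] (.node [(127, 1, 1)] .nil .nil) .nil) (.node [(56, (-1), 1)] .nil .nil)) (.node [(26, 1, 1)] .nil .nil)) (.node [] (.node [] .nil (.node [(85, (-1), 1)] .nil .nil)) (.node [] .nil (.node [(96, 1, 1)] .nil .nil))))) (.node [(35, (-1), 1)] (.node [] (.node [] .nil (.node [(24, (-1), 1)] .nil .nil)) (.node [] (.node [] (.node [(37, 1, 1)] .nil .nil) .nil) (.node [] .nil (.node [(94, (-1), 1)] .nil .nil)))) (.node [] (.node [] (.node [] .nil (.node [(65, (-1), 1)] .nil .nil)) (.node [(31, 1, 1)] .nil .nil)) (.node [] (.node [(18, (-1), 1)] (.node [(38, 1, 1)] .nil .nil) .nil) .nil)))))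
def X29 : Tr (List (ℕ × ℤ × ℕ)) := (.node [(36, 1, 1)] (.node [(36, (-1), 1)] (.node [] (.node [] (.node [] .nil (.node [(20, (-1), 1)] .nil .nil)) (.node [] (.node [] .nil (.node [(0, (-1), 1), (2, (-1), 1), (3, (-1), 1), (4, (-1), 1), (36, (-1), 2)] .nil .nil)) (.node [] .nil (.node [(92, 1, 1)] .nil .nil)))) (.node [(7, 1, 1)] (.node [] (.node [] (.node [(34, 1, 1)] .nil .nil) .nil) (.node [(26, (-1), 1)] .nil .nil)) (.node [] (.node [(16, (-1), 1)] .nil (.node [(85, (-1), 1)] .nil .nil)) (.node [] .nil (.node [(96, 1, 1)] .nil .nil))))) (.node [(36, (-1), 1)] (.node [] (.node [] .nil (.node [(23, 1, 1)] .nil (.node [(88, 1, 1)] .nil .nil))) (.node [] (.node [] (.node [(37, 1, 1)] .nil .nil) (.node [(72, (-1), 1)] .nil .nil)) .nil)) (.node [] (.node [] (.node [] .nil (.node [(62, (-1), 1)] .nil .nil)) (.node [(29, 1, 1)] .nil .nil)) (.node [] (.node [] (.node [(38, 1, 1)] .nil .nil) .nil) (.node [] .nil (.node [(99,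 (-1), 1)] .nil .nil)))))) (.node [] (.node [(36, 1, 1)] (.node [] .nil (.node [] (.node [(14, 1, 1)] .nil (.node [(71, (-1), 1)] .nil .nil)) (.node [] .nil (.node [(93, 1, 1)] .nil .nil)))) (.node [] (.node [] (.node [] (.node [(35, 1, 1)] (.node [(128, (-1), 1)] .nil .nil) .nil) (.node [(57, (-1), 1)] .nil .nil)) (.node [] .nil (.node [(90, (-1), 1)] .nil .nil))) (.node [] (.node [(17, (-1), 1)] .nil .nil) .nil))) (.node [] (.node [] (.node [] .nil (.node [(25, (-1), 1)] (.node [(39, 1, 1)] .nil .nil) (.node [(89, 1, 1)] .nil .nil))) (.node [] .nil (.node [] .nil (.node [(95, 1, 1)] .nil .nil)))) (.node [] (.node [] (.node [] .nil (.node [(66, (-1), 1)] .nil .nil)) (.node [(32, 1, 1)] .nil .nil)) (.node [] (.node [(19, (-1), 1)] .nil (.node [(86, (-1), 1)] .nil .nil)) .nil)))))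
def X30 : Tr (List (ℕ × ℤ × ℕ)) := (.node [(37, 1, 1)] (.node [(37, (-1), 1)] (.node [(37, 1, 1)] (.node [] (.node [] .nil (.node [(22, (-1), 1)] .nil (.node [(88, 1, 1)] .nil .nil))) (.node [] (.node [] .nil (.node [(73, (-1), 1)] .nil .nil)) .nil)) (.node [] (.node [] .nil (.node [(28, (-1), 1)] .nil .nil)) (.node [] .nil (.node [] .nil (.node [(98, (-1), 1)] .nil .nil))))) (.node [] (.node [] (.node [] (.node [] (.node [(35, 1, 1)] .nil .nil) .nil) (.node [] (.node [(39, 1, 1)] .nil .nil) .nil)) (.node [] (.node [(16, 1, 1)] .nil (.node [(75, (-1), 1)] .nil .nil)) .nil)) (.node [] (.node [] (.node [] .nil (.node [(63, (-1), 1)] .nil .nil)) (.node [] .nil (.node [(92, 1, 1)] .nil .nil))) .nil))) (.node [] (.node [(37, (-1), 1)] (.node [] (.node [] (.node [] (.node [(34, 1, 1)] .nil .nil) .nil) (.node [(23, (-1), 1)] .nil (.node [(89, 1, 1)] .nil .nil))) (.node [] (.node [(15, 1, 1)] .nil (.node [(74, (-1), 1)] .nil .nil))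 .nil)) (.node [] (.node [] (.node [] (.node [] (.node [(129, 1, 1)] .nil .nil) .nil) (.node [(58, (-1), 1)] .nil .nil)) (.node [(29, (-1), 1)] .nil (.node [(91, 1, 1)] .nil .nil))) (.node [] (.node [] (.node [(38, 1, 1)] .nil .nil) .nil) (.node [] .nil (.node [(99, (-1), 1)] .nil .nil))))) (.node [] (.node [(7, (-1), 1)] (.node [] (.node [] (.node [(36, 1, 1)] .nil .nil) .nil) (.node [(27, (-1), 1)] .nil .nil)) (.node [] (.node [(17, 1, 1)] .nil (.node [(85, (-1), 1)] .nil .nil)) (.node [] .nil (.node [(97, (-1), 1)] .nil .nil)))) (.node [] (.node [] (.node [] .nil (.node [(0, (-1), 1), (2, (-1), 1), (3, (-1), 1), (37, (-1), 2)] .nil .nil)) (.node [(33, 1, 1)] .nil (.node [(93, 1, 1)] .nil .nil))) (.node [] (.node [(21, (-1), 1)] .nil (.node [(87, 1, 1)] .nil .nil)) .nil)))))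
def X31 : Tr (List (ℕ × ℤ × ℕ)) := (.node [(38, 1, 1)] (.node [] (.node [(38, (-1), 1)] (.node [] (.node [] (.node [] (.node [(37, 1, 1)] .nil .nil) .nil) .nil) (.node [] (.node [] .nil (.node [(77, (-1), 1)] .nil .nil)) (.node [] .nil (.node [(97, (-1), 1)] .nil .nil)))) (.node [] (.node [] .nil (.node [(31, (-1), 1)] .nil .nil)) (.node [] (.node [(21, 1, 1)] .nil (.node [(87, 1, 1)] .nil .nil)) .nil))) (.node [] (.node [(7, 1, 1)] .nil (.node [] (.node [(19, 1, 1)] .nil (.node [(79, (-1), 1)] .nil .nil)) (.node [] .nil (.node [(99, (-1), 1)] .nil .nil)))) (.node [] (.node [] (.node [] .nil (.node [(0, (-1), 1), (2, (-1), 1), (38, (-1), 2)] .nil .nil)) (.node [(33, (-1), 1)] .nil (.node [(95, (-1), 1)] .nil .nil))) (.node [] (.node [(23, 1, 1)] .nil (.node [(89, 1, 1)] .nil .nil)) (.node [(35, 1, 1)] .nil .nil))))) (.node [(38, 1, 1)] (.node [] (.node [] (.node [] .nil (.node [] (.node [(39, 1, 1)] .nil .nil) .nil)) (.node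 [] (.node [(18, 1, 1)] .nil (.node [(78, (-1), 1)] .nil .nil)) (.node [] .nil (.node [(98, (-1), 1)] .nil .nil)))) (.node [] (.node [] (.node [] (.node [] (.node [(130, (-1), 1)] .nil .nil) .nil) (.node [(59, (-1), 1)] .nil .nil)) (.node [(32, (-1), 1)] .nil (.node [(94, (-1), 1)] .nil .nil))) (.node [] (.node [(22, 1, 1)] .nil (.node [(88, 1, 1)] .nil .nil)) (.node [(34, 1, 1)] .nil .nil)))) (.node [] (.node [] (.node [] .nil (.node [(30, (-1), 1)] .nil .nil)) (.node [] (.node [(20, 1, 1)] .nil (.node [(86, 1, 1)] .nil .nil)) .nil)) (.node [] (.node [] (.node [] .nil (.node [(76, (-1), 1)] .nil .nil)) (.node [] .nil (.node [(96, (-1), 1)] .nil .nil))) (.node [] .nil (.node [(36, 1, 1)] .nil .nil))))))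
def X32 : Tr (List (ℕ × ℤ × ℕ)) := (.node [(39, 2, 1)] (.node [] (.node [] (.node [] (.node [] .nil (.node [(31, 1, 1)] .nil (.node [(95, (-1), 1)] .nil .nil))) (.node [] (.node [] .nil (.node [(82, (-1), 1)] .nil .nil)) (.node [(34, 1, 1)] .nil .nil))) (.node [] (.node [] .nil (.node [] .nil (.node [(99, (-1), 1)] .nil .nil))) (.node [] (.node [(27, 1, 1)] .nil (.node [(91, (-1), 1)] .nil .nil)) (.node [(38, 1, 1)] .nil .nil)))) (.node [] (.node [] (.node [] .nil (.node [(33, 1, 1)] .nil (.node [(97, (-1), 1)] .nil .nil))) (.node [] (.node [(25, 1, 1)] .nil (.node [(84, (-1), 1)] .nil .nil)) (.node [(36, 1, 1)] .nil .nil))) (.node [] (.node [] (.node [] .nil (.node [(80, (-1), 1)] .nil .nil)) .nil) (.node [] (.node [(29, 1, 1)] .nil (.node [(93, (-1), 1)] .nil .nil)) .nil)))) (.node [(39, (-1), 1)] (.node [] (.node [(7, (-1), 1)] (.node [] .nil (.node [(32, 1, 1)] .nil (.node [(96, (-1), 1)] .nil .nil))) (.node [] (.node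 [(24, 1, 1)] .nil (.node [(83, (-1), 1)] .nil .nil)) (.node [(35, 1, 1)] .nil .nil))) (.node [] (.node [] (.node [] (.node [] (.node [(131, 1, 1)] .nil .nil) .nil) (.node [(0, (-1), 1), (39, (-1), 2)] .nil .nil)) .nil) (.node [] (.node [(28, 1, 1)] .nil (.node [(92, (-1), 1)] .nil .nil)) .nil))) (.node [] (.node [] (.node [] .nil (.node [] .nil (.node [(98, (-1), 1)] .nil .nil))) (.node [] (.node [(26, 1, 1)] .nil (.node [(90, (-1), 1)] .nil .nil)) (.node [(37, 1, 1)] .nil .nil))) (.node [] (.node [] (.node [] .nil (.node [(81, (-1), 1)] .nil .nil)) .nil) (.node [] (.node [(30, 1, 1)] .nil (.node [(94, (-1), 1)] .nil .nil)) .nil)))))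
def X33 : Tr (List (ℕ × ℤ × ℕ)) := (.node [(40, (-1), 1)] (.node [] (.node [] (.node [] (.node [] (.node [] .nil (.node [(64, 1, 1)] .nil .nil)) (.node [] (.node [(47, (-1), 1)] .nil .nil) .nil)) (.node [(8, (-1), 1)] (.node [(24, (-1), 1)] (.node [(41, 1, 1)] .nil .nil) .nil) .nil)) (.node [] (.node [] (.node [] (.node [] (.node [(116, 1, 1)] .nil .nil) .nil) (.node [(1, (-1), 1), (2, (-1), 1), (3, (-2), 1), (4, (-2), 1), (5, (-2), 1), (6, (-1), 1), (40, (-1), 2)] .nil .nil)) (.node [] (.node [(50, 1, 1)] .nil .nil) (.node [(100, 1, 1)] .nil .nil))) (.node [] (.node [] (.node [(44, (-1), 1)] .nil .nil) .nil) .nil))) (.node [(40, 1, 1)] (.node [] (.node [] (.node [(11, (-1), 1)] (.node [] (.node [(107, 1, 1)] .nil .nil) .nil) (.node [(67, 1, 1)] .nil .nil)) .nil) (.node [] .nil (.node [] (.node [(56, (-1), 1)] .nil .nil) (.node [(101, 1, 1)] .nil .nil)))) (.node [] (.node [] (.node [(15, (-1), 1)] .nil .nil) .nil) (.node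 [(9, (-1), 1)] .nil (.node [] (.node [(61, (-1), 1)] .nil .nil) (.node [(103, 1, 1)] .nil .nil)))))) (.node [] (.node [] (.node [] (.node [] (.node [(10, (-1), 1)] (.node [] (.node [(106, 1, 1)] .nil .nil) .nil) (.node [(65, (-1), 1)] .nil .nil)) .nil) (.node [] (.node [] (.node [(42, (-1), 1)] .nil .nil) .nil) (.node [] (.node [(55, 1, 1)] .nil .nil) .nil))) (.node [] (.node [] (.node [(14, (-1), 1)] .nil .nil) (.node [] (.node [(51, (-1), 1)] .nil .nil) .nil)) (.node [] .nil (.node [] (.node [(60, 1, 1)] .nil .nil) (.node [(102, 1, 1)] .nil .nil))))) (.node [] (.node [] (.node [] (.node [] (.node [] (.node [(110, 1, 1)] .nil .nil) .nil) (.node [(68, (-1), 1)] .nil .nil)) .nil) (.node [] (.node [] (.node [(43, 1, 1)] .nil .nil) .nil) .nil)) (.node [] (.node [] (.node [(18, (-1), 1)] .nil .nil) .nil) (.node [] (.node [] (.node [(46, 1, 1)] .nil .nil) .nil) .nil)))))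
def X34 : Tr (List (ℕ × ℤ × ℕ)) := (.node [(41, (-1), 1)] (.node [] (.node [] (.node [] (.node [] (.node [(10, 1, 1)] (.node [] (.node [(106, 1, 1)] .nil .nil) .nil) .nil) (.node [] (.node [(48, (-1), 1)] .nil .nil) .nil)) (.node [] (.node [(25, (-1), 1)] .nil .nil) (.node [] (.node [(55, 1, 1)] .nil .nil) .nil))) (.node [] (.node [] (.node [(14, 1, 1)] (.node [] (.node [(117, (-1), 1)] .nil .nil) .nil) (.node [(71, (-1), 1)] .nil .nil)) .nil) (.node [] (.node [] (.node [(45, (-1), 1)] .nil .nil) .nil) (.node [] (.node [(60, 1, 1)] .nil .nil) (.node [(102, 1, 1)] .nil .nil))))) (.node [(41, (-1), 1)] (.node [] (.node [] (.node [(12, (-1), 1)] (.node [] (.node [(108, (-1), 1)] .nil .nil) .nil) (.node [(69, (-1), 1)] .nil .nil)) .nil) (.node [] (.node [] (.node [(43, 1, 1)] .nil .nil) .nil) (.node [] (.node [(57, (-1), 1)] .nil .nil) .nil))) (.node [] (.node [] (.node [(16, (-1), 1)] .nil .nil) .nil) (.node [] (.node [] (.node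 [(46, 1, 1)] .nil .nil) .nil) (.node [] (.node [(62, (-1), 1)] .nil .nil) (.node [(104, (-1), 1)] .nil .nil)))))) (.node [] (.node [(41, 1, 1)] (.node [] (.node [] (.node [] .nil (.node [(66, (-1), 1)] .nil .nil)) .nil) (.node [] .nil (.node [] .nil (.node [(101, 1, 1)] .nil .nil)))) (.node [] (.node [] (.node [] (.node [(40, 1, 1)] .nil .nil) .nil) (.node [] (.node [(52, (-1), 1)] .nil .nil) .nil)) (.node [(9, 1, 1)] .nil .nil))) (.node [(41, 1, 1)] (.node [] (.node [] (.node [] (.node [] (.node [(111, (-1), 1)] .nil .nil) .nil) (.node [(1, (-1), 1), (2, (-1), 1), (3, (-2), 1), (4, (-2), 1), (5, (-1), 1), (6, (-1), 1), (41, (-1), 2)] .nil .nil)) (.node [] (.node [(50, 1, 1)] .nil .nil) (.node [(100, 1, 1)] .nil .nil))) .nil) (.node [] (.node [(8, 1, 1)] (.node [(19, (-1), 1)] (.node [(42, 1, 1)] .nil .nil) .nil) .nil) (.node [] .nil (.node [] (.node [(64, 1, 1)] .nil .nil) .nil))))))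
def X35 : Tr (List (ℕ × ℤ × ℕ)) := (.node [(42, (-1), 1)] (.node [] (.node [] (.node [] (.node [] (.node [] .nil (.node [(66, (-1), 1)] .nil .nil)) .nil) (.node [] (.node [(26, (-1), 1)] .nil .nil) (.node [] (.node [(56, 1, 1)] .nil .nil) (.node [(101, 1, 1)] .nil .nil)))) (.node [] (.node [] (.node [] (.node [(40, (-1), 1)] (.node [(118, 1, 1)] .nil .nil) .nil) (.node [(72, 1, 1)] .nil .nil)) (.node [] (.node [(52, (-1), 1)] .nil .nil) .nil)) (.node [(9, (-1), 1)] .nil (.node [] (.node [(61, 1, 1)] .nil .nil) .nil)))) (.node [] (.node [] (.node [] (.node [(13, (-1), 1)] (.node [] (.node [(109, 1, 1)] .nil .nil) .nil) (.node [(1, (-1), 1), (2, (-1), 1), (3, (-2), 1), (4, (-2), 1), (5, (-1), 1), (42, (-1), 2)] .nil .nil)) (.node [] .nil (.node [(100, 1, 1)] .nil .nil))) (.node [] (.node [] (.node [(44, 1, 1)] .nil .nil) .nil) .nil)) (.node [] (.node [(8, (-1), 1)] (.node [(17, (-1), 1)] (.node [(41, 1, 1)] .nil .nil) .nil)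 .nil) (.node [] (.node [] (.node [(47, 1, 1)] .nil .nil) .nil) (.node [] .nil (.node [(105, 1, 1)] .nil .nil)))))) (.node [] (.node [(42, 1, 1)] (.node [] .nil (.node [] .nil (.node [] (.node [(57, (-1), 1)] .nil .nil) .nil))) (.node [] .nil (.node [] .nil (.node [] (.node [(62, (-1), 1)] .nil .nil) .nil)))) (.node [(42, (-1), 1)] (.node [] (.node [] (.node [(14, (-1), 1)] (.node [] (.node [(112, 1, 1)] .nil .nil) .nil) (.node [(70, (-1), 1)] .nil .nil)) (.node [] (.node [(51, 1, 1)] .nil .nil) .nil)) (.node [] (.node [] (.node [(45, (-1), 1)] .nil .nil) .nil) (.node [] .nil (.node [(102, 1, 1)] .nil .nil)))) (.node [] (.node [] (.node [(20, (-1), 1)] .nil .nil) .nil) (.node [(10, (-1), 1)] (.node [] (.node [(48, (-1), 1)] .nil .nil) .nil) (.node [] (.node [(65, 1, 1)] .nil .nil) (.node [(106, 1, 1)] .nil .nil)))))))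
def X36 : Tr (List (ℕ × ℤ × ℕ)) := (.node [(43, (-1), 1)] (.node [] (.node [(43, 1, 1)] (.node [] (.node [] (.node [(11, 1, 1)] (.node [] (.node [(107, (-1), 1)] .nil .nil) .nil) (.node [(69, (-1), 1)] .nil .nil)) (.node [] (.node [(49, (-1), 1)] .nil .nil) .nil)) (.node [] (.node [(27, (-1), 1)] .nil .nil) .nil)) (.node [] (.node [] (.node [(15, 1, 1)] (.node [] (.node [(119, 1, 1)] .nil .nil) .nil) (.node [(74, (-1), 1)] .nil .nil)) .nil) (.node [] .nil (.node [] .nil (.node [(103, (-1), 1)] .nil .nil))))) (.node [] (.node [] (.node [] (.node [] (.node [(40, 1, 1)] .nil .nil) .nil) (.node [] (.node [(50, 1, 1)] .nil .nil) .nil)) (.node [] .nil (.node [] (.node [(58, (-1), 1)] .nil .nil) .nil))) (.node [] .nil (.node [] .nil (.node [] (.node [(63, (-1), 1)] .nil .nil) .nil))))) (.node [] (.node [(43, (-1), 1)] (.node [] (.node [] (.node [(12, 1, 1)] (.node [] (.node [(108, (-1), 1)] .nil .nil) .nil) (.node [(1, (-1), 1),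 (2, (-1), 1), (3, (-2), 1), (4, (-1), 1), (5, (-1), 1), (6, (-1), 1), (43, (-1), 2)] .nil .nil)) (.node [] .nil (.node [(100, 1, 1)] .nil .nil))) (.node [] (.node [] (.node [(45, 1, 1)] .nil .nil) .nil) .nil)) (.node [] (.node [(8, (-1), 1)] (.node [(16, 1, 1)] .nil .nil) (.node [] (.node [(53, (-1), 1)] .nil .nil) .nil)) (.node [] (.node [] (.node [(46, 1, 1)] .nil .nil) .nil) (.node [] .nil (.node [(104, (-1), 1)] .nil .nil))))) (.node [(43, 1, 1)] (.node [] (.node [] (.node [] (.node [(41, 1, 1)] (.node [(113, 1, 1)] .nil .nil) .nil) (.node [(73, (-1), 1)] .nil .nil)) .nil) (.node [(9, (-1), 1)] .nil (.node [] (.node [(60, 1, 1)] .nil .nil) .nil))) (.node [] (.node [] (.node [(21, (-1), 1)] (.node [(44, 1, 1)] .nil .nil) .nil) (.node [] (.node [(55, 1, 1)] .nil .nil) (.node [(101, 1, 1)] .nil .nil))) (.node [] .nil (.node [] (.node [(67, (-1), 1)] .nil .nil) .nil))))))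
def X37 : Tr (List (ℕ × ℤ × ℕ)) := (.node [(44, (-1), 1)] (.node [] (.node [(44, 1, 1)] (.node [] (.node [] (.node [] .nil (.node [(1, (-1), 1), (2, (-1), 1), (3, (-2), 1), (4, (-1), 1), (5, (-1), 1), (44, (-1), 2)] .nil .nil)) (.node [] .nil (.node [(100, 1, 1)] .nil .nil))) (.node [] (.node [(28, (-1), 1)] (.node [(45, 1, 1)] .nil .nil) .nil) .nil)) (.node [] (.node [(8, 1, 1)] (.node [] (.node [] (.node [(120, (-1), 1)] .nil .nil) .nil) (.node [(75, 1, 1)] .nil .nil)) (.node [] (.node [(53, (-1), 1)] .nil .nil) .nil)) .nil)) (.node [(44, 1, 1)] (.node [] (.node [] (.node [] .nil (.node [(73, (-1), 1)] .nil .nil)) (.node [] (.node [(51, 1, 1)] .nil .nil) .nil)) (.node [(9, 1, 1)] .nil .nil)) (.node [] (.node [] (.node [] (.node [(43, 1, 1)] .nil .nil) .nil) (.node [] .nil (.node [(101, 1, 1)] .nil .nil))) .nil))) (.node [] (.node [(44, (-1), 1)] (.node [] (.node [] (.node [(13, 1, 1)] (.node [(40, (-1), 1)] (.node [(109,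 1, 1)] .nil .nil) .nil) (.node [(70, (-1), 1)] .nil .nil)) .nil) (.node [] .nil (.node [] (.node [(58, (-1), 1)] .nil .nil) .nil))) (.node [] (.node [] (.node [(17, 1, 1)] .nil .nil) .nil) (.node [] (.node [] (.node [(47, 1, 1)] .nil .nil) .nil) (.node [] (.node [(63, (-1), 1)] .nil .nil) (.node [(105, 1, 1)] .nil .nil))))) (.node [(44, (-1), 1)] (.node [] (.node [] (.node [(15, (-1), 1)] (.node [(42, 1, 1)] (.node [(114, (-1), 1)] .nil .nil) .nil) .nil) .nil) (.node [] .nil (.node [] (.node [(61, 1, 1)] .nil .nil) (.node [(103, (-1), 1)] .nil .nil)))) (.node [] (.node [] (.node [(22, (-1), 1)] .nil .nil) (.node [] (.node [(56, 1, 1)] .nil .nil) .nil)) (.node [(11, (-1), 1)] (.node [] (.node [(49, (-1), 1)] .nil .nil) .nil) (.node [] (.node [(68, (-1), 1)] .nil .nil) (.node [(107, (-1), 1)] .nil .nil)))))))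
def X38 : Tr (List (ℕ × ℤ × ℕ)) := (.node [(45, (-1), 1)] (.node [] (.node [(45, 1, 1)] (.node [] (.node [] (.node [(13, (-1), 1)] (.node [] (.node [(109, 1, 1)] .nil .nil) .nil) (.node [(71, (-1), 1)] .nil .nil)) .nil) (.node [] (.node [(29, (-1), 1)] .nil .nil) (.node [] (.node [(58, (-1), 1)] .nil .nil) .nil))) (.node [] (.node [] (.node [(17, (-1), 1)] (.node [(43, 1, 1)] (.node [(121, 1, 1)] .nil .nil) .nil) .nil) .nil) (.node [] .nil (.node [] (.node [(63, (-1), 1)] .nil .nil) (.node [(105, 1, 1)] .nil .nil))))) (.node [(45, (-1), 1)] (.node [] (.node [] (.node [] (.node [(42, (-1), 1)] .nil .nil) (.node [(74, 1, 1)] .nil .nil)) (.node [] (.node [(52, 1, 1)] .nil .nil) .nil)) .nil) (.node [] .nil (.node [] (.node [] (.node [(49, (-1), 1)] .nil .nil) .nil) .nil)))) (.node [] (.node [] (.node [] (.node [] (.node [] (.node [(41, (-1), 1)] .nil .nil) (.node [(72, (-1), 1)] .nil .nil)) .nil) (.node [(9, (-1), 1)] .nil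 .nil)) (.node [] (.node [] (.node [] (.node [(44, 1, 1)] .nil .nil) .nil) (.node [] .nil (.node [(101, 1, 1)] .nil .nil))) (.node [] (.node [] (.node [(48, 1, 1)] .nil .nil) .nil) .nil))) (.node [] (.node [] (.node [(8, (-1), 1)] (.node [(16, (-1), 1)] (.node [] (.node [(115, 1, 1)] .nil .nil) .nil) (.node [(75, 1, 1)] .nil .nil)) (.node [] (.node [(53, (-1), 1)] .nil .nil) .nil)) (.node [] .nil (.node [] (.node [(62, 1, 1)] .nil .nil) (.node [(104, 1, 1)] .nil .nil)))) (.node [] (.node [] (.node [(23, (-1), 1)] .nil .nil) (.node [] (.node [(57, 1, 1)] .nil .nil) .nil)) (.node [(12, (-1), 1)] (.node [] .nil (.node [(100, 1, 1)] .nil .nil)) (.node [] (.node [(1, (-1), 1), (2, (-1), 1), (3, (-2), 1), (4, (-1), 1), (45, (-1), 2)] .nil .nil) (.node [(108, 1, 1)] .nil .nil)))))))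
def X39 : Tr (List (ℕ × ℤ × ℕ)) := (.node [(46, (-1), 1)] (.node [(46, 1, 1)] (.node [(46, (-1), 1)] (.node [] (.node [] (.node [] (.node [(43, 1, 1)] (.node [(110, 1, 1)] .nil .nil) .nil) .nil) .nil) (.node [] (.node [(30, (-1), 1)] .nil .nil) .nil)) (.node [] (.node [] (.node [(18, 1, 1)] (.node [] (.node [(122, (-1), 1)] .nil .nil) .nil) (.node [(78, (-1), 1)] .nil .nil)) .nil) (.node [] (.node [] (.node [(49, 1, 1)] .nil .nil) .nil) (.node [] (.node [(67, (-1), 1)] .nil .nil) .nil)))) (.node [] (.node [] (.node [(8, 1, 1)] (.node [] (.node [] (.node [(113, 1, 1)] .nil .nil) .nil) .nil) .nil) (.node [] .nil (.node [] (.node [(59, (-1), 1)] .nil .nil) (.node [(104, (-1), 1)] .nil .nil)))) (.node [] (.node [] (.node [(21, 1, 1)] .nil .nil) (.node [] (.node [(55, 1, 1)] .nil .nil) .nil)) (.node [(12, (-1), 1)] (.node [] .nil (.node [(100, 1, 1)] .nil .nil)) (.node [(40, 1, 1)] (.node [(1, (-1), 1), (2, (-1), 1), (3, (-1),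 1), (4, (-1), 1), (5, (-1), 1), (6, (-1), 1), (46, (-1), 2)] .nil .nil) .nil))))) (.node [(46, 1, 1)] (.node [] (.node [] (.node [] (.node [] (.node [] (.node [(111, 1, 1)] .nil .nil) .nil) (.node [(76, (-1), 1)] .nil .nil)) (.node [] (.node [(50, 1, 1)] .nil .nil) .nil)) (.node [] (.node [] (.node [(48, 1, 1)] .nil .nil) .nil) (.node [] .nil (.node [(103, (-1), 1)] .nil .nil)))) (.node [] (.node [] (.node [(19, 1, 1)] .nil .nil) (.node [] (.node [(54, (-1), 1)] .nil .nil) .nil)) (.node [(11, (-1), 1)] .nil (.node [] (.node [(69, (-1), 1)] .nil .nil) .nil)))) (.node [(46, 1, 1)] (.node [] (.node [] (.node [] .nil (.node [(77, (-1), 1)] .nil .nil)) .nil) (.node [(10, (-1), 1)] .nil (.node [] (.node [(64, (-1), 1)] .nil .nil) .nil))) (.node [] (.node [] (.node [] (.node [(47, 1, 1)] .nil .nil) .nil) (.node [] .nil (.node [(102, (-1), 1)] .nil .nil))) (.node [] .nil (.node [(41, 1, 1)] .nil .nil))))))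
def X40 : Tr (List (ℕ × ℤ × ℕ)) := (.node [(47, (-1), 1)] (.node [(47, 1, 1)] (.node [(47, (-1), 1)] (.node [] (.node [] (.node [] (.node [(44, 1, 1)] .nil .nil) (.node [(76, (-1), 1)] .nil .nil)) .nil) (.node [] (.node [(31, (-1), 1)] (.node [(48, 1, 1)] .nil .nil) .nil) (.node [] .nil (.node [(103, (-1), 1)] .nil .nil)))) (.node [] (.node [] (.node [] (.node [] (.node [(123, 1, 1)] .nil .nil) .nil) (.node [(79, 1, 1)] .nil .nil)) (.node [] (.node [(54, (-1), 1)] .nil .nil) .nil)) (.node [(11, 1, 1)] .nil (.node [] (.node [(68, (-1), 1)] .nil .nil) .nil)))) (.node [(47, 1, 1)] (.node [] (.node [] (.node [] (.node [] (.node [(114, (-1), 1)] .nil .nil) .nil) (.node [(77, (-1), 1)] .nil .nil)) .nil) (.node [(10, 1, 1)] .nil (.node [] .nil (.node [(105, 1, 1)] .nil .nil)))) (.node [] (.node [] (.node [(22, 1, 1)] (.node [(46, 1, 1)] .nil .nil) .nil) (.node [] (.node [(56, 1, 1)] .nil .nil) (.node [(102, (-1), 1)] .nil .nil)))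 (.node [(13, (-1), 1)] .nil (.node [] (.node [(70, (-1), 1)] .nil .nil) .nil))))) (.node [(47, 1, 1)] (.node [] (.node [] (.node [(8, (-1), 1)] (.node [] (.node [] (.node [(112, (-1), 1)] .nil .nil) .nil) .nil) (.node [] (.node [(51, 1, 1)] .nil .nil) .nil)) (.node [] .nil (.node [] (.node [(59, (-1), 1)] .nil .nil) .nil))) (.node [] (.node [] (.node [(20, 1, 1)] .nil .nil) .nil) (.node [] (.node [] .nil (.node [(100, 1, 1)] .nil .nil)) (.node [(40, (-1), 1)] (.node [(1, (-1), 1), (2, (-1), 1), (3, (-1), 1), (4, (-1), 1), (5, (-1), 1), (47, (-1), 2)] .nil .nil) .nil)))) (.node [(47, (-1), 1)] (.node [] (.node [] (.node [(18, (-1), 1)] .nil .nil) .nil) (.node [] (.node [] (.node [(49, 1, 1)] .nil .nil) .nil) (.node [] (.node [(65, (-1), 1)] .nil .nil) .nil))) (.node [] .nil (.node [] .nil (.node [(42, 1, 1)] .nil (.node [(110, 1, 1)] .nil .nil)))))))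
def X41 : Tr (List (ℕ × ℤ × ℕ)) := (.node [(48, (-1), 1)] (.node [(48, 1, 1)] (.node [(48, (-1), 1)] (.node [] (.node [(8, 1, 1)] (.node [] (.node [(45, 1, 1)] (.node [(112, (-1), 1)] .nil .nil) .nil) .nil) .nil) (.node [] (.node [(32, (-1), 1)] .nil .nil) (.node [] (.node [(59, (-1), 1)] .nil .nil) (.node [(104, 1, 1)] .nil .nil)))) (.node [] (.node [] (.node [(20, (-1), 1)] (.node [(46, 1, 1)] (.node [(124, (-1), 1)] .nil .nil) .nil) .nil) .nil) (.node [(12, 1, 1)] (.node [] .nil (.node [(100, 1, 1)] .nil .nil)) (.node [] (.node [(1, (-1), 1), (2, (-1), 1), (3, (-1), 1), (4, (-1), 1), (48, (-1), 2)] .nil .nil) .nil)))) (.node [(48, (-1), 1)] (.node [] (.node [] (.node [] (.node [] (.node [(115, 1, 1)] .nil .nil) .nil) (.node [(78, 1, 1)] .nil .nil)) .nil) (.node [] (.node [] (.node [(49, 1, 1)] .nil .nil) .nil) .nil)) (.node [] (.node [] (.node [(23, 1, 1)] .nil .nil) (.node [] (.node [(57, 1, 1)] .nil .nil) .nil)) (.node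 [] .nil (.node [(42, (-1), 1)] (.node [(72, (-1), 1)] .nil .nil) .nil))))) (.node [(48, 1, 1)] (.node [(48, 1, 1)] (.node [] (.node [] .nil (.node [] (.node [(52, 1, 1)] .nil .nil) .nil)) (.node [(10, (-1), 1)] .nil (.node [] .nil (.node [(105, 1, 1)] .nil .nil)))) (.node [] (.node [] (.node [] (.node [(47, 1, 1)] .nil .nil) .nil) (.node [] .nil (.node [(102, (-1), 1)] .nil .nil))) (.node [(13, 1, 1)] .nil (.node [(41, (-1), 1)] (.node [(71, (-1), 1)] .nil .nil) .nil)))) (.node [] (.node [] (.node [] (.node [(19, (-1), 1)] .nil (.node [(79, 1, 1)] .nil .nil)) (.node [] (.node [(54, (-1), 1)] .nil .nil) .nil)) (.node [] .nil (.node [] (.node [(66, (-1), 1)] .nil .nil) .nil))) (.node [] .nil (.node [] .nil (.node [] (.node [(76, (-1), 1)] .nil .nil) (.node [(111, (-1), 1)] .nil .nil)))))))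
def X42 : Tr (List (ℕ × ℤ × ℕ)) := (.node [(49, (-1), 1)] (.node [(49, 1, 1)] (.node [] (.node [] (.node [] (.node [] (.node [] (.node [(114, 1, 1)] .nil .nil) .nil) (.node [(78, 1, 1)] .nil .nil)) .nil) (.node [] (.node [(33, (-1), 1)] .nil .nil) .nil)) (.node [] (.node [] (.node [(22, (-1), 1)] (.node [] (.node [(125, 1, 1)] .nil .nil) .nil) .nil) .nil) (.node [] .nil (.node [] (.node [(73, (-1), 1)] .nil .nil) .nil)))) (.node [] (.node [] (.node [] (.node [] (.node [(47, 1, 1)] .nil .nil) .nil) (.node [] (.node [(54, (-1), 1)] .nil .nil) .nil)) (.node [(12, (-1), 1)] .nil .nil)) (.node [] (.node [] .nil (.node [] (.node [(58, 1, 1)] .nil .nil) (.node [(104, 1, 1)] .nil .nil))) (.node [] .nil (.node [(44, (-1), 1)] (.node [(75, (-1), 1)] .nil .nil) .nil))))) (.node [(49, 1, 1)] (.node [(49, (-1), 1)] (.node [] (.node [] (.node [] (.node [(46, 1, 1)] (.node [(115, 1, 1)] .nil .nil) .nil) (.node [(79, 1, 1)] .nil .nil))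 (.node [] (.node [(53, 1, 1)] .nil .nil) .nil)) (.node [(11, (-1), 1)] .nil .nil)) (.node [] (.node [] (.node [(23, (-1), 1)] .nil .nil) (.node [] .nil (.node [(103, 1, 1)] .nil .nil))) (.node [] .nil (.node [(43, (-1), 1)] (.node [(74, (-1), 1)] .nil .nil) .nil)))) (.node [] (.node [] (.node [] (.node [(21, (-1), 1)] (.node [(48, 1, 1)] .nil .nil) .nil) .nil) (.node [(13, (-1), 1)] (.node [] .nil (.node [(100, 1, 1)] .nil .nil)) (.node [] (.node [(1, (-1), 1), (2, (-1), 1), (3, (-1), 1), (49, (-1), 2)] .nil .nil) .nil))) (.node [(8, (-1), 1)] (.node [] .nil (.node [] (.node [(59, (-1), 1)] .nil .nil) (.node [(105, 1, 1)] .nil .nil))) (.node [] .nil (.node [(45, (-1), 1)] (.node [(77, 1, 1)] .nil .nil) (.node [(113, 1, 1)] .nil .nil)))))))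
def X43 : Tr (List (ℕ × ℤ × ℕ)) := (.node [] (.node [(50, 1, 1)] (.node [] (.node [] (.node [] (.node [] (.node [] (.node [(116, (-1), 1)] .nil .nil) .nil) .nil) (.node [] (.node [(54, 1, 1)] .nil .nil) .nil)) (.node [(12, 1, 1)] .nil (.node [] (.node [(67, (-1), 1)] .nil .nil) .nil))) (.node [] (.node [] (.node [(24, 1, 1)] .nil (.node [(83, (-1), 1)] .nil .nil)) (.node [] .nil (.node [(104, (-1), 1)] .nil .nil))) (.node [] (.node [] (.node [(53, 1, 1)] .nil .nil) .nil) (.node [(46, 1, 1)] .nil .nil)))) (.node [] (.node [] (.node [(9, 1, 1)] (.node [] (.node [] (.node [(119, (-1), 1)] .nil .nil) .nil) .nil) .nil) (.node [] .nil (.node [(41, 1, 1)] (.node [(1, (-1), 1), (3, (-1), 1), (4, (-1), 1), (5, (-1), 1), (6, (-1), 1), (50, (-1), 2)] .nil .nil) .nil))) (.node [] (.node [] (.node [(27, 1, 1)] .nil .nil) (.node [] (.node [(60, (-1), 1)] .nil .nil) .nil)) (.node [] (.node [] .nil (.node [(101, (-1), 1)] .nil .nil)) (.node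 [] (.node [(80, (-1), 1)] .nil .nil) .nil))))) (.node [(50, (-1), 1)] (.node [] (.node [] (.node [] (.node [] (.node [] (.node [(117, (-1), 1)] .nil .nil) .nil) (.node [(81, (-1), 1)] .nil .nil)) (.node [] .nil (.node [(102, (-1), 1)] .nil .nil))) (.node [] (.node [] (.node [(52, 1, 1)] .nil .nil) .nil) (.node [(40, 1, 1)] (.node [(69, (-1), 1)] .nil .nil) .nil))) (.node [] (.node [(10, 1, 1)] (.node [(25, 1, 1)] .nil .nil) .nil) .nil)) (.node [(50, 1, 1)] (.node [] (.node [] (.node [] (.node [] (.node [(122, (-1), 1)] .nil .nil) .nil) (.node [(82, (-1), 1)] .nil .nil)) (.node [] .nil (.node [(103, (-1), 1)] .nil .nil))) (.node [] .nil (.node [(43, 1, 1)] .nil .nil))) (.node [] (.node [(11, 1, 1)] (.node [(30, 1, 1)] (.node [(51, 1, 1)] .nil .nil) .nil) (.node [] (.node [(64, (-1), 1)] .nil .nil) .nil)) .nil))))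
def X44 : Tr (List (ℕ × ℤ × ℕ)) := (.node [] (.node [(51, 1, 1)] (.node [] (.node [] (.node [] (.node [] .nil (.node [(81, (-1), 1)] .nil .nil)) (.node [] .nil (.node [(102, (-1), 1)] .nil .nil))) (.node [(13, 1, 1)] (.node [] (.node [(52, 1, 1)] .nil .nil) .nil) (.node [(40, (-1), 1)] (.node [(68, (-1), 1)] .nil .nil) .nil))) (.node [] (.node [(10, (-1), 1)] (.node [] .nil (.node [(84, 1, 1)] .nil .nil)) (.node [] .nil (.node [(105, 1, 1)] .nil .nil))) (.node [] .nil (.node [(47, 1, 1)] .nil .nil)))) (.node [(51, 1, 1)] (.node [] (.node [] (.node [] (.node [] (.node [(120, 1, 1)] .nil .nil) .nil) (.node [(82, (-1), 1)] .nil .nil)) (.node [] .nil (.node [(103, (-1), 1)] .nil .nil))) (.node [] .nil (.node [(42, 1, 1)] (.node [(70, (-1), 1)] .nil .nil) .nil))) (.node [] (.node [(11, (-1), 1)] (.node [(28, 1, 1)] (.node [(50, 1, 1)] .nil .nil) .nil) (.node [] (.node [(61, (-1), 1)] .nil .nil) .nil)) .nil))) (.node [(51, (-1),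 1)] (.node [] (.node [] (.node [(9, (-1), 1)] (.node [] (.node [] (.node [(118, 1, 1)] .nil .nil) .nil) .nil) .nil) (.node [] .nil (.node [] (.node [(1, (-1), 1), (3, (-1), 1), (4, (-1), 1), (5, (-1), 1), (51, (-1), 2)] .nil .nil) .nil))) (.node [] (.node [] (.node [(26, 1, 1)] .nil .nil) .nil) (.node [] (.node [] .nil (.node [(101, (-1), 1)] .nil .nil)) (.node [] (.node [(80, (-1), 1)] .nil .nil) .nil)))) (.node [(51, (-1), 1)] (.node [] (.node [] (.node [(24, (-1), 1)] (.node [] (.node [(123, 1, 1)] .nil .nil) .nil) .nil) .nil) (.node [] (.node [] (.node [(53, 1, 1)] .nil .nil) .nil) (.node [(44, 1, 1)] .nil .nil))) (.node [] (.node [] (.node [(31, 1, 1)] .nil .nil) (.node [] (.node [(65, (-1), 1)] .nil .nil) .nil)) (.node [] (.node [] (.node [(54, 1, 1)] .nil .nil) .nil) (.node [] .nil (.node [(116, (-1), 1)] .nil .nil)))))))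
def X45 : Tr (List (ℕ × ℤ × ℕ)) := (.node [] (.node [(52, 1, 1)] (.node [] (.node [] (.node [(9, 1, 1)] (.node [] (.node [] (.node [(118, 1, 1)] .nil .nil) .nil) .nil) .nil) (.node [] .nil (.node [(41, (-1), 1)] (.node [(1, (-1), 1), (3, (-1), 1), (4, (-1), 1), (52, (-1), 2)] .nil .nil) .nil))) (.node [] (.node [] (.node [(26, (-1), 1)] (.node [(50, 1, 1)] .nil .nil) .nil) .nil) (.node [] (.node [] .nil (.node [(101, (-1), 1)] .nil .nil)) (.node [(48, 1, 1)] (.node [(80, (-1), 1)] .nil .nil) .nil)))) (.node [(52, (-1), 1)] (.node [] (.node [] (.node [] (.node [] (.node [(121, (-1), 1)] .nil .nil) .nil) (.node [(83, 1, 1)] .nil .nil)) (.node [] .nil (.node [(104, 1, 1)] .nil .nil))) (.node [] (.node [] (.node [(53, 1, 1)] .nil .nil) .nil) (.node [] (.node [(72, (-1), 1)] .nil .nil) .nil))) (.node [] (.node [(12, (-1), 1)] (.node [(29, 1, 1)] .nil .nil) (.node [] (.node [(62, (-1), 1)] .nil .nil) .nil)) (.node [] (.node []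 (.node [(54, 1, 1)] .nil .nil) .nil) .nil)))) (.node [(52, (-1), 1)] (.node [(52, 1, 1)] (.node [] .nil (.node [] .nil (.node [(42, (-1), 1)] (.node [(71, (-1), 1)] .nil .nil) .nil))) (.node [] (.node [] (.node [] (.node [(51, 1, 1)] .nil .nil) .nil) .nil) .nil)) (.node [] (.node [] (.node [(10, 1, 1)] (.node [(25, (-1), 1)] (.node [] (.node [(124, (-1), 1)] .nil .nil) .nil) (.node [(84, 1, 1)] .nil .nil)) (.node [] .nil (.node [(105, 1, 1)] .nil .nil))) (.node [] .nil (.node [(45, 1, 1)] .nil .nil))) (.node [] (.node [(13, (-1), 1)] (.node [(32, 1, 1)] .nil .nil) (.node [] (.node [(66, (-1), 1)] .nil .nil) .nil)) (.node [] (.node [] .nil (.node [(102, (-1), 1)] .nil .nil)) (.node [] (.node [(81, (-1), 1)] .nil .nil) (.node [(117, 1, 1)] .nil .nil)))))))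
def X46 : Tr (List (ℕ × ℤ × ℕ)) := (.node [] (.node [(53, 1, 1)] (.node [(53, 1, 1)] (.node [] (.node [] (.node [] (.node [] (.node [(120, (-1), 1)] .nil .nil) .nil) (.node [(83, 1, 1)] .nil .nil)) (.node [] .nil (.node [(104, 1, 1)] .nil .nil))) (.node [] .nil (.node [(43, (-1), 1)] (.node [(73, (-1), 1)] .nil .nil) .nil))) (.node [] (.node [(12, 1, 1)] (.node [(28, (-1), 1)] .nil .nil) .nil) (.node [] .nil (.node [(49, 1, 1)] .nil .nil)))) (.node [] (.node [] (.node [] (.node [] (.node [(51, 1, 1)] .nil .nil) .nil) .nil) (.node [] .nil (.node [(45, (-1), 1)] (.node [(75, (-1), 1)] .nil .nil) .nil))) (.node [] (.node [] .nil (.node [] (.node [(63, (-1), 1)] .nil .nil) .nil)) .nil))) (.node [(53, (-1), 1)] (.node [(53, (-1), 1)] (.node [] (.node [] (.node [] (.node [(50, 1, 1)] (.node [(121, (-1), 1)] .nil .nil) .nil) (.node [(84, 1, 1)] .nil .nil)) (.node [] .nil (.node [(105, 1, 1)] .nil .nil))) (.node [] .nil (.node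 [(44, (-1), 1)] (.node [(74, (-1), 1)] .nil .nil) .nil))) (.node [] (.node [(13, 1, 1)] (.node [(29, (-1), 1)] .nil .nil) .nil) (.node [] (.node [] (.node [(54, 1, 1)] .nil .nil) .nil) .nil))) (.node [] (.node [] (.node [(11, 1, 1)] (.node [(27, (-1), 1)] (.node [(52, 1, 1)] (.node [(125, 1, 1)] .nil .nil) .nil) .nil) .nil) (.node [] (.node [] .nil (.node [(101, (-1), 1)] .nil .nil)) (.node [] (.node [(80, (-1), 1)] .nil .nil) .nil))) (.node [(9, (-1), 1)] (.node [] (.node [(33, 1, 1)] .nil .nil) (.node [] (.node [(1, (-1), 1), (3, (-1), 1), (53, (-1), 2)] .nil .nil) .nil)) (.node [] (.node [] .nil (.node [(103, 1, 1)] .nil .nil)) (.node [] (.node [(82, 1, 1)] .nil .nil) (.node [(119, (-1), 1)] .nil .nil)))))))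
def X47 : Tr (List (ℕ × ℤ × ℕ)) := (.node [] (.node [(54, 2, 1)] (.node [(54, (-1), 1)] (.node [] (.node [(11, (-1), 1)] (.node [] (.node [(53, 1, 1)] (.node [(123, 1, 1)] .nil .nil) .nil) .nil) .nil) (.node [] .nil (.node [(46, (-1), 1)] (.node [(77, (-1), 1)] .nil .nil) .nil))) (.node [] (.node [] (.node [(31, (-1), 1)] .nil .nil) .nil) (.node [] (.node [] .nil (.node [(103, 1, 1)] .nil .nil)) (.node [] (.node [(82, 1, 1)] .nil .nil) .nil)))) (.node [] (.node [] (.node [(13, (-1), 1)] (.node [] (.node [] (.node [(125, 1, 1)] .nil .nil) .nil) .nil) .nil) (.node [] .nil (.node [(48, (-1), 1)] (.node [(79, (-1), 1)] .nil .nil) .nil))) (.node [] (.node [] (.node [(33, (-1), 1)] .nil .nil) (.node [] (.node [(1, (-1), 1), (54, (-1), 2)] .nil .nil) .nil)) (.node [] (.node [] .nil (.node [(105, 1, 1)] .nil .nil)) (.node [(51, 1, 1)] (.node [(84, 1, 1)] .nil .nil) .nil))))) (.node [] (.node [] (.node [] (.node [(12, (-1), 1)]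 (.node [] (.node [] (.node [(124, 1, 1)] .nil .nil) .nil) .nil) .nil) (.node [] .nil (.node [(47, (-1), 1)] (.node [(78, (-1), 1)] .nil .nil) .nil))) (.node [] (.node [] (.node [(32, (-1), 1)] .nil .nil) .nil) (.node [] (.node [] .nil (.node [(104, 1, 1)] .nil .nil)) (.node [(50, 1, 1)] (.node [(83, 1, 1)] .nil .nil) .nil)))) (.node [] (.node [] (.node [] (.node [(30, (-1), 1)] .nil .nil) .nil) (.node [] (.node [] .nil (.node [(102, 1, 1)] .nil .nil)) (.node [(49, (-1), 1)] (.node [(81, 1, 1)] .nil .nil) .nil))) (.node [(10, (-1), 1)] (.node [] .nil (.node [] (.node [(76, (-1), 1)] .nil .nil) .nil)) (.node [] .nil (.node [(52, 1, 1)] .nil (.node [(122, 1, 1)] .nil .nil)))))))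
def X48 : Tr (List (ℕ × ℤ × ℕ)) := (.node [(55, (-1), 1)] (.node [(55, (-1), 1)] (.node [] (.node [] (.node [] (.node [(18, (-1), 1)] .nil .nil) (.node [] (.node [(59, 1, 1)] .nil .nil) .nil)) (.node [] (.node [(34, (-1), 1)] .nil .nil) .nil)) (.node [] (.node [] (.node [] (.node [] (.node [(126, 1, 1)] .nil .nil) .nil) (.node [(88, (-1), 1)] .nil .nil)) (.node [(40, 1, 1)] (.node [(69, (-1), 1)] .nil .nil) .nil)) (.node [] (.node [] (.node [(58, 1, 1)] .nil .nil) .nil) (.node [] .nil (.node [(110, 1, 1)] .nil .nil))))) (.node [] (.node [] (.node [] (.node [(21, (-1), 1)] .nil .nil) (.node [] (.node [(64, (-1), 1)] .nil .nil) .nil)) (.node [] (.node [] .nil (.node [(100, 1, 1)] .nil .nil)) (.node [] .nil (.node [(108, 1, 1)] .nil .nil)))) (.node [(8, (-1), 1)] (.node [] .nil (.node [(43, 1, 1)] .nil .nil)) (.node [(16, (-1), 1)] .nil (.node [] (.node [(85, (-1), 1)] .nil .nil) (.node [(113, 1, 1)] .nil .nil)))))) (.node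 [(55, 1, 1)] (.node [] (.node [] (.node [] (.node [(19, (-1), 1)] .nil (.node [(86, (-1), 1)] .nil .nil)) (.node [] (.node [(60, (-1), 1)] .nil .nil) .nil)) (.node [] (.node [] (.node [(57, 1, 1)] .nil .nil) .nil) (.node [] .nil (.node [(107, 1, 1)] .nil .nil)))) (.node [] (.node [] .nil (.node [(41, 1, 1)] (.node [(2, (-1), 1), (3, (-1), 1), (4, (-1), 1), (5, (-1), 1), (6, (-1), 1), (55, (-1), 2)] .nil .nil) .nil)) (.node [(15, (-1), 1)] .nil (.node [] .nil (.node [(111, 1, 1)] .nil .nil))))) (.node [(55, 1, 1)] (.node [] (.node [] (.node [] .nil (.node [(87, (-1), 1)] .nil .nil)) (.node [] (.node [(67, (-1), 1)] .nil .nil) .nil)) (.node [(14, (-1), 1)] .nil .nil)) (.node [] (.node [] (.node [] (.node [(56, 1, 1)] .nil .nil) .nil) (.node [(46, 1, 1)] .nil (.node [(106, 1, 1)] .nil .nil))) .nil))))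
def X49 : Tr (List (ℕ × ℤ × ℕ)) := (.node [(56, (-1), 1)] (.node [(56, (-1), 1)] (.node [] (.node [] (.node [] (.node [] .nil (.node [(86, (-1), 1)] .nil .nil)) .nil) (.node [] (.node [(35, (-1), 1)] (.node [(57, 1, 1)] .nil .nil) .nil) (.node [] .nil (.node [(107, 1, 1)] .nil .nil)))) (.node [] (.node [] (.node [] (.node [] (.node [(127, (-1), 1)] .nil .nil) .nil) (.node [(89, 1, 1)] .nil .nil)) (.node [] (.node [(2, (-1), 1), (3, (-1), 1), (4, (-1), 1), (5, (-1), 1), (56, (-1), 2)] .nil .nil) .nil)) (.node [(15, 1, 1)] .nil .nil))) (.node [(56, 1, 1)] (.node [] (.node [] (.node [(22, (-1), 1)] .nil (.node [(87, (-1), 1)] .nil .nil)) (.node [] (.node [(65, (-1), 1)] .nil .nil) .nil)) (.node [(14, 1, 1)] .nil (.node [] .nil (.node [(109, (-1), 1)] .nil .nil)))) (.node [] (.node [] (.node [] (.node [(55, 1, 1)] .nil .nil) .nil) (.node [(44, 1, 1)] .nil (.node [(106, 1, 1)] .nil .nil))) (.node [(17, (-1), 1)] .nil (.node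 [] .nil (.node [(114, (-1), 1)] .nil .nil)))))) (.node [(56, 1, 1)] (.node [] (.node [] (.node [] (.node [(20, (-1), 1)] .nil .nil) (.node [] (.node [(61, (-1), 1)] .nil .nil) .nil)) (.node [] (.node [] .nil (.node [(100, 1, 1)] .nil .nil)) .nil)) (.node [(8, 1, 1)] (.node [] .nil (.node [(42, 1, 1)] (.node [(70, (-1), 1)] .nil .nil) .nil)) (.node [] .nil (.node [] (.node [(85, (-1), 1)] .nil .nil) (.node [(112, (-1), 1)] .nil .nil))))) (.node [(56, (-1), 1)] (.node [] (.node [] .nil (.node [(40, (-1), 1)] (.node [(68, (-1), 1)] .nil .nil) .nil)) (.node [] (.node [] (.node [(58, 1, 1)] .nil .nil) .nil) (.node [] .nil (.node [(110, 1, 1)] .nil .nil)))) (.node [] (.node [] .nil (.node [(47, 1, 1)] .nil .nil)) (.node [(18, 1, 1)] (.node [] (.node [(59, 1, 1)] .nil .nil) .nil) .nil)))))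
def X50 : Tr (List (ℕ × ℤ × ℕ)) := (.node [(57, (-1), 1)] (.node [(57, (-1), 1)] (.node [] (.node [] (.node [] (.node [(20, 1, 1)] .nil .nil) .nil) (.node [] (.node [(36, (-1), 1)] .nil (.node [(100, 1, 1)] .nil .nil)) (.node [] .nil (.node [(108, (-1), 1)] .nil .nil)))) (.node [(8, (-1), 1)] (.node [] (.node [] (.node [(55, 1, 1)] (.node [(128, 1, 1)] .nil .nil) .nil) .nil) (.node [(42, (-1), 1)] (.node [(71, (-1), 1)] .nil .nil) .nil)) (.node [(16, 1, 1)] .nil (.node [] (.node [(85, (-1), 1)] .nil .nil) (.node [(112, (-1), 1)] .nil .nil))))) (.node [(57, (-1), 1)] (.node [] (.node [] (.node [(23, (-1), 1)] .nil (.node [(88, 1, 1)] .nil .nil)) (.node [] (.node [(66, (-1), 1)] .nil .nil) .nil)) (.node [] (.node [] (.node [(58, 1, 1)] .nil .nil) .nil) .nil)) (.node [] (.node [] .nil (.node [(45, 1, 1)] .nil .nil)) (.node [] (.node [] (.node [(59, 1, 1)] .nil .nil) .nil) (.node [] .nil (.node [(115, 1, 1)] .nil .nil))))))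 (.node [(57, 1, 1)] (.node [(57, 1, 1)] (.node [] (.node [] .nil (.node [] (.node [(62, (-1), 1)] .nil .nil) .nil)) (.node [(14, (-1), 1)] .nil (.node [] .nil (.node [(109, (-1), 1)] .nil .nil)))) (.node [] (.node [] (.node [] (.node [(56, 1, 1)] .nil .nil) .nil) (.node [] (.node [(72, (-1), 1)] .nil .nil) (.node [(106, 1, 1)] .nil .nil))) (.node [(17, 1, 1)] .nil .nil))) (.node [] (.node [] (.node [] (.node [] .nil (.node [(89, 1, 1)] .nil .nil)) (.node [(41, (-1), 1)] (.node [(2, (-1), 1), (3, (-1), 1), (4, (-1), 1), (57, (-1), 2)] .nil .nil) .nil)) (.node [] .nil (.node [] .nil (.node [(111, (-1), 1)] .nil .nil)))) (.node [] (.node [] .nil (.node [(48, 1, 1)] .nil .nil)) (.node [(19, 1, 1)] .nil (.node [] (.node [(86, (-1), 1)] .nil .nil) .nil))))))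
def X51 : Tr (List (ℕ × ℤ × ℕ)) := (.node [(58, (-1), 1)] (.node [(58, (-1), 1)] (.node [(58, 1, 1)] (.node [] (.node [] (.node [(22, 1, 1)] .nil (.node [(88, 1, 1)] .nil .nil)) .nil) (.node [] (.node [(37, (-1), 1)] .nil .nil) .nil)) (.node [] (.node [] (.node [] (.node [] (.node [(129, (-1), 1)] .nil .nil) .nil) .nil) (.node [(44, (-1), 1)] (.node [(74, (-1), 1)] .nil .nil) .nil)) (.node [] .nil (.node [] .nil (.node [(114, 1, 1)] .nil .nil))))) (.node [] (.node [] (.node [] (.node [] (.node [(56, 1, 1)] .nil .nil) .nil) (.node [] (.node [(2, (-1), 1), (3, (-1), 1), (58, (-1), 2)] .nil .nil) .nil)) (.node [(16, (-1), 1)] .nil .nil)) (.node [] (.node [] .nil (.node [] .nil (.node [(108, (-1), 1)] .nil .nil))) .nil))) (.node [(58, 1, 1)] (.node [(58, (-1), 1)] (.node [] (.node [] (.node [(23, 1, 1)] (.node [(55, 1, 1)] .nil .nil) (.node [(89, 1, 1)] .nil .nil)) (.node [] (.node [(63, (-1), 1)] .nil .nil) .nil)) (.node [(15,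 (-1), 1)] .nil .nil)) (.node [] (.node [] .nil (.node [(45, (-1), 1)] (.node [(75, (-1), 1)] .nil .nil) (.node [(107, (-1), 1)] .nil .nil))) (.node [] (.node [] (.node [(59, 1, 1)] .nil .nil) .nil) (.node [] .nil (.node [(115, 1, 1)] .nil .nil))))) (.node [] (.node [(8, 1, 1)] (.node [] (.node [] (.node [(57, 1, 1)] .nil .nil) .nil) (.node [(43, (-1), 1)] (.node [(73, (-1), 1)] .nil .nil) .nil)) (.node [(17, (-1), 1)] .nil (.node [] (.node [(85, (-1), 1)] .nil .nil) (.node [(113, 1, 1)] .nil .nil)))) (.node [] (.node [] (.node [] .nil (.node [(100, 1, 1)] .nil .nil)) (.node [(49, 1, 1)] .nil (.node [(109, (-1), 1)] .nil .nil))) (.node [(21, 1, 1)] .nil (.node [] (.node [(87, 1, 1)] .nil .nil) .nil))))))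
def X52 : Tr (List (ℕ × ℤ × ℕ)) := (.node [(59, (-1), 1)] (.node [] (.node [(59, (-1), 1)] (.node [] (.node [] (.node [] (.node [(58, 1, 1)] .nil .nil) .nil) .nil) (.node [] (.node [(38, (-1), 1)] .nil .nil) (.node [] .nil (.node [(113, 1, 1)] .nil .nil)))) (.node [] (.node [] (.node [] (.node [] (.node [(130, 1, 1)] .nil .nil) .nil) .nil) (.node [(47, (-1), 1)] (.node [(78, (-1), 1)] .nil .nil) .nil)) (.node [(21, (-1), 1)] .nil (.node [] (.node [(87, 1, 1)] .nil .nil) .nil)))) (.node [] (.node [(8, (-1), 1)] (.node [] .nil (.node [] (.node [(76, (-1), 1)] .nil .nil) .nil)) (.node [(19, (-1), 1)] .nil (.node [] .nil (.node [(115, 1, 1)] .nil .nil)))) (.node [] (.node [] (.node [] .nil (.node [(100, 1, 1)] .nil .nil)) (.node [(49, (-1), 1)] .nil (.node [(111, 1, 1)] .nil .nil))) (.node [(23, (-1), 1)] .nil (.node [(56, 1, 1)] (.node [(89, 1, 1)] .nil .nil) .nil))))) (.node [(59, 2, 1)] (.node [] (.node [] (.node [] .nil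 (.node [] (.node [(2, (-1), 1), (59, (-1), 2)] .nil .nil) .nil)) (.node [(18, (-1), 1)] .nil (.node [] .nil (.node [(114, 1, 1)] .nil .nil)))) (.node [] (.node [] .nil (.node [(48, (-1), 1)] (.node [(79, (-1), 1)] .nil .nil) (.node [(110, 1, 1)] .nil .nil))) (.node [(22, (-1), 1)] .nil (.node [(55, 1, 1)] (.node [(88, 1, 1)] .nil .nil) .nil)))) (.node [] (.node [] (.node [] .nil (.node [(46, (-1), 1)] (.node [(77, (-1), 1)] .nil .nil) .nil)) (.node [(20, (-1), 1)] .nil (.node [] (.node [(86, 1, 1)] .nil .nil) .nil))) (.node [] (.node [] .nil (.node [] .nil (.node [(112, 1, 1)] .nil .nil))) (.node [] .nil (.node [(57, 1, 1)] .nil .nil))))))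
def X53 : Tr (List (ℕ × ℤ × ℕ)) := (.node [] (.node [(60, (-1), 1)] (.node [(60, 1, 1)] (.node [] (.node [] (.node [(24, 1, 1)] .nil .nil) (.node [(40, 1, 1)] (.node [(3, (-1), 1), (4, (-1), 1), (5, (-1), 1), (6, (-1), 1), (60, (-1), 2)] .nil .nil) .nil)) (.node [(16, (-1), 1)] .nil .nil)) (.node [] (.node [] (.node [] .nil (.node [(92, (-1), 1)] .nil .nil)) (.node [] .nil (.node [(108, (-1), 1)] .nil .nil))) (.node [] (.node [] (.node [(63, 1, 1)] .nil .nil) .nil) (.node [(55, (-1), 1)] .nil (.node [(116, 1, 1)] .nil .nil))))) (.node [] (.node [] (.node [] (.node [(27, 1, 1)] .nil .nil) (.node [(43, 1, 1)] .nil .nil)) (.node [] (.node [] .nil (.node [(101, 1, 1)] .nil .nil)) (.node [] (.node [(85, 1, 1)] .nil .nil) .nil))) (.node [(9, 1, 1)] .nil (.node [] (.node [] (.node [(67, (-1), 1)] .nil .nil) .nil) (.node [] .nil (.node [(119, 1, 1)] .nil .nil)))))) (.node [(60, (-1), 1)] (.node [] (.node [] (.node [] (.node [(25,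 1, 1)] .nil (.node [(90, (-1), 1)] .nil .nil)) (.node [(41, 1, 1)] .nil (.node [(106, (-1), 1)] .nil .nil))) (.node [] (.node [] (.node [(62, 1, 1)] .nil .nil) .nil) .nil)) (.node [] (.node [(14, (-1), 1)] .nil (.node [] (.node [(80, 1, 1)] .nil .nil) .nil)) (.node [] (.node [] (.node [(64, (-1), 1)] .nil .nil) .nil) (.node [] .nil (.node [(117, 1, 1)] .nil .nil))))) (.node [(60, 1, 1)] (.node [] (.node [] (.node [] (.node [] (.node [(126, (-1), 1)] .nil .nil) .nil) (.node [(91, (-1), 1)] .nil .nil)) (.node [] .nil (.node [(107, (-1), 1)] .nil .nil))) .nil) (.node [] (.node [(15, (-1), 1)] (.node [(34, (-1), 1)] (.node [(61, 1, 1)] .nil .nil) .nil) (.node [(50, (-1), 1)] .nil .nil)) (.node [] (.node [] (.node [(69, (-1), 1)] .nil .nil) .nil) .nil)))))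
def X54 : Tr (List (ℕ × ℤ × ℕ)) := (.node [] (.node [(61, (-1), 1)] (.node [(61, 1, 1)] (.node [] (.node [] (.node [] .nil (.node [(90, (-1), 1)] .nil .nil)) (.node [] (.node [(70, (-1), 1)] .nil .nil) (.node [(106, (-1), 1)] .nil .nil))) (.node [(17, (-1), 1)] (.node [] (.node [(62, 1, 1)] .nil .nil) .nil) .nil)) (.node [] (.node [(14, 1, 1)] (.node [] .nil (.node [(93, 1, 1)] .nil .nil)) (.node [] (.node [(80, 1, 1)] .nil .nil) (.node [(109, 1, 1)] .nil .nil))) (.node [] .nil (.node [(56, (-1), 1)] .nil .nil)))) (.node [(61, 1, 1)] (.node [] (.node [] (.node [(28, 1, 1)] .nil (.node [(91, (-1), 1)] .nil .nil)) (.node [(44, 1, 1)] .nil (.node [(107, (-1), 1)] .nil .nil))) .nil) (.node [] (.node [(15, 1, 1)] (.node [] (.node [(60, 1, 1)] .nil .nil) .nil) .nil) (.node [] (.node [] (.node [(68, (-1), 1)] .nil .nil) .nil) (.node [] .nil (.node [(120, (-1), 1)] .nil .nil)))))) (.node [(61, (-1), 1)] (.node [] (.node [] (.node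 [] (.node [(26, 1, 1)] .nil .nil) (.node [(42, 1, 1)] .nil .nil)) (.node [] (.node [] .nil (.node [(101, 1, 1)] .nil .nil)) (.node [] (.node [(85, 1, 1)] .nil .nil) .nil))) (.node [(9, (-1), 1)] .nil (.node [] (.node [] (.node [(65, (-1), 1)] .nil .nil) .nil) (.node [] .nil (.node [(118, (-1), 1)] .nil .nil))))) (.node [(61, (-1), 1)] (.node [] (.node [] (.node [] (.node [] (.node [(127, 1, 1)] .nil .nil) .nil) .nil) .nil) (.node [] (.node [] (.node [(63, 1, 1)] .nil .nil) .nil) (.node [] .nil (.node [(116, 1, 1)] .nil .nil)))) (.node [] (.node [] (.node [(35, (-1), 1)] .nil .nil) (.node [(51, (-1), 1)] .nil .nil)) (.node [(24, (-1), 1)] (.node [(40, (-1), 1)] (.node [(3, (-1), 1), (4, (-1), 1), (5, (-1), 1), (61, (-1), 2)] .nil .nil) .nil) .nil)))))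
def X55 : Tr (List (ℕ × ℤ × ℕ)) := (.node [] (.node [(62, (-1), 1)] (.node [(62, 1, 1)] (.node [] (.node [] (.node [(26, (-1), 1)] .nil .nil) (.node [(42, (-1), 1)] (.node [(72, (-1), 1)] .nil .nil) .nil)) (.node [] (.node [] .nil (.node [(101, 1, 1)] .nil .nil)) (.node [] (.node [(85, 1, 1)] .nil .nil) .nil))) (.node [(9, 1, 1)] (.node [] (.node [] (.node [(60, 1, 1)] .nil .nil) .nil) .nil) (.node [] .nil (.node [(57, (-1), 1)] .nil (.node [(118, (-1), 1)] .nil .nil))))) (.node [(62, (-1), 1)] (.node [] (.node [] (.node [(29, 1, 1)] .nil (.node [(92, 1, 1)] .nil .nil)) (.node [(45, 1, 1)] .nil (.node [(108, 1, 1)] .nil .nil))) (.node [] (.node [] (.node [(63, 1, 1)] .nil .nil) .nil) .nil)) (.node [] (.node [(16, 1, 1)] .nil .nil) (.node [] (.node [] (.node [(3, (-1), 1), (4, (-1), 1), (62, (-1), 2)] .nil .nil) .nil) (.node [] .nil (.node [(121, 1, 1)] .nil .nil)))))) (.node [(62, (-1), 1)] (.node [(62, 1, 1)] .nil (.node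 [] (.node [] (.node [] (.node [(61, 1, 1)] .nil .nil) .nil) .nil) (.node [] (.node [] (.node [(66, (-1), 1)] .nil .nil) .nil) .nil))) (.node [] (.node [] (.node [(14, (-1), 1)] (.node [] (.node [] (.node [(128, (-1), 1)] .nil .nil) .nil) (.node [(93, 1, 1)] .nil .nil)) (.node [] (.node [(80, 1, 1)] .nil .nil) (.node [(109, 1, 1)] .nil .nil))) (.node [] .nil (.node [] .nil (.node [(117, (-1), 1)] .nil .nil)))) (.node [] (.node [(17, 1, 1)] (.node [(36, (-1), 1)] .nil .nil) (.node [(52, (-1), 1)] .nil .nil)) (.node [(25, (-1), 1)] (.node [(41, (-1), 1)] (.node [(71, (-1), 1)] .nil .nil) (.node [(106, (-1), 1)] .nil .nil)) (.node [] (.node [(90, (-1), 1)] .nil .nil) .nil))))))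
def X56 : Tr (List (ℕ × ℤ × ℕ)) := (.node [] (.node [(63, (-1), 1)] (.node [(63, 2, 1)] (.node [] (.node [] (.node [(28, (-1), 1)] .nil (.node [(92, 1, 1)] .nil .nil)) (.node [(44, (-1), 1)] (.node [(75, (-1), 1)] .nil .nil) (.node [(108, 1, 1)] .nil .nil))) .nil) (.node [] (.node [(16, (-1), 1)] .nil .nil) (.node [] .nil (.node [(58, (-1), 1)] .nil (.node [(120, 1, 1)] .nil .nil))))) (.node [] (.node [] (.node [] (.node [] (.node [(61, 1, 1)] .nil .nil) .nil) (.node [] (.node [(80, 1, 1)] .nil .nil) .nil)) .nil) (.node [] .nil (.node [] (.node [] (.node [(73, (-1), 1)] .nil .nil) .nil) .nil)))) (.node [(63, (-1), 1)] (.node [(63, (-1), 1)] (.node [] (.node [] (.node [(29, (-1), 1)] (.node [(60, 1, 1)] .nil .nil) (.node [(93, 1, 1)] .nil .nil)) (.node [(45, (-1), 1)] .nil (.node [(109, 1, 1)] .nil .nil))) .nil) (.node [] (.node [(17, (-1), 1)] .nil .nil) (.node [] (.node [] (.node [(3, (-1), 1), (63, (-1), 2)] .nil .nil)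 .nil) (.node [] .nil (.node [(121, 1, 1)] .nil .nil))))) (.node [] (.node [(9, (-1), 1)] (.node [(15, (-1), 1)] (.node [] (.node [(62, 1, 1)] (.node [(129, 1, 1)] .nil .nil) .nil) .nil) .nil) (.node [] .nil (.node [] .nil (.node [(119, 1, 1)] .nil .nil)))) (.node [] (.node [] (.node [(37, (-1), 1)] .nil (.node [(101, 1, 1)] .nil .nil)) (.node [(53, (-1), 1)] (.node [(85, 1, 1)] .nil .nil) .nil)) (.node [(27, (-1), 1)] (.node [(43, (-1), 1)] (.node [(74, (-1), 1)] .nil .nil) (.node [(107, 1, 1)] .nil .nil)) (.node [] (.node [(91, 1, 1)] .nil .nil) .nil))))))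
def X57 : Tr (List (ℕ × ℤ × ℕ)) := (.node [] (.node [] (.node [(64, (-1), 1)] (.node [] (.node [] (.node [] (.node [(60, (-1), 1)] .nil .nil) .nil) (.node [] (.node [(76, 1, 1)] .nil .nil) .nil)) (.node [(19, 1, 1)] .nil .nil)) (.node [] (.node [] (.node [] .nil (.node [(95, (-1), 1)] .nil .nil)) (.node [] .nil (.node [(111, (-1), 1)] .nil .nil))) (.node [] (.node [] (.node [(4, (-1), 1), (5, (-1), 1), (6, (-1), 1), (64, (-1), 2)] .nil .nil) .nil) .nil))) (.node [] (.node [] (.node [(14, (-1), 1)] (.node [(30, (-1), 1)] (.node [] (.node [(126, 1, 1)] .nil .nil) .nil) .nil) (.node [(46, (-1), 1)] .nil .nil)) (.node [] (.node [] (.node [(67, (-1), 1)] .nil .nil) (.node [(102, 1, 1)] .nil .nil)) (.node [] (.node [(86, 1, 1)] .nil .nil) (.node [(117, (-1), 1)] .nil .nil)))) (.node [(10, (-1), 1)] (.node [] (.node [(34, (-1), 1)] .nil .nil) (.node [(50, (-1), 1)] .nil .nil)) (.node [(25, 1, 1)] (.node [(41, 1, 1)] .nil (.node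 [(106, 1, 1)] .nil .nil)) (.node [] (.node [(90, 1, 1)] .nil .nil) (.node [(122, 1, 1)] .nil .nil)))))) (.node [] (.node [(64, 1, 1)] (.node [] .nil (.node [] (.node [] (.node [(66, 1, 1)] .nil .nil) .nil) (.node [] .nil (.node [(116, (-1), 1)] .nil .nil)))) (.node [] (.node [] .nil (.node [] (.node [(81, 1, 1)] .nil .nil) .nil)) (.node [(24, 1, 1)] (.node [(40, 1, 1)] .nil .nil) .nil))) (.node [(64, 1, 1)] (.node [] (.node [] (.node [] .nil (.node [(94, (-1), 1)] .nil .nil)) (.node [] .nil (.node [(110, (-1), 1)] .nil .nil))) (.node [] (.node [] (.node [(69, (-1), 1)] .nil .nil) .nil) (.node [(55, (-1), 1)] .nil .nil))) (.node [] (.node [(18, 1, 1)] (.node [] (.node [(65, 1, 1)] .nil .nil) .nil) .nil) .nil))))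
def X58 : Tr (List (ℕ × ℤ × ℕ)) := (.node [] (.node [] (.node [(65, (-1), 1)] (.node [] (.node [] (.node [] (.node [(61, (-1), 1)] .nil .nil) .nil) .nil) (.node [(20, 1, 1)] (.node [] (.node [(66, 1, 1)] .nil .nil) .nil) (.node [] .nil (.node [(116, (-1), 1)] .nil .nil)))) (.node [] (.node [] (.node [] .nil (.node [(96, 1, 1)] .nil .nil)) (.node [] (.node [(81, 1, 1)] .nil .nil) (.node [(112, 1, 1)] .nil .nil))) (.node [(24, (-1), 1)] (.node [(40, (-1), 1)] (.node [(70, (-1), 1)] .nil .nil) .nil) .nil))) (.node [(65, 1, 1)] (.node [] (.node [] (.node [(31, (-1), 1)] (.node [] (.node [(127, (-1), 1)] .nil .nil) .nil) (.node [(94, (-1), 1)] .nil .nil)) (.node [(47, (-1), 1)] .nil (.node [(110, (-1), 1)] .nil .nil))) (.node [] (.node [] (.node [(68, (-1), 1)] .nil .nil) .nil) (.node [] .nil (.node [(118, 1, 1)] .nil .nil)))) (.node [] (.node [(18, (-1), 1)] (.node [(35, (-1), 1)] (.node [(64, 1, 1)] .nil .nil) .nil) (.node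 [(51, (-1), 1)] .nil .nil)) (.node [(26, 1, 1)] (.node [(42, 1, 1)] .nil .nil) (.node [] .nil (.node [(123, (-1), 1)] .nil .nil)))))) (.node [] (.node [(65, 1, 1)] (.node [] (.node [(14, 1, 1)] .nil .nil) (.node [] (.node [] .nil (.node [(102, 1, 1)] .nil .nil)) (.node [] (.node [(86, 1, 1)] .nil .nil) .nil))) (.node [(10, 1, 1)] .nil (.node [] (.node [] .nil (.node [(106, 1, 1)] .nil .nil)) (.node [] (.node [(90, 1, 1)] .nil .nil) .nil)))) (.node [(65, (-1), 1)] (.node [] .nil (.node [] (.node [] (.node [(4, (-1), 1), (5, (-1), 1), (65, (-1), 2)] .nil .nil) .nil) (.node [(56, (-1), 1)] .nil .nil))) (.node [] .nil (.node [] (.node [] (.node [(76, 1, 1)] .nil .nil) .nil) .nil)))))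
def X59 : Tr (List (ℕ × ℤ × ℕ)) := (.node [] (.node [] (.node [(66, (-1), 1)] (.node [] (.node [(14, (-1), 1)] (.node [] (.node [(62, (-1), 1)] .nil .nil) .nil) .nil) (.node [] (.node [] .nil (.node [(102, 1, 1)] .nil .nil)) (.node [] (.node [(86, 1, 1)] .nil .nil) (.node [(117, 1, 1)] .nil .nil)))) (.node [(10, (-1), 1)] (.node [] (.node [] (.node [(64, 1, 1)] .nil .nil) .nil) .nil) (.node [(25, (-1), 1)] (.node [(41, (-1), 1)] (.node [(72, (-1), 1)] .nil .nil) (.node [(106, 1, 1)] .nil .nil)) (.node [] (.node [(90, 1, 1)] .nil .nil) .nil)))) (.node [(66, (-1), 1)] (.node [] (.node [] (.node [(32, (-1), 1)] (.node [] (.node [(128, 1, 1)] .nil .nil) .nil) (.node [(95, 1, 1)] .nil .nil)) (.node [(48, (-1), 1)] .nil (.node [(111, 1, 1)] .nil .nil))) (.node [] (.node [] (.node [(4, (-1), 1), (66, (-1), 2)] .nil .nil) .nil) .nil)) (.node [] (.node [(19, (-1), 1)] (.node [(36, (-1), 1)] .nil .nil) (.node [(52, (-1), 1)] .nil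 .nil)) (.node [] (.node [] (.node [(76, 1, 1)] .nil .nil) .nil) (.node [] .nil (.node [(124, 1, 1)] .nil .nil)))))) (.node [] (.node [(66, 2, 1)] (.node [] .nil (.node [] .nil (.node [] .nil (.node [(118, 1, 1)] .nil .nil)))) (.node [] (.node [] (.node [] (.node [(65, 1, 1)] .nil .nil) .nil) .nil) (.node [(26, (-1), 1)] (.node [(42, (-1), 1)] .nil .nil) .nil))) (.node [] (.node [] (.node [] (.node [] .nil (.node [(96, 1, 1)] .nil .nil)) (.node [] (.node [(81, 1, 1)] .nil .nil) (.node [(112, 1, 1)] .nil .nil))) (.node [] (.node [] (.node [(71, (-1), 1)] .nil .nil) .nil) (.node [(57, (-1), 1)] .nil .nil))) (.node [] (.node [(20, (-1), 1)] .nil .nil) .nil))))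
def X60 : Tr (List (ℕ × ℤ × ℕ)) := (.node [] (.node [] (.node [] (.node [] (.node [] .nil (.node [] (.node [(77, 1, 1)] .nil .nil) .nil)) (.node [(21, (-1), 1)] (.node [] (.node [(69, (-1), 1)] .nil .nil) .nil) .nil)) (.node [] (.node [] (.node [] .nil (.node [(97, (-1), 1)] .nil .nil)) (.node [] .nil (.node [(113, (-1), 1)] .nil .nil))) (.node [] (.node [] (.node [(73, 1, 1)] .nil .nil) .nil) .nil))) (.node [(67, 1, 1)] (.node [] (.node [(15, 1, 1)] .nil .nil) (.node [] (.node [] .nil (.node [(103, 1, 1)] .nil .nil)) (.node [(55, (-1), 1)] (.node [(87, 1, 1)] .nil .nil) (.node [(119, (-1), 1)] .nil .nil)))) (.node [(11, 1, 1)] .nil (.node [(27, (-1), 1)] (.node [(43, (-1), 1)] .nil (.node [(107, 1, 1)] .nil .nil)) (.node [] (.node [(91, 1, 1)] .nil .nil) .nil))))) (.node [] (.node [(67, (-1), 1)] (.node [] (.node [] (.node [(30, (-1), 1)] (.node [] (.node [(126, (-1), 1)] .nil .nil) .nil) (.node [(94, 1, 1)] .nil .nil))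 (.node [(46, (-1), 1)] .nil (.node [(110, 1, 1)] .nil .nil))) (.node [] (.node [] (.node [(5, (-1), 1), (6, (-1), 1), (67, (-1), 2)] .nil .nil) .nil) .nil)) (.node [] (.node [(18, 1, 1)] (.node [(34, (-1), 1)] .nil .nil) (.node [(50, (-1), 1)] (.node [(82, 1, 1)] .nil .nil) .nil)) (.node [] .nil (.node [] .nil (.node [(122, (-1), 1)] .nil .nil))))) (.node [(67, 1, 1)] (.node [] (.node [] (.node [] (.node [(64, (-1), 1)] .nil .nil) .nil) .nil) (.node [(24, 1, 1)] (.node [(40, 1, 1)] .nil .nil) .nil)) (.node [] (.node [] (.node [] (.node [(68, 1, 1)] .nil .nil) .nil) (.node [] .nil (.node [(116, 1, 1)] .nil .nil))) (.node [] .nil (.node [(60, (-1), 1)] .nil .nil))))))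
def X61 : Tr (List (ℕ × ℤ × ℕ)) := (.node [] (.node [] (.node [] (.node [] (.node [] (.node [] .nil (.node [(94, 1, 1)] .nil .nil)) (.node [] .nil (.node [(110, 1, 1)] .nil .nil))) (.node [(22, (-1), 1)] (.node [] (.node [(5, (-1), 1), (68, (-1), 2)] .nil .nil) .nil) .nil)) (.node [] (.node [(18, (-1), 1)] (.node [] .nil (.node [(98, 1, 1)] .nil .nil)) (.node [] (.node [(82, 1, 1)] .nil .nil) (.node [(114, 1, 1)] .nil .nil))) .nil)) (.node [(68, 2, 1)] (.node [] .nil (.node [(24, (-1), 1)] (.node [(40, (-1), 1)] .nil .nil) (.node [(56, (-1), 1)] .nil (.node [(120, 1, 1)] .nil .nil)))) (.node [] (.node [] (.node [] (.node [(67, 1, 1)] .nil .nil) .nil) (.node [] .nil (.node [(116, 1, 1)] .nil .nil))) (.node [(28, (-1), 1)] (.node [(44, (-1), 1)] .nil .nil) .nil)))) (.node [] (.node [(68, (-1), 1)] (.node [] (.node [(15, (-1), 1)] (.node [(31, (-1), 1)] (.node [] (.node [(127, 1, 1)] .nil .nil) .nil) .nil) (.node [(47, (-1),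 1)] .nil .nil)) (.node [] (.node [] (.node [(70, (-1), 1)] .nil .nil) (.node [(103, 1, 1)] .nil .nil)) (.node [] (.node [(87, 1, 1)] .nil .nil) .nil))) (.node [(11, (-1), 1)] (.node [] (.node [(35, (-1), 1)] .nil .nil) (.node [(51, (-1), 1)] .nil .nil)) (.node [] (.node [] .nil (.node [(107, 1, 1)] .nil .nil)) (.node [] (.node [(91, 1, 1)] .nil .nil) (.node [(123, 1, 1)] .nil .nil))))) (.node [(68, (-1), 1)] (.node [] (.node [] (.node [] (.node [(65, (-1), 1)] .nil .nil) .nil) .nil) (.node [] (.node [] (.node [(73, 1, 1)] .nil .nil) .nil) .nil)) (.node [] .nil (.node [] (.node [] (.node [(77, 1, 1)] .nil .nil) .nil) (.node [(61, (-1), 1)] .nil .nil))))))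
def X62 : Tr (List (ℕ × ℤ × ℕ)) := (.node [] (.node [] (.node [] (.node [] (.node [] (.node [(30, (-1), 1)] (.node [] (.node [(126, 1, 1)] .nil .nil) .nil) .nil) (.node [(46, (-1), 1)] (.node [(78, 1, 1)] .nil .nil) .nil)) .nil) (.node [] (.node [] (.node [(34, (-1), 1)] .nil .nil) (.node [(50, (-1), 1)] .nil .nil)) (.node [] (.node [] (.node [(74, 1, 1)] .nil .nil) .nil) (.node [] .nil (.node [(122, 1, 1)] .nil .nil))))) (.node [(69, (-1), 1)] (.node [] (.node [(16, (-1), 1)] (.node [] (.node [(64, (-1), 1)] .nil .nil) .nil) .nil) (.node [] (.node [] .nil (.node [(104, 1, 1)] .nil .nil)) (.node [] (.node [(88, 1, 1)] .nil .nil) .nil))) (.node [(12, (-1), 1)] .nil (.node [] (.node [] .nil (.node [(108, 1, 1)] .nil .nil)) (.node [(60, (-1), 1)] (.node [(92, 1, 1)] .nil .nil) .nil))))) (.node [] (.node [] (.node [] (.node [] (.node [] .nil (.node [(95, 1, 1)] .nil .nil)) (.node [] .nil (.node [(111, 1, 1)] .nil .nil))) (.node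 [] (.node [] (.node [(71, 1, 1)] .nil .nil) .nil) (.node [(55, (-1), 1)] .nil (.node [(119, 1, 1)] .nil .nil)))) (.node [] (.node [(19, (-1), 1)] (.node [] (.node [(67, (-1), 1)] .nil .nil) .nil) (.node [] (.node [(83, 1, 1)] .nil .nil) .nil)) (.node [(27, (-1), 1)] (.node [(43, (-1), 1)] .nil .nil) .nil))) (.node [(69, 2, 1)] (.node [] (.node [] (.node [] .nil (.node [(97, 1, 1)] .nil .nil)) (.node [] .nil (.node [(113, 1, 1)] .nil .nil))) (.node [(25, (-1), 1)] (.node [(41, (-1), 1)] .nil .nil) .nil)) (.node [] (.node [(21, (-1), 1)] (.node [] (.node [(6, (-1), 1), (69, (-1), 2)] .nil .nil) .nil) (.node [] .nil (.node [(117, 1, 1)] .nil .nil))) .nil))))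
def X63 : Tr (List (ℕ × ℤ × ℕ)) := (.node [] (.node [] (.node [] (.node [] (.node [] (.node [] .nil (.node [(96, 1, 1)] .nil .nil)) (.node [] .nil (.node [(112, 1, 1)] .nil .nil))) (.node [] (.node [] (.node [(72, 1, 1)] .nil .nil) .nil) (.node [(56, (-1), 1)] .nil (.node [(120, 1, 1)] .nil .nil)))) (.node [] (.node [(20, (-1), 1)] (.node [] (.node [(68, (-1), 1)] .nil .nil) .nil) (.node [] (.node [(84, 1, 1)] .nil .nil) .nil)) (.node [(28, (-1), 1)] (.node [(44, (-1), 1)] .nil .nil) .nil))) (.node [(70, 1, 1)] (.node [] (.node [] (.node [] .nil (.node [(98, 1, 1)] .nil .nil)) (.node [] .nil (.node [(114, 1, 1)] .nil .nil))) (.node [(26, (-1), 1)] (.node [(42, (-1), 1)] .nil .nil) .nil)) (.node [] (.node [(22, (-1), 1)] (.node [] (.node [(6, 1, 1), (70, (-1), 2)] .nil .nil) .nil) (.node [] .nil (.node [(118, 1, 1)] .nil .nil))) .nil))) (.node [] (.node [] (.node [] (.node [(17, (-1), 1)] (.node [] (.node [(65, (-1), 1)]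 .nil .nil) .nil) .nil) (.node [] (.node [] .nil (.node [(105, 1, 1)] .nil .nil)) (.node [] (.node [(89, 1, 1)] .nil .nil) .nil))) (.node [(13, (-1), 1)] .nil (.node [] (.node [] .nil (.node [(109, 1, 1)] .nil .nil)) (.node [(61, (-1), 1)] (.node [(93, 1, 1)] .nil .nil) .nil)))) (.node [(70, (-2), 1)] (.node [] (.node [] (.node [(35, (-1), 1)] .nil .nil) (.node [(51, (-1), 1)] .nil .nil)) (.node [] (.node [] (.node [(75, 1, 1)] .nil .nil) .nil) (.node [] .nil (.node [(123, 1, 1)] .nil .nil)))) (.node [] .nil (.node [(31, (-1), 1)] (.node [(47, (-1), 1)] (.node [(79, 1, 1)] .nil .nil) .nil) (.node [] .nil (.node [(127, 1, 1)] .nil .nil)))))))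
def X64 : Tr (List (ℕ × ℤ × ℕ)) := (.node [] (.node [] (.node [] (.node [] (.node [(16, (-1), 1)] (.node [(32, (-1), 1)] (.node [] (.node [(128, 1, 1)] .nil .nil) .nil) .nil) (.node [(48, (-1), 1)] .nil .nil)) (.node [] (.node [] .nil (.node [(104, 1, 1)] .nil .nil)) (.node [] (.node [(88, 1, 1)] .nil .nil) .nil))) (.node [(12, (-1), 1)] (.node [] (.node [(36, (-1), 1)] (.node [(69, 1, 1)] .nil .nil) .nil) (.node [(52, (-1), 1)] .nil .nil)) (.node [] (.node [] .nil (.node [(108, 1, 1)] .nil .nil)) (.node [] (.node [(92, 1, 1)] .nil .nil) (.node [(124, 1, 1)] .nil .nil))))) (.node [(71, (-2), 1)] (.node [] (.node [] (.node [] (.node [(66, (-1), 1)] .nil .nil) .nil) .nil) (.node [] (.node [] (.node [(74, 1, 1)] .nil .nil) .nil) .nil)) (.node [] .nil (.node [] (.node [] (.node [(78, 1, 1)] .nil .nil) .nil) (.node [(62, (-1), 1)] .nil .nil))))) (.node [] (.node [(71, 1, 1)] (.node [] .nil (.node [(25, (-1), 1)] (.node [(41,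 (-1), 1)] .nil .nil) (.node [(57, (-1), 1)] .nil (.node [(121, 1, 1)] .nil .nil)))) (.node [] (.node [] (.node [] (.node [(5, 1, 1), (71, (-1), 2)] .nil .nil) .nil) (.node [] .nil (.node [(117, 1, 1)] .nil .nil))) (.node [(29, (-1), 1)] (.node [(45, (-1), 1)] .nil .nil) .nil))) (.node [(71, 1, 1)] (.node [] (.node [(19, (-1), 1)] (.node [] .nil (.node [(99, 1, 1)] .nil .nil)) (.node [] (.node [(83, 1, 1)] .nil .nil) (.node [(115, 1, 1)] .nil .nil))) .nil) (.node [] (.node [(23, (-1), 1)] (.node [] (.node [(72, (-1), 1)] .nil .nil) .nil) .nil) (.node [] (.node [] .nil (.node [(111, 1, 1)] .nil .nil)) (.node [] (.node [(95, 1, 1)] .nil .nil) .nil))))))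
def X65 : Tr (List (ℕ × ℤ × ℕ)) := (.node [] (.node [] (.node [] (.node [] (.node [(17, 1, 1)] .nil .nil) (.node [] (.node [] .nil (.node [(105, 1, 1)] .nil .nil)) (.node [(57, (-1), 1)] (.node [(89, 1, 1)] .nil .nil) (.node [(121, (-1), 1)] .nil .nil)))) (.node [(13, 1, 1)] (.node [] (.node [] (.node [(5, 1, 1), (6, 1, 1), (72, (-1), 2)] .nil .nil) .nil) .nil) (.node [(29, (-1), 1)] (.node [(45, (-1), 1)] .nil (.node [(109, 1, 1)] .nil .nil)) (.node [] (.node [(93, 1, 1)] .nil .nil) .nil)))) (.node [(72, (-1), 1)] (.node [] (.node [] (.node [] .nil (.node [(99, (-1), 1)] .nil .nil)) (.node [] .nil (.node [(115, (-1), 1)] .nil .nil))) (.node [] (.node [] (.node [(75, 1, 1)] .nil .nil) .nil) .nil)) (.node [] (.node [(23, (-1), 1)] (.node [] (.node [(71, (-1), 1)] .nil .nil) .nil) .nil) (.node [] (.node [] (.node [(79, 1, 1)] .nil .nil) .nil) .nil)))) (.node [] (.node [(72, 1, 1)] (.node [] (.node [] (.node [] (.node [(66,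 (-1), 1)] .nil .nil) .nil) .nil) (.node [(26, 1, 1)] (.node [(42, 1, 1)] .nil .nil) .nil)) (.node [] (.node [] (.node [] (.node [(70, 1, 1)] .nil .nil) .nil) (.node [] .nil (.node [(118, 1, 1)] .nil .nil))) (.node [] .nil (.node [(62, (-1), 1)] .nil .nil)))) (.node [(72, (-1), 1)] (.node [] (.node [(20, 1, 1)] (.node [(36, (-1), 1)] .nil .nil) (.node [(52, (-1), 1)] (.node [(84, 1, 1)] .nil .nil) .nil)) (.node [] .nil (.node [] .nil (.node [(124, (-1), 1)] .nil .nil)))) (.node [] .nil (.node [(32, (-1), 1)] (.node [(48, (-1), 1)] .nil (.node [(112, 1, 1)] .nil .nil)) (.node [] (.node [(96, 1, 1)] .nil .nil) (.node [(128, (-1), 1)] .nil .nil)))))))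
def X66 : Tr (List (ℕ × ℤ × ℕ)) := (.node [] (.node [] (.node [(73, 1, 1)] (.node [] (.node [] (.node [] .nil (.node [(97, 1, 1)] .nil .nil)) (.node [] .nil (.node [(113, 1, 1)] .nil .nil))) (.node [] (.node [] (.node [(74, (-1), 1)] .nil .nil) .nil) .nil)) (.node [] (.node [(21, (-1), 1)] .nil .nil) .nil)) (.node [(73, 1, 1)] (.node [] (.node [] (.node [] (.node [(68, 1, 1)] .nil .nil) .nil) (.node [] (.node [(82, 1, 1)] .nil .nil) .nil)) (.node [(27, (-1), 1)] (.node [(43, (-1), 1)] .nil .nil) (.node [(58, (-1), 1)] .nil .nil))) (.node [] (.node [] .nil (.node [] .nil (.node [(119, 1, 1)] .nil .nil))) .nil))) (.node [] (.node [(73, (-2), 1)] (.node [] (.node [] (.node [(33, (-1), 1)] (.node [(67, 1, 1)] (.node [(129, 1, 1)] .nil .nil) .nil) (.node [(98, 1, 1)] .nil .nil)) (.node [(49, (-1), 1)] .nil (.node [(114, 1, 1)] .nil .nil))) (.node [] (.node [] (.node [(75, (-1), 1)] .nil .nil) .nil) .nil)) (.node [] (.node [(22,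 (-1), 1)] (.node [(37, (-1), 1)] .nil .nil) (.node [(53, (-1), 1)] .nil .nil)) (.node [] (.node [] (.node [(77, 1, 1)] .nil .nil) .nil) (.node [] .nil (.node [(125, 1, 1)] .nil .nil))))) (.node [] (.node [(11, (-1), 1)] (.node [] (.node [] (.node [(4, 1, 1), (73, (-1), 2)] .nil .nil) .nil) .nil) (.node [(28, (-1), 1)] (.node [(44, (-1), 1)] .nil (.node [(107, 1, 1)] .nil .nil)) (.node [] (.node [(91, 1, 1)] .nil .nil) .nil))) (.node [(15, (-1), 1)] (.node [] (.node [] .nil (.node [(103, 1, 1)] .nil .nil)) (.node [] (.node [(87, 1, 1)] .nil .nil) (.node [(120, 1, 1)] .nil .nil))) (.node [] .nil (.node [(63, (-1), 1)] .nil .nil))))))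
def X67 : Tr (List (ℕ × ℤ × ℕ)) := (.node [] (.node [] (.node [(74, 1, 1)] (.node [] (.node [] (.node [(33, (-1), 1)] (.node [] (.node [(129, (-1), 1)] .nil .nil) .nil) .nil) (.node [(49, (-1), 1)] .nil .nil)) .nil) (.node [] (.node [] (.node [(37, (-1), 1)] .nil .nil) (.node [(53, (-1), 1)] .nil .nil)) (.node [] .nil (.node [] .nil (.node [(125, (-1), 1)] .nil .nil))))) (.node [(74, (-1), 1)] (.node [] (.node [] (.node [] (.node [(4, 1, 1), (5, 1, 1), (74, (-1), 2)] .nil .nil) .nil) (.node [] (.node [(83, 1, 1)] .nil .nil) .nil)) .nil) (.node [] .nil (.node [] .nil (.node [(63, (-1), 1)] .nil .nil))))) (.node [] (.node [(74, (-1), 1)] (.node [] (.node [] (.node [] (.node [(69, 1, 1)] .nil .nil) (.node [(99, 1, 1)] .nil .nil)) (.node [] .nil (.node [(115, 1, 1)] .nil .nil))) (.node [(27, (-1), 1)] (.node [(43, (-1), 1)] .nil .nil) (.node [(58, (-1), 1)] .nil .nil))) (.node [] (.node [(23, 1, 1)] (.node [] (.node [(73, (-1),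 1)] .nil .nil) .nil) (.node [] .nil (.node [(119, (-1), 1)] .nil .nil))) (.node [] (.node [] (.node [(78, 1, 1)] .nil .nil) .nil) .nil))) (.node [(74, 1, 1)] (.node [(12, 1, 1)] (.node [(21, (-1), 1)] (.node [] (.node [(71, 1, 1)] .nil .nil) .nil) .nil) (.node [(29, 1, 1)] (.node [(45, 1, 1)] .nil (.node [(108, 1, 1)] .nil .nil)) (.node [] (.node [(92, 1, 1)] .nil .nil) .nil))) (.node [(16, 1, 1)] (.node [] (.node [] (.node [(75, (-1), 1)] .nil .nil) (.node [(104, 1, 1)] .nil .nil)) (.node [] (.node [(88, 1, 1)] .nil .nil) (.node [(121, 1, 1)] .nil .nil))) (.node [] (.node [] .nil (.node [(113, (-1), 1)] .nil .nil)) (.node [] (.node [(97, (-1), 1)] .nil .nil) .nil))))))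
def X68 : Tr (List (ℕ × ℤ × ℕ)) := (.node [] (.node [] (.node [(75, 1, 1)] (.node [] (.node [] (.node [] .nil (.node [(99, (-1), 1)] .nil .nil)) (.node [] .nil (.node [(115, (-1), 1)] .nil .nil))) (.node [] .nil (.node [(58, (-1), 1)] .nil .nil))) (.node [] (.node [(23, 1, 1)] (.node [] (.node [(73, (-1), 1)] .nil .nil) .nil) .nil) .nil)) (.node [] (.node [] (.node [] (.node [] (.node [(70, 1, 1)] .nil .nil) .nil) (.node [] (.node [(84, 1, 1)] .nil .nil) .nil)) (.node [(29, 1, 1)] (.node [(45, 1, 1)] .nil .nil) .nil)) (.node [] (.node [] (.node [] (.node [(74, (-1), 1)] .nil .nil) .nil) (.node [] .nil (.node [(121, (-1), 1)] .nil .nil))) .nil))) (.node [] (.node [(75, (-1), 1)] (.node [] (.node [] (.node [] (.node [(4, 1, 1), (5, 1, 1), (6, 1, 1), (75, (-1), 2)] .nil .nil) .nil) .nil) (.node [(28, 1, 1)] (.node [(44, 1, 1)] .nil .nil) .nil)) (.node [] (.node [] .nil (.node [] .nil (.node [(120, (-1), 1)] .nil .nil))) (.node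 [] (.node [] (.node [(79, 1, 1)] .nil .nil) .nil) (.node [(63, (-1), 1)] .nil .nil)))) (.node [(75, (-1), 1)] (.node [(13, (-1), 1)] (.node [(22, 1, 1)] (.node [(37, (-1), 1)] (.node [(72, 1, 1)] .nil .nil) .nil) (.node [(53, (-1), 1)] .nil .nil)) (.node [] (.node [] .nil (.node [(109, 1, 1)] .nil .nil)) (.node [] (.node [(93, 1, 1)] .nil .nil) (.node [(125, 1, 1)] .nil .nil)))) (.node [(17, (-1), 1)] (.node [] (.node [] .nil (.node [(105, 1, 1)] .nil .nil)) (.node [] (.node [(89, 1, 1)] .nil .nil) .nil)) (.node [(33, (-1), 1)] (.node [(49, (-1), 1)] .nil (.node [(114, (-1), 1)] .nil .nil)) (.node [] (.node [(98, (-1), 1)] .nil .nil) (.node [(129, 1, 1)] .nil .nil)))))))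
def X69 : Tr (List (ℕ × ℤ × ℕ)) := (.node [] (.node [(76, 1, 1)] (.node [(76, (-2), 1)] (.node [] (.node [(18, (-1), 1)] (.node [] (.node [(3, 1, 1), (76, (-1), 2)] .nil .nil) .nil) .nil) (.node [] .nil (.node [] .nil (.node [(122, 1, 1)] .nil .nil)))) (.node [] .nil (.node [(30, (-1), 1)] (.node [(46, (-1), 1)] (.node [(79, (-1), 1)] .nil .nil) (.node [(110, 1, 1)] .nil .nil)) (.node [] (.node [(94, 1, 1)] .nil .nil) .nil)))) (.node [] (.node [(10, (-1), 1)] (.node [(20, (-1), 1)] (.node [] (.node [] (.node [(130, 1, 1)] .nil .nil) .nil) .nil) .nil) (.node [] (.node [] (.node [(77, (-1), 1)] .nil .nil) .nil) (.node [] .nil (.node [(124, 1, 1)] .nil .nil)))) (.node [] (.node [] (.node [(38, (-1), 1)] .nil (.node [(102, 1, 1)] .nil .nil)) (.node [(54, (-1), 1)] (.node [(86, 1, 1)] .nil .nil) .nil)) (.node [(32, (-1), 1)] (.node [(48, (-1), 1)] .nil (.node [(112, 1, 1)] .nil .nil)) (.node [(65, 1, 1)] (.node [(96, 1, 1)]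 .nil .nil) .nil))))) (.node [(76, 1, 1)] (.node [(76, 1, 1)] (.node [] (.node [(19, (-1), 1)] .nil (.node [] (.node [(81, 1, 1)] .nil .nil) .nil)) (.node [] .nil (.node [] .nil (.node [(123, 1, 1)] .nil .nil)))) (.node [] .nil (.node [(31, (-1), 1)] (.node [(47, (-1), 1)] .nil (.node [(111, 1, 1)] .nil .nil)) (.node [(64, 1, 1)] (.node [(95, 1, 1)] .nil .nil) .nil)))) (.node [] (.node [] .nil (.node [] (.node [] (.node [(78, (-1), 1)] .nil .nil) .nil) (.node [(59, (-1), 1)] .nil .nil))) (.node [] .nil (.node [] .nil (.node [(66, 1, 1)] .nil .nil))))))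
def X70 : Tr (List (ℕ × ℤ × ℕ)) := (.node [] (.node [(77, 1, 1)] (.node [(77, (-1), 1)] (.node [] (.node [] (.node [] (.node [(73, 1, 1)] .nil .nil) .nil) .nil) (.node [] (.node [] (.node [(78, (-1), 1)] .nil .nil) .nil) .nil)) .nil) (.node [(77, 1, 1)] (.node [(11, 1, 1)] (.node [(22, 1, 1)] .nil .nil) (.node [(30, (-1), 1)] (.node [(46, (-1), 1)] .nil .nil) (.node [(59, (-1), 1)] .nil (.node [(125, 1, 1)] .nil .nil)))) (.node [] (.node [] (.node [] .nil (.node [(103, 1, 1)] .nil .nil)) (.node [] (.node [(87, 1, 1)] .nil .nil) (.node [(122, (-1), 1)] .nil .nil))) (.node [(33, 1, 1)] (.node [(49, 1, 1)] .nil (.node [(114, 1, 1)] .nil .nil)) (.node [(68, 1, 1)] (.node [(98, 1, 1)] .nil .nil) .nil))))) (.node [(77, 1, 1)] (.node [(77, (-1), 1)] (.node [] (.node [(21, 1, 1)] (.node [] (.node [] (.node [(130, (-1), 1)] .nil .nil) .nil) .nil) (.node [] (.node [(82, 1, 1)] .nil .nil) .nil)) (.node [] (.node [] (.node [(79, (-1),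 1)] .nil .nil) .nil) .nil)) (.node [] (.node [] (.node [(38, (-1), 1)] .nil .nil) (.node [(54, (-1), 1)] .nil .nil)) (.node [] (.node [] .nil (.node [(113, 1, 1)] .nil .nil)) (.node [(67, 1, 1)] (.node [(97, 1, 1)] .nil .nil) .nil)))) (.node [] (.node [] (.node [] (.node [] (.node [(76, (-1), 1)] .nil .nil) .nil) .nil) (.node [(31, (-1), 1)] (.node [(47, (-1), 1)] .nil (.node [(110, (-1), 1)] .nil .nil)) (.node [] (.node [(94, (-1), 1)] .nil .nil) .nil))) (.node [(18, (-1), 1)] (.node [] .nil (.node [] .nil (.node [(123, (-1), 1)] .nil .nil))) (.node [] .nil (.node [(3, 1, 1), (4, 1, 1), (77, (-1), 2)] .nil .nil))))))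
def X71 : Tr (List (ℕ × ℤ × ℕ)) := (.node [] (.node [(78, 1, 1)] (.node [(78, (-1), 1)] (.node [] (.node [(21, 1, 1)] (.node [] (.node [(74, 1, 1)] (.node [(130, 1, 1)] .nil .nil) .nil) .nil) .nil) .nil) (.node [] (.node [] (.node [(38, (-1), 1)] .nil .nil) (.node [(54, (-1), 1)] .nil .nil)) (.node [] (.node [] .nil (.node [(113, (-1), 1)] .nil .nil)) (.node [] (.node [(97, (-1), 1)] .nil .nil) .nil)))) (.node [(78, (-1), 1)] (.node [(12, (-1), 1)] (.node [(23, (-1), 1)] (.node [] (.node [(76, (-1), 1)] .nil .nil) .nil) .nil) .nil) (.node [] (.node [] (.node [] .nil (.node [(104, 1, 1)] .nil .nil)) (.node [] (.node [(88, 1, 1)] .nil .nil) .nil)) (.node [] (.node [] .nil (.node [(115, 1, 1)] .nil .nil)) (.node [(3, 1, 1), (4, 1, 1), (5, 1, 1), (78, (-1), 2)] (.node [(99, 1, 1)] .nil .nil) .nil))))) (.node [(78, 1, 1)] (.node [] (.node [] (.node [] .nil (.node [] (.node [(83, 1, 1)] .nil .nil) .nil)) (.node [(30, (-1), 1)]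 (.node [(46, (-1), 1)] .nil .nil) (.node [(59, (-1), 1)] .nil (.node [(125, (-1), 1)] .nil .nil)))) (.node [] (.node [] (.node [] (.node [(77, (-1), 1)] .nil .nil) .nil) (.node [] .nil (.node [(122, 1, 1)] .nil .nil))) (.node [(33, 1, 1)] (.node [(49, 1, 1)] .nil .nil) (.node [(69, 1, 1)] .nil .nil)))) (.node [(78, 1, 1)] (.node [] .nil (.node [(32, 1, 1)] (.node [(48, 1, 1)] .nil (.node [(111, (-1), 1)] .nil .nil)) (.node [] (.node [(95, (-1), 1)] .nil .nil) .nil))) (.node [(19, 1, 1)] (.node [] (.node [] (.node [(79, (-1), 1)] .nil .nil) .nil) (.node [] .nil (.node [(124, (-1), 1)] .nil .nil))) (.node [] .nil (.node [(71, 1, 1)] .nil .nil))))))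
def X72 : Tr (List (ℕ × ℤ × ℕ)) := (.node [] (.node [(79, 1, 1)] (.node [(79, (-1), 1)] (.node [] (.node [(22, (-1), 1)] (.node [] (.node [(75, 1, 1)] .nil .nil) .nil) .nil) (.node [] .nil (.node [(59, (-1), 1)] .nil (.node [(125, 1, 1)] .nil .nil)))) (.node [] (.node [] (.node [] (.node [(77, (-1), 1)] .nil .nil) .nil) .nil) (.node [(33, 1, 1)] (.node [(49, 1, 1)] .nil (.node [(114, (-1), 1)] .nil .nil)) (.node [] (.node [(98, (-1), 1)] .nil .nil) .nil)))) (.node [] (.node [(13, 1, 1)] .nil (.node [(32, 1, 1)] (.node [(48, 1, 1)] .nil .nil) .nil)) (.node [] (.node [] (.node [] (.node [(78, (-1), 1)] .nil .nil) (.node [(105, 1, 1)] .nil .nil)) (.node [] (.node [(89, 1, 1)] .nil .nil) (.node [(124, 1, 1)] .nil .nil))) (.node [] .nil (.node [(70, 1, 1)] .nil .nil))))) (.node [(79, 1, 1)] (.node [] (.node [] (.node [(23, (-1), 1)] (.node [] (.node [(76, (-1), 1)] .nil .nil) .nil) (.node [] (.node [(84, 1, 1)] .nil .nil) .nil))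 (.node [(31, 1, 1)] (.node [(47, 1, 1)] .nil .nil) .nil)) (.node [] (.node [] .nil (.node [] .nil (.node [(123, 1, 1)] .nil .nil))) (.node [] (.node [] .nil (.node [(115, (-1), 1)] .nil .nil)) (.node [(3, 1, 1), (4, 1, 1), (5, 1, 1), (6, 1, 1), (79, (-1), 2)] (.node [(99, (-1), 1)] .nil .nil) .nil)))) (.node [(79, (-1), 1)] (.node [] (.node [] (.node [(38, (-1), 1)] .nil .nil) (.node [(54, (-1), 1)] .nil .nil)) (.node [] (.node [] .nil (.node [(112, (-1), 1)] .nil .nil)) (.node [] (.node [(96, (-1), 1)] .nil .nil) .nil))) (.node [(20, (-1), 1)] .nil (.node [] .nil (.node [(72, 1, 1)] .nil (.node [(130, (-1), 1)] .nil .nil)))))))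
def X73 : Tr (List (ℕ × ℤ × ℕ)) := (.node [(80, 1, 1)] (.node [] (.node [(80, 1, 1)] (.node [] (.node [] .nil (.node [(51, (-1), 1)] (.node [(84, (-1), 1)] .nil .nil) (.node [(117, 1, 1)] .nil .nil))) (.node [(29, (-1), 1)] .nil (.node [(60, 1, 1)] (.node [(91, 1, 1)] .nil .nil) .nil))) (.node [] (.node [(25, (-1), 1)] .nil (.node [] .nil (.node [(121, 1, 1)] .nil .nil))) (.node [] .nil (.node [(2, 1, 1), (80, (-1), 2)] .nil .nil)))) (.node [] (.node [] (.node [] .nil (.node [(53, (-1), 1)] .nil (.node [(119, 1, 1)] .nil .nil))) (.node [] .nil (.node [(62, 1, 1)] (.node [(93, 1, 1)] .nil .nil) .nil))) (.node [] (.node [(27, (-1), 1)] .nil .nil) (.node [] (.node [] (.node [(82, (-1), 1)] .nil .nil) .nil) .nil)))) (.node [(80, (-2), 1)] (.node [] (.node [(9, (-1), 1)] (.node [] .nil (.node [(52, (-1), 1)] .nil (.node [(118, 1, 1)] .nil .nil))) (.node [] .nil (.node [(61, 1, 1)] (.node [(92, 1, 1)] .nil .nil) .nil))) (.node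 [] (.node [(26, (-1), 1)] (.node [] .nil (.node [(101, 1, 1)] .nil .nil)) .nil) (.node [] (.node [] (.node [(81, (-1), 1)] .nil .nil) .nil) .nil))) (.node [] (.node [] (.node [(24, (-1), 1)] (.node [] (.node [] (.node [(131, 1, 1)] .nil .nil) .nil) .nil) (.node [] .nil (.node [(120, 1, 1)] .nil .nil))) (.node [] .nil (.node [(63, 1, 1)] .nil .nil))) (.node [] (.node [(28, (-1), 1)] (.node [(39, (-1), 1)] .nil .nil) (.node [] (.node [(90, 1, 1)] .nil .nil) .nil)) (.node [] (.node [(50, (-1), 1)] (.node [(83, (-1), 1)] .nil .nil) (.node [(116, 1, 1)] .nil .nil)) .nil)))))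
def X74 : Tr (List (ℕ × ℤ × ℕ)) := (.node [(81, 1, 1)] (.node [(81, 1, 1)] (.node [(81, (-1), 1)] (.node [] (.node [(24, (-1), 1)] (.node [] (.node [(80, (-1), 1)] .nil .nil) .nil) .nil) (.node [(32, 1, 1)] .nil (.node [(64, 1, 1)] (.node [(94, 1, 1)] .nil .nil) .nil))) (.node [] (.node [] .nil (.node [] .nil (.node [(124, 1, 1)] .nil .nil))) (.node [] (.node [(50, (-1), 1)] (.node [(84, (-1), 1)] .nil .nil) (.node [(116, (-1), 1)] .nil .nil)) (.node [(76, 1, 1)] .nil .nil)))) (.node [] (.node [] (.node [(26, (-1), 1)] (.node [] (.node [] (.node [(131, (-1), 1)] .nil .nil) .nil) .nil) (.node [(54, 1, 1)] .nil (.node [(122, 1, 1)] .nil .nil))) (.node [] (.node [] (.node [(82, (-1), 1)] .nil .nil) .nil) (.node [(66, 1, 1)] (.node [(96, 1, 1)] .nil .nil) .nil))) (.node [] (.node [(30, 1, 1)] (.node [(39, (-1), 1)] .nil .nil) (.node [] (.node [(90, (-1), 1)] .nil .nil) .nil)) (.node [] (.node [(52, (-1), 1)] .nil (.node [(118,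 (-1), 1)] .nil .nil)) .nil)))) (.node [(81, (-1), 1)] (.node [(81, 1, 1)] (.node [(10, 1, 1)] (.node [(25, (-1), 1)] .nil .nil) (.node [] .nil (.node [(65, 1, 1)] (.node [(95, 1, 1)] .nil .nil) .nil))) (.node [] (.node [] (.node [] .nil (.node [(102, 1, 1)] .nil .nil)) .nil) (.node [] (.node [(51, (-1), 1)] .nil (.node [(117, (-1), 1)] .nil .nil)) .nil))) (.node [] (.node [] (.node [] .nil (.node [] .nil (.node [(123, 1, 1)] .nil .nil))) (.node [] (.node [] (.node [(83, (-1), 1)] .nil .nil) .nil) (.node [(2, 1, 1), (3, 1, 1), (81, (-1), 2)] .nil .nil))) (.node [] (.node [(31, 1, 1)] .nil .nil) .nil))))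
def X75 : Tr (List (ℕ × ℤ × ℕ)) := (.node [(82, 1, 1)] (.node [(82, 1, 1)] (.node [] (.node [] (.node [] .nil (.node [] .nil (.node [(122, (-1), 1)] .nil .nil))) (.node [(33, (-1), 1)] (.node [] (.node [(83, (-1), 1)] .nil .nil) .nil) (.node [(67, 1, 1)] .nil .nil))) (.node [] (.node [(30, 1, 1)] .nil (.node [] .nil (.node [(125, 1, 1)] .nil .nil))) (.node [] .nil (.node [(77, 1, 1)] .nil .nil)))) (.node [(82, 1, 1)] (.node [] (.node [(28, 1, 1)] .nil .nil) (.node [] (.node [(50, (-1), 1)] .nil .nil) (.node [(2, 1, 1), (3, 1, 1), (4, 1, 1), (82, (-1), 2)] (.node [(98, 1, 1)] .nil .nil) .nil))) (.node [] (.node [] .nil (.node [] (.node [(91, (-1), 1)] .nil .nil) .nil)) (.node [] (.node [(53, 1, 1)] .nil (.node [(120, (-1), 1)] .nil .nil)) .nil)))) (.node [(82, (-1), 1)] (.node [(82, (-1), 1)] (.node [(11, (-1), 1)] (.node [(27, 1, 1)] (.node [] (.node [] (.node [(131, 1, 1)] .nil .nil) .nil) .nil) (.node [(54, 1, 1)] .nil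 (.node [(123, (-1), 1)] .nil .nil))) (.node [] (.node [] (.node [(84, (-1), 1)] .nil .nil) .nil) (.node [(68, 1, 1)] (.node [(97, 1, 1)] .nil .nil) .nil))) (.node [] (.node [(31, 1, 1)] (.node [(39, (-1), 1)] .nil (.node [(103, 1, 1)] .nil .nil)) .nil) (.node [] (.node [] .nil (.node [(119, (-1), 1)] .nil .nil)) .nil))) (.node [] (.node [] (.node [] (.node [] (.node [(81, (-1), 1)] .nil .nil) .nil) .nil) (.node [] (.node [(51, (-1), 1)] .nil (.node [(116, 1, 1)] .nil .nil)) (.node [(73, 1, 1)] .nil .nil))) (.node [(24, (-1), 1)] (.node [] .nil (.node [] (.node [(94, (-1), 1)] .nil .nil) .nil)) (.node [] .nil (.node [(80, (-1), 1)] .nil .nil))))))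
def X76 : Tr (List (ℕ × ℤ × ℕ)) := (.node [(83, 1, 1)] (.node [(83, 1, 1)] (.node [] (.node [] (.node [(27, 1, 1)] (.node [] (.node [] (.node [(131, (-1), 1)] .nil .nil) .nil) .nil) (.node [(54, 1, 1)] .nil .nil)) (.node [] .nil (.node [(69, 1, 1)] (.node [(97, (-1), 1)] .nil .nil) .nil))) (.node [] (.node [] (.node [(39, (-1), 1)] .nil .nil) .nil) (.node [] (.node [] .nil (.node [(119, 1, 1)] .nil .nil)) (.node [(78, 1, 1)] .nil .nil)))) (.node [(83, (-1), 1)] (.node [] (.node [(29, (-1), 1)] (.node [] (.node [(81, (-1), 1)] .nil .nil) .nil) .nil) (.node [] .nil (.node [(71, 1, 1)] (.node [(99, 1, 1)] .nil .nil) .nil))) (.node [] (.node [] .nil (.node [] (.node [(92, (-1), 1)] .nil .nil) .nil)) (.node [] (.node [] .nil (.node [(121, (-1), 1)] .nil .nil)) (.node [(80, (-1), 1)] .nil .nil))))) (.node [(83, (-1), 1)] (.node [] (.node [(12, 1, 1)] (.node [] .nil (.node [] .nil (.node [(124, (-1), 1)] .nil .nil))) (.node []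 (.node [(50, (-1), 1)] .nil .nil) (.node [(2, 1, 1), (3, 1, 1), (4, 1, 1), (5, 1, 1), (83, (-1), 2)] .nil .nil))) (.node [] (.node [(32, (-1), 1)] (.node [] (.node [(82, (-1), 1)] .nil .nil) (.node [(104, 1, 1)] .nil .nil)) .nil) (.node [] (.node [(53, 1, 1)] .nil .nil) .nil))) (.node [(83, 1, 1)] (.node [] (.node [(30, 1, 1)] .nil (.node [] .nil (.node [(125, (-1), 1)] .nil .nil))) (.node [] (.node [(52, 1, 1)] .nil (.node [(117, 1, 1)] .nil .nil)) (.node [(74, 1, 1)] .nil .nil))) (.node [(25, 1, 1)] (.node [(33, (-1), 1)] (.node [] (.node [(84, (-1), 1)] .nil .nil) .nil) (.node [] (.node [(95, (-1), 1)] .nil .nil) .nil)) (.node [] (.node [] .nil (.node [(122, 1, 1)] .nil .nil)) .nil)))))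
def X77 : Tr (List (ℕ × ℤ × ℕ)) := (.node [(84, 1, 1)] (.node [(84, 1, 1)] (.node [] (.node [] (.node [(28, (-1), 1)] .nil (.node [] .nil (.node [(124, 1, 1)] .nil .nil))) (.node [] .nil (.node [(2, 1, 1), (3, 1, 1), (4, 1, 1), (5, 1, 1), (6, 1, 1), (84, (-1), 2)] (.node [(98, (-1), 1)] .nil .nil) .nil))) (.node [] (.node [(32, (-1), 1)] (.node [] (.node [(82, (-1), 1)] .nil .nil) .nil) .nil) (.node [] (.node [(53, 1, 1)] .nil (.node [(120, 1, 1)] .nil .nil)) (.node [(79, 1, 1)] .nil .nil)))) (.node [] (.node [] (.node [] .nil (.node [] .nil (.node [(125, 1, 1)] .nil .nil))) (.node [] (.node [(52, 1, 1)] .nil .nil) (.node [(72, 1, 1)] .nil .nil))) (.node [] (.node [(33, (-1), 1)] (.node [] (.node [(83, (-1), 1)] .nil .nil) .nil) (.node [] (.node [(93, (-1), 1)] .nil .nil) .nil)) .nil))) (.node [(84, (-1), 1)] (.node [] (.node [(13, (-1), 1)] (.node [(29, (-1), 1)] (.node [] (.node [(81, (-1), 1)] .nil .nil) .nil) .nil)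 (.node [] (.node [(51, 1, 1)] .nil .nil) (.node [(70, 1, 1)] (.node [(99, (-1), 1)] .nil .nil) .nil))) (.node [] (.node [] (.node [] .nil (.node [(105, 1, 1)] .nil .nil)) .nil) (.node [] (.node [] .nil (.node [(121, 1, 1)] .nil .nil)) (.node [(80, (-1), 1)] .nil .nil)))) (.node [(84, (-1), 1)] (.node [] (.node [(31, (-1), 1)] (.node [(39, (-1), 1)] .nil .nil) .nil) (.node [] (.node [] .nil (.node [(118, 1, 1)] .nil .nil)) (.node [(75, 1, 1)] .nil .nil))) (.node [(26, (-1), 1)] (.node [] .nil (.node [] (.node [(96, (-1), 1)] .nil .nil) .nil)) (.node [] (.node [(54, 1, 1)] .nil (.node [(123, 1, 1)] .nil .nil)) (.node [] .nil (.node [(131, 1, 1)] .nil .nil)))))))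
def X78 : Tr (List (ℕ × ℤ × ℕ)) := (.node [] (.node [(85, (-2), 1)] (.node [(85, 1, 1)] (.node [] (.node [] (.node [(35, (-1), 1)] .nil .nil) (.node [(56, (-1), 1)] (.node [(89, (-1), 1)] .nil .nil) .nil)) (.node [] (.node [] .nil (.node [(107, 1, 1)] .nil .nil)) .nil)) (.node [(15, (-1), 1)] (.node [] .nil (.node [(61, 1, 1)] (.node [(92, 1, 1)] .nil .nil) .nil)) (.node [] .nil (.node [] .nil (.node [(127, 1, 1)] .nil .nil))))) (.node [] (.node [] (.node [] (.node [(37, (-1), 1)] .nil .nil) (.node [(58, (-1), 1)] (.node [(90, 1, 1)] .nil .nil) .nil)) (.node [] (.node [] .nil (.node [(109, 1, 1)] .nil .nil)) .nil)) (.node [(17, (-1), 1)] (.node [] .nil (.node [(63, 1, 1)] .nil .nil)) (.node [] (.node [] (.node [(87, (-1), 1)] .nil .nil) .nil) (.node [] .nil (.node [(129, 1, 1)] .nil .nil)))))) (.node [] (.node [] (.node [] (.node [] (.node [(36, (-1), 1)] .nil .nil) (.node [(57, (-1), 1)] .nil .nil)) (.node [] (.node []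 .nil (.node [(108, 1, 1)] .nil .nil)) .nil)) (.node [(16, (-1), 1)] (.node [] .nil (.node [(62, 1, 1)] (.node [(93, 1, 1)] .nil .nil) .nil)) (.node [] (.node [] (.node [(86, (-1), 1)] .nil .nil) .nil) (.node [] .nil (.node [(128, 1, 1)] .nil .nil))))) (.node [] (.node [(14, (-1), 1)] (.node [] .nil (.node [(60, 1, 1)] (.node [(91, 1, 1)] .nil .nil) .nil)) (.node [] .nil (.node [] .nil (.node [(126, 1, 1)] .nil .nil)))) (.node [] (.node [] (.node [] .nil (.node [(106, 1, 1)] .nil .nil)) (.node [(1, 1, 1), (85, (-1), 2)] .nil .nil)) (.node [(34, (-1), 1)] (.node [(55, (-1), 1)] (.node [(88, (-1), 1)] .nil .nil) .nil) .nil)))))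
def X79 : Tr (List (ℕ × ℤ × ℕ)) := (.node [] (.node [(86, (-1), 1)] (.node [(86, (-1), 1)] (.node [] (.node [] (.node [] (.node [(85, (-1), 1)] .nil .nil) .nil) .nil) (.node [] (.node [] .nil (.node [(110, 1, 1)] .nil .nil)) (.node [] .nil (.node [(126, (-1), 1)] .nil .nil)))) (.node [(18, 1, 1)] (.node [] .nil (.node [(65, 1, 1)] (.node [(95, 1, 1)] .nil .nil) .nil)) (.node [(34, (-1), 1)] (.node [(55, (-1), 1)] (.node [(89, (-1), 1)] .nil .nil) .nil) .nil))) (.node [] (.node [(14, (-1), 1)] (.node [] (.node [(38, 1, 1)] .nil .nil) (.node [(59, 1, 1)] .nil .nil)) (.node [] (.node [] (.node [(87, (-1), 1)] .nil .nil) (.node [(112, 1, 1)] .nil .nil)) (.node [] .nil (.node [(128, (-1), 1)] .nil .nil)))) (.node [(20, 1, 1)] (.node [] (.node [] .nil (.node [(106, (-1), 1)] .nil .nil)) (.node [(1, 1, 1), (3, 1, 1), (86, (-1), 2)] .nil .nil)) (.node [(36, (-1), 1)] (.node [(57, (-1), 1)] .nil .nil) (.node [] .nil (.node [(130,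 1, 1)] .nil .nil)))))) (.node [(86, 1, 1)] (.node [(86, 1, 1)] (.node [] (.node [] .nil (.node [] (.node [(90, (-1), 1)] .nil .nil) .nil)) (.node [] (.node [] .nil (.node [(111, 1, 1)] .nil .nil)) (.node [] .nil (.node [(127, (-1), 1)] .nil .nil)))) (.node [(19, 1, 1)] (.node [] .nil (.node [(66, 1, 1)] (.node [(96, 1, 1)] .nil .nil) .nil)) (.node [(35, (-1), 1)] (.node [(56, (-1), 1)] .nil .nil) .nil))) (.node [] (.node [] (.node [] .nil (.node [(64, 1, 1)] (.node [(94, 1, 1)] .nil .nil) .nil)) (.node [] (.node [] (.node [(88, (-1), 1)] .nil .nil) .nil) .nil)) (.node [] (.node [] .nil (.node [(76, 1, 1)] .nil .nil)) .nil))))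
def X80 : Tr (List (ℕ × ℤ × ℕ)) := (.node [] (.node [(87, (-1), 1)] (.node [] (.node [] .nil (.node [] (.node [] (.node [(88, (-1), 1)] .nil .nil) .nil) .nil)) (.node [] (.node [] .nil (.node [(68, 1, 1)] (.node [(97, 1, 1)] .nil .nil) .nil)) .nil)) (.node [(87, 1, 1)] (.node [(15, 1, 1)] (.node [] .nil (.node [] (.node [(94, (-1), 1)] .nil .nil) .nil)) (.node [(34, (-1), 1)] (.node [(55, (-1), 1)] .nil (.node [(114, 1, 1)] .nil .nil)) (.node [] .nil (.node [(129, (-1), 1)] .nil .nil)))) (.node [(22, (-1), 1)] (.node [] (.node [] .nil (.node [(107, (-1), 1)] .nil .nil)) (.node [(73, 1, 1)] .nil (.node [(126, 1, 1)] .nil .nil))) (.node [(37, 1, 1)] (.node [(58, 1, 1)] .nil .nil) .nil)))) (.node [(87, 1, 1)] (.node [(87, (-1), 1)] (.node [] (.node [] (.node [(38, 1, 1)] .nil .nil) (.node [(59, 1, 1)] (.node [(91, (-1), 1)] .nil .nil) .nil)) (.node [] (.node [] (.node [(89, (-1), 1)] .nil .nil) (.node [(113, 1, 1)] .nil .nil))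 .nil)) (.node [(21, (-1), 1)] (.node [] .nil (.node [(1, 1, 1), (3, 1, 1), (4, 1, 1), (87, (-1), 2)] (.node [(98, 1, 1)] .nil .nil) .nil)) (.node [] .nil (.node [] .nil (.node [(130, (-1), 1)] .nil .nil))))) (.node [] (.node [(18, 1, 1)] (.node [] (.node [] (.node [(86, (-1), 1)] .nil .nil) .nil) (.node [(67, 1, 1)] .nil .nil)) (.node [(35, (-1), 1)] (.node [(56, (-1), 1)] .nil .nil) .nil)) (.node [] (.node [] (.node [] .nil (.node [(110, (-1), 1)] .nil .nil)) (.node [(77, 1, 1)] .nil (.node [(127, 1, 1)] .nil .nil))) (.node [] .nil (.node [(85, (-1), 1)] .nil .nil))))))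
def X81 : Tr (List (ℕ × ℤ × ℕ)) := (.node [] (.node [(88, (-1), 1)] (.node [] (.node [] (.node [] (.node [(38, 1, 1)] .nil .nil) (.node [(59, 1, 1)] .nil .nil)) (.node [] (.node [] .nil (.node [(113, (-1), 1)] .nil .nil)) .nil)) (.node [(21, (-1), 1)] (.node [] .nil (.node [(1, 1, 1), (3, 1, 1), (4, 1, 1), (5, 1, 1), (88, (-1), 2)] .nil .nil)) (.node [] .nil (.node [] .nil (.node [(130, 1, 1)] .nil .nil))))) (.node [(88, (-1), 1)] (.node [(16, (-1), 1)] (.node [] (.node [] (.node [(86, (-1), 1)] .nil .nil) .nil) (.node [] (.node [(95, (-1), 1)] .nil .nil) .nil)) (.node [] (.node [] .nil (.node [(115, 1, 1)] .nil .nil)) .nil)) (.node [(23, 1, 1)] (.node [] (.node [] .nil (.node [(108, (-1), 1)] .nil .nil)) (.node [(74, 1, 1)] .nil .nil)) (.node [] .nil (.node [(85, (-1), 1)] .nil .nil))))) (.node [(88, 1, 1)] (.node [] (.node [] (.node [] .nil (.node [] (.node [(92, (-1), 1)] .nil .nil) .nil)) (.node [(34, (-1), 1)] (.node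 [(55, (-1), 1)] .nil .nil) (.node [] .nil (.node [(129, 1, 1)] .nil .nil)))) (.node [] (.node [] (.node [] (.node [(87, (-1), 1)] .nil .nil) .nil) (.node [(71, 1, 1)] (.node [(99, 1, 1)] .nil .nil) (.node [(126, (-1), 1)] .nil .nil))) (.node [(37, 1, 1)] (.node [(58, 1, 1)] .nil .nil) .nil))) (.node [(88, 1, 1)] (.node [(19, (-1), 1)] (.node [] .nil (.node [(69, 1, 1)] (.node [(97, (-1), 1)] .nil .nil) .nil)) (.node [(36, 1, 1)] (.node [(57, 1, 1)] .nil .nil) .nil)) (.node [] (.node [] (.node [] (.node [(89, (-1), 1)] .nil .nil) (.node [(111, (-1), 1)] .nil .nil)) (.node [(78, 1, 1)] .nil (.node [(128, 1, 1)] .nil .nil))) .nil))))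
def X82 : Tr (List (ℕ × ℤ × ℕ)) := (.node [] (.node [(89, (-1), 1)] (.node [] (.node [] .nil (.node [] (.node [] .nil (.node [(114, (-1), 1)] .nil .nil)) (.node [] .nil (.node [(129, (-1), 1)] .nil .nil)))) (.node [(22, 1, 1)] (.node [] (.node [] (.node [(87, (-1), 1)] .nil .nil) .nil) (.node [(70, 1, 1)] (.node [(99, (-1), 1)] .nil .nil) .nil)) (.node [(37, 1, 1)] (.node [(58, 1, 1)] .nil .nil) .nil))) (.node [] (.node [(17, 1, 1)] (.node [] .nil (.node [] (.node [(96, (-1), 1)] .nil .nil) .nil)) (.node [(36, 1, 1)] (.node [(57, 1, 1)] .nil .nil) .nil)) (.node [] (.node [] (.node [] (.node [(88, (-1), 1)] .nil .nil) (.node [(109, (-1), 1)] .nil .nil)) (.node [(75, 1, 1)] .nil (.node [(128, (-1), 1)] .nil .nil))) .nil))) (.node [(89, 1, 1)] (.node [] (.node [] (.node [] (.node [] (.node [(86, (-1), 1)] .nil .nil) .nil) (.node [] (.node [(93, (-1), 1)] .nil .nil) .nil)) (.node [(35, 1, 1)] (.node [(56, 1, 1)] .nil (.node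 [(115, (-1), 1)] .nil .nil)) .nil)) (.node [(23, 1, 1)] (.node [] .nil (.node [(72, 1, 1)] .nil (.node [(127, (-1), 1)] .nil .nil))) (.node [] .nil (.node [(85, (-1), 1)] .nil .nil)))) (.node [(89, (-1), 1)] (.node [(20, 1, 1)] (.node [] .nil (.node [(1, 1, 1), (3, 1, 1), (4, 1, 1), (5, 1, 1), (6, 1, 1), (89, (-1), 2)] (.node [(98, (-1), 1)] .nil .nil) .nil)) (.node [] .nil (.node [] .nil (.node [(130, (-1), 1)] .nil .nil)))) (.node [] (.node [] (.node [] .nil (.node [(112, (-1), 1)] .nil .nil)) (.node [(79, 1, 1)] .nil .nil)) (.node [(38, 1, 1)] (.node [(59, 1, 1)] .nil .nil) .nil)))))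
def X83 : Tr (List (ℕ × ℤ × ℕ)) := (.node [(90, 1, 1)] (.node [(90, (-1), 1)] (.node [] (.node [] (.node [] .nil (.node [(65, 1, 1)] (.node [(96, 1, 1)] .nil .nil) .nil)) (.node [(36, (-1), 1)] (.node [] .nil (.node [(116, 1, 1)] .nil .nil)) .nil)) (.node [(24, (-1), 1)] (.node [] .nil (.node [] .nil (.node [(128, 1, 1)] .nil .nil))) (.node [] (.node [(60, (-1), 1)] (.node [(93, (-1), 1)] .nil .nil) .nil) (.node [(86, (-1), 1)] .nil .nil)))) (.node [] (.node [] (.node [] (.node [(39, (-1), 1)] .nil .nil) (.node [(1, 1, 1), (2, 1, 1), (3, 1, 1), (90, (-1), 2)] .nil (.node [(126, 1, 1)] .nil .nil))) (.node [] (.node [] (.node [(91, (-1), 1)] .nil .nil) (.node [(118, 1, 1)] .nil .nil)) .nil)) (.node [(26, (-1), 1)] (.node [(34, (-1), 1)] .nil (.node [(80, 1, 1)] .nil .nil)) (.node [] (.node [(62, (-1), 1)] (.node [(94, 1, 1)] .nil .nil) .nil) (.node [] .nil (.node [(131, 1, 1)] .nil .nil)))))) (.node [(90, (-1), 1)] (.node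 [(90, 1, 1)] (.node [(14, (-1), 1)] (.node [] .nil (.node [(66, 1, 1)] .nil .nil)) (.node [] (.node [] .nil (.node [(117, 1, 1)] .nil .nil)) .nil)) (.node [(25, (-1), 1)] (.node [] (.node [] .nil (.node [(106, 1, 1)] .nil .nil)) .nil) (.node [] (.node [(61, (-1), 1)] .nil .nil) .nil))) (.node [] (.node [] (.node [] .nil (.node [] .nil (.node [(127, 1, 1)] .nil .nil))) (.node [] (.node [] (.node [(92, (-1), 1)] .nil .nil) .nil) (.node [(85, 1, 1)] .nil .nil))) (.node [] (.node [(35, (-1), 1)] .nil (.node [(81, (-1), 1)] .nil .nil)) (.node [] (.node [(64, 1, 1)] (.node [(95, 1, 1)] .nil .nil) .nil) .nil)))))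
def X84 : Tr (List (ℕ × ℤ × ℕ)) := (.node [(91, 1, 1)] (.node [(91, (-1), 1)] (.node [(91, 1, 1)] (.node [] (.node [] .nil (.node [(68, 1, 1)] (.node [(98, 1, 1)] .nil .nil) (.node [(126, (-1), 1)] .nil .nil))) (.node [(37, 1, 1)] (.node [] (.node [(92, (-1), 1)] .nil .nil) .nil) .nil)) (.node [] (.node [(34, (-1), 1)] .nil (.node [] .nil (.node [(129, 1, 1)] .nil .nil))) (.node [] .nil (.node [(87, (-1), 1)] .nil .nil)))) (.node [(91, 1, 1)] (.node [] (.node [] .nil (.node [(73, 1, 1)] .nil .nil)) (.node [] (.node [(60, (-1), 1)] .nil (.node [(120, 1, 1)] .nil .nil)) (.node [(85, 1, 1)] .nil .nil))) (.node [(28, 1, 1)] .nil (.node [] (.node [(63, 1, 1)] .nil .nil) .nil)))) (.node [(91, (-1), 1)] (.node [(91, (-1), 1)] (.node [(15, 1, 1)] (.node [] (.node [(39, (-1), 1)] .nil .nil) (.node [(1, 1, 1), (2, 1, 1), (3, 1, 1), (4, 1, 1), (91, (-1), 2)] .nil (.node [(127, (-1), 1)] .nil .nil))) (.node [] (.node [] (.node [(93,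 (-1), 1)] .nil .nil) (.node [(119, 1, 1)] .nil .nil)) .nil)) (.node [(27, 1, 1)] (.node [(35, (-1), 1)] (.node [] .nil (.node [(107, 1, 1)] .nil .nil)) (.node [(80, 1, 1)] .nil .nil)) (.node [] (.node [] (.node [(94, (-1), 1)] .nil .nil) .nil) (.node [] .nil (.node [(131, (-1), 1)] .nil .nil))))) (.node [] (.node [(24, (-1), 1)] (.node [] (.node [] (.node [(90, (-1), 1)] .nil .nil) .nil) .nil) (.node [] (.node [(61, (-1), 1)] .nil .nil) .nil)) (.node [] (.node [] (.node [] .nil (.node [(116, (-1), 1)] .nil .nil)) (.node [(82, (-1), 1)] .nil .nil)) (.node [] (.node [(67, 1, 1)] (.node [(97, 1, 1)] .nil .nil) .nil) .nil)))))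
def X85 : Tr (List (ℕ × ℤ × ℕ)) := (.node [(92, 1, 1)] (.node [(92, (-1), 1)] (.node [(92, 1, 1)] (.node [] (.node [] (.node [(39, (-1), 1)] .nil .nil) (.node [(1, 1, 1), (2, 1, 1), (3, 1, 1), (4, 1, 1), (5, 1, 1), (92, (-1), 2)] (.node [(99, 1, 1)] .nil .nil) .nil)) (.node [] (.node [] .nil (.node [(119, (-1), 1)] .nil .nil)) .nil)) (.node [(27, 1, 1)] (.node [] .nil (.node [(80, 1, 1)] .nil .nil)) (.node [] .nil (.node [(88, (-1), 1)] .nil (.node [(131, 1, 1)] .nil .nil))))) (.node [(92, (-1), 1)] (.node [] (.node [] (.node [] (.node [(90, (-1), 1)] .nil .nil) .nil) (.node [(74, 1, 1)] .nil .nil)) (.node [] (.node [] .nil (.node [(121, 1, 1)] .nil .nil)) .nil)) (.node [(29, (-1), 1)] .nil (.node [] (.node [] (.node [(97, (-1), 1)] .nil .nil) .nil) .nil)))) (.node [(92, (-1), 1)] (.node [] (.node [(16, (-1), 1)] (.node [] .nil (.node [(71, 1, 1)] .nil (.node [(128, (-1), 1)] .nil .nil))) (.node [] (.node [(60, (-1), 1)]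 .nil .nil) (.node [(85, 1, 1)] .nil .nil))) (.node [] (.node [(36, 1, 1)] (.node [] (.node [(91, (-1), 1)] .nil .nil) (.node [(108, 1, 1)] .nil .nil)) .nil) (.node [] (.node [(63, 1, 1)] (.node [(95, (-1), 1)] .nil .nil) .nil) .nil))) (.node [(92, 1, 1)] (.node [(25, 1, 1)] (.node [(34, (-1), 1)] .nil (.node [] .nil (.node [(129, (-1), 1)] .nil .nil))) (.node [] (.node [(62, 1, 1)] .nil .nil) .nil)) (.node [] (.node [(37, 1, 1)] (.node [] (.node [(93, (-1), 1)] .nil .nil) (.node [(117, (-1), 1)] .nil .nil)) (.node [(83, (-1), 1)] .nil .nil)) (.node [] (.node [(69, 1, 1)] .nil (.node [(126, 1, 1)] .nil .nil)) .nil)))))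
def X86 : Tr (List (ℕ × ℤ × ℕ)) := (.node [(93, 1, 1)] (.node [(93, (-1), 1)] (.node [(93, 1, 1)] (.node [] (.node [] .nil (.node [(70, 1, 1)] .nil (.node [(128, 1, 1)] .nil .nil))) (.node [] (.node [] .nil (.node [(120, (-1), 1)] .nil .nil)) (.node [(85, 1, 1)] .nil .nil))) (.node [(28, (-1), 1)] (.node [(36, 1, 1)] (.node [] (.node [(91, (-1), 1)] .nil .nil) .nil) .nil) (.node [] (.node [(63, 1, 1)] .nil .nil) (.node [(89, (-1), 1)] .nil .nil)))) (.node [] (.node [] (.node [] .nil (.node [(75, 1, 1)] .nil (.node [(129, 1, 1)] .nil .nil))) (.node [] (.node [(62, 1, 1)] .nil .nil) .nil)) (.node [] (.node [(37, 1, 1)] (.node [] (.node [(92, (-1), 1)] .nil .nil) .nil) .nil) (.node [] (.node [] (.node [(98, (-1), 1)] .nil .nil) .nil) .nil)))) (.node [(93, (-1), 1)] (.node [] (.node [(17, 1, 1)] (.node [] (.node [] (.node [(90, (-1), 1)] .nil .nil) .nil) (.node [(72, 1, 1)] .nil .nil)) (.node [] (.node [(61, 1, 1)] .nil (.node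 [(121, (-1), 1)] .nil .nil)) .nil)) (.node [(29, (-1), 1)] (.node [] (.node [] .nil (.node [(109, 1, 1)] .nil .nil)) .nil) (.node [] (.node [] (.node [(96, (-1), 1)] .nil .nil) .nil) .nil))) (.node [(93, (-1), 1)] (.node [(26, (-1), 1)] (.node [(35, 1, 1)] .nil (.node [(80, 1, 1)] .nil .nil)) (.node [] .nil (.node [] .nil (.node [(131, (-1), 1)] .nil .nil)))) (.node [] (.node [] (.node [] .nil (.node [(118, (-1), 1)] .nil .nil)) (.node [(84, (-1), 1)] .nil .nil)) (.node [(39, (-1), 1)] (.node [(1, 1, 1), (2, 1, 1), (3, 1, 1), (4, 1, 1), (5, 1, 1), (6, 1, 1), (93, (-1), 2)] (.node [(99, (-1), 1)] .nil .nil) (.node [(127, 1, 1)] .nil .nil)) .nil)))))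
def X87 : Tr (List (ℕ × ℤ × ℕ)) := (.node [(94, 1, 1)] (.node [] (.node [(94, (-1), 1)] (.node [] (.node [] (.node [] (.node [(91, (-1), 1)] .nil .nil) .nil) .nil) (.node [(38, (-1), 1)] (.node [] (.node [(95, (-1), 1)] .nil .nil) .nil) .nil)) (.node [] (.node [] .nil (.node [] .nil (.node [(130, 1, 1)] .nil .nil))) (.node [] (.node [(67, 1, 1)] (.node [(98, 1, 1)] .nil .nil) .nil) .nil))) (.node [(94, 1, 1)] (.node [(24, (-1), 1)] (.node [(35, (-1), 1)] .nil (.node [(77, (-1), 1)] .nil .nil)) (.node [] (.node [(64, (-1), 1)] .nil (.node [(123, 1, 1)] .nil .nil)) (.node [(86, 1, 1)] .nil (.node [(131, 1, 1)] .nil .nil)))) (.node [(31, (-1), 1)] (.node [] (.node [] .nil (.node [(116, 1, 1)] .nil .nil)) (.node [(82, (-1), 1)] .nil .nil)) (.node [(39, (-1), 1)] (.node [(1, 1, 1), (2, 1, 1), (3, 2, 1), (4, 1, 1), (94, (-1), 2)] .nil (.node [(127, 1, 1)] .nil .nil)) .nil)))) (.node [] (.node [] (.node [(18, (-1), 1)] (.node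 [(34, (-1), 1)] .nil (.node [(76, 1, 1)] .nil .nil)) (.node [] (.node [] (.node [(96, (-1), 1)] .nil .nil) (.node [(122, 1, 1)] .nil .nil)) .nil)) (.node [(30, (-1), 1)] (.node [] (.node [] .nil (.node [(110, 1, 1)] .nil .nil)) (.node [(81, 1, 1)] .nil .nil)) (.node [] (.node [(68, 1, 1)] .nil (.node [(126, 1, 1)] .nil .nil)) .nil))) (.node [] (.node [] .nil (.node [] (.node [(65, (-1), 1)] (.node [(97, 1, 1)] .nil .nil) .nil) (.node [(87, (-1), 1)] .nil .nil))) (.node [] .nil (.node [] .nil (.node [(90, 1, 1)] .nil .nil))))))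
def X88 : Tr (List (ℕ × ℤ × ℕ)) := (.node [(95, 1, 1)] (.node [] (.node [(95, (-1), 1)] (.node [] (.node [(34, (-1), 1)] (.node [] (.node [(92, (-1), 1)] .nil .nil) .nil) (.node [(76, 1, 1)] .nil .nil)) (.node [] (.node [] .nil (.node [(122, (-1), 1)] .nil .nil)) .nil)) (.node [(30, (-1), 1)] (.node [] .nil (.node [(81, 1, 1)] .nil .nil)) (.node [] (.node [(69, 1, 1)] (.node [(99, 1, 1)] .nil .nil) (.node [(126, (-1), 1)] .nil .nil)) .nil))) (.node [(95, (-1), 1)] (.node [(25, 1, 1)] (.node [(36, 1, 1)] .nil (.node [(78, (-1), 1)] .nil .nil)) (.node [] (.node [] (.node [(97, (-1), 1)] .nil .nil) (.node [(124, 1, 1)] .nil .nil)) .nil)) (.node [(32, 1, 1)] (.node [] (.node [] .nil (.node [(117, 1, 1)] .nil .nil)) (.node [(83, (-1), 1)] .nil .nil)) (.node [] (.node [(71, 1, 1)] .nil (.node [(128, 1, 1)] .nil .nil)) (.node [(90, 1, 1)] .nil .nil))))) (.node [] (.node [(95, 1, 1)] (.node [(19, 1, 1)] .nil (.node [] (.node [(64,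 (-1), 1)] .nil .nil) (.node [(86, 1, 1)] .nil (.node [(131, (-1), 1)] .nil .nil)))) (.node [] (.node [] (.node [] (.node [(94, (-1), 1)] .nil .nil) (.node [(111, 1, 1)] .nil .nil)) .nil) (.node [(39, (-1), 1)] (.node [(1, 1, 1), (2, 1, 1), (3, 2, 1), (4, 1, 1), (5, 1, 1), (95, (-1), 2)] .nil .nil) .nil))) (.node [(95, 1, 1)] (.node [] (.node [] .nil (.node [] .nil (.node [(130, (-1), 1)] .nil .nil))) (.node [] (.node [(66, 1, 1)] .nil .nil) (.node [(88, (-1), 1)] .nil .nil))) (.node [] (.node [(38, (-1), 1)] (.node [] (.node [(96, (-1), 1)] .nil .nil) .nil) .nil) .nil))))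
def X89 : Tr (List (ℕ × ℤ × ℕ)) := (.node [(96, 1, 1)] (.node [] (.node [(96, (-1), 1)] (.node [] (.node [(35, 1, 1)] (.node [] (.node [(93, (-1), 1)] .nil .nil) .nil) .nil) (.node [] (.node [] .nil (.node [(123, (-1), 1)] .nil .nil)) (.node [(86, 1, 1)] .nil (.node [(131, 1, 1)] .nil .nil)))) (.node [(31, 1, 1)] (.node [] (.node [] (.node [(94, (-1), 1)] .nil .nil) .nil) .nil) (.node [(39, (-1), 1)] (.node [(1, 1, 1), (2, 1, 1), (3, 2, 1), (4, 1, 1), (5, 1, 1), (6, 1, 1), (96, (-1), 2)] .nil (.node [(127, (-1), 1)] .nil .nil)) .nil))) (.node [] (.node [(26, (-1), 1)] (.node [] .nil (.node [(79, (-1), 1)] .nil (.node [(130, 1, 1)] .nil .nil))) (.node [] (.node [(66, 1, 1)] (.node [(98, (-1), 1)] .nil .nil) .nil) .nil)) (.node [] (.node [(38, (-1), 1)] (.node [] (.node [(95, (-1), 1)] .nil .nil) (.node [(118, 1, 1)] .nil .nil)) (.node [(84, (-1), 1)] .nil .nil)) (.node [] (.node [(72, 1, 1)] .nil .nil) .nil)))) (.node []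 (.node [(96, 1, 1)] (.node [(20, (-1), 1)] (.node [(36, 1, 1)] .nil .nil) (.node [] (.node [(65, 1, 1)] .nil (.node [(124, (-1), 1)] .nil .nil)) .nil)) (.node [(32, 1, 1)] (.node [] (.node [] .nil (.node [(112, 1, 1)] .nil .nil)) .nil) (.node [] (.node [(70, 1, 1)] .nil (.node [(128, (-1), 1)] .nil .nil)) (.node [(90, 1, 1)] .nil .nil)))) (.node [(96, (-1), 1)] (.node [] (.node [] .nil (.node [(81, 1, 1)] .nil .nil)) (.node [] (.node [] (.node [(99, (-1), 1)] .nil .nil) .nil) (.node [(89, (-1), 1)] .nil .nil))) (.node [] .nil (.node [] (.node [(76, 1, 1)] .nil .nil) .nil)))))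
def X90 : Tr (List (ℕ × ℤ × ℕ)) := (.node [(97, 1, 1)] (.node [] (.node [] (.node [] (.node [] .nil (.node [(77, 1, 1)] .nil .nil)) .nil) (.node [] (.node [] .nil (.node [(82, 1, 1)] .nil .nil)) .nil)) (.node [] (.node [(27, (-1), 1)] (.node [(37, (-1), 1)] (.node [] (.node [(94, 1, 1)] .nil .nil) .nil) .nil) (.node [] (.node [(69, 1, 1)] .nil (.node [(125, 1, 1)] .nil .nil)) (.node [(88, (-1), 1)] .nil .nil))) (.node [(33, (-1), 1)] (.node [] (.node [] .nil (.node [(119, 1, 1)] .nil .nil)) .nil) (.node [] (.node [(74, (-1), 1)] .nil (.node [(129, 1, 1)] .nil .nil)) (.node [(91, 1, 1)] .nil .nil))))) (.node [] (.node [(97, (-1), 1)] (.node [(21, (-1), 1)] (.node [] .nil (.node [(78, (-1), 1)] .nil (.node [(130, 1, 1)] .nil .nil))) (.node [] (.node [(67, (-1), 1)] (.node [(99, 1, 1)] .nil .nil) .nil) (.node [(87, 1, 1)] .nil .nil))) (.node [] (.node [(38, (-1), 1)] (.node [] .nil (.node [(113, 1, 1)] .nil .nil)) (.node [(83,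 (-1), 1)] .nil .nil)) (.node [] (.node [(73, 1, 1)] .nil .nil) .nil))) (.node [(97, 1, 1)] (.node [(30, (-1), 1)] (.node [] (.node [] (.node [(95, (-1), 1)] .nil .nil) .nil) .nil) (.node [(39, (-1), 1)] (.node [(1, 1, 1), (2, 1, 1), (3, 2, 1), (4, 2, 1), (5, 1, 1), (97, (-1), 2)] .nil (.node [(126, 1, 1)] .nil .nil)) .nil)) (.node [(34, (-1), 1)] (.node [] (.node [] (.node [(98, (-1), 1)] .nil .nil) (.node [(122, 1, 1)] .nil .nil)) (.node [] .nil (.node [(131, 1, 1)] .nil .nil))) (.node [] .nil (.node [(92, (-1), 1)] .nil .nil))))))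
def X91 : Tr (List (ℕ × ℤ × ℕ)) := (.node [(98, 1, 1)] (.node [] (.node [] (.node [] (.node [] .nil (.node [] .nil (.node [(130, (-1), 1)] .nil .nil))) (.node [] (.node [] (.node [(99, (-1), 1)] .nil .nil) .nil) (.node [(87, 1, 1)] .nil .nil))) (.node [] (.node [(38, (-1), 1)] .nil .nil) (.node [] (.node [(73, 1, 1)] .nil .nil) .nil))) (.node [(98, 1, 1)] (.node [(28, 1, 1)] .nil (.node [(39, (-1), 1)] (.node [(1, 1, 1), (2, 1, 1), (3, 2, 1), (4, 2, 1), (5, 1, 1), (6, 1, 1), (98, (-1), 2)] .nil .nil) (.node [(89, (-1), 1)] .nil .nil))) (.node [] (.node [] (.node [] (.node [(97, (-1), 1)] .nil .nil) (.node [(120, 1, 1)] .nil .nil)) (.node [] .nil (.node [(131, (-1), 1)] .nil .nil))) (.node [] (.node [(75, (-1), 1)] .nil .nil) .nil)))) (.node [] (.node [(98, (-1), 1)] (.node [(22, 1, 1)] (.node [(37, (-1), 1)] (.node [] (.node [(94, 1, 1)] .nil .nil) .nil) (.node [(79, (-1), 1)] .nil .nil)) (.node [] (.node [(68, 1, 1)] .nil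 (.node [(125, (-1), 1)] .nil .nil)) .nil)) (.node [(33, (-1), 1)] (.node [] (.node [] .nil (.node [(114, 1, 1)] .nil .nil)) (.node [(84, (-1), 1)] .nil .nil)) (.node [] (.node [] .nil (.node [(129, (-1), 1)] .nil .nil)) (.node [(91, 1, 1)] .nil .nil)))) (.node [(98, (-1), 1)] (.node [(31, 1, 1)] (.node [] (.node [] (.node [(96, (-1), 1)] .nil .nil) .nil) (.node [(82, 1, 1)] .nil .nil)) (.node [] (.node [(70, 1, 1)] .nil (.node [(127, 1, 1)] .nil .nil)) .nil)) (.node [(35, 1, 1)] (.node [] (.node [] .nil (.node [(123, 1, 1)] .nil .nil)) .nil) (.node [] (.node [(77, 1, 1)] .nil .nil) (.node [(93, (-1), 1)] .nil .nil))))))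
def X92 : Tr (List (ℕ × ℤ × ℕ)) := (.node [(99, 1, 1)] (.node [] (.node [] (.node [] (.node [(37, (-1), 1)] .nil (.node [(79, (-1), 1)] .nil .nil)) (.node [] (.node [] .nil (.node [(125, 1, 1)] .nil .nil)) (.node [(88, 1, 1)] .nil .nil))) (.node [(33, (-1), 1)] (.node [] (.node [] (.node [(97, 1, 1)] .nil .nil) .nil) (.node [(84, (-1), 1)] .nil .nil)) (.node [] (.node [(74, 1, 1)] .nil (.node [(129, 1, 1)] .nil .nil)) .nil))) (.node [(99, (-1), 1)] (.node [(29, (-1), 1)] (.node [] (.node [] (.node [(96, (-1), 1)] .nil .nil) .nil) .nil) (.node [] (.node [(71, 1, 1)] .nil .nil) .nil)) (.node [] (.node [] (.node [] .nil (.node [(121, 1, 1)] .nil .nil)) .nil) (.node [] .nil (.node [(93, (-1), 1)] .nil .nil))))) (.node [] (.node [] (.node [(23, (-1), 1)] (.node [] (.node [] (.node [(95, 1, 1)] .nil .nil) .nil) .nil) (.node [(39, (-1), 1)] (.node [(1, 1, 1), (2, 1, 1), (3, 2, 1), (4, 2, 1), (5, 2, 1), (6, 1, 1), (99, (-1), 2)]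 .nil .nil) (.node [(89, (-1), 1)] .nil .nil))) (.node [] (.node [] (.node [] (.node [(98, (-1), 1)] .nil .nil) (.node [(115, 1, 1)] .nil .nil)) (.node [] .nil (.node [(131, 1, 1)] .nil .nil))) (.node [] (.node [(75, (-1), 1)] .nil .nil) (.node [(92, 1, 1)] .nil .nil)))) (.node [] (.node [(32, (-1), 1)] (.node [(38, (-1), 1)] .nil (.node [(83, 1, 1)] .nil .nil)) (.node [] (.node [(72, (-1), 1)] .nil (.node [(128, 1, 1)] .nil .nil)) .nil)) (.node [(36, (-1), 1)] (.node [] (.node [] .nil (.node [(124, 1, 1)] .nil .nil)) .nil) (.node [] (.node [(78, 1, 1)] .nil (.node [(130, 1, 1)] .nil .nil)) .nil)))))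
def X93 : Tr (List (ℕ × ℤ × ℕ)) := (.node [(100, (-2), 1)] (.node [] (.node [] (.node [(8, (-1), 1)] (.node [] (.node [(47, 1, 1)] .nil (.node [(111, (-1), 1)] .nil .nil)) .nil) (.node [] (.node [(0, 1, 1), (100, (-1), 2)] .nil .nil) .nil)) (.node [] (.node [] (.node [(56, 1, 1)] (.node [] (.node [(132, 1, 1)] .nil .nil) .nil) (.node [(115, (-1), 1)] .nil .nil)) (.node [] (.node [(104, (-1), 1)] .nil .nil) .nil)) (.node [(43, 1, 1)] .nil (.node [] (.node [(107, (-1), 1)] .nil .nil) .nil)))) (.node [] (.node [] (.node [] (.node [(49, 1, 1)] .nil (.node [(113, (-1), 1)] .nil .nil)) (.node [] (.node [(102, (-1), 1)] .nil .nil) .nil)) (.node [(41, 1, 1)] .nil .nil)) (.node [] (.node [] (.node [(58, 1, 1)] .nil .nil) .nil) (.node [(45, 1, 1)] .nil (.node [] (.node [(109, (-1), 1)] .nil .nil) .nil))))) (.node [(100, 1, 1)] (.node [] (.node [] (.node [] (.node [(48, 1, 1)] .nil (.node [(112, (-1), 1)] .nil .nil)) (.node [] (.node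 [(101, (-1), 1)] .nil .nil) .nil)) (.node [(40, 1, 1)] .nil .nil)) (.node [] (.node [] (.node [(57, 1, 1)] .nil .nil) (.node [] (.node [(105, (-1), 1)] .nil .nil) .nil)) (.node [(44, 1, 1)] .nil (.node [] (.node [(108, (-1), 1)] .nil .nil) .nil)))) (.node [] (.node [] (.node [] (.node [(55, 1, 1)] .nil (.node [(114, (-1), 1)] .nil .nil)) (.node [] (.node [(103, (-1), 1)] .nil .nil) .nil)) (.node [(42, 1, 1)] .nil (.node [] (.node [(106, (-1), 1)] .nil .nil) .nil))) (.node [] (.node [] (.node [(59, 1, 1)] .nil .nil) .nil) (.node [(46, 1, 1)] .nil (.node [] (.node [(110, (-1), 1)] .nil .nil) .nil))))))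
def X94 : Tr (List (ℕ × ℤ × ℕ)) := (.node [(101, (-1), 1)] (.node [] (.node [(101, 1, 1)] (.node [(9, 1, 1)] (.node [] (.node [(51, (-1), 1)] .nil (.node [(117, (-1), 1)] .nil .nil)) (.node [] (.node [(105, (-1), 1)] .nil .nil) .nil)) (.node [(45, 1, 1)] (.node [(80, 1, 1)] .nil .nil) (.node [] (.node [(107, 1, 1)] .nil .nil) .nil))) (.node [] (.node [(41, 1, 1)] (.node [(61, 1, 1)] .nil (.node [(121, (-1), 1)] .nil .nil)) .nil) (.node [] .nil (.node [(100, (-1), 1)] .nil .nil)))) (.node [] (.node [] (.node [] (.node [(53, (-1), 1)] .nil (.node [(119, (-1), 1)] .nil .nil)) .nil) (.node [] .nil (.node [] (.node [(109, 1, 1)] .nil .nil) .nil))) (.node [] (.node [(43, 1, 1)] (.node [(63, 1, 1)] .nil .nil) .nil) (.node [] (.node [] (.node [(103, (-1), 1)] .nil .nil) .nil) .nil)))) (.node [(101, (-1), 1)] (.node [] (.node [] (.node [] (.node [(52, (-1), 1)] .nil (.node [(118, (-1), 1)] .nil .nil)) .nil) (.node [] .nil (.node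 [] (.node [(108, 1, 1)] .nil .nil) .nil))) (.node [] (.node [(42, 1, 1)] (.node [(62, 1, 1)] .nil .nil) .nil) (.node [] (.node [] (.node [(102, (-1), 1)] .nil .nil) .nil) .nil))) (.node [] (.node [] (.node [(40, 1, 1)] (.node [(60, 1, 1)] (.node [] (.node [(132, (-1), 1)] .nil .nil) .nil) (.node [(120, (-1), 1)] .nil .nil)) .nil) .nil) (.node [] (.node [(44, 1, 1)] (.node [(0, 1, 1), (2, 1, 1), (101, (-1), 2)] .nil .nil) (.node [] (.node [(106, 1, 1)] .nil .nil) .nil)) (.node [(50, (-1), 1)] (.node [] (.node [(104, (-1), 1)] .nil .nil) .nil) (.node [] (.node [(116, (-1), 1)] .nil .nil) .nil))))))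
def X95 : Tr (List (ℕ × ℤ × ℕ)) := (.node [(102, (-1), 1)] (.node [(102, 1, 1)] (.node [(102, (-1), 1)] (.node [(10, (-1), 1)] (.node [(40, 1, 1)] (.node [] (.node [(101, (-1), 1)] .nil .nil) .nil) .nil) (.node [(48, (-1), 1)] (.node [(81, 1, 1)] .nil .nil) (.node [] (.node [(110, 1, 1)] .nil .nil) .nil))) (.node [] (.node [] (.node [(65, 1, 1)] .nil (.node [(124, (-1), 1)] .nil .nil)) .nil) (.node [(50, (-1), 1)] (.node [] (.node [(105, (-1), 1)] .nil .nil) .nil) (.node [] (.node [(116, 1, 1)] .nil .nil) .nil)))) (.node [] (.node [] (.node [(42, 1, 1)] (.node [(54, 1, 1)] (.node [] (.node [(132, 1, 1)] .nil .nil) .nil) (.node [(122, (-1), 1)] .nil .nil)) .nil) (.node [] (.node [] (.node [(103, (-1), 1)] .nil .nil) .nil) (.node [] (.node [(112, 1, 1)] .nil .nil) .nil))) (.node [] (.node [(46, (-1), 1)] (.node [(0, 1, 1), (2, 1, 1), (3, 1, 1), (102, (-1), 2)] .nil .nil) (.node [] (.node [(106, (-1), 1)] .nil .nil) .nil))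 (.node [(52, (-1), 1)] .nil (.node [] (.node [(118, 1, 1)] .nil .nil) .nil))))) (.node [] (.node [(102, 1, 1)] (.node [] (.node [(41, 1, 1)] .nil .nil) (.node [] .nil (.node [] (.node [(111, 1, 1)] .nil .nil) .nil))) (.node [] (.node [] (.node [(66, 1, 1)] .nil .nil) .nil) (.node [(51, (-1), 1)] .nil (.node [] (.node [(117, 1, 1)] .nil .nil) .nil)))) (.node [] (.node [] (.node [] (.node [(64, 1, 1)] .nil (.node [(123, (-1), 1)] .nil .nil)) .nil) (.node [] (.node [] (.node [(104, (-1), 1)] .nil .nil) .nil) (.node [(100, (-1), 1)] .nil .nil))) (.node [] (.node [(47, (-1), 1)] (.node [(76, 1, 1)] .nil .nil) .nil) .nil))))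
def X96 : Tr (List (ℕ × ℤ × ℕ)) := (.node [(103, (-1), 1)] (.node [(103, 1, 1)] (.node [] (.node [(11, 1, 1)] (.node [] (.node [] .nil (.node [(122, 1, 1)] .nil .nil)) .nil) (.node [(49, 1, 1)] (.node [(82, 1, 1)] (.node [(104, (-1), 1)] .nil .nil) .nil) .nil)) (.node [] (.node [(46, (-1), 1)] (.node [(68, 1, 1)] .nil (.node [(125, (-1), 1)] .nil .nil)) .nil) .nil)) (.node [(103, 1, 1)] (.node [] (.node [(44, (-1), 1)] .nil .nil) (.node [(50, (-1), 1)] .nil (.node [(100, (-1), 1)] (.node [(114, 1, 1)] .nil .nil) .nil))) (.node [] (.node [] (.node [(73, 1, 1)] .nil .nil) (.node [] (.node [(107, (-1), 1)] .nil .nil) .nil)) (.node [(53, 1, 1)] .nil (.node [] (.node [(120, 1, 1)] .nil .nil) .nil))))) (.node [] (.node [(103, (-1), 1)] (.node [] (.node [(43, (-1), 1)] (.node [(54, 1, 1)] (.node [] (.node [(132, (-1), 1)] .nil .nil) .nil) (.node [(123, 1, 1)] .nil .nil)) .nil) (.node [] (.node [] (.node [(105, (-1), 1)] .nil .nil)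 .nil) (.node [] (.node [(113, 1, 1)] .nil .nil) .nil))) (.node [] (.node [(47, (-1), 1)] (.node [(0, 1, 1), (2, 1, 1), (3, 1, 1), (4, 1, 1), (103, (-1), 2)] .nil .nil) .nil) (.node [] .nil (.node [] (.node [(119, 1, 1)] .nil .nil) .nil)))) (.node [] (.node [] (.node [] (.node [(67, 1, 1)] (.node [(102, (-1), 1)] .nil .nil) .nil) .nil) (.node [(51, (-1), 1)] .nil (.node [] (.node [(116, (-1), 1)] .nil .nil) .nil))) (.node [(40, 1, 1)] (.node [] (.node [(77, 1, 1)] .nil .nil) (.node [] (.node [(110, (-1), 1)] .nil .nil) .nil)) (.node [] .nil (.node [(101, (-1), 1)] .nil .nil))))))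
def X97 : Tr (List (ℕ × ℤ × ℕ)) := (.node [(104, (-1), 1)] (.node [(104, 1, 1)] (.node [] (.node [(12, (-1), 1)] (.node [(43, (-1), 1)] (.node [(54, 1, 1)] (.node [] (.node [(132, 1, 1)] .nil .nil) .nil) .nil) .nil) (.node [] (.node [(83, 1, 1)] .nil .nil) (.node [] (.node [(113, (-1), 1)] .nil .nil) .nil))) (.node [] (.node [] (.node [(0, 1, 1), (2, 1, 1), (3, 1, 1), (4, 1, 1), (5, 1, 1), (104, (-1), 2)] .nil .nil) .nil) (.node [] .nil (.node [] (.node [(119, (-1), 1)] .nil .nil) .nil)))) (.node [(104, (-1), 1)] (.node [] (.node [(45, 1, 1)] (.node [] (.node [(102, (-1), 1)] .nil .nil) .nil) .nil) (.node [] .nil (.node [] (.node [(115, 1, 1)] .nil .nil) .nil))) (.node [] (.node [] (.node [(74, 1, 1)] .nil .nil) (.node [] (.node [(108, (-1), 1)] .nil .nil) .nil)) (.node [] .nil (.node [(101, (-1), 1)] (.node [(121, 1, 1)] .nil .nil) .nil))))) (.node [] (.node [] (.node [] (.node [] (.node [] .nil (.node [(124, 1, 1)] .nil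 .nil)) .nil) (.node [(50, (-1), 1)] .nil (.node [(100, (-1), 1)] .nil .nil))) (.node [] (.node [(48, 1, 1)] (.node [(71, 1, 1)] (.node [(103, (-1), 1)] .nil .nil) .nil) .nil) (.node [(53, 1, 1)] .nil .nil))) (.node [(104, 1, 1)] (.node [] (.node [(46, (-1), 1)] (.node [(69, 1, 1)] .nil (.node [(125, 1, 1)] .nil .nil)) .nil) (.node [(52, 1, 1)] .nil (.node [] (.node [(117, (-1), 1)] .nil .nil) .nil))) (.node [(41, (-1), 1)] (.node [(49, 1, 1)] (.node [(78, 1, 1)] (.node [(105, (-1), 1)] .nil .nil) .nil) (.node [] (.node [(111, (-1), 1)] .nil .nil) .nil)) (.node [] .nil (.node [] (.node [(122, (-1), 1)] .nil .nil) .nil))))))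
def X98 : Tr (List (ℕ × ℤ × ℕ)) := (.node [(105, (-1), 1)] (.node [(105, 1, 1)] (.node [] (.node [(13, 1, 1)] (.node [(44, 1, 1)] (.node [] .nil (.node [(124, (-1), 1)] .nil .nil)) .nil) (.node [] (.node [(84, 1, 1)] .nil .nil) (.node [(100, (-1), 1)] (.node [(114, (-1), 1)] .nil .nil) .nil))) (.node [] (.node [(48, 1, 1)] (.node [(70, 1, 1)] (.node [(103, (-1), 1)] .nil .nil) .nil) .nil) (.node [(53, 1, 1)] .nil (.node [] (.node [(120, (-1), 1)] .nil .nil) .nil)))) (.node [] (.node [] (.node [] (.node [] .nil (.node [(125, (-1), 1)] .nil .nil)) .nil) (.node [(52, 1, 1)] .nil .nil)) (.node [] (.node [(49, 1, 1)] (.node [(75, 1, 1)] (.node [(104, (-1), 1)] .nil .nil) .nil) (.node [] (.node [(109, (-1), 1)] .nil .nil) .nil)) .nil))) (.node [] (.node [] (.node [] (.node [(45, 1, 1)] (.node [] (.node [(102, (-1), 1)] .nil .nil) .nil) .nil) (.node [(51, 1, 1)] .nil (.node [] (.node [(115, (-1), 1)] .nil .nil) .nil))) (.node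 [] (.node [] (.node [(72, 1, 1)] .nil .nil) .nil) (.node [] .nil (.node [(101, (-1), 1)] (.node [(121, (-1), 1)] .nil .nil) .nil)))) (.node [(105, (-1), 1)] (.node [] (.node [(47, 1, 1)] (.node [(0, 1, 1), (2, 1, 1), (3, 1, 1), (4, 1, 1), (5, 1, 1), (6, 1, 1), (105, (-1), 2)] .nil .nil) .nil) (.node [] .nil (.node [] (.node [(118, (-1), 1)] .nil .nil) .nil))) (.node [(42, 1, 1)] (.node [] (.node [(79, 1, 1)] .nil .nil) (.node [] (.node [(112, (-1), 1)] .nil .nil) .nil)) (.node [(54, 1, 1)] .nil (.node [] (.node [(123, (-1), 1)] .nil .nil) (.node [(132, (-1), 1)] .nil .nil)))))))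
def X99 : Tr (List (ℕ × ℤ × ℕ)) := (.node [(106, (-1), 1)] (.node [(106, (-1), 1)] (.node [] (.node [(14, 1, 1)] (.node [] (.node [(65, 1, 1)] .nil .nil) (.node [] (.node [(112, 1, 1)] .nil .nil) .nil)) (.node [(57, 1, 1)] (.node [(90, 1, 1)] .nil .nil) .nil)) (.node [(40, 1, 1)] (.node [] (.node [] .nil (.node [(128, (-1), 1)] .nil .nil)) (.node [] (.node [(117, (-1), 1)] .nil .nil) .nil)) (.node [(60, (-1), 1)] (.node [] (.node [(109, (-1), 1)] .nil .nil) .nil) .nil))) (.node [] (.node [] (.node [] (.node [(0, 1, 1), (1, 1, 1), (2, 1, 1), (3, 1, 1), (106, (-1), 2)] .nil (.node [(126, (-1), 1)] .nil .nil)) (.node [(100, (-1), 1)] .nil .nil)) (.node [] (.node [] (.node [(107, (-1), 1)] .nil .nil) .nil) .nil)) (.node [(42, 1, 1)] (.node [(55, 1, 1)] (.node [(85, 1, 1)] .nil .nil) (.node [(101, 1, 1)] .nil .nil)) (.node [(62, (-1), 1)] (.node [] (.node [(110, 1, 1)] .nil .nil) .nil) (.node [] .nil (.node [(132, (-1), 1)]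 .nil .nil)))))) (.node [] (.node [(106, 1, 1)] (.node [] (.node [] (.node [(66, 1, 1)] .nil .nil) .nil) .nil) (.node [(41, 1, 1)] (.node [] .nil (.node [] (.node [(118, (-1), 1)] .nil .nil) .nil)) (.node [(61, (-1), 1)] .nil .nil))) (.node [] (.node [] (.node [] (.node [] .nil (.node [(127, (-1), 1)] .nil .nil)) (.node [] (.node [(116, (-1), 1)] .nil .nil) .nil)) (.node [] (.node [] (.node [(108, (-1), 1)] .nil .nil) .nil) .nil)) (.node [] (.node [(56, 1, 1)] (.node [(86, (-1), 1)] .nil .nil) (.node [(102, (-1), 1)] .nil .nil)) (.node [(64, 1, 1)] (.node [] (.node [(111, 1, 1)] .nil .nil) .nil) .nil)))))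
def X100 : Tr (List (ℕ × ℤ × ℕ)) := (.node [(107, (-1), 1)] (.node [(107, (-1), 1)] (.node [(107, 1, 1)] (.node [(15, (-1), 1)] (.node [] (.node [(68, 1, 1)] .nil (.node [(126, 1, 1)] .nil .nil)) (.node [] (.node [(114, 1, 1)] .nil .nil) .nil)) (.node [(58, (-1), 1)] (.node [(91, 1, 1)] (.node [(108, (-1), 1)] .nil .nil) .nil) .nil)) (.node [] (.node [(55, 1, 1)] (.node [] .nil (.node [(129, (-1), 1)] .nil .nil)) (.node [] (.node [(119, (-1), 1)] .nil .nil) .nil)) .nil)) (.node [(107, 1, 1)] (.node [] (.node [] (.node [(73, 1, 1)] .nil .nil) (.node [] (.node [(116, 1, 1)] .nil .nil) .nil)) (.node [(60, (-1), 1)] .nil .nil)) (.node [(44, (-1), 1)] .nil (.node [(63, 1, 1)] .nil .nil)))) (.node [] (.node [(107, (-1), 1)] (.node [] (.node [] (.node [(0, 1, 1), (1, 1, 1), (2, 1, 1), (3, 1, 1), (4, 1, 1), (107, (-1), 2)] .nil (.node [(127, 1, 1)] .nil .nil)) (.node [(100, (-1), 1)] .nil .nil)) (.node [] (.node [] (.node [(109,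 (-1), 1)] .nil .nil) .nil) .nil)) (.node [(43, (-1), 1)] (.node [(56, 1, 1)] (.node [(85, 1, 1)] .nil .nil) (.node [(101, 1, 1)] (.node [(120, (-1), 1)] .nil .nil) .nil)) (.node [] (.node [] (.node [(110, (-1), 1)] .nil .nil) .nil) (.node [] .nil (.node [(132, 1, 1)] .nil .nil))))) (.node [] (.node [(40, 1, 1)] (.node [] (.node [] (.node [(106, (-1), 1)] .nil .nil) .nil) .nil) (.node [(61, (-1), 1)] .nil .nil)) (.node [] (.node [] (.node [(87, (-1), 1)] .nil .nil) (.node [(103, (-1), 1)] .nil .nil)) (.node [(67, 1, 1)] (.node [] (.node [(113, 1, 1)] .nil .nil) .nil) .nil)))))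
def X101 : Tr (List (ℕ × ℤ × ℕ)) := (.node [(108, (-1), 1)] (.node [(108, (-1), 1)] (.node [(108, 1, 1)] (.node [(16, 1, 1)] (.node [] (.node [(0, 1, 1), (1, 1, 1), (2, 1, 1), (3, 1, 1), (4, 1, 1), (5, 1, 1), (108, (-1), 2)] .nil .nil) (.node [(100, (-1), 1)] (.node [(115, 1, 1)] .nil .nil) .nil)) (.node [] (.node [(92, 1, 1)] .nil .nil) .nil)) (.node [(43, (-1), 1)] (.node [] (.node [(85, 1, 1)] .nil .nil) (.node [(101, 1, 1)] .nil .nil)) (.node [] .nil (.node [] .nil (.node [(132, (-1), 1)] .nil .nil))))) (.node [(108, (-1), 1)] (.node [] (.node [] (.node [(74, 1, 1)] (.node [(106, (-1), 1)] .nil .nil) .nil) (.node [] (.node [(117, 1, 1)] .nil .nil) .nil)) .nil) (.node [(45, 1, 1)] .nil (.node [] (.node [] (.node [(113, (-1), 1)] .nil .nil) .nil) .nil)))) (.node [] (.node [] (.node [] (.node [] (.node [(71, 1, 1)] .nil (.node [(128, 1, 1)] .nil .nil)) .nil) (.node [(60, (-1), 1)] .nil .nil)) (.node [] (.node [(57, (-1),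 1)] (.node [] (.node [(107, (-1), 1)] .nil .nil) .nil) (.node [] (.node [(121, (-1), 1)] .nil .nil) .nil)) (.node [(63, 1, 1)] (.node [] (.node [(111, (-1), 1)] .nil .nil) .nil) .nil))) (.node [(108, 1, 1)] (.node [(41, (-1), 1)] (.node [(55, 1, 1)] (.node [] .nil (.node [(129, 1, 1)] .nil .nil)) (.node [] (.node [(119, 1, 1)] .nil .nil) .nil)) (.node [(62, 1, 1)] .nil .nil)) (.node [] (.node [(58, (-1), 1)] (.node [(88, (-1), 1)] (.node [(109, (-1), 1)] .nil .nil) .nil) (.node [(104, (-1), 1)] .nil .nil)) (.node [(69, 1, 1)] .nil (.node [] (.node [(126, (-1), 1)] .nil .nil) .nil))))))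
def X102 : Tr (List (ℕ × ℤ × ℕ)) := (.node [(109, (-1), 1)] (.node [(109, (-1), 1)] (.node [(109, 1, 1)] (.node [(17, (-1), 1)] (.node [] (.node [(70, 1, 1)] .nil (.node [(128, (-1), 1)] .nil .nil)) .nil) (.node [] (.node [(93, 1, 1)] .nil .nil) .nil)) (.node [(44, 1, 1)] (.node [(57, (-1), 1)] (.node [] (.node [(107, (-1), 1)] .nil .nil) .nil) (.node [] (.node [(121, 1, 1)] .nil .nil) .nil)) (.node [(63, 1, 1)] .nil .nil))) (.node [] (.node [] (.node [] (.node [(75, 1, 1)] .nil (.node [(129, (-1), 1)] .nil .nil)) (.node [] (.node [(118, 1, 1)] .nil .nil) .nil)) (.node [(62, 1, 1)] .nil .nil)) (.node [] (.node [(58, (-1), 1)] (.node [] (.node [(108, (-1), 1)] .nil .nil) .nil) .nil) (.node [] (.node [] (.node [(114, (-1), 1)] .nil .nil) .nil) .nil)))) (.node [] (.node [] (.node [] (.node [] (.node [(72, 1, 1)] (.node [(106, (-1), 1)] .nil .nil) .nil) .nil) (.node [(61, 1, 1)] .nil .nil)) (.node [(45, 1, 1)] .nil (.node []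 (.node [] (.node [(112, (-1), 1)] .nil .nil) .nil) .nil))) (.node [(109, (-1), 1)] (.node [(42, 1, 1)] (.node [(56, (-1), 1)] (.node [(85, 1, 1)] .nil .nil) (.node [(101, 1, 1)] (.node [(120, 1, 1)] .nil .nil) .nil)) (.node [] .nil (.node [] .nil (.node [(132, 1, 1)] .nil .nil)))) (.node [] (.node [] (.node [(89, (-1), 1)] .nil .nil) (.node [(105, (-1), 1)] .nil .nil)) (.node [(0, 1, 1), (1, 1, 1), (2, 1, 1), (3, 1, 1), (4, 1, 1), (5, 1, 1), (6, 1, 1), (109, (-1), 2)] (.node [(100, (-1), 1)] (.node [(115, (-1), 1)] .nil .nil) .nil) (.node [] (.node [(127, (-1), 1)] .nil .nil) .nil))))))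
def X103 : Tr (List (ℕ × ℤ × ℕ)) := (.node [(110, (-1), 1)] (.node [] (.node [(110, (-1), 1)] (.node [(18, 1, 1)] (.node [] (.node [] (.node [(107, (-1), 1)] .nil .nil) .nil) .nil) (.node [(59, 1, 1)] (.node [(94, 1, 1)] (.node [(111, (-1), 1)] .nil .nil) .nil) .nil)) (.node [] (.node [] (.node [] .nil (.node [(130, (-1), 1)] .nil .nil)) (.node [] (.node [(122, (-1), 1)] .nil .nil) .nil)) (.node [(67, 1, 1)] (.node [] (.node [(114, 1, 1)] .nil .nil) .nil) .nil))) (.node [(110, 1, 1)] (.node [(40, 1, 1)] (.node [(56, 1, 1)] (.node [(77, (-1), 1)] .nil .nil) .nil) (.node [(64, (-1), 1)] .nil (.node [] .nil (.node [(132, (-1), 1)] .nil .nil)))) (.node [(47, 1, 1)] (.node [] (.node [(87, (-1), 1)] .nil .nil) (.node [(103, (-1), 1)] .nil .nil)) (.node [(0, 1, 1), (1, 1, 1), (2, 1, 1), (3, 2, 1), (4, 1, 1), (110, (-1), 2)] (.node [(100, (-1), 1)] .nil .nil) (.node [] (.node [(127, (-1), 1)] .nil .nil) .nil))))) (.node [(110,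 1, 1)] (.node [] (.node [] (.node [(55, 1, 1)] (.node [(76, 1, 1)] .nil .nil) (.node [] (.node [(116, (-1), 1)] .nil .nil) .nil)) (.node [] (.node [] (.node [(112, (-1), 1)] .nil .nil) .nil) .nil)) (.node [(46, 1, 1)] (.node [] (.node [(86, 1, 1)] .nil .nil) (.node [(102, 1, 1)] (.node [(123, (-1), 1)] .nil .nil) .nil)) (.node [(68, 1, 1)] .nil (.node [] (.node [(126, (-1), 1)] .nil .nil) .nil)))) (.node [] (.node [] .nil (.node [(65, (-1), 1)] (.node [] (.node [(113, 1, 1)] .nil .nil) .nil) .nil)) (.node [] .nil (.node [] .nil (.node [(106, 1, 1)] .nil .nil))))))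
def X104 : Tr (List (ℕ × ℤ × ℕ)) := (.node [(111, (-1), 1)] (.node [] (.node [(111, (-1), 1)] (.node [(19, (-1), 1)] (.node [(55, 1, 1)] (.node [(76, 1, 1)] (.node [(108, (-1), 1)] .nil .nil) .nil) .nil) (.node [] (.node [(95, 1, 1)] .nil .nil) .nil)) (.node [(46, 1, 1)] (.node [] (.node [(86, 1, 1)] .nil .nil) (.node [(102, 1, 1)] .nil .nil)) (.node [(69, 1, 1)] (.node [] (.node [(115, 1, 1)] .nil .nil) .nil) (.node [] (.node [(126, 1, 1)] .nil .nil) .nil)))) (.node [(111, (-1), 1)] (.node [(41, (-1), 1)] (.node [(57, (-1), 1)] (.node [(78, (-1), 1)] .nil .nil) .nil) (.node [] (.node [] (.node [(113, (-1), 1)] .nil .nil) .nil) .nil)) (.node [(48, (-1), 1)] (.node [] (.node [(88, (-1), 1)] .nil .nil) (.node [(104, (-1), 1)] .nil .nil)) (.node [(71, 1, 1)] .nil (.node [(106, 1, 1)] (.node [(128, (-1), 1)] .nil .nil) .nil))))) (.node [(111, 1, 1)] (.node [(111, 1, 1)] (.node [] (.node [] .nil (.node [] (.node [(117, (-1),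 1)] .nil .nil) .nil)) (.node [(64, (-1), 1)] .nil (.node [] .nil (.node [(132, 1, 1)] .nil .nil)))) (.node [] (.node [] (.node [] (.node [(110, (-1), 1)] .nil .nil) .nil) (.node [] (.node [(124, (-1), 1)] .nil .nil) .nil)) (.node [(0, 1, 1), (1, 1, 1), (2, 1, 1), (3, 2, 1), (4, 1, 1), (5, 1, 1), (111, (-1), 2)] (.node [(100, (-1), 1)] .nil .nil) .nil))) (.node [(111, 1, 1)] (.node [] (.node [] (.node [] .nil (.node [(130, 1, 1)] .nil .nil)) (.node [] (.node [(122, 1, 1)] .nil .nil) .nil)) (.node [(66, 1, 1)] .nil .nil)) (.node [] (.node [(59, 1, 1)] (.node [] (.node [(112, (-1), 1)] .nil .nil) .nil) .nil) .nil))))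
def X105 : Tr (List (ℕ × ℤ × ℕ)) := (.node [(112, (-1), 1)] (.node [] (.node [(112, (-1), 1)] (.node [(20, 1, 1)] (.node [(56, (-1), 1)] (.node [] (.node [(109, (-1), 1)] .nil .nil) .nil) .nil) (.node [] (.node [(96, 1, 1)] .nil .nil) (.node [] .nil (.node [(132, (-1), 1)] .nil .nil)))) (.node [(47, (-1), 1)] (.node [] (.node [] (.node [(110, (-1), 1)] .nil .nil) .nil) (.node [] (.node [(124, 1, 1)] .nil .nil) .nil)) (.node [(0, 1, 1), (1, 1, 1), (2, 1, 1), (3, 2, 1), (4, 1, 1), (5, 1, 1), (6, 1, 1), (112, (-1), 2)] (.node [(100, (-1), 1)] .nil .nil) (.node [] (.node [(127, 1, 1)] .nil .nil) .nil)))) (.node [] (.node [(42, 1, 1)] (.node [] (.node [(79, (-1), 1)] .nil (.node [(130, (-1), 1)] .nil .nil)) .nil) (.node [(66, 1, 1)] (.node [] (.node [(114, (-1), 1)] .nil .nil) .nil) .nil)) (.node [] (.node [(59, 1, 1)] (.node [(89, (-1), 1)] (.node [(111, (-1), 1)] .nil .nil) .nil) (.node [(105, (-1), 1)] .nil .nil)) (.node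 [(72, 1, 1)] .nil .nil)))) (.node [(112, 1, 1)] (.node [(112, 1, 1)] (.node [] (.node [(57, (-1), 1)] .nil (.node [] (.node [(118, (-1), 1)] .nil .nil) .nil)) (.node [(65, 1, 1)] .nil .nil)) (.node [(48, (-1), 1)] .nil (.node [(70, 1, 1)] .nil (.node [(106, 1, 1)] (.node [(128, 1, 1)] .nil .nil) .nil)))) (.node [(112, (-1), 1)] (.node [] (.node [] (.node [(86, 1, 1)] .nil .nil) (.node [(102, 1, 1)] (.node [(123, 1, 1)] .nil .nil) .nil)) (.node [] (.node [] (.node [(115, (-1), 1)] .nil .nil) .nil) .nil)) (.node [] .nil (.node [(76, 1, 1)] .nil .nil)))))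
def X106 : Tr (List (ℕ × ℤ × ℕ)) := (.node [(113, (-1), 1)] (.node [] (.node [] (.node [(21, 1, 1)] (.node [] (.node [(77, 1, 1)] .nil .nil) .nil) (.node [] (.node [(97, 1, 1)] .nil .nil) .nil)) (.node [] (.node [] (.node [(87, 1, 1)] .nil .nil) (.node [(103, 1, 1)] .nil .nil)) .nil)) (.node [] (.node [(43, 1, 1)] (.node [(58, 1, 1)] (.node [] (.node [(110, 1, 1)] .nil .nil) .nil) (.node [] (.node [(122, (-1), 1)] .nil .nil) .nil)) (.node [(69, 1, 1)] .nil .nil)) (.node [(49, 1, 1)] .nil (.node [(74, (-1), 1)] .nil (.node [(107, 1, 1)] (.node [(129, (-1), 1)] .nil .nil) .nil))))) (.node [(113, 1, 1)] (.node [(113, (-1), 1)] (.node [] (.node [] (.node [(78, (-1), 1)] .nil (.node [(130, (-1), 1)] .nil .nil)) (.node [] (.node [(119, (-1), 1)] .nil .nil) .nil)) (.node [(67, (-1), 1)] (.node [] (.node [(115, 1, 1)] .nil .nil) .nil) .nil)) (.node [] (.node [(59, 1, 1)] (.node [(88, (-1), 1)] .nil .nil) (.node [(104, (-1), 1)]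 (.node [(125, (-1), 1)] .nil .nil) .nil)) (.node [(73, 1, 1)] .nil .nil))) (.node [(113, 1, 1)] (.node [(46, 1, 1)] (.node [] (.node [] (.node [(111, (-1), 1)] .nil .nil) .nil) .nil) (.node [(0, 1, 1), (1, 1, 1), (2, 1, 1), (3, 2, 1), (4, 2, 1), (5, 1, 1), (113, (-1), 2)] (.node [(100, (-1), 1)] .nil .nil) (.node [] (.node [(126, (-1), 1)] .nil .nil) .nil))) (.node [(55, 1, 1)] (.node [] (.node [] (.node [(114, (-1), 1)] .nil .nil) .nil) (.node [] .nil (.node [(132, (-1), 1)] .nil .nil))) (.node [] .nil (.node [(108, (-1), 1)] .nil .nil))))))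
def X107 : Tr (List (ℕ × ℤ × ℕ)) := (.node [(114, (-1), 1)] (.node [] (.node [] (.node [(22, (-1), 1)] (.node [] (.node [] .nil (.node [(130, 1, 1)] .nil .nil)) .nil) (.node [] (.node [(98, 1, 1)] (.node [(115, (-1), 1)] .nil .nil) .nil) .nil)) (.node [] (.node [(59, 1, 1)] .nil (.node [] (.node [(125, 1, 1)] .nil .nil) .nil)) (.node [(73, 1, 1)] .nil .nil))) (.node [(114, 1, 1)] (.node [(44, (-1), 1)] (.node [] .nil (.node [] (.node [(123, (-1), 1)] .nil .nil) .nil)) (.node [(0, 1, 1), (1, 1, 1), (2, 1, 1), (3, 2, 1), (4, 2, 1), (5, 1, 1), (6, 1, 1), (114, (-1), 2)] (.node [(100, (-1), 1)] .nil .nil) .nil)) (.node [] (.node [] (.node [] (.node [(113, (-1), 1)] .nil .nil) .nil) (.node [] .nil (.node [(132, 1, 1)] .nil .nil))) (.node [(75, (-1), 1)] .nil .nil)))) (.node [(114, 1, 1)] (.node [(114, (-1), 1)] (.node [] (.node [(58, 1, 1)] (.node [(79, (-1), 1)] (.node [(110, 1, 1)] .nil .nil) .nil) (.node [] (.node [(120,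 (-1), 1)] .nil .nil) .nil)) (.node [(68, 1, 1)] .nil .nil)) (.node [(49, 1, 1)] (.node [] (.node [(89, (-1), 1)] .nil .nil) (.node [(105, (-1), 1)] .nil .nil)) (.node [] .nil (.node [(107, 1, 1)] (.node [(129, 1, 1)] .nil .nil) .nil)))) (.node [(114, (-1), 1)] (.node [(47, (-1), 1)] (.node [] (.node [(87, 1, 1)] (.node [(112, (-1), 1)] .nil .nil) .nil) (.node [(103, 1, 1)] .nil .nil)) (.node [(70, 1, 1)] .nil (.node [] (.node [(127, (-1), 1)] .nil .nil) .nil))) (.node [(56, (-1), 1)] .nil (.node [(77, 1, 1)] .nil (.node [(109, (-1), 1)] .nil .nil))))))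
def X108 : Tr (List (ℕ × ℤ × ℕ)) := (.node [(115, (-1), 1)] (.node [] (.node [] (.node [(23, 1, 1)] (.node [(58, 1, 1)] (.node [(79, (-1), 1)] .nil .nil) .nil) (.node [] (.node [(99, 1, 1)] .nil .nil) .nil)) (.node [(49, 1, 1)] (.node [] (.node [(89, (-1), 1)] (.node [(113, 1, 1)] .nil .nil) .nil) (.node [(105, (-1), 1)] .nil .nil)) (.node [(74, 1, 1)] .nil (.node [] (.node [(129, (-1), 1)] .nil .nil) .nil)))) (.node [(115, (-1), 1)] (.node [(45, 1, 1)] (.node [] (.node [] (.node [(112, (-1), 1)] .nil .nil) .nil) (.node [] (.node [(124, (-1), 1)] .nil .nil) .nil)) (.node [(71, 1, 1)] .nil .nil)) (.node [] .nil (.node [] .nil (.node [(109, (-1), 1)] .nil .nil))))) (.node [(115, 1, 1)] (.node [] (.node [] (.node [] (.node [] (.node [(111, 1, 1)] .nil .nil) .nil) (.node [] (.node [(121, (-1), 1)] .nil .nil) .nil)) (.node [(0, 1, 1), (1, 1, 1), (2, 1, 1), (3, 2, 1), (4, 2, 1), (5, 2, 1), (6, 1, 1), (115, (-1), 2)] (.node [(100,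 (-1), 1)] .nil .nil) .nil)) (.node [] (.node [] (.node [] (.node [(114, (-1), 1)] .nil .nil) .nil) (.node [] .nil (.node [(132, (-1), 1)] .nil .nil))) (.node [(75, (-1), 1)] .nil (.node [(108, 1, 1)] .nil .nil)))) (.node [] (.node [(48, 1, 1)] (.node [(59, 1, 1)] (.node [(88, 1, 1)] .nil .nil) (.node [(104, 1, 1)] (.node [(125, (-1), 1)] .nil .nil) .nil)) (.node [(72, (-1), 1)] .nil (.node [] (.node [(128, (-1), 1)] .nil .nil) .nil))) (.node [(57, 1, 1)] .nil (.node [(78, 1, 1)] .nil (.node [] (.node [(130, (-1), 1)] .nil .nil) .nil))))))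
def X109 : Tr (List (ℕ × ℤ × ℕ)) := (.node [] (.node [] (.node [] (.node [(24, (-1), 1)] (.node [] .nil (.node [] (.node [(123, (-1), 1)] .nil .nil) .nil)) (.node [(0, 1, 1), (1, 1, 1), (2, 2, 1), (3, 2, 1), (4, 1, 1), (116, (-1), 2)] (.node [] (.node [(117, (-1), 1)] .nil .nil) .nil) .nil)) (.node [] (.node [(64, (-1), 1)] (.node [] .nil (.node [(131, (-1), 1)] .nil .nil)) (.node [] .nil (.node [(132, 1, 1)] .nil .nil))) (.node [] (.node [] (.node [(120, 1, 1)] .nil .nil) .nil) (.node [(110, (-1), 1)] .nil .nil)))) (.node [(116, 1, 1)] (.node [] (.node [(61, 1, 1)] (.node [(82, 1, 1)] .nil .nil) (.node [(103, (-1), 1)] .nil .nil)) (.node [] .nil (.node [(106, (-1), 1)] (.node [(127, 1, 1)] .nil .nil) .nil))) (.node [(51, (-1), 1)] (.node [(67, 1, 1)] (.node [(91, (-1), 1)] .nil .nil) .nil) (.node [(80, 1, 1)] (.node [(101, (-1), 1)] .nil .nil) .nil)))) (.node [(116, (-1), 1)] (.node [] (.node [(40, 1, 1)] (.node [(60,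 1, 1)] (.node [(81, (-1), 1)] .nil .nil) (.node [(102, 1, 1)] .nil .nil)) (.node [] (.node [] (.node [(118, (-1), 1)] .nil .nil) .nil) (.node [] (.node [(126, 1, 1)] .nil .nil) .nil))) (.node [(50, (-1), 1)] (.node [(65, (-1), 1)] (.node [(90, 1, 1)] .nil .nil) .nil) .nil)) (.node [] (.node [] .nil (.node [] (.node [] (.node [(119, 1, 1)] .nil .nil) .nil) (.node [(107, 1, 1)] .nil .nil))) (.node [] (.node [(68, 1, 1)] (.node [(94, 1, 1)] .nil .nil) .nil) (.node [] (.node [] (.node [(122, (-1), 1)] .nil .nil) .nil) .nil)))))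
def X110 : Tr (List (ℕ × ℤ × ℕ)) := (.node [] (.node [] (.node [] (.node [(25, 1, 1)] (.node [(60, 1, 1)] (.node [(81, (-1), 1)] .nil .nil) (.node [(102, 1, 1)] (.node [(124, (-1), 1)] .nil .nil) .nil)) (.node [(71, 1, 1)] .nil (.node [] (.node [(126, (-1), 1)] .nil .nil) .nil))) (.node [(50, (-1), 1)] (.node [] (.node [(90, 1, 1)] .nil .nil) .nil) (.node [] (.node [] (.node [(121, 1, 1)] .nil .nil) .nil) (.node [(111, (-1), 1)] .nil .nil)))) (.node [(117, (-1), 1)] (.node [] (.node [(62, (-1), 1)] (.node [(83, 1, 1)] .nil .nil) (.node [(104, (-1), 1)] .nil .nil)) (.node [] (.node [] (.node [(119, (-1), 1)] .nil .nil) .nil) (.node [] (.node [(128, 1, 1)] .nil .nil) .nil))) (.node [(52, 1, 1)] (.node [(69, 1, 1)] (.node [(92, (-1), 1)] .nil .nil) .nil) (.node [] (.node [] (.node [(122, 1, 1)] .nil .nil) .nil) .nil)))) (.node [(117, (-1), 1)] (.node [(117, 1, 1)] (.node [(41, (-1), 1)] .nil (.node [] .nil (.node [(106, (-1),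 1)] .nil .nil))) (.node [] (.node [(66, 1, 1)] (.node [] (.node [(116, (-1), 1)] .nil .nil) .nil) .nil) (.node [(80, 1, 1)] (.node [(101, (-1), 1)] .nil .nil) .nil))) (.node [(117, 1, 1)] (.node [] (.node [(64, (-1), 1)] (.node [] .nil (.node [(131, 1, 1)] .nil .nil)) (.node [] .nil (.node [(132, (-1), 1)] .nil .nil))) (.node [] .nil (.node [(108, 1, 1)] .nil .nil))) (.node [] (.node [(0, 1, 1), (1, 1, 1), (2, 2, 1), (3, 2, 1), (4, 1, 1), (5, 1, 1), (117, (-1), 2)] (.node [(95, 1, 1)] (.node [(118, (-1), 1)] .nil .nil) .nil) .nil) .nil))))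
def X111 : Tr (List (ℕ × ℤ × ℕ)) := (.node [] (.node [] (.node [] (.node [(26, (-1), 1)] (.node [(61, (-1), 1)] .nil .nil) (.node [(72, 1, 1)] .nil (.node [(106, (-1), 1)] (.node [(127, (-1), 1)] .nil .nil) .nil))) (.node [(51, 1, 1)] (.node [(66, 1, 1)] (.node [] (.node [(116, (-1), 1)] .nil .nil) .nil) .nil) (.node [(80, 1, 1)] (.node [(101, (-1), 1)] .nil .nil) (.node [(112, (-1), 1)] .nil .nil)))) (.node [] (.node [] (.node [] (.node [(84, 1, 1)] .nil (.node [(131, (-1), 1)] .nil .nil)) (.node [(105, (-1), 1)] .nil (.node [(132, 1, 1)] .nil .nil))) (.node [] (.node [] (.node [(120, (-1), 1)] .nil .nil) .nil) .nil)) (.node [] (.node [(0, 1, 1), (1, 1, 1), (2, 2, 1), (3, 2, 1), (4, 1, 1), (5, 1, 1), (6, 1, 1), (118, (-1), 2)] (.node [(93, (-1), 1)] (.node [(117, (-1), 1)] .nil .nil) .nil) .nil) (.node [] (.node [] (.node [(123, 1, 1)] .nil .nil) .nil) .nil)))) (.node [(118, (-1), 1)] (.node [(118, 1, 1)] (.node [(42,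 1, 1)] (.node [(62, (-1), 1)] .nil .nil) (.node [] .nil (.node [] (.node [(128, (-1), 1)] .nil .nil) .nil))) (.node [(52, 1, 1)] .nil .nil)) (.node [(118, (-1), 1)] (.node [] (.node [(65, 1, 1)] (.node [(90, 1, 1)] .nil .nil) .nil) (.node [] (.node [] (.node [(121, (-1), 1)] .nil .nil) .nil) (.node [(109, 1, 1)] .nil .nil))) (.node [] (.node [(70, 1, 1)] (.node [(96, 1, 1)] .nil .nil) .nil) (.node [(81, (-1), 1)] (.node [(102, 1, 1)] (.node [(124, 1, 1)] .nil .nil) .nil) .nil)))))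
def X112 : Tr (List (ℕ × ℤ × ℕ)) := (.node [] (.node [] (.node [(119, 1, 1)] (.node [(27, (-1), 1)] (.node [] (.node [(82, (-1), 1)] .nil .nil) (.node [(103, 1, 1)] (.node [(125, (-1), 1)] .nil .nil) .nil)) (.node [(74, (-1), 1)] .nil .nil)) (.node [] (.node [(69, 1, 1)] (.node [(91, 1, 1)] .nil .nil) .nil) (.node [] .nil (.node [(113, (-1), 1)] .nil .nil)))) (.node [] (.node [] (.node [(63, 1, 1)] (.node [] (.node [(116, 1, 1)] .nil .nil) .nil) .nil) (.node [] .nil (.node [(108, 1, 1)] (.node [(129, 1, 1)] .nil .nil) .nil))) (.node [(53, (-1), 1)] .nil .nil))) (.node [(119, (-1), 1)] (.node [(119, (-1), 1)] (.node [(43, 1, 1)] (.node [] (.node [(83, 1, 1)] .nil (.node [(131, (-1), 1)] .nil .nil)) (.node [(104, (-1), 1)] .nil (.node [(132, 1, 1)] .nil .nil))) (.node [] (.node [] (.node [(121, 1, 1)] .nil .nil) .nil) (.node [(107, (-1), 1)] .nil .nil))) (.node [] (.node [(0, 1, 1), (1, 1, 1), (2, 2, 1), (3, 2, 1), (4, 2,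 1), (5, 1, 1), (119, (-1), 2)] (.node [(92, (-1), 1)] .nil .nil) .nil) (.node [] (.node [] (.node [(122, (-1), 1)] .nil .nil) .nil) .nil))) (.node [(119, 1, 1)] (.node [(50, (-1), 1)] (.node [(67, (-1), 1)] (.node [] (.node [(117, (-1), 1)] .nil .nil) .nil) .nil) (.node [(80, 1, 1)] (.node [(101, (-1), 1)] .nil .nil) .nil)) (.node [(60, 1, 1)] (.node [(73, 1, 1)] (.node [(97, 1, 1)] (.node [(120, (-1), 1)] .nil .nil) .nil) (.node [] (.node [(126, 1, 1)] .nil .nil) .nil)) .nil))))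
def X113 : Tr (List (ℕ × ℤ × ℕ)) := (.node [] (.node [] (.node [(120, 1, 1)] (.node [(28, 1, 1)] (.node [] (.node [] .nil (.node [(131, 1, 1)] .nil .nil)) (.node [] .nil (.node [(132, (-1), 1)] .nil .nil))) (.node [(75, (-1), 1)] (.node [] (.node [(121, (-1), 1)] .nil .nil) .nil) (.node [(107, (-1), 1)] .nil .nil))) (.node [] (.node [(0, 1, 1), (1, 1, 1), (2, 2, 1), (3, 2, 1), (4, 2, 1), (5, 1, 1), (6, 1, 1), (120, (-1), 2)] .nil .nil) (.node [] .nil (.node [(114, (-1), 1)] .nil .nil)))) (.node [(120, 1, 1)] (.node [] .nil (.node [(80, 1, 1)] (.node [(101, (-1), 1)] .nil .nil) (.node [(109, 1, 1)] .nil .nil))) (.node [] (.node [(73, 1, 1)] (.node [] (.node [(119, (-1), 1)] .nil .nil) .nil) .nil) .nil))) (.node [(120, (-1), 1)] (.node [(120, (-1), 1)] (.node [(44, (-1), 1)] (.node [(63, 1, 1)] (.node [(84, 1, 1)] (.node [(116, 1, 1)] .nil .nil) .nil) (.node [(105, (-1), 1)] .nil .nil)) (.node [] .nil (.node [] (.node [(129,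 (-1), 1)] .nil .nil) .nil))) (.node [(53, (-1), 1)] (.node [(70, 1, 1)] (.node [(93, (-1), 1)] .nil .nil) .nil) (.node [] (.node [] (.node [(123, (-1), 1)] .nil .nil) .nil) .nil))) (.node [(120, (-1), 1)] (.node [(51, 1, 1)] (.node [(68, 1, 1)] (.node [(91, 1, 1)] (.node [(118, (-1), 1)] .nil .nil) .nil) .nil) .nil) (.node [(61, (-1), 1)] (.node [] (.node [(98, 1, 1)] .nil .nil) (.node [] (.node [(127, 1, 1)] .nil .nil) .nil)) (.node [(82, (-1), 1)] (.node [(103, 1, 1)] (.node [(125, 1, 1)] .nil .nil) .nil) .nil)))))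
def X114 : Tr (List (ℕ × ℤ × ℕ)) := (.node [] (.node [] (.node [(121, 1, 1)] (.node [(29, (-1), 1)] (.node [(63, 1, 1)] (.node [(84, 1, 1)] .nil .nil) (.node [(105, (-1), 1)] .nil .nil)) (.node [] .nil (.node [(108, (-1), 1)] (.node [(129, 1, 1)] .nil .nil) .nil))) (.node [(53, (-1), 1)] (.node [(71, 1, 1)] (.node [(93, (-1), 1)] (.node [(119, 1, 1)] .nil .nil) .nil) .nil) (.node [] .nil (.node [(115, (-1), 1)] .nil .nil)))) (.node [(121, (-1), 1)] (.node [] (.node [] (.node [] (.node [(118, (-1), 1)] .nil .nil) .nil) .nil) .nil) (.node [] (.node [(74, 1, 1)] .nil .nil) (.node [] (.node [] (.node [(125, (-1), 1)] .nil .nil) .nil) .nil)))) (.node [(121, (-1), 1)] (.node [] (.node [(45, 1, 1)] (.node [] (.node [] (.node [(117, 1, 1)] .nil .nil) .nil) .nil) (.node [(80, 1, 1)] (.node [(101, (-1), 1)] .nil .nil) (.node [(109, 1, 1)] .nil .nil))) (.node [] (.node [(72, (-1), 1)] (.node [] (.node [(120, (-1), 1)] .nil .nil) .nil)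 .nil) (.node [] (.node [] (.node [(124, (-1), 1)] .nil .nil) .nil) .nil))) (.node [] (.node [(52, (-1), 1)] (.node [(0, 1, 1), (1, 1, 1), (2, 2, 1), (3, 2, 1), (4, 2, 1), (5, 2, 1), (6, 1, 1), (121, (-1), 2)] (.node [(92, 1, 1)] .nil .nil) .nil) .nil) (.node [(62, 1, 1)] (.node [(75, (-1), 1)] (.node [(99, 1, 1)] .nil .nil) (.node [] (.node [(128, 1, 1)] .nil .nil) .nil)) (.node [(83, (-1), 1)] (.node [(104, 1, 1)] .nil (.node [(132, 1, 1)] .nil .nil)) (.node [] (.node [(131, (-1), 1)] .nil .nil) .nil))))))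
def X115 : Tr (List (ℕ × ℤ × ℕ)) := (.node [] (.node [(122, 1, 1)] (.node [(122, (-1), 1)] (.node [(30, 1, 1)] (.node [(67, (-1), 1)] (.node [] (.node [(119, (-1), 1)] .nil .nil) .nil) .nil) (.node [(78, 1, 1)] .nil .nil)) (.node [] (.node [] (.node [(94, 1, 1)] .nil .nil) .nil) (.node [] (.node [] (.node [(125, (-1), 1)] .nil .nil) .nil) .nil))) (.node [] (.node [(50, (-1), 1)] (.node [(0, 1, 1), (1, 1, 1), (2, 2, 1), (3, 3, 1), (4, 2, 1), (5, 1, 1), (122, (-1), 2)] .nil .nil) (.node [] .nil (.node [(111, 1, 1)] (.node [(130, 1, 1)] .nil .nil) .nil))) (.node [(54, 1, 1)] (.node [] (.node [(97, 1, 1)] .nil .nil) (.node [] (.node [(126, (-1), 1)] .nil .nil) .nil)) (.node [(83, 1, 1)] (.node [(104, (-1), 1)] .nil (.node [(132, (-1), 1)] .nil .nil)) (.node [(116, (-1), 1)] (.node [(131, 1, 1)] .nil .nil) .nil))))) (.node [] (.node [] (.node [(46, (-1), 1)] (.node [(69, 1, 1)] .nil .nil) (.node [] (.node [] (.node [(124, 1,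 1)] .nil .nil) .nil) (.node [(110, (-1), 1)] .nil .nil))) (.node [] (.node [(76, 1, 1)] (.node [(95, (-1), 1)] .nil .nil) .nil) (.node [(82, (-1), 1)] (.node [(103, 1, 1)] .nil .nil) .nil))) (.node [(122, 1, 1)] (.node [] .nil (.node [(81, 1, 1)] (.node [(102, (-1), 1)] .nil .nil) (.node [(113, (-1), 1)] .nil .nil))) (.node [(64, 1, 1)] (.node [(77, (-1), 1)] (.node [] (.node [(123, (-1), 1)] .nil .nil) .nil) .nil) (.node [] .nil (.node [(117, 1, 1)] .nil .nil))))))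
def X116 : Tr (List (ℕ × ℤ × ℕ)) := (.node [] (.node [(123, 1, 1)] (.node [(123, (-1), 1)] (.node [(31, (-1), 1)] (.node [(68, 1, 1)] (.node [] (.node [(120, (-1), 1)] .nil .nil) .nil) .nil) (.node [(79, 1, 1)] (.node [] (.node [(124, (-1), 1)] .nil .nil) .nil) (.node [(110, (-1), 1)] .nil .nil))) (.node [] (.node [(76, 1, 1)] .nil .nil) (.node [(82, (-1), 1)] (.node [(103, 1, 1)] .nil .nil) .nil))) (.node [(123, 1, 1)] (.node [(51, 1, 1)] (.node [(70, 1, 1)] .nil .nil) (.node [(81, 1, 1)] (.node [(102, (-1), 1)] .nil .nil) (.node [(112, 1, 1)] .nil .nil))) (.node [] (.node [(77, (-1), 1)] (.node [(98, 1, 1)] (.node [(122, (-1), 1)] .nil .nil) .nil) (.node [] (.node [(127, (-1), 1)] .nil .nil) .nil)) (.node [(84, 1, 1)] (.node [(105, (-1), 1)] .nil .nil) .nil)))) (.node [] (.node [] (.node [(47, 1, 1)] (.node [(0, 1, 1), (1, 1, 1), (2, 2, 1), (3, 3, 1), (4, 2, 1), (5, 1, 1), (6, 1, 1), (123, (-1), 2)] .nil .nil) (.node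 [] .nil (.node [] (.node [(130, (-1), 1)] .nil .nil) .nil))) (.node [(54, 1, 1)] (.node [] (.node [(96, (-1), 1)] .nil .nil) .nil) (.node [] (.node [] .nil (.node [(132, 1, 1)] .nil .nil)) (.node [(116, (-1), 1)] (.node [(131, (-1), 1)] .nil .nil) .nil)))) (.node [(123, (-1), 1)] (.node [] (.node [] (.node [(94, 1, 1)] .nil .nil) .nil) (.node [] (.node [] (.node [(125, 1, 1)] .nil .nil) .nil) (.node [(114, (-1), 1)] .nil .nil))) (.node [(65, (-1), 1)] .nil (.node [] .nil (.node [(118, 1, 1)] .nil .nil))))))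
def X117 : Tr (List (ℕ × ℤ × ℕ)) := (.node [] (.node [(124, 1, 1)] (.node [(124, (-1), 1)] (.node [(32, 1, 1)] (.node [(0, 1, 1), (1, 1, 1), (2, 2, 1), (3, 3, 1), (4, 2, 1), (5, 2, 1), (6, 1, 1), (124, (-1), 2)] (.node [] (.node [(121, (-1), 1)] .nil .nil) .nil) .nil) (.node [] .nil (.node [(111, (-1), 1)] (.node [(130, 1, 1)] .nil .nil) .nil))) (.node [(54, 1, 1)] (.node [] (.node [(96, (-1), 1)] (.node [(122, 1, 1)] .nil .nil) .nil) .nil) (.node [(83, (-1), 1)] (.node [(104, 1, 1)] .nil (.node [(132, (-1), 1)] .nil .nil)) (.node [] (.node [(131, 1, 1)] .nil .nil) .nil)))) (.node [(124, (-1), 1)] (.node [(52, (-1), 1)] (.node [(72, (-1), 1)] .nil .nil) (.node [] (.node [] (.node [(125, (-1), 1)] .nil .nil) .nil) .nil)) (.node [] (.node [(78, (-1), 1)] (.node [(99, 1, 1)] .nil .nil) (.node [] (.node [(128, (-1), 1)] .nil .nil) .nil)) (.node [] .nil (.node [(118, 1, 1)] .nil .nil))))) (.node [] (.node [(124, 1, 1)] (.node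 [(48, (-1), 1)] (.node [(71, 1, 1)] .nil .nil) (.node [(81, 1, 1)] (.node [(102, (-1), 1)] .nil .nil) (.node [(112, 1, 1)] .nil .nil))) (.node [] (.node [] (.node [] (.node [(123, (-1), 1)] .nil .nil) .nil) .nil) (.node [(84, 1, 1)] (.node [(105, (-1), 1)] .nil .nil) (.node [(117, (-1), 1)] .nil .nil)))) (.node [] (.node [] (.node [(76, 1, 1)] (.node [(95, 1, 1)] .nil .nil) .nil) (.node [] .nil (.node [(115, (-1), 1)] .nil .nil))) (.node [(66, 1, 1)] (.node [(79, 1, 1)] .nil .nil) .nil))))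
def X118 : Tr (List (ℕ × ℤ × ℕ)) := (.node [] (.node [(125, 1, 1)] (.node [] (.node [(33, (-1), 1)] (.node [(73, 1, 1)] .nil .nil) (.node [] .nil (.node [(113, (-1), 1)] .nil .nil))) (.node [] (.node [(78, (-1), 1)] (.node [(98, (-1), 1)] .nil .nil) .nil) .nil)) (.node [] (.node [(53, 1, 1)] (.node [(75, 1, 1)] (.node [] (.node [(123, 1, 1)] .nil .nil) .nil) .nil) (.node [(83, (-1), 1)] (.node [(104, 1, 1)] .nil .nil) (.node [(115, (-1), 1)] .nil .nil))) (.node [] (.node [] .nil (.node [] (.node [(129, (-1), 1)] .nil .nil) .nil)) (.node [] .nil (.node [(120, 1, 1)] .nil .nil))))) (.node [] (.node [(125, (-1), 1)] (.node [(49, 1, 1)] (.node [(74, (-1), 1)] (.node [] (.node [(122, (-1), 1)] .nil .nil) .nil) .nil) (.node [(82, 1, 1)] (.node [(103, (-1), 1)] .nil .nil) (.node [(114, 1, 1)] .nil .nil))) (.node [] (.node [(79, 1, 1)] (.node [(99, 1, 1)] .nil .nil) .nil) (.node [] .nil (.node [(119, (-1), 1)] .nil .nil)))) (.node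 [] (.node [(54, 1, 1)] (.node [(77, 1, 1)] (.node [(97, 1, 1)] (.node [(124, (-1), 1)] .nil .nil) .nil) .nil) (.node [(84, 1, 1)] (.node [(105, (-1), 1)] .nil (.node [(132, 1, 1)] .nil .nil)) (.node [] (.node [(131, (-1), 1)] .nil .nil) .nil))) (.node [(0, 1, 1), (1, 1, 1), (2, 2, 1), (3, 3, 1), (4, 3, 1), (5, 2, 1), (6, 1, 1), (125, (-1), 2)] (.node [] .nil (.node [] (.node [(130, (-1), 1)] .nil .nil) .nil)) (.node [] .nil (.node [(121, (-1), 1)] .nil .nil))))))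
def X119 : Tr (List (ℕ × ℤ × ℕ)) := (.node [] (.node [(126, (-1), 1)] (.node [] (.node [(34, (-1), 1)] (.node [] (.node [(94, 1, 1)] .nil .nil) (.node [(110, (-1), 1)] (.node [(130, 1, 1)] .nil .nil) .nil)) (.node [(88, (-1), 1)] .nil .nil)) (.node [(67, (-1), 1)] (.node [] .nil (.node [(116, 1, 1)] .nil .nil)) (.node [] (.node [] (.node [(129, (-1), 1)] .nil .nil) .nil) .nil))) (.node [] (.node [(60, (-1), 1)] (.node [(85, 1, 1)] (.node [(97, 1, 1)] .nil .nil) (.node [(113, (-1), 1)] .nil .nil)) (.node [] (.node [] .nil (.node [(132, 1, 1)] .nil .nil)) .nil)) (.node [(0, 1, 1), (1, 2, 1), (2, 2, 1), (3, 3, 1), (4, 2, 1), (5, 1, 1), (126, (-1), 2)] (.node [] .nil (.node [(119, 1, 1)] .nil .nil)) (.node [(92, 1, 1)] (.node [(108, (-1), 1)] .nil .nil) .nil)))) (.node [] (.node [] (.node [(55, 1, 1)] (.node [] (.node [(95, (-1), 1)] .nil .nil) (.node [(111, 1, 1)] .nil .nil)) (.node [] (.node [] (.node [(128, 1, 1)] .nil .nil)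 .nil) .nil)) (.node [(69, 1, 1)] (.node [(86, (-1), 1)] .nil (.node [(117, (-1), 1)] (.node [(131, (-1), 1)] .nil .nil) .nil)) (.node [(91, (-1), 1)] (.node [(107, 1, 1)] .nil .nil) .nil))) (.node [(126, 1, 1)] (.node [(64, 1, 1)] .nil (.node [(90, 1, 1)] (.node [(106, (-1), 1)] .nil .nil) .nil)) (.node [] (.node [(87, 1, 1)] (.node [] (.node [(127, (-1), 1)] .nil .nil) .nil) (.node [(122, (-1), 1)] .nil .nil)) .nil))))
def X120 : Tr (List (ℕ × ℤ × ℕ)) := (.node [] (.node [(127, (-1), 1)] (.node [] (.node [(35, 1, 1)] .nil (.node [(89, (-1), 1)] (.node [] (.node [(128, (-1), 1)] .nil .nil) .nil) .nil)) (.node [(68, 1, 1)] (.node [(86, (-1), 1)] .nil (.node [] (.node [(131, 1, 1)] .nil .nil) .nil)) (.node [(91, (-1), 1)] (.node [(107, 1, 1)] .nil .nil) .nil))) (.node [(127, 1, 1)] (.node [(61, 1, 1)] (.node [] (.node [(98, 1, 1)] .nil .nil) (.node [(114, (-1), 1)] .nil .nil)) (.node [(90, 1, 1)] (.node [(106, (-1), 1)] .nil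 .nil) .nil)) (.node [(70, 1, 1)] (.node [(87, 1, 1)] (.node [] (.node [(126, (-1), 1)] .nil .nil) .nil) (.node [(120, 1, 1)] .nil .nil)) (.node [(93, 1, 1)] (.node [(109, (-1), 1)] .nil .nil) .nil)))) (.node [] (.node [] (.node [(56, (-1), 1)] (.node [(85, 1, 1)] (.node [(96, (-1), 1)] .nil .nil) (.node [(112, 1, 1)] .nil .nil)) (.node [] (.node [] .nil (.node [(132, (-1), 1)] .nil .nil)) .nil)) (.node [(0, 1, 1), (1, 2, 1), (2, 2, 1), (3, 3, 1), (4, 2, 1), (5, 1, 1), (6, 1, 1), (127, (-1), 2)] (.node [] .nil (.node [(118, (-1), 1)] .nil .nil)) .nil)) (.node [(127, (-1), 1)] (.node [(65, (-1), 1)] (.node [] .nil (.node [(116, 1, 1)] .nil .nil)) (.node [] (.node [] (.node [(129, 1, 1)] .nil .nil) .nil) .nil)) (.node [] (.node [] .nil (.node [(123, (-1), 1)] .nil .nil)) (.node [(94, 1, 1)] (.node [(110, (-1), 1)] (.node [(130, (-1), 1)] .nil .nil) .nil) .nil)))))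
def X121 : Tr (List (ℕ × ℤ × ℕ)) := (.node [] (.node [(128, (-1), 1)] (.node [] (.node [(36, (-1), 1)] (.node [(85, 1, 1)] (.node [(96, (-1), 1)] .nil .nil) (.node [(112, 1, 1)] .nil .nil)) (.node [] (.node [] .nil (.node [(132, 1, 1)] .nil .nil)) .nil)) (.node [(0, 1, 1), (1, 2, 1), (2, 2, 1), (3, 3, 1), (4, 2, 1), (5, 2, 1), (6, 1, 1), (128, (-1), 2)] (.node [] (.node [] (.node [(126, 1, 1)] .nil .nil) .nil) (.node [(118, (-1), 1)] .nil .nil)) (.node [(92, (-1), 1)] (.node [(108, 1, 1)] .nil .nil) .nil))) (.node [(128, (-1), 1)] (.node [(62, (-1), 1)] (.node [] (.node [(99, 1, 1)] .nil .nil) (.node [(115, (-1), 1)] .nil .nil)) (.node [] (.node [] (.node [(129, (-1), 1)] .nil .nil) .nil) .nil)) (.node [(72, (-1), 1)] (.node [(88, 1, 1)] .nil (.node [(121, 1, 1)] .nil .nil)) (.node [] (.node [] (.node [(130, 1, 1)] .nil .nil) .nil) .nil)))) (.node [] (.node [(128, 1, 1)] (.node [(57, 1, 1)] .nil (.node [(90, 1, 1)] (.node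 [(106, (-1), 1)] .nil .nil) .nil)) (.node [(71, 1, 1)] (.node [] (.node [] (.node [(127, (-1), 1)] .nil .nil) .nil) .nil) (.node [(93, 1, 1)] (.node [(109, (-1), 1)] .nil .nil) .nil))) (.node [] (.node [(66, 1, 1)] (.node [(86, (-1), 1)] .nil (.node [(117, 1, 1)] (.node [(131, (-1), 1)] .nil .nil) .nil)) .nil) (.node [] (.node [(89, (-1), 1)] .nil (.node [(124, (-1), 1)] .nil .nil)) (.node [(95, 1, 1)] (.node [(111, (-1), 1)] .nil .nil) .nil)))))
def X122 : Tr (List (ℕ × ℤ × ℕ)) := (.node [] (.node [(129, (-1), 1)] (.node [(129, 1, 1)] (.node [(37, 1, 1)] (.node [] (.node [(98, (-1), 1)] .nil .nil) (.node [(114, 1, 1)] .nil .nil)) .nil) (.node [(73, 1, 1)] (.node [(88, 1, 1)] .nil (.node [(120, (-1), 1)] .nil .nil)) .nil)) (.node [] (.node [(63, 1, 1)] (.node [] (.node [] (.node [(127, 1, 1)] .nil .nil) .nil) (.node [] (.node [(131, 1, 1)] .nil .nil) .nil)) (.node [(92, (-1), 1)] (.node [(108, 1, 1)] .nil .nil) .nil)) (.node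 [(75, 1, 1)] .nil .nil))) (.node [] (.node [(129, (-1), 1)] (.node [(58, (-1), 1)] (.node [] (.node [(99, 1, 1)] (.node [(126, (-1), 1)] .nil .nil) .nil) (.node [(115, (-1), 1)] .nil .nil)) (.node [(91, 1, 1)] (.node [(107, (-1), 1)] .nil .nil) .nil)) (.node [(74, (-1), 1)] (.node [(89, (-1), 1)] .nil (.node [(121, 1, 1)] .nil .nil)) (.node [] (.node [] (.node [(130, (-1), 1)] .nil .nil) .nil) .nil))) (.node [] (.node [(0, 1, 1), (1, 2, 1), (2, 2, 1), (3, 3, 1), (4, 3, 1), (5, 2, 1), (6, 1, 1), (129, (-1), 2)] (.node [(87, (-1), 1)] (.node [] (.node [(128, (-1), 1)] .nil .nil) .nil) (.node [(119, 1, 1)] .nil .nil)) (.node [(93, 1, 1)] (.node [(109, (-1), 1)] .nil .nil) .nil)) (.node [(85, 1, 1)] (.node [] (.node [] .nil (.node [(132, (-1), 1)] .nil .nil)) (.node [(125, (-1), 1)] .nil .nil)) (.node [(97, 1, 1)] (.node [(113, (-1), 1)] .nil .nil) .nil)))))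
def X123 : Tr (List (ℕ × ℤ × ℕ)) := (.node [] (.node [] (.node [(130, (-1), 1)] (.node [(38, (-1), 1)] (.node [(87, (-1), 1)] (.node [] (.node [(129, (-1), 1)] .nil .nil) .nil) .nil) .nil) (.node [(77, (-1), 1)] (.node [] .nil (.node [(123, (-1), 1)] .nil .nil)) (.node [(97, 1, 1)] (.node [(113, (-1), 1)] .nil .nil) .nil))) (.node [] (.node [(0, 1, 1), (1, 2, 1), (2, 2, 1), (3, 4, 1), (4, 3, 1), (5, 2, 1), (6, 1, 1), (130, (-1), 2)] (.node [(89, (-1), 1)] .nil .nil) (.node [(95, (-1), 1)] (.node [(111, 1, 1)] .nil .nil) .nil)) (.node [(79, (-1), 1)] (.node [] (.node [] .nil (.node [(132, 1, 1)] .nil .nil)) (.node [(125, (-1), 1)] .nil .nil)) (.node [(99, 1, 1)] (.node [(115, (-1), 1)] .nil .nil) (.node [(127, (-1), 1)] .nil .nil))))) (.node [(130, 1, 1)] (.node [] (.node [(59, 1, 1)] (.node [(88, 1, 1)] .nil (.node [] (.node [(131, (-1), 1)] .nil .nil) .nil)) (.node [(94, 1, 1)] (.node [(110, (-1), 1)] .nil .nil) .nil))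 (.node [(78, 1, 1)] (.node [] .nil (.node [(124, 1, 1)] .nil .nil)) (.node [(98, (-1), 1)] (.node [(114, 1, 1)] .nil .nil) (.node [(126, 1, 1)] .nil .nil)))) (.node [] (.node [(76, 1, 1)] (.node [] .nil (.node [(122, 1, 1)] .nil .nil)) (.node [(96, 1, 1)] (.node [(112, (-1), 1)] .nil .nil) .nil)) (.node [(86, 1, 1)] .nil (.node [] .nil (.node [(128, 1, 1)] .nil .nil))))))
def X124 : Tr (List (ℕ × ℤ × ℕ)) := (.node [(131, 1, 1)] (.node [] (.node [] (.node [(39, 1, 1)] (.node [(91, (-1), 1)] .nil (.node [(123, (-1), 1)] .nil .nil)) (.node [(99, 1, 1)] .nil (.node [(126, (-1), 1)] .nil .nil))) (.node [(82, 1, 1)] (.node [(95, (-1), 1)] .nil .nil) (.node [] (.node [(119, (-1), 1)] .nil .nil) (.node [(130, (-1), 1)] .nil .nil)))) (.node [] (.node [(80, 1, 1)] (.node [(93, (-1), 1)] .nil (.node [(125, (-1), 1)] .nil .nil)) (.node [] (.node [(117, 1, 1)] .nil .nil) (.node [(128, (-1), 1)] .nil .nil))) (.node [(84, 1, 1)] (.node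 [(97, 1, 1)] .nil .nil) (.node [] (.node [(121, (-1), 1)] .nil .nil) .nil)))) (.node [(131, (-1), 1)] (.node [] (.node [(0, 1, 1), (1, 2, 1), (2, 3, 1), (3, 4, 1), (4, 3, 1), (5, 2, 1), (6, 1, 1), (131, (-1), 2)] (.node [(92, 1, 1)] .nil (.node [(124, 1, 1)] .nil .nil)) (.node [] (.node [(116, (-1), 1)] .nil .nil) (.node [(127, 1, 1)] .nil .nil))) (.node [(83, (-1), 1)] (.node [(96, 1, 1)] (.node [] .nil (.node [(132, (-1), 1)] .nil .nil)) .nil) (.node [] (.node [(120, 1, 1)] .nil .nil) .nil))) (.node [] (.node [(81, (-1), 1)] (.node [(94, 1, 1)] .nil .nil) (.node [] (.node [(118, (-1), 1)] .nil .nil) (.node [(129, 1, 1)] .nil .nil))) (.node [(90, 1, 1)] (.node [(98, (-1), 1)] .nil .nil) (.node [] (.node [(122, 1, 1)] .nil .nil) .nil)))))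
def X125 : Tr (List (ℕ × ℤ × ℕ)) := (.node [(132, (-1), 1)] (.node [] (.node [] (.node [(0, 2, 1), (1, 2, 1), (2, 3, 1), (3, 4, 1), (4, 3, 1), (5, 2, 1), (6, 1, 1), (132, (-1), 2)] (.node [(107, 1, 1)] (.node [(123, 1, 1)] .nil .nil) .nil) (.node [(115, (-1), 1)] (.node [(131, (-1), 1)] .nil .nil) .nil)) (.node [(103, (-1), 1)] (.node [(111, 1, 1)] (.node [(127, (-1), 1)] .nil .nil) .nil) (.node [(119, 1, 1)] .nil .nil))) (.node [] (.node [(101, (-1), 1)] (.node [(109, 1, 1)] (.node [(125, 1, 1)] .nil .nil) .nil) (.node [(117, (-1), 1)] .nil .nil)) (.node [(105, (-1), 1)] (.node [(113, (-1), 1)] (.node [(129, (-1), 1)] .nil .nil) .nil) (.node [(121, 1, 1)] .nil .nil)))) (.node [] (.node [] (.node [(100, 1, 1)] (.node [(108, (-1), 1)] (.node [(124, (-1), 1)] .nil .nil) .nil) (.node [(116, 1, 1)] .nil .nil)) (.node [(104, 1, 1)] (.node [(112, (-1), 1)] (.node [(128, 1, 1)] .nil .nil) .nil) (.node [(120, (-1), 1)] .nil .nil)))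 (.node [] (.node [(102, 1, 1)] (.node [(110, (-1), 1)] (.node [(126, 1, 1)] .nil .nil) .nil) (.node [(118, 1, 1)] .nil .nil)) (.node [(106, (-1), 1)] (.node [(114, 1, 1)] (.node [(130, 1, 1)] .nil .nil) .nil) (.node [(122, (-1), 1)] .nil .nil)))))
def M0 : Tr (List (ℕ × ℤ × ℕ × ℕ)) := (.node [] (.node [] (.node [] (.node [] (.node [] (.node [] .nil (.node [(3, 1, 1, 1)] .nil .nil)) (.node [] .nil (.node [(19, 1, 1, 1)] .nil .nil))) (.node [] (.node [] .nil (.node [(11, (-1), 1, 1)] .nil .nil)) (.node [] .nil (.node [(27, 1, 1, 1)] .nil .nil)))) (.node [] (.node [] (.node [] .nil (.node [(7, (-1), 1, 1)] .nil .nil)) (.node [] .nil (.node [(23, (-1), 1, 1)] .nil .nil))) (.node [] (.node [] .nil (.node [(15, 1, 1, 1)] .nil .nil)) (.node [] .nil (.node [(31, 1, 1, 1)] .nil .nil))))) (.node [] (.node [] (.node [] (.node [] .nil (.node [(5, 1, 1, 1)] .nil .nil)) (.node [] .nil (.node [(21, (-1), 1, 1)] .nil .nil))) (.node []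 (.node [] .nil (.node [(13, (-1), 1, 1)] .nil .nil)) (.node [] .nil (.node [(29, 1, 1, 1)] .nil .nil)))) (.node [] (.node [] (.node [] .nil (.node [(9, (-1), 1, 1)] .nil .nil)) (.node [] .nil (.node [(25, (-1), 1, 1)] .nil .nil))) (.node [] (.node [] .nil (.node [(17, 1, 1, 1)] .nil .nil)) (.node [] (.node [(1, 1, 1, 1)] .nil .nil) .nil))))) (.node [] (.node [] (.node [] (.node [] (.node [] .nil (.node [(4, (-1), 1, 1)] .nil .nil)) (.node [] .nil (.node [(20, 1, 1, 1)] .nil .nil))) (.node [] (.node [] .nil (.node [(12, 1, 1, 1)] .nil .nil)) (.node [] .nil (.node [(28, (-1), 1, 1)] .nil .nil)))) (.node [] (.node [] (.node [] .nil (.node [(8, 1, 1, 1)] .nil .nil)) (.node [] .nil (.node [(24, 1, 1, 1)] .nil .nil))) (.node [] (.node [] .nil (.node [(16, (-1), 1, 1)] .nil .nil)) (.node [] .nil (.node [(32, (-1), 1, 1)] .nil .nil))))) (.node [] (.node [] (.node [] (.node [] .nil (.node [(6, (-1), 1, 1)] .nil .nil)) (.node []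 .nil (.node [(22, 1, 1, 1)] .nil .nil))) (.node [] (.node [] .nil (.node [(14, (-1), 1, 1)] .nil .nil)) (.node [] .nil (.node [(30, (-1), 1, 1)] .nil .nil)))) (.node [] (.node [] (.node [] .nil (.node [(10, 1, 1, 1)] .nil .nil)) (.node [] .nil (.node [(26, 1, 1, 1)] .nil .nil))) (.node [] (.node [] .nil (.node [(18, (-1), 1, 1)] .nil .nil)) (.node [] (.node [(2, (-1), 1, 1)] .nil .nil) .nil))))))
def C0 : List (ℕ × List (ℕ × ℤ)) := [(93, [(1, 1)]), (94, [(2, (-1))]), (95, [(3, 1)]), (96, [(4, (-1))]), (97, [(5, 1)]), (98, [(6, (-1))]), (99, [(7, (-1))]), (100, [(8, 1)]), (101, [(9, (-1))]), (102, [(10, 1)]), (103, [(11, (-1))]), (104, [(12, 1)]), (105, [(13, (-1))]), (106, [(14, (-1))]), (107, [(15, 1)]), (108, [(16, (-1))]), (109, [(17, 1)]), (110, [(18, (-1))]), (111, [(19, 1)]), (112, [(20, 1)]), (113, [(21, (-1))]), (114, [(22, 1)]), (115, [(23, (-1))]), (116, [(24, 1)]), (117, [(25, (-1))]), (118, [(26, 1)]), (119,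 [(27, 1)]), (120, [(28, (-1))]), (121, [(29, 1)]), (122, [(30, (-1))]), (123, [(31, 1)]), (124, [(32, (-1))])]
def M1 : Tr (List (ℕ × ℤ × ℕ × ℕ)) := (.node [] (.node [] (.node [] (.node [] (.node [] .nil (.node [] .nil (.node [(35, (-1), 1, 1)] .nil .nil))) (.node [] .nil (.node [] (.node [(11, 1, 1, 1)] .nil .nil) (.node [(48, (-1), 1, 1)] .nil .nil)))) (.node [] (.node [] .nil (.node [] (.node [(7, 1, 1, 1)] .nil .nil) (.node [(39, 1, 1, 1)] .nil .nil))) (.node [] (.node [] (.node [(4, 1, 1, 1)] .nil .nil) .nil) (.node [] (.node [(15, (-1), 1, 1)] .nil .nil) (.node [(52, (-1), 1, 1)] .nil .nil))))) (.node [] (.node [] (.node [] .nil (.node [] .nil (.node [(37, 1, 1, 1)] .nil .nil))) (.node [] (.node [] (.node [(2, 1, 1, 1)] .nil .nil) .nil) (.node [] (.node [(13, 1, 1, 1)] .nil .nil) (.node [(50, (-1), 1, 1)] .nil .nil)))) (.node [] (.node [] .nil (.node [] (.node [(9, 1, 1, 1)] .nil .nil) (.node [(41, 1, 1, 1)] .nil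 .nil))) (.node [] (.node [] (.node [(6, 1, 1, 1)] .nil .nil) (.node [(33, (-1), 1, 1)] .nil .nil)) (.node [] .nil (.node [(93, (-1), 1, 1)] .nil .nil)))))) (.node [] (.node [] (.node [] (.node [] (.node [(0, 1, 1, 1)] .nil .nil) (.node [] .nil (.node [(36, (-1), 1, 1)] .nil .nil))) (.node [] .nil (.node [] (.node [(12, (-1), 1, 1)] .nil .nil) (.node [(49, 1, 1, 1)] .nil .nil)))) (.node [] (.node [] .nil (.node [] (.node [(8, (-1), 1, 1)] .nil .nil) (.node [(40, (-1), 1, 1)] .nil .nil))) (.node [] (.node [] (.node [(5, (-1), 1, 1)] .nil .nil) .nil) (.node [] (.node [(16, 1, 1, 1)] .nil .nil) .nil)))) (.node [] (.node [] (.node [] .nil (.node [] .nil (.node [(38, (-1), 1, 1)] .nil .nil))) (.node [] (.node [] (.node [(3, (-1), 1, 1)] .nil .nil) .nil) (.node [] (.node [(14, 1, 1, 1)] .nil .nil) (.node [(51, 1, 1, 1)] .nil .nil)))) (.node [] (.node [] .nil (.node [] (.node [(10, (-1), 1, 1)] .nil .nil) (.node [(42, (-1), 1,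 1)] .nil .nil))) (.node [] (.node [] .nil (.node [(34, 1, 1, 1)] .nil .nil)) .nil)))))
def C1 : List (ℕ × List (ℕ × ℤ)) := [(32, [(0, 1)]), (73, [(2, 1)]), (74, [(3, (-1))]), (75, [(4, 1)]), (76, [(5, (-1))]), (77, [(6, 1)]), (83, [(7, 1)]), (84, [(8, (-1))]), (85, [(9, 1)]), (86, [(10, (-1))]), (87, [(11, 1)]), (88, [(12, (-1))]), (89, [(13, 1)]), (90, [(14, 1)]), (91, [(15, (-1))]), (92, [(16, 1)]), (109, [(33, (-1))]), (110, [(34, 1)]), (111, [(35, (-1))]), (112, [(36, (-1))]), (113, [(37, 1)]), (114, [(38, (-1))]), (115, [(39, 1)]), (116, [(40, (-1))]), (117, [(41, 1)]), (118, [(42, (-1))]), (119, [(48, (-1))]), (120, [(49, 1)]), (121, [(50, (-1))]), (122, [(51, 1)]), (123, [(52, (-1))]), (125, [(93, (-1))])]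
def M2 : Tr (List (ℕ × ℤ × ℕ × ℕ)) := (.node [] (.node [] (.node [] (.node [] (.node [] (.node [(0, (-1), 1, 1)] .nil .nil) (.node [] (.node [(7, 1, 1, 1)] .nil .nil) .nil)) (.node [] (.node [] (.node [(5, 1, 1, 1)] .nil .nil) (.node [(33, (-1), 1, 1)] .nil .nil)) (.node [] (.node [(17, 1, 1, 1)] .nil .nil) (.node [(53, 1, 1, 1)] .nil .nil)))) (.node [] (.node [] .nil (.node [] .nil (.node [(43, 1, 1, 1)] .nil .nil))) (.node [] (.node [] .nil (.node [(37, 1, 1, 1)] .nil .nil)) (.node [] (.node [(21, (-1), 1, 1)] .nil .nil) .nil)))) (.node [] (.node [] (.node [] .nil (.node [] (.node [(9, 1, 1, 1)] .nil .nil) .nil)) (.node [] (.node [] .nil (.node [(35, (-1), 1, 1)] .nil .nil)) (.node [] (.node [(19, 1, 1, 1)] .nil .nil) (.node [(55, 1, 1, 1)] .nil .nil)))) (.node [] (.node [] (.node [] (.node [(3, 1, 1, 1)] .nil .nil) .nil) (.node [] .nil (.node [(45, 1, 1, 1)] .nil .nil))) (.node [] .nil (.node [] .nil (.node [(94, 1,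 1, 1)] .nil .nil)))))) (.node [] (.node [] (.node [] (.node [] .nil (.node [] (.node [(8, (-1), 1, 1)] .nil .nil) .nil)) (.node [] (.node [] (.node [(6, (-1), 1, 1)] .nil .nil) (.node [(34, 1, 1, 1)] .nil .nil)) (.node [] (.node [(18, (-1), 1, 1)] .nil .nil) (.node [(54, (-1), 1, 1)] .nil .nil)))) (.node [] (.node [] .nil (.node [(1, 1, 1, 1)] .nil (.node [(44, (-1), 1, 1)] .nil .nil))) (.node [] (.node [] .nil (.node [(38, (-1), 1, 1)] .nil .nil)) (.node [] (.node [(22, 1, 1, 1)] .nil .nil) (.node [(73, (-1), 1, 1)] .nil .nil))))) (.node [] (.node [] (.node [] .nil (.node [] (.node [(10, (-1), 1, 1)] .nil .nil) .nil)) (.node [] (.node [] .nil (.node [(36, (-1), 1, 1)] .nil .nil)) (.node [] (.node [(20, 1, 1, 1)] .nil .nil) (.node [(56, (-1), 1, 1)] .nil .nil)))) (.node [] (.node [] (.node [] (.node [(4, (-1), 1, 1)] .nil .nil) .nil) (.node [] .nil (.node [(46, (-1), 1, 1)] .nil .nil))) .nil))))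
def C2 : List (ℕ × List (ℕ × ℤ)) := [(31, [(0, (-1))]), (52, [(1, 1)]), (69, [(3, 1)]), (70, [(4, (-1))]), (71, [(5, 1)]), (72, [(6, (-1))]), (79, [(7, 1)]), (80, [(8, (-1))]), (81, [(9, 1)]), (82, [(10, (-1))]), (87, [(17, 1)]), (88, [(18, (-1))]), (89, [(19, 1)]), (90, [(20, 1)]), (91, [(21, (-1))]), (92, [(22, 1)]), (103, [(33, (-1))]), (104, [(34, 1)]), (105, [(35, (-1))]), (106, [(36, (-1))]), (107, [(37, 1)]), (108, [(38, (-1))]), (115, [(43, 1)]), (116, [(44, (-1))]), (117, [(45, 1)]), (118, [(46, (-1))]), (119, [(53, 1)]), (120, [(54, (-1))]), (121, [(55, 1)]), (122, [(56, (-1))]), (124, [(73, (-1))]), (125, [(94, 1)])]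
def M3 : Tr (List (ℕ × ℤ × ℕ × ℕ)) := (.node [] (.node [] (.node [] (.node [] .nil (.node [] .nil (.node [] .nil (.node [(57, (-1), 1, 1)] .nil .nil)))) (.node [] (.node [] (.node [] (.node [(5, (-1), 1, 1)] .nil .nil) .nil) (.node [(1, (-1), 1, 1)] .nil .nil)) (.node [] (.node [] .nil (.node [(40, 1, 1, 1)] .nil .nil)) (.node [] (.node [(24, (-1), 1, 1)] .nil .nil) (.node [(69, (-1), 1, 1)] .nil .nil))))) (.node [] (.node [] (.node [] .nil (.node [] (.node [(12, 1, 1, 1)] .nil .nil) (.node [(44, (-1), 1, 1)] .nil .nil))) (.node [] .nil (.node [] .nil (.node [(59, (-1), 1, 1)] .nil .nil)))) (.node [] (.node [] (.node [] .nil (.node [(34, 1, 1, 1)] .nil .nil)) (.node [] (.node [(18, (-1), 1, 1)] .nil .nil) .nil)) (.node [] .nil (.node [] .nil (.node [(95, (-1), 1, 1)] .nil .nil)))))) (.node [] (.node [] (.node [] (.node [] .nil (.node [] (.node [(11, (-1), 1, 1)] .nil .nil) (.node [(43, 1, 1, 1)] .nil .nil))) (.node [] .nil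 (.node [(2, 1, 1, 1)] .nil (.node [(58, 1, 1, 1)] .nil .nil)))) (.node [] (.node [] (.node [] (.node [(6, 1, 1, 1)] .nil .nil) (.node [(33, (-1), 1, 1)] .nil .nil)) (.node [] (.node [(17, 1, 1, 1)] .nil .nil) .nil)) (.node [] (.node [] .nil (.node [(41, (-1), 1, 1)] .nil .nil)) (.node [] (.node [(25, 1, 1, 1)] .nil .nil) (.node [(74, 1, 1, 1)] .nil .nil))))) (.node [] (.node [] (.node [] (.node [] (.node [(4, 1, 1, 1)] .nil .nil) .nil) (.node [] (.node [(13, (-1), 1, 1)] .nil .nil) (.node [(45, 1, 1, 1)] .nil .nil))) (.node [] (.node [] .nil (.node [(39, (-1), 1, 1)] .nil .nil)) (.node [] (.node [(23, 1, 1, 1)] .nil .nil) .nil))) (.node [] (.node [] (.node [] .nil (.node [(35, (-1), 1, 1)] .nil .nil)) (.node [] (.node [(19, 1, 1, 1)] .nil .nil) (.node [(47, (-1), 1, 1)] .nil .nil))) (.node [(0, 1, 1, 1)] (.node [] (.node [(7, 1, 1, 1)] .nil .nil) .nil) .nil)))))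
def C3 : List (ℕ × List (ℕ × ℤ)) := [(30, [(0, 1)]), (51, [(1, (-1))]), (56, [(2, 1)]), (66, [(4, 1)]), (67, [(5, (-1))]), (68, [(6, 1)]), (78, [(7, 1)]), (80, [(11, (-1))]), (81, [(12, 1)]), (82, [(13, (-1))]), (84, [(17, 1)]), (85, [(18, (-1))]), (86, [(19, 1)]), (90, [(23, 1)]), (91, [(24, (-1))]), (92, [(25, 1)]), (100, [(33, (-1))]), (101, [(34, 1)]), (102, [(35, (-1))]), (106, [(39, (-1))]), (107, [(40, 1)]), (108, [(41, (-1))]), (112, [(43, 1)]), (113, [(44, (-1))]), (114, [(45, 1)]), (118, [(47, (-1))]), (119, [(57, (-1))]), (120, [(58, 1)]), (121, [(59, (-1))]), (123, [(69, (-1))]), (124, [(74, 1)]), (125, [(95, (-1))])]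
def M4 : Tr (List (ℕ × ℤ × ℕ × ℕ)) := (.node [] (.node [] (.node [] (.node [] (.node [] .nil (.node [] (.node [(11, (-1), 1, 1)] .nil .nil) (.node [(44, (-1), 1, 1)] .nil .nil))) (.node [] .nil (.node [(2, (-1), 1, 1)] .nil (.node [(60, 1, 1, 1)] .nil .nil)))) (.node [] (.node [] (.node [] .nil (.node [(33, (-1), 1, 1)] .nil .nil)) (.node [] (.node [(17, 1, 1, 1)] .nil .nil) .nil)) (.node [] .nil (.node [(3, 1, 1, 1)] .nil (.node [(70, 1, 1, 1)] .nil .nil))))) (.node [] (.node [] (.node [] (.node [] (.node [(6, (-1), 1, 1)] .nil .nil) .nil) (.node [] (.node [(14, 1, 1, 1)] .nil .nil) .nil)) (.node [] (.node [] .nil (.node [(40, 1, 1, 1)] .nil .nil)) (.node [] (.node [(24, (-1), 1, 1)] .nil .nil) .nil))) (.node [] (.node [] (.node [] .nil (.node [(36, 1, 1, 1)] .nil .nil)) (.node [] (.node [(20, (-1), 1, 1)] .nil .nil) (.node [(47, (-1), 1, 1)] .nil .nil))) (.node [(0, (-1), 1, 1)] .nil (.node [] .nil (.node [(96, 1, 1,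 1)] .nil .nil)))))) (.node [] (.node [] (.node [] (.node [] (.node [] (.node [(5, 1, 1, 1)] .nil .nil) .nil) .nil) (.node [] (.node [] .nil (.node [(39, (-1), 1, 1)] .nil .nil)) (.node [] (.node [(23, 1, 1, 1)] .nil .nil) (.node [(61, (-1), 1, 1)] .nil .nil)))) (.node [] .nil (.node [] (.node [] .nil (.node [(42, (-1), 1, 1)] .nil .nil)) (.node [] (.node [(26, 1, 1, 1)] .nil .nil) (.node [(75, (-1), 1, 1)] .nil .nil))))) (.node [] (.node [] (.node [] .nil (.node [(1, 1, 1, 1)] (.node [(15, (-1), 1, 1)] .nil .nil) (.node [(46, 1, 1, 1)] .nil .nil))) (.node [] .nil (.node [] .nil (.node [(66, (-1), 1, 1)] .nil .nil)))) (.node [] (.node [] (.node [] .nil (.node [(37, (-1), 1, 1)] .nil .nil)) (.node [] (.node [(21, 1, 1, 1)] .nil .nil) .nil)) (.node [] (.node [] (.node [(8, 1, 1, 1)] .nil .nil) (.node [(43, 1, 1, 1)] .nil .nil)) .nil)))))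
def C4 : List (ℕ × List (ℕ × ℤ)) := [(29, [(0, (-1))]), (50, [(1, 1)]), (55, [(2, (-1))]), (59, [(3, 1)]), (64, [(5, 1)]), (65, [(6, (-1))]), (78, [(8, 1)]), (79, [(11, (-1))]), (81, [(14, 1)]), (82, [(15, (-1))]), (83, [(17, 1)]), (85, [(20, (-1))]), (86, [(21, 1)]), (88, [(23, 1)]), (89, [(24, (-1))]), (92, [(26, 1)]), (99, [(33, (-1))]), (101, [(36, 1)]), (102, [(37, (-1))]), (104, [(39, (-1))]), (105, [(40, 1)]), (108, [(42, (-1))]), (110, [(43, 1)]), (111, [(44, (-1))]), (114, [(46, 1)]), (117, [(47, (-1))]), (119, [(60, 1)]), (120, [(61, (-1))]), (122, [(66, (-1))]), (123, [(70, 1)]), (124, [(75, (-1))]), (125, [(96, 1)])]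
def M5 : Tr (List (ℕ × ℤ × ℕ × ℕ)) := (.node [] (.node [] (.node [] (.node [] (.node [] (.node [] (.node [(6, 1, 1, 1)] .nil .nil) .nil) (.node [] (.node [(12, (-1), 1, 1)] .nil .nil) (.node [(45, (-1), 1, 1)] .nil .nil))) (.node [] (.node [] .nil (.node [(39, (-1), 1, 1)] .nil .nil)) (.node [] (.node [(23, 1, 1, 1)] .nil .nil) (.node [(62, (-1), 1, 1)] .nil .nil)))) (.node [] (.node [] (.node [] .nil (.node [(34, (-1), 1, 1)] .nil .nil)) (.node [] (.node [(18, 1, 1, 1)] .nil .nil) .nil)) (.node [] (.node [] .nil (.node [(42, (-1), 1, 1)] .nil .nil)) (.node [] (.node [(26, 1, 1, 1)] .nil .nil) (.node [(71, (-1), 1, 1)] .nil .nil))))) (.node [] (.node [] (.node [] .nil (.node [(1, (-1), 1, 1)] .nil (.node [(46, 1, 1, 1)] .nil .nil))) (.node [] (.node [] .nil (.node [(41, 1, 1, 1)] .nil .nil)) (.node [] (.node [(25, (-1), 1, 1)] .nil .nil) (.node [(64, (-1), 1, 1)] .nil .nil)))) (.node [] .nil (.node [] (.node [] .nil (.node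 [(43, 1, 1, 1)] .nil .nil)) (.node [(4, 1, 1, 1)] .nil (.node [(97, (-1), 1, 1)] .nil .nil)))))) (.node [] (.node [] (.node [] (.node [] .nil (.node [] (.node [(14, 1, 1, 1)] .nil .nil) .nil)) .nil) (.node [] (.node [] (.node [] .nil (.node [(36, 1, 1, 1)] .nil .nil)) (.node [] (.node [(20, (-1), 1, 1)] .nil .nil) (.node [(47, (-1), 1, 1)] .nil .nil))) (.node [(0, 1, 1, 1)] .nil (.node [] .nil (.node [(76, 1, 1, 1)] .nil .nil))))) (.node [] (.node [] (.node [] .nil (.node [] (.node [(16, (-1), 1, 1)] .nil .nil) .nil)) (.node [] .nil (.node [(3, (-1), 1, 1)] .nil (.node [(67, 1, 1, 1)] .nil .nil)))) (.node [] (.node [] (.node [] .nil (.node [(38, (-1), 1, 1)] .nil .nil)) (.node [(2, 1, 1, 1)] (.node [(22, 1, 1, 1)] .nil .nil) .nil)) (.node [] (.node [] (.node [(9, 1, 1, 1)] .nil .nil) .nil) .nil)))))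
def C5 : List (ℕ × List (ℕ × ℤ)) := [(28, [(0, 1)]), (49, [(1, (-1))]), (54, [(2, 1)]), (58, [(3, (-1))]), (61, [(4, 1)]), (63, [(6, 1)]), (78, [(9, 1)]), (79, [(12, (-1))]), (80, [(14, 1)]), (82, [(16, (-1))]), (83, [(18, 1)]), (84, [(20, (-1))]), (86, [(22, 1)]), (87, [(23, 1)]), (89, [(25, (-1))]), (91, [(26, 1)]), (99, [(34, (-1))]), (100, [(36, 1)]), (102, [(38, (-1))]), (103, [(39, (-1))]), (105, [(41, 1)]), (107, [(42, (-1))]), (109, [(43, 1)]), (111, [(45, (-1))]), (113, [(46, 1)]), (116, [(47, (-1))]), (119, [(62, (-1))]), (121, [(64, (-1))]), (122, [(67, 1)]), (123, [(71, (-1))]), (124, [(76, 1)]), (125, [(97, (-1))])]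
def M6 : Tr (List (ℕ × ℤ × ℕ × ℕ)) := (.node [] (.node [] (.node [] (.node [] (.node [] .nil (.node [] (.node [(13, (-1), 1, 1)] .nil .nil) .nil)) (.node [] (.node [] .nil (.node [(40, (-1), 1, 1)] .nil .nil)) (.node [] (.node [(24, 1, 1, 1)] .nil .nil) .nil))) (.node [] (.node [] (.node [] .nil (.node [(35, (-1), 1, 1)] .nil .nil)) (.node [] (.node [(19, 1, 1, 1)] .nil .nil) (.node [(47, (-1), 1, 1)] .nil .nil))) (.node [(0, (-1), 1, 1)] .nil (.node [] .nil (.node [(72, 1, 1, 1)] .nil .nil))))) (.node [] (.node [] (.node [] .nil (.node [] (.node [(16, (-1), 1, 1)] .nil .nil) .nil)) (.node [] .nil (.node [(3, 1, 1, 1)] .nil (.node [(65, 1, 1, 1)] .nil .nil)))) (.node [] (.node [] (.node [] .nil (.node [(38, (-1), 1, 1)] .nil .nil)) (.node [(2, (-1), 1, 1)] (.node [(22, 1, 1, 1)] .nil .nil) .nil)) (.node [] (.node [] .nil (.node [(44, 1, 1, 1)] .nil .nil)) (.node [] .nil (.node [(98, 1, 1, 1)] .nil .nil)))))) (.node [] (.node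 [] (.node [] (.node [] .nil (.node [(1, 1, 1, 1)] (.node [(15, 1, 1, 1)] .nil .nil) (.node [(46, 1, 1, 1)] .nil .nil))) (.node [] (.node [] .nil (.node [(41, 1, 1, 1)] .nil .nil)) (.node [] (.node [(25, (-1), 1, 1)] .nil .nil) (.node [(63, (-1), 1, 1)] .nil .nil)))) (.node [] (.node [] (.node [] .nil (.node [(37, 1, 1, 1)] .nil .nil)) (.node [] (.node [(21, (-1), 1, 1)] .nil .nil) .nil)) (.node [] .nil (.node [(4, (-1), 1, 1)] .nil (.node [(77, (-1), 1, 1)] .nil .nil))))) (.node [] (.node [] .nil (.node [] (.node [] .nil (.node [(42, (-1), 1, 1)] .nil .nil)) (.node [] (.node [(26, 1, 1, 1)] .nil .nil) (.node [(68, (-1), 1, 1)] .nil .nil)))) (.node [] .nil (.node [] (.node [] (.node [(10, 1, 1, 1)] .nil .nil) (.node [(45, (-1), 1, 1)] .nil .nil)) (.node [(5, 1, 1, 1)] .nil .nil))))))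
def C6 : List (ℕ × List (ℕ × ℤ)) := [(27, [(0, (-1))]), (48, [(1, 1)]), (53, [(2, (-1))]), (57, [(3, 1)]), (60, [(4, (-1))]), (62, [(5, 1)]), (78, [(10, 1)]), (79, [(13, (-1))]), (80, [(15, 1)]), (81, [(16, (-1))]), (83, [(19, 1)]), (84, [(21, (-1))]), (85, [(22, 1)]), (87, [(24, 1)]), (88, [(25, (-1))]), (90, [(26, 1)]), (99, [(35, (-1))]), (100, [(37, 1)]), (101, [(38, (-1))]), (103, [(40, (-1))]), (104, [(41, 1)]), (106, [(42, (-1))]), (109, [(44, 1)]), (110, [(45, (-1))]), (112, [(46, 1)]), (115, [(47, (-1))]), (120, [(63, (-1))]), (121, [(65, 1)]), (122, [(68, (-1))]), (123, [(72, 1)]), (124, [(77, (-1))]), (125, [(98, 1)])]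
def M7 : Tr (List (ℕ × ℤ × ℕ × ℕ)) := (.node [] (.node [] (.node [] (.node [] (.node [] .nil (.node [(3, 1, 1, 1)] .nil .nil)) (.node [] (.node [] (.node [(12, (-1), 1, 1)] .nil .nil) .nil) .nil)) (.node [] (.node [] (.node [] (.node [(9, (-1), 1, 1)] .nil .nil) .nil) (.node [] .nil (.node [(57, (-1), 1, 1)] .nil .nil))) (.node [] (.node [] (.node [(17, 1, 1, 1)] .nil .nil) (.node [(49, 1, 1, 1)] .nil .nil)) (.node [] (.node [(28, (-1), 1, 1)] .nil .nil) (.node [(79, (-1), 1, 1)] .nil .nil))))) (.node [] (.node [] (.node [] (.node [] .nil (.node [(34, 1, 1, 1)] .nil .nil)) (.node [] .nil (.node [(54, 1, 1, 1)] .nil .nil))) .nil) (.node [] (.node [] .nil (.node [] .nil (.node [(59, (-1), 1, 1)] .nil .nil))) (.node [] (.node [] (.node [(19, 1, 1, 1)] .nil .nil) .nil) (.node [] .nil (.node [(99, 1, 1, 1)] .nil .nil)))))) (.node [] (.node [] (.node [] (.node [] (.node [] .nil (.node [(33, (-1), 1, 1)] .nil .nil)) (.node []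 .nil (.node [(53, (-1), 1, 1)] .nil .nil))) (.node [] (.node [] (.node [(13, 1, 1, 1)] .nil .nil) .nil) .nil)) (.node [] (.node [] (.node [] (.node [(10, 1, 1, 1)] .nil .nil) .nil) (.node [] .nil (.node [(58, 1, 1, 1)] .nil .nil))) (.node [] (.node [] (.node [(18, (-1), 1, 1)] .nil .nil) (.node [(50, (-1), 1, 1)] .nil .nil)) (.node [] (.node [(29, 1, 1, 1)] .nil .nil) (.node [(83, (-1), 1, 1)] .nil .nil))))) (.node [] (.node [] (.node [] (.node [] (.node [(8, 1, 1, 1)] .nil .nil) (.node [(35, (-1), 1, 1)] .nil .nil)) (.node [] .nil (.node [(55, (-1), 1, 1)] .nil .nil))) (.node [(0, (-1), 1, 1)] (.node [(1, 1, 1, 1)] .nil (.node [(48, (-1), 1, 1)] .nil .nil)) (.node [] (.node [(27, 1, 1, 1)] .nil .nil) (.node [(78, (-1), 1, 1)] .nil .nil)))) (.node [] (.node [] (.node [] (.node [(11, 1, 1, 1)] .nil .nil) .nil) .nil) (.node [] (.node [(2, 1, 1, 1)] .nil .nil) .nil)))))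
def C7 : List (ℕ × List (ℕ × ℤ)) := [(26, [(0, (-1))]), (42, [(1, 1)]), (46, [(2, 1)]), (47, [(3, 1)]), (66, [(8, 1)]), (67, [(9, (-1))]), (68, [(10, 1)]), (70, [(11, 1)]), (71, [(12, (-1))]), (72, [(13, 1)]), (75, [(17, 1)]), (76, [(18, (-1))]), (77, [(19, 1)]), (90, [(27, 1)]), (91, [(28, (-1))]), (92, [(29, 1)]), (96, [(33, (-1))]), (97, [(34, 1)]), (98, [(35, (-1))]), (106, [(48, (-1))]), (107, [(49, 1)]), (108, [(50, (-1))]), (112, [(53, (-1))]), (113, [(54, 1)]), (114, [(55, (-1))]), (115, [(57, (-1))]), (116, [(58, 1)]), (117, [(59, (-1))]), (122, [(78, (-1))]), (123, [(79, (-1))]), (124, [(83, (-1))]), (125, [(99, 1)])]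
def M8 : Tr (List (ℕ × ℤ × ℕ × ℕ)) := (.node [] (.node [] (.node [] (.node [] (.node [] (.node [] .nil (.node [(33, (-1), 1, 1)] .nil .nil)) (.node [(4, 1, 1, 1)] .nil (.node [(54, 1, 1, 1)] .nil .nil))) (.node [] (.node [] (.node [(14, (-1), 1, 1)] .nil .nil) .nil) .nil)) (.node [] (.node [] .nil (.node [] .nil (.node [(60, 1, 1, 1)] .nil .nil))) (.node [] .nil (.node [(7, 1, 1, 1)] .nil (.node [(80, 1, 1, 1)] .nil .nil))))) (.node [] (.node [] (.node [] (.node [] (.node [(10, (-1), 1, 1)] .nil .nil) (.node [(36, 1, 1, 1)] .nil .nil)) .nil) (.node [(0, 1, 1, 1)] (.node [(1, (-1), 1, 1)] .nil (.node [(49, 1, 1, 1)] .nil .nil)) (.node [] (.node [(28, (-1), 1, 1)] .nil .nil) (.node [(78, (-1), 1, 1)] .nil .nil)))) (.node [] (.node [] (.node [] (.node [(11, 1, 1, 1)] .nil .nil) .nil) .nil) (.node [] (.node [(2, (-1), 1, 1)] (.node [(21, 1, 1, 1)] .nil .nil) .nil) (.node [] .nil (.node [(100, (-1), 1, 1)] .nil .nil)))))) (.node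 [] (.node [] (.node [] (.node [] (.node [] (.node [(9, 1, 1, 1)] .nil .nil) .nil) .nil) (.node [] (.node [] (.node [(15, 1, 1, 1)] .nil .nil) (.node [(48, (-1), 1, 1)] .nil .nil)) (.node [] (.node [(27, 1, 1, 1)] .nil .nil) .nil))) (.node [] (.node [] .nil (.node [] .nil (.node [(61, (-1), 1, 1)] .nil .nil))) (.node [] (.node [] (.node [(20, (-1), 1, 1)] .nil .nil) (.node [(51, (-1), 1, 1)] .nil .nil)) (.node [] (.node [(30, 1, 1, 1)] .nil .nil) (.node [(84, 1, 1, 1)] .nil .nil))))) (.node [] (.node [] (.node [] (.node [] .nil (.node [(37, (-1), 1, 1)] .nil .nil)) (.node [] .nil (.node [(56, (-1), 1, 1)] .nil .nil))) (.node [] (.node [] (.node [(17, 1, 1, 1)] .nil .nil) .nil) .nil)) (.node [] (.node [] .nil (.node [] .nil (.node [(66, (-1), 1, 1)] .nil .nil))) (.node [] (.node [] .nil (.node [(53, (-1), 1, 1)] .nil .nil)) .nil)))))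
def C8 : List (ℕ × List (ℕ × ℤ)) := [(25, [(0, 1)]), (41, [(1, (-1))]), (45, [(2, (-1))]), (47, [(4, 1)]), (59, [(7, 1)]), (64, [(9, 1)]), (65, [(10, (-1))]), (69, [(11, 1)]), (71, [(14, (-1))]), (72, [(15, 1)]), (74, [(17, 1)]), (76, [(20, (-1))]), (77, [(21, 1)]), (88, [(27, 1)]), (89, [(28, (-1))]), (92, [(30, 1)]), (95, [(33, (-1))]), (97, [(36, 1)]), (98, [(37, (-1))]), (104, [(48, (-1))]), (105, [(49, 1)]), (108, [(51, (-1))]), (110, [(53, (-1))]), (111, [(54, 1)]), (114, [(56, (-1))]), (115, [(60, 1)]), (116, [(61, (-1))]), (118, [(66, (-1))]), (121, [(78, (-1))]), (123, [(80, 1)]), (124, [(84, 1)]), (125, [(100, (-1))])]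
def M9 : Tr (List (ℕ × ℤ × ℕ × ℕ)) := (.node [] (.node [] (.node [] (.node [] (.node [] (.node [] (.node [(10, 1, 1, 1)] .nil .nil) (.node [(34, (-1), 1, 1)] .nil .nil)) (.node [(5, 1, 1, 1)] .nil (.node [(55, 1, 1, 1)] .nil .nil))) (.node [] (.node [] .nil (.node [(48, (-1), 1, 1)] .nil .nil)) (.node [] (.node [(27, 1, 1, 1)] .nil .nil) .nil))) (.node [] (.node [] .nil (.node [] .nil (.node [(62, (-1), 1, 1)] .nil .nil))) (.node [] (.node [] (.node [(20, (-1), 1, 1)] .nil .nil) (.node [(51, (-1), 1, 1)] .nil .nil)) (.node [] (.node [(30, 1, 1, 1)] .nil .nil) (.node [(81, (-1), 1, 1)] .nil .nil))))) (.node [] (.node [] (.node [] .nil (.node [] .nil (.node [(56, (-1), 1, 1)] .nil .nil))) (.node [] (.node [] .nil (.node [(50, 1, 1, 1)] .nil .nil)) (.node [] (.node [(29, (-1), 1, 1)] .nil .nil) .nil))) (.node [] (.node [] (.node [] (.node [(12, 1, 1, 1)] .nil .nil) .nil) (.node [] .nil (.node [(64, (-1), 1, 1)] .nil .nil)))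 (.node [] (.node [] (.node [(22, 1, 1, 1)] .nil .nil) (.node [(53, (-1), 1, 1)] .nil .nil)) (.node [(8, 1, 1, 1)] .nil (.node [(101, 1, 1, 1)] .nil .nil)))))) (.node [] (.node [] (.node [] (.node [] (.node [] .nil (.node [(36, 1, 1, 1)] .nil .nil)) .nil) (.node [(0, (-1), 1, 1)] (.node [(1, 1, 1, 1)] (.node [(16, 1, 1, 1)] .nil .nil) .nil) (.node [] .nil (.node [(78, (-1), 1, 1)] .nil .nil)))) (.node [] .nil (.node [] (.node [(2, 1, 1, 1)] .nil .nil) (.node [] .nil (.node [(85, (-1), 1, 1)] .nil .nil))))) (.node [] (.node [] (.node [] (.node [] .nil (.node [(38, (-1), 1, 1)] .nil .nil)) .nil) (.node [] (.node [] (.node [(18, 1, 1, 1)] .nil .nil) .nil) (.node [(7, (-1), 1, 1)] .nil .nil))) (.node [] (.node [] (.node [] (.node [(14, (-1), 1, 1)] .nil .nil) .nil) (.node [] .nil (.node [(67, 1, 1, 1)] .nil .nil))) .nil))))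
def C9 : List (ℕ × List (ℕ × ℤ)) := [(24, [(0, (-1))]), (40, [(1, 1)]), (44, [(2, 1)]), (47, [(5, 1)]), (58, [(7, (-1))]), (61, [(8, 1)]), (63, [(10, 1)]), (69, [(12, 1)]), (70, [(14, (-1))]), (72, [(16, 1)]), (74, [(18, 1)]), (75, [(20, (-1))]), (77, [(22, 1)]), (87, [(27, 1)]), (89, [(29, (-1))]), (91, [(30, 1)]), (95, [(34, (-1))]), (96, [(36, 1)]), (98, [(38, (-1))]), (103, [(48, (-1))]), (105, [(50, 1)]), (107, [(51, (-1))]), (109, [(53, (-1))]), (111, [(55, 1)]), (113, [(56, (-1))]), (115, [(62, (-1))]), (117, [(64, (-1))]), (118, [(67, 1)]), (120, [(78, (-1))]), (123, [(81, (-1))]), (124, [(85, (-1))]), (125, [(101, 1)])]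
def M10 : Tr (List (ℕ × ℤ × ℕ × ℕ)) := (.node [] (.node [] (.node [] (.node [] (.node [] (.node [] .nil (.node [(35, (-1), 1, 1)] .nil .nil)) (.node [(6, 1, 1, 1)] .nil .nil)) (.node [(0, 1, 1, 1)] (.node [(1, (-1), 1, 1)] (.node [(16, 1, 1, 1)] .nil .nil) (.node [(49, (-1), 1, 1)] .nil .nil)) (.node [] (.node [(28, 1, 1, 1)] .nil .nil) (.node [(78, (-1), 1, 1)] .nil .nil)))) (.node [] .nil (.node [] (.node [(2, (-1), 1, 1)] (.node [(21, (-1), 1, 1)] .nil .nil) .nil) (.node [] .nil (.node [(82, 1, 1, 1)] .nil .nil))))) (.node [] (.node [] (.node [] (.node [] .nil (.node [(38, (-1), 1, 1)] .nil .nil)) .nil) (.node [] .nil (.node [(7, 1, 1, 1)] .nil .nil))) (.node [] (.node [] (.node [] (.node [(13, 1, 1, 1)] .nil .nil) .nil) (.node [] .nil (.node [(65, 1, 1, 1)] .nil .nil))) (.node [] (.node [] .nil (.node [(54, (-1), 1, 1)] .nil .nil)) (.node [] .nil (.node [(102, (-1), 1, 1)] .nil .nil)))))) (.node [] (.node [] (.node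 [] (.node [] (.node [] .nil (.node [(37, 1, 1, 1)] .nil .nil)) (.node [] .nil (.node [(56, (-1), 1, 1)] .nil .nil))) (.node [] (.node [] .nil (.node [(50, 1, 1, 1)] .nil .nil)) (.node [] (.node [(29, (-1), 1, 1)] .nil .nil) .nil))) (.node [] (.node [] .nil (.node [] .nil (.node [(63, (-1), 1, 1)] .nil .nil))) (.node [] (.node [] (.node [(22, 1, 1, 1)] .nil .nil) .nil) (.node [(8, (-1), 1, 1)] .nil (.node [(86, 1, 1, 1)] .nil .nil))))) (.node [] (.node [] .nil (.node [] (.node [] (.node [(19, 1, 1, 1)] .nil .nil) (.node [(51, (-1), 1, 1)] .nil .nil)) (.node [] (.node [(30, 1, 1, 1)] .nil .nil) .nil))) (.node [] (.node [] (.node [] (.node [(15, (-1), 1, 1)] .nil .nil) .nil) (.node [] .nil (.node [(68, (-1), 1, 1)] .nil .nil))) (.node [] (.node [] .nil (.node [(55, 1, 1, 1)] .nil .nil)) (.node [(9, 1, 1, 1)] .nil .nil))))))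
def C10 : List (ℕ × List (ℕ × ℤ)) := [(23, [(0, 1)]), (39, [(1, (-1))]), (43, [(2, (-1))]), (47, [(6, 1)]), (57, [(7, 1)]), (60, [(8, (-1))]), (62, [(9, 1)]), (69, [(13, 1)]), (70, [(15, (-1))]), (71, [(16, 1)]), (74, [(19, 1)]), (75, [(21, (-1))]), (76, [(22, 1)]), (87, [(28, 1)]), (88, [(29, (-1))]), (90, [(30, 1)]), (95, [(35, (-1))]), (96, [(37, 1)]), (97, [(38, (-1))]), (103, [(49, (-1))]), (104, [(50, 1)]), (106, [(51, (-1))]), (109, [(54, (-1))]), (110, [(55, 1)]), (112, [(56, (-1))]), (116, [(63, (-1))]), (117, [(65, 1)]), (118, [(68, (-1))]), (119, [(78, (-1))]), (123, [(82, 1)]), (124, [(86, 1)]), (125, [(102, (-1))])]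
def M11 : Tr (List (ℕ × ℤ × ℕ × ℕ)) := (.node [] (.node [] (.node [] (.node [] (.node [] .nil (.node [] .nil (.node [(58, (-1), 1, 1)] .nil .nil))) (.node [] .nil (.node [(7, 1, 1, 1)] .nil .nil))) (.node [] (.node [] (.node [] (.node [(14, 1, 1, 1)] .nil .nil) .nil) .nil) .nil)) (.node [] (.node [] (.node [] (.node [] (.node [(13, (-1), 1, 1)] .nil .nil) (.node [(39, 1, 1, 1)] .nil .nil)) (.node [] .nil (.node [(61, (-1), 1, 1)] .nil .nil))) (.node [] (.node [] (.node [(17, 1, 1, 1)] .nil .nil) .nil) (.node [] .nil (.node [(79, 1, 1, 1)] .nil .nil)))) (.node [] (.node [] (.node [] .nil (.node [(48, (-1), 1, 1)] .nil .nil)) (.node [] (.node [(27, 1, 1, 1)] .nil .nil) (.node [(69, (-1), 1, 1)] .nil .nil))) (.node [] (.node [(3, (-1), 1, 1)] (.node [(24, 1, 1, 1)] .nil .nil) .nil) (.node [] .nil (.node [(103, 1, 1, 1)] .nil .nil)))))) (.node [] (.node [] (.node [] (.node [] (.node [] (.node [(12, 1, 1, 1)] .nil .nil) .nil)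 (.node [] .nil (.node [(60, 1, 1, 1)] .nil .nil))) (.node [] .nil (.node [(8, 1, 1, 1)] .nil .nil))) (.node [] (.node [] (.node [] (.node [(15, (-1), 1, 1)] .nil .nil) .nil) .nil) (.node [] (.node [] (.node [(23, (-1), 1, 1)] .nil .nil) (.node [(52, (-1), 1, 1)] .nil .nil)) (.node [] (.node [(31, 1, 1, 1)] .nil .nil) (.node [(87, (-1), 1, 1)] .nil .nil))))) (.node [] (.node [] (.node [] (.node [] .nil (.node [(40, (-1), 1, 1)] .nil .nil)) .nil) (.node [] .nil (.node [] .nil (.node [(80, 1, 1, 1)] .nil .nil)))) (.node [] (.node [(0, (-1), 1, 1)] (.node [(1, 1, 1, 1)] .nil (.node [(49, 1, 1, 1)] .nil .nil)) (.node [] (.node [(28, (-1), 1, 1)] .nil .nil) (.node [(70, (-1), 1, 1)] .nil .nil))) (.node [] (.node [(4, (-1), 1, 1)] .nil (.node [(57, 1, 1, 1)] .nil .nil)) (.node [] (.node [(33, (-1), 1, 1)] .nil .nil) .nil))))))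
def C11 : List (ℕ × List (ℕ × ℤ)) := [(22, [(0, (-1))]), (38, [(1, 1)]), (45, [(3, (-1))]), (46, [(4, (-1))]), (55, [(7, 1)]), (56, [(8, 1)]), (64, [(12, 1)]), (65, [(13, (-1))]), (67, [(14, 1)]), (68, [(15, (-1))]), (73, [(17, 1)]), (76, [(23, (-1))]), (77, [(24, 1)]), (85, [(27, 1)]), (86, [(28, (-1))]), (92, [(31, 1)]), (94, [(33, (-1))]), (97, [(39, 1)]), (98, [(40, (-1))]), (101, [(48, (-1))]), (102, [(49, 1)]), (108, [(52, (-1))]), (110, [(57, 1)]), (111, [(58, (-1))]), (112, [(60, 1)]), (113, [(61, (-1))]), (117, [(69, (-1))]), (118, [(70, (-1))]), (121, [(79, 1)]), (122, [(80, 1)]), (124, [(87, (-1))]), (125, [(103, 1)])]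
def M12 : Tr (List (ℕ × ℤ × ℕ × ℕ)) := (.node [] (.node [] (.node [] (.node [] (.node [] (.node [] (.node [(13, 1, 1, 1)] .nil .nil) .nil) (.node [] .nil (.node [(59, (-1), 1, 1)] .nil .nil))) .nil) (.node [] .nil (.node [] (.node [] (.node [(23, (-1), 1, 1)] .nil .nil) (.node [(52, (-1), 1, 1)] .nil .nil)) (.node [] (.node [(31, 1, 1, 1)] .nil .nil) .nil)))) (.node [] (.node [] .nil (.node [] (.node [] (.node [(18, 1, 1, 1)] .nil .nil) .nil) .nil)) (.node [] (.node [(0, 1, 1, 1)] (.node [(1, (-1), 1, 1)] .nil .nil) .nil) (.node [] (.node [] (.node [(25, 1, 1, 1)] .nil .nil) (.node [(57, 1, 1, 1)] .nil .nil)) (.node [(11, 1, 1, 1)] .nil (.node [(104, (-1), 1, 1)] .nil .nil)))))) (.node [] (.node [] (.node [] (.node [] (.node [] .nil (.node [(39, 1, 1, 1)] .nil .nil)) (.node [] .nil (.node [(62, (-1), 1, 1)] .nil .nil))) (.node [] .nil (.node [(9, 1, 1, 1)] .nil (.node [(79, 1, 1, 1)] .nil .nil)))) (.node [] (.node [] (.node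 [] (.node [(16, (-1), 1, 1)] .nil .nil) (.node [(48, (-1), 1, 1)] .nil .nil)) (.node [] (.node [(27, 1, 1, 1)] .nil .nil) (.node [(69, (-1), 1, 1)] .nil .nil))) (.node [] (.node [(3, 1, 1, 1)] .nil .nil) (.node [] .nil (.node [(88, 1, 1, 1)] .nil .nil))))) (.node [] (.node [] (.node [] (.node [] (.node [(14, 1, 1, 1)] .nil .nil) (.node [(41, (-1), 1, 1)] .nil .nil)) (.node [] .nil (.node [(64, (-1), 1, 1)] .nil .nil))) (.node [] .nil (.node [] .nil (.node [(81, (-1), 1, 1)] .nil .nil)))) (.node [] (.node [] (.node [] .nil (.node [(50, 1, 1, 1)] .nil .nil)) (.node [(7, (-1), 1, 1)] (.node [(29, (-1), 1, 1)] .nil .nil) (.node [(71, 1, 1, 1)] .nil .nil))) (.node [] (.node [(5, (-1), 1, 1)] .nil .nil) (.node [] (.node [(34, (-1), 1, 1)] .nil .nil) .nil))))))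
def C12 : List (ℕ × List (ℕ × ℤ)) := [(21, [(0, 1)]), (37, [(1, (-1))]), (44, [(3, 1)]), (46, [(5, (-1))]), (54, [(7, (-1))]), (56, [(9, 1)]), (61, [(11, 1)]), (63, [(13, 1)]), (66, [(14, 1)]), (68, [(16, (-1))]), (73, [(18, 1)]), (75, [(23, (-1))]), (77, [(25, 1)]), (84, [(27, 1)]), (86, [(29, (-1))]), (91, [(31, 1)]), (94, [(34, (-1))]), (96, [(39, 1)]), (98, [(41, (-1))]), (100, [(48, (-1))]), (102, [(50, 1)]), (107, [(52, (-1))]), (109, [(57, 1)]), (111, [(59, (-1))]), (112, [(62, (-1))]), (114, [(64, (-1))]), (116, [(69, (-1))]), (118, [(71, 1)]), (120, [(79, 1)]), (122, [(81, (-1))]), (124, [(88, 1)]), (125, [(104, (-1))])]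
def M13 : Tr (List (ℕ × ℤ × ℕ × ℕ)) := (.node [] (.node [] (.node [] (.node [] .nil (.node [] .nil (.node [] .nil (.node [(79, 1, 1, 1)] .nil .nil)))) (.node [] (.node [] (.node [] (.node [(16, (-1), 1, 1)] .nil .nil) .nil) (.node [] .nil (.node [(69, (-1), 1, 1)] .nil .nil))) (.node [] (.node [(3, (-1), 1, 1)] (.node [(24, (-1), 1, 1)] .nil .nil) .nil) .nil))) (.node [] (.node [] (.node [] (.node [] .nil (.node [(41, (-1), 1, 1)] .nil .nil)) (.node [] .nil (.node [(63, (-1), 1, 1)] .nil .nil))) (.node [] (.node [] (.node [(19, 1, 1, 1)] .nil .nil) .nil) .nil)) (.node [] (.node [] (.node [] .nil (.node [(50, 1, 1, 1)] .nil .nil)) (.node [(7, 1, 1, 1)] (.node [(29, (-1), 1, 1)] .nil .nil) .nil)) (.node [] (.node [] .nil (.node [(58, 1, 1, 1)] .nil .nil)) (.node [] .nil (.node [(105, 1, 1, 1)] .nil .nil)))))) (.node [] (.node [] (.node [] (.node [] (.node [] .nil (.node [(40, 1, 1, 1)] .nil .nil)) .nil) (.node [] .nil (.node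 [(10, 1, 1, 1)] .nil .nil))) (.node [] (.node [(0, (-1), 1, 1)] (.node [(1, 1, 1, 1)] .nil (.node [(49, (-1), 1, 1)] .nil .nil)) (.node [] (.node [(28, 1, 1, 1)] .nil .nil) .nil)) (.node [] (.node [] (.node [(25, 1, 1, 1)] .nil .nil) .nil) (.node [(11, (-1), 1, 1)] .nil (.node [(89, (-1), 1, 1)] .nil .nil))))) (.node [] (.node [] (.node [] (.node [] (.node [(15, 1, 1, 1)] .nil .nil) .nil) (.node [] .nil (.node [(65, 1, 1, 1)] .nil .nil))) (.node [] (.node [] .nil (.node [(52, (-1), 1, 1)] .nil .nil)) (.node [] (.node [(31, 1, 1, 1)] .nil .nil) (.node [(82, 1, 1, 1)] .nil .nil)))) (.node [] (.node [] .nil (.node [] .nil (.node [(72, (-1), 1, 1)] .nil .nil))) (.node [] (.node [(6, (-1), 1, 1)] .nil (.node [(59, (-1), 1, 1)] .nil .nil)) (.node [(12, 1, 1, 1)] (.node [(35, (-1), 1, 1)] .nil .nil) .nil))))))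
def C13 : List (ℕ × List (ℕ × ℤ)) := [(20, [(0, (-1))]), (36, [(1, 1)]), (43, [(3, (-1))]), (46, [(6, (-1))]), (53, [(7, 1)]), (56, [(10, 1)]), (60, [(11, (-1))]), (62, [(12, 1)]), (66, [(15, 1)]), (67, [(16, (-1))]), (73, [(19, 1)]), (75, [(24, (-1))]), (76, [(25, 1)]), (84, [(28, 1)]), (85, [(29, (-1))]), (90, [(31, 1)]), (94, [(35, (-1))]), (96, [(40, 1)]), (97, [(41, (-1))]), (100, [(49, (-1))]), (101, [(50, 1)]), (106, [(52, (-1))]), (109, [(58, 1)]), (110, [(59, (-1))]), (113, [(63, (-1))]), (114, [(65, 1)]), (115, [(69, (-1))]), (118, [(72, (-1))]), (119, [(79, 1)]), (122, [(82, 1)]), (124, [(89, (-1))]), (125, [(105, 1)])]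
def M14 : Tr (List (ℕ × ℤ × ℕ × ℕ)) := (.node [] (.node [] (.node [] (.node [] (.node [] (.node [] (.node [(15, 1, 1, 1)] .nil .nil) (.node [(39, 1, 1, 1)] .nil .nil)) .nil) (.node [] .nil (.node [(9, (-1), 1, 1)] .nil .nil))) (.node [] (.node [(0, (-1), 1, 1)] (.node [(1, 1, 1, 1)] .nil (.node [(48, (-1), 1, 1)] .nil .nil)) (.node [] (.node [(27, 1, 1, 1)] .nil .nil) .nil)) (.node [] .nil (.node [(12, 1, 1, 1)] .nil .nil)))) (.node [] (.node [] (.node [] (.node [] (.node [(16, 1, 1, 1)] .nil .nil) .nil) (.node [] .nil (.node [(66, (-1), 1, 1)] .nil .nil))) (.node [] (.node [] (.node [(20, 1, 1, 1)] .nil .nil) (.node [(52, (-1), 1, 1)] .nil .nil)) (.node [] (.node [(31, 1, 1, 1)] .nil .nil) (.node [(81, (-1), 1, 1)] .nil .nil)))) (.node [] (.node [] .nil (.node [] .nil (.node [(71, 1, 1, 1)] .nil .nil))) (.node [] (.node [(5, 1, 1, 1)] (.node [(26, 1, 1, 1)] .nil .nil) (.node [(60, (-1), 1, 1)] .nil .nil)) (.node [] .nil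 (.node [(106, 1, 1, 1)] .nil .nil)))))) (.node [] (.node [] (.node [] .nil (.node [] .nil (.node [] .nil (.node [(80, (-1), 1, 1)] .nil .nil)))) (.node [] (.node [] .nil (.node [] .nil (.node [(70, 1, 1, 1)] .nil .nil))) (.node [] (.node [(4, 1, 1, 1)] .nil .nil) (.node [] .nil (.node [(90, (-1), 1, 1)] .nil .nil))))) (.node [] (.node [] (.node [] (.node [] .nil (.node [(42, (-1), 1, 1)] .nil .nil)) (.node [] .nil (.node [(67, (-1), 1, 1)] .nil .nil))) (.node [] (.node [] (.node [(23, (-1), 1, 1)] .nil .nil) .nil) (.node [(11, 1, 1, 1)] .nil .nil))) (.node [] (.node [] (.node [] .nil (.node [(51, 1, 1, 1)] .nil .nil)) (.node [(8, (-1), 1, 1)] (.node [(30, (-1), 1, 1)] .nil .nil) .nil)) (.node [] (.node [] .nil (.node [(62, (-1), 1, 1)] .nil .nil)) (.node [] (.node [(36, (-1), 1, 1)] .nil .nil) .nil))))))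
def C14 : List (ℕ × List (ℕ × ℤ)) := [(19, [(0, (-1))]), (35, [(1, 1)]), (44, [(4, 1)]), (45, [(5, 1)]), (54, [(8, (-1))]), (55, [(9, (-1))]), (58, [(11, 1)]), (59, [(12, 1)]), (63, [(15, 1)]), (65, [(16, 1)]), (73, [(20, 1)]), (74, [(23, (-1))]), (77, [(26, 1)]), (83, [(27, 1)]), (86, [(30, (-1))]), (89, [(31, 1)]), (94, [(36, (-1))]), (95, [(39, 1)]), (98, [(42, (-1))]), (99, [(48, (-1))]), (102, [(51, 1)]), (105, [(52, (-1))]), (109, [(60, (-1))]), (110, [(62, (-1))]), (113, [(66, (-1))]), (114, [(67, (-1))]), (116, [(70, 1)]), (117, [(71, 1)]), (120, [(80, (-1))]), (121, [(81, (-1))]), (124, [(90, (-1))]), (125, [(106, 1)])]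
def M15 : Tr (List (ℕ × ℤ × ℕ × ℕ)) := (.node [] (.node [] (.node [] (.node [] (.node [] (.node [] .nil (.node [(40, 1, 1, 1)] .nil .nil)) (.node [] .nil (.node [(63, (-1), 1, 1)] .nil .nil))) (.node [] .nil (.node [(10, (-1), 1, 1)] .nil (.node [(80, (-1), 1, 1)] .nil .nil)))) (.node [] (.node [] (.node [] .nil (.node [(49, (-1), 1, 1)] .nil .nil)) (.node [] (.node [(28, 1, 1, 1)] .nil .nil) (.node [(70, 1, 1, 1)] .nil .nil))) (.node [] (.node [(4, (-1), 1, 1)] .nil .nil) (.node [(13, 1, 1, 1)] .nil .nil)))) (.node [] (.node [] (.node [] (.node [] .nil (.node [(42, (-1), 1, 1)] .nil .nil)) .nil) (.node [] (.node [] (.node [(21, 1, 1, 1)] .nil .nil) .nil) (.node [(11, (-1), 1, 1)] .nil (.node [(82, 1, 1, 1)] .nil .nil)))) (.node [] (.node [] (.node [] .nil (.node [(51, 1, 1, 1)] .nil .nil)) (.node [(8, 1, 1, 1)] (.node [(30, (-1), 1, 1)] .nil .nil) (.node [(72, (-1), 1, 1)] .nil .nil))) (.node [] (.node [(6, 1, 1, 1)] .nil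 (.node [(61, (-1), 1, 1)] .nil .nil)) (.node [] .nil (.node [(107, (-1), 1, 1)] .nil .nil)))))) (.node [] (.node [] (.node [] (.node [] (.node [] (.node [(16, 1, 1, 1)] .nil .nil) .nil) (.node [] .nil (.node [(66, (-1), 1, 1)] .nil .nil))) (.node [] (.node [] .nil (.node [(52, (-1), 1, 1)] .nil .nil)) (.node [] (.node [(31, 1, 1, 1)] .nil .nil) .nil))) (.node [] .nil (.node [] (.node [] (.node [(26, 1, 1, 1)] .nil .nil) .nil) (.node [] .nil (.node [(91, 1, 1, 1)] .nil .nil))))) (.node [] (.node [] (.node [(0, 1, 1, 1)] (.node [(1, (-1), 1, 1)] .nil .nil) (.node [] .nil (.node [(68, 1, 1, 1)] .nil .nil))) (.node [] (.node [] (.node [(24, (-1), 1, 1)] .nil .nil) .nil) .nil)) (.node [] .nil (.node [] .nil (.node [(14, 1, 1, 1)] (.node [(37, (-1), 1, 1)] .nil .nil) .nil))))))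
def C15 : List (ℕ × List (ℕ × ℤ)) := [(18, [(0, 1)]), (34, [(1, (-1))]), (43, [(4, (-1))]), (45, [(6, 1)]), (53, [(8, 1)]), (55, [(10, (-1))]), (57, [(11, (-1))]), (59, [(13, 1)]), (62, [(14, 1)]), (64, [(16, 1)]), (73, [(21, 1)]), (74, [(24, (-1))]), (76, [(26, 1)]), (83, [(28, 1)]), (85, [(30, (-1))]), (88, [(31, 1)]), (94, [(37, (-1))]), (95, [(40, 1)]), (97, [(42, (-1))]), (99, [(49, (-1))]), (101, [(51, 1)]), (104, [(52, (-1))]), (109, [(61, (-1))]), (111, [(63, (-1))]), (112, [(66, (-1))]), (114, [(68, 1)]), (115, [(70, 1)]), (117, [(72, (-1))]), (119, [(80, (-1))]), (121, [(82, 1)]), (124, [(91, 1)]), (125, [(107, (-1))])]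
def M16 : Tr (List (ℕ × ℤ × ℕ × ℕ)) := (.node [] (.node [] (.node [] (.node [] (.node [] (.node [] .nil (.node [(41, 1, 1, 1)] .nil .nil)) (.node [] .nil (.node [(65, (-1), 1, 1)] .nil .nil))) (.node [] (.node [] .nil (.node [(52, (-1), 1, 1)] .nil .nil)) (.node [] (.node [(31, 1, 1, 1)] .nil .nil) (.node [(81, 1, 1, 1)] .nil .nil)))) (.node [] (.node [] (.node [] .nil (.node [(50, (-1), 1, 1)] .nil .nil)) (.node [] (.node [(29, 1, 1, 1)] .nil .nil) (.node [(71, (-1), 1, 1)] .nil .nil))) (.node [] (.node [(5, (-1), 1, 1)] (.node [(26, 1, 1, 1)] .nil .nil) .nil) .nil))) (.node [] (.node [] (.node [(0, (-1), 1, 1)] (.node [(1, 1, 1, 1)] .nil .nil) (.node [] .nil (.node [(68, 1, 1, 1)] .nil .nil))) (.node [] (.node [] (.node [(22, 1, 1, 1)] .nil .nil) .nil) (.node [(12, (-1), 1, 1)] .nil .nil))) (.node [] (.node [] .nil (.node [(9, 1, 1, 1)] .nil .nil)) (.node [] .nil (.node [(15, 1, 1, 1)] .nil (.node [(108, 1, 1, 1)] .nil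 .nil)))))) (.node [] (.node [] (.node [] (.node [] (.node [] .nil (.node [(42, (-1), 1, 1)] .nil .nil)) (.node [] .nil (.node [(67, 1, 1, 1)] .nil .nil))) (.node [] .nil (.node [] .nil (.node [(82, 1, 1, 1)] .nil .nil)))) (.node [] (.node [] (.node [] .nil (.node [(51, 1, 1, 1)] .nil .nil)) (.node [] (.node [(30, (-1), 1, 1)] .nil .nil) (.node [(72, (-1), 1, 1)] .nil .nil))) (.node [] (.node [(6, (-1), 1, 1)] .nil .nil) (.node [(14, 1, 1, 1)] .nil (.node [(92, (-1), 1, 1)] .nil .nil))))) (.node [] (.node [] .nil (.node [] (.node [] (.node [(25, (-1), 1, 1)] .nil .nil) .nil) (.node [(13, (-1), 1, 1)] .nil .nil))) (.node [] (.node [] .nil (.node [(10, 1, 1, 1)] .nil .nil)) (.node [] (.node [] .nil (.node [(64, (-1), 1, 1)] .nil .nil)) (.node [] (.node [(38, (-1), 1, 1)] .nil .nil) .nil))))))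
def C16 : List (ℕ × List (ℕ × ℤ)) := [(17, [(0, (-1))]), (33, [(1, 1)]), (43, [(5, (-1))]), (44, [(6, (-1))]), (53, [(9, 1)]), (54, [(10, 1)]), (57, [(12, (-1))]), (58, [(13, (-1))]), (60, [(14, 1)]), (61, [(15, 1)]), (73, [(22, 1)]), (74, [(25, (-1))]), (75, [(26, 1)]), (83, [(29, 1)]), (84, [(30, (-1))]), (87, [(31, 1)]), (94, [(38, (-1))]), (95, [(41, 1)]), (96, [(42, (-1))]), (99, [(50, (-1))]), (100, [(51, 1)]), (103, [(52, (-1))]), (110, [(64, (-1))]), (111, [(65, (-1))]), (112, [(67, 1)]), (113, [(68, 1)]), (115, [(71, (-1))]), (116, [(72, (-1))]), (119, [(81, 1)]), (120, [(82, 1)]), (124, [(92, (-1))]), (125, [(108, 1)])]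
def M17 : Tr (List (ℕ × ℤ × ℕ × ℕ)) := (.node [] (.node [] (.node [] (.node [] .nil (.node [] (.node [] (.node [(23, 1, 1, 1)] .nil .nil) .nil) .nil)) (.node [] (.node [] (.node [] (.node [(20, 1, 1, 1)] .nil .nil) .nil) (.node [(8, 1, 1, 1)] .nil .nil)) (.node [] (.node [] .nil (.node [(61, (-1), 1, 1)] .nil .nil)) (.node [] .nil (.node [(87, (-1), 1, 1)] .nil .nil))))) (.node [] (.node [] (.node [] (.node [] (.node [(19, (-1), 1, 1)] .nil .nil) (.node [(43, 1, 1, 1)] .nil .nil)) (.node [] (.node [(27, 1, 1, 1)] .nil .nil) .nil)) (.node [] (.node [(3, 1, 1, 1)] .nil (.node [(58, (-1), 1, 1)] .nil .nil)) (.node [] .nil (.node [(83, (-1), 1, 1)] .nil .nil)))) (.node [] (.node [] (.node [] .nil (.node [(53, 1, 1, 1)] .nil .nil)) (.node [] .nil (.node [(74, (-1), 1, 1)] .nil .nil))) (.node [] .nil (.node [] (.node [(33, (-1), 1, 1)] .nil .nil) (.node [(109, (-1), 1, 1)] .nil .nil)))))) (.node [] (.node [] (.node [] (.node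 [(0, 1, 1, 1)] (.node [] (.node [(18, 1, 1, 1)] .nil .nil) .nil) .nil) (.node [] (.node [] (.node [(24, (-1), 1, 1)] .nil .nil) (.node [(57, 1, 1, 1)] .nil .nil)) .nil)) (.node [] (.node [] (.node [] (.node [(21, (-1), 1, 1)] .nil .nil) .nil) (.node [(11, 1, 1, 1)] .nil .nil)) (.node [] .nil (.node [] (.node [(32, 1, 1, 1)] .nil .nil) .nil)))) (.node [] (.node [] (.node [] (.node [] .nil (.node [(44, (-1), 1, 1)] .nil .nil)) (.node [(7, 1, 1, 1)] (.node [(28, (-1), 1, 1)] .nil .nil) (.node [(73, (-1), 1, 1)] .nil .nil))) (.node [] (.node [(4, 1, 1, 1)] .nil (.node [(60, 1, 1, 1)] .nil .nil)) (.node [] .nil (.node [(84, (-1), 1, 1)] .nil .nil)))) (.node [] (.node [] (.node [(2, 1, 1, 1)] .nil (.node [(54, (-1), 1, 1)] .nil .nil)) (.node [] .nil (.node [(75, (-1), 1, 1)] .nil .nil))) .nil))))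
def C17 : List (ℕ × List (ℕ × ℤ)) := [(16, [(0, 1)]), (38, [(2, 1)]), (41, [(3, 1)]), (42, [(4, 1)]), (50, [(7, 1)]), (51, [(8, 1)]), (52, [(11, 1)]), (64, [(18, 1)]), (65, [(19, (-1))]), (67, [(20, 1)]), (68, [(21, (-1))]), (71, [(23, 1)]), (72, [(24, (-1))]), (81, [(27, 1)]), (82, [(28, (-1))]), (92, [(32, 1)]), (93, [(33, (-1))]), (97, [(43, 1)]), (98, [(44, (-1))]), (101, [(53, 1)]), (102, [(54, (-1))]), (104, [(57, 1)]), (105, [(58, (-1))]), (106, [(60, 1)]), (107, [(61, (-1))]), (114, [(73, (-1))]), (117, [(74, (-1))]), (118, [(75, (-1))]), (121, [(83, (-1))]), (122, [(84, (-1))]), (123, [(87, (-1))]), (125, [(109, (-1))])]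
def M18 : Tr (List (ℕ × ℤ × ℕ × ℕ)) := (.node [] (.node [] (.node [] (.node [] (.node [(0, (-1), 1, 1)] (.node [] (.node [(19, 1, 1, 1)] .nil .nil) .nil) .nil) (.node [] (.node [] .nil (.node [(57, 1, 1, 1)] .nil .nil)) .nil)) (.node [] (.node [] .nil (.node [(9, 1, 1, 1)] .nil .nil)) (.node [] .nil (.node [] (.node [(32, 1, 1, 1)] .nil .nil) (.node [(88, 1, 1, 1)] .nil .nil))))) (.node [] (.node [] (.node [] .nil (.node [(7, (-1), 1, 1)] .nil (.node [(73, (-1), 1, 1)] .nil .nil))) (.node [] (.node [] .nil (.node [(59, (-1), 1, 1)] .nil .nil)) .nil)) (.node [] (.node [] (.node [(2, (-1), 1, 1)] .nil .nil) .nil) (.node [] .nil (.node [(17, 1, 1, 1)] (.node [(34, (-1), 1, 1)] .nil .nil) (.node [(110, 1, 1, 1)] .nil .nil)))))) (.node [] (.node [] (.node [] (.node [] (.node [] .nil (.node [(43, 1, 1, 1)] .nil .nil)) (.node [] (.node [(27, 1, 1, 1)] .nil .nil) .nil)) (.node [] (.node [(3, (-1), 1, 1)] (.node [(25, (-1), 1, 1)]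 .nil .nil) .nil) (.node [] .nil (.node [(83, (-1), 1, 1)] .nil .nil)))) (.node [] (.node [] (.node [] (.node [(22, (-1), 1, 1)] .nil .nil) (.node [(53, 1, 1, 1)] .nil .nil)) (.node [(12, 1, 1, 1)] .nil (.node [(74, (-1), 1, 1)] .nil .nil))) (.node [] (.node [] .nil (.node [(64, (-1), 1, 1)] .nil .nil)) .nil))) (.node [] (.node [] (.node [] (.node [] (.node [(20, 1, 1, 1)] .nil .nil) (.node [(45, (-1), 1, 1)] .nil .nil)) (.node [] (.node [(29, (-1), 1, 1)] .nil .nil) .nil)) (.node [] (.node [(5, 1, 1, 1)] .nil (.node [(62, (-1), 1, 1)] .nil .nil)) (.node [] .nil (.node [(85, 1, 1, 1)] .nil .nil)))) (.node [] (.node [] (.node [] (.node [(23, 1, 1, 1)] .nil .nil) (.node [(55, (-1), 1, 1)] .nil .nil)) (.node [] .nil (.node [(76, 1, 1, 1)] .nil .nil))) .nil))))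
def C18 : List (ℕ × List (ℕ × ℤ)) := [(15, [(0, (-1))]), (37, [(2, (-1))]), (40, [(3, (-1))]), (42, [(5, 1)]), (49, [(7, (-1))]), (51, [(9, 1)]), (52, [(12, 1)]), (61, [(17, 1)]), (63, [(19, 1)]), (66, [(20, 1)]), (68, [(22, (-1))]), (70, [(23, 1)]), (72, [(25, (-1))]), (80, [(27, 1)]), (82, [(29, (-1))]), (91, [(32, 1)]), (93, [(34, (-1))]), (96, [(43, 1)]), (98, [(45, (-1))]), (100, [(53, 1)]), (102, [(55, (-1))]), (103, [(57, 1)]), (105, [(59, (-1))]), (106, [(62, (-1))]), (108, [(64, (-1))]), (113, [(73, (-1))]), (116, [(74, (-1))]), (118, [(76, 1)]), (120, [(83, (-1))]), (122, [(85, 1)]), (123, [(88, 1)]), (125, [(110, 1)])]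
def M19 : Tr (List (ℕ × ℤ × ℕ × ℕ)) := (.node [] (.node [] (.node [] (.node [] .nil (.node [] (.node [(3, 1, 1, 1)] (.node [(25, (-1), 1, 1)] .nil .nil) (.node [(58, 1, 1, 1)] .nil .nil)) (.node [] .nil (.node [(83, (-1), 1, 1)] .nil .nil)))) (.node [] (.node [] (.node [] (.node [(22, (-1), 1, 1)] .nil .nil) .nil) (.node [(10, 1, 1, 1)] .nil (.node [(74, (-1), 1, 1)] .nil .nil))) (.node [] (.node [] .nil (.node [(63, (-1), 1, 1)] .nil .nil)) (.node [] .nil (.node [(89, (-1), 1, 1)] .nil .nil))))) (.node [] (.node [] (.node [] (.node [] .nil (.node [(45, (-1), 1, 1)] .nil .nil)) (.node [] (.node [(29, (-1), 1, 1)] .nil .nil) .nil)) .nil) (.node [] (.node [] (.node [] .nil (.node [(55, (-1), 1, 1)] .nil .nil)) .nil) (.node [] .nil (.node [] (.node [(35, (-1), 1, 1)] .nil .nil) (.node [(111, (-1), 1, 1)] .nil .nil)))))) (.node [] (.node [] (.node [] (.node [] (.node [] .nil (.node [(44, 1, 1, 1)] .nil .nil)) (.node [(7, 1,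 1, 1)] (.node [(28, 1, 1, 1)] .nil .nil) (.node [(73, (-1), 1, 1)] .nil .nil))) (.node [] (.node [] .nil (.node [(59, (-1), 1, 1)] .nil .nil)) .nil)) (.node [] (.node [] (.node [(2, 1, 1, 1)] .nil (.node [(54, 1, 1, 1)] .nil .nil)) (.node [(13, 1, 1, 1)] .nil .nil)) (.node [] (.node [] .nil (.node [(65, 1, 1, 1)] .nil .nil)) (.node [(17, (-1), 1, 1)] .nil .nil)))) (.node [] (.node [] (.node [] (.node [] (.node [(21, 1, 1, 1)] .nil .nil) .nil) .nil) (.node [] (.node [(6, 1, 1, 1)] .nil .nil) (.node [] (.node [(32, 1, 1, 1)] .nil .nil) (.node [(86, (-1), 1, 1)] .nil .nil)))) (.node [(0, 1, 1, 1)] (.node [] (.node [] (.node [(24, 1, 1, 1)] .nil .nil) .nil) (.node [] .nil (.node [(77, (-1), 1, 1)] .nil .nil))) (.node [] .nil (.node [(18, 1, 1, 1)] .nil .nil))))))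
def C19 : List (ℕ × List (ℕ × ℤ)) := [(14, [(0, 1)]), (36, [(2, 1)]), (39, [(3, 1)]), (42, [(6, 1)]), (48, [(7, 1)]), (51, [(10, 1)]), (52, [(13, 1)]), (60, [(17, (-1))]), (62, [(18, 1)]), (66, [(21, 1)]), (67, [(22, (-1))]), (70, [(24, 1)]), (71, [(25, (-1))]), (80, [(28, 1)]), (81, [(29, (-1))]), (90, [(32, 1)]), (93, [(35, (-1))]), (96, [(44, 1)]), (97, [(45, (-1))]), (100, [(54, 1)]), (101, [(55, (-1))]), (103, [(58, 1)]), (104, [(59, (-1))]), (107, [(63, (-1))]), (108, [(65, 1)]), (112, [(73, (-1))]), (115, [(74, (-1))]), (118, [(77, (-1))]), (119, [(83, (-1))]), (122, [(86, (-1))]), (123, [(89, (-1))]), (125, [(111, (-1))])]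
def M20 : Tr (List (ℕ × ℤ × ℕ × ℕ)) := (.node [] (.node [] (.node [] (.node [] (.node [] (.node [] (.node [(21, 1, 1, 1)] .nil .nil) (.node [(43, 1, 1, 1)] .nil .nil)) (.node [] (.node [(27, 1, 1, 1)] .nil .nil) (.node [(73, (-1), 1, 1)] .nil .nil))) (.node [] (.node [] .nil (.node [(60, (-1), 1, 1)] .nil .nil)) .nil)) (.node [] (.node [] (.node [(2, 1, 1, 1)] .nil (.node [(53, 1, 1, 1)] .nil .nil)) .nil) (.node [] (.node [] .nil (.node [(66, (-1), 1, 1)] .nil .nil)) (.node [(18, 1, 1, 1)] .nil (.node [(90, (-1), 1, 1)] .nil .nil))))) (.node [] (.node [] (.node [] (.node [] (.node [(22, 1, 1, 1)] .nil .nil) .nil) (.node [(8, (-1), 1, 1)] .nil .nil)) (.node [] (.node [(5, (-1), 1, 1)] .nil .nil) (.node [] (.node [(32, 1, 1, 1)] .nil .nil) (.node [(85, 1, 1, 1)] .nil .nil)))) (.node [(0, 1, 1, 1)] (.node [] (.node [] (.node [(23, 1, 1, 1)] .nil .nil) .nil) (.node [] .nil (.node [(76, 1, 1, 1)] .nil .nil))) (.node [] .nil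 (.node [] (.node [(36, (-1), 1, 1)] .nil .nil) (.node [(112, (-1), 1, 1)] .nil .nil)))))) (.node [] (.node [] (.node [] .nil (.node [] (.node [(4, (-1), 1, 1)] (.node [(26, (-1), 1, 1)] .nil .nil) (.node [(62, (-1), 1, 1)] .nil .nil)) (.node [] .nil (.node [(84, 1, 1, 1)] .nil .nil)))) (.node [] (.node [] .nil (.node [(14, 1, 1, 1)] .nil (.node [(75, 1, 1, 1)] .nil .nil))) (.node [] (.node [] .nil (.node [(67, (-1), 1, 1)] .nil .nil)) .nil))) (.node [] (.node [] (.node [] (.node [] .nil (.node [(46, (-1), 1, 1)] .nil .nil)) (.node [(9, (-1), 1, 1)] (.node [(30, (-1), 1, 1)] .nil .nil) .nil)) (.node [] .nil (.node [(17, 1, 1, 1)] .nil .nil))) (.node [] (.node [] (.node [] .nil (.node [(56, (-1), 1, 1)] .nil .nil)) .nil) .nil))))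
def C20 : List (ℕ × List (ℕ × ℤ)) := [(13, [(0, 1)]), (35, [(2, 1)]), (40, [(4, (-1))]), (41, [(5, (-1))]), (49, [(8, (-1))]), (50, [(9, (-1))]), (52, [(14, 1)]), (58, [(17, 1)]), (59, [(18, 1)]), (63, [(21, 1)]), (65, [(22, 1)]), (69, [(23, 1)]), (72, [(26, (-1))]), (79, [(27, 1)]), (82, [(30, (-1))]), (89, [(32, 1)]), (93, [(36, (-1))]), (95, [(43, 1)]), (98, [(46, (-1))]), (99, [(53, 1)]), (102, [(56, (-1))]), (103, [(60, (-1))]), (104, [(62, (-1))]), (107, [(66, (-1))]), (108, [(67, (-1))]), (111, [(73, (-1))]), (116, [(75, 1)]), (117, [(76, 1)]), (120, [(84, 1)]), (121, [(85, 1)]), (123, [(90, (-1))]), (125, [(112, (-1))])]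
def M21 : Tr (List (ℕ × ℤ × ℕ × ℕ)) := (.node [] (.node [] (.node [] (.node [] (.node [] (.node [] .nil (.node [(44, 1, 1, 1)] .nil .nil)) (.node [] (.node [(28, 1, 1, 1)] .nil .nil) .nil)) (.node [] (.node [(4, 1, 1, 1)] (.node [(26, (-1), 1, 1)] .nil .nil) (.node [(61, (-1), 1, 1)] .nil .nil)) (.node [] .nil (.node [(84, 1, 1, 1)] .nil .nil)))) (.node [] (.node [] (.node [] .nil (.node [(54, 1, 1, 1)] .nil .nil)) (.node [] .nil (.node [(75, 1, 1, 1)] .nil .nil))) (.node [] .nil (.node [(19, 1, 1, 1)] .nil (.node [(91, 1, 1, 1)] .nil .nil))))) (.node [] (.node [] (.node [] (.node [] .nil (.node [(46, (-1), 1, 1)] .nil .nil)) (.node [] (.node [(30, (-1), 1, 1)] .nil .nil) .nil)) (.node [] (.node [(6, (-1), 1, 1)] .nil (.node [(63, (-1), 1, 1)] .nil .nil)) (.node [(17, (-1), 1, 1)] .nil (.node [(86, (-1), 1, 1)] .nil .nil)))) (.node [] (.node [] (.node [] (.node [(24, 1, 1, 1)] .nil .nil) (.node [(56, (-1), 1, 1)] .nil .nil))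 (.node [] .nil (.node [(77, (-1), 1, 1)] .nil .nil))) (.node [] .nil (.node [] (.node [(37, (-1), 1, 1)] .nil .nil) (.node [(113, 1, 1, 1)] .nil .nil)))))) (.node [] (.node [] (.node [] (.node [] (.node [] (.node [(22, 1, 1, 1)] .nil .nil) .nil) (.node [(8, 1, 1, 1)] .nil .nil)) (.node [] .nil (.node [] (.node [(32, 1, 1, 1)] .nil .nil) .nil))) (.node [(0, (-1), 1, 1)] (.node [] .nil (.node [(15, 1, 1, 1)] .nil .nil)) (.node [] (.node [] .nil (.node [(68, 1, 1, 1)] .nil .nil)) .nil))) (.node [] (.node [] (.node [] (.node [(2, (-1), 1, 1)] .nil .nil) (.node [(10, (-1), 1, 1)] .nil .nil)) (.node [] (.node [] .nil (.node [(66, (-1), 1, 1)] .nil .nil)) .nil)) (.node [] .nil (.node [] (.node [] .nil (.node [(73, (-1), 1, 1)] .nil .nil)) (.node [(20, 1, 1, 1)] .nil .nil))))))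
def C21 : List (ℕ × List (ℕ × ℤ)) := [(12, [(0, (-1))]), (34, [(2, (-1))]), (39, [(4, 1)]), (41, [(6, (-1))]), (48, [(8, 1)]), (50, [(10, (-1))]), (52, [(15, 1)]), (57, [(17, (-1))]), (59, [(19, 1)]), (62, [(20, 1)]), (64, [(22, 1)]), (69, [(24, 1)]), (71, [(26, (-1))]), (79, [(28, 1)]), (81, [(30, (-1))]), (88, [(32, 1)]), (93, [(37, (-1))]), (95, [(44, 1)]), (97, [(46, (-1))]), (99, [(54, 1)]), (101, [(56, (-1))]), (103, [(61, (-1))]), (105, [(63, (-1))]), (106, [(66, (-1))]), (108, [(68, 1)]), (110, [(73, (-1))]), (115, [(75, 1)]), (117, [(77, (-1))]), (119, [(84, 1)]), (121, [(86, (-1))]), (123, [(91, 1)]), (125, [(113, 1)])]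
def M22 : Tr (List (ℕ × ℤ × ℕ × ℕ)) := (.node [] (.node [] (.node [] (.node [] (.node [] (.node [] .nil (.node [(45, 1, 1, 1)] .nil .nil)) (.node [] (.node [(29, 1, 1, 1)] .nil .nil) .nil)) (.node [] (.node [(5, 1, 1, 1)] .nil .nil) (.node [] (.node [(32, 1, 1, 1)] .nil .nil) (.node [(85, (-1), 1, 1)] .nil .nil)))) (.node [(0, 1, 1, 1)] (.node [] (.node [] .nil (.node [(55, 1, 1, 1)] .nil .nil)) (.node [] .nil (.node [(76, (-1), 1, 1)] .nil .nil))) (.node [] (.node [] .nil (.node [(68, 1, 1, 1)] .nil .nil)) (.node [] .nil (.node [(92, (-1), 1, 1)] .nil .nil))))) (.node [] (.node [] (.node [] (.node [(2, 1, 1, 1)] .nil .nil) (.node [(10, 1, 1, 1)] .nil .nil)) (.node [] (.node [] .nil (.node [(65, (-1), 1, 1)] .nil .nil)) (.node [(18, (-1), 1, 1)] .nil .nil))) (.node [] (.node [] (.node [] (.node [(25, 1, 1, 1)] .nil .nil) .nil) .nil) (.node [] (.node [] .nil (.node [(73, (-1), 1, 1)] .nil .nil)) (.node [(21, 1, 1, 1)] (.node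 [(38, (-1), 1, 1)] .nil .nil) (.node [(114, (-1), 1, 1)] .nil .nil)))))) (.node [] (.node [] (.node [] (.node [] (.node [] .nil (.node [(46, (-1), 1, 1)] .nil .nil)) (.node [(9, 1, 1, 1)] (.node [(30, (-1), 1, 1)] .nil .nil) .nil)) (.node [] (.node [(6, 1, 1, 1)] .nil (.node [(64, (-1), 1, 1)] .nil .nil)) (.node [] .nil (.node [(86, (-1), 1, 1)] .nil .nil)))) (.node [] (.node [] (.node [] .nil (.node [(56, (-1), 1, 1)] .nil .nil)) (.node [(16, 1, 1, 1)] .nil (.node [(77, (-1), 1, 1)] .nil .nil))) (.node [] .nil (.node [(20, 1, 1, 1)] .nil .nil)))) (.node [] (.node [] .nil (.node [] (.node [] .nil (.node [(67, 1, 1, 1)] .nil .nil)) (.node [(19, (-1), 1, 1)] .nil .nil))) (.node [] (.node [] (.node [] (.node [(26, (-1), 1, 1)] .nil .nil) .nil) .nil) .nil))))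
def C22 : List (ℕ × List (ℕ × ℤ)) := [(11, [(0, 1)]), (33, [(2, 1)]), (39, [(5, 1)]), (40, [(6, 1)]), (48, [(9, 1)]), (49, [(10, 1)]), (52, [(16, 1)]), (57, [(18, (-1))]), (58, [(19, (-1))]), (60, [(20, 1)]), (61, [(21, 1)]), (69, [(25, 1)]), (70, [(26, (-1))]), (79, [(29, 1)]), (80, [(30, (-1))]), (87, [(32, 1)]), (93, [(38, (-1))]), (95, [(45, 1)]), (96, [(46, (-1))]), (99, [(55, 1)]), (100, [(56, (-1))]), (104, [(64, (-1))]), (105, [(65, (-1))]), (106, [(67, 1)]), (107, [(68, 1)]), (109, [(73, (-1))]), (115, [(76, (-1))]), (116, [(77, (-1))]), (119, [(85, (-1))]), (120, [(86, (-1))]), (123, [(92, (-1))]), (125, [(114, (-1))])]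
def M23 : Tr (List (ℕ × ℤ × ℕ × ℕ)) := (.node [] (.node [] (.node [] (.node [] (.node [] (.node [] (.node [(24, 1, 1, 1)] .nil .nil) .nil) (.node [] .nil (.node [(74, 1, 1, 1)] .nil .nil))) (.node [] .nil (.node [(18, 1, 1, 1)] .nil .nil))) (.node [] (.node [] (.node [(3, 1, 1, 1)] .nil (.node [(57, (-1), 1, 1)] .nil .nil)) (.node [(14, (-1), 1, 1)] .nil .nil)) (.node [] (.node [] .nil (.node [(70, (-1), 1, 1)] .nil .nil)) .nil))) (.node [] (.node [] (.node [] (.node [] (.node [(25, 1, 1, 1)] .nil .nil) .nil) (.node [(11, (-1), 1, 1)] .nil (.node [(75, 1, 1, 1)] .nil .nil))) (.node [] (.node [] .nil (.node [(69, (-1), 1, 1)] .nil .nil)) (.node [] .nil (.node [(88, (-1), 1, 1)] .nil .nil)))) (.node [] (.node [] (.node [(4, 1, 1, 1)] .nil (.node [(62, (-1), 1, 1)] .nil .nil)) .nil) (.node [] .nil (.node [] (.node [(39, (-1), 1, 1)] .nil .nil) (.node [(115, 1, 1, 1)] .nil .nil)))))) (.node [] (.node [] (.node [] .nil (.node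 [] .nil (.node [(20, 1, 1, 1)] .nil (.node [(87, (-1), 1, 1)] .nil .nil)))) (.node [] (.node [] (.node [] (.node [(26, 1, 1, 1)] .nil .nil) (.node [(60, (-1), 1, 1)] .nil .nil)) .nil) (.node [] (.node [] .nil (.node [(71, (-1), 1, 1)] .nil .nil)) .nil))) (.node [] (.node [(0, (-1), 1, 1)] (.node [] (.node [] .nil (.node [(47, (-1), 1, 1)] .nil .nil)) (.node [(12, (-1), 1, 1)] (.node [(31, (-1), 1, 1)] .nil .nil) (.node [(76, 1, 1, 1)] .nil .nil))) (.node [] .nil (.node [] .nil (.node [(90, (-1), 1, 1)] .nil .nil)))) (.node [] (.node [] (.node [(5, 1, 1, 1)] .nil .nil) (.node [(17, 1, 1, 1)] (.node [(32, 1, 1, 1)] .nil .nil) .nil)) (.node [] (.node [] (.node [(27, 1, 1, 1)] .nil .nil) .nil) (.node [] (.node [(43, 1, 1, 1)] .nil .nil) .nil))))))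
def C23 : List (ℕ × List (ℕ × ℤ)) := [(10, [(0, (-1))]), (35, [(3, 1)]), (37, [(4, 1)]), (38, [(5, 1)]), (49, [(11, (-1))]), (50, [(12, (-1))]), (51, [(14, (-1))]), (54, [(17, 1)]), (55, [(18, 1)]), (56, [(20, 1)]), (63, [(24, 1)]), (65, [(25, 1)]), (68, [(26, 1)]), (78, [(27, 1)]), (82, [(31, (-1))]), (86, [(32, 1)]), (93, [(39, (-1))]), (94, [(43, 1)]), (98, [(47, (-1))]), (99, [(57, (-1))]), (100, [(60, (-1))]), (101, [(62, (-1))]), (105, [(69, (-1))]), (107, [(70, (-1))]), (108, [(71, (-1))]), (111, [(74, 1)]), (113, [(75, 1)]), (114, [(76, 1)]), (120, [(87, (-1))]), (121, [(88, (-1))]), (122, [(90, (-1))]), (125, [(115, 1)])]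
def M24 : Tr (List (ℕ × ℤ × ℕ × ℕ)) := (.node [] (.node [] (.node [] (.node [] .nil (.node [] .nil (.node [(19, 1, 1, 1)] .nil (.node [(87, (-1), 1, 1)] .nil .nil)))) (.node [] (.node [] (.node [] (.node [(26, 1, 1, 1)] .nil .nil) (.node [(58, (-1), 1, 1)] .nil .nil)) (.node [(15, (-1), 1, 1)] .nil .nil)) .nil)) (.node [] (.node [(0, 1, 1, 1)] (.node [] (.node [] .nil (.node [(47, (-1), 1, 1)] .nil .nil)) (.node [] (.node [(31, (-1), 1, 1)] .nil .nil) .nil)) (.node [] .nil (.node [] .nil (.node [(89, 1, 1, 1)] .nil .nil)))) (.node [] (.node [] .nil (.node [(17, (-1), 1, 1)] (.node [(32, 1, 1, 1)] .nil .nil) .nil)) (.node [] .nil (.node [] (.node [(40, (-1), 1, 1)] .nil .nil) (.node [(116, (-1), 1, 1)] .nil .nil)))))) (.node [] (.node [] (.node [] (.node [] (.node [] (.node [(25, 1, 1, 1)] .nil .nil) .nil) (.node [(11, 1, 1, 1)] .nil (.node [(75, 1, 1, 1)] .nil .nil))) (.node [] (.node [] .nil (.node [(69, (-1), 1, 1)] .nil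 .nil)) (.node [(21, 1, 1, 1)] .nil .nil))) (.node [] (.node [] (.node [(4, (-1), 1, 1)] .nil (.node [(61, (-1), 1, 1)] .nil .nil)) .nil) (.node [] (.node [] .nil (.node [(72, 1, 1, 1)] .nil .nil)) .nil))) (.node [] (.node [] (.node [] (.node [(3, (-1), 1, 1)] .nil .nil) (.node [(13, (-1), 1, 1)] .nil (.node [(77, (-1), 1, 1)] .nil .nil))) (.node [] (.node [] .nil (.node [(70, (-1), 1, 1)] .nil .nil)) (.node [] .nil (.node [(91, 1, 1, 1)] .nil .nil)))) (.node [] (.node [] (.node [(6, 1, 1, 1)] .nil (.node [(63, (-1), 1, 1)] .nil .nil)) .nil) (.node [] (.node [] (.node [(28, 1, 1, 1)] .nil .nil) (.node [(74, 1, 1, 1)] .nil .nil)) (.node [(23, 1, 1, 1)] (.node [(44, 1, 1, 1)] .nil .nil) .nil))))))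
def C24 : List (ℕ × List (ℕ × ℤ)) := [(9, [(0, 1)]), (34, [(3, (-1))]), (36, [(4, (-1))]), (38, [(6, 1)]), (48, [(11, 1)]), (50, [(13, (-1))]), (51, [(15, (-1))]), (53, [(17, (-1))]), (55, [(19, 1)]), (56, [(21, 1)]), (62, [(23, 1)]), (64, [(25, 1)]), (67, [(26, 1)]), (78, [(28, 1)]), (81, [(31, (-1))]), (85, [(32, 1)]), (93, [(40, (-1))]), (94, [(44, 1)]), (97, [(47, (-1))]), (99, [(58, (-1))]), (100, [(61, (-1))]), (102, [(63, (-1))]), (104, [(69, (-1))]), (106, [(70, (-1))]), (108, [(72, 1)]), (110, [(74, 1)]), (112, [(75, 1)]), (114, [(77, (-1))]), (119, [(87, (-1))]), (121, [(89, 1)]), (122, [(91, 1)]), (125, [(116, (-1))])]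
def M25 : Tr (List (ℕ × ℤ × ℕ × ℕ)) := (.node [] (.node [] (.node [] (.node [] .nil (.node [] (.node [] .nil (.node [(69, (-1), 1, 1)] .nil .nil)) (.node [] .nil (.node [(88, 1, 1, 1)] .nil .nil)))) (.node [] (.node [] (.node [] .nil (.node [(59, (-1), 1, 1)] .nil .nil)) (.node [(16, (-1), 1, 1)] .nil .nil)) (.node [] (.node [] .nil (.node [(72, 1, 1, 1)] .nil .nil)) .nil))) (.node [] (.node [] (.node [] (.node [(3, 1, 1, 1)] .nil .nil) (.node [(13, 1, 1, 1)] .nil (.node [(77, (-1), 1, 1)] .nil .nil))) .nil) (.node [] (.node [] (.node [(6, (-1), 1, 1)] .nil (.node [(64, (-1), 1, 1)] .nil .nil)) (.node [(18, (-1), 1, 1)] .nil .nil)) (.node [] (.node [] .nil (.node [(74, 1, 1, 1)] .nil .nil)) (.node [(24, 1, 1, 1)] (.node [(41, (-1), 1, 1)] .nil .nil) (.node [(117, 1, 1, 1)] .nil .nil)))))) (.node [] (.node [] (.node [(0, (-1), 1, 1)] (.node [] (.node [] .nil (.node [(47, (-1), 1, 1)] .nil .nil)) (.node [(12, 1, 1, 1)] (.node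 [(31, (-1), 1, 1)] .nil .nil) (.node [(76, (-1), 1, 1)] .nil .nil))) (.node [] .nil (.node [(22, 1, 1, 1)] .nil (.node [(89, 1, 1, 1)] .nil .nil)))) (.node [] (.node [] (.node [(5, (-1), 1, 1)] .nil .nil) (.node [] (.node [(32, 1, 1, 1)] .nil .nil) .nil)) (.node [] .nil (.node [(23, 1, 1, 1)] .nil .nil)))) (.node [] (.node [] (.node [] (.node [] (.node [(26, 1, 1, 1)] .nil .nil) .nil) .nil) (.node [] (.node [] .nil (.node [(71, 1, 1, 1)] .nil .nil)) (.node [] .nil (.node [(92, (-1), 1, 1)] .nil .nil)))) (.node [] (.node [] (.node [] .nil (.node [(65, (-1), 1, 1)] .nil .nil)) (.node [(19, (-1), 1, 1)] .nil .nil)) (.node [] (.node [] (.node [(29, 1, 1, 1)] .nil .nil) .nil) (.node [] (.node [(45, 1, 1, 1)] .nil .nil) .nil))))))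
def C25 : List (ℕ × List (ℕ × ℤ)) := [(8, [(0, (-1))]), (33, [(3, 1)]), (36, [(5, (-1))]), (37, [(6, (-1))]), (48, [(12, 1)]), (49, [(13, 1)]), (51, [(16, (-1))]), (53, [(18, (-1))]), (54, [(19, (-1))]), (56, [(22, 1)]), (60, [(23, 1)]), (61, [(24, 1)]), (66, [(26, 1)]), (78, [(29, 1)]), (80, [(31, (-1))]), (84, [(32, 1)]), (93, [(41, (-1))]), (94, [(45, 1)]), (96, [(47, (-1))]), (99, [(59, (-1))]), (101, [(64, (-1))]), (102, [(65, (-1))]), (103, [(69, (-1))]), (106, [(71, 1)]), (107, [(72, 1)]), (109, [(74, 1)]), (112, [(76, (-1))]), (113, [(77, (-1))]), (119, [(88, 1)]), (120, [(89, 1)]), (122, [(92, (-1))]), (125, [(117, 1)])]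
def M26 : Tr (List (ℕ × ℤ × ℕ × ℕ)) := (.node [] (.node [] (.node [] (.node [(0, 1, 1, 1)] (.node [] (.node [] .nil (.node [(47, (-1), 1, 1)] .nil .nil)) (.node [] (.node [(31, (-1), 1, 1)] .nil .nil) (.node [(77, (-1), 1, 1)] .nil .nil))) (.node [] (.node [] .nil (.node [(70, 1, 1, 1)] .nil .nil)) (.node [(22, (-1), 1, 1)] .nil (.node [(90, (-1), 1, 1)] .nil .nil)))) (.node [] (.node [] (.node [(6, 1, 1, 1)] .nil .nil) (.node [] (.node [(32, 1, 1, 1)] .nil .nil) .nil)) (.node [] .nil (.node [(25, 1, 1, 1)] .nil .nil)))) (.node [] (.node [] (.node [] (.node [(4, 1, 1, 1)] .nil .nil) (.node [(15, 1, 1, 1)] .nil .nil)) (.node [] (.node [] .nil (.node [(72, 1, 1, 1)] .nil .nil)) (.node [(23, 1, 1, 1)] .nil (.node [(92, (-1), 1, 1)] .nil .nil)))) (.node [] (.node [] (.node [] .nil (.node [(67, (-1), 1, 1)] .nil .nil)) (.node [(20, (-1), 1, 1)] .nil .nil)) (.node [] (.node [] .nil (.node [(75, (-1), 1, 1)] .nil .nil)) (.node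 [] (.node [(42, (-1), 1, 1)] .nil .nil) (.node [(118, (-1), 1, 1)] .nil .nil)))))) (.node [] (.node [] (.node [] (.node [] .nil (.node [(14, 1, 1, 1)] .nil .nil)) (.node [] (.node [] .nil (.node [(71, 1, 1, 1)] .nil .nil)) (.node [] .nil (.node [(91, (-1), 1, 1)] .nil .nil)))) (.node [] (.node [] (.node [] .nil (.node [(66, (-1), 1, 1)] .nil .nil)) .nil) .nil)) (.node [] (.node [] (.node [] (.node [(5, 1, 1, 1)] .nil .nil) (.node [(16, 1, 1, 1)] .nil .nil)) (.node [] .nil (.node [(24, 1, 1, 1)] .nil .nil))) (.node [] (.node [] (.node [] .nil (.node [(68, (-1), 1, 1)] .nil .nil)) (.node [(21, (-1), 1, 1)] .nil .nil)) (.node [] (.node [] (.node [(30, 1, 1, 1)] .nil .nil) (.node [(76, (-1), 1, 1)] .nil .nil)) (.node [] (.node [(46, 1, 1, 1)] .nil .nil) .nil))))))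
def C26 : List (ℕ × List (ℕ × ℤ)) := [(7, [(0, 1)]), (33, [(4, 1)]), (34, [(5, 1)]), (35, [(6, 1)]), (48, [(14, 1)]), (49, [(15, 1)]), (50, [(16, 1)]), (53, [(20, (-1))]), (54, [(21, (-1))]), (55, [(22, (-1))]), (57, [(23, 1)]), (58, [(24, 1)]), (59, [(25, 1)]), (78, [(30, 1)]), (79, [(31, (-1))]), (83, [(32, 1)]), (93, [(42, (-1))]), (94, [(46, 1)]), (95, [(47, (-1))]), (100, [(66, (-1))]), (101, [(67, (-1))]), (102, [(68, (-1))]), (103, [(70, 1)]), (104, [(71, 1)]), (105, [(72, 1)]), (109, [(75, (-1))]), (110, [(76, (-1))]), (111, [(77, (-1))]), (119, [(90, (-1))]), (120, [(91, (-1))]), (121, [(92, (-1))]), (125, [(118, (-1))])]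
def M27 : Tr (List (ℕ × ℤ × ℕ × ℕ)) := (.node [] (.node [] (.node [] (.node [] (.node [] (.node [] (.node [(28, 1, 1, 1)] .nil .nil) (.node [(57, (-1), 1, 1)] .nil .nil)) (.node [(23, 1, 1, 1)] .nil (.node [(83, (-1), 1, 1)] .nil .nil))) .nil) (.node [] (.node [] (.node [(7, 1, 1, 1)] .nil .nil) .nil) (.node [] (.node [] .nil (.node [(80, (-1), 1, 1)] .nil .nil)) .nil))) (.node [] (.node [] (.node [] (.node [] (.node [(29, 1, 1, 1)] .nil .nil) (.node [(62, (-1), 1, 1)] .nil .nil)) (.node [] .nil (.node [(84, (-1), 1, 1)] .nil .nil))) (.node [] (.node [(12, 1, 1, 1)] .nil (.node [(79, (-1), 1, 1)] .nil .nil)) .nil)) (.node [] (.node [] (.node [(8, 1, 1, 1)] .nil .nil) (.node [] .nil (.node [(88, (-1), 1, 1)] .nil .nil))) (.node [] (.node [(18, 1, 1, 1)] (.node [(32, 1, 1, 1)] .nil .nil) .nil) (.node [] (.node [(48, (-1), 1, 1)] .nil .nil) (.node [(119, (-1), 1, 1)] .nil .nil)))))) (.node [] (.node [] (.node [] (.node []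 (.node [] .nil (.node [(60, (-1), 1, 1)] .nil .nil)) .nil) (.node [] (.node [(11, 1, 1, 1)] (.node [(31, 1, 1, 1)] .nil .nil) .nil) .nil)) (.node [] (.node [] (.node [] (.node [(30, 1, 1, 1)] .nil .nil) .nil) (.node [] .nil (.node [(87, (-1), 1, 1)] .nil .nil))) (.node [] (.node [(17, 1, 1, 1)] .nil (.node [(81, (-1), 1, 1)] .nil .nil)) .nil))) (.node [(0, 1, 1, 1)] (.node [] (.node [] .nil (.node [] .nil (.node [(85, (-1), 1, 1)] .nil .nil))) (.node [] (.node [(14, 1, 1, 1)] .nil .nil) .nil)) (.node [] (.node [] (.node [(9, 1, 1, 1)] .nil (.node [(78, (-1), 1, 1)] .nil .nil)) (.node [] .nil (.node [(90, (-1), 1, 1)] .nil .nil))) (.node [] (.node [(20, 1, 1, 1)] .nil .nil) (.node [] (.node [(53, (-1), 1, 1)] .nil .nil) .nil))))))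
def C27 : List (ℕ × List (ℕ × ℤ)) := [(6, [(0, 1)]), (35, [(7, 1)]), (37, [(8, 1)]), (38, [(9, 1)]), (40, [(11, 1)]), (41, [(12, 1)]), (42, [(14, 1)]), (44, [(17, 1)]), (45, [(18, 1)]), (46, [(20, 1)]), (47, [(23, 1)]), (63, [(28, 1)]), (65, [(29, 1)]), (68, [(30, 1)]), (72, [(31, 1)]), (77, [(32, 1)]), (93, [(48, (-1))]), (94, [(53, (-1))]), (95, [(57, (-1))]), (96, [(60, (-1))]), (97, [(62, (-1))]), (102, [(78, (-1))]), (105, [(79, (-1))]), (107, [(80, (-1))]), (108, [(81, (-1))]), (111, [(83, (-1))]), (113, [(84, (-1))]), (114, [(85, (-1))]), (116, [(87, (-1))]), (117, [(88, (-1))]), (118, [(90, (-1))]), (125, [(119, (-1))])]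
def M28 : Tr (List (ℕ × ℤ × ℕ × ℕ)) := (.node [] (.node [] (.node [] (.node [] (.node [] (.node [] .nil (.node [(58, (-1), 1, 1)] .nil .nil)) (.node [(24, 1, 1, 1)] .nil .nil)) (.node [] (.node [(11, (-1), 1, 1)] (.node [(31, 1, 1, 1)] .nil .nil) .nil) .nil)) (.node [] (.node [] (.node [] (.node [(30, 1, 1, 1)] .nil .nil) .nil) (.node [] .nil (.node [(87, (-1), 1, 1)] .nil .nil))) (.node [] (.node [(17, (-1), 1, 1)] .nil .nil) .nil))) (.node [(0, (-1), 1, 1)] (.node [] .nil (.node [] (.node [(13, 1, 1, 1)] .nil .nil) .nil)) (.node [] (.node [] (.node [] .nil (.node [(78, (-1), 1, 1)] .nil .nil)) (.node [] .nil (.node [(89, 1, 1, 1)] .nil .nil))) (.node [] (.node [(19, 1, 1, 1)] .nil .nil) (.node [] (.node [(49, (-1), 1, 1)] .nil .nil) (.node [(120, 1, 1, 1)] .nil .nil)))))) (.node [] (.node [] (.node [] (.node [] (.node [] (.node [(29, 1, 1, 1)] .nil .nil) (.node [(61, (-1), 1, 1)] .nil .nil)) (.node [] .nil (.node [(84,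 (-1), 1, 1)] .nil .nil))) (.node [] (.node [] .nil (.node [(79, (-1), 1, 1)] .nil .nil)) .nil)) (.node [] (.node [] (.node [(8, (-1), 1, 1)] .nil .nil) .nil) (.node [] (.node [] (.node [(32, 1, 1, 1)] .nil .nil) (.node [(82, 1, 1, 1)] .nil .nil)) .nil))) (.node [] (.node [] (.node [] (.node [(7, (-1), 1, 1)] .nil (.node [(63, (-1), 1, 1)] .nil .nil)) (.node [] .nil (.node [(86, 1, 1, 1)] .nil .nil))) (.node [] (.node [(15, 1, 1, 1)] .nil (.node [(80, (-1), 1, 1)] .nil .nil)) .nil)) (.node [] (.node [] (.node [(10, 1, 1, 1)] .nil .nil) (.node [] .nil (.node [(91, 1, 1, 1)] .nil .nil))) (.node [] (.node [(21, 1, 1, 1)] .nil (.node [(83, (-1), 1, 1)] .nil .nil)) (.node [(27, 1, 1, 1)] (.node [(54, (-1), 1, 1)] .nil .nil) .nil))))))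
def C28 : List (ℕ × List (ℕ × ℤ)) := [(5, [(0, (-1))]), (34, [(7, (-1))]), (36, [(8, (-1))]), (38, [(10, 1)]), (39, [(11, (-1))]), (41, [(13, 1)]), (42, [(15, 1)]), (43, [(17, (-1))]), (45, [(19, 1)]), (46, [(21, 1)]), (47, [(24, 1)]), (62, [(27, 1)]), (64, [(29, 1)]), (67, [(30, 1)]), (71, [(31, 1)]), (76, [(32, 1)]), (93, [(49, (-1))]), (94, [(54, (-1))]), (95, [(58, (-1))]), (96, [(61, (-1))]), (98, [(63, (-1))]), (101, [(78, (-1))]), (104, [(79, (-1))]), (106, [(80, (-1))]), (108, [(82, 1)]), (110, [(83, (-1))]), (112, [(84, (-1))]), (114, [(86, 1)]), (115, [(87, (-1))]), (117, [(89, 1)]), (118, [(91, 1)]), (125, [(120, 1)])]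
def M29 : Tr (List (ℕ × ℤ × ℕ × ℕ)) := (.node [] (.node [] (.node [] (.node [] (.node [] (.node [] .nil (.node [(59, (-1), 1, 1)] .nil .nil)) (.node [(25, 1, 1, 1)] .nil .nil)) (.node [] (.node [(12, (-1), 1, 1)] .nil (.node [(79, (-1), 1, 1)] .nil .nil)) .nil)) (.node [] (.node [] .nil (.node [] .nil (.node [(88, 1, 1, 1)] .nil .nil))) (.node [] (.node [(18, (-1), 1, 1)] (.node [(32, 1, 1, 1)] .nil .nil) (.node [(82, 1, 1, 1)] .nil .nil)) .nil))) (.node [] (.node [] (.node [] (.node [(7, 1, 1, 1)] .nil (.node [(64, (-1), 1, 1)] .nil .nil)) (.node [] .nil (.node [(86, 1, 1, 1)] .nil .nil))) .nil) (.node [] (.node [] (.node [(10, (-1), 1, 1)] .nil .nil) .nil) (.node [] (.node [] .nil (.node [(83, (-1), 1, 1)] .nil .nil)) (.node [(28, 1, 1, 1)] (.node [(50, (-1), 1, 1)] .nil .nil) (.node [(121, (-1), 1, 1)] .nil .nil)))))) (.node [] (.node [(0, 1, 1, 1)] (.node [] (.node [] .nil (.node [] .nil (.node [(85, 1, 1, 1)] .nil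 .nil))) (.node [] (.node [(13, (-1), 1, 1)] .nil .nil) .nil)) (.node [] (.node [] (.node [(9, (-1), 1, 1)] .nil (.node [(78, (-1), 1, 1)] .nil .nil)) (.node [] .nil (.node [(89, 1, 1, 1)] .nil .nil))) (.node [] (.node [(19, (-1), 1, 1)] .nil .nil) (.node [(27, 1, 1, 1)] .nil .nil)))) (.node [] (.node [] (.node [] (.node [] (.node [(30, 1, 1, 1)] .nil .nil) (.node [(65, (-1), 1, 1)] .nil .nil)) .nil) (.node [] (.node [(16, 1, 1, 1)] .nil (.node [(81, 1, 1, 1)] .nil .nil)) .nil)) (.node [] (.node [] (.node [] (.node [(31, 1, 1, 1)] .nil .nil) .nil) (.node [] .nil (.node [(92, (-1), 1, 1)] .nil .nil))) (.node [] (.node [(22, 1, 1, 1)] .nil .nil) (.node [] (.node [(55, (-1), 1, 1)] .nil .nil) .nil))))))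
def C29 : List (ℕ × List (ℕ × ℤ)) := [(4, [(0, 1)]), (33, [(7, 1)]), (36, [(9, (-1))]), (37, [(10, (-1))]), (39, [(12, (-1))]), (40, [(13, (-1))]), (42, [(16, 1)]), (43, [(18, (-1))]), (44, [(19, (-1))]), (46, [(22, 1)]), (47, [(25, 1)]), (60, [(27, 1)]), (61, [(28, 1)]), (66, [(30, 1)]), (70, [(31, 1)]), (75, [(32, 1)]), (93, [(50, (-1))]), (94, [(55, (-1))]), (95, [(59, (-1))]), (97, [(64, (-1))]), (98, [(65, (-1))]), (100, [(78, (-1))]), (103, [(79, (-1))]), (106, [(81, 1)]), (107, [(82, 1)]), (109, [(83, (-1))]), (112, [(85, 1)]), (113, [(86, 1)]), (115, [(88, 1)]), (116, [(89, 1)]), (118, [(92, (-1))]), (125, [(121, (-1))])]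
def M30 : Tr (List (ℕ × ℤ × ℕ × ℕ)) := (.node [] (.node [] (.node [(0, (-1), 1, 1)] (.node [] (.node [] .nil (.node [(26, 1, 1, 1)] .nil (.node [(86, 1, 1, 1)] .nil .nil))) (.node [] (.node [(14, (-1), 1, 1)] .nil (.node [(80, 1, 1, 1)] .nil .nil)) .nil)) (.node [] (.node [] (.node [(10, 1, 1, 1)] .nil (.node [(78, (-1), 1, 1)] .nil .nil)) (.node [] .nil (.node [(90, (-1), 1, 1)] .nil .nil))) (.node [] (.node [(20, (-1), 1, 1)] .nil .nil) (.node [(29, 1, 1, 1)] .nil .nil)))) (.node [] (.node [] (.node [] (.node [(8, 1, 1, 1)] .nil (.node [(67, (-1), 1, 1)] .nil .nil)) .nil) (.node [] (.node [(16, (-1), 1, 1)] .nil (.node [(82, 1, 1, 1)] .nil .nil)) (.node [(27, 1, 1, 1)] .nil .nil))) (.node [] (.node [] (.node [] (.node [(31, 1, 1, 1)] .nil .nil) .nil) (.node [] .nil (.node [(92, (-1), 1, 1)] .nil .nil))) (.node [] (.node [(22, (-1), 1, 1)] .nil (.node [(84, 1, 1, 1)] .nil .nil)) (.node [] (.node [(51, (-1), 1, 1)] .nil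 .nil) (.node [(122, 1, 1, 1)] .nil .nil)))))) (.node [] (.node [] (.node [] (.node [] (.node [] .nil (.node [(66, (-1), 1, 1)] .nil .nil)) .nil) (.node [] (.node [(15, (-1), 1, 1)] .nil (.node [(81, 1, 1, 1)] .nil .nil)) .nil)) (.node [] (.node [] .nil (.node [] .nil (.node [(91, (-1), 1, 1)] .nil .nil))) (.node [] (.node [(21, (-1), 1, 1)] .nil .nil) .nil))) (.node [] (.node [] (.node [] (.node [(9, 1, 1, 1)] .nil (.node [(68, (-1), 1, 1)] .nil .nil)) .nil) (.node [] (.node [] (.node [(32, 1, 1, 1)] .nil .nil) .nil) (.node [(28, 1, 1, 1)] .nil .nil))) (.node [] .nil (.node [] (.node [] .nil (.node [(85, 1, 1, 1)] .nil .nil)) (.node [] (.node [(56, (-1), 1, 1)] .nil .nil) .nil))))))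
def C30 : List (ℕ × List (ℕ × ℤ)) := [(3, [(0, (-1))]), (33, [(8, 1)]), (34, [(9, 1)]), (35, [(10, 1)]), (39, [(14, (-1))]), (40, [(15, (-1))]), (41, [(16, (-1))]), (43, [(20, (-1))]), (44, [(21, (-1))]), (45, [(22, (-1))]), (47, [(26, 1)]), (57, [(27, 1)]), (58, [(28, 1)]), (59, [(29, 1)]), (69, [(31, 1)]), (74, [(32, 1)]), (93, [(51, (-1))]), (94, [(56, (-1))]), (96, [(66, (-1))]), (97, [(67, (-1))]), (98, [(68, (-1))]), (99, [(78, (-1))]), (103, [(80, 1)]), (104, [(81, 1)]), (105, [(82, 1)]), (109, [(84, 1)]), (110, [(85, 1)]), (111, [(86, 1)]), (115, [(90, (-1))]), (116, [(91, (-1))]), (117, [(92, (-1))]), (125, [(122, 1)])]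
def M31 : Tr (List (ℕ × ℤ × ℕ × ℕ)) := (.node [] (.node [] (.node [] (.node [] (.node [] (.node [] .nil (.node [(69, (-1), 1, 1)] .nil .nil)) (.node [] .nil (.node [(89, (-1), 1, 1)] .nil .nil))) (.node [] .nil (.node [(29, 1, 1, 1)] .nil .nil))) (.node [] (.node [] (.node [(13, 1, 1, 1)] .nil (.node [(79, 1, 1, 1)] .nil .nil)) .nil) (.node [] (.node [(23, (-1), 1, 1)] .nil .nil) .nil))) (.node [] (.node [] (.node [] (.node [(11, 1, 1, 1)] .nil (.node [(71, (-1), 1, 1)] .nil .nil)) (.node [] .nil (.node [(91, (-1), 1, 1)] .nil .nil))) (.node [] (.node [] (.node [(32, 1, 1, 1)] .nil .nil) .nil) .nil)) (.node [] (.node [] (.node [(15, 1, 1, 1)] .nil (.node [(81, 1, 1, 1)] .nil .nil)) (.node [(27, 1, 1, 1)] .nil .nil)) (.node [] (.node [(25, (-1), 1, 1)] .nil (.node [(87, (-1), 1, 1)] .nil .nil)) (.node [] (.node [(52, (-1), 1, 1)] .nil .nil) (.node [(123, (-1), 1, 1)] .nil .nil)))))) (.node [(0, 1, 1, 1)] (.node [] (.node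 [] (.node [] (.node [] .nil (.node [(70, (-1), 1, 1)] .nil .nil)) (.node [] .nil (.node [(90, (-1), 1, 1)] .nil .nil))) (.node [] .nil (.node [(30, 1, 1, 1)] .nil .nil))) (.node [] (.node [] (.node [(14, 1, 1, 1)] .nil (.node [(80, 1, 1, 1)] .nil .nil)) .nil) (.node [] (.node [(24, (-1), 1, 1)] .nil .nil) .nil))) (.node [] (.node [] (.node [] (.node [(12, 1, 1, 1)] .nil (.node [(72, (-1), 1, 1)] .nil .nil)) (.node [] .nil (.node [(92, (-1), 1, 1)] .nil .nil))) .nil) (.node [] (.node [] (.node [(16, 1, 1, 1)] .nil (.node [(82, 1, 1, 1)] .nil .nil)) (.node [(28, 1, 1, 1)] .nil .nil)) (.node [] (.node [(26, (-1), 1, 1)] .nil (.node [(88, (-1), 1, 1)] .nil .nil)) .nil)))))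
def C31 : List (ℕ × List (ℕ × ℤ)) := [(2, [(0, 1)]), (33, [(11, 1)]), (34, [(12, 1)]), (35, [(13, 1)]), (36, [(14, 1)]), (37, [(15, 1)]), (38, [(16, 1)]), (43, [(23, (-1))]), (44, [(24, (-1))]), (45, [(25, (-1))]), (46, [(26, (-1))]), (53, [(27, 1)]), (54, [(28, 1)]), (55, [(29, 1)]), (56, [(30, 1)]), (73, [(32, 1)]), (93, [(52, (-1))]), (95, [(69, (-1))]), (96, [(70, (-1))]), (97, [(71, (-1))]), (98, [(72, (-1))]), (99, [(79, 1)]), (100, [(80, 1)]), (101, [(81, 1)]), (102, [(82, 1)]), (109, [(87, (-1))]), (110, [(88, (-1))]), (111, [(89, (-1))]), (112, [(90, (-1))]), (113, [(91, (-1))]), (114, [(92, (-1))]), (125, [(123, (-1))])]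
def M32 : Tr (List (ℕ × ℤ × ℕ × ℕ)) := (.node [] (.node [(0, (-1), 1, 1)] (.node [] (.node [] (.node [] (.node [] .nil (.node [(74, (-1), 1, 1)] .nil .nil)) .nil) (.node [] (.node [(23, 1, 1, 1)] .nil (.node [(87, (-1), 1, 1)] .nil .nil)) .nil)) (.node [] (.node [] (.node [(19, 1, 1, 1)] .nil (.node [(83, (-1), 1, 1)] .nil .nil)) (.node [(30, 1, 1, 1)] .nil .nil)) (.node [] (.node [] .nil (.node [(91, (-1), 1, 1)] .nil .nil)) .nil))) (.node [] (.node [] (.node [] (.node [(17, 1, 1, 1)] .nil (.node [(76, (-1), 1, 1)] .nil .nil)) (.node [(28, 1, 1, 1)] .nil .nil)) (.node [] (.node [(25, 1, 1, 1)] .nil (.node [(89, (-1), 1, 1)] .nil .nil)) .nil)) (.node [] (.node [] (.node [(21, 1, 1, 1)] .nil (.node [(85, (-1), 1, 1)] .nil .nil)) .nil) (.node [] .nil (.node [] .nil (.node [(124, 1, 1, 1)] .nil .nil)))))) (.node [] (.node [] (.node [] (.node [] (.node [] .nil (.node [(75, (-1), 1, 1)] .nil .nil)) (.node [(27, 1, 1, 1)] .nil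 .nil)) (.node [] (.node [(24, 1, 1, 1)] .nil (.node [(88, (-1), 1, 1)] .nil .nil)) .nil)) (.node [] (.node [] (.node [(20, 1, 1, 1)] .nil (.node [(84, (-1), 1, 1)] .nil .nil)) (.node [(31, 1, 1, 1)] .nil .nil)) (.node [] (.node [] .nil (.node [(92, (-1), 1, 1)] .nil .nil)) .nil))) (.node [] (.node [] (.node [] (.node [(18, 1, 1, 1)] .nil (.node [(77, (-1), 1, 1)] .nil .nil)) (.node [(29, 1, 1, 1)] .nil .nil)) (.node [] (.node [(26, 1, 1, 1)] .nil (.node [(90, (-1), 1, 1)] .nil .nil)) .nil)) (.node [] (.node [] (.node [(22, 1, 1, 1)] .nil (.node [(86, (-1), 1, 1)] .nil .nil)) .nil) (.node [] .nil (.node [] (.node [(73, (-1), 1, 1)] .nil .nil) .nil))))))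
def C32 : List (ℕ × List (ℕ × ℤ)) := [(1, [(0, (-1))]), (33, [(17, 1)]), (34, [(18, 1)]), (35, [(19, 1)]), (36, [(20, 1)]), (37, [(21, 1)]), (38, [(22, 1)]), (39, [(23, 1)]), (40, [(24, 1)]), (41, [(25, 1)]), (42, [(26, 1)]), (48, [(27, 1)]), (49, [(28, 1)]), (50, [(29, 1)]), (51, [(30, 1)]), (52, [(31, 1)]), (94, [(73, (-1))]), (95, [(74, (-1))]), (96, [(75, (-1))]), (97, [(76, (-1))]), (98, [(77, (-1))]), (99, [(83, (-1))]), (100, [(84, (-1))]), (101, [(85, (-1))]), (102, [(86, (-1))]), (103, [(87, (-1))]), (104, [(88, (-1))]), (105, [(89, (-1))]), (106, [(90, (-1))]), (107, [(91, (-1))]), (108, [(92, (-1))]), (125, [(124, 1)])]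
def M33 : Tr (List (ℕ × ℤ × ℕ × ℕ)) := (.node [] (.node [] (.node [] (.node [] (.node [] (.node [(11, (-1), 1, 1)] .nil .nil) .nil) (.node [] (.node [] (.node [(39, 1, 1, 1)] .nil .nil) .nil) .nil)) (.node [] (.node [] (.node [] (.node [(36, 1, 1, 1)] .nil .nil) .nil) .nil) (.node [] .nil (.node [] (.node [(61, (-1), 1, 1)] .nil .nil) (.node [(103, 1, 1, 1)] .nil .nil))))) (.node [] (.node [] (.node [] (.node [] (.node [(35, (-1), 1, 1)] .nil .nil) .nil) (.node [] (.node [(48, 1, 1, 1)] .nil .nil) .nil)) (.node [(3, (-1), 1, 1)] .nil (.node [] (.node [(58, (-1), 1, 1)] .nil .nil) (.node [(99, 1, 1, 1)] .nil .nil)))) (.node [] (.node [] .nil (.node [] (.node [(53, 1, 1, 1)] .nil .nil) (.node [(95, 1, 1, 1)] .nil .nil))) (.node [(7, (-1), 1, 1)] (.node [] (.node [(44, (-1), 1, 1)] .nil .nil) .nil) .nil)))) (.node [] (.node [] (.node [] (.node [(1, (-1), 1, 1)] (.node [(17, (-1), 1, 1)] (.node [(34, 1, 1, 1)] .nil .nil) .nil)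 .nil) (.node [] (.node [] (.node [(40, (-1), 1, 1)] .nil .nil) .nil) (.node [] (.node [(57, 1, 1, 1)] .nil .nil) .nil))) (.node [] (.node [] (.node [] (.node [(37, (-1), 1, 1)] .nil .nil) .nil) .nil) (.node [] (.node [] (.node [(43, 1, 1, 1)] .nil .nil) (.node [(93, 1, 1, 1)] .nil .nil)) (.node [] .nil (.node [(109, 1, 1, 1)] .nil .nil))))) (.node [] (.node [] (.node [] .nil (.node [] (.node [(49, (-1), 1, 1)] .nil .nil) (.node [(94, 1, 1, 1)] .nil .nil))) (.node [(4, (-1), 1, 1)] .nil (.node [] (.node [(60, 1, 1, 1)] .nil .nil) (.node [(100, 1, 1, 1)] .nil .nil)))) (.node [] (.node [(2, (-1), 1, 1)] .nil (.node [] (.node [(54, (-1), 1, 1)] .nil .nil) (.node [(96, 1, 1, 1)] .nil .nil))) (.node [(8, (-1), 1, 1)] .nil .nil)))))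
def C33 : List (ℕ × List (ℕ × ℤ)) := [(16, [(1, (-1))]), (22, [(2, (-1))]), (25, [(3, (-1))]), (26, [(4, (-1))]), (29, [(7, (-1))]), (30, [(8, (-1))]), (31, [(11, (-1))]), (32, [(17, (-1))]), (64, [(34, 1)]), (65, [(35, (-1))]), (67, [(36, 1)]), (68, [(37, (-1))]), (71, [(39, 1)]), (72, [(40, (-1))]), (76, [(43, 1)]), (77, [(44, (-1))]), (81, [(48, 1)]), (82, [(49, (-1))]), (85, [(53, 1)]), (86, [(54, (-1))]), (88, [(57, 1)]), (89, [(58, (-1))]), (90, [(60, 1)]), (91, [(61, (-1))]), (108, [(93, 1)]), (114, [(94, 1)]), (117, [(95, 1)]), (118, [(96, 1)]), (121, [(99, 1)]), (122, [(100, 1)]), (123, [(103, 1)]), (124, [(109, 1)])]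
def M34 : Tr (List (ℕ × ℤ × ℕ × ℕ)) := (.node [] (.node [] (.node [] (.node [] (.node [(1, 1, 1, 1)] (.node [(12, (-1), 1, 1)] (.node [(35, 1, 1, 1)] .nil .nil) .nil) .nil) (.node [] .nil (.node [] (.node [(57, 1, 1, 1)] .nil .nil) .nil))) (.node [] .nil (.node [] (.node [] (.node [(43, 1, 1, 1)] .nil .nil) (.node [(93, 1, 1, 1)] .nil .nil)) (.node [] .nil (.node [(104, (-1), 1, 1)] .nil .nil))))) (.node [] (.node [] (.node [] .nil (.node [] .nil (.node [(94, 1, 1, 1)] .nil .nil))) (.node [] .nil (.node [] (.node [(59, (-1), 1, 1)] .nil .nil) .nil))) (.node [] (.node [(2, 1, 1, 1)] .nil .nil) (.node [] (.node [] (.node [(45, (-1), 1, 1)] .nil .nil) .nil) (.node [(33, 1, 1, 1)] .nil .nil))))) (.node [] (.node [] (.node [] (.node [] (.node [(18, (-1), 1, 1)] .nil .nil) (.node [] (.node [(48, 1, 1, 1)] .nil .nil) .nil)) (.node [(3, 1, 1, 1)] (.node [] (.node [(41, (-1), 1, 1)] .nil .nil) .nil) (.node [] .nil (.node [(99, 1,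 1, 1)] .nil .nil)))) (.node [] (.node [] (.node [] (.node [(38, (-1), 1, 1)] .nil .nil) .nil) (.node [] (.node [(53, 1, 1, 1)] .nil .nil) (.node [(95, 1, 1, 1)] .nil .nil))) (.node [(7, 1, 1, 1)] .nil (.node [] (.node [(64, (-1), 1, 1)] .nil .nil) (.node [(110, (-1), 1, 1)] .nil .nil))))) (.node [] (.node [] (.node [] (.node [] (.node [(36, 1, 1, 1)] .nil .nil) .nil) (.node [] (.node [(50, (-1), 1, 1)] .nil .nil) .nil)) (.node [(5, (-1), 1, 1)] .nil (.node [] (.node [(62, (-1), 1, 1)] .nil .nil) (.node [(101, (-1), 1, 1)] .nil .nil)))) (.node [] (.node [] (.node [] (.node [(39, 1, 1, 1)] .nil .nil) .nil) (.node [] (.node [(55, (-1), 1, 1)] .nil .nil) (.node [(97, (-1), 1, 1)] .nil .nil))) (.node [(9, (-1), 1, 1)] .nil .nil)))))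
def C34 : List (ℕ × List (ℕ × ℤ)) := [(15, [(1, 1)]), (21, [(2, 1)]), (24, [(3, 1)]), (26, [(5, (-1))]), (28, [(7, 1)]), (30, [(9, (-1))]), (31, [(12, (-1))]), (32, [(18, (-1))]), (61, [(33, 1)]), (63, [(35, 1)]), (66, [(36, 1)]), (68, [(38, (-1))]), (70, [(39, 1)]), (72, [(41, (-1))]), (75, [(43, 1)]), (77, [(45, (-1))]), (80, [(48, 1)]), (82, [(50, (-1))]), (84, [(53, 1)]), (86, [(55, (-1))]), (87, [(57, 1)]), (89, [(59, (-1))]), (90, [(62, (-1))]), (92, [(64, (-1))]), (107, [(93, 1)]), (113, [(94, 1)]), (116, [(95, 1)]), (118, [(97, (-1))]), (120, [(99, 1)]), (122, [(101, (-1))]), (123, [(104, (-1))]), (124, [(110, (-1))])]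
def M35 : Tr (List (ℕ × ℤ × ℕ × ℕ)) := (.node [] (.node [] (.node [] (.node [] (.node [] (.node [(13, (-1), 1, 1)] .nil .nil) .nil) (.node [(3, (-1), 1, 1)] (.node [] (.node [(41, (-1), 1, 1)] .nil .nil) .nil) (.node [] (.node [(58, 1, 1, 1)] .nil .nil) (.node [(99, 1, 1, 1)] .nil .nil)))) (.node [] (.node [] (.node [] (.node [(38, (-1), 1, 1)] .nil .nil) .nil) (.node [] .nil (.node [(95, 1, 1, 1)] .nil .nil))) (.node [(7, (-1), 1, 1)] (.node [] (.node [(44, 1, 1, 1)] .nil .nil) .nil) (.node [] (.node [(63, (-1), 1, 1)] .nil .nil) (.node [(105, 1, 1, 1)] .nil .nil))))) (.node [] (.node [] (.node [] .nil (.node [] (.node [(50, (-1), 1, 1)] .nil .nil) .nil)) .nil) (.node [] (.node [] .nil (.node [] (.node [(55, (-1), 1, 1)] .nil .nil) .nil)) .nil))) (.node [] (.node [] (.node [] (.node [] (.node [(19, (-1), 1, 1)] .nil .nil) (.node [] (.node [(49, 1, 1, 1)] .nil .nil) (.node [(94, 1, 1, 1)] .nil .nil))) (.node [] .nil (.node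 [] (.node [(59, (-1), 1, 1)] .nil .nil) .nil))) (.node [] (.node [(2, (-1), 1, 1)] .nil (.node [] (.node [(54, 1, 1, 1)] .nil .nil) .nil)) (.node [] (.node [] (.node [(45, (-1), 1, 1)] .nil .nil) .nil) (.node [(33, (-1), 1, 1)] (.node [(65, 1, 1, 1)] .nil .nil) (.node [(111, 1, 1, 1)] .nil .nil))))) (.node [] (.node [] (.node [] (.node [] (.node [(37, 1, 1, 1)] .nil .nil) .nil) .nil) (.node [(6, (-1), 1, 1)] (.node [] .nil (.node [(93, 1, 1, 1)] .nil .nil)) (.node [] .nil (.node [(102, 1, 1, 1)] .nil .nil)))) (.node [(1, (-1), 1, 1)] (.node [] (.node [] (.node [(40, 1, 1, 1)] .nil .nil) .nil) (.node [] .nil (.node [(98, 1, 1, 1)] .nil .nil))) (.node [(10, (-1), 1, 1)] .nil (.node [(34, 1, 1, 1)] .nil .nil))))))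
def C35 : List (ℕ × List (ℕ × ℤ)) := [(14, [(1, (-1))]), (20, [(2, (-1))]), (23, [(3, (-1))]), (26, [(6, (-1))]), (27, [(7, (-1))]), (30, [(10, (-1))]), (31, [(13, (-1))]), (32, [(19, (-1))]), (60, [(33, (-1))]), (62, [(34, 1)]), (66, [(37, 1)]), (67, [(38, (-1))]), (70, [(40, 1)]), (71, [(41, (-1))]), (75, [(44, 1)]), (76, [(45, (-1))]), (80, [(49, 1)]), (81, [(50, (-1))]), (84, [(54, 1)]), (85, [(55, (-1))]), (87, [(58, 1)]), (88, [(59, (-1))]), (91, [(63, (-1))]), (92, [(65, 1)]), (106, [(93, 1)]), (112, [(94, 1)]), (115, [(95, 1)]), (118, [(98, 1)]), (119, [(99, 1)]), (122, [(102, 1)]), (123, [(105, 1)]), (124, [(111, 1)])]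
def M36 : Tr (List (ℕ × ℤ × ℕ × ℕ)) := (.node [] (.node [] (.node [] (.node [] (.node [] (.node [(14, (-1), 1, 1)] (.node [(37, 1, 1, 1)] .nil .nil) .nil) (.node [] (.node [(48, 1, 1, 1)] .nil .nil) (.node [(94, 1, 1, 1)] .nil .nil))) (.node [] .nil (.node [] (.node [(60, (-1), 1, 1)] .nil .nil) .nil))) (.node [] (.node [(2, (-1), 1, 1)] .nil (.node [] (.node [(53, 1, 1, 1)] .nil .nil) .nil)) (.node [] .nil (.node [(34, 1, 1, 1)] (.node [(66, (-1), 1, 1)] .nil .nil) (.node [(106, 1, 1, 1)] .nil .nil))))) (.node [] (.node [] (.node [] (.node [] (.node [(38, 1, 1, 1)] .nil .nil) .nil) .nil) (.node [(5, 1, 1, 1)] (.node [] .nil (.node [(93, 1, 1, 1)] .nil .nil)) (.node [] .nil (.node [(101, (-1), 1, 1)] .nil .nil)))) (.node [(1, (-1), 1, 1)] (.node [] (.node [] (.node [(39, 1, 1, 1)] .nil .nil) .nil) (.node [] .nil (.node [(97, (-1), 1, 1)] .nil .nil))) (.node [(9, 1, 1, 1)] (.node [] (.node [(46, (-1), 1, 1)] .nil .nil) .nil)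 .nil)))) (.node [] (.node [] (.node [] (.node [] (.node [(20, (-1), 1, 1)] .nil .nil) .nil) (.node [(4, 1, 1, 1)] (.node [] (.node [(42, (-1), 1, 1)] .nil .nil) .nil) (.node [] (.node [(62, (-1), 1, 1)] .nil .nil) (.node [(100, (-1), 1, 1)] .nil .nil)))) (.node [] (.node [] .nil (.node [] .nil (.node [(96, (-1), 1, 1)] .nil .nil))) (.node [(8, 1, 1, 1)] .nil (.node [] (.node [(67, (-1), 1, 1)] .nil .nil) (.node [(112, 1, 1, 1)] .nil .nil))))) (.node [] (.node [] (.node [] .nil (.node [] (.node [(51, (-1), 1, 1)] .nil .nil) .nil)) (.node [] (.node [] (.node [(43, 1, 1, 1)] .nil .nil) .nil) (.node [(33, 1, 1, 1)] .nil .nil))) (.node [] (.node [] .nil (.node [] (.node [(56, (-1), 1, 1)] .nil .nil) .nil)) .nil))))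
def C36 : List (ℕ × List (ℕ × ℤ)) := [(13, [(1, (-1))]), (19, [(2, (-1))]), (24, [(4, 1)]), (25, [(5, 1)]), (28, [(8, 1)]), (29, [(9, 1)]), (31, [(14, (-1))]), (32, [(20, (-1))]), (58, [(33, 1)]), (59, [(34, 1)]), (63, [(37, 1)]), (65, [(38, 1)]), (69, [(39, 1)]), (72, [(42, (-1))]), (74, [(43, 1)]), (77, [(46, (-1))]), (79, [(48, 1)]), (82, [(51, (-1))]), (83, [(53, 1)]), (86, [(56, (-1))]), (87, [(60, (-1))]), (88, [(62, (-1))]), (91, [(66, (-1))]), (92, [(67, (-1))]), (105, [(93, 1)]), (111, [(94, 1)]), (116, [(96, (-1))]), (117, [(97, (-1))]), (120, [(100, (-1))]), (121, [(101, (-1))]), (123, [(106, 1)]), (124, [(112, 1)])]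
def M37 : Tr (List (ℕ × ℤ × ℕ × ℕ)) := (.node [] (.node [] (.node [] (.node [] (.node [] (.node [(15, (-1), 1, 1)] .nil .nil) (.node [] (.node [(49, 1, 1, 1)] .nil .nil) .nil)) (.node [(4, (-1), 1, 1)] (.node [] (.node [(42, (-1), 1, 1)] .nil .nil) .nil) (.node [] (.node [(61, (-1), 1, 1)] .nil .nil) (.node [(100, (-1), 1, 1)] .nil .nil)))) (.node [] (.node [] .nil (.node [] (.node [(54, 1, 1, 1)] .nil .nil) (.node [(96, (-1), 1, 1)] .nil .nil))) (.node [(8, (-1), 1, 1)] .nil (.node [(35, 1, 1, 1)] .nil (.node [(107, (-1), 1, 1)] .nil .nil))))) (.node [] (.node [] (.node [] .nil (.node [] (.node [(51, (-1), 1, 1)] .nil .nil) .nil)) (.node [(6, 1, 1, 1)] .nil (.node [(33, (-1), 1, 1)] (.node [(63, (-1), 1, 1)] .nil .nil) (.node [(102, 1, 1, 1)] .nil .nil)))) (.node [] (.node [] (.node [] (.node [(40, 1, 1, 1)] .nil .nil) .nil) (.node [] (.node [(56, (-1), 1, 1)] .nil .nil) (.node [(98, 1, 1, 1)] .nil .nil))) (.node [(10,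 1, 1, 1)] .nil .nil)))) (.node [] (.node [] (.node [] (.node [] (.node [(21, (-1), 1, 1)] (.node [(38, 1, 1, 1)] .nil .nil) .nil) .nil) (.node [] (.node [] .nil (.node [(93, 1, 1, 1)] .nil .nil)) .nil)) (.node [(1, 1, 1, 1)] .nil (.node [] (.node [] (.node [(46, (-1), 1, 1)] .nil .nil) .nil) (.node [] (.node [(68, 1, 1, 1)] .nil .nil) (.node [(113, (-1), 1, 1)] .nil .nil))))) (.node [] (.node [] (.node [(2, 1, 1, 1)] .nil .nil) (.node [] (.node [] (.node [(44, 1, 1, 1)] .nil .nil) .nil) (.node [] (.node [(66, (-1), 1, 1)] .nil .nil) .nil))) (.node [] .nil (.node [] (.node [] .nil (.node [(94, 1, 1, 1)] .nil .nil)) (.node [(36, 1, 1, 1)] .nil .nil))))))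
def C37 : List (ℕ × List (ℕ × ℤ)) := [(12, [(1, 1)]), (18, [(2, 1)]), (23, [(4, (-1))]), (25, [(6, 1)]), (27, [(8, (-1))]), (29, [(10, 1)]), (31, [(15, (-1))]), (32, [(21, (-1))]), (57, [(33, (-1))]), (59, [(35, 1)]), (62, [(36, 1)]), (64, [(38, 1)]), (69, [(40, 1)]), (71, [(42, (-1))]), (74, [(44, 1)]), (76, [(46, (-1))]), (79, [(49, 1)]), (81, [(51, (-1))]), (83, [(54, 1)]), (85, [(56, (-1))]), (87, [(61, (-1))]), (89, [(63, (-1))]), (90, [(66, (-1))]), (92, [(68, 1)]), (104, [(93, 1)]), (110, [(94, 1)]), (115, [(96, (-1))]), (117, [(98, 1)]), (119, [(100, (-1))]), (121, [(102, 1)]), (123, [(107, (-1))]), (124, [(113, (-1))])]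
def M38 : Tr (List (ℕ × ℤ × ℕ × ℕ)) := (.node [] (.node [] (.node [] (.node [] (.node [] (.node [(16, (-1), 1, 1)] .nil .nil) (.node [] (.node [(50, 1, 1, 1)] .nil .nil) .nil)) (.node [(5, (-1), 1, 1)] (.node [] .nil (.node [(93, 1, 1, 1)] .nil .nil)) (.node [] .nil (.node [(101, 1, 1, 1)] .nil .nil)))) (.node [(1, (-1), 1, 1)] (.node [] .nil (.node [] (.node [(55, 1, 1, 1)] .nil .nil) (.node [(97, 1, 1, 1)] .nil .nil))) (.node [(9, (-1), 1, 1)] (.node [] (.node [(46, (-1), 1, 1)] .nil .nil) .nil) (.node [] (.node [(68, 1, 1, 1)] .nil .nil) (.node [(108, 1, 1, 1)] .nil .nil))))) (.node [] (.node [] (.node [(2, (-1), 1, 1)] .nil .nil) (.node [] .nil (.node [(34, (-1), 1, 1)] (.node [(65, (-1), 1, 1)] .nil .nil) .nil))) (.node [] (.node [] (.node [] (.node [(41, 1, 1, 1)] .nil .nil) .nil) .nil) (.node [] (.node [] .nil (.node [(94, 1, 1, 1)] .nil .nil)) (.node [(37, 1, 1, 1)] .nil .nil))))) (.node [] (.node [] (.node [] (.node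 [] (.node [(22, (-1), 1, 1)] .nil .nil) (.node [] (.node [(51, (-1), 1, 1)] .nil .nil) .nil)) (.node [(6, (-1), 1, 1)] .nil (.node [] (.node [(64, (-1), 1, 1)] .nil .nil) (.node [(102, 1, 1, 1)] .nil .nil)))) (.node [] (.node [] .nil (.node [] (.node [(56, (-1), 1, 1)] .nil .nil) (.node [(98, 1, 1, 1)] .nil .nil))) (.node [(10, (-1), 1, 1)] .nil (.node [(36, 1, 1, 1)] .nil (.node [(114, 1, 1, 1)] .nil .nil))))) (.node [] (.node [] .nil (.node [] (.node [] (.node [(45, 1, 1, 1)] .nil .nil) .nil) (.node [(35, (-1), 1, 1)] (.node [(67, 1, 1, 1)] .nil .nil) .nil))) (.node [] (.node [] (.node [] (.node [(42, (-1), 1, 1)] .nil .nil) .nil) .nil) .nil))))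
def C38 : List (ℕ × List (ℕ × ℤ)) := [(11, [(1, (-1))]), (17, [(2, (-1))]), (23, [(5, (-1))]), (24, [(6, (-1))]), (27, [(9, (-1))]), (28, [(10, (-1))]), (31, [(16, (-1))]), (32, [(22, (-1))]), (57, [(34, (-1))]), (58, [(35, (-1))]), (60, [(36, 1)]), (61, [(37, 1)]), (69, [(41, 1)]), (70, [(42, (-1))]), (74, [(45, 1)]), (75, [(46, (-1))]), (79, [(50, 1)]), (80, [(51, (-1))]), (83, [(55, 1)]), (84, [(56, (-1))]), (88, [(64, (-1))]), (89, [(65, (-1))]), (90, [(67, 1)]), (91, [(68, 1)]), (103, [(93, 1)]), (109, [(94, 1)]), (115, [(97, 1)]), (116, [(98, 1)]), (119, [(101, 1)]), (120, [(102, 1)]), (123, [(108, 1)]), (124, [(114, 1)])]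
def M39 : Tr (List (ℕ × ℤ × ℕ × ℕ)) := (.node [] (.node [] (.node [] (.node [] (.node [] (.node [] (.node [(40, 1, 1, 1)] .nil .nil) .nil) (.node [] .nil (.node [(95, (-1), 1, 1)] .nil .nil))) (.node [] .nil (.node [(34, 1, 1, 1)] .nil .nil))) (.node [] (.node [(3, (-1), 1, 1)] .nil (.node [] (.node [(57, (-1), 1, 1)] .nil .nil) .nil)) (.node [] .nil (.node [] (.node [(70, (-1), 1, 1)] .nil .nil) .nil)))) (.node [] (.node [] (.node [] (.node [] (.node [(41, 1, 1, 1)] .nil .nil) .nil) (.node [] .nil (.node [(96, (-1), 1, 1)] .nil .nil))) (.node [] (.node [] (.node [(43, 1, 1, 1)] .nil .nil) .nil) (.node [] (.node [(69, (-1), 1, 1)] .nil .nil) (.node [(104, 1, 1, 1)] .nil .nil)))) (.node [] (.node [(4, (-1), 1, 1)] .nil (.node [] (.node [(62, (-1), 1, 1)] .nil .nil) .nil)) (.node [(12, 1, 1, 1)] (.node [] (.node [(47, (-1), 1, 1)] .nil .nil) .nil) .nil)))) (.node [] (.node [] (.node [] (.node [] (.node [(23, (-1), 1, 1)]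 .nil .nil) .nil) (.node [] .nil (.node [(36, 1, 1, 1)] .nil (.node [(103, 1, 1, 1)] .nil .nil)))) (.node [] (.node [] (.node [] (.node [(42, 1, 1, 1)] .nil .nil) .nil) (.node [] (.node [(60, (-1), 1, 1)] .nil .nil) .nil)) (.node [(11, 1, 1, 1)] .nil (.node [] (.node [(71, (-1), 1, 1)] .nil .nil) (.node [(115, (-1), 1, 1)] .nil .nil))))) (.node [] (.node [(1, 1, 1, 1)] (.node [] .nil (.node [] (.node [(52, (-1), 1, 1)] .nil .nil) (.node [(97, (-1), 1, 1)] .nil .nil))) (.node [] .nil (.node [] .nil (.node [(106, 1, 1, 1)] .nil .nil)))) (.node [] (.node [(5, (-1), 1, 1)] (.node [] .nil (.node [(93, 1, 1, 1)] .nil .nil)) (.node [(33, 1, 1, 1)] .nil .nil)) (.node [(14, 1, 1, 1)] (.node [] (.node [(48, 1, 1, 1)] .nil .nil) .nil) .nil)))))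
def C39 : List (ℕ × List (ℕ × ℤ)) := [(10, [(1, 1)]), (19, [(3, (-1))]), (21, [(4, (-1))]), (22, [(5, (-1))]), (28, [(11, 1)]), (29, [(12, 1)]), (30, [(14, 1)]), (32, [(23, (-1))]), (54, [(33, 1)]), (55, [(34, 1)]), (56, [(36, 1)]), (63, [(40, 1)]), (65, [(41, 1)]), (68, [(42, 1)]), (73, [(43, 1)]), (77, [(47, (-1))]), (78, [(48, 1)]), (82, [(52, (-1))]), (83, [(57, (-1))]), (84, [(60, (-1))]), (85, [(62, (-1))]), (89, [(69, (-1))]), (91, [(70, (-1))]), (92, [(71, (-1))]), (102, [(93, 1)]), (111, [(95, (-1))]), (113, [(96, (-1))]), (114, [(97, (-1))]), (120, [(103, 1)]), (121, [(104, 1)]), (122, [(106, 1)]), (124, [(115, (-1))])]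
def M40 : Tr (List (ℕ × ℤ × ℕ × ℕ)) := (.node [] (.node [] (.node [] (.node [] .nil (.node [] .nil (.node [(35, 1, 1, 1)] .nil (.node [(103, 1, 1, 1)] .nil .nil)))) (.node [] (.node [] (.node [] (.node [(42, 1, 1, 1)] .nil .nil) .nil) (.node [] (.node [(58, (-1), 1, 1)] .nil .nil) .nil)) (.node [(11, (-1), 1, 1)] .nil .nil))) (.node [] (.node [(1, (-1), 1, 1)] (.node [] .nil (.node [] (.node [(52, (-1), 1, 1)] .nil .nil) .nil)) (.node [] (.node [] (.node [(44, 1, 1, 1)] .nil .nil) .nil) (.node [] .nil (.node [(105, (-1), 1, 1)] .nil .nil)))) (.node [] (.node [] (.node [] .nil (.node [(93, 1, 1, 1)] .nil .nil)) (.node [(33, (-1), 1, 1)] .nil .nil)) (.node [(13, 1, 1, 1)] .nil .nil)))) (.node [] (.node [] (.node [] (.node [] (.node [(24, (-1), 1, 1)] (.node [(41, 1, 1, 1)] .nil .nil) .nil) (.node [] .nil (.node [(96, (-1), 1, 1)] .nil .nil))) (.node [] .nil (.node [(37, 1, 1, 1)] (.node [(69, (-1), 1, 1)] .nil .nil) .nil)))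 (.node [] (.node [(4, 1, 1, 1)] .nil (.node [] (.node [(61, (-1), 1, 1)] .nil .nil) .nil)) (.node [] (.node [] (.node [(47, (-1), 1, 1)] .nil .nil) .nil) (.node [] (.node [(72, 1, 1, 1)] .nil .nil) (.node [(116, 1, 1, 1)] .nil .nil))))) (.node [] (.node [] (.node [(3, 1, 1, 1)] .nil (.node [] .nil (.node [(98, 1, 1, 1)] .nil .nil))) (.node [] .nil (.node [] (.node [(70, (-1), 1, 1)] .nil .nil) (.node [(107, (-1), 1, 1)] .nil .nil)))) (.node [] (.node [(6, (-1), 1, 1)] .nil (.node [] (.node [(63, (-1), 1, 1)] .nil .nil) .nil)) (.node [(15, 1, 1, 1)] (.node [] (.node [(49, 1, 1, 1)] .nil .nil) (.node [(95, (-1), 1, 1)] .nil .nil)) (.node [(39, 1, 1, 1)] .nil .nil))))))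
def C40 : List (ℕ × List (ℕ × ℤ)) := [(9, [(1, (-1))]), (18, [(3, 1)]), (20, [(4, 1)]), (22, [(6, (-1))]), (27, [(11, (-1))]), (29, [(13, 1)]), (30, [(15, 1)]), (32, [(24, (-1))]), (53, [(33, (-1))]), (55, [(35, 1)]), (56, [(37, 1)]), (62, [(39, 1)]), (64, [(41, 1)]), (67, [(42, 1)]), (73, [(44, 1)]), (76, [(47, (-1))]), (78, [(49, 1)]), (81, [(52, (-1))]), (83, [(58, (-1))]), (84, [(61, (-1))]), (86, [(63, (-1))]), (88, [(69, (-1))]), (90, [(70, (-1))]), (92, [(72, 1)]), (101, [(93, 1)]), (110, [(95, (-1))]), (112, [(96, (-1))]), (114, [(98, 1)]), (119, [(103, 1)]), (121, [(105, (-1))]), (122, [(107, (-1))]), (124, [(116, 1)])]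
def M41 : Tr (List (ℕ × ℤ × ℕ × ℕ)) := (.node [] (.node [] (.node [] (.node [] .nil (.node [] .nil (.node [] (.node [(69, (-1), 1, 1)] .nil .nil) (.node [(104, (-1), 1, 1)] .nil .nil)))) (.node [] (.node [] .nil (.node [] (.node [(59, (-1), 1, 1)] .nil .nil) .nil)) (.node [(12, (-1), 1, 1)] (.node [] (.node [(47, (-1), 1, 1)] .nil .nil) .nil) (.node [] (.node [(72, 1, 1, 1)] .nil .nil) .nil)))) (.node [] (.node [] (.node [(3, (-1), 1, 1)] .nil (.node [] .nil (.node [(98, 1, 1, 1)] .nil .nil))) (.node [] (.node [] (.node [(45, 1, 1, 1)] .nil .nil) .nil) .nil)) (.node [] (.node [(6, 1, 1, 1)] .nil (.node [(34, (-1), 1, 1)] (.node [(64, (-1), 1, 1)] .nil .nil) .nil)) (.node [] (.node [] .nil (.node [(95, (-1), 1, 1)] .nil .nil)) (.node [(40, 1, 1, 1)] .nil .nil))))) (.node [] (.node [] (.node [(1, 1, 1, 1)] (.node [] (.node [(25, (-1), 1, 1)] .nil .nil) (.node [] (.node [(52, (-1), 1, 1)] .nil .nil) (.node [(97, 1, 1, 1)]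 .nil .nil))) (.node [] .nil (.node [(38, 1, 1, 1)] .nil (.node [(105, (-1), 1, 1)] .nil .nil)))) (.node [] (.node [(5, 1, 1, 1)] (.node [] .nil (.node [(93, 1, 1, 1)] .nil .nil)) .nil) (.node [(13, (-1), 1, 1)] .nil (.node [(39, 1, 1, 1)] .nil (.node [(117, (-1), 1, 1)] .nil .nil))))) (.node [] (.node [] (.node [] (.node [] (.node [(42, 1, 1, 1)] .nil .nil) .nil) .nil) (.node [] .nil (.node [] (.node [(71, 1, 1, 1)] .nil .nil) (.node [(108, 1, 1, 1)] .nil .nil)))) (.node [] (.node [] .nil (.node [(35, (-1), 1, 1)] (.node [(65, (-1), 1, 1)] .nil .nil) .nil)) (.node [(16, 1, 1, 1)] (.node [] (.node [(50, 1, 1, 1)] .nil .nil) .nil) .nil)))))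
def C41 : List (ℕ × List (ℕ × ℤ)) := [(8, [(1, 1)]), (17, [(3, (-1))]), (20, [(5, 1)]), (21, [(6, 1)]), (27, [(12, (-1))]), (28, [(13, (-1))]), (30, [(16, 1)]), (32, [(25, (-1))]), (53, [(34, (-1))]), (54, [(35, (-1))]), (56, [(38, 1)]), (60, [(39, 1)]), (61, [(40, 1)]), (66, [(42, 1)]), (73, [(45, 1)]), (75, [(47, (-1))]), (78, [(50, 1)]), (80, [(52, (-1))]), (83, [(59, (-1))]), (85, [(64, (-1))]), (86, [(65, (-1))]), (87, [(69, (-1))]), (90, [(71, 1)]), (91, [(72, 1)]), (100, [(93, 1)]), (109, [(95, (-1))]), (112, [(97, 1)]), (113, [(98, 1)]), (119, [(104, (-1))]), (120, [(105, (-1))]), (122, [(108, 1)]), (124, [(117, (-1))])]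
def M42 : Tr (List (ℕ × ℤ × ℕ × ℕ)) := (.node [] (.node [] (.node [] (.node [(1, (-1), 1, 1)] (.node [] .nil (.node [] (.node [(52, (-1), 1, 1)] .nil .nil) (.node [(98, 1, 1, 1)] .nil .nil))) (.node [] .nil (.node [(38, (-1), 1, 1)] (.node [(70, 1, 1, 1)] .nil .nil) (.node [(106, 1, 1, 1)] .nil .nil)))) (.node [] (.node [(6, (-1), 1, 1)] (.node [] .nil (.node [(93, 1, 1, 1)] .nil .nil)) .nil) (.node [(14, (-1), 1, 1)] .nil (.node [(41, 1, 1, 1)] .nil .nil)))) (.node [] (.node [] (.node [(4, (-1), 1, 1)] .nil .nil) (.node [] (.node [] (.node [(46, 1, 1, 1)] .nil .nil) .nil) (.node [(39, 1, 1, 1)] (.node [(72, 1, 1, 1)] .nil .nil) (.node [(108, 1, 1, 1)] .nil .nil)))) (.node [] (.node [] .nil (.node [(36, (-1), 1, 1)] (.node [(67, (-1), 1, 1)] .nil .nil) .nil)) (.node [(16, (-1), 1, 1)] (.node [] .nil (.node [(96, 1, 1, 1)] .nil .nil)) .nil)))) (.node [] (.node [] (.node [] (.node [] (.node [(26, (-1), 1, 1)] .nil .nil) .nil)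 (.node [] .nil (.node [] (.node [(71, 1, 1, 1)] .nil .nil) (.node [(107, 1, 1, 1)] .nil .nil)))) (.node [] (.node [] .nil (.node [] (.node [(66, (-1), 1, 1)] .nil .nil) .nil)) (.node [(15, (-1), 1, 1)] .nil (.node [] .nil (.node [(118, 1, 1, 1)] .nil .nil))))) (.node [] (.node [] (.node [(5, (-1), 1, 1)] .nil .nil) (.node [] (.node [] (.node [(47, (-1), 1, 1)] .nil .nil) .nil) (.node [(40, 1, 1, 1)] .nil .nil))) (.node [] (.node [] .nil (.node [(37, (-1), 1, 1)] (.node [(68, (-1), 1, 1)] .nil .nil) .nil)) (.node [] (.node [] (.node [(51, 1, 1, 1)] .nil .nil) (.node [(97, 1, 1, 1)] .nil .nil)) .nil)))))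
def C42 : List (ℕ × List (ℕ × ℤ)) := [(7, [(1, (-1))]), (17, [(4, (-1))]), (18, [(5, (-1))]), (19, [(6, (-1))]), (27, [(14, (-1))]), (28, [(15, (-1))]), (29, [(16, (-1))]), (32, [(26, (-1))]), (53, [(36, (-1))]), (54, [(37, (-1))]), (55, [(38, (-1))]), (57, [(39, 1)]), (58, [(40, 1)]), (59, [(41, 1)]), (73, [(46, 1)]), (74, [(47, (-1))]), (78, [(51, 1)]), (79, [(52, (-1))]), (84, [(66, (-1))]), (85, [(67, (-1))]), (86, [(68, (-1))]), (87, [(70, 1)]), (88, [(71, 1)]), (89, [(72, 1)]), (99, [(93, 1)]), (109, [(96, 1)]), (110, [(97, 1)]), (111, [(98, 1)]), (119, [(106, 1)]), (120, [(107, 1)]), (121, [(108, 1)]), (124, [(118, 1)])]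
def M43 : Tr (List (ℕ × ℤ × ℕ × ℕ)) := (.node [] (.node [] (.node [] (.node [] (.node [(4, 1, 1, 1)] (.node [(23, 1, 1, 1)] (.node [(44, 1, 1, 1)] .nil .nil) .nil) (.node [] (.node [(57, (-1), 1, 1)] .nil .nil) .nil)) .nil) (.node [] (.node [] .nil (.node [(36, 1, 1, 1)] .nil .nil)) (.node [] (.node [] .nil (.node [(96, (-1), 1, 1)] .nil .nil)) (.node [] (.node [(75, (-1), 1, 1)] .nil .nil) (.node [(115, (-1), 1, 1)] .nil .nil))))) (.node [] (.node [] (.node [] (.node [] (.node [(45, 1, 1, 1)] .nil .nil) .nil) (.node [(33, 1, 1, 1)] (.node [(62, (-1), 1, 1)] .nil .nil) .nil)) (.node [] (.node [] .nil (.node [(95, (-1), 1, 1)] .nil .nil)) (.node [] (.node [(74, (-1), 1, 1)] .nil .nil) (.node [(110, (-1), 1, 1)] .nil .nil)))) (.node [(3, 1, 1, 1)] .nil (.node [(18, 1, 1, 1)] .nil .nil)))) (.node [] (.node [] (.node [] (.node [(5, 1, 1, 1)] .nil (.node [] (.node [(60, (-1), 1, 1)] .nil .nil) .nil)) (.node [] (.node [] (.node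 [(47, 1, 1, 1)] .nil .nil) .nil) (.node [] .nil (.node [(109, (-1), 1, 1)] .nil .nil)))) (.node [] (.node [] (.node [] (.node [(46, 1, 1, 1)] .nil .nil) .nil) (.node [(39, 1, 1, 1)] .nil .nil)) (.node [(17, 1, 1, 1)] (.node [] .nil (.node [(97, (-1), 1, 1)] .nil .nil)) (.node [] (.node [(76, (-1), 1, 1)] .nil .nil) .nil)))) (.node [] (.node [(2, 1, 1, 1)] (.node [] .nil (.node [(34, 1, 1, 1)] .nil .nil)) (.node [] .nil (.node [] .nil (.node [(112, (-1), 1, 1)] .nil .nil)))) (.node [] (.node [] (.node [] .nil (.node [(94, (-1), 1, 1)] .nil .nil)) (.node [] (.node [(73, (-1), 1, 1)] .nil .nil) .nil)) (.node [(20, 1, 1, 1)] (.node [] (.node [(53, (-1), 1, 1)] .nil .nil) .nil) .nil)))))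
def C43 : List (ℕ × List (ℕ × ℤ)) := [(10, [(2, 1)]), (13, [(3, 1)]), (15, [(4, 1)]), (16, [(5, 1)]), (28, [(17, 1)]), (29, [(18, 1)]), (30, [(20, 1)]), (31, [(23, 1)]), (49, [(33, 1)]), (50, [(34, 1)]), (51, [(36, 1)]), (52, [(39, 1)]), (63, [(44, 1)]), (65, [(45, 1)]), (68, [(46, 1)]), (72, [(47, 1)]), (78, [(53, (-1))]), (79, [(57, (-1))]), (80, [(60, (-1))]), (81, [(62, (-1))]), (86, [(73, (-1))]), (89, [(74, (-1))]), (91, [(75, (-1))]), (92, [(76, (-1))]), (102, [(94, (-1))]), (105, [(95, (-1))]), (107, [(96, (-1))]), (108, [(97, (-1))]), (120, [(109, (-1))]), (121, [(110, (-1))]), (122, [(112, (-1))]), (123, [(115, (-1))])]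
def M44 : Tr (List (ℕ × ℤ × ℕ × ℕ)) := (.node [] (.node [] (.node [] (.node [] (.node [] (.node [(24, 1, 1, 1)] .nil .nil) (.node [] (.node [(58, (-1), 1, 1)] .nil .nil) .nil)) (.node [] (.node [] (.node [(47, 1, 1, 1)] .nil .nil) .nil) (.node [] .nil (.node [(109, (-1), 1, 1)] .nil .nil)))) (.node [] (.node [] (.node [] (.node [(46, 1, 1, 1)] .nil .nil) .nil) (.node [(37, 1, 1, 1)] .nil .nil)) (.node [(17, (-1), 1, 1)] .nil (.node [] .nil (.node [(116, 1, 1, 1)] .nil .nil))))) (.node [] (.node [(2, (-1), 1, 1)] .nil (.node [] .nil (.node [] .nil (.node [(111, 1, 1, 1)] .nil .nil)))) (.node [] (.node [] (.node [] .nil (.node [(94, (-1), 1, 1)] .nil .nil)) (.node [] (.node [(73, (-1), 1, 1)] .nil .nil) .nil)) (.node [(19, 1, 1, 1)] .nil .nil)))) (.node [] (.node [] (.node [] (.node [(6, 1, 1, 1)] (.node [] (.node [(45, 1, 1, 1)] .nil .nil) .nil) (.node [(33, (-1), 1, 1)] (.node [(61, (-1), 1, 1)] .nil .nil) .nil)) (.node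 [] (.node [] .nil (.node [(95, (-1), 1, 1)] .nil .nil)) (.node [] (.node [(74, (-1), 1, 1)] .nil .nil) .nil))) (.node [(3, (-1), 1, 1)] (.node [] .nil (.node [(40, 1, 1, 1)] .nil .nil)) (.node [] (.node [] .nil (.node [(98, 1, 1, 1)] .nil .nil)) (.node [] (.node [(77, 1, 1, 1)] .nil .nil) .nil)))) (.node [] (.node [] (.node [] .nil (.node [(35, 1, 1, 1)] (.node [(63, (-1), 1, 1)] .nil .nil) .nil)) (.node [] (.node [] .nil (.node [(96, (-1), 1, 1)] .nil .nil)) (.node [] (.node [(75, (-1), 1, 1)] .nil .nil) (.node [(113, 1, 1, 1)] .nil .nil)))) (.node [(4, (-1), 1, 1)] .nil (.node [(21, 1, 1, 1)] (.node [] (.node [(54, (-1), 1, 1)] .nil .nil) .nil) (.node [(43, 1, 1, 1)] .nil .nil))))))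
def C44 : List (ℕ × List (ℕ × ℤ)) := [(9, [(2, (-1))]), (12, [(3, (-1))]), (14, [(4, (-1))]), (16, [(6, 1)]), (27, [(17, (-1))]), (29, [(19, 1)]), (30, [(21, 1)]), (31, [(24, 1)]), (48, [(33, (-1))]), (50, [(35, 1)]), (51, [(37, 1)]), (52, [(40, 1)]), (62, [(43, 1)]), (64, [(45, 1)]), (67, [(46, 1)]), (71, [(47, 1)]), (78, [(54, (-1))]), (79, [(58, (-1))]), (80, [(61, (-1))]), (82, [(63, (-1))]), (85, [(73, (-1))]), (88, [(74, (-1))]), (90, [(75, (-1))]), (92, [(77, 1)]), (101, [(94, (-1))]), (104, [(95, (-1))]), (106, [(96, (-1))]), (108, [(98, 1)]), (119, [(109, (-1))]), (121, [(111, 1)]), (122, [(113, 1)]), (123, [(116, 1)])]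
def M45 : Tr (List (ℕ × ℤ × ℕ × ℕ)) := (.node [] (.node [] (.node [] (.node [] (.node [(6, (-1), 1, 1)] (.node [(25, 1, 1, 1)] .nil .nil) (.node [] (.node [(59, (-1), 1, 1)] .nil .nil) .nil)) (.node [] (.node [] .nil (.node [(95, (-1), 1, 1)] .nil .nil)) (.node [] (.node [(74, (-1), 1, 1)] .nil .nil) (.node [(110, 1, 1, 1)] .nil .nil)))) (.node [(3, 1, 1, 1)] (.node [] .nil (.node [(38, 1, 1, 1)] .nil .nil)) (.node [(18, (-1), 1, 1)] (.node [] .nil (.node [(98, 1, 1, 1)] .nil .nil)) (.node [] (.node [(77, 1, 1, 1)] .nil .nil) (.node [(117, (-1), 1, 1)] .nil .nil))))) (.node [] (.node [] (.node [] .nil (.node [(35, (-1), 1, 1)] (.node [(64, (-1), 1, 1)] .nil .nil) .nil)) .nil) (.node [] .nil (.node [] .nil (.node [(44, 1, 1, 1)] .nil .nil))))) (.node [] (.node [] (.node [(2, 1, 1, 1)] (.node [] .nil (.node [(34, (-1), 1, 1)] .nil .nil)) (.node [] .nil (.node [] .nil (.node [(111, 1, 1, 1)] .nil .nil)))) (.node [] (.node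 [] (.node [] .nil (.node [(94, (-1), 1, 1)] .nil .nil)) (.node [(41, 1, 1, 1)] (.node [(73, (-1), 1, 1)] .nil .nil) .nil)) (.node [(19, (-1), 1, 1)] .nil (.node [(43, 1, 1, 1)] .nil .nil)))) (.node [] (.node [] (.node [] (.node [] (.node [(46, 1, 1, 1)] .nil .nil) .nil) (.node [] (.node [(65, (-1), 1, 1)] .nil .nil) .nil)) (.node [] (.node [] .nil (.node [(97, 1, 1, 1)] .nil .nil)) (.node [] (.node [(76, 1, 1, 1)] .nil .nil) (.node [(114, (-1), 1, 1)] .nil .nil)))) (.node [(5, (-1), 1, 1)] (.node [] (.node [] (.node [(47, 1, 1, 1)] .nil .nil) .nil) .nil) (.node [(22, 1, 1, 1)] (.node [] (.node [(55, (-1), 1, 1)] .nil .nil) .nil) .nil)))))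
def C45 : List (ℕ × List (ℕ × ℤ)) := [(8, [(2, 1)]), (11, [(3, 1)]), (14, [(5, (-1))]), (15, [(6, (-1))]), (27, [(18, (-1))]), (28, [(19, (-1))]), (30, [(22, 1)]), (31, [(25, 1)]), (48, [(34, (-1))]), (49, [(35, (-1))]), (51, [(38, 1)]), (52, [(41, 1)]), (60, [(43, 1)]), (61, [(44, 1)]), (66, [(46, 1)]), (70, [(47, 1)]), (78, [(55, (-1))]), (79, [(59, (-1))]), (81, [(64, (-1))]), (82, [(65, (-1))]), (84, [(73, (-1))]), (87, [(74, (-1))]), (90, [(76, 1)]), (91, [(77, 1)]), (100, [(94, (-1))]), (103, [(95, (-1))]), (106, [(97, 1)]), (107, [(98, 1)]), (119, [(110, 1)]), (120, [(111, 1)]), (122, [(114, (-1))]), (123, [(117, (-1))])]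
def M46 : Tr (List (ℕ × ℤ × ℕ × ℕ)) := (.node [] (.node [] (.node [] (.node [(2, (-1), 1, 1)] (.node [] (.node [(26, 1, 1, 1)] .nil .nil) .nil) (.node [] (.node [] .nil (.node [(96, 1, 1, 1)] .nil .nil)) (.node [] (.node [(75, 1, 1, 1)] .nil .nil) (.node [(112, (-1), 1, 1)] .nil .nil)))) (.node [(4, 1, 1, 1)] (.node [] (.node [] .nil (.node [(94, (-1), 1, 1)] .nil .nil)) (.node [] (.node [(73, (-1), 1, 1)] .nil .nil) .nil)) (.node [(20, (-1), 1, 1)] .nil (.node [(45, 1, 1, 1)] .nil (.node [(118, 1, 1, 1)] .nil .nil))))) (.node [] (.node [] (.node [] .nil (.node [(37, (-1), 1, 1)] (.node [(67, (-1), 1, 1)] .nil .nil) .nil)) (.node [] (.node [] .nil (.node [(98, 1, 1, 1)] .nil .nil)) (.node [(43, 1, 1, 1)] (.node [(77, 1, 1, 1)] .nil .nil) (.node [(114, (-1), 1, 1)] .nil .nil)))) (.node [(6, 1, 1, 1)] (.node [] (.node [] (.node [(47, 1, 1, 1)] .nil .nil) .nil) .nil) (.node [(22, (-1), 1, 1)] .nil .nil)))) (.node [] (.node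 [] (.node [] (.node [] .nil (.node [(36, (-1), 1, 1)] (.node [(66, (-1), 1, 1)] .nil .nil) .nil)) (.node [] (.node [] .nil (.node [(97, 1, 1, 1)] .nil .nil)) (.node [] (.node [(76, 1, 1, 1)] .nil .nil) (.node [(113, (-1), 1, 1)] .nil .nil)))) (.node [(5, 1, 1, 1)] (.node [] .nil (.node [(42, 1, 1, 1)] .nil .nil)) (.node [(21, (-1), 1, 1)] .nil .nil))) (.node [] (.node [] (.node [] .nil (.node [(38, (-1), 1, 1)] (.node [(68, (-1), 1, 1)] .nil .nil) .nil)) (.node [] .nil (.node [(44, 1, 1, 1)] .nil .nil))) (.node [] .nil (.node [] (.node [] (.node [(56, (-1), 1, 1)] .nil .nil) .nil) .nil)))))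
def C46 : List (ℕ × List (ℕ × ℤ)) := [(7, [(2, (-1))]), (11, [(4, 1)]), (12, [(5, 1)]), (13, [(6, 1)]), (27, [(20, (-1))]), (28, [(21, (-1))]), (29, [(22, (-1))]), (31, [(26, 1)]), (48, [(36, (-1))]), (49, [(37, (-1))]), (50, [(38, (-1))]), (52, [(42, 1)]), (57, [(43, 1)]), (58, [(44, 1)]), (59, [(45, 1)]), (69, [(47, 1)]), (78, [(56, (-1))]), (80, [(66, (-1))]), (81, [(67, (-1))]), (82, [(68, (-1))]), (83, [(73, (-1))]), (87, [(75, 1)]), (88, [(76, 1)]), (89, [(77, 1)]), (99, [(94, (-1))]), (103, [(96, 1)]), (104, [(97, 1)]), (105, [(98, 1)]), (119, [(112, (-1))]), (120, [(113, (-1))]), (121, [(114, (-1))]), (123, [(118, 1)])]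
def M47 : Tr (List (ℕ × ℤ × ℕ × ℕ)) := (.node [] (.node [] (.node [] (.node [(3, (-1), 1, 1)] (.node [] .nil (.node [] (.node [(69, (-1), 1, 1)] .nil .nil) .nil)) (.node [] .nil (.node [(45, 1, 1, 1)] .nil (.node [(115, 1, 1, 1)] .nil .nil)))) (.node [] (.node [] (.node [] .nil (.node [(95, 1, 1, 1)] .nil .nil)) (.node [(42, (-1), 1, 1)] (.node [(74, 1, 1, 1)] .nil .nil) .nil)) (.node [(23, (-1), 1, 1)] .nil .nil))) (.node [] (.node [(5, (-1), 1, 1)] (.node [] .nil (.node [(40, (-1), 1, 1)] (.node [(71, (-1), 1, 1)] .nil .nil) .nil)) (.node [] .nil (.node [] .nil (.node [(117, 1, 1, 1)] .nil .nil)))) (.node [] (.node [] (.node [] .nil (.node [(97, 1, 1, 1)] .nil .nil)) (.node [(43, 1, 1, 1)] (.node [(76, 1, 1, 1)] .nil .nil) .nil)) (.node [(25, (-1), 1, 1)] .nil .nil)))) (.node [] (.node [] (.node [(4, (-1), 1, 1)] (.node [] .nil (.node [(39, (-1), 1, 1)] (.node [(70, (-1), 1, 1)] .nil .nil) .nil)) (.node [] .nil (.node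 [(46, 1, 1, 1)] .nil (.node [(116, 1, 1, 1)] .nil .nil)))) (.node [] (.node [] (.node [] .nil (.node [(96, 1, 1, 1)] .nil .nil)) (.node [] (.node [(75, 1, 1, 1)] .nil .nil) .nil)) (.node [(24, (-1), 1, 1)] .nil .nil))) (.node [] (.node [(6, (-1), 1, 1)] (.node [] .nil (.node [(41, (-1), 1, 1)] (.node [(72, (-1), 1, 1)] .nil .nil) .nil)) (.node [] .nil (.node [] .nil (.node [(118, 1, 1, 1)] .nil .nil)))) (.node [] (.node [] (.node [] .nil (.node [(98, 1, 1, 1)] .nil .nil)) (.node [(44, 1, 1, 1)] (.node [(77, 1, 1, 1)] .nil .nil) .nil)) (.node [(26, (-1), 1, 1)] .nil .nil)))))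
def C47 : List (ℕ × List (ℕ × ℤ)) := [(7, [(3, (-1))]), (8, [(4, (-1))]), (9, [(5, (-1))]), (10, [(6, (-1))]), (27, [(23, (-1))]), (28, [(24, (-1))]), (29, [(25, (-1))]), (30, [(26, (-1))]), (48, [(39, (-1))]), (49, [(40, (-1))]), (50, [(41, (-1))]), (51, [(42, (-1))]), (53, [(43, 1)]), (54, [(44, 1)]), (55, [(45, 1)]), (56, [(46, 1)]), (79, [(69, (-1))]), (80, [(70, (-1))]), (81, [(71, (-1))]), (82, [(72, (-1))]), (83, [(74, 1)]), (84, [(75, 1)]), (85, [(76, 1)]), (86, [(77, 1)]), (99, [(95, 1)]), (100, [(96, 1)]), (101, [(97, 1)]), (102, [(98, 1)]), (119, [(115, 1)]), (120, [(116, 1)]), (121, [(117, 1)]), (122, [(118, 1)])]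
def M48 : Tr (List (ℕ × ℤ × ℕ × ℕ)) := (.node [] (.node [] (.node [] (.node [] (.node [] (.node [] (.node [(49, 1, 1, 1)] .nil .nil) .nil) (.node [(39, 1, 1, 1)] .nil (.node [(99, 1, 1, 1)] .nil .nil))) .nil) (.node [] (.node [(7, (-1), 1, 1)] .nil .nil) (.node [] (.node [] (.node [(60, (-1), 1, 1)] .nil .nil) .nil) (.node [] (.node [(80, (-1), 1, 1)] .nil .nil) .nil)))) (.node [] (.node [] (.node [] (.node [] (.node [(50, 1, 1, 1)] .nil .nil) .nil) (.node [] .nil (.node [(100, 1, 1, 1)] .nil .nil))) (.node [(12, (-1), 1, 1)] (.node [] (.node [(53, (-1), 1, 1)] .nil .nil) .nil) (.node [] (.node [(79, (-1), 1, 1)] .nil .nil) .nil))) (.node [] (.node [(8, (-1), 1, 1)] .nil (.node [] .nil (.node [(104, 1, 1, 1)] .nil .nil))) (.node [] (.node [(34, 1, 1, 1)] .nil .nil) .nil)))) (.node [] (.node [] (.node [] (.node [] (.node [(27, (-1), 1, 1)] .nil .nil) .nil) (.node [(11, (-1), 1, 1)] (.node [] (.node [(52, 1, 1, 1)] .nil .nil)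 .nil) .nil)) (.node [] (.node [] (.node [] (.node [(51, 1, 1, 1)] .nil .nil) .nil) (.node [] .nil (.node [(103, 1, 1, 1)] .nil .nil))) (.node [] (.node [(33, 1, 1, 1)] (.node [(62, (-1), 1, 1)] .nil .nil) .nil) (.node [] (.node [(81, (-1), 1, 1)] .nil .nil) (.node [(119, 1, 1, 1)] .nil .nil))))) (.node [(1, (-1), 1, 1)] (.node [] (.node [] (.node [] .nil (.node [(93, 1, 1, 1)] .nil .nil)) (.node [] .nil (.node [(101, 1, 1, 1)] .nil .nil))) (.node [(14, (-1), 1, 1)] (.node [] (.node [(57, (-1), 1, 1)] .nil .nil) .nil) .nil)) (.node [] (.node [(9, (-1), 1, 1)] .nil (.node [] (.node [(78, (-1), 1, 1)] .nil .nil) (.node [(106, 1, 1, 1)] .nil .nil))) (.node [] (.node [(36, 1, 1, 1)] .nil .nil) .nil)))))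
def C48 : List (ℕ × List (ℕ × ℤ)) := [(6, [(1, (-1))]), (19, [(7, (-1))]), (21, [(8, (-1))]), (22, [(9, (-1))]), (24, [(11, (-1))]), (25, [(12, (-1))]), (26, [(14, (-1))]), (32, [(27, (-1))]), (44, [(33, 1)]), (45, [(34, 1)]), (46, [(36, 1)]), (47, [(39, 1)]), (63, [(49, 1)]), (65, [(50, 1)]), (68, [(51, 1)]), (72, [(52, 1)]), (73, [(53, (-1))]), (74, [(57, (-1))]), (75, [(60, (-1))]), (76, [(62, (-1))]), (86, [(78, (-1))]), (89, [(79, (-1))]), (91, [(80, (-1))]), (92, [(81, (-1))]), (98, [(93, 1)]), (111, [(99, 1)]), (113, [(100, 1)]), (114, [(101, 1)]), (116, [(103, 1)]), (117, [(104, 1)]), (118, [(106, 1)]), (124, [(119, 1)])]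
def M49 : Tr (List (ℕ × ℤ × ℕ × ℕ)) := (.node [] (.node [] (.node [] (.node [] (.node [] .nil (.node [(40, 1, 1, 1)] .nil .nil)) (.node [(11, 1, 1, 1)] (.node [] (.node [(52, 1, 1, 1)] .nil .nil) .nil) .nil)) (.node [] (.node [] (.node [] (.node [(51, 1, 1, 1)] .nil .nil) .nil) (.node [] .nil (.node [(103, 1, 1, 1)] .nil .nil))) (.node [] (.node [(33, (-1), 1, 1)] (.node [(61, (-1), 1, 1)] .nil .nil) .nil) .nil))) (.node [(1, 1, 1, 1)] (.node [] (.node [] (.node [] .nil (.node [(93, 1, 1, 1)] .nil .nil)) .nil) (.node [(13, (-1), 1, 1)] (.node [] (.node [(54, (-1), 1, 1)] .nil .nil) .nil) .nil)) (.node [] (.node [] .nil (.node [] (.node [(78, (-1), 1, 1)] .nil .nil) (.node [(105, (-1), 1, 1)] .nil .nil))) (.node [] (.node [(35, 1, 1, 1)] (.node [(63, (-1), 1, 1)] .nil .nil) .nil) .nil)))) (.node [] (.node [] (.node [] (.node [] (.node [(28, (-1), 1, 1)] (.node [(50, 1, 1, 1)] .nil .nil) .nil) (.node [] .nil (.node [(100,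 1, 1, 1)] .nil .nil))) (.node [] .nil (.node [] (.node [(79, (-1), 1, 1)] .nil .nil) .nil))) (.node [] (.node [(8, 1, 1, 1)] .nil .nil) (.node [] .nil (.node [] (.node [(82, 1, 1, 1)] .nil .nil) (.node [(120, (-1), 1, 1)] .nil .nil))))) (.node [] (.node [] (.node [(7, 1, 1, 1)] .nil (.node [] .nil (.node [(102, (-1), 1, 1)] .nil .nil))) (.node [(15, (-1), 1, 1)] (.node [] (.node [(58, (-1), 1, 1)] .nil .nil) .nil) (.node [] (.node [(80, (-1), 1, 1)] .nil .nil) .nil))) (.node [] (.node [(10, (-1), 1, 1)] .nil (.node [] .nil (.node [(107, (-1), 1, 1)] .nil .nil))) (.node [] (.node [(37, 1, 1, 1)] .nil (.node [(99, 1, 1, 1)] .nil .nil)) (.node [(48, 1, 1, 1)] .nil .nil))))))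
def C49 : List (ℕ × List (ℕ × ℤ)) := [(5, [(1, 1)]), (18, [(7, 1)]), (20, [(8, 1)]), (22, [(10, (-1))]), (23, [(11, 1)]), (25, [(13, (-1))]), (26, [(15, (-1))]), (32, [(28, (-1))]), (43, [(33, (-1))]), (45, [(35, 1)]), (46, [(37, 1)]), (47, [(40, 1)]), (62, [(48, 1)]), (64, [(50, 1)]), (67, [(51, 1)]), (71, [(52, 1)]), (73, [(54, (-1))]), (74, [(58, (-1))]), (75, [(61, (-1))]), (77, [(63, (-1))]), (85, [(78, (-1))]), (88, [(79, (-1))]), (90, [(80, (-1))]), (92, [(82, 1)]), (97, [(93, 1)]), (110, [(99, 1)]), (112, [(100, 1)]), (114, [(102, (-1))]), (115, [(103, 1)]), (117, [(105, (-1))]), (118, [(107, (-1))]), (124, [(120, (-1))])]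
def M50 : Tr (List (ℕ × ℤ × ℕ × ℕ)) := (.node [] (.node [] (.node [] (.node [] (.node [] .nil (.node [(41, 1, 1, 1)] .nil .nil)) (.node [(12, 1, 1, 1)] .nil (.node [] (.node [(79, (-1), 1, 1)] .nil .nil) .nil))) (.node [] (.node [] .nil (.node [] .nil (.node [(104, (-1), 1, 1)] .nil .nil))) (.node [] (.node [(34, (-1), 1, 1)] .nil .nil) (.node [] (.node [(82, 1, 1, 1)] .nil .nil) .nil)))) (.node [] (.node [] (.node [(7, (-1), 1, 1)] .nil (.node [] .nil (.node [(102, (-1), 1, 1)] .nil .nil))) (.node [] (.node [] (.node [(55, (-1), 1, 1)] .nil .nil) .nil) .nil)) (.node [] (.node [(10, 1, 1, 1)] .nil .nil) (.node [] (.node [] (.node [(65, (-1), 1, 1)] .nil .nil) (.node [(99, 1, 1, 1)] .nil .nil)) (.node [(49, 1, 1, 1)] .nil .nil))))) (.node [] (.node [(1, (-1), 1, 1)] (.node [] (.node [] (.node [(29, (-1), 1, 1)] .nil (.node [(93, 1, 1, 1)] .nil .nil)) (.node [] .nil (.node [(101, (-1), 1, 1)] .nil .nil))) (.node [(13, 1,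 1, 1)] .nil .nil)) (.node [] (.node [(9, 1, 1, 1)] .nil (.node [] (.node [(78, (-1), 1, 1)] .nil .nil) (.node [(105, (-1), 1, 1)] .nil .nil))) (.node [] (.node [(35, (-1), 1, 1)] (.node [(64, (-1), 1, 1)] .nil .nil) .nil) (.node [(48, 1, 1, 1)] .nil (.node [(121, 1, 1, 1)] .nil .nil))))) (.node [] (.node [] (.node [] (.node [] (.node [(51, 1, 1, 1)] .nil .nil) .nil) .nil) (.node [(16, (-1), 1, 1)] (.node [] (.node [(59, (-1), 1, 1)] .nil .nil) .nil) (.node [] (.node [(81, 1, 1, 1)] .nil .nil) .nil))) (.node [] (.node [] (.node [] (.node [(52, 1, 1, 1)] .nil .nil) .nil) (.node [] .nil (.node [(108, 1, 1, 1)] .nil .nil))) (.node [] (.node [(38, 1, 1, 1)] .nil .nil) .nil)))))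
def C50 : List (ℕ × List (ℕ × ℤ)) := [(4, [(1, (-1))]), (17, [(7, (-1))]), (20, [(9, 1)]), (21, [(10, 1)]), (23, [(12, 1)]), (24, [(13, 1)]), (26, [(16, (-1))]), (32, [(29, (-1))]), (43, [(34, (-1))]), (44, [(35, (-1))]), (46, [(38, 1)]), (47, [(41, 1)]), (60, [(48, 1)]), (61, [(49, 1)]), (66, [(51, 1)]), (70, [(52, 1)]), (73, [(55, (-1))]), (74, [(59, (-1))]), (76, [(64, (-1))]), (77, [(65, (-1))]), (84, [(78, (-1))]), (87, [(79, (-1))]), (90, [(81, 1)]), (91, [(82, 1)]), (96, [(93, 1)]), (109, [(99, 1)]), (112, [(101, (-1))]), (113, [(102, (-1))]), (115, [(104, (-1))]), (116, [(105, (-1))]), (118, [(108, 1)]), (124, [(121, 1)])]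
def M51 : Tr (List (ℕ × ℤ × ℕ × ℕ)) := (.node [] (.node [] (.node [(1, 1, 1, 1)] (.node [] (.node [] (.node [] .nil (.node [(93, 1, 1, 1)] .nil .nil)) (.node [(42, 1, 1, 1)] .nil (.node [(102, (-1), 1, 1)] .nil .nil))) (.node [(14, 1, 1, 1)] .nil (.node [] (.node [(80, 1, 1, 1)] .nil .nil) .nil))) (.node [] (.node [(10, (-1), 1, 1)] .nil (.node [] (.node [(78, (-1), 1, 1)] .nil .nil) (.node [(106, 1, 1, 1)] .nil .nil))) (.node [] (.node [(36, (-1), 1, 1)] (.node [(66, (-1), 1, 1)] .nil .nil) .nil) (.node [(50, 1, 1, 1)] .nil .nil)))) (.node [] (.node [] (.node [(8, (-1), 1, 1)] .nil .nil) (.node [(16, 1, 1, 1)] (.node [] (.node [(56, (-1), 1, 1)] .nil .nil) .nil) (.node [(48, 1, 1, 1)] (.node [(82, 1, 1, 1)] .nil .nil) .nil))) (.node [] (.node [] (.node [] (.node [(52, 1, 1, 1)] .nil .nil) .nil) (.node [] .nil (.node [(108, 1, 1, 1)] .nil .nil))) (.node [] (.node [(38, (-1), 1, 1)] (.node [(68, (-1), 1, 1)] .nil .nil) (.node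 [(100, (-1), 1, 1)] .nil .nil)) .nil)))) (.node [] (.node [] (.node [] (.node [] (.node [(30, (-1), 1, 1)] .nil .nil) .nil) (.node [(15, 1, 1, 1)] .nil (.node [] (.node [(81, 1, 1, 1)] .nil .nil) .nil))) (.node [] (.node [] .nil (.node [] .nil (.node [(107, 1, 1, 1)] .nil .nil))) (.node [] (.node [(37, (-1), 1, 1)] (.node [(67, (-1), 1, 1)] .nil .nil) .nil) (.node [] .nil (.node [(122, (-1), 1, 1)] .nil .nil))))) (.node [] (.node [] (.node [(9, (-1), 1, 1)] .nil .nil) (.node [] .nil (.node [(49, 1, 1, 1)] .nil .nil))) (.node [] .nil (.node [] (.node [] .nil (.node [(101, (-1), 1, 1)] .nil .nil)) .nil)))))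
def C51 : List (ℕ × List (ℕ × ℤ)) := [(3, [(1, 1)]), (17, [(8, (-1))]), (18, [(9, (-1))]), (19, [(10, (-1))]), (23, [(14, 1)]), (24, [(15, 1)]), (25, [(16, 1)]), (32, [(30, (-1))]), (43, [(36, (-1))]), (44, [(37, (-1))]), (45, [(38, (-1))]), (47, [(42, 1)]), (57, [(48, 1)]), (58, [(49, 1)]), (59, [(50, 1)]), (69, [(52, 1)]), (73, [(56, (-1))]), (75, [(66, (-1))]), (76, [(67, (-1))]), (77, [(68, (-1))]), (83, [(78, (-1))]), (87, [(80, 1)]), (88, [(81, 1)]), (89, [(82, 1)]), (95, [(93, 1)]), (109, [(100, (-1))]), (110, [(101, (-1))]), (111, [(102, (-1))]), (115, [(106, 1)]), (116, [(107, 1)]), (117, [(108, 1)]), (124, [(122, (-1))])]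
def M52 : Tr (List (ℕ × ℤ × ℕ × ℕ)) := (.node [] (.node [] (.node [] (.node [] (.node [] .nil (.node [] .nil (.node [(105, 1, 1, 1)] .nil .nil))) (.node [] .nil (.node [(50, 1, 1, 1)] .nil .nil))) (.node [] (.node [(13, (-1), 1, 1)] .nil (.node [] (.node [(79, 1, 1, 1)] .nil .nil) .nil)) (.node [] (.node [(39, (-1), 1, 1)] (.node [(70, (-1), 1, 1)] .nil .nil) .nil) .nil))) (.node [] (.node [] (.node [(11, (-1), 1, 1)] .nil (.node [] .nil (.node [(107, 1, 1, 1)] .nil .nil))) .nil) (.node [] (.node [(15, (-1), 1, 1)] .nil (.node [(48, 1, 1, 1)] (.node [(81, 1, 1, 1)] .nil .nil) .nil)) (.node [] (.node [(41, (-1), 1, 1)] (.node [(72, (-1), 1, 1)] .nil .nil) (.node [(103, 1, 1, 1)] .nil .nil)) .nil)))) (.node [(1, (-1), 1, 1)] (.node [] (.node [] (.node [] (.node [(31, (-1), 1, 1)] .nil .nil) (.node [] .nil (.node [(106, 1, 1, 1)] .nil .nil))) (.node [] .nil (.node [(51, 1, 1, 1)] .nil .nil))) (.node [] (.node [(14, (-1), 1,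 1)] .nil (.node [] (.node [(80, 1, 1, 1)] .nil .nil) .nil)) (.node [] (.node [(40, (-1), 1, 1)] (.node [(71, (-1), 1, 1)] .nil .nil) .nil) (.node [] .nil (.node [(123, 1, 1, 1)] .nil .nil))))) (.node [] (.node [] (.node [(12, (-1), 1, 1)] .nil (.node [] .nil (.node [(108, 1, 1, 1)] .nil .nil))) (.node [] (.node [] (.node [(69, (-1), 1, 1)] .nil .nil) .nil) .nil)) (.node [] (.node [(16, (-1), 1, 1)] .nil (.node [(49, 1, 1, 1)] (.node [(82, 1, 1, 1)] .nil .nil) .nil)) (.node [] (.node [(42, (-1), 1, 1)] .nil (.node [(104, 1, 1, 1)] .nil .nil)) (.node [] (.node [(93, 1, 1, 1)] .nil .nil) .nil))))))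
def C52 : List (ℕ × List (ℕ × ℤ)) := [(2, [(1, (-1))]), (17, [(11, (-1))]), (18, [(12, (-1))]), (19, [(13, (-1))]), (20, [(14, (-1))]), (21, [(15, (-1))]), (22, [(16, (-1))]), (32, [(31, (-1))]), (43, [(39, (-1))]), (44, [(40, (-1))]), (45, [(41, (-1))]), (46, [(42, (-1))]), (53, [(48, 1)]), (54, [(49, 1)]), (55, [(50, 1)]), (56, [(51, 1)]), (74, [(69, (-1))]), (75, [(70, (-1))]), (76, [(71, (-1))]), (77, [(72, (-1))]), (83, [(79, 1)]), (84, [(80, 1)]), (85, [(81, 1)]), (86, [(82, 1)]), (94, [(93, 1)]), (109, [(103, 1)]), (110, [(104, 1)]), (111, [(105, 1)]), (112, [(106, 1)]), (113, [(107, 1)]), (114, [(108, 1)]), (124, [(123, 1)])]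
def M53 : Tr (List (ℕ × ℤ × ℕ × ℕ)) := (.node [] (.node [] (.node [] (.node [] (.node [(8, (-1), 1, 1)] (.node [(27, (-1), 1, 1)] (.node [(54, 1, 1, 1)] .nil .nil) .nil) (.node [(43, (-1), 1, 1)] .nil .nil)) (.node [] (.node [] (.node [(62, (-1), 1, 1)] .nil .nil) .nil) .nil)) (.node [] .nil (.node [] (.node [] .nil (.node [(100, (-1), 1, 1)] .nil .nil)) (.node [] (.node [(84, (-1), 1, 1)] .nil .nil) (.node [(119, (-1), 1, 1)] .nil .nil))))) (.node [] (.node [] (.node [] (.node [] (.node [(55, 1, 1, 1)] .nil .nil) .nil) .nil) (.node [(18, 1, 1, 1)] (.node [(34, 1, 1, 1)] .nil (.node [(99, (-1), 1, 1)] .nil .nil)) (.node [] (.node [(83, (-1), 1, 1)] .nil .nil) .nil))) (.node [(7, (-1), 1, 1)] (.node [] (.node [] (.node [(57, (-1), 1, 1)] .nil .nil) .nil) (.node [] .nil (.node [(110, 1, 1, 1)] .nil .nil))) (.node [] (.node [] (.node [(73, 1, 1, 1)] .nil .nil) .nil) .nil)))) (.node [] (.node [] (.node [] (.node [(9, (-1),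 1, 1)] .nil .nil) (.node [(17, 1, 1, 1)] (.node [(33, 1, 1, 1)] .nil .nil) .nil)) (.node [] (.node [] (.node [] (.node [(56, 1, 1, 1)] .nil .nil) .nil) (.node [(48, (-1), 1, 1)] .nil (.node [(109, 1, 1, 1)] .nil .nil))) (.node [] (.node [] .nil (.node [(101, (-1), 1, 1)] .nil .nil)) (.node [] (.node [(85, (-1), 1, 1)] .nil .nil) .nil)))) (.node [(2, 1, 1, 1)] (.node [] (.node [] (.node [] .nil (.node [(94, 1, 1, 1)] .nil .nil)) (.node [] (.node [(78, 1, 1, 1)] .nil .nil) .nil)) (.node [(20, 1, 1, 1)] (.node [(36, 1, 1, 1)] .nil .nil) .nil)) (.node [] (.node [] (.node [] (.node [(60, (-1), 1, 1)] .nil .nil) .nil) (.node [] .nil (.node [(112, 1, 1, 1)] .nil .nil))) .nil))))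
def C53 : List (ℕ × List (ℕ × ℤ)) := [(6, [(2, 1)]), (13, [(7, (-1))]), (15, [(8, (-1))]), (16, [(9, (-1))]), (24, [(17, 1)]), (25, [(18, 1)]), (26, [(20, 1)]), (31, [(27, (-1))]), (40, [(33, 1)]), (41, [(34, 1)]), (42, [(36, 1)]), (47, [(43, (-1))]), (52, [(48, (-1))]), (63, [(54, 1)]), (65, [(55, 1)]), (68, [(56, 1)]), (69, [(57, (-1))]), (70, [(60, (-1))]), (71, [(62, (-1))]), (77, [(73, 1)]), (82, [(78, 1)]), (89, [(83, (-1))]), (91, [(84, (-1))]), (92, [(85, (-1))]), (98, [(94, 1)]), (105, [(99, (-1))]), (107, [(100, (-1))]), (108, [(101, (-1))]), (116, [(109, 1)]), (117, [(110, 1)]), (118, [(112, 1)]), (123, [(119, (-1))])]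
def M54 : Tr (List (ℕ × ℤ × ℕ × ℕ)) := (.node [] (.node [] (.node [] (.node [] (.node [] (.node [(28, (-1), 1, 1)] .nil .nil) (.node [(44, (-1), 1, 1)] .nil .nil)) (.node [(17, (-1), 1, 1)] (.node [(33, (-1), 1, 1)] .nil .nil) .nil)) (.node [] (.node [] (.node [] (.node [(56, 1, 1, 1)] .nil .nil) .nil) (.node [] .nil (.node [(109, 1, 1, 1)] .nil .nil))) (.node [] .nil (.node [] .nil (.node [(120, 1, 1, 1)] .nil .nil))))) (.node [(2, (-1), 1, 1)] (.node [] (.node [] (.node [] .nil (.node [(94, 1, 1, 1)] .nil .nil)) (.node [] (.node [(78, 1, 1, 1)] .nil .nil) .nil)) (.node [(19, 1, 1, 1)] (.node [(35, 1, 1, 1)] .nil .nil) .nil)) (.node [] (.node [] (.node [] (.node [(58, (-1), 1, 1)] .nil .nil) .nil) (.node [] .nil (.node [(111, (-1), 1, 1)] .nil .nil))) .nil))) (.node [] (.node [] (.node [] (.node [(10, (-1), 1, 1)] (.node [] (.node [(55, 1, 1, 1)] .nil .nil) .nil) .nil) (.node [] (.node [] (.node [(63, (-1), 1, 1)] .nil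 .nil) (.node [(99, (-1), 1, 1)] .nil .nil)) (.node [] (.node [(83, (-1), 1, 1)] .nil .nil) .nil))) (.node [(7, 1, 1, 1)] (.node [] .nil (.node [(49, (-1), 1, 1)] .nil .nil)) (.node [] (.node [] (.node [(73, 1, 1, 1)] .nil .nil) (.node [(102, 1, 1, 1)] .nil .nil)) (.node [] (.node [(86, 1, 1, 1)] .nil .nil) .nil)))) (.node [] (.node [] .nil (.node [(21, 1, 1, 1)] (.node [(37, 1, 1, 1)] .nil (.node [(100, (-1), 1, 1)] .nil .nil)) (.node [] (.node [(84, (-1), 1, 1)] .nil .nil) .nil))) (.node [(8, 1, 1, 1)] (.node [] (.node [] (.node [(61, (-1), 1, 1)] .nil .nil) .nil) (.node [] .nil (.node [(113, (-1), 1, 1)] .nil .nil))) (.node [] .nil (.node [(53, 1, 1, 1)] .nil .nil))))))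
def C54 : List (ℕ × List (ℕ × ℤ)) := [(5, [(2, (-1))]), (12, [(7, 1)]), (14, [(8, 1)]), (16, [(10, (-1))]), (23, [(17, (-1))]), (25, [(19, 1)]), (26, [(21, 1)]), (31, [(28, (-1))]), (39, [(33, (-1))]), (41, [(35, 1)]), (42, [(37, 1)]), (47, [(44, (-1))]), (52, [(49, (-1))]), (62, [(53, 1)]), (64, [(55, 1)]), (67, [(56, 1)]), (69, [(58, (-1))]), (70, [(61, (-1))]), (72, [(63, (-1))]), (76, [(73, 1)]), (81, [(78, 1)]), (88, [(83, (-1))]), (90, [(84, (-1))]), (92, [(86, 1)]), (97, [(94, 1)]), (104, [(99, (-1))]), (106, [(100, (-1))]), (108, [(102, 1)]), (115, [(109, 1)]), (117, [(111, (-1))]), (118, [(113, (-1))]), (123, [(120, 1)])]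
def M55 : Tr (List (ℕ × ℤ × ℕ × ℕ)) := (.node [] (.node [] (.node [] (.node [] (.node [(10, 1, 1, 1)] (.node [(29, (-1), 1, 1)] .nil .nil) (.node [(45, (-1), 1, 1)] .nil .nil)) (.node [(18, (-1), 1, 1)] (.node [(34, (-1), 1, 1)] (.node [(64, (-1), 1, 1)] .nil .nil) (.node [(99, (-1), 1, 1)] .nil .nil)) (.node [] (.node [(83, (-1), 1, 1)] .nil .nil) .nil))) (.node [(7, (-1), 1, 1)] (.node [] .nil (.node [] .nil (.node [(110, (-1), 1, 1)] .nil .nil))) (.node [] (.node [] (.node [(73, 1, 1, 1)] .nil .nil) (.node [(102, 1, 1, 1)] .nil .nil)) (.node [] (.node [(86, 1, 1, 1)] .nil .nil) (.node [(121, (-1), 1, 1)] .nil .nil))))) (.node [] .nil (.node [] (.node [] (.node [] (.node [(59, (-1), 1, 1)] .nil .nil) .nil) .nil) (.node [] .nil (.node [(54, 1, 1, 1)] .nil .nil))))) (.node [] (.node [(2, 1, 1, 1)] (.node [] (.node [] (.node [] .nil (.node [(94, 1, 1, 1)] .nil .nil)) (.node [] (.node [(78, 1, 1, 1)] .nil .nil) .nil)) (.node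 [(19, (-1), 1, 1)] (.node [(35, (-1), 1, 1)] (.node [(65, (-1), 1, 1)] .nil .nil) .nil) .nil)) (.node [] (.node [] .nil (.node [(50, (-1), 1, 1)] .nil (.node [(111, (-1), 1, 1)] .nil .nil))) (.node [] .nil (.node [(53, 1, 1, 1)] .nil .nil)))) (.node [] (.node [] (.node [] (.node [] (.node [(56, 1, 1, 1)] .nil .nil) .nil) .nil) (.node [(22, 1, 1, 1)] (.node [(38, 1, 1, 1)] .nil (.node [(101, 1, 1, 1)] .nil .nil)) (.node [] (.node [(85, 1, 1, 1)] .nil .nil) .nil))) (.node [(9, 1, 1, 1)] (.node [] .nil (.node [] .nil (.node [(114, 1, 1, 1)] .nil .nil))) .nil))))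
def C55 : List (ℕ × List (ℕ × ℤ)) := [(4, [(2, 1)]), (11, [(7, (-1))]), (14, [(9, 1)]), (15, [(10, 1)]), (23, [(18, (-1))]), (24, [(19, (-1))]), (26, [(22, 1)]), (31, [(29, (-1))]), (39, [(34, (-1))]), (40, [(35, (-1))]), (42, [(38, 1)]), (47, [(45, (-1))]), (52, [(50, (-1))]), (60, [(53, 1)]), (61, [(54, 1)]), (66, [(56, 1)]), (69, [(59, (-1))]), (71, [(64, (-1))]), (72, [(65, (-1))]), (75, [(73, 1)]), (80, [(78, 1)]), (87, [(83, (-1))]), (90, [(85, 1)]), (91, [(86, 1)]), (96, [(94, 1)]), (103, [(99, (-1))]), (106, [(101, 1)]), (107, [(102, 1)]), (115, [(110, (-1))]), (116, [(111, (-1))]), (118, [(114, 1)]), (123, [(121, (-1))])]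
def M56 : Tr (List (ℕ × ℤ × ℕ × ℕ)) := (.node [] (.node [] (.node [(2, (-1), 1, 1)] (.node [] (.node [] (.node [(30, (-1), 1, 1)] .nil (.node [(94, 1, 1, 1)] .nil .nil)) (.node [(46, (-1), 1, 1)] (.node [(78, 1, 1, 1)] .nil .nil) .nil)) (.node [(20, (-1), 1, 1)] (.node [(36, (-1), 1, 1)] (.node [(67, (-1), 1, 1)] .nil .nil) (.node [(100, 1, 1, 1)] .nil .nil)) (.node [] (.node [(84, 1, 1, 1)] .nil .nil) .nil))) (.node [(8, (-1), 1, 1)] (.node [] .nil (.node [] .nil (.node [(112, 1, 1, 1)] .nil .nil))) (.node [] .nil (.node [(55, 1, 1, 1)] .nil (.node [(122, 1, 1, 1)] .nil .nil))))) (.node [] (.node [] .nil (.node [(22, (-1), 1, 1)] (.node [(38, (-1), 1, 1)] .nil (.node [(102, 1, 1, 1)] .nil .nil)) (.node [(53, 1, 1, 1)] (.node [(86, 1, 1, 1)] .nil .nil) .nil))) (.node [(10, (-1), 1, 1)] (.node [] .nil (.node [] .nil (.node [(114, 1, 1, 1)] .nil .nil))) .nil))) (.node [] (.node [] (.node [] .nil (.node [(21, (-1), 1, 1)]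 (.node [(37, (-1), 1, 1)] (.node [(68, (-1), 1, 1)] .nil .nil) (.node [(101, 1, 1, 1)] .nil .nil)) (.node [] (.node [(85, 1, 1, 1)] .nil .nil) .nil))) (.node [(9, (-1), 1, 1)] (.node [] .nil (.node [(51, (-1), 1, 1)] .nil (.node [(113, 1, 1, 1)] .nil .nil))) .nil)) (.node [] (.node [] .nil (.node [] (.node [] (.node [(73, 1, 1, 1)] .nil .nil) .nil) (.node [(54, 1, 1, 1)] .nil .nil))) (.node [] (.node [] (.node [] (.node [(66, (-1), 1, 1)] .nil .nil) .nil) .nil) .nil))))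
def C56 : List (ℕ × List (ℕ × ℤ)) := [(3, [(2, (-1))]), (11, [(8, (-1))]), (12, [(9, (-1))]), (13, [(10, (-1))]), (23, [(20, (-1))]), (24, [(21, (-1))]), (25, [(22, (-1))]), (31, [(30, (-1))]), (39, [(36, (-1))]), (40, [(37, (-1))]), (41, [(38, (-1))]), (47, [(46, (-1))]), (52, [(51, (-1))]), (57, [(53, 1)]), (58, [(54, 1)]), (59, [(55, 1)]), (70, [(66, (-1))]), (71, [(67, (-1))]), (72, [(68, (-1))]), (74, [(73, 1)]), (79, [(78, 1)]), (87, [(84, 1)]), (88, [(85, 1)]), (89, [(86, 1)]), (95, [(94, 1)]), (103, [(100, 1)]), (104, [(101, 1)]), (105, [(102, 1)]), (115, [(112, 1)]), (116, [(113, 1)]), (117, [(114, 1)]), (123, [(122, 1)])]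
def M57 : Tr (List (ℕ × ℤ × ℕ × ℕ)) := (.node [] (.node [] (.node [] (.node [] (.node [(11, 1, 1, 1)] (.node [] (.node [(58, 1, 1, 1)] .nil .nil) .nil) .nil) .nil) (.node [] (.node [] (.node [] (.node [(62, (-1), 1, 1)] .nil .nil) .nil) (.node [(48, (-1), 1, 1)] .nil .nil)) (.node [] (.node [] .nil (.node [(103, (-1), 1, 1)] .nil .nil)) (.node [] (.node [(87, (-1), 1, 1)] .nil .nil) .nil)))) (.node [] (.node [] (.node [] (.node [] (.node [(59, 1, 1, 1)] .nil .nil) .nil) (.node [] .nil (.node [(109, (-1), 1, 1)] .nil .nil))) .nil) (.node [] (.node [(17, 1, 1, 1)] (.node [(33, 1, 1, 1)] .nil .nil) .nil) (.node [] (.node [] (.node [(74, 1, 1, 1)] .nil .nil) .nil) .nil)))) (.node [] (.node [] (.node [] (.node [(12, 1, 1, 1)] .nil .nil) (.node [] (.node [] (.node [(69, 1, 1, 1)] .nil .nil) .nil) (.node [(53, (-1), 1, 1)] .nil .nil))) (.node [] .nil (.node [] (.node [] .nil (.node [(104, (-1), 1, 1)] .nil .nil)) (.node [] (.node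 [(88, (-1), 1, 1)] .nil .nil) .nil)))) (.node [(3, (-1), 1, 1)] (.node [(7, (-1), 1, 1)] (.node [] (.node [] (.node [(60, (-1), 1, 1)] .nil .nil) (.node [(95, 1, 1, 1)] .nil .nil)) (.node [] (.node [(79, 1, 1, 1)] .nil .nil) (.node [(110, (-1), 1, 1)] .nil .nil))) (.node [(23, (-1), 1, 1)] (.node [(39, (-1), 1, 1)] .nil .nil) (.node [] .nil (.node [(119, 1, 1, 1)] .nil .nil)))) (.node [] (.node [(18, 1, 1, 1)] (.node [(34, 1, 1, 1)] .nil (.node [(99, 1, 1, 1)] .nil .nil)) (.node [] (.node [(83, 1, 1, 1)] .nil .nil) (.node [(115, 1, 1, 1)] .nil .nil))) (.node [(27, (-1), 1, 1)] (.node [(43, (-1), 1, 1)] .nil .nil) .nil)))))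
def C57 : List (ℕ × List (ℕ × ℤ)) := [(6, [(3, (-1))]), (10, [(7, (-1))]), (15, [(11, 1)]), (16, [(12, 1)]), (21, [(17, 1)]), (22, [(18, 1)]), (26, [(23, (-1))]), (30, [(27, (-1))]), (37, [(33, 1)]), (38, [(34, 1)]), (42, [(39, (-1))]), (46, [(43, (-1))]), (51, [(48, (-1))]), (56, [(53, (-1))]), (63, [(58, 1)]), (65, [(59, 1)]), (66, [(60, (-1))]), (67, [(62, (-1))]), (72, [(69, 1)]), (77, [(74, 1)]), (82, [(79, 1)]), (86, [(83, 1)]), (91, [(87, (-1))]), (92, [(88, (-1))]), (98, [(95, 1)]), (102, [(99, 1)]), (107, [(103, (-1))]), (108, [(104, (-1))]), (113, [(109, (-1))]), (114, [(110, (-1))]), (118, [(115, 1)]), (122, [(119, 1)])]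
def M58 : Tr (List (ℕ × ℤ × ℕ × ℕ)) := (.node [] (.node [] (.node [] (.node [] .nil (.node [] (.node [] (.node [(69, 1, 1, 1)] .nil .nil) .nil) .nil)) (.node [] (.node [] .nil (.node [(49, (-1), 1, 1)] .nil .nil)) .nil)) (.node [(3, 1, 1, 1)] (.node [(7, 1, 1, 1)] (.node [] (.node [] .nil (.node [(95, 1, 1, 1)] .nil .nil)) (.node [] (.node [(79, 1, 1, 1)] .nil .nil) .nil)) .nil) (.node [] (.node [] (.node [] .nil (.node [(99, 1, 1, 1)] .nil .nil)) (.node [] (.node [(83, 1, 1, 1)] .nil .nil) .nil)) .nil))) (.node [] (.node [] (.node [] (.node [(13, 1, 1, 1)] (.node [] (.node [(59, 1, 1, 1)] .nil .nil) .nil) (.node [] .nil (.node [(109, (-1), 1, 1)] .nil .nil))) (.node [] .nil (.node [(54, (-1), 1, 1)] .nil .nil))) (.node [] (.node [(17, (-1), 1, 1)] (.node [(33, (-1), 1, 1)] (.node [(63, (-1), 1, 1)] .nil .nil) .nil) .nil) (.node [] (.node [] (.node [(74, 1, 1, 1)] .nil .nil) (.node [(105, 1, 1, 1)] .nil .nil)) (.node []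 (.node [(89, 1, 1, 1)] .nil .nil) .nil)))) (.node [] (.node [] (.node [] (.node [] (.node [(61, (-1), 1, 1)] .nil .nil) .nil) (.node [] .nil (.node [(111, 1, 1, 1)] .nil .nil))) (.node [(24, (-1), 1, 1)] (.node [(40, (-1), 1, 1)] .nil (.node [(103, (-1), 1, 1)] .nil .nil)) (.node [] (.node [(87, (-1), 1, 1)] .nil .nil) (.node [(120, (-1), 1, 1)] .nil .nil)))) (.node [(11, (-1), 1, 1)] (.node [(19, 1, 1, 1)] (.node [(35, 1, 1, 1)] .nil .nil) (.node [] .nil (.node [(116, (-1), 1, 1)] .nil .nil))) (.node [(28, (-1), 1, 1)] (.node [(44, (-1), 1, 1)] .nil .nil) (.node [(57, 1, 1, 1)] .nil .nil))))))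
def C58 : List (ℕ × List (ℕ × ℤ)) := [(5, [(3, 1)]), (9, [(7, 1)]), (14, [(11, (-1))]), (16, [(13, 1)]), (20, [(17, (-1))]), (22, [(19, 1)]), (26, [(24, (-1))]), (30, [(28, (-1))]), (36, [(33, (-1))]), (38, [(35, 1)]), (42, [(40, (-1))]), (46, [(44, (-1))]), (51, [(49, (-1))]), (56, [(54, (-1))]), (62, [(57, 1)]), (64, [(59, 1)]), (66, [(61, (-1))]), (68, [(63, (-1))]), (71, [(69, 1)]), (76, [(74, 1)]), (81, [(79, 1)]), (85, [(83, 1)]), (90, [(87, (-1))]), (92, [(89, 1)]), (97, [(95, 1)]), (101, [(99, 1)]), (106, [(103, (-1))]), (108, [(105, 1)]), (112, [(109, (-1))]), (114, [(111, 1)]), (118, [(116, (-1))]), (122, [(120, (-1))])]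
def M59 : Tr (List (ℕ × ℤ × ℕ × ℕ)) := (.node [] (.node [] (.node [] (.node [] (.node [(13, (-1), 1, 1)] .nil .nil) .nil) (.node [] (.node [] (.node [] (.node [(64, (-1), 1, 1)] .nil .nil) .nil) (.node [(50, (-1), 1, 1)] .nil .nil)) (.node [] (.node [] (.node [(74, 1, 1, 1)] .nil .nil) (.node [(105, 1, 1, 1)] .nil .nil)) (.node [] (.node [(89, 1, 1, 1)] .nil .nil) .nil)))) (.node [] (.node [] (.node [] .nil (.node [] .nil (.node [(111, 1, 1, 1)] .nil .nil))) .nil) (.node [] (.node [(19, (-1), 1, 1)] (.node [(35, (-1), 1, 1)] .nil .nil) .nil) (.node [] .nil (.node [(58, 1, 1, 1)] .nil .nil))))) (.node [] (.node [(3, (-1), 1, 1)] (.node [(7, (-1), 1, 1)] (.node [] (.node [] .nil (.node [(95, 1, 1, 1)] .nil .nil)) (.node [] (.node [(79, 1, 1, 1)] .nil .nil) (.node [(110, 1, 1, 1)] .nil .nil))) (.node [] .nil (.node [(55, (-1), 1, 1)] .nil .nil))) (.node [] (.node [(18, (-1), 1, 1)] (.node [(34, (-1), 1, 1)] (.node [(65, (-1),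 1, 1)] .nil .nil) (.node [(99, 1, 1, 1)] .nil .nil)) (.node [] (.node [(83, 1, 1, 1)] .nil .nil) .nil)) (.node [] .nil (.node [(57, 1, 1, 1)] .nil .nil)))) (.node [] (.node [] .nil (.node [(25, (-1), 1, 1)] (.node [(41, (-1), 1, 1)] .nil (.node [(104, 1, 1, 1)] .nil .nil)) (.node [] (.node [(88, 1, 1, 1)] .nil .nil) (.node [(121, 1, 1, 1)] .nil .nil)))) (.node [(12, (-1), 1, 1)] (.node [] (.node [] (.node [(69, 1, 1, 1)] .nil .nil) .nil) (.node [] .nil (.node [(117, 1, 1, 1)] .nil .nil))) (.node [(29, (-1), 1, 1)] (.node [(45, (-1), 1, 1)] .nil .nil) .nil)))))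
def C59 : List (ℕ × List (ℕ × ℤ)) := [(4, [(3, (-1))]), (8, [(7, (-1))]), (14, [(12, (-1))]), (15, [(13, (-1))]), (20, [(18, (-1))]), (21, [(19, (-1))]), (26, [(25, (-1))]), (30, [(29, (-1))]), (36, [(34, (-1))]), (37, [(35, (-1))]), (42, [(41, (-1))]), (46, [(45, (-1))]), (51, [(50, (-1))]), (56, [(55, (-1))]), (60, [(57, 1)]), (61, [(58, 1)]), (67, [(64, (-1))]), (68, [(65, (-1))]), (70, [(69, 1)]), (75, [(74, 1)]), (80, [(79, 1)]), (84, [(83, 1)]), (90, [(88, 1)]), (91, [(89, 1)]), (96, [(95, 1)]), (100, [(99, 1)]), (106, [(104, 1)]), (107, [(105, 1)]), (112, [(110, 1)]), (113, [(111, 1)]), (118, [(117, 1)]), (122, [(121, 1)])]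
def M60 : Tr (List (ℕ × ℤ × ℕ × ℕ)) := (.node [] (.node [] (.node [] (.node [] (.node [] (.node [] (.node [(61, 1, 1, 1)] .nil .nil) .nil) (.node [] .nil (.node [(109, 1, 1, 1)] .nil .nil))) (.node [] .nil (.node [(53, (-1), 1, 1)] .nil .nil))) (.node [] (.node [(17, 1, 1, 1)] (.node [(33, 1, 1, 1)] .nil .nil) .nil) (.node [] .nil (.node [(57, (-1), 1, 1)] .nil .nil)))) (.node [] (.node [] .nil (.node [(23, (-1), 1, 1)] (.node [(39, (-1), 1, 1)] .nil (.node [(103, 1, 1, 1)] .nil .nil)) (.node [] (.node [(87, 1, 1, 1)] .nil .nil) (.node [(119, (-1), 1, 1)] .nil .nil)))) (.node [(11, 1, 1, 1)] (.node [] .nil (.node [] .nil (.node [(115, (-1), 1, 1)] .nil .nil))) (.node [(27, (-1), 1, 1)] (.node [(43, (-1), 1, 1)] (.node [(75, 1, 1, 1)] .nil .nil) .nil) .nil)))) (.node [] (.node [] (.node [] (.node [(14, (-1), 1, 1)] (.node [] (.node [(62, (-1), 1, 1)] .nil .nil) .nil) .nil) (.node [] (.node [] (.node [(70, 1, 1, 1)] .nil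 .nil) .nil) .nil)) (.node [] (.node [] (.node [] (.node [(66, 1, 1, 1)] .nil .nil) .nil) .nil) (.node [] (.node [] .nil (.node [(106, (-1), 1, 1)] .nil .nil)) (.node [] (.node [(90, (-1), 1, 1)] .nil .nil) .nil)))) (.node [(4, 1, 1, 1)] (.node [(8, 1, 1, 1)] (.node [] (.node [] .nil (.node [(96, 1, 1, 1)] .nil .nil)) (.node [(48, (-1), 1, 1)] (.node [(80, 1, 1, 1)] .nil .nil) (.node [(112, (-1), 1, 1)] .nil .nil))) .nil) (.node [] (.node [(20, (-1), 1, 1)] (.node [(36, (-1), 1, 1)] .nil (.node [(100, 1, 1, 1)] .nil .nil)) (.node [] (.node [(84, 1, 1, 1)] .nil .nil) .nil)) .nil))))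
def C60 : List (ℕ × List (ℕ × ℤ)) := [(6, [(4, 1)]), (10, [(8, 1)]), (13, [(11, 1)]), (16, [(14, (-1))]), (19, [(17, 1)]), (22, [(20, (-1))]), (25, [(23, (-1))]), (29, [(27, (-1))]), (35, [(33, 1)]), (38, [(36, (-1))]), (41, [(39, (-1))]), (45, [(43, (-1))]), (50, [(48, (-1))]), (55, [(53, (-1))]), (59, [(57, (-1))]), (63, [(61, 1)]), (64, [(62, (-1))]), (68, [(66, 1)]), (72, [(70, 1)]), (77, [(75, 1)]), (82, [(80, 1)]), (86, [(84, 1)]), (89, [(87, 1)]), (92, [(90, (-1))]), (98, [(96, 1)]), (102, [(100, 1)]), (105, [(103, 1)]), (108, [(106, (-1))]), (111, [(109, 1)]), (114, [(112, (-1))]), (117, [(115, (-1))]), (121, [(119, (-1))])]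
def M61 : Tr (List (ℕ × ℤ × ℕ × ℕ)) := (.node [] (.node [] (.node [] (.node [] .nil (.node [] (.node [] (.node [(70, 1, 1, 1)] .nil .nil) .nil) (.node [(54, (-1), 1, 1)] .nil .nil))) (.node [] (.node [] (.node [] (.node [(66, 1, 1, 1)] .nil .nil) .nil) .nil) (.node [] .nil (.node [(58, (-1), 1, 1)] .nil .nil)))) (.node [(4, (-1), 1, 1)] (.node [(8, (-1), 1, 1)] (.node [] (.node [] (.node [(63, (-1), 1, 1)] .nil .nil) (.node [(96, 1, 1, 1)] .nil .nil)) (.node [] (.node [(80, 1, 1, 1)] .nil .nil) .nil)) (.node [(24, (-1), 1, 1)] (.node [(40, (-1), 1, 1)] .nil .nil) (.node [] .nil (.node [(120, 1, 1, 1)] .nil .nil)))) (.node [] (.node [] (.node [] .nil (.node [(100, 1, 1, 1)] .nil .nil)) (.node [] (.node [(84, 1, 1, 1)] .nil .nil) (.node [(116, 1, 1, 1)] .nil .nil))) (.node [(28, (-1), 1, 1)] (.node [(44, (-1), 1, 1)] .nil .nil) .nil)))) (.node [] (.node [] (.node [] (.node [(15, (-1), 1, 1)] .nil .nil) (.node [] (.node []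 .nil (.node [(103, 1, 1, 1)] .nil .nil)) (.node [] (.node [(87, 1, 1, 1)] .nil .nil) .nil))) (.node [(11, (-1), 1, 1)] .nil (.node [] (.node [] (.node [(75, 1, 1, 1)] .nil .nil) (.node [(107, 1, 1, 1)] .nil .nil)) (.node [] (.node [(91, 1, 1, 1)] .nil .nil) .nil)))) (.node [] (.node [] (.node [(17, (-1), 1, 1)] (.node [(33, (-1), 1, 1)] .nil .nil) (.node [(49, (-1), 1, 1)] .nil (.node [(113, 1, 1, 1)] .nil .nil))) .nil) (.node [] (.node [(21, (-1), 1, 1)] (.node [(37, (-1), 1, 1)] .nil .nil) .nil) (.node [] (.node [] .nil (.node [(109, 1, 1, 1)] .nil .nil)) (.node [(60, 1, 1, 1)] .nil .nil))))))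
def C61 : List (ℕ × List (ℕ × ℤ)) := [(5, [(4, (-1))]), (9, [(8, (-1))]), (12, [(11, (-1))]), (16, [(15, (-1))]), (18, [(17, (-1))]), (22, [(21, (-1))]), (25, [(24, (-1))]), (29, [(28, (-1))]), (34, [(33, (-1))]), (38, [(37, (-1))]), (41, [(40, (-1))]), (45, [(44, (-1))]), (50, [(49, (-1))]), (55, [(54, (-1))]), (59, [(58, (-1))]), (62, [(60, 1)]), (65, [(63, (-1))]), (67, [(66, 1)]), (71, [(70, 1)]), (76, [(75, 1)]), (81, [(80, 1)]), (85, [(84, 1)]), (88, [(87, 1)]), (92, [(91, 1)]), (97, [(96, 1)]), (101, [(100, 1)]), (104, [(103, 1)]), (108, [(107, 1)]), (110, [(109, 1)]), (114, [(113, 1)]), (117, [(116, 1)]), (121, [(120, 1)])]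
def M62 : Tr (List (ℕ × ℤ × ℕ × ℕ)) := (.node [] (.node [] (.node [] (.node [] (.node [(14, (-1), 1, 1)] .nil (.node [] .nil (.node [(110, 1, 1, 1)] .nil .nil))) .nil) (.node [] (.node [(18, (-1), 1, 1)] (.node [(34, (-1), 1, 1)] .nil .nil) .nil) (.node [] (.node [] .nil (.node [(106, 1, 1, 1)] .nil .nil)) (.node [] (.node [(90, 1, 1, 1)] .nil .nil) .nil)))) (.node [] (.node [] (.node [] (.node [] (.node [(64, 1, 1, 1)] .nil .nil) .nil) (.node [(48, (-1), 1, 1)] .nil (.node [(112, 1, 1, 1)] .nil .nil))) (.node [] (.node [] .nil (.node [(104, 1, 1, 1)] .nil .nil)) (.node [] (.node [(88, 1, 1, 1)] .nil .nil) .nil))) (.node [(12, (-1), 1, 1)] (.node [(20, (-1), 1, 1)] (.node [(36, (-1), 1, 1)] .nil .nil) .nil) (.node [] (.node [] (.node [(76, 1, 1, 1)] .nil .nil) .nil) (.node [(60, (-1), 1, 1)] .nil .nil))))) (.node [] (.node [] (.node [] .nil (.node [(23, (-1), 1, 1)] (.node [(39, (-1), 1, 1)] (.node [(71, 1, 1, 1)] .nil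 .nil) .nil) (.node [] .nil (.node [(119, 1, 1, 1)] .nil .nil)))) (.node [] (.node [] (.node [] (.node [(67, 1, 1, 1)] .nil .nil) .nil) (.node [] .nil (.node [(115, 1, 1, 1)] .nil .nil))) (.node [(27, (-1), 1, 1)] (.node [(43, (-1), 1, 1)] .nil .nil) .nil))) (.node [(5, (-1), 1, 1)] (.node [(9, (-1), 1, 1)] (.node [] (.node [] .nil (.node [(97, 1, 1, 1)] .nil .nil)) (.node [] (.node [(81, 1, 1, 1)] .nil .nil) .nil)) (.node [] .nil (.node [(57, (-1), 1, 1)] .nil .nil))) (.node [] (.node [] (.node [] .nil (.node [(101, 1, 1, 1)] .nil .nil)) (.node [(53, (-1), 1, 1)] (.node [(85, 1, 1, 1)] .nil .nil) .nil)) .nil))))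
def C62 : List (ℕ × List (ℕ × ℤ)) := [(6, [(5, (-1))]), (10, [(9, (-1))]), (13, [(12, (-1))]), (15, [(14, (-1))]), (19, [(18, (-1))]), (21, [(20, (-1))]), (24, [(23, (-1))]), (28, [(27, (-1))]), (35, [(34, (-1))]), (37, [(36, (-1))]), (40, [(39, (-1))]), (44, [(43, (-1))]), (49, [(48, (-1))]), (54, [(53, (-1))]), (58, [(57, (-1))]), (61, [(60, (-1))]), (65, [(64, 1)]), (68, [(67, 1)]), (72, [(71, 1)]), (77, [(76, 1)]), (82, [(81, 1)]), (86, [(85, 1)]), (89, [(88, 1)]), (91, [(90, 1)]), (98, [(97, 1)]), (102, [(101, 1)]), (105, [(104, 1)]), (107, [(106, 1)]), (111, [(110, 1)]), (113, [(112, 1)]), (116, [(115, 1)]), (120, [(119, 1)])]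
def M63 : Tr (List (ℕ × ℤ × ℕ × ℕ)) := (.node [] (.node [] (.node [] (.node [] .nil (.node [(24, (-1), 1, 1)] (.node [(40, (-1), 1, 1)] (.node [(72, 1, 1, 1)] .nil .nil) .nil) (.node [] .nil (.node [(120, 1, 1, 1)] .nil .nil)))) (.node [] (.node [] (.node [] (.node [(68, 1, 1, 1)] .nil .nil) .nil) (.node [] .nil (.node [(116, 1, 1, 1)] .nil .nil))) (.node [(28, (-1), 1, 1)] (.node [(44, (-1), 1, 1)] .nil .nil) .nil))) (.node [(6, (-1), 1, 1)] (.node [(10, (-1), 1, 1)] (.node [] (.node [] .nil (.node [(98, 1, 1, 1)] .nil .nil)) (.node [] (.node [(82, 1, 1, 1)] .nil .nil) .nil)) (.node [] .nil (.node [(58, (-1), 1, 1)] .nil .nil))) (.node [] (.node [] (.node [] .nil (.node [(102, 1, 1, 1)] .nil .nil)) (.node [(54, (-1), 1, 1)] (.node [(86, 1, 1, 1)] .nil .nil) .nil)) .nil))) (.node [] (.node [] (.node [] (.node [] (.node [] (.node [(65, 1, 1, 1)] .nil .nil) .nil) (.node [(49, (-1), 1, 1)] .nil (.node [(113, 1, 1, 1)] .nil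 .nil))) (.node [] (.node [] .nil (.node [(105, 1, 1, 1)] .nil .nil)) (.node [] (.node [(89, 1, 1, 1)] .nil .nil) .nil))) (.node [(13, (-1), 1, 1)] (.node [(21, (-1), 1, 1)] (.node [(37, (-1), 1, 1)] .nil .nil) .nil) (.node [] (.node [] (.node [(77, 1, 1, 1)] .nil .nil) .nil) (.node [(61, (-1), 1, 1)] .nil .nil)))) (.node [] (.node [] (.node [(19, (-1), 1, 1)] (.node [(35, (-1), 1, 1)] .nil .nil) .nil) (.node [] (.node [] .nil (.node [(107, 1, 1, 1)] .nil .nil)) (.node [] (.node [(91, 1, 1, 1)] .nil .nil) .nil))) (.node [(15, (-1), 1, 1)] .nil (.node [] (.node [] .nil (.node [(111, 1, 1, 1)] .nil .nil)) .nil)))))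
def C63 : List (ℕ × List (ℕ × ℤ)) := [(5, [(6, (-1))]), (9, [(10, (-1))]), (12, [(13, (-1))]), (14, [(15, (-1))]), (18, [(19, (-1))]), (20, [(21, (-1))]), (23, [(24, (-1))]), (27, [(28, (-1))]), (34, [(35, (-1))]), (36, [(37, (-1))]), (39, [(40, (-1))]), (43, [(44, (-1))]), (48, [(49, (-1))]), (53, [(54, (-1))]), (57, [(58, (-1))]), (60, [(61, (-1))]), (64, [(65, 1)]), (67, [(68, 1)]), (71, [(72, 1)]), (76, [(77, 1)]), (81, [(82, 1)]), (85, [(86, 1)]), (88, [(89, 1)]), (90, [(91, 1)]), (97, [(98, 1)]), (101, [(102, 1)]), (104, [(105, 1)]), (106, [(107, 1)]), (110, [(111, 1)]), (112, [(113, 1)]), (115, [(116, 1)]), (119, [(120, 1)])]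
def M64 : Tr (List (ℕ × ℤ × ℕ × ℕ)) := (.node [] (.node [] (.node [] (.node [] (.node [(16, (-1), 1, 1)] (.node [] (.node [(65, (-1), 1, 1)] .nil .nil) .nil) .nil) (.node [] (.node [] .nil (.node [(104, 1, 1, 1)] .nil .nil)) (.node [] (.node [(88, 1, 1, 1)] .nil .nil) .nil))) (.node [(12, (-1), 1, 1)] .nil (.node [] (.node [] (.node [(76, 1, 1, 1)] .nil .nil) (.node [(108, 1, 1, 1)] .nil .nil)) (.node [] (.node [(92, 1, 1, 1)] .nil .nil) .nil)))) (.node [] (.node [] (.node [(18, (-1), 1, 1)] (.node [(34, (-1), 1, 1)] .nil .nil) (.node [(50, (-1), 1, 1)] .nil (.node [(114, 1, 1, 1)] .nil .nil))) .nil) (.node [] (.node [(22, (-1), 1, 1)] (.node [(38, (-1), 1, 1)] .nil .nil) .nil) (.node [] (.node [] .nil (.node [(110, 1, 1, 1)] .nil .nil)) .nil)))) (.node [] (.node [(5, (-1), 1, 1)] (.node [(9, (-1), 1, 1)] (.node [] (.node [] .nil (.node [(97, 1, 1, 1)] .nil .nil)) (.node [] (.node [(81, 1, 1, 1)] .nil .nil) .nil)) (.node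 [(25, (-1), 1, 1)] (.node [(41, (-1), 1, 1)] .nil .nil) (.node [] .nil (.node [(121, 1, 1, 1)] .nil .nil)))) (.node [] (.node [] (.node [] .nil (.node [(101, 1, 1, 1)] .nil .nil)) (.node [] (.node [(85, 1, 1, 1)] .nil .nil) (.node [(117, 1, 1, 1)] .nil .nil))) (.node [(29, (-1), 1, 1)] (.node [(45, (-1), 1, 1)] .nil .nil) (.node [(62, 1, 1, 1)] .nil .nil)))) (.node [] (.node [] (.node [] (.node [] (.node [(67, 1, 1, 1)] .nil .nil) .nil) .nil) (.node [] .nil (.node [(59, (-1), 1, 1)] .nil .nil))) (.node [] (.node [] (.node [] (.node [(71, 1, 1, 1)] .nil .nil) .nil) (.node [(55, (-1), 1, 1)] .nil .nil)) .nil))))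
def C64 : List (ℕ × List (ℕ × ℤ)) := [(4, [(5, (-1))]), (8, [(9, (-1))]), (11, [(12, (-1))]), (15, [(16, (-1))]), (17, [(18, (-1))]), (21, [(22, (-1))]), (24, [(25, (-1))]), (28, [(29, (-1))]), (33, [(34, (-1))]), (37, [(38, (-1))]), (40, [(41, (-1))]), (44, [(45, (-1))]), (49, [(50, (-1))]), (54, [(55, (-1))]), (58, [(59, (-1))]), (60, [(62, 1)]), (63, [(65, (-1))]), (66, [(67, 1)]), (70, [(71, 1)]), (75, [(76, 1)]), (80, [(81, 1)]), (84, [(85, 1)]), (87, [(88, 1)]), (91, [(92, 1)]), (96, [(97, 1)]), (100, [(101, 1)]), (103, [(104, 1)]), (107, [(108, 1)]), (109, [(110, 1)]), (113, [(114, 1)]), (116, [(117, 1)]), (120, [(121, 1)])]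
def M65 : Tr (List (ℕ × ℤ × ℕ × ℕ)) := (.node [] (.node [] (.node [] (.node [] .nil (.node [(25, (-1), 1, 1)] (.node [(41, (-1), 1, 1)] .nil (.node [(105, 1, 1, 1)] .nil .nil)) (.node [] (.node [(89, 1, 1, 1)] .nil .nil) (.node [(121, (-1), 1, 1)] .nil .nil)))) (.node [(13, 1, 1, 1)] (.node [] .nil (.node [] .nil (.node [(117, (-1), 1, 1)] .nil .nil))) (.node [(29, (-1), 1, 1)] (.node [(45, (-1), 1, 1)] (.node [(77, 1, 1, 1)] .nil .nil) .nil) .nil))) (.node [] (.node [] (.node [(19, 1, 1, 1)] (.node [(35, 1, 1, 1)] .nil .nil) .nil) (.node [] .nil (.node [(59, (-1), 1, 1)] .nil .nil))) (.node [] (.node [] .nil (.node [(55, (-1), 1, 1)] .nil .nil)) (.node [] (.node [] .nil (.node [(111, 1, 1, 1)] .nil .nil)) (.node [(63, 1, 1, 1)] .nil .nil))))) (.node [] (.node [(6, 1, 1, 1)] (.node [(10, 1, 1, 1)] (.node [] (.node [] .nil (.node [(98, 1, 1, 1)] .nil .nil)) (.node [(50, (-1), 1, 1)] (.node [(82, 1, 1, 1)] .nil .nil) (.node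 [(114, (-1), 1, 1)] .nil .nil))) .nil) (.node [] (.node [(22, (-1), 1, 1)] (.node [(38, (-1), 1, 1)] .nil (.node [(102, 1, 1, 1)] .nil .nil)) (.node [] (.node [(86, 1, 1, 1)] .nil .nil) .nil)) .nil)) (.node [] (.node [] (.node [] (.node [] (.node [(68, 1, 1, 1)] .nil .nil) .nil) .nil) (.node [] (.node [] .nil (.node [(108, (-1), 1, 1)] .nil .nil)) (.node [] (.node [(92, (-1), 1, 1)] .nil .nil) .nil))) (.node [(16, (-1), 1, 1)] (.node [] (.node [] (.node [(72, 1, 1, 1)] .nil .nil) .nil) .nil) (.node [] .nil (.node [(64, (-1), 1, 1)] .nil .nil))))))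
def C65 : List (ℕ × List (ℕ × ℤ)) := [(4, [(6, 1)]), (8, [(10, 1)]), (11, [(13, 1)]), (14, [(16, (-1))]), (17, [(19, 1)]), (20, [(22, (-1))]), (23, [(25, (-1))]), (27, [(29, (-1))]), (33, [(35, 1)]), (36, [(38, (-1))]), (39, [(41, (-1))]), (43, [(45, (-1))]), (48, [(50, (-1))]), (53, [(55, (-1))]), (57, [(59, (-1))]), (61, [(63, 1)]), (62, [(64, (-1))]), (66, [(68, 1)]), (70, [(72, 1)]), (75, [(77, 1)]), (80, [(82, 1)]), (84, [(86, 1)]), (87, [(89, 1)]), (90, [(92, (-1))]), (96, [(98, 1)]), (100, [(102, 1)]), (103, [(105, 1)]), (106, [(108, (-1))]), (109, [(111, 1)]), (112, [(114, (-1))]), (115, [(117, (-1))]), (119, [(121, (-1))])]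
def M66 : Tr (List (ℕ × ℤ × ℕ × ℕ)) := (.node [] (.node [] (.node [(4, (-1), 1, 1)] (.node [(8, (-1), 1, 1)] (.node [] (.node [] .nil (.node [(96, 1, 1, 1)] .nil .nil)) (.node [] (.node [(80, 1, 1, 1)] .nil .nil) (.node [(113, 1, 1, 1)] .nil .nil))) (.node [] .nil (.node [(56, (-1), 1, 1)] .nil .nil))) (.node [] (.node [(21, (-1), 1, 1)] (.node [(37, (-1), 1, 1)] .nil (.node [(100, 1, 1, 1)] .nil .nil)) (.node [] (.node [(84, 1, 1, 1)] .nil .nil) .nil)) .nil)) (.node [] (.node [] (.node [] (.node [] (.node [(68, (-1), 1, 1)] .nil .nil) .nil) .nil) (.node [(26, (-1), 1, 1)] (.node [(42, (-1), 1, 1)] .nil (.node [(107, 1, 1, 1)] .nil .nil)) (.node [(60, 1, 1, 1)] (.node [(91, 1, 1, 1)] .nil .nil) (.node [(122, 1, 1, 1)] .nil .nil)))) (.node [(15, (-1), 1, 1)] (.node [] (.node [] (.node [(70, 1, 1, 1)] .nil .nil) .nil) (.node [] .nil (.node [(118, 1, 1, 1)] .nil .nil))) (.node [(30, (-1), 1, 1)] (.node [(46, (-1), 1, 1)] .nil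 .nil) .nil)))) (.node [] (.node [] (.node [] (.node [] (.node [] (.node [(67, (-1), 1, 1)] .nil .nil) .nil) .nil) (.node [] (.node [] .nil (.node [(106, 1, 1, 1)] .nil .nil)) (.node [] (.node [(90, 1, 1, 1)] .nil .nil) .nil))) (.node [(14, (-1), 1, 1)] .nil .nil)) (.node [] (.node [] (.node [(20, (-1), 1, 1)] (.node [(36, (-1), 1, 1)] .nil .nil) (.node [(51, (-1), 1, 1)] .nil .nil)) (.node [] (.node [] (.node [(75, 1, 1, 1)] .nil .nil) .nil) (.node [(61, 1, 1, 1)] .nil .nil))) (.node [] .nil (.node [] (.node [] .nil (.node [(112, 1, 1, 1)] .nil .nil)) .nil)))))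
def C66 : List (ℕ × List (ℕ × ℤ)) := [(3, [(4, (-1))]), (7, [(8, (-1))]), (12, [(14, (-1))]), (13, [(15, (-1))]), (18, [(20, (-1))]), (19, [(21, (-1))]), (25, [(26, (-1))]), (29, [(30, (-1))]), (34, [(36, (-1))]), (35, [(37, (-1))]), (41, [(42, (-1))]), (45, [(46, (-1))]), (50, [(51, (-1))]), (55, [(56, (-1))]), (57, [(60, 1)]), (58, [(61, 1)]), (64, [(67, (-1))]), (65, [(68, (-1))]), (69, [(70, 1)]), (74, [(75, 1)]), (79, [(80, 1)]), (83, [(84, 1)]), (88, [(90, 1)]), (89, [(91, 1)]), (95, [(96, 1)]), (99, [(100, 1)]), (104, [(106, 1)]), (105, [(107, 1)]), (110, [(112, 1)]), (111, [(113, 1)]), (117, [(118, 1)]), (121, [(122, 1)])]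
def M67 : Tr (List (ℕ × ℤ × ℕ × ℕ)) := (.node [] (.node [] (.node [(5, 1, 1, 1)] (.node [(9, 1, 1, 1)] (.node [] (.node [] (.node [(68, (-1), 1, 1)] .nil .nil) (.node [(97, 1, 1, 1)] .nil .nil)) (.node [] (.node [(81, 1, 1, 1)] .nil .nil) (.node [(114, 1, 1, 1)] .nil .nil))) (.node [] (.node [] .nil (.node [(106, (-1), 1, 1)] .nil .nil)) (.node [] (.node [(90, (-1), 1, 1)] .nil .nil) .nil))) (.node [(14, (-1), 1, 1)] (.node [(22, 1, 1, 1)] (.node [(38, 1, 1, 1)] .nil (.node [(101, 1, 1, 1)] .nil .nil)) (.node [] (.node [(85, 1, 1, 1)] .nil .nil) .nil)) (.node [] .nil (.node [(64, 1, 1, 1)] .nil .nil)))) (.node [] (.node [] (.node [(20, (-1), 1, 1)] (.node [(36, (-1), 1, 1)] .nil .nil) (.node [(51, (-1), 1, 1)] .nil .nil)) (.node [] (.node [] .nil (.node [(108, 1, 1, 1)] .nil .nil)) (.node [(62, 1, 1, 1)] (.node [(92, 1, 1, 1)] .nil .nil) .nil))) (.node [(16, 1, 1, 1)] (.node [] (.node [] (.node [(71, 1, 1, 1)] .nil .nil)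 .nil) .nil) (.node [] (.node [] .nil (.node [(112, (-1), 1, 1)] .nil .nil)) (.node [(66, (-1), 1, 1)] .nil .nil))))) (.node [] (.node [] (.node [] .nil (.node [(26, (-1), 1, 1)] (.node [(42, (-1), 1, 1)] .nil .nil) (.node [] .nil (.node [(122, (-1), 1, 1)] .nil .nil)))) (.node [] (.node [] .nil (.node [] .nil (.node [(118, (-1), 1, 1)] .nil .nil))) (.node [(30, (-1), 1, 1)] (.node [(46, (-1), 1, 1)] .nil .nil) .nil))) (.node [] (.node [] .nil (.node [] (.node [] (.node [(76, 1, 1, 1)] .nil .nil) .nil) .nil)) (.node [] (.node [] .nil (.node [(56, (-1), 1, 1)] .nil .nil)) .nil))))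
def C67 : List (ℕ × List (ℕ × ℤ)) := [(3, [(5, 1)]), (7, [(9, 1)]), (11, [(14, (-1))]), (13, [(16, 1)]), (17, [(20, (-1))]), (19, [(22, 1)]), (24, [(26, (-1))]), (28, [(30, (-1))]), (33, [(36, (-1))]), (35, [(38, 1)]), (40, [(42, (-1))]), (44, [(46, (-1))]), (49, [(51, (-1))]), (54, [(56, (-1))]), (57, [(62, 1)]), (59, [(64, 1)]), (61, [(66, (-1))]), (63, [(68, (-1))]), (69, [(71, 1)]), (74, [(76, 1)]), (79, [(81, 1)]), (83, [(85, 1)]), (87, [(90, (-1))]), (89, [(92, 1)]), (95, [(97, 1)]), (99, [(101, 1)]), (103, [(106, (-1))]), (105, [(108, 1)]), (109, [(112, (-1))]), (111, [(114, 1)]), (116, [(118, (-1))]), (120, [(122, (-1))])]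
def M68 : Tr (List (ℕ × ℤ × ℕ × ℕ)) := (.node [] (.node [] (.node [(6, (-1), 1, 1)] (.node [(10, (-1), 1, 1)] (.node [] (.node [] .nil (.node [(98, 1, 1, 1)] .nil .nil)) (.node [] (.node [(82, 1, 1, 1)] .nil .nil) .nil)) (.node [(26, (-1), 1, 1)] (.node [(42, (-1), 1, 1)] .nil (.node [(107, (-1), 1, 1)] .nil .nil)) (.node [] (.node [(91, (-1), 1, 1)] .nil .nil) (.node [(122, 1, 1, 1)] .nil .nil)))) (.node [(15, 1, 1, 1)] (.node [] (.node [] .nil (.node [(102, 1, 1, 1)] .nil .nil)) (.node [] (.node [(86, 1, 1, 1)] .nil .nil) (.node [(118, 1, 1, 1)] .nil .nil))) (.node [(30, (-1), 1, 1)] (.node [(46, (-1), 1, 1)] .nil .nil) (.node [(65, 1, 1, 1)] .nil .nil)))) (.node [] (.node [] (.node [(21, 1, 1, 1)] (.node [(37, 1, 1, 1)] .nil .nil) .nil) .nil) (.node [] (.node [] (.node [] (.node [(72, 1, 1, 1)] .nil .nil) .nil) (.node [(56, (-1), 1, 1)] .nil .nil)) (.node [] (.node [] .nil (.node [(113, (-1), 1, 1)] .nil .nil)) .nil))))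 (.node [] (.node [] (.node [] (.node [] .nil (.node [(51, (-1), 1, 1)] .nil .nil)) (.node [] (.node [] .nil (.node [(108, (-1), 1, 1)] .nil .nil)) (.node [] (.node [(92, (-1), 1, 1)] .nil .nil) .nil))) (.node [(16, 1, 1, 1)] .nil (.node [] .nil (.node [(66, (-1), 1, 1)] .nil .nil)))) (.node [] (.node [] (.node [(22, 1, 1, 1)] (.node [(38, 1, 1, 1)] .nil .nil) .nil) (.node [] (.node [] (.node [(77, 1, 1, 1)] .nil .nil) .nil) (.node [(63, 1, 1, 1)] .nil .nil))) (.node [] .nil (.node [] (.node [] .nil (.node [(114, (-1), 1, 1)] .nil .nil)) (.node [(67, (-1), 1, 1)] .nil .nil))))))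
def C68 : List (ℕ × List (ℕ × ℤ)) := [(3, [(6, (-1))]), (7, [(10, (-1))]), (11, [(15, 1)]), (12, [(16, 1)]), (17, [(21, 1)]), (18, [(22, 1)]), (23, [(26, (-1))]), (27, [(30, (-1))]), (33, [(37, 1)]), (34, [(38, 1)]), (39, [(42, (-1))]), (43, [(46, (-1))]), (48, [(51, (-1))]), (53, [(56, (-1))]), (58, [(63, 1)]), (59, [(65, 1)]), (60, [(66, (-1))]), (62, [(67, (-1))]), (69, [(72, 1)]), (74, [(77, 1)]), (79, [(82, 1)]), (83, [(86, 1)]), (87, [(91, (-1))]), (88, [(92, (-1))]), (95, [(98, 1)]), (99, [(102, 1)]), (103, [(107, (-1))]), (104, [(108, (-1))]), (109, [(113, (-1))]), (110, [(114, (-1))]), (115, [(118, 1)]), (119, [(122, 1)])]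
def M69 : Tr (List (ℕ × ℤ × ℕ × ℕ)) := (.node [] (.node [] (.node [] (.node [] .nil (.node [] .nil (.node [(59, 1, 1, 1)] .nil .nil))) (.node [] (.node [] (.node [] (.node [(71, (-1), 1, 1)] .nil .nil) .nil) (.node [(52, (-1), 1, 1)] .nil .nil)) .nil)) (.node [] (.node [(12, (-1), 1, 1)] (.node [] .nil (.node [] .nil (.node [(116, 1, 1, 1)] .nil .nil))) (.node [] (.node [] (.node [(74, 1, 1, 1)] .nil .nil) .nil) .nil)) (.node [] (.node [(24, (-1), 1, 1)] (.node [(40, (-1), 1, 1)] .nil (.node [(104, 1, 1, 1)] .nil .nil)) (.node [(57, 1, 1, 1)] (.node [(88, 1, 1, 1)] .nil .nil) .nil)) .nil))) (.node [(3, (-1), 1, 1)] (.node [] (.node [(11, (-1), 1, 1)] (.node [] .nil (.node [] .nil (.node [(115, 1, 1, 1)] .nil .nil))) .nil) (.node [] (.node [(23, (-1), 1, 1)] (.node [(39, (-1), 1, 1)] (.node [(72, (-1), 1, 1)] .nil .nil) (.node [(103, 1, 1, 1)] .nil .nil)) (.node [] (.node [(87, 1, 1, 1)] .nil .nil) .nil)) .nil)) (.node []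 (.node [(13, (-1), 1, 1)] (.node [] (.node [] (.node [(70, (-1), 1, 1)] .nil .nil) .nil) (.node [] .nil (.node [(117, 1, 1, 1)] .nil .nil))) (.node [] .nil (.node [] .nil (.node [(123, 1, 1, 1)] .nil .nil)))) (.node [] (.node [(25, (-1), 1, 1)] (.node [(41, (-1), 1, 1)] .nil (.node [(105, 1, 1, 1)] .nil .nil)) (.node [(58, 1, 1, 1)] (.node [(89, 1, 1, 1)] .nil .nil) .nil)) (.node [(31, (-1), 1, 1)] (.node [(47, (-1), 1, 1)] (.node [(79, 1, 1, 1)] .nil .nil) .nil) (.node [] (.node [(95, 1, 1, 1)] .nil .nil) .nil))))))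
def C69 : List (ℕ × List (ℕ × ℤ)) := [(2, [(3, (-1))]), (8, [(11, (-1))]), (9, [(12, (-1))]), (10, [(13, (-1))]), (20, [(23, (-1))]), (21, [(24, (-1))]), (22, [(25, (-1))]), (30, [(31, (-1))]), (36, [(39, (-1))]), (37, [(40, (-1))]), (38, [(41, (-1))]), (46, [(47, (-1))]), (51, [(52, (-1))]), (53, [(57, 1)]), (54, [(58, 1)]), (55, [(59, 1)]), (66, [(70, (-1))]), (67, [(71, (-1))]), (68, [(72, (-1))]), (73, [(74, 1)]), (78, [(79, 1)]), (84, [(87, 1)]), (85, [(88, 1)]), (86, [(89, 1)]), (94, [(95, 1)]), (100, [(103, 1)]), (101, [(104, 1)]), (102, [(105, 1)]), (112, [(115, 1)]), (113, [(116, 1)]), (114, [(117, 1)]), (122, [(123, 1)])]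
def M70 : Tr (List (ℕ × ℤ × ℕ × ℕ)) := (.node [] (.node [] (.node [] (.node [(11, (-1), 1, 1)] (.node [] .nil (.node [] .nil (.node [(116, (-1), 1, 1)] .nil .nil))) .nil) (.node [] (.node [(24, (-1), 1, 1)] (.node [(40, (-1), 1, 1)] .nil (.node [(103, (-1), 1, 1)] .nil .nil)) (.node [] (.node [(87, (-1), 1, 1)] .nil .nil) .nil)) (.node [] .nil (.node [(69, (-1), 1, 1)] .nil .nil)))) (.node [] (.node [(14, 1, 1, 1)] (.node [] (.node [] (.node [(72, (-1), 1, 1)] .nil .nil) .nil) .nil) (.node [] (.node [] (.node [(75, 1, 1, 1)] .nil .nil) .nil) (.node [] .nil (.node [(123, (-1), 1, 1)] .nil .nil)))) (.node [] (.node [] (.node [] .nil (.node [(106, 1, 1, 1)] .nil .nil)) (.node [(60, 1, 1, 1)] (.node [(90, 1, 1, 1)] .nil .nil) .nil)) (.node [(31, (-1), 1, 1)] (.node [(47, (-1), 1, 1)] .nil .nil) .nil)))) (.node [(4, 1, 1, 1)] (.node [] (.node [] (.node [] (.node [] (.node [(71, (-1), 1, 1)] .nil .nil) .nil) .nil) (.node [] .nil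 (.node [(66, 1, 1, 1)] .nil .nil))) .nil) (.node [] (.node [(15, 1, 1, 1)] (.node [(23, (-1), 1, 1)] (.node [(39, (-1), 1, 1)] .nil .nil) (.node [(52, (-1), 1, 1)] .nil (.node [(118, 1, 1, 1)] .nil .nil))) .nil) (.node [] (.node [(26, 1, 1, 1)] (.node [(42, 1, 1, 1)] .nil (.node [(107, 1, 1, 1)] .nil .nil)) (.node [(61, 1, 1, 1)] (.node [(91, 1, 1, 1)] .nil .nil) .nil)) (.node [] (.node [] (.node [(80, 1, 1, 1)] .nil .nil) (.node [(115, (-1), 1, 1)] .nil .nil)) (.node [] (.node [(96, 1, 1, 1)] .nil .nil) .nil))))))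
def C70 : List (ℕ × List (ℕ × ℤ)) := [(2, [(4, 1)]), (7, [(11, (-1))]), (9, [(14, 1)]), (10, [(15, 1)]), (18, [(23, (-1))]), (19, [(24, (-1))]), (22, [(26, 1)]), (29, [(31, (-1))]), (34, [(39, (-1))]), (35, [(40, (-1))]), (38, [(42, 1)]), (45, [(47, (-1))]), (50, [(52, (-1))]), (53, [(60, 1)]), (54, [(61, 1)]), (56, [(66, 1)]), (59, [(69, (-1))]), (64, [(71, (-1))]), (65, [(72, (-1))]), (73, [(75, 1)]), (78, [(80, 1)]), (83, [(87, (-1))]), (85, [(90, 1)]), (86, [(91, 1)]), (94, [(96, 1)]), (99, [(103, (-1))]), (101, [(106, 1)]), (102, [(107, 1)]), (110, [(115, (-1))]), (111, [(116, (-1))]), (114, [(118, 1)]), (121, [(123, (-1))])]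
def M71 : Tr (List (ℕ × ℤ × ℕ × ℕ)) := (.node [] (.node [] (.node [] (.node [(12, 1, 1, 1)] (.node [] (.node [] (.node [(72, (-1), 1, 1)] .nil .nil) .nil) (.node [] .nil (.node [(117, (-1), 1, 1)] .nil .nil))) (.node [] .nil (.node [(64, 1, 1, 1)] .nil .nil))) (.node [] (.node [(25, 1, 1, 1)] (.node [(41, 1, 1, 1)] .nil (.node [(104, (-1), 1, 1)] .nil .nil)) (.node [] (.node [(88, (-1), 1, 1)] .nil .nil) .nil)) .nil)) (.node [] (.node [] (.node [(23, (-1), 1, 1)] (.node [(39, (-1), 1, 1)] .nil .nil) (.node [(52, (-1), 1, 1)] .nil (.node [(118, (-1), 1, 1)] .nil .nil))) (.node [] (.node [] (.node [(76, 1, 1, 1)] .nil .nil) .nil) .nil)) (.node [] (.node [(26, 1, 1, 1)] (.node [(42, 1, 1, 1)] .nil .nil) (.node [(62, 1, 1, 1)] .nil .nil)) (.node [] (.node [] .nil (.node [(115, 1, 1, 1)] .nil .nil)) (.node [(70, (-1), 1, 1)] .nil .nil))))) (.node [(5, (-1), 1, 1)] (.node [] (.node [(14, 1, 1, 1)] .nil (.node [] .nil (.node [(67,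 1, 1, 1)] .nil (.node [(123, 1, 1, 1)] .nil .nil)))) (.node [] (.node [] (.node [] .nil (.node [(106, (-1), 1, 1)] .nil .nil)) (.node [] (.node [(90, (-1), 1, 1)] .nil .nil) .nil)) (.node [(31, (-1), 1, 1)] (.node [(47, (-1), 1, 1)] .nil .nil) .nil))) (.node [] (.node [(16, (-1), 1, 1)] .nil (.node [] .nil (.node [(69, (-1), 1, 1)] .nil .nil))) (.node [] (.node [] (.node [] .nil (.node [(108, 1, 1, 1)] .nil .nil)) (.node [] (.node [(92, 1, 1, 1)] .nil .nil) .nil)) (.node [] (.node [] (.node [(81, 1, 1, 1)] .nil .nil) .nil) (.node [] (.node [(97, 1, 1, 1)] .nil .nil) .nil))))))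
def C71 : List (ℕ × List (ℕ × ℤ)) := [(2, [(5, (-1))]), (7, [(12, 1)]), (8, [(14, 1)]), (10, [(16, (-1))]), (17, [(23, (-1))]), (19, [(25, 1)]), (21, [(26, 1)]), (28, [(31, (-1))]), (33, [(39, (-1))]), (35, [(41, 1)]), (37, [(42, 1)]), (44, [(47, (-1))]), (49, [(52, (-1))]), (53, [(62, 1)]), (55, [(64, 1)]), (56, [(67, 1)]), (58, [(69, (-1))]), (61, [(70, (-1))]), (63, [(72, (-1))]), (73, [(76, 1)]), (78, [(81, 1)]), (83, [(88, (-1))]), (84, [(90, (-1))]), (86, [(92, 1)]), (94, [(97, 1)]), (99, [(104, (-1))]), (100, [(106, (-1))]), (102, [(108, 1)]), (109, [(115, 1)]), (111, [(117, (-1))]), (113, [(118, (-1))]), (120, [(123, 1)])]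
def M72 : Tr (List (ℕ × ℤ × ℕ × ℕ)) := (.node [] (.node [] (.node [] (.node [(13, (-1), 1, 1)] .nil (.node [] .nil (.node [(65, 1, 1, 1)] .nil (.node [(123, (-1), 1, 1)] .nil .nil)))) (.node [] (.node [] (.node [] .nil (.node [(105, (-1), 1, 1)] .nil .nil)) (.node [] (.node [(89, (-1), 1, 1)] .nil .nil) .nil)) (.node [(31, (-1), 1, 1)] (.node [(47, (-1), 1, 1)] .nil .nil) .nil))) (.node [] (.node [(16, (-1), 1, 1)] (.node [(24, 1, 1, 1)] (.node [(40, 1, 1, 1)] .nil .nil) .nil) (.node [] (.node [] (.node [(77, 1, 1, 1)] .nil .nil) .nil) (.node [(69, (-1), 1, 1)] .nil .nil))) (.node [] (.node [] (.node [] .nil (.node [(108, (-1), 1, 1)] .nil .nil)) (.node [] (.node [(92, (-1), 1, 1)] .nil .nil) .nil)) (.node [] (.node [] .nil (.node [(116, 1, 1, 1)] .nil .nil)) .nil)))) (.node [(6, 1, 1, 1)] (.node [] (.node [(15, (-1), 1, 1)] (.node [] .nil (.node [(52, (-1), 1, 1)] .nil (.node [(118, 1, 1, 1)] .nil .nil))) (.node [] .nil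 (.node [(68, 1, 1, 1)] .nil .nil))) (.node [] (.node [(26, 1, 1, 1)] (.node [(42, 1, 1, 1)] .nil (.node [(107, (-1), 1, 1)] .nil .nil)) (.node [] (.node [(91, (-1), 1, 1)] .nil .nil) .nil)) (.node [] .nil (.node [(70, (-1), 1, 1)] .nil .nil)))) (.node [] (.node [] (.node [(25, 1, 1, 1)] (.node [(41, 1, 1, 1)] .nil .nil) .nil) .nil) (.node [] (.node [] .nil (.node [(63, 1, 1, 1)] .nil .nil)) (.node [] (.node [] (.node [(82, 1, 1, 1)] .nil .nil) (.node [(117, 1, 1, 1)] .nil .nil)) (.node [(71, (-1), 1, 1)] (.node [(98, 1, 1, 1)] .nil .nil) .nil))))))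
def C72 : List (ℕ × List (ℕ × ℤ)) := [(2, [(6, 1)]), (7, [(13, (-1))]), (8, [(15, (-1))]), (9, [(16, (-1))]), (17, [(24, 1)]), (18, [(25, 1)]), (20, [(26, 1)]), (27, [(31, (-1))]), (33, [(40, 1)]), (34, [(41, 1)]), (36, [(42, 1)]), (43, [(47, (-1))]), (48, [(52, (-1))]), (54, [(63, 1)]), (55, [(65, 1)]), (56, [(68, 1)]), (57, [(69, (-1))]), (60, [(70, (-1))]), (62, [(71, (-1))]), (73, [(77, 1)]), (78, [(82, 1)]), (83, [(89, (-1))]), (84, [(91, (-1))]), (85, [(92, (-1))]), (94, [(98, 1)]), (99, [(105, (-1))]), (100, [(107, (-1))]), (101, [(108, (-1))]), (109, [(116, 1)]), (110, [(117, 1)]), (112, [(118, 1)]), (119, [(123, (-1))])]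
def M73 : Tr (List (ℕ × ℤ × ℕ × ℕ)) := (.node [] (.node [(2, (-1), 1, 1)] (.node [] (.node [] (.node [(21, (-1), 1, 1)] (.node [(32, (-1), 1, 1)] .nil .nil) (.node [] (.node [(83, 1, 1, 1)] .nil .nil) .nil)) (.node [] (.node [(43, (-1), 1, 1)] (.node [(76, (-1), 1, 1)] .nil .nil) (.node [(109, 1, 1, 1)] .nil .nil)) .nil)) (.node [(17, (-1), 1, 1)] (.node [] .nil (.node [(56, 1, 1, 1)] .nil .nil)) (.node [] (.node [] .nil (.node [(113, 1, 1, 1)] .nil .nil)) (.node [] .nil (.node [(124, 1, 1, 1)] .nil .nil))))) (.node [] (.node [] (.node [] .nil (.node [(54, 1, 1, 1)] (.node [(85, 1, 1, 1)] .nil .nil) .nil)) (.node [] (.node [(45, (-1), 1, 1)] .nil (.node [(111, 1, 1, 1)] .nil .nil)) .nil)) (.node [(19, (-1), 1, 1)] (.node [] (.node [] (.node [(74, (-1), 1, 1)] .nil .nil) .nil) .nil) (.node [] .nil (.node [] (.node [(94, 1, 1, 1)] .nil .nil) .nil))))) (.node [] (.node [] (.node [] (.node [(22, (-1), 1, 1)] .nil (.node [(53,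 1, 1, 1)] (.node [(84, 1, 1, 1)] .nil .nil) .nil)) (.node [] (.node [(44, (-1), 1, 1)] (.node [(77, (-1), 1, 1)] .nil .nil) (.node [(110, 1, 1, 1)] .nil .nil)) .nil)) (.node [(18, (-1), 1, 1)] .nil (.node [] (.node [] .nil (.node [(114, 1, 1, 1)] .nil .nil)) .nil))) (.node [] (.node [] (.node [] .nil (.node [(55, 1, 1, 1)] (.node [(86, 1, 1, 1)] .nil .nil) .nil)) (.node [] (.node [(46, (-1), 1, 1)] .nil (.node [(112, 1, 1, 1)] .nil .nil)) .nil)) (.node [(20, (-1), 1, 1)] (.node [] (.node [] (.node [(75, (-1), 1, 1)] .nil .nil) .nil) .nil) .nil))))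
def C73 : List (ℕ × List (ℕ × ℤ)) := [(1, [(2, (-1))]), (11, [(17, (-1))]), (12, [(18, (-1))]), (13, [(19, (-1))]), (14, [(20, (-1))]), (15, [(21, (-1))]), (16, [(22, (-1))]), (31, [(32, (-1))]), (39, [(43, (-1))]), (40, [(44, (-1))]), (41, [(45, (-1))]), (42, [(46, (-1))]), (48, [(53, 1)]), (49, [(54, 1)]), (50, [(55, 1)]), (51, [(56, 1)]), (69, [(74, (-1))]), (70, [(75, (-1))]), (71, [(76, (-1))]), (72, [(77, (-1))]), (79, [(83, 1)]), (80, [(84, 1)]), (81, [(85, 1)]), (82, [(86, 1)]), (93, [(94, 1)]), (103, [(109, 1)]), (104, [(110, 1)]), (105, [(111, 1)]), (106, [(112, 1)]), (107, [(113, 1)]), (108, [(114, 1)]), (123, [(124, 1)])]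
def M74 : Tr (List (ℕ × ℤ × ℕ × ℕ)) := (.node [] (.node [(3, 1, 1, 1)] (.node [] (.node [] (.node [(24, 1, 1, 1)] .nil .nil) .nil) (.node [] (.node [] (.node [] (.node [(76, (-1), 1, 1)] .nil .nil) .nil) .nil) (.node [] (.node [] .nil (.node [(116, 1, 1, 1)] .nil .nil)) .nil))) (.node [] (.node [(18, (-1), 1, 1)] (.node [] .nil (.node [(58, 1, 1, 1)] (.node [(88, 1, 1, 1)] .nil .nil) .nil)) .nil) (.node [] (.node [] (.node [(44, (-1), 1, 1)] .nil (.node [(110, (-1), 1, 1)] .nil .nil)) .nil) (.node [] .nil (.node [] (.node [(95, 1, 1, 1)] .nil .nil) .nil))))) (.node [] (.node [] (.node [(17, (-1), 1, 1)] (.node [(25, 1, 1, 1)] .nil (.node [(57, 1, 1, 1)] (.node [(87, 1, 1, 1)] .nil .nil) .nil)) (.node [] .nil (.node [(73, (-1), 1, 1)] .nil .nil))) (.node [] (.node [] (.node [(43, (-1), 1, 1)] (.node [(77, (-1), 1, 1)] .nil .nil) (.node [(109, (-1), 1, 1)] .nil .nil)) (.node [(69, 1, 1, 1)] .nil .nil)) (.node [] (.node []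 .nil (.node [(117, 1, 1, 1)] .nil .nil)) .nil))) (.node [] (.node [(19, (-1), 1, 1)] (.node [] (.node [] (.node [(75, (-1), 1, 1)] .nil .nil) .nil) (.node [(59, 1, 1, 1)] (.node [(89, 1, 1, 1)] .nil .nil) .nil)) (.node [] (.node [(47, 1, 1, 1)] .nil (.node [(115, 1, 1, 1)] .nil .nil)) (.node [] .nil (.node [(124, (-1), 1, 1)] .nil .nil)))) (.node [(23, 1, 1, 1)] (.node [] (.node [(45, (-1), 1, 1)] .nil (.node [(111, (-1), 1, 1)] .nil .nil)) .nil) (.node [(32, (-1), 1, 1)] (.node [] (.node [(83, (-1), 1, 1)] .nil .nil) .nil) .nil)))))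
def C74 : List (ℕ × List (ℕ × ℤ)) := [(1, [(3, 1)]), (8, [(17, (-1))]), (9, [(18, (-1))]), (10, [(19, (-1))]), (14, [(23, 1)]), (15, [(24, 1)]), (16, [(25, 1)]), (30, [(32, (-1))]), (36, [(43, (-1))]), (37, [(44, (-1))]), (38, [(45, (-1))]), (42, [(47, 1)]), (48, [(57, 1)]), (49, [(58, 1)]), (50, [(59, 1)]), (52, [(69, 1)]), (56, [(73, (-1))]), (66, [(75, (-1))]), (67, [(76, (-1))]), (68, [(77, (-1))]), (78, [(83, (-1))]), (80, [(87, 1)]), (81, [(88, 1)]), (82, [(89, 1)]), (93, [(95, 1)]), (100, [(109, (-1))]), (101, [(110, (-1))]), (102, [(111, (-1))]), (106, [(115, 1)]), (107, [(116, 1)]), (108, [(117, 1)]), (122, [(124, (-1))])]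
def M75 : Tr (List (ℕ × ℤ × ℕ × ℕ)) := (.node [] (.node [(4, (-1), 1, 1)] (.node [] (.node [(17, (-1), 1, 1)] (.node [] .nil (.node [] (.node [(87, (-1), 1, 1)] .nil .nil) .nil)) (.node [] .nil (.node [(73, (-1), 1, 1)] .nil .nil))) (.node [] (.node [] (.node [(44, (-1), 1, 1)] .nil (.node [(109, 1, 1, 1)] .nil .nil)) (.node [(66, 1, 1, 1)] .nil .nil)) (.node [] .nil (.node [(74, (-1), 1, 1)] .nil .nil)))) (.node [] (.node [(20, 1, 1, 1)] (.node [] (.node [] (.node [(77, (-1), 1, 1)] .nil .nil) .nil) (.node [(61, 1, 1, 1)] (.node [(90, 1, 1, 1)] .nil .nil) .nil)) (.node [] (.node [(47, 1, 1, 1)] .nil (.node [(116, (-1), 1, 1)] .nil .nil)) (.node [] .nil (.node [(124, 1, 1, 1)] .nil .nil)))) (.node [(24, 1, 1, 1)] (.node [] (.node [] .nil (.node [(112, (-1), 1, 1)] .nil .nil)) .nil) (.node [(32, (-1), 1, 1)] .nil (.node [] (.node [(96, 1, 1, 1)] .nil .nil) .nil))))) (.node [] (.node [] (.node [] (.node [(26, (-1), 1, 1)]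 (.node [] (.node [(76, (-1), 1, 1)] .nil .nil) .nil) (.node [(60, 1, 1, 1)] .nil .nil)) (.node [] (.node [] .nil (.node [(115, (-1), 1, 1)] .nil .nil)) .nil)) (.node [(23, 1, 1, 1)] (.node [] .nil (.node [(70, 1, 1, 1)] .nil .nil)) (.node [] (.node [] .nil (.node [(118, 1, 1, 1)] .nil .nil)) .nil))) (.node [] (.node [(21, 1, 1, 1)] (.node [] (.node [(43, (-1), 1, 1)] .nil .nil) (.node [] (.node [(91, 1, 1, 1)] .nil .nil) .nil)) .nil) (.node [] (.node [] (.node [(46, 1, 1, 1)] .nil (.node [(113, (-1), 1, 1)] .nil .nil)) .nil) (.node [] (.node [] (.node [(84, (-1), 1, 1)] .nil .nil) .nil) .nil)))))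
def C75 : List (ℕ × List (ℕ × ℤ)) := [(1, [(4, (-1))]), (7, [(17, (-1))]), (9, [(20, 1)]), (10, [(21, 1)]), (12, [(23, 1)]), (13, [(24, 1)]), (16, [(26, (-1))]), (29, [(32, (-1))]), (34, [(43, (-1))]), (35, [(44, (-1))]), (38, [(46, 1)]), (41, [(47, 1)]), (48, [(60, 1)]), (49, [(61, 1)]), (51, [(66, 1)]), (52, [(70, 1)]), (55, [(73, (-1))]), (59, [(74, (-1))]), (64, [(76, (-1))]), (65, [(77, (-1))]), (78, [(84, (-1))]), (79, [(87, (-1))]), (81, [(90, 1)]), (82, [(91, 1)]), (93, [(96, 1)]), (99, [(109, 1)]), (101, [(112, (-1))]), (102, [(113, (-1))]), (104, [(115, (-1))]), (105, [(116, (-1))]), (108, [(118, 1)]), (121, [(124, 1)])]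
def M76 : Tr (List (ℕ × ℤ × ℕ × ℕ)) := (.node [] (.node [(5, 1, 1, 1)] (.node [] (.node [(18, 1, 1, 1)] (.node [(26, (-1), 1, 1)] (.node [] (.node [(77, (-1), 1, 1)] .nil .nil) .nil) (.node [] (.node [(88, (-1), 1, 1)] .nil .nil) .nil)) (.node [] (.node [] .nil (.node [(115, 1, 1, 1)] .nil .nil)) .nil)) (.node [(23, 1, 1, 1)] (.node [] (.node [(45, 1, 1, 1)] .nil (.node [(110, 1, 1, 1)] .nil .nil)) (.node [(67, 1, 1, 1)] .nil .nil)) (.node [] (.node [] .nil (.node [(118, (-1), 1, 1)] .nil .nil)) .nil))) (.node [] (.node [] (.node [] (.node [(43, (-1), 1, 1)] .nil .nil) .nil) (.node [] (.node [] .nil (.node [(117, (-1), 1, 1)] .nil .nil)) .nil)) (.node [(25, (-1), 1, 1)] (.node [] (.node [(46, 1, 1, 1)] .nil .nil) .nil) (.node [] .nil (.node [(75, (-1), 1, 1)] (.node [(97, 1, 1, 1)] .nil .nil) .nil))))) (.node [] (.node [] (.node [(20, 1, 1, 1)] (.node [] .nil (.node [(62, 1, 1, 1)] (.node [(90, (-1), 1, 1)] .nil .nil) .nil))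 (.node [] (.node [(47, 1, 1, 1)] .nil .nil) (.node [] .nil (.node [(124, (-1), 1, 1)] .nil .nil)))) (.node [] (.node [] (.node [] .nil (.node [(112, 1, 1, 1)] .nil .nil)) (.node [(71, 1, 1, 1)] .nil .nil)) (.node [(32, (-1), 1, 1)] .nil .nil))) (.node [] (.node [(22, (-1), 1, 1)] (.node [] .nil (.node [(64, 1, 1, 1)] (.node [(92, 1, 1, 1)] .nil .nil) .nil)) (.node [] .nil (.node [(74, (-1), 1, 1)] .nil .nil))) (.node [] (.node [] (.node [] .nil (.node [(114, (-1), 1, 1)] .nil .nil)) (.node [(73, (-1), 1, 1)] .nil .nil)) (.node [] (.node [] (.node [(85, (-1), 1, 1)] .nil .nil) .nil) .nil)))))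
def C76 : List (ℕ × List (ℕ × ℤ)) := [(1, [(5, 1)]), (7, [(18, 1)]), (8, [(20, 1)]), (10, [(22, (-1))]), (11, [(23, 1)]), (13, [(25, (-1))]), (15, [(26, (-1))]), (28, [(32, (-1))]), (33, [(43, (-1))]), (35, [(45, 1)]), (37, [(46, 1)]), (40, [(47, 1)]), (48, [(62, 1)]), (50, [(64, 1)]), (51, [(67, 1)]), (52, [(71, 1)]), (54, [(73, (-1))]), (58, [(74, (-1))]), (61, [(75, (-1))]), (63, [(77, (-1))]), (78, [(85, (-1))]), (79, [(88, (-1))]), (80, [(90, (-1))]), (82, [(92, 1)]), (93, [(97, 1)]), (99, [(110, 1)]), (100, [(112, 1)]), (102, [(114, (-1))]), (103, [(115, 1)]), (105, [(117, (-1))]), (107, [(118, (-1))]), (120, [(124, (-1))])]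
def M77 : Tr (List (ℕ × ℤ × ℕ × ℕ)) := (.node [] (.node [(6, (-1), 1, 1)] (.node [] (.node [(19, (-1), 1, 1)] (.node [] .nil (.node [] (.node [(89, (-1), 1, 1)] .nil .nil) .nil)) (.node [] (.node [(47, 1, 1, 1)] .nil (.node [(116, 1, 1, 1)] .nil .nil)) (.node [] .nil (.node [(124, 1, 1, 1)] .nil .nil)))) (.node [(24, (-1), 1, 1)] (.node [] (.node [] .nil (.node [(111, 1, 1, 1)] .nil .nil)) (.node [(68, 1, 1, 1)] .nil .nil)) (.node [(32, (-1), 1, 1)] .nil .nil))) (.node [] (.node [(22, (-1), 1, 1)] (.node [] (.node [(44, 1, 1, 1)] .nil .nil) (.node [(63, 1, 1, 1)] (.node [(92, (-1), 1, 1)] .nil .nil) .nil)) (.node [] .nil (.node [(74, (-1), 1, 1)] .nil .nil))) (.node [] (.node [] (.node [] .nil (.node [(114, 1, 1, 1)] .nil .nil)) (.node [(73, (-1), 1, 1)] .nil .nil)) (.node [] .nil (.node [] (.node [(98, 1, 1, 1)] .nil .nil) .nil))))) (.node [] (.node [] (.node [(21, (-1), 1, 1)] (.node [] .nil (.node [] (.node [(91, (-1),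 1, 1)] .nil .nil) .nil)) (.node [] (.node [] .nil (.node [(117, 1, 1, 1)] .nil .nil)) .nil)) (.node [(25, (-1), 1, 1)] (.node [] (.node [(46, 1, 1, 1)] .nil (.node [(113, 1, 1, 1)] .nil .nil)) (.node [(72, 1, 1, 1)] .nil .nil)) (.node [] .nil (.node [(75, (-1), 1, 1)] .nil .nil)))) (.node [] (.node [] (.node [] (.node [(45, 1, 1, 1)] .nil .nil) (.node [(65, 1, 1, 1)] .nil .nil)) (.node [] (.node [] .nil (.node [(118, 1, 1, 1)] .nil .nil)) .nil)) (.node [(26, (-1), 1, 1)] .nil (.node [] (.node [] (.node [(86, (-1), 1, 1)] .nil .nil) .nil) (.node [(76, (-1), 1, 1)] .nil .nil))))))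
def C77 : List (ℕ × List (ℕ × ℤ)) := [(1, [(6, (-1))]), (7, [(19, (-1))]), (8, [(21, (-1))]), (9, [(22, (-1))]), (11, [(24, (-1))]), (12, [(25, (-1))]), (14, [(26, (-1))]), (27, [(32, (-1))]), (33, [(44, 1)]), (34, [(45, 1)]), (36, [(46, 1)]), (39, [(47, 1)]), (49, [(63, 1)]), (50, [(65, 1)]), (51, [(68, 1)]), (52, [(72, 1)]), (53, [(73, (-1))]), (57, [(74, (-1))]), (60, [(75, (-1))]), (62, [(76, (-1))]), (78, [(86, (-1))]), (79, [(89, (-1))]), (80, [(91, (-1))]), (81, [(92, (-1))]), (93, [(98, 1)]), (99, [(111, 1)]), (100, [(113, 1)]), (101, [(114, 1)]), (103, [(116, 1)]), (104, [(117, 1)]), (106, [(118, 1)]), (119, [(124, 1)])]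
def M78 : Tr (List (ℕ × ℤ × ℕ × ℕ)) := (.node [] (.node [] (.node [(7, (-1), 1, 1)] (.node [] (.node [] (.node [] .nil (.node [(99, 1, 1, 1)] .nil .nil)) .nil) (.node [(27, (-1), 1, 1)] (.node [(48, (-1), 1, 1)] (.node [(81, (-1), 1, 1)] .nil .nil) .nil) .nil)) (.node [] (.node [] .nil (.node [] .nil (.node [(119, 1, 1, 1)] .nil .nil))) (.node [] (.node [(53, 1, 1, 1)] (.node [(84, 1, 1, 1)] .nil .nil) .nil) .nil))) (.node [(9, (-1), 1, 1)] (.node [] (.node [] (.node [] .nil (.node [(101, 1, 1, 1)] .nil .nil)) .nil) (.node [(29, (-1), 1, 1)] (.node [(50, (-1), 1, 1)] .nil .nil) .nil)) (.node [] (.node [] (.node [] (.node [(79, (-1), 1, 1)] .nil .nil) .nil) (.node [] .nil (.node [(121, 1, 1, 1)] .nil .nil))) (.node [] (.node [(55, 1, 1, 1)] (.node [(86, 1, 1, 1)] .nil .nil) .nil) .nil)))) (.node [] (.node [(8, (-1), 1, 1)] (.node [] (.node [] (.node [] .nil (.node [(100, 1, 1, 1)] .nil .nil)) .nil) (.node [(28, (-1), 1,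 1)] (.node [(49, (-1), 1, 1)] (.node [(82, (-1), 1, 1)] .nil .nil) .nil) .nil)) (.node [] (.node [] .nil (.node [] .nil (.node [(120, 1, 1, 1)] .nil .nil))) (.node [] (.node [(54, 1, 1, 1)] (.node [(85, 1, 1, 1)] .nil .nil) .nil) .nil))) (.node [(10, (-1), 1, 1)] (.node [] (.node [] (.node [] .nil (.node [(102, 1, 1, 1)] .nil .nil)) .nil) (.node [(30, (-1), 1, 1)] (.node [(51, (-1), 1, 1)] (.node [(83, 1, 1, 1)] .nil .nil) .nil) .nil)) (.node [] (.node [] (.node [] (.node [(80, (-1), 1, 1)] .nil .nil) .nil) (.node [] .nil (.node [(122, 1, 1, 1)] .nil .nil))) (.node [] (.node [(56, 1, 1, 1)] .nil .nil) .nil)))))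
def C78 : List (ℕ × List (ℕ × ℤ)) := [(3, [(7, (-1))]), (4, [(8, (-1))]), (5, [(9, (-1))]), (6, [(10, (-1))]), (23, [(27, (-1))]), (24, [(28, (-1))]), (25, [(29, (-1))]), (26, [(30, (-1))]), (39, [(48, (-1))]), (40, [(49, (-1))]), (41, [(50, (-1))]), (42, [(51, (-1))]), (43, [(53, 1)]), (44, [(54, 1)]), (45, [(55, 1)]), (46, [(56, 1)]), (69, [(79, (-1))]), (70, [(80, (-1))]), (71, [(81, (-1))]), (72, [(82, (-1))]), (74, [(83, 1)]), (75, [(84, 1)]), (76, [(85, 1)]), (77, [(86, 1)]), (95, [(99, 1)]), (96, [(100, 1)]), (97, [(101, 1)]), (98, [(102, 1)]), (115, [(119, 1)]), (116, [(120, 1)]), (117, [(121, 1)]), (118, [(122, 1)])]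
def M79 : Tr (List (ℕ × ℤ × ℕ × ℕ)) := (.node [] (.node [] (.node [] (.node [] (.node [] .nil (.node [(69, 1, 1, 1)] .nil .nil)) .nil) (.node [] (.node [] (.node [] (.node [(81, (-1), 1, 1)] .nil .nil) .nil) .nil) (.node [] (.node [(57, 1, 1, 1)] (.node [(87, 1, 1, 1)] .nil .nil) .nil) .nil))) (.node [(12, 1, 1, 1)] (.node [] (.node [] (.node [] .nil (.node [(104, 1, 1, 1)] .nil .nil)) (.node [] .nil (.node [(120, (-1), 1, 1)] .nil .nil))) (.node [] (.node [] (.node [(83, (-1), 1, 1)] .nil .nil) .nil) .nil)) (.node [] (.node [(28, (-1), 1, 1)] (.node [(49, (-1), 1, 1)] .nil .nil) .nil) (.node [] (.node [(59, 1, 1, 1)] (.node [(89, 1, 1, 1)] .nil .nil) .nil) .nil)))) (.node [(7, (-1), 1, 1)] (.node [(11, 1, 1, 1)] (.node [] (.node [] (.node [] .nil (.node [(103, 1, 1, 1)] .nil .nil)) (.node [] .nil (.node [(119, (-1), 1, 1)] .nil .nil))) (.node [] .nil (.node [(78, (-1), 1, 1)] .nil .nil))) (.node [] (.node [(27, (-1), 1,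 1)] (.node [(48, (-1), 1, 1)] (.node [(82, (-1), 1, 1)] .nil .nil) .nil) .nil) (.node [] (.node [(58, 1, 1, 1)] (.node [(88, 1, 1, 1)] .nil .nil) .nil) .nil))) (.node [(13, 1, 1, 1)] (.node [] (.node [] (.node [] (.node [(80, (-1), 1, 1)] .nil .nil) (.node [(105, 1, 1, 1)] .nil .nil)) (.node [] .nil (.node [(121, (-1), 1, 1)] .nil .nil))) (.node [(31, 1, 1, 1)] (.node [(52, 1, 1, 1)] .nil .nil) .nil)) (.node [] (.node [(29, (-1), 1, 1)] (.node [(50, (-1), 1, 1)] .nil .nil) (.node [] .nil (.node [(123, 1, 1, 1)] .nil .nil))) (.node [] .nil (.node [] (.node [(99, (-1), 1, 1)] .nil .nil) .nil))))))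
def C79 : List (ℕ × List (ℕ × ℤ)) := [(2, [(7, (-1))]), (4, [(11, 1)]), (5, [(12, 1)]), (6, [(13, 1)]), (20, [(27, (-1))]), (21, [(28, (-1))]), (22, [(29, (-1))]), (26, [(31, 1)]), (36, [(48, (-1))]), (37, [(49, (-1))]), (38, [(50, (-1))]), (42, [(52, 1)]), (43, [(57, 1)]), (44, [(58, 1)]), (45, [(59, 1)]), (47, [(69, 1)]), (56, [(78, (-1))]), (66, [(80, (-1))]), (67, [(81, (-1))]), (68, [(82, (-1))]), (73, [(83, (-1))]), (75, [(87, 1)]), (76, [(88, 1)]), (77, [(89, 1)]), (94, [(99, (-1))]), (96, [(103, 1)]), (97, [(104, 1)]), (98, [(105, 1)]), (112, [(119, (-1))]), (113, [(120, (-1))]), (114, [(121, (-1))]), (118, [(123, 1)])]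
def M80 : Tr (List (ℕ × ℤ × ℕ × ℕ)) := (.node [] (.node [] (.node [(11, 1, 1, 1)] (.node [] (.node [] (.node [] .nil (.node [(103, (-1), 1, 1)] .nil .nil)) (.node [(70, 1, 1, 1)] .nil (.node [(120, 1, 1, 1)] .nil .nil))) (.node [] .nil (.node [(78, (-1), 1, 1)] .nil .nil))) (.node [] (.node [(28, (-1), 1, 1)] (.node [(49, (-1), 1, 1)] .nil .nil) .nil) (.node [] (.node [(60, 1, 1, 1)] .nil .nil) (.node [(79, (-1), 1, 1)] .nil .nil)))) (.node [(14, (-1), 1, 1)] (.node [] (.node [] (.node [] (.node [(82, (-1), 1, 1)] .nil .nil) (.node [(106, 1, 1, 1)] .nil .nil)) .nil) (.node [(31, 1, 1, 1)] (.node [(52, 1, 1, 1)] (.node [(84, (-1), 1, 1)] .nil .nil) .nil) .nil)) (.node [] (.node [] .nil (.node [] .nil (.node [(123, (-1), 1, 1)] .nil .nil))) (.node [] (.node [] (.node [(91, 1, 1, 1)] .nil .nil) .nil) .nil)))) (.node [(8, 1, 1, 1)] (.node [] (.node [] (.node [] (.node [] (.node [(81, (-1), 1, 1)] .nil .nil) .nil) .nil) .nil)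 (.node [] .nil (.node [] (.node [(61, 1, 1, 1)] (.node [(90, 1, 1, 1)] .nil .nil) .nil) .nil))) (.node [(15, (-1), 1, 1)] (.node [] (.node [(27, (-1), 1, 1)] (.node [(48, (-1), 1, 1)] .nil (.node [(107, 1, 1, 1)] .nil .nil)) (.node [] .nil (.node [(122, (-1), 1, 1)] .nil .nil))) (.node [] (.node [] (.node [(87, (-1), 1, 1)] .nil .nil) .nil) .nil)) (.node [] (.node [(30, 1, 1, 1)] (.node [(51, 1, 1, 1)] .nil .nil) .nil) (.node [] (.node [(66, 1, 1, 1)] .nil (.node [(119, 1, 1, 1)] .nil .nil)) (.node [] (.node [(100, (-1), 1, 1)] .nil .nil) .nil))))))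
def C80 : List (ℕ × List (ℕ × ℤ)) := [(2, [(8, 1)]), (3, [(11, 1)]), (5, [(14, (-1))]), (6, [(15, (-1))]), (18, [(27, (-1))]), (19, [(28, (-1))]), (22, [(30, 1)]), (25, [(31, 1)]), (34, [(48, (-1))]), (35, [(49, (-1))]), (38, [(51, 1)]), (41, [(52, 1)]), (43, [(60, 1)]), (44, [(61, 1)]), (46, [(66, 1)]), (47, [(70, 1)]), (55, [(78, (-1))]), (59, [(79, (-1))]), (64, [(81, (-1))]), (65, [(82, (-1))]), (73, [(84, (-1))]), (74, [(87, (-1))]), (76, [(90, 1)]), (77, [(91, 1)]), (94, [(100, (-1))]), (95, [(103, (-1))]), (97, [(106, 1)]), (98, [(107, 1)]), (110, [(119, 1)]), (111, [(120, 1)]), (114, [(122, (-1))]), (117, [(123, (-1))])]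
def M81 : Tr (List (ℕ × ℤ × ℕ × ℕ)) := (.node [] (.node [] (.node [(12, (-1), 1, 1)] (.node [] (.node [] (.node [] (.node [(82, (-1), 1, 1)] .nil .nil) (.node [(104, (-1), 1, 1)] .nil .nil)) (.node [(71, 1, 1, 1)] .nil (.node [(121, 1, 1, 1)] .nil .nil))) .nil) (.node [] (.node [(29, 1, 1, 1)] (.node [(50, 1, 1, 1)] .nil .nil) .nil) (.node [] (.node [(62, 1, 1, 1)] (.node [(90, (-1), 1, 1)] .nil .nil) .nil) .nil))) (.node [] (.node [] (.node [(27, (-1), 1, 1)] (.node [(48, (-1), 1, 1)] .nil .nil) (.node [] .nil (.node [(122, 1, 1, 1)] .nil .nil))) (.node [] (.node [] (.node [(85, (-1), 1, 1)] .nil .nil) .nil) .nil)) (.node [] (.node [(30, 1, 1, 1)] (.node [(51, 1, 1, 1)] .nil .nil) .nil) (.node [] (.node [(64, 1, 1, 1)] (.node [(92, 1, 1, 1)] .nil .nil) (.node [(119, (-1), 1, 1)] .nil .nil)) (.node [(80, (-1), 1, 1)] .nil .nil))))) (.node [(9, (-1), 1, 1)] (.node [(14, (-1), 1, 1)] (.node [] (.node [] (.node [] .nil (.node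 [(106, (-1), 1, 1)] .nil .nil)) .nil) (.node [(31, 1, 1, 1)] (.node [(52, 1, 1, 1)] .nil .nil) .nil)) (.node [] (.node [] .nil (.node [] .nil (.node [(123, 1, 1, 1)] .nil .nil))) .nil)) (.node [(16, 1, 1, 1)] (.node [] (.node [] (.node [] .nil (.node [(108, 1, 1, 1)] .nil .nil)) .nil) (.node [] (.node [] (.node [(88, (-1), 1, 1)] .nil .nil) .nil) (.node [(79, (-1), 1, 1)] .nil .nil))) (.node [] (.node [] .nil (.node [(78, (-1), 1, 1)] .nil .nil)) (.node [] (.node [(67, 1, 1, 1)] .nil .nil) (.node [] (.node [(101, (-1), 1, 1)] .nil .nil) .nil))))))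
def C81 : List (ℕ × List (ℕ × ℤ)) := [(2, [(9, (-1))]), (3, [(12, (-1))]), (4, [(14, (-1))]), (6, [(16, 1)]), (17, [(27, (-1))]), (19, [(29, 1)]), (21, [(30, 1)]), (24, [(31, 1)]), (33, [(48, (-1))]), (35, [(50, 1)]), (37, [(51, 1)]), (40, [(52, 1)]), (43, [(62, 1)]), (45, [(64, 1)]), (46, [(67, 1)]), (47, [(71, 1)]), (54, [(78, (-1))]), (58, [(79, (-1))]), (61, [(80, (-1))]), (63, [(82, (-1))]), (73, [(85, (-1))]), (74, [(88, (-1))]), (75, [(90, (-1))]), (77, [(92, 1)]), (94, [(101, (-1))]), (95, [(104, (-1))]), (96, [(106, (-1))]), (98, [(108, 1)]), (109, [(119, (-1))]), (111, [(121, 1)]), (113, [(122, 1)]), (116, [(123, 1)])]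
def M82 : Tr (List (ℕ × ℤ × ℕ × ℕ)) := (.node [] (.node [] (.node [(13, 1, 1, 1)] (.node [] (.node [] (.node [] .nil (.node [(105, (-1), 1, 1)] .nil .nil)) (.node [(72, 1, 1, 1)] .nil .nil)) (.node [(31, 1, 1, 1)] (.node [(52, 1, 1, 1)] .nil .nil) .nil)) (.node [] (.node [] .nil (.node [] .nil (.node [(123, (-1), 1, 1)] .nil .nil))) (.node [] (.node [] (.node [(91, (-1), 1, 1)] .nil .nil) .nil) .nil))) (.node [(16, 1, 1, 1)] (.node [] (.node [(28, 1, 1, 1)] (.node [(49, 1, 1, 1)] .nil (.node [(108, (-1), 1, 1)] .nil .nil)) .nil) (.node [] (.node [] (.node [(86, (-1), 1, 1)] .nil .nil) .nil) (.node [(79, (-1), 1, 1)] .nil .nil))) (.node [] (.node [] .nil (.node [(78, (-1), 1, 1)] .nil .nil)) (.node [] (.node [(65, 1, 1, 1)] .nil (.node [(120, (-1), 1, 1)] .nil .nil)) .nil)))) (.node [(10, 1, 1, 1)] (.node [(15, 1, 1, 1)] (.node [] (.node [] (.node [] .nil (.node [(107, (-1), 1, 1)] .nil .nil)) (.node [] .nil (.node [(122,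 (-1), 1, 1)] .nil .nil))) .nil) (.node [] (.node [(30, 1, 1, 1)] (.node [(51, 1, 1, 1)] .nil .nil) .nil) (.node [] (.node [(63, 1, 1, 1)] (.node [(92, (-1), 1, 1)] .nil .nil) .nil) (.node [(80, (-1), 1, 1)] .nil .nil)))) (.node [] (.node [] (.node [(29, 1, 1, 1)] (.node [(50, 1, 1, 1)] .nil .nil) .nil) (.node [] (.node [] (.node [(89, (-1), 1, 1)] .nil .nil) .nil) .nil)) (.node [] .nil (.node [] (.node [(68, 1, 1, 1)] .nil (.node [(121, (-1), 1, 1)] .nil .nil)) (.node [(81, (-1), 1, 1)] (.node [(102, (-1), 1, 1)] .nil .nil) .nil))))))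
def C82 : List (ℕ × List (ℕ × ℤ)) := [(2, [(10, 1)]), (3, [(13, 1)]), (4, [(15, 1)]), (5, [(16, 1)]), (17, [(28, 1)]), (18, [(29, 1)]), (20, [(30, 1)]), (23, [(31, 1)]), (33, [(49, 1)]), (34, [(50, 1)]), (36, [(51, 1)]), (39, [(52, 1)]), (44, [(63, 1)]), (45, [(65, 1)]), (46, [(68, 1)]), (47, [(72, 1)]), (53, [(78, (-1))]), (57, [(79, (-1))]), (60, [(80, (-1))]), (62, [(81, (-1))]), (73, [(86, (-1))]), (74, [(89, (-1))]), (75, [(91, (-1))]), (76, [(92, (-1))]), (94, [(102, (-1))]), (95, [(105, (-1))]), (96, [(107, (-1))]), (97, [(108, (-1))]), (109, [(120, (-1))]), (110, [(121, (-1))]), (112, [(122, (-1))]), (115, [(123, (-1))])]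
def M83 : Tr (List (ℕ × ℤ × ℕ × ℕ)) := (.node [] (.node [(7, (-1), 1, 1)] (.node [] (.node [] (.node [(28, (-1), 1, 1)] .nil (.node [(74, (-1), 1, 1)] .nil .nil)) (.node [] (.node [(57, 1, 1, 1)] (.node [(88, 1, 1, 1)] .nil .nil) .nil) .nil)) (.node [] (.node [] (.node [] (.node [(85, (-1), 1, 1)] .nil .nil) .nil) (.node [(78, 1, 1, 1)] .nil .nil)) (.node [] (.node [] .nil (.node [(120, 1, 1, 1)] .nil .nil)) .nil))) (.node [(18, (-1), 1, 1)] (.node [] (.node [] (.node [] .nil (.node [(110, 1, 1, 1)] .nil .nil)) .nil) (.node [] (.node [(59, 1, 1, 1)] .nil .nil) .nil)) (.node [] (.node [] (.node [(54, (-1), 1, 1)] .nil .nil) .nil) (.node [] .nil (.node [] (.node [(99, 1, 1, 1)] .nil .nil) .nil))))) (.node [] (.node [(17, (-1), 1, 1)] (.node [] (.node [(29, (-1), 1, 1)] (.node [] .nil (.node [(109, 1, 1, 1)] .nil .nil)) .nil) (.node [] (.node [(58, 1, 1, 1)] (.node [(89, 1, 1, 1)] .nil .nil) .nil) .nil)) (.node [] (.node []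 (.node [(53, (-1), 1, 1)] (.node [(86, (-1), 1, 1)] .nil .nil) .nil) (.node [(79, (-1), 1, 1)] .nil .nil)) (.node [] (.node [] .nil (.node [(121, 1, 1, 1)] .nil .nil)) .nil))) (.node [(19, (-1), 1, 1)] (.node [] (.node [] (.node [] (.node [(84, (-1), 1, 1)] .nil .nil) (.node [(111, 1, 1, 1)] .nil .nil)) .nil) (.node [(32, (-1), 1, 1)] (.node [] .nil (.node [(119, 1, 1, 1)] .nil .nil)) .nil)) (.node [(27, (-1), 1, 1)] (.node [] (.node [(55, (-1), 1, 1)] (.node [(87, 1, 1, 1)] .nil .nil) .nil) (.node [] .nil (.node [(124, 1, 1, 1)] .nil .nil))) (.node [] (.node [(73, 1, 1, 1)] .nil .nil) .nil)))))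
def C83 : List (ℕ × List (ℕ × ℤ)) := [(1, [(7, (-1))]), (4, [(17, (-1))]), (5, [(18, (-1))]), (6, [(19, (-1))]), (14, [(27, (-1))]), (15, [(28, (-1))]), (16, [(29, (-1))]), (26, [(32, (-1))]), (36, [(53, (-1))]), (37, [(54, (-1))]), (38, [(55, (-1))]), (39, [(57, 1)]), (40, [(58, 1)]), (41, [(59, 1)]), (46, [(73, 1)]), (47, [(74, (-1))]), (51, [(78, 1)]), (52, [(79, (-1))]), (66, [(84, (-1))]), (67, [(85, (-1))]), (68, [(86, (-1))]), (70, [(87, 1)]), (71, [(88, 1)]), (72, [(89, 1)]), (93, [(99, 1)]), (96, [(109, 1)]), (97, [(110, 1)]), (98, [(111, 1)]), (106, [(119, 1)]), (107, [(120, 1)]), (108, [(121, 1)]), (118, [(124, 1)])]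
def M84 : Tr (List (ℕ × ℤ × ℕ × ℕ)) := (.node [] (.node [(8, 1, 1, 1)] (.node [(17, (-1), 1, 1)] (.node [] (.node [] (.node [] .nil (.node [(109, (-1), 1, 1)] .nil .nil)) (.node [(75, (-1), 1, 1)] .nil .nil)) (.node [] (.node [(60, 1, 1, 1)] (.node [(90, 1, 1, 1)] .nil .nil) .nil) .nil)) (.node [] (.node [] (.node [(54, (-1), 1, 1)] .nil .nil) .nil) (.node [] .nil (.node [(83, (-1), 1, 1)] .nil .nil)))) (.node [(20, 1, 1, 1)] (.node [] (.node [] (.node [] (.node [(86, (-1), 1, 1)] .nil .nil) (.node [(112, 1, 1, 1)] .nil .nil)) .nil) (.node [(32, (-1), 1, 1)] (.node [] .nil (.node [(120, (-1), 1, 1)] .nil .nil)) .nil)) (.node [(28, (-1), 1, 1)] (.node [] (.node [] (.node [(87, (-1), 1, 1)] .nil .nil) .nil) (.node [] .nil (.node [(124, (-1), 1, 1)] .nil .nil))) (.node [] (.node [(73, 1, 1, 1)] .nil .nil) (.node [] (.node [(100, 1, 1, 1)] .nil .nil) .nil))))) (.node [] (.node [] (.node [] (.node [(30, 1, 1, 1)] (.node [] (.node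 [(85, (-1), 1, 1)] .nil .nil) .nil) .nil) (.node [] (.node [(61, 1, 1, 1)] (.node [(91, 1, 1, 1)] .nil .nil) (.node [(119, (-1), 1, 1)] .nil .nil)) .nil)) (.node [(27, (-1), 1, 1)] (.node [] .nil (.node [(80, (-1), 1, 1)] .nil .nil)) (.node [] (.node [] .nil (.node [(122, 1, 1, 1)] .nil .nil)) .nil))) (.node [(21, 1, 1, 1)] (.node [] (.node [] (.node [(53, (-1), 1, 1)] .nil (.node [(113, 1, 1, 1)] .nil .nil)) (.node [(78, 1, 1, 1)] .nil .nil)) (.node [] (.node [(66, 1, 1, 1)] .nil .nil) .nil)) (.node [] (.node [] (.node [(56, 1, 1, 1)] .nil .nil) .nil) .nil))))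
def C84 : List (ℕ × List (ℕ × ℤ)) := [(1, [(8, 1)]), (3, [(17, (-1))]), (5, [(20, 1)]), (6, [(21, 1)]), (12, [(27, (-1))]), (13, [(28, (-1))]), (16, [(30, 1)]), (25, [(32, (-1))]), (34, [(53, (-1))]), (35, [(54, (-1))]), (38, [(56, 1)]), (39, [(60, 1)]), (40, [(61, 1)]), (42, [(66, 1)]), (45, [(73, 1)]), (47, [(75, (-1))]), (50, [(78, 1)]), (52, [(80, (-1))]), (59, [(83, (-1))]), (64, [(85, (-1))]), (65, [(86, (-1))]), (69, [(87, (-1))]), (71, [(90, 1)]), (72, [(91, 1)]), (93, [(100, 1)]), (95, [(109, (-1))]), (97, [(112, 1)]), (98, [(113, 1)]), (104, [(119, (-1))]), (105, [(120, (-1))]), (108, [(122, 1)]), (117, [(124, (-1))])]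
def M85 : Tr (List (ℕ × ℤ × ℕ × ℕ)) := (.node [] (.node [(9, (-1), 1, 1)] (.node [(18, 1, 1, 1)] (.node [] (.node [(30, 1, 1, 1)] (.node [] (.node [(86, (-1), 1, 1)] .nil .nil) (.node [(110, (-1), 1, 1)] .nil .nil)) (.node [(76, (-1), 1, 1)] .nil .nil)) (.node [] (.node [(62, 1, 1, 1)] .nil (.node [(119, 1, 1, 1)] .nil .nil)) .nil)) (.node [(27, (-1), 1, 1)] (.node [] (.node [(55, 1, 1, 1)] .nil .nil) .nil) (.node [] (.node [] .nil (.node [(122, (-1), 1, 1)] .nil .nil)) .nil))) (.node [] (.node [] (.node [] (.node [(53, (-1), 1, 1)] .nil .nil) (.node [(78, 1, 1, 1)] .nil .nil)) (.node [] (.node [(64, 1, 1, 1)] .nil (.node [(121, (-1), 1, 1)] .nil .nil)) .nil)) (.node [(29, 1, 1, 1)] (.node [] (.node [(56, 1, 1, 1)] (.node [(88, (-1), 1, 1)] .nil .nil) .nil) .nil) (.node [] .nil (.node [(84, (-1), 1, 1)] (.node [(101, 1, 1, 1)] .nil .nil) .nil))))) (.node [] (.node [(20, 1, 1, 1)] (.node [] (.node [] (.node [] .nil (.node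 [(112, (-1), 1, 1)] .nil .nil)) .nil) (.node [(32, (-1), 1, 1)] (.node [] (.node [(92, 1, 1, 1)] .nil .nil) .nil) .nil)) (.node [] (.node [] .nil (.node [(81, (-1), 1, 1)] .nil (.node [(124, 1, 1, 1)] .nil .nil))) (.node [] (.node [(73, 1, 1, 1)] .nil .nil) .nil))) (.node [(22, (-1), 1, 1)] (.node [] (.node [] (.node [] .nil (.node [(114, 1, 1, 1)] .nil .nil)) .nil) (.node [] (.node [(67, 1, 1, 1)] .nil .nil) (.node [(83, (-1), 1, 1)] .nil .nil))) (.node [] (.node [] (.node [] (.node [(90, (-1), 1, 1)] .nil .nil) .nil) .nil) .nil))))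
def C85 : List (ℕ × List (ℕ × ℤ)) := [(1, [(9, (-1))]), (3, [(18, 1)]), (4, [(20, 1)]), (6, [(22, (-1))]), (11, [(27, (-1))]), (13, [(29, 1)]), (15, [(30, 1)]), (24, [(32, (-1))]), (33, [(53, (-1))]), (35, [(55, 1)]), (37, [(56, 1)]), (39, [(62, 1)]), (41, [(64, 1)]), (42, [(67, 1)]), (44, [(73, 1)]), (47, [(76, (-1))]), (49, [(78, 1)]), (52, [(81, (-1))]), (58, [(83, (-1))]), (61, [(84, (-1))]), (63, [(86, (-1))]), (69, [(88, (-1))]), (70, [(90, (-1))]), (72, [(92, 1)]), (93, [(101, 1)]), (95, [(110, (-1))]), (96, [(112, (-1))]), (98, [(114, 1)]), (103, [(119, 1)]), (105, [(121, (-1))]), (107, [(122, (-1))]), (116, [(124, 1)])]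
def M86 : Tr (List (ℕ × ℤ × ℕ × ℕ)) := (.node [] (.node [(10, 1, 1, 1)] (.node [(19, (-1), 1, 1)] (.node [] (.node [] (.node [] .nil (.node [(111, (-1), 1, 1)] .nil .nil)) (.node [(77, (-1), 1, 1)] .nil .nil)) (.node [(32, (-1), 1, 1)] (.node [] (.node [(92, (-1), 1, 1)] .nil .nil) (.node [(120, 1, 1, 1)] .nil .nil)) .nil)) (.node [(28, 1, 1, 1)] (.node [] .nil (.node [] .nil (.node [(124, (-1), 1, 1)] .nil .nil))) (.node [] (.node [(73, 1, 1, 1)] .nil .nil) .nil))) (.node [(22, (-1), 1, 1)] (.node [] (.node [] (.node [(54, 1, 1, 1)] .nil (.node [(114, (-1), 1, 1)] .nil .nil)) .nil) (.node [] (.node [(65, 1, 1, 1)] .nil .nil) (.node [(83, (-1), 1, 1)] .nil .nil))) (.node [] (.node [] (.node [] (.node [(89, (-1), 1, 1)] .nil .nil) .nil) .nil) (.node [] .nil (.node [] (.node [(102, 1, 1, 1)] .nil .nil) .nil))))) (.node [] (.node [(21, (-1), 1, 1)] (.node [] (.node [] (.node [] .nil (.node [(113, (-1), 1, 1)] .nil .nil)) (.node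 [(78, 1, 1, 1)] .nil .nil)) (.node [] (.node [(63, 1, 1, 1)] .nil (.node [(121, 1, 1, 1)] .nil .nil)) .nil)) (.node [(29, 1, 1, 1)] (.node [] (.node [(56, 1, 1, 1)] .nil .nil) (.node [(82, (-1), 1, 1)] .nil .nil)) (.node [] .nil (.node [(84, (-1), 1, 1)] .nil .nil)))) (.node [] (.node [] (.node [] (.node [(55, 1, 1, 1)] .nil .nil) .nil) (.node [] (.node [(68, 1, 1, 1)] .nil (.node [(122, 1, 1, 1)] .nil .nil)) .nil)) (.node [(30, 1, 1, 1)] (.node [] (.node [] (.node [(91, (-1), 1, 1)] .nil .nil) .nil) .nil) (.node [] .nil (.node [(85, (-1), 1, 1)] .nil .nil))))))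
def C86 : List (ℕ × List (ℕ × ℤ)) := [(1, [(10, 1)]), (3, [(19, (-1))]), (4, [(21, (-1))]), (5, [(22, (-1))]), (11, [(28, 1)]), (12, [(29, 1)]), (14, [(30, 1)]), (23, [(32, (-1))]), (33, [(54, 1)]), (34, [(55, 1)]), (36, [(56, 1)]), (40, [(63, 1)]), (41, [(65, 1)]), (42, [(68, 1)]), (43, [(73, 1)]), (47, [(77, (-1))]), (48, [(78, 1)]), (52, [(82, (-1))]), (57, [(83, (-1))]), (60, [(84, (-1))]), (62, [(85, (-1))]), (69, [(89, (-1))]), (70, [(91, (-1))]), (71, [(92, (-1))]), (93, [(102, 1)]), (95, [(111, (-1))]), (96, [(113, (-1))]), (97, [(114, (-1))]), (103, [(120, 1)]), (104, [(121, 1)]), (106, [(122, 1)]), (115, [(124, (-1))])]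
def M87 : Tr (List (ℕ × ℤ × ℕ × ℕ)) := (.node [] (.node [(11, (-1), 1, 1)] (.node [] (.node [] .nil (.node [] .nil (.node [(83, 1, 1, 1)] .nil .nil))) (.node [] (.node [] (.node [(58, (-1), 1, 1)] (.node [(90, 1, 1, 1)] .nil .nil) .nil) (.node [(80, (-1), 1, 1)] .nil .nil)) .nil)) (.node [(23, (-1), 1, 1)] (.node [(27, (-1), 1, 1)] (.node [] (.node [] (.node [(89, (-1), 1, 1)] .nil .nil) (.node [(115, 1, 1, 1)] .nil .nil)) .nil) (.node [] (.node [(69, 1, 1, 1)] .nil .nil) .nil)) (.node [] (.node [] (.node [(61, 1, 1, 1)] .nil (.node [(119, 1, 1, 1)] .nil .nil)) .nil) (.node [] (.node [(74, 1, 1, 1)] .nil .nil) (.node [] (.node [(103, 1, 1, 1)] .nil .nil) .nil))))) (.node [(17, (-1), 1, 1)] (.node [] (.node [] (.node [(31, (-1), 1, 1)] (.node [] (.node [(88, (-1), 1, 1)] .nil .nil) .nil) .nil) (.node [] .nil (.node [(84, (-1), 1, 1)] .nil .nil))) (.node [] (.node [] (.node [(60, 1, 1, 1)] (.node [(91, 1, 1, 1)] .nil .nil)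 .nil) .nil) (.node [] (.node [] .nil (.node [(123, 1, 1, 1)] .nil .nil)) .nil))) (.node [(24, (-1), 1, 1)] (.node [(28, (-1), 1, 1)] (.node [] (.node [(57, (-1), 1, 1)] .nil (.node [(116, 1, 1, 1)] .nil .nil)) (.node [(79, 1, 1, 1)] .nil (.node [(124, 1, 1, 1)] .nil .nil))) (.node [] (.node [(70, (-1), 1, 1)] .nil .nil) .nil)) (.node [] (.node [(32, (-1), 1, 1)] (.node [] .nil (.node [(120, 1, 1, 1)] .nil .nil)) .nil) (.node [] (.node [(75, (-1), 1, 1)] .nil .nil) (.node [] (.node [(109, 1, 1, 1)] .nil .nil) .nil))))))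
def C87 : List (ℕ × List (ℕ × ℤ)) := [(1, [(11, (-1))]), (2, [(17, (-1))]), (5, [(23, (-1))]), (6, [(24, (-1))]), (9, [(27, (-1))]), (10, [(28, (-1))]), (16, [(31, (-1))]), (22, [(32, (-1))]), (34, [(57, (-1))]), (35, [(58, (-1))]), (36, [(60, 1)]), (37, [(61, 1)]), (41, [(69, 1)]), (42, [(70, (-1))]), (45, [(74, 1)]), (46, [(75, (-1))]), (50, [(79, 1)]), (51, [(80, (-1))]), (55, [(83, 1)]), (56, [(84, (-1))]), (64, [(88, (-1))]), (65, [(89, (-1))]), (67, [(90, 1)]), (68, [(91, 1)]), (93, [(103, 1)]), (94, [(109, 1)]), (97, [(115, 1)]), (98, [(116, 1)]), (101, [(119, 1)]), (102, [(120, 1)]), (108, [(123, 1)]), (114, [(124, 1)])]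
def M88 : Tr (List (ℕ × ℤ × ℕ × ℕ)) := (.node [] (.node [(12, 1, 1, 1)] (.node [] (.node [] (.node [(31, (-1), 1, 1)] (.node [] (.node [(89, (-1), 1, 1)] .nil .nil) .nil) .nil) .nil) (.node [] (.node [] (.node [(59, 1, 1, 1)] .nil .nil) (.node [(81, (-1), 1, 1)] .nil .nil)) (.node [] (.node [] .nil (.node [(123, (-1), 1, 1)] .nil .nil)) .nil))) (.node [] (.node [] (.node [] (.node [(57, (-1), 1, 1)] .nil .nil) (.node [(79, 1, 1, 1)] .nil (.node [(124, (-1), 1, 1)] .nil .nil))) .nil) (.node [] (.node [(32, (-1), 1, 1)] .nil .nil) (.node [] .nil (.node [(87, (-1), 1, 1)] (.node [(104, 1, 1, 1)] .nil .nil) .nil))))) (.node [(18, 1, 1, 1)] (.node [(23, (-1), 1, 1)] (.node [(27, (-1), 1, 1)] (.node [] (.node [] .nil (.node [(115, (-1), 1, 1)] .nil .nil)) .nil) (.node [] (.node [(69, 1, 1, 1)] .nil .nil) (.node [(85, (-1), 1, 1)] .nil .nil))) (.node [] (.node [] (.node [(62, 1, 1, 1)] (.node [(92, 1, 1, 1)] .nil .nil) (.node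 [(119, (-1), 1, 1)] .nil .nil)) .nil) (.node [] (.node [(74, 1, 1, 1)] .nil .nil) .nil))) (.node [(25, 1, 1, 1)] (.node [(29, 1, 1, 1)] (.node [] (.node [] (.node [(90, (-1), 1, 1)] .nil .nil) (.node [(117, 1, 1, 1)] .nil .nil)) .nil) (.node [] (.node [(71, (-1), 1, 1)] .nil .nil) .nil)) (.node [] (.node [] (.node [(64, 1, 1, 1)] .nil (.node [(121, 1, 1, 1)] .nil .nil)) (.node [(83, 1, 1, 1)] .nil .nil)) (.node [] (.node [(76, (-1), 1, 1)] .nil .nil) (.node [] (.node [(110, 1, 1, 1)] .nil .nil) .nil))))))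
def C88 : List (ℕ × List (ℕ × ℤ)) := [(1, [(12, 1)]), (2, [(18, 1)]), (4, [(23, (-1))]), (6, [(25, 1)]), (8, [(27, (-1))]), (10, [(29, 1)]), (15, [(31, (-1))]), (21, [(32, (-1))]), (33, [(57, (-1))]), (35, [(59, 1)]), (36, [(62, 1)]), (38, [(64, 1)]), (40, [(69, 1)]), (42, [(71, (-1))]), (44, [(74, 1)]), (46, [(76, (-1))]), (49, [(79, 1)]), (51, [(81, (-1))]), (54, [(83, 1)]), (56, [(85, (-1))]), (61, [(87, (-1))]), (63, [(89, (-1))]), (66, [(90, (-1))]), (68, [(92, 1)]), (93, [(104, 1)]), (94, [(110, 1)]), (96, [(115, (-1))]), (98, [(117, 1)]), (100, [(119, (-1))]), (102, [(121, 1)]), (107, [(123, (-1))]), (113, [(124, (-1))])]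
def M89 : Tr (List (ℕ × ℤ × ℕ × ℕ)) := (.node [] (.node [(13, (-1), 1, 1)] (.node [] (.node [] .nil (.node [] (.node [(69, 1, 1, 1)] .nil .nil) .nil)) (.node [] (.node [] (.node [] (.node [(92, (-1), 1, 1)] .nil .nil) .nil) (.node [(82, (-1), 1, 1)] .nil .nil)) (.node [] (.node [(74, 1, 1, 1)] .nil .nil) .nil))) (.node [(25, 1, 1, 1)] (.node [(29, 1, 1, 1)] (.node [] (.node [(58, 1, 1, 1)] .nil (.node [(117, (-1), 1, 1)] .nil .nil)) .nil) .nil) (.node [] (.node [] (.node [(63, 1, 1, 1)] .nil (.node [(121, (-1), 1, 1)] .nil .nil)) (.node [(83, 1, 1, 1)] .nil .nil)) (.node [] .nil (.node [] (.node [(105, 1, 1, 1)] .nil .nil) .nil))))) (.node [(19, (-1), 1, 1)] (.node [(24, 1, 1, 1)] (.node [(28, 1, 1, 1)] (.node [] (.node [] .nil (.node [(116, (-1), 1, 1)] .nil .nil)) (.node [(79, 1, 1, 1)] .nil (.node [(124, 1, 1, 1)] .nil .nil))) (.node [] .nil (.node [(86, (-1), 1, 1)] .nil .nil))) (.node [] (.node [(32, (-1), 1, 1)] (.node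 [] .nil (.node [(120, (-1), 1, 1)] .nil .nil)) .nil) (.node [] .nil (.node [(87, (-1), 1, 1)] .nil .nil)))) (.node [] (.node [] (.node [] (.node [(59, 1, 1, 1)] (.node [(91, (-1), 1, 1)] .nil .nil) .nil) .nil) (.node [] (.node [(72, (-1), 1, 1)] .nil (.node [(123, 1, 1, 1)] .nil .nil)) .nil)) (.node [(31, (-1), 1, 1)] (.node [] (.node [(65, 1, 1, 1)] .nil .nil) .nil) (.node [] (.node [(77, (-1), 1, 1)] .nil .nil) (.node [(88, (-1), 1, 1)] (.node [(111, 1, 1, 1)] .nil .nil) .nil))))))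
def C89 : List (ℕ × List (ℕ × ℤ)) := [(1, [(13, (-1))]), (2, [(19, (-1))]), (4, [(24, 1)]), (5, [(25, 1)]), (8, [(28, 1)]), (9, [(29, 1)]), (14, [(31, (-1))]), (20, [(32, (-1))]), (33, [(58, 1)]), (34, [(59, 1)]), (37, [(63, 1)]), (38, [(65, 1)]), (39, [(69, 1)]), (42, [(72, (-1))]), (43, [(74, 1)]), (46, [(77, (-1))]), (48, [(79, 1)]), (51, [(82, (-1))]), (53, [(83, 1)]), (56, [(86, (-1))]), (60, [(87, (-1))]), (62, [(88, (-1))]), (66, [(91, (-1))]), (67, [(92, (-1))]), (93, [(105, 1)]), (94, [(111, 1)]), (96, [(116, (-1))]), (97, [(117, (-1))]), (100, [(120, (-1))]), (101, [(121, (-1))]), (106, [(123, 1)]), (112, [(124, 1)])]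
def M90 : Tr (List (ℕ × ℤ × ℕ × ℕ)) := (.node [] (.node [(14, (-1), 1, 1)] (.node [(23, (-1), 1, 1)] (.node [(27, (-1), 1, 1)] (.node [] (.node [] (.node [(91, (-1), 1, 1)] .nil .nil) (.node [(115, 1, 1, 1)] .nil .nil)) (.node [] .nil (.node [(124, 1, 1, 1)] .nil .nil))) (.node [] .nil (.node [(85, (-1), 1, 1)] .nil .nil))) (.node [] (.node [(32, (-1), 1, 1)] (.node [] .nil (.node [(119, 1, 1, 1)] .nil .nil)) .nil) (.node [] .nil (.node [(88, (-1), 1, 1)] .nil .nil)))) (.node [] (.node [] (.node [] (.node [(60, (-1), 1, 1)] (.node [(92, 1, 1, 1)] .nil .nil) .nil) (.node [(80, 1, 1, 1)] .nil .nil)) (.node [] (.node [(71, (-1), 1, 1)] .nil (.node [(123, 1, 1, 1)] .nil .nil)) .nil)) (.node [(31, (-1), 1, 1)] (.node [] (.node [(66, 1, 1, 1)] .nil .nil) .nil) (.node [] (.node [(76, (-1), 1, 1)] .nil .nil) (.node [] (.node [(106, 1, 1, 1)] .nil .nil) .nil))))) (.node [(20, (-1), 1, 1)] (.node [] (.node [] .nil (.node [] (.node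 [(70, 1, 1, 1)] .nil .nil) .nil)) (.node [] .nil (.node [] (.node [(75, 1, 1, 1)] .nil .nil) .nil))) (.node [(26, (-1), 1, 1)] (.node [(30, (-1), 1, 1)] (.node [] (.node [(62, 1, 1, 1)] .nil (.node [(118, 1, 1, 1)] .nil .nil)) (.node [(81, (-1), 1, 1)] .nil .nil)) (.node [] .nil (.node [(87, 1, 1, 1)] .nil .nil))) (.node [] (.node [] (.node [(67, (-1), 1, 1)] .nil (.node [(122, 1, 1, 1)] .nil .nil)) (.node [(84, 1, 1, 1)] .nil .nil)) (.node [] .nil (.node [] (.node [(112, 1, 1, 1)] .nil .nil) .nil))))))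
def C90 : List (ℕ × List (ℕ × ℤ)) := [(1, [(14, (-1))]), (2, [(20, (-1))]), (3, [(23, (-1))]), (6, [(26, (-1))]), (7, [(27, (-1))]), (10, [(30, (-1))]), (13, [(31, (-1))]), (19, [(32, (-1))]), (33, [(60, (-1))]), (34, [(62, 1)]), (37, [(66, 1)]), (38, [(67, (-1))]), (40, [(70, 1)]), (41, [(71, (-1))]), (44, [(75, 1)]), (45, [(76, (-1))]), (49, [(80, 1)]), (50, [(81, (-1))]), (54, [(84, 1)]), (55, [(85, (-1))]), (58, [(87, 1)]), (59, [(88, (-1))]), (63, [(91, (-1))]), (65, [(92, 1)]), (93, [(106, 1)]), (94, [(112, 1)]), (95, [(115, 1)]), (98, [(118, 1)]), (99, [(119, 1)]), (102, [(122, 1)]), (105, [(123, 1)]), (111, [(124, 1)])]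
def M91 : Tr (List (ℕ × ℤ × ℕ × ℕ)) := (.node [] (.node [(15, 1, 1, 1)] (.node [(24, 1, 1, 1)] (.node [(28, 1, 1, 1)] (.node [] (.node [] .nil (.node [(116, 1, 1, 1)] .nil .nil)) .nil) (.node [] (.node [(70, 1, 1, 1)] .nil .nil) (.node [(86, (-1), 1, 1)] .nil .nil))) (.node [] (.node [] (.node [(63, 1, 1, 1)] .nil (.node [(120, 1, 1, 1)] .nil .nil)) .nil) (.node [] (.node [(75, 1, 1, 1)] .nil .nil) (.node [(89, (-1), 1, 1)] .nil .nil)))) (.node [(26, (-1), 1, 1)] (.node [(30, (-1), 1, 1)] (.node [] (.node [(61, 1, 1, 1)] .nil (.node [(118, (-1), 1, 1)] .nil .nil)) .nil) (.node [] (.node [(72, (-1), 1, 1)] .nil .nil) (.node [(87, 1, 1, 1)] .nil .nil))) (.node [] (.node [] (.node [] .nil (.node [(122, (-1), 1, 1)] .nil .nil)) (.node [(84, 1, 1, 1)] .nil .nil)) (.node [] (.node [(77, (-1), 1, 1)] .nil .nil) (.node [] (.node [(107, 1, 1, 1)] .nil .nil) .nil))))) (.node [(21, 1, 1, 1)] (.node [] (.node [] (.node [] (.node []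 (.node [(92, (-1), 1, 1)] .nil .nil) .nil) (.node [(80, 1, 1, 1)] .nil .nil)) (.node [] (.node [] .nil (.node [(123, (-1), 1, 1)] .nil .nil)) .nil)) (.node [(31, (-1), 1, 1)] (.node [] (.node [(66, 1, 1, 1)] .nil .nil) .nil) .nil)) (.node [] (.node [] (.node [(32, (-1), 1, 1)] .nil (.node [(82, (-1), 1, 1)] .nil .nil)) .nil) (.node [] (.node [] (.node [(68, (-1), 1, 1)] .nil .nil) .nil) (.node [] (.node [] .nil (.node [(124, (-1), 1, 1)] .nil .nil)) (.node [(90, (-1), 1, 1)] (.node [(113, 1, 1, 1)] .nil .nil) .nil))))))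
def C91 : List (ℕ × List (ℕ × ℤ)) := [(1, [(15, 1)]), (2, [(21, 1)]), (3, [(24, 1)]), (5, [(26, (-1))]), (7, [(28, 1)]), (9, [(30, (-1))]), (12, [(31, (-1))]), (18, [(32, (-1))]), (33, [(61, 1)]), (35, [(63, 1)]), (36, [(66, 1)]), (38, [(68, (-1))]), (39, [(70, 1)]), (41, [(72, (-1))]), (43, [(75, 1)]), (45, [(77, (-1))]), (48, [(80, 1)]), (50, [(82, (-1))]), (53, [(84, 1)]), (55, [(86, (-1))]), (57, [(87, 1)]), (59, [(89, (-1))]), (62, [(90, (-1))]), (64, [(92, (-1))]), (93, [(107, 1)]), (94, [(113, 1)]), (95, [(116, 1)]), (97, [(118, (-1))]), (99, [(120, 1)]), (101, [(122, (-1))]), (104, [(123, (-1))]), (110, [(124, (-1))])]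
def M92 : Tr (List (ℕ × ℤ × ℕ × ℕ)) := (.node [] (.node [(16, (-1), 1, 1)] (.node [(25, (-1), 1, 1)] (.node [(29, (-1), 1, 1)] (.node [] (.node [] .nil (.node [(117, 1, 1, 1)] .nil .nil)) .nil) (.node [] (.node [(71, 1, 1, 1)] .nil (.node [(123, 1, 1, 1)] .nil .nil)) .nil)) (.node [(31, (-1), 1, 1)] (.node [] (.node [(65, (-1), 1, 1)] .nil (.node [(121, 1, 1, 1)] .nil .nil)) .nil) (.node [] (.node [(76, 1, 1, 1)] .nil .nil) .nil))) (.node [] (.node [] (.node [(32, (-1), 1, 1)] .nil (.node [(82, (-1), 1, 1)] .nil .nil)) (.node [] .nil (.node [(88, 1, 1, 1)] .nil .nil))) (.node [] (.node [] (.node [(68, (-1), 1, 1)] .nil .nil) (.node [(85, 1, 1, 1)] .nil .nil)) (.node [] (.node [] .nil (.node [(124, 1, 1, 1)] .nil .nil)) (.node [(91, (-1), 1, 1)] (.node [(108, 1, 1, 1)] .nil .nil) .nil))))) (.node [(22, (-1), 1, 1)] (.node [(26, (-1), 1, 1)] (.node [(30, (-1), 1, 1)] (.node [] (.node [] .nil (.node [(118, 1, 1, 1)] .nil .nil))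 (.node [(81, 1, 1, 1)] .nil .nil)) (.node [] (.node [(72, (-1), 1, 1)] .nil .nil) .nil)) (.node [] (.node [] (.node [(67, 1, 1, 1)] .nil (.node [(122, 1, 1, 1)] .nil .nil)) .nil) (.node [] (.node [(77, (-1), 1, 1)] .nil .nil) (.node [(90, 1, 1, 1)] .nil .nil)))) (.node [] (.node [] (.node [] (.node [(64, 1, 1, 1)] .nil .nil) .nil) (.node [] .nil (.node [(89, (-1), 1, 1)] .nil .nil))) (.node [] (.node [] .nil (.node [(86, (-1), 1, 1)] .nil .nil)) (.node [] .nil (.node [] (.node [(114, 1, 1, 1)] .nil .nil) .nil))))))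
def C92 : List (ℕ × List (ℕ × ℤ)) := [(1, [(16, (-1))]), (2, [(22, (-1))]), (3, [(25, (-1))]), (4, [(26, (-1))]), (7, [(29, (-1))]), (8, [(30, (-1))]), (11, [(31, (-1))]), (17, [(32, (-1))]), (34, [(64, 1)]), (35, [(65, (-1))]), (36, [(67, 1)]), (37, [(68, (-1))]), (39, [(71, 1)]), (40, [(72, (-1))]), (43, [(76, 1)]), (44, [(77, (-1))]), (48, [(81, 1)]), (49, [(82, (-1))]), (53, [(85, 1)]), (54, [(86, (-1))]), (57, [(88, 1)]), (58, [(89, (-1))]), (60, [(90, 1)]), (61, [(91, (-1))]), (93, [(108, 1)]), (94, [(114, 1)]), (95, [(117, 1)]), (96, [(118, 1)]), (99, [(121, 1)]), (100, [(122, 1)]), (103, [(123, 1)]), (109, [(124, 1)])]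
def M93 : Tr (List (ℕ × ℤ × ℕ × ℕ)) := (.node [(1, (-1), 1, 1)] (.node [] (.node [] (.node [] (.node [] (.node [(52, 1, 1, 1)] .nil .nil) .nil) (.node [(39, 1, 1, 1)] .nil (.node [] (.node [(103, (-1), 1, 1)] .nil .nil) .nil))) (.node [] (.node [(35, 1, 1, 1)] .nil (.node [] (.node [(99, (-1), 1, 1)] .nil .nil) .nil)) (.node [(48, 1, 1, 1)] (.node [] (.node [(96, (-1), 1, 1)] .nil .nil) .nil) (.node [] (.node [(107, (-1), 1, 1)] .nil .nil) .nil)))) (.node [] (.node [] (.node [(33, 1, 1, 1)] .nil .nil) (.node [(41, 1, 1, 1)] (.node [] (.node [(94, (-1), 1, 1)] .nil .nil) .nil) (.node [] (.node [(105, (-1), 1, 1)] .nil .nil) .nil))) (.node [] (.node [(37, 1, 1, 1)] .nil (.node [] (.node [(101, (-1), 1, 1)] .nil .nil) .nil)) (.node [(50, 1, 1, 1)] (.node [] (.node [(98, (-1), 1, 1)] .nil .nil) .nil) .nil)))) (.node [] (.node [] (.node [] .nil (.node [(40, 1, 1, 1)] .nil (.node [] (.node [(104, (-1), 1, 1)] .nil .nil) .nil)))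 (.node [] (.node [(36, 1, 1, 1)] .nil (.node [] (.node [(100, (-1), 1, 1)] .nil .nil) .nil)) (.node [(49, 1, 1, 1)] (.node [] (.node [(97, (-1), 1, 1)] .nil .nil) .nil) (.node [] (.node [(108, (-1), 1, 1)] .nil .nil) (.node [(125, 1, 1, 1)] .nil .nil))))) (.node [] (.node [] (.node [(34, 1, 1, 1)] .nil .nil) (.node [(42, 1, 1, 1)] (.node [] (.node [(95, (-1), 1, 1)] .nil .nil) .nil) (.node [] (.node [(106, (-1), 1, 1)] .nil .nil) .nil))) (.node [] (.node [(38, 1, 1, 1)] .nil (.node [] (.node [(102, (-1), 1, 1)] .nil .nil) .nil)) (.node [(51, 1, 1, 1)] .nil .nil)))))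
def C93 : List (ℕ × List (ℕ × ℤ)) := [(0, [(1, (-1))]), (17, [(33, 1)]), (18, [(34, 1)]), (19, [(35, 1)]), (20, [(36, 1)]), (21, [(37, 1)]), (22, [(38, 1)]), (23, [(39, 1)]), (24, [(40, 1)]), (25, [(41, 1)]), (26, [(42, 1)]), (27, [(48, 1)]), (28, [(49, 1)]), (29, [(50, 1)]), (30, [(51, 1)]), (31, [(52, 1)]), (73, [(94, (-1))]), (74, [(95, (-1))]), (75, [(96, (-1))]), (76, [(97, (-1))]), (77, [(98, (-1))]), (83, [(99, (-1))]), (84, [(100, (-1))]), (85, [(101, (-1))]), (86, [(102, (-1))]), (87, [(103, (-1))]), (88, [(104, (-1))]), (89, [(105, (-1))]), (90, [(106, (-1))]), (91, [(107, (-1))]), (92, [(108, (-1))]), (124, [(125, 1)])]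
def M94 : Tr (List (ℕ × ℤ × ℕ × ℕ)) := (.node [(2, 1, 1, 1)] (.node [] (.node [] (.node [] (.node [(37, 1, 1, 1)] .nil (.node [] (.node [(99, 1, 1, 1)] .nil .nil) .nil)) (.node [(43, (-1), 1, 1)] (.node [] (.node [(97, (-1), 1, 1)] .nil .nil) .nil) (.node [] (.node [(109, (-1), 1, 1)] .nil .nil) .nil))) (.node [(33, 1, 1, 1)] .nil (.node [(53, 1, 1, 1)] .nil (.node [] (.node [(113, (-1), 1, 1)] .nil .nil) (.node [(125, (-1), 1, 1)] .nil .nil))))) (.node [] (.node [] (.node [] .nil (.node [] (.node [(101, 1, 1, 1)] .nil .nil) .nil)) (.node [(45, (-1), 1, 1)] .nil (.node [] (.node [(111, (-1), 1, 1)] .nil .nil) .nil))) (.node [(35, 1, 1, 1)] (.node [] (.node [] (.node [(95, (-1), 1, 1)] .nil .nil) .nil) .nil) (.node [(55, 1, 1, 1)] .nil .nil)))) (.node [] (.node [] (.node [] (.node [(38, 1, 1, 1)] (.node [(73, 1, 1, 1)] .nil .nil) (.node [] (.node [(100, 1, 1, 1)] .nil .nil) .nil)) (.node [(44, (-1), 1, 1)] (.node [] (.node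 [(98, (-1), 1, 1)] .nil .nil) .nil) (.node [] (.node [(110, (-1), 1, 1)] .nil .nil) .nil))) (.node [(34, 1, 1, 1)] (.node [] .nil (.node [(93, (-1), 1, 1)] .nil .nil)) (.node [(54, 1, 1, 1)] .nil (.node [] (.node [(114, (-1), 1, 1)] .nil .nil) .nil)))) (.node [] (.node [] (.node [] .nil (.node [] (.node [(102, 1, 1, 1)] .nil .nil) .nil)) (.node [(46, (-1), 1, 1)] .nil (.node [] (.node [(112, (-1), 1, 1)] .nil .nil) .nil))) (.node [(36, 1, 1, 1)] (.node [] (.node [] (.node [(96, (-1), 1, 1)] .nil .nil) .nil) .nil) (.node [(56, 1, 1, 1)] .nil .nil)))))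
def C94 : List (ℕ × List (ℕ × ℤ)) := [(0, [(2, 1)]), (11, [(33, 1)]), (12, [(34, 1)]), (13, [(35, 1)]), (14, [(36, 1)]), (15, [(37, 1)]), (16, [(38, 1)]), (23, [(43, (-1))]), (24, [(44, (-1))]), (25, [(45, (-1))]), (26, [(46, (-1))]), (27, [(53, 1)]), (28, [(54, 1)]), (29, [(55, 1)]), (30, [(56, 1)]), (32, [(73, 1)]), (52, [(93, (-1))]), (69, [(95, (-1))]), (70, [(96, (-1))]), (71, [(97, (-1))]), (72, [(98, (-1))]), (79, [(99, 1)]), (80, [(100, 1)]), (81, [(101, 1)]), (82, [(102, 1)]), (87, [(109, (-1))]), (88, [(110, (-1))]), (89, [(111, (-1))]), (90, [(112, (-1))]), (91, [(113, (-1))]), (92, [(114, (-1))]), (123, [(125, (-1))])]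
def M95 : Tr (List (ℕ × ℤ × ℕ × ℕ)) := (.node [(3, (-1), 1, 1)] (.node [] (.node [] (.node [] (.node [(40, (-1), 1, 1)] (.node [(69, 1, 1, 1)] .nil .nil) .nil) .nil) (.node [] (.node [] (.node [] (.node [(97, (-1), 1, 1)] .nil .nil) .nil) (.node [(93, (-1), 1, 1)] .nil .nil)) (.node [(57, 1, 1, 1)] .nil (.node [] (.node [(116, (-1), 1, 1)] .nil .nil) .nil)))) (.node [] (.node [(34, 1, 1, 1)] (.node [] .nil (.node [] (.node [(104, 1, 1, 1)] .nil .nil) .nil)) .nil) (.node [] (.node [(44, (-1), 1, 1)] .nil (.node [] (.node [(110, 1, 1, 1)] .nil .nil) .nil)) (.node [(59, 1, 1, 1)] .nil .nil)))) (.node [] (.node [] (.node [(33, 1, 1, 1)] (.node [(41, (-1), 1, 1)] (.node [(74, 1, 1, 1)] .nil .nil) (.node [] (.node [(103, 1, 1, 1)] .nil .nil) .nil)) (.node [] .nil (.node [(94, (-1), 1, 1)] .nil .nil))) (.node [] (.node [(43, (-1), 1, 1)] (.node [] (.node [(98, (-1), 1, 1)] .nil .nil) .nil) (.node [] (.node [(109, 1, 1, 1)] .nil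 .nil) .nil)) (.node [(58, 1, 1, 1)] .nil (.node [] (.node [(117, (-1), 1, 1)] .nil .nil) .nil)))) (.node [] (.node [(35, 1, 1, 1)] (.node [] (.node [] (.node [(96, (-1), 1, 1)] .nil .nil) .nil) (.node [] (.node [(105, 1, 1, 1)] .nil .nil) .nil)) (.node [(47, 1, 1, 1)] .nil (.node [] (.node [(115, (-1), 1, 1)] .nil .nil) (.node [(125, 1, 1, 1)] .nil .nil)))) (.node [(39, (-1), 1, 1)] (.node [(45, (-1), 1, 1)] .nil (.node [] (.node [(111, 1, 1, 1)] .nil .nil) .nil)) (.node [] (.node [] (.node [(99, (-1), 1, 1)] .nil .nil) .nil) .nil)))))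
def C95 : List (ℕ × List (ℕ × ℤ)) := [(0, [(3, (-1))]), (8, [(33, 1)]), (9, [(34, 1)]), (10, [(35, 1)]), (14, [(39, (-1))]), (15, [(40, (-1))]), (16, [(41, (-1))]), (20, [(43, (-1))]), (21, [(44, (-1))]), (22, [(45, (-1))]), (26, [(47, 1)]), (27, [(57, 1)]), (28, [(58, 1)]), (29, [(59, 1)]), (31, [(69, 1)]), (32, [(74, 1)]), (51, [(93, (-1))]), (56, [(94, (-1))]), (66, [(96, (-1))]), (67, [(97, (-1))]), (68, [(98, (-1))]), (78, [(99, (-1))]), (80, [(103, 1)]), (81, [(104, 1)]), (82, [(105, 1)]), (84, [(109, 1)]), (85, [(110, 1)]), (86, [(111, 1)]), (90, [(115, (-1))]), (91, [(116, (-1))]), (92, [(117, (-1))]), (122, [(125, 1)])]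
def M96 : Tr (List (ℕ × ℤ × ℕ × ℕ)) := (.node [(4, 1, 1, 1)] (.node [] (.node [] (.node [(33, 1, 1, 1)] (.node [] (.node [(70, 1, 1, 1)] .nil .nil) (.node [] (.node [(103, (-1), 1, 1)] .nil .nil) .nil)) (.node [] .nil (.node [(94, (-1), 1, 1)] .nil .nil))) (.node [] (.node [(44, (-1), 1, 1)] .nil (.node [] (.node [(109, (-1), 1, 1)] .nil .nil) .nil)) (.node [(60, 1, 1, 1)] .nil (.node [(95, (-1), 1, 1)] .nil .nil)))) (.node [] (.node [(36, (-1), 1, 1)] (.node [] (.node [] (.node [(98, (-1), 1, 1)] .nil .nil) .nil) (.node [] (.node [(106, 1, 1, 1)] .nil .nil) .nil)) (.node [(47, 1, 1, 1)] .nil (.node [] (.node [(116, 1, 1, 1)] .nil .nil) (.node [(125, (-1), 1, 1)] .nil .nil)))) (.node [(40, (-1), 1, 1)] (.node [] .nil (.node [] (.node [(112, 1, 1, 1)] .nil .nil) .nil)) .nil))) (.node [] (.node [] (.node [] (.node [(42, 1, 1, 1)] (.node [(75, 1, 1, 1)] (.node [(97, (-1), 1, 1)] .nil .nil) .nil) .nil) (.node [] .nil (.node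 [] (.node [(115, 1, 1, 1)] .nil .nil) .nil))) (.node [(39, (-1), 1, 1)] .nil (.node [(61, 1, 1, 1)] .nil (.node [] (.node [(118, (-1), 1, 1)] .nil .nil) .nil)))) (.node [] (.node [(37, (-1), 1, 1)] (.node [(43, (-1), 1, 1)] .nil (.node [(93, (-1), 1, 1)] (.node [(107, 1, 1, 1)] .nil .nil) .nil)) .nil) (.node [] (.node [(46, 1, 1, 1)] .nil (.node [] (.node [(113, 1, 1, 1)] .nil .nil) .nil)) (.node [(66, 1, 1, 1)] (.node [] (.node [(100, (-1), 1, 1)] .nil .nil) .nil) .nil)))))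
def C96 : List (ℕ × List (ℕ × ℤ)) := [(0, [(4, 1)]), (7, [(33, 1)]), (9, [(36, (-1))]), (10, [(37, (-1))]), (12, [(39, (-1))]), (13, [(40, (-1))]), (16, [(42, 1)]), (18, [(43, (-1))]), (19, [(44, (-1))]), (22, [(46, 1)]), (25, [(47, 1)]), (27, [(60, 1)]), (28, [(61, 1)]), (30, [(66, 1)]), (31, [(70, 1)]), (32, [(75, 1)]), (50, [(93, (-1))]), (55, [(94, (-1))]), (59, [(95, (-1))]), (64, [(97, (-1))]), (65, [(98, (-1))]), (78, [(100, (-1))]), (79, [(103, (-1))]), (81, [(106, 1)]), (82, [(107, 1)]), (83, [(109, (-1))]), (85, [(112, 1)]), (86, [(113, 1)]), (88, [(115, 1)]), (89, [(116, 1)]), (92, [(118, (-1))]), (121, [(125, (-1))])]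
def M97 : Tr (List (ℕ × ℤ × ℕ × ℕ)) := (.node [(5, (-1), 1, 1)] (.node [] (.node [] (.node [(34, (-1), 1, 1)] (.node [(42, 1, 1, 1)] (.node [(71, 1, 1, 1)] (.node [(98, (-1), 1, 1)] .nil .nil) .nil) (.node [] (.node [(104, (-1), 1, 1)] .nil .nil) .nil)) (.node [] .nil (.node [] (.node [(115, (-1), 1, 1)] .nil .nil) .nil))) (.node [(39, (-1), 1, 1)] (.node [(45, 1, 1, 1)] .nil (.node [] (.node [(110, (-1), 1, 1)] .nil .nil) .nil)) (.node [(62, 1, 1, 1)] .nil (.node [] (.node [(118, 1, 1, 1)] .nil .nil) .nil)))) (.node [] (.node [] (.node [(43, (-1), 1, 1)] .nil (.node [(93, (-1), 1, 1)] .nil .nil)) (.node [] .nil (.node [] (.node [(117, 1, 1, 1)] .nil .nil) .nil))) (.node [(41, 1, 1, 1)] (.node [(46, 1, 1, 1)] .nil .nil) (.node [(64, 1, 1, 1)] .nil (.node [(96, (-1), 1, 1)] .nil .nil))))) (.node [] (.node [] (.node [(36, (-1), 1, 1)] (.node [] (.node [(76, 1, 1, 1)] .nil .nil) (.node [] (.node [(106, (-1), 1, 1)] .nil .nil)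 .nil)) (.node [(47, 1, 1, 1)] .nil (.node [] .nil (.node [(125, 1, 1, 1)] .nil .nil)))) (.node [] (.node [] .nil (.node [] (.node [(112, (-1), 1, 1)] .nil .nil) .nil)) .nil)) (.node [] (.node [(38, 1, 1, 1)] (.node [] .nil (.node [] (.node [(108, 1, 1, 1)] .nil .nil) .nil)) (.node [] .nil (.node [(95, (-1), 1, 1)] .nil .nil))) (.node [] (.node [] .nil (.node [(94, (-1), 1, 1)] (.node [(114, 1, 1, 1)] .nil .nil) .nil)) (.node [(67, 1, 1, 1)] (.node [] (.node [(101, (-1), 1, 1)] .nil .nil) .nil) .nil)))))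
def C97 : List (ℕ × List (ℕ × ℤ)) := [(0, [(5, (-1))]), (7, [(34, (-1))]), (8, [(36, (-1))]), (10, [(38, 1)]), (11, [(39, (-1))]), (13, [(41, 1)]), (15, [(42, 1)]), (17, [(43, (-1))]), (19, [(45, 1)]), (21, [(46, 1)]), (24, [(47, 1)]), (27, [(62, 1)]), (29, [(64, 1)]), (30, [(67, 1)]), (31, [(71, 1)]), (32, [(76, 1)]), (49, [(93, (-1))]), (54, [(94, (-1))]), (58, [(95, (-1))]), (61, [(96, (-1))]), (63, [(98, (-1))]), (78, [(101, (-1))]), (79, [(104, (-1))]), (80, [(106, (-1))]), (82, [(108, 1)]), (83, [(110, (-1))]), (84, [(112, (-1))]), (86, [(114, 1)]), (87, [(115, (-1))]), (89, [(117, 1)]), (91, [(118, 1)]), (120, [(125, 1)])]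
def M98 : Tr (List (ℕ × ℤ × ℕ × ℕ)) := (.node [(6, 1, 1, 1)] (.node [] (.node [] (.node [(35, 1, 1, 1)] (.node [] (.node [(72, 1, 1, 1)] .nil .nil) (.node [] (.node [(105, (-1), 1, 1)] .nil .nil) .nil)) (.node [(47, 1, 1, 1)] .nil (.node [] (.node [(116, (-1), 1, 1)] .nil .nil) (.node [(125, (-1), 1, 1)] .nil .nil)))) (.node [(40, 1, 1, 1)] (.node [] .nil (.node [] (.node [(111, (-1), 1, 1)] .nil .nil) .nil)) .nil)) (.node [] (.node [(38, 1, 1, 1)] (.node [(44, 1, 1, 1)] .nil (.node [] (.node [(108, (-1), 1, 1)] .nil .nil) .nil)) (.node [] .nil (.node [(95, (-1), 1, 1)] .nil .nil))) (.node [] (.node [] .nil (.node [(94, (-1), 1, 1)] (.node [(114, (-1), 1, 1)] .nil .nil) .nil)) (.node [(65, 1, 1, 1)] .nil .nil)))) (.node [] (.node [] (.node [(37, 1, 1, 1)] (.node [] (.node [(77, 1, 1, 1)] .nil .nil) (.node [(93, (-1), 1, 1)] (.node [(107, (-1), 1, 1)] .nil .nil) .nil)) (.node [] .nil (.node [] (.node [(117, (-1), 1, 1)]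 .nil .nil) .nil))) (.node [(41, 1, 1, 1)] (.node [(46, 1, 1, 1)] .nil (.node [] (.node [(113, (-1), 1, 1)] .nil .nil) .nil)) (.node [(63, 1, 1, 1)] .nil (.node [(96, (-1), 1, 1)] .nil .nil)))) (.node [] (.node [] (.node [(45, 1, 1, 1)] .nil .nil) (.node [] .nil (.node [] (.node [(118, (-1), 1, 1)] .nil .nil) .nil))) (.node [(42, 1, 1, 1)] .nil (.node [(68, 1, 1, 1)] (.node [] (.node [(102, (-1), 1, 1)] .nil .nil) .nil) (.node [(97, (-1), 1, 1)] .nil .nil))))))
def C98 : List (ℕ × List (ℕ × ℤ)) := [(0, [(6, 1)]), (7, [(35, 1)]), (8, [(37, 1)]), (9, [(38, 1)]), (11, [(40, 1)]), (12, [(41, 1)]), (14, [(42, 1)]), (17, [(44, 1)]), (18, [(45, 1)]), (20, [(46, 1)]), (23, [(47, 1)]), (28, [(63, 1)]), (29, [(65, 1)]), (30, [(68, 1)]), (31, [(72, 1)]), (32, [(77, 1)]), (48, [(93, (-1))]), (53, [(94, (-1))]), (57, [(95, (-1))]), (60, [(96, (-1))]), (62, [(97, (-1))]), (78, [(102, (-1))]), (79, [(105, (-1))]), (80, [(107, (-1))]),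 (81, [(108, (-1))]), (83, [(111, (-1))]), (84, [(113, (-1))]), (85, [(114, (-1))]), (87, [(116, (-1))]), (88, [(117, (-1))]), (90, [(118, (-1))]), (119, [(125, (-1))])]
def M99 : Tr (List (ℕ × ℤ × ℕ × ℕ)) := (.node [(7, 1, 1, 1)] (.node [] (.node [] (.node [] (.node [(49, 1, 1, 1)] (.node [(79, (-1), 1, 1)] .nil .nil) (.node [(95, (-1), 1, 1)] .nil .nil)) (.node [(57, 1, 1, 1)] (.node [] (.node [(104, 1, 1, 1)] .nil .nil) .nil) .nil)) (.node [] (.node [] (.node [] (.node [(101, (-1), 1, 1)] .nil .nil) .nil) .nil) (.node [] (.node [] (.node [(109, (-1), 1, 1)] .nil .nil) .nil) (.node [] (.node [(120, (-1), 1, 1)] .nil .nil) .nil)))) (.node [(34, 1, 1, 1)] (.node [] .nil (.node [(59, 1, 1, 1)] .nil .nil)) (.node [] (.node [(54, (-1), 1, 1)] .nil .nil) (.node [] (.node [] (.node [(111, (-1), 1, 1)] .nil .nil) .nil) .nil)))) (.node [] (.node [(33, 1, 1, 1)] (.node [] (.node [(50, 1, 1, 1)] (.node [(83, 1, 1, 1)] .nil .nil)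 .nil) (.node [(58, 1, 1, 1)] (.node [] (.node [(105, 1, 1, 1)] .nil .nil) .nil) .nil)) (.node [] (.node [(53, (-1), 1, 1)] (.node [] (.node [(102, (-1), 1, 1)] .nil .nil) .nil) .nil) (.node [] (.node [] (.node [(110, (-1), 1, 1)] .nil .nil) .nil) (.node [] (.node [(121, (-1), 1, 1)] .nil .nil) .nil)))) (.node [(35, 1, 1, 1)] (.node [] (.node [] (.node [] (.node [(100, (-1), 1, 1)] .nil .nil) .nil) .nil) (.node [] (.node [(93, (-1), 1, 1)] .nil .nil) (.node [] (.node [(119, (-1), 1, 1)] .nil .nil) .nil))) (.node [(48, 1, 1, 1)] (.node [(55, (-1), 1, 1)] (.node [] (.node [(103, 1, 1, 1)] .nil .nil) .nil) (.node [] .nil (.node [(125, (-1), 1, 1)] .nil .nil))) (.node [(78, 1, 1, 1)] (.node [(94, 1, 1, 1)] .nil .nil) .nil)))))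
def C99 : List (ℕ × List (ℕ × ℤ)) := [(0, [(7, 1)]), (4, [(33, 1)]), (5, [(34, 1)]), (6, [(35, 1)]), (14, [(48, 1)]), (15, [(49, 1)]), (16, [(50, 1)]), (20, [(53, (-1))]), (21, [(54, (-1))]), (22, [(55, (-1))]), (23, [(57, 1)]), (24, [(58, 1)]), (25, [(59, 1)]), (30, [(78, 1)]), (31, [(79, (-1))]), (32, [(83, 1)]), (42, [(93, (-1))]), (46, [(94, 1)]), (47, [(95, (-1))]), (66, [(100, (-1))]), (67, [(101, (-1))]), (68, [(102, (-1))]), (70, [(103, 1)]), (71, [(104, 1)]), (72, [(105, 1)]), (75, [(109, (-1))]), (76, [(110, (-1))]), (77, [(111, (-1))]), (90, [(119, (-1))]), (91, [(120, (-1))]), (92, [(121, (-1))]), (118, [(125, (-1))])]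
def M100 : Tr (List (ℕ × ℤ × ℕ × ℕ)) := (.node [(8, (-1), 1, 1)] (.node [] (.node [(33, 1, 1, 1)] (.node [] (.node [] (.node [(80, (-1), 1, 1)] .nil .nil) (.node [(96, (-1), 1, 1)] .nil .nil)) (.node [(60, 1, 1, 1)] (.node [] (.node [(106, 1, 1, 1)] .nil .nil) .nil) .nil)) (.node [] (.node [(54, (-1), 1, 1)] .nil .nil) (.node [] .nil (.node [(99, (-1), 1, 1)] .nil .nil)))) (.node [(36, (-1), 1, 1)] (.node [] (.node [] (.node [] (.node [(102, (-1), 1, 1)] .nil .nil) .nil) .nil) (.node [] (.node [(93, (-1), 1, 1)] .nil .nil) (.node [] (.node [(120, 1, 1, 1)] .nil .nil) .nil))) (.node [(49, 1, 1, 1)] (.node [] (.node [] (.node [(103, (-1), 1, 1)] .nil .nil) .nil) (.node [] .nil (.node [(125, 1, 1, 1)] .nil .nil))) (.node [(78, 1, 1, 1)] (.node [(94, 1, 1, 1)] (.node [(113, (-1), 1, 1)] .nil .nil) .nil) .nil)))) (.node [] (.node [] (.node [] (.node [(51, (-1), 1, 1)] (.node [(84, 1, 1, 1)] (.node [(101, (-1), 1, 1)] .nil .nil)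 .nil) .nil) (.node [(61, 1, 1, 1)] (.node [] (.node [(107, 1, 1, 1)] .nil .nil) .nil) (.node [] (.node [(119, 1, 1, 1)] .nil .nil) .nil))) (.node [(48, 1, 1, 1)] .nil (.node [] (.node [] (.node [(112, (-1), 1, 1)] .nil .nil) .nil) (.node [] (.node [(122, (-1), 1, 1)] .nil .nil) .nil)))) (.node [(37, (-1), 1, 1)] (.node [] (.node [(53, (-1), 1, 1)] .nil .nil) (.node [(66, 1, 1, 1)] (.node [] (.node [(109, 1, 1, 1)] .nil .nil) .nil) .nil)) (.node [] (.node [(56, 1, 1, 1)] .nil .nil) .nil))))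
def C100 : List (ℕ × List (ℕ × ℤ)) := [(0, [(8, (-1))]), (3, [(33, 1)]), (5, [(36, (-1))]), (6, [(37, (-1))]), (12, [(48, 1)]), (13, [(49, 1)]), (16, [(51, (-1))]), (18, [(53, (-1))]), (19, [(54, (-1))]), (22, [(56, 1)]), (23, [(60, 1)]), (24, [(61, 1)]), (26, [(66, 1)]), (29, [(78, 1)]), (31, [(80, (-1))]), (32, [(84, 1)]), (41, [(93, (-1))]), (45, [(94, 1)]), (47, [(96, (-1))]), (59, [(99, (-1))]), (64, [(101, (-1))]), (65, [(102, (-1))]), (69, [(103, (-1))]), (71, [(106, 1)]), (72, [(107, 1)]), (74, [(109, 1)]), (76, [(112, (-1))]), (77, [(113, (-1))]), (88, [(119, 1)]), (89, [(120, 1)]), (92, [(122, (-1))]), (117, [(125, 1)])]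
def M101 : Tr (List (ℕ × ℤ × ℕ × ℕ)) := (.node [(9, 1, 1, 1)] (.node [] (.node [(34, (-1), 1, 1)] (.node [] (.node [(51, (-1), 1, 1)] (.node [(81, (-1), 1, 1)] (.node [(102, (-1), 1, 1)] .nil .nil) .nil) (.node [(97, (-1), 1, 1)] .nil .nil)) (.node [(62, 1, 1, 1)] .nil (.node [] (.node [(119, (-1), 1, 1)] .nil .nil) .nil))) (.node [(48, 1, 1, 1)] (.node [(55, 1, 1, 1)] .nil .nil) (.node [] (.node [] (.node [(112, 1, 1, 1)] .nil .nil) .nil) (.node [] (.node [(122, 1, 1, 1)] .nil .nil) .nil)))) (.node [] (.node [] (.node [(53, (-1), 1, 1)] .nil .nil) (.node [(64, 1, 1, 1)] .nil (.node [] (.node [(121, 1, 1, 1)] .nil .nil) .nil))) (.node [(50, (-1), 1, 1)] (.node [(56, 1, 1, 1)] (.node [] (.node [(104, (-1), 1, 1)] .nil .nil) .nil) .nil) (.node [] (.node [] (.node [(114, (-1), 1, 1)] .nil .nil) .nil) (.node [(100, (-1), 1, 1)] .nil .nil))))) (.node [] (.node [(36, (-1), 1, 1)] (.node [] (.node [] (.node [(85, 1, 1, 1)] .nil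 .nil) .nil) (.node [] (.node [(93, (-1), 1, 1)] (.node [(108, 1, 1, 1)] .nil .nil) .nil) .nil)) (.node [] (.node [] .nil (.node [] .nil (.node [(125, (-1), 1, 1)] .nil .nil))) (.node [(78, 1, 1, 1)] (.node [(94, 1, 1, 1)] .nil .nil) .nil))) (.node [(38, 1, 1, 1)] (.node [] .nil (.node [(67, 1, 1, 1)] (.node [] (.node [(110, 1, 1, 1)] .nil .nil) .nil) (.node [(99, (-1), 1, 1)] .nil .nil))) (.node [] (.node [] (.node [] (.node [(106, (-1), 1, 1)] .nil .nil) .nil) .nil) .nil))))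
def C101 : List (ℕ × List (ℕ × ℤ)) := [(0, [(9, 1)]), (3, [(34, (-1))]), (4, [(36, (-1))]), (6, [(38, 1)]), (11, [(48, 1)]), (13, [(50, (-1))]), (15, [(51, (-1))]), (17, [(53, (-1))]), (19, [(55, 1)]), (21, [(56, 1)]), (23, [(62, 1)]), (25, [(64, 1)]), (26, [(67, 1)]), (28, [(78, 1)]), (31, [(81, (-1))]), (32, [(85, 1)]), (40, [(93, (-1))]), (44, [(94, 1)]), (47, [(97, (-1))]), (58, [(99, (-1))]), (61, [(100, (-1))]), (63, [(102, (-1))]), (69, [(104, (-1))]), (70, [(106, (-1))]), (72, [(108, 1)]), (74, [(110, 1)]), (75, [(112, 1)]), (77, [(114, (-1))]), (87, [(119, (-1))]), (89, [(121, 1)]), (91, [(122, 1)]), (116, [(125, (-1))])]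
def M102 : Tr (List (ℕ × ℤ × ℕ × ℕ)) := (.node [(10, (-1), 1, 1)] (.node [] (.node [(35, 1, 1, 1)] (.node [] (.node [] (.node [(82, (-1), 1, 1)] .nil .nil) (.node [(98, (-1), 1, 1)] .nil .nil)) (.node [] (.node [(93, (-1), 1, 1)] (.node [(108, (-1), 1, 1)] .nil .nil) .nil) (.node [] (.node [(120, (-1), 1, 1)] .nil .nil) .nil))) (.node [(49, (-1), 1, 1)] (.node [] .nil (.node [] .nil (.node [(125, 1, 1, 1)] .nil .nil))) (.node [(78, 1, 1, 1)] (.node [(94, 1, 1, 1)] (.node [(113, 1, 1, 1)] .nil .nil) .nil) .nil))) (.node [(38, 1, 1, 1)] (.node [] (.node [(54, 1, 1, 1)] .nil .nil) (.node [(65, 1, 1, 1)] .nil (.node [(99, (-1), 1, 1)] .nil .nil))) (.node [] (.node [] (.node [] (.node [(105, (-1), 1, 1)] .nil .nil) .nil) .nil) .nil))) (.node [] (.node [(37, 1, 1, 1)] (.node [] (.node [] (.node [(86, 1, 1, 1)] .nil .nil) .nil) (.node [(63, 1, 1, 1)] .nil (.node [] (.node [(121, (-1), 1, 1)] .nil .nil) .nil))) (.node [(50, (-1),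 1, 1)] (.node [(56, 1, 1, 1)] .nil .nil) (.node [] (.node [] (.node [(114, 1, 1, 1)] .nil .nil) .nil) (.node [(100, (-1), 1, 1)] .nil .nil)))) (.node [] (.node [] (.node [(55, 1, 1, 1)] .nil .nil) (.node [(68, 1, 1, 1)] (.node [] (.node [(111, 1, 1, 1)] .nil .nil) .nil) (.node [] (.node [(122, (-1), 1, 1)] .nil .nil) .nil))) (.node [(51, (-1), 1, 1)] (.node [] (.node [] (.node [(107, (-1), 1, 1)] .nil .nil) .nil) .nil) (.node [] .nil (.node [(101, (-1), 1, 1)] .nil .nil))))))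
def C102 : List (ℕ × List (ℕ × ℤ)) := [(0, [(10, (-1))]), (3, [(35, 1)]), (4, [(37, 1)]), (5, [(38, 1)]), (11, [(49, (-1))]), (12, [(50, (-1))]), (14, [(51, (-1))]), (17, [(54, 1)]), (18, [(55, 1)]), (20, [(56, 1)]), (24, [(63, 1)]), (25, [(65, 1)]), (26, [(68, 1)]), (27, [(78, 1)]), (31, [(82, (-1))]), (32, [(86, 1)]), (39, [(93, (-1))]), (43, [(94, 1)]), (47, [(98, (-1))]), (57, [(99, (-1))]), (60, [(100, (-1))]), (62, [(101, (-1))]), (69, [(105, (-1))]), (70, [(107, (-1))]), (71, [(108, (-1))]), (74, [(111, 1)]), (75, [(113, 1)]), (76, [(114, 1)]), (87, [(120, (-1))]), (88, [(121, (-1))]), (90, [(122, (-1))]), (115, [(125, 1)])]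
def M103 : Tr (List (ℕ × ℤ × ℕ × ℕ)) := (.node [(11, 1, 1, 1)] (.node [] (.node [] (.node [] .nil (.node [] .nil (.node [(99, 1, 1, 1)] .nil .nil))) (.node [] (.node [(58, (-1), 1, 1)] (.node [] (.node [(106, 1, 1, 1)] .nil .nil) .nil) .nil) .nil)) (.node [(39, 1, 1, 1)] (.node [(48, 1, 1, 1)] (.node [] (.node [] (.node [(105, (-1), 1, 1)] .nil .nil) .nil) .nil) (.node [(69, 1, 1, 1)] (.node [] (.node [(109, (-1), 1, 1)] .nil .nil) .nil) .nil)) (.node [] (.node [(61, 1, 1, 1)] .nil (.node [] (.node [(119, (-1), 1, 1)] .nil .nil) .nil)) (.node [(79, 1, 1, 1)] (.node [(95, 1, 1, 1)] (.node [(116, (-1), 1, 1)] .nil .nil) .nil) .nil)))) (.node [(33, 1, 1, 1)] (.node [] (.node [] (.node [(52, 1, 1, 1)] (.node [(87, 1, 1, 1)] (.node [(104, (-1), 1, 1)] .nil .nil) .nil) .nil) (.node [] .nil (.node [(100, (-1), 1, 1)] .nil .nil))) (.node [] (.node [(60, 1, 1, 1)] (.node [] (.node [(107, 1, 1, 1)] .nil .nil) .nil) .nil) (.node []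 (.node [] (.node [(115, (-1), 1, 1)] .nil .nil) .nil) (.node [] (.node [(123, (-1), 1, 1)] .nil .nil) .nil)))) (.node [(40, 1, 1, 1)] (.node [(49, 1, 1, 1)] (.node [(57, (-1), 1, 1)] .nil (.node [] .nil (.node [(125, (-1), 1, 1)] .nil .nil))) (.node [(70, (-1), 1, 1)] .nil .nil)) (.node [] (.node [] (.node [(93, (-1), 1, 1)] .nil .nil) (.node [] (.node [(120, (-1), 1, 1)] .nil .nil) .nil)) (.node [(80, (-1), 1, 1)] (.node [(96, (-1), 1, 1)] .nil .nil) .nil)))))
def C103 : List (ℕ × List (ℕ × ℤ)) := [(0, [(11, 1)]), (2, [(33, 1)]), (5, [(39, 1)]), (6, [(40, 1)]), (9, [(48, 1)]), (10, [(49, 1)]), (16, [(52, 1)]), (18, [(57, (-1))]), (19, [(58, (-1))]), (20, [(60, 1)]), (21, [(61, 1)]), (25, [(69, 1)]), (26, [(70, (-1))]), (29, [(79, 1)]), (30, [(80, (-1))]), (32, [(87, 1)]), (38, [(93, (-1))]), (45, [(95, 1)]), (46, [(96, (-1))]), (55, [(99, 1)]), (56, [(100, (-1))]), (64, [(104, (-1))]), (65, [(105, (-1))]), (67, [(106,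 1)]), (68, [(107, 1)]), (73, [(109, (-1))]), (76, [(115, (-1))]), (77, [(116, (-1))]), (85, [(119, (-1))]), (86, [(120, (-1))]), (92, [(123, (-1))]), (114, [(125, (-1))])]
def M104 : Tr (List (ℕ × ℤ × ℕ × ℕ)) := (.node [(12, (-1), 1, 1)] (.node [] (.node [] (.node [] (.node [(52, 1, 1, 1)] (.node [] (.node [(105, (-1), 1, 1)] .nil .nil) .nil) .nil) .nil) (.node [] (.node [(59, 1, 1, 1)] .nil .nil) (.node [] (.node [] (.node [(115, 1, 1, 1)] .nil .nil) .nil) (.node [] (.node [(123, 1, 1, 1)] .nil .nil) .nil)))) (.node [] (.node [] (.node [(57, (-1), 1, 1)] .nil (.node [] .nil (.node [(125, 1, 1, 1)] .nil .nil))) (.node [] (.node [] (.node [(110, (-1), 1, 1)] .nil .nil) .nil) .nil)) (.node [] (.node [] (.node [(93, (-1), 1, 1)] .nil .nil) .nil) (.node [] (.node [] (.node [(117, (-1), 1, 1)] .nil .nil) .nil) (.node [(103, (-1), 1, 1)] .nil .nil))))) (.node [(34, (-1), 1, 1)] (.node [(39, 1, 1, 1)] (.node [(48, 1, 1, 1)] (.node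 [] (.node [(88, 1, 1, 1)] .nil .nil) .nil) (.node [(69, 1, 1, 1)] .nil (.node [(101, (-1), 1, 1)] .nil .nil))) (.node [] (.node [(62, 1, 1, 1)] (.node [] (.node [(108, 1, 1, 1)] .nil .nil) .nil) (.node [] (.node [(119, 1, 1, 1)] .nil .nil) .nil)) (.node [(79, 1, 1, 1)] (.node [(95, 1, 1, 1)] .nil .nil) .nil))) (.node [(41, (-1), 1, 1)] (.node [(50, (-1), 1, 1)] (.node [] (.node [] (.node [(106, (-1), 1, 1)] .nil .nil) .nil) .nil) (.node [(71, (-1), 1, 1)] .nil .nil)) (.node [] (.node [(64, 1, 1, 1)] .nil (.node [(99, 1, 1, 1)] (.node [(121, (-1), 1, 1)] .nil .nil) .nil)) (.node [(81, (-1), 1, 1)] (.node [(97, (-1), 1, 1)] .nil .nil) .nil)))))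
def C104 : List (ℕ × List (ℕ × ℤ)) := [(0, [(12, (-1))]), (2, [(34, (-1))]), (4, [(39, 1)]), (6, [(41, (-1))]), (8, [(48, 1)]), (10, [(50, (-1))]), (15, [(52, 1)]), (17, [(57, (-1))]), (19, [(59, 1)]), (20, [(62, 1)]), (22, [(64, 1)]), (24, [(69, 1)]), (26, [(71, (-1))]), (28, [(79, 1)]), (30, [(81, (-1))]), (32, [(88, 1)]), (37, [(93, (-1))]), (44, [(95, 1)]), (46, [(97, (-1))]), (54, [(99, 1)]), (56, [(101, (-1))]), (61, [(103, (-1))]), (63, [(105, (-1))]), (66, [(106, (-1))]), (68, [(108, 1)]), (73, [(110, (-1))]), (75, [(115, 1)]), (77, [(117, (-1))]), (84, [(119, 1)]), (86, [(121, (-1))]), (91, [(123, 1)]), (113, [(125, 1)])]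
def M105 : Tr (List (ℕ × ℤ × ℕ × ℕ)) := (.node [(13, 1, 1, 1)] (.node [] (.node [] (.node [] .nil (.node [(69, 1, 1, 1)] .nil .nil)) (.node [] (.node [] (.node [] (.node [(108, (-1), 1, 1)] .nil .nil) .nil) .nil) (.node [(79, 1, 1, 1)] (.node [(95, 1, 1, 1)] (.node [(116, 1, 1, 1)] .nil .nil) .nil) .nil))) (.node [(41, (-1), 1, 1)] (.node [(50, (-1), 1, 1)] (.node [(58, 1, 1, 1)] .nil .nil) (.node [] (.node [] (.node [(111, (-1), 1, 1)] .nil .nil) .nil) .nil)) (.node [] (.node [(63, 1, 1, 1)] .nil (.node [(99, 1, 1, 1)] (.node [(121, 1, 1, 1)] .nil .nil) .nil)) .nil))) (.node [(35, 1, 1, 1)] (.node [(40, (-1), 1, 1)] (.node [(49, (-1), 1, 1)] (.node [] (.node [(89, 1, 1, 1)] .nil .nil) (.node [] .nil (.node [(125, (-1), 1, 1)] .nil .nil))) (.node [] .nil (.node [(102, (-1), 1, 1)] .nil .nil))) (.node [] (.node [] (.node [(93, (-1), 1, 1)] .nil .nil) (.node [] (.node [(120, 1, 1, 1)] .nil .nil) .nil)) (.node [] (.node []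 (.node [(117, 1, 1, 1)] .nil .nil) .nil) (.node [(103, (-1), 1, 1)] .nil .nil)))) (.node [] (.node [] (.node [(59, 1, 1, 1)] (.node [] (.node [(107, (-1), 1, 1)] .nil .nil) .nil) .nil) (.node [(72, (-1), 1, 1)] .nil (.node [] (.node [(123, (-1), 1, 1)] .nil .nil) .nil))) (.node [(52, 1, 1, 1)] (.node [(65, 1, 1, 1)] .nil .nil) (.node [(82, (-1), 1, 1)] (.node [(98, (-1), 1, 1)] .nil .nil) (.node [(104, (-1), 1, 1)] .nil .nil))))))
def C105 : List (ℕ × List (ℕ × ℤ)) := [(0, [(13, 1)]), (2, [(35, 1)]), (4, [(40, (-1))]), (5, [(41, (-1))]), (8, [(49, (-1))]), (9, [(50, (-1))]), (14, [(52, 1)]), (17, [(58, 1)]), (18, [(59, 1)]), (21, [(63, 1)]), (22, [(65, 1)]), (23, [(69, 1)]), (26, [(72, (-1))]), (27, [(79, 1)]), (30, [(82, (-1))]), (32, [(89, 1)]), (36, [(93, (-1))]), (43, [(95, 1)]), (46, [(98, (-1))]), (53, [(99, 1)]), (56, [(102, (-1))]), (60, [(103, (-1))]), (62, [(104, (-1))]), (66, [(107, (-1))]), (67, [(108, (-1))]),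 (73, [(111, (-1))]), (75, [(116, 1)]), (76, [(117, 1)]), (84, [(120, 1)]), (85, [(121, 1)]), (90, [(123, (-1))]), (112, [(125, (-1))])]
def M106 : Tr (List (ℕ × ℤ × ℕ × ℕ)) := (.node [(14, 1, 1, 1)] (.node [] (.node [(39, 1, 1, 1)] (.node [(48, 1, 1, 1)] (.node [] (.node [] (.node [(107, (-1), 1, 1)] .nil .nil) .nil) (.node [] .nil (.node [(125, (-1), 1, 1)] .nil .nil))) (.node [] .nil (.node [(101, (-1), 1, 1)] .nil .nil))) (.node [] (.node [] (.node [(93, (-1), 1, 1)] .nil .nil) (.node [] (.node [(119, (-1), 1, 1)] .nil .nil) .nil)) (.node [] .nil (.node [(104, (-1), 1, 1)] .nil .nil)))) (.node [] (.node [] (.node [(60, (-1), 1, 1)] (.node [] (.node [(108, 1, 1, 1)] .nil .nil) .nil) .nil) (.node [(71, (-1), 1, 1)] (.node [] (.node [(112, (-1), 1, 1)] .nil .nil) .nil) (.node [] (.node [(123, (-1), 1, 1)] .nil .nil) .nil))) (.node [(52, 1, 1, 1)] (.node [(66, 1, 1, 1)] .nil .nil) (.node [(81, (-1), 1, 1)] (.node [(97, (-1),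 1, 1)] (.node [(118, (-1), 1, 1)] .nil .nil) .nil) .nil)))) (.node [(36, 1, 1, 1)] (.node [] (.node [] (.node [] (.node [(90, 1, 1, 1)] .nil .nil) .nil) (.node [(70, 1, 1, 1)] .nil .nil)) (.node [] .nil (.node [(80, 1, 1, 1)] (.node [(96, 1, 1, 1)] .nil .nil) .nil))) (.node [(42, 1, 1, 1)] (.node [(51, 1, 1, 1)] (.node [(62, 1, 1, 1)] .nil .nil) (.node [] (.node [] (.node [(115, (-1), 1, 1)] .nil .nil) .nil) (.node [(103, 1, 1, 1)] .nil .nil))) (.node [] (.node [(67, (-1), 1, 1)] .nil (.node [(100, 1, 1, 1)] (.node [(122, (-1), 1, 1)] .nil .nil) .nil)) .nil))))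
def C106 : List (ℕ × List (ℕ × ℤ)) := [(0, [(14, 1)]), (2, [(36, 1)]), (3, [(39, 1)]), (6, [(42, 1)]), (7, [(48, 1)]), (10, [(51, 1)]), (13, [(52, 1)]), (17, [(60, (-1))]), (18, [(62, 1)]), (21, [(66, 1)]), (22, [(67, (-1))]), (24, [(70, 1)]), (25, [(71, (-1))]), (28, [(80, 1)]), (29, [(81, (-1))]), (32, [(90, 1)]), (35, [(93, (-1))]), (44, [(96, 1)]), (45, [(97, (-1))]), (54, [(100, 1)]), (55, [(101, (-1))]), (58, [(103, 1)]), (59, [(104, (-1))]), (63, [(107, (-1))]), (65, [(108, 1)]), (73, [(112, (-1))]), (74, [(115, (-1))]), (77, [(118, (-1))]), (83, [(119, (-1))]), (86, [(122, (-1))]), (89, [(123, (-1))]), (111, [(125, (-1))])]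
def M107 : Tr (List (ℕ × ℤ × ℕ × ℕ)) := (.node [(15, (-1), 1, 1)] (.node [] (.node [(40, (-1), 1, 1)] (.node [(49, (-1), 1, 1)] .nil (.node [(70, 1, 1, 1)] .nil (.node [(102, (-1), 1, 1)] .nil .nil))) (.node [] (.node [(63, 1, 1, 1)] .nil (.node [] (.node [(120, (-1), 1, 1)] .nil .nil) .nil)) (.node [(80, 1, 1, 1)] (.node [(96, 1, 1, 1)] .nil .nil) (.node [(105, (-1), 1, 1)] .nil .nil)))) (.node [(42, 1, 1, 1)] (.node [(51, 1, 1, 1)] (.node [(61, 1, 1, 1)] .nil .nil) (.node [(72, (-1), 1, 1)] (.node [] (.node [(113, (-1), 1, 1)] .nil .nil) .nil) (.node [(103, 1, 1, 1)] .nil .nil))) (.node [] (.node [] .nil (.node [(100, 1, 1, 1)] (.node [(122, 1, 1, 1)] .nil .nil) .nil)) (.node [(82, (-1), 1, 1)] (.node [(98, (-1), 1, 1)] .nil .nil) .nil)))) (.node [(37, (-1), 1, 1)] (.node [] (.node [] (.node [] (.node [(91, 1, 1, 1)] (.node [(108, (-1), 1, 1)] .nil .nil) .nil) .nil) (.node [] .nil (.node [] (.node [(123, 1, 1, 1)] .nil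 .nil) .nil))) (.node [(52, 1, 1, 1)] (.node [(66, 1, 1, 1)] .nil .nil) (.node [] (.node [] (.node [(118, 1, 1, 1)] .nil .nil) .nil) .nil))) (.node [] (.node [] (.node [] (.node [(93, (-1), 1, 1)] .nil .nil) .nil) (.node [] (.node [] (.node [(116, (-1), 1, 1)] .nil .nil) .nil) .nil)) (.node [] (.node [(68, (-1), 1, 1)] .nil .nil) (.node [] (.node [] .nil (.node [(125, 1, 1, 1)] .nil .nil)) (.node [(106, (-1), 1, 1)] .nil .nil))))))
def C107 : List (ℕ × List (ℕ × ℤ)) := [(0, [(15, (-1))]), (2, [(37, (-1))]), (3, [(40, (-1))]), (5, [(42, 1)]), (7, [(49, (-1))]), (9, [(51, 1)]), (12, [(52, 1)]), (17, [(61, 1)]), (19, [(63, 1)]), (20, [(66, 1)]), (22, [(68, (-1))]), (23, [(70, 1)]), (25, [(72, (-1))]), (27, [(80, 1)]), (29, [(82, (-1))]), (32, [(91, 1)]), (34, [(93, (-1))]), (43, [(96, 1)]), (45, [(98, (-1))]), (53, [(100, 1)]), (55, [(102, (-1))]), (57, [(103, 1)]), (59, [(105, (-1))]), (62, [(106, (-1))]), (64, [(108, (-1))]),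 (73, [(113, (-1))]), (74, [(116, (-1))]), (76, [(118, 1)]), (83, [(120, (-1))]), (85, [(122, 1)]), (88, [(123, 1)]), (110, [(125, 1)])]
def M108 : Tr (List (ℕ × ℤ × ℕ × ℕ)) := (.node [(16, 1, 1, 1)] (.node [] (.node [(41, 1, 1, 1)] (.node [(50, 1, 1, 1)] .nil (.node [(71, 1, 1, 1)] .nil (.node [] (.node [(123, (-1), 1, 1)] .nil .nil) .nil))) (.node [(52, 1, 1, 1)] (.node [(65, (-1), 1, 1)] .nil (.node [] (.node [(121, (-1), 1, 1)] .nil .nil) .nil)) (.node [(81, 1, 1, 1)] (.node [(97, 1, 1, 1)] (.node [(118, (-1), 1, 1)] .nil .nil) .nil) .nil))) (.node [] (.node [] (.node [] (.node [(93, (-1), 1, 1)] .nil .nil) .nil) (.node [] (.node [] (.node [(114, (-1), 1, 1)] .nil .nil) .nil) (.node [(104, 1, 1, 1)] .nil .nil))) (.node [] (.node [(68, (-1), 1, 1)] .nil (.node [(101, 1, 1, 1)] .nil .nil)) (.node [] (.node [] .nil (.node [(125, (-1), 1, 1)] .nil .nil)) (.node [(107, (-1), 1, 1)] .nil .nil))))) (.node [(38, 1, 1, 1)] (.node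 [(42, 1, 1, 1)] (.node [(51, 1, 1, 1)] (.node [] (.node [(92, 1, 1, 1)] .nil .nil) .nil) (.node [(72, (-1), 1, 1)] .nil .nil)) (.node [] (.node [(67, 1, 1, 1)] .nil (.node [] (.node [(122, (-1), 1, 1)] .nil .nil) .nil)) (.node [(82, (-1), 1, 1)] (.node [(98, (-1), 1, 1)] .nil .nil) (.node [(106, 1, 1, 1)] .nil .nil)))) (.node [] (.node [] (.node [(64, 1, 1, 1)] .nil .nil) (.node [] (.node [] (.node [(117, (-1), 1, 1)] .nil .nil) .nil) (.node [(105, (-1), 1, 1)] .nil .nil))) (.node [] (.node [] .nil (.node [(102, (-1), 1, 1)] .nil .nil)) .nil))))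
def C108 : List (ℕ × List (ℕ × ℤ)) := [(0, [(16, 1)]), (2, [(38, 1)]), (3, [(41, 1)]), (4, [(42, 1)]), (7, [(50, 1)]), (8, [(51, 1)]), (11, [(52, 1)]), (18, [(64, 1)]), (19, [(65, (-1))]), (20, [(67, 1)]), (21, [(68, (-1))]), (23, [(71, 1)]), (24, [(72, (-1))]), (27, [(81, 1)]), (28, [(82, (-1))]), (32, [(92, 1)]), (33, [(93, (-1))]), (43, [(97, 1)]), (44, [(98, (-1))]), (53, [(101, 1)]), (54, [(102, (-1))]), (57, [(104, 1)]), (58, [(105, (-1))]), (60, [(106, 1)]), (61, [(107, (-1))]), (73, [(114, (-1))]), (74, [(117, (-1))]), (75, [(118, (-1))]), (83, [(121, (-1))]), (84, [(122, (-1))]), (87, [(123, (-1))]), (109, [(125, (-1))])]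
def M109 : Tr (List (ℕ × ℤ × ℕ × ℕ)) := (.node [(17, (-1), 1, 1)] (.node [(33, 1, 1, 1)] (.node [] (.node [] (.node [(61, 1, 1, 1)] (.node [(87, 1, 1, 1)] .nil .nil) .nil) (.node [] (.node [] (.node [(115, (-1), 1, 1)] .nil .nil) .nil) .nil)) (.node [] (.node [] (.node [] (.node [(112, 1, 1, 1)] .nil .nil) .nil) (.node [(100, 1, 1, 1)] .nil .nil)) .nil)) (.node [(43, (-1), 1, 1)] (.node [(53, 1, 1, 1)] (.node [] (.node [] (.node [(111, (-1), 1, 1)] .nil .nil) .nil) (.node [] (.node [(119, 1, 1, 1)] .nil .nil) .nil)) (.node [(74, (-1), 1, 1)] (.node [(95, 1, 1, 1)] .nil .nil) .nil)) (.node [(58, (-1), 1, 1)] .nil (.node [(83, 1, 1, 1)] .nil .nil)))) (.node [] (.node [] (.node [] (.node [] (.node [] (.node [(110, (-1), 1, 1)] .nil .nil) .nil) .nil) (.node [] (.node [] (.node [(116, (-1), 1, 1)] .nil .nil) .nil) .nil)) (.node [(57, (-1), 1, 1)] (.node [] (.node [] (.node [(113, 1, 1, 1)] .nil .nil) .nil) (.node [(103, (-1),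 1, 1)] .nil .nil)) (.node [] (.node [] .nil (.node [(125, 1, 1, 1)] .nil .nil)) (.node [] (.node [(124, (-1), 1, 1)] .nil .nil) .nil)))) (.node [(44, (-1), 1, 1)] (.node [(54, 1, 1, 1)] (.node [] .nil (.node [(99, (-1), 1, 1)] (.node [(120, 1, 1, 1)] .nil .nil) .nil)) (.node [(75, 1, 1, 1)] (.node [(96, (-1), 1, 1)] .nil .nil) .nil)) (.node [(60, 1, 1, 1)] (.node [(73, 1, 1, 1)] (.node [(94, (-1), 1, 1)] .nil .nil) .nil) (.node [(84, (-1), 1, 1)] .nil .nil)))))
def C109 : List (ℕ × List (ℕ × ℤ)) := [(0, [(17, (-1))]), (1, [(33, 1)]), (5, [(43, (-1))]), (6, [(44, (-1))]), (9, [(53, 1)]), (10, [(54, 1)]), (12, [(57, (-1))]), (13, [(58, (-1))]), (14, [(60, 1)]), (15, [(61, 1)]), (22, [(73, 1)]), (25, [(74, (-1))]), (26, [(75, 1)]), (29, [(83, 1)]), (30, [(84, (-1))]), (31, [(87, 1)]), (38, [(94, (-1))]), (41, [(95, 1)]), (42, [(96, (-1))]), (50, [(99, (-1))]), (51, [(100, 1)]), (52, [(103, (-1))]), (64, [(110, (-1))]), (65,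 [(111, (-1))]), (67, [(112, 1)]), (68, [(113, 1)]), (71, [(115, (-1))]), (72, [(116, (-1))]), (81, [(119, 1)]), (82, [(120, 1)]), (92, [(124, (-1))]), (108, [(125, 1)])]
def M110 : Tr (List (ℕ × ℤ × ℕ × ℕ)) := (.node [(18, 1, 1, 1)] (.node [(34, (-1), 1, 1)] (.node [] (.node [] (.node [] (.node [(88, 1, 1, 1)] (.node [(111, (-1), 1, 1)] .nil .nil) .nil) .nil) .nil) (.node [(57, (-1), 1, 1)] (.node [] .nil (.node [(101, 1, 1, 1)] .nil .nil)) (.node [] (.node [] .nil (.node [(125, (-1), 1, 1)] .nil .nil)) (.node [] (.node [(124, 1, 1, 1)] .nil .nil) .nil)))) (.node [] (.node [] (.node [] .nil (.node [(99, (-1), 1, 1)] .nil .nil)) .nil) (.node [(59, 1, 1, 1)] (.node [(73, 1, 1, 1)] (.node [(94, (-1), 1, 1)] .nil .nil) .nil) (.node [] .nil (.node [(109, (-1), 1, 1)] .nil .nil))))) (.node [] (.node [(43, (-1), 1, 1)] (.node [(53, 1, 1, 1)] (.node [(64, 1, 1, 1)] .nil (.node [] (.node [(119, (-1), 1, 1)] .nil .nil) .nil)) (.node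 [(74, (-1), 1, 1)] (.node [(95, 1, 1, 1)] (.node [(117, (-1), 1, 1)] .nil .nil) .nil) .nil)) (.node [] (.node [] (.node [] (.node [(114, 1, 1, 1)] .nil .nil) .nil) (.node [(104, (-1), 1, 1)] .nil .nil)) (.node [(83, 1, 1, 1)] .nil .nil))) (.node [(45, 1, 1, 1)] (.node [(55, (-1), 1, 1)] (.node [] (.node [] (.node [(112, (-1), 1, 1)] .nil .nil) .nil) (.node [] (.node [(121, 1, 1, 1)] .nil .nil) .nil)) (.node [(76, 1, 1, 1)] (.node [(97, (-1), 1, 1)] .nil .nil) .nil)) (.node [(62, 1, 1, 1)] (.node [] (.node [] (.node [(115, 1, 1, 1)] .nil .nil) .nil) .nil) (.node [(85, (-1), 1, 1)] .nil .nil)))))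
def C110 : List (ℕ × List (ℕ × ℤ)) := [(0, [(18, 1)]), (1, [(34, (-1))]), (4, [(43, (-1))]), (6, [(45, 1)]), (8, [(53, 1)]), (10, [(55, (-1))]), (11, [(57, (-1))]), (13, [(59, 1)]), (14, [(62, 1)]), (16, [(64, 1)]), (21, [(73, 1)]), (24, [(74, (-1))]), (26, [(76, 1)]), (28, [(83, 1)]), (30, [(85, (-1))]), (31, [(88, 1)]), (37, [(94, (-1))]), (40, [(95, 1)]), (42, [(97, (-1))]), (49, [(99, (-1))]), (51, [(101, 1)]), (52, [(104, (-1))]), (61, [(109, (-1))]), (63, [(111, (-1))]), (66, [(112, (-1))]), (68, [(114, 1)]), (70, [(115, 1)]), (72, [(117, (-1))]), (80, [(119, (-1))]), (82, [(121, 1)]), (91, [(124, 1)]), (107, [(125, (-1))])]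
def M111 : Tr (List (ℕ × ℤ × ℕ × ℕ)) := (.node [(19, (-1), 1, 1)] (.node [(35, 1, 1, 1)] (.node [] (.node [] (.node [(63, 1, 1, 1)] (.node [(89, 1, 1, 1)] .nil .nil) .nil) (.node [(74, (-1), 1, 1)] (.node [(95, 1, 1, 1)] (.node [(117, 1, 1, 1)] .nil .nil) .nil) .nil)) (.node [(58, 1, 1, 1)] (.node [] (.node [] (.node [(114, (-1), 1, 1)] .nil .nil) .nil) (.node [(102, 1, 1, 1)] .nil .nil)) (.node [(83, 1, 1, 1)] .nil .nil))) (.node [(45, 1, 1, 1)] (.node [(55, (-1), 1, 1)] (.node [] .nil (.node [] (.node [(121, (-1), 1, 1)] .nil .nil) .nil)) .nil) .nil)) (.node [] (.node [(44, 1, 1, 1)] (.node [(54, (-1), 1, 1)] (.node [(65, 1, 1, 1)] .nil (.node [(99, (-1), 1, 1)] (.node [(120, (-1), 1, 1)] .nil .nil) .nil)) .nil) (.node [(59, 1, 1, 1)] (.node [(73, 1, 1, 1)] (.node [(94, (-1), 1, 1)] .nil .nil) (.node [(105, (-1), 1, 1)] .nil .nil)) (.node [] .nil (.node [(109, (-1), 1, 1)] .nil .nil)))) (.node [] (.node [] (.node [] (.node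 [] (.node [(113, (-1), 1, 1)] .nil .nil) .nil) .nil) (.node [(77, 1, 1, 1)] (.node [(98, (-1), 1, 1)] .nil (.node [(125, 1, 1, 1)] .nil .nil)) (.node [] (.node [(124, (-1), 1, 1)] .nil .nil) .nil))) (.node [] (.node [] (.node [] (.node [(116, 1, 1, 1)] .nil .nil) .nil) .nil) (.node [(86, (-1), 1, 1)] .nil (.node [(110, (-1), 1, 1)] .nil .nil))))))
def C111 : List (ℕ × List (ℕ × ℤ)) := [(0, [(19, (-1))]), (1, [(35, 1)]), (4, [(44, 1)]), (5, [(45, 1)]), (8, [(54, (-1))]), (9, [(55, (-1))]), (11, [(58, 1)]), (12, [(59, 1)]), (15, [(63, 1)]), (16, [(65, 1)]), (20, [(73, 1)]), (23, [(74, (-1))]), (26, [(77, 1)]), (27, [(83, 1)]), (30, [(86, (-1))]), (31, [(89, 1)]), (36, [(94, (-1))]), (39, [(95, 1)]), (42, [(98, (-1))]), (48, [(99, (-1))]), (51, [(102, 1)]), (52, [(105, (-1))]), (60, [(109, (-1))]), (62, [(110, (-1))]), (66, [(113, (-1))]), (67, [(114, (-1))]), (70, [(116, 1)]), (71, [(117, 1)]), (80, [(120, (-1))]), (81, [(121,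 (-1))]), (90, [(124, (-1))]), (106, [(125, 1)])]
def M112 : Tr (List (ℕ × ℤ × ℕ × ℕ)) := (.node [(20, (-1), 1, 1)] (.node [(36, 1, 1, 1)] (.node [(43, (-1), 1, 1)] (.node [(53, 1, 1, 1)] (.node [(66, 1, 1, 1)] (.node [(90, 1, 1, 1)] (.node [(113, (-1), 1, 1)] .nil .nil) .nil) (.node [] (.node [(119, 1, 1, 1)] .nil .nil) .nil)) .nil) (.node [(60, (-1), 1, 1)] (.node [(73, 1, 1, 1)] (.node [(94, (-1), 1, 1)] .nil .nil) .nil) (.node [] .nil (.node [(110, (-1), 1, 1)] .nil .nil)))) (.node [] (.node [] (.node [] (.node [] (.node [(114, 1, 1, 1)] .nil .nil) .nil) (.node [(100, (-1), 1, 1)] .nil .nil)) (.node [(76, 1, 1, 1)] (.node [(97, (-1), 1, 1)] .nil (.node [(125, 1, 1, 1)] .nil .nil)) (.node [] (.node [(124, (-1), 1, 1)] .nil .nil) .nil))) (.node [] (.node [] (.node [] (.node [(115, (-1), 1, 1)] .nil .nil) .nil) .nil) (.node [(85, (-1), 1, 1)] .nil .nil)))) (.node [] (.node [] (.node [] (.node [(67, (-1), 1, 1)] .nil .nil)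 (.node [(75, (-1), 1, 1)] (.node [(96, 1, 1, 1)] (.node [(118, (-1), 1, 1)] .nil .nil) .nil) .nil)) (.node [(62, 1, 1, 1)] (.node [] .nil (.node [(106, (-1), 1, 1)] .nil .nil)) (.node [(84, 1, 1, 1)] .nil .nil))) (.node [(46, (-1), 1, 1)] (.node [(56, 1, 1, 1)] (.node [] .nil (.node [(101, 1, 1, 1)] (.node [(122, 1, 1, 1)] .nil .nil) .nil)) (.node [] .nil (.node [(109, 1, 1, 1)] .nil .nil))) .nil)))
def C112 : List (ℕ × List (ℕ × ℤ)) := [(0, [(20, (-1))]), (1, [(36, 1)]), (3, [(43, (-1))]), (6, [(46, (-1))]), (7, [(53, 1)]), (10, [(56, 1)]), (11, [(60, (-1))]), (12, [(62, 1)]), (15, [(66, 1)]), (16, [(67, (-1))]), (19, [(73, 1)]), (24, [(75, (-1))]), (25, [(76, 1)]), (28, [(84, 1)]), (29, [(85, (-1))]), (31, [(90, 1)]), (35, [(94, (-1))]), (40, [(96, 1)]), (41, [(97, (-1))]), (49, [(100, (-1))]), (50, [(101, 1)]), (52, [(106, (-1))]), (58, [(109, 1)]), (59, [(110, (-1))]), (63, [(113, (-1))]), (65, [(114, 1)]), (69, [(115,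 (-1))]), (72, [(118, (-1))]), (79, [(119, 1)]), (82, [(122, 1)]), (89, [(124, (-1))]), (105, [(125, 1)])]
def M113 : Tr (List (ℕ × ℤ × ℕ × ℕ)) := (.node [(21, 1, 1, 1)] (.node [(37, (-1), 1, 1)] (.node [(44, 1, 1, 1)] (.node [(54, (-1), 1, 1)] (.node [] (.node [(91, 1, 1, 1)] .nil .nil) (.node [] (.node [(120, 1, 1, 1)] .nil .nil) .nil)) (.node [(75, (-1), 1, 1)] (.node [(96, 1, 1, 1)] (.node [(118, 1, 1, 1)] .nil .nil) .nil) .nil)) (.node [(61, 1, 1, 1)] .nil (.node [(84, 1, 1, 1)] .nil (.node [(111, (-1), 1, 1)] .nil .nil)))) (.node [(46, (-1), 1, 1)] (.node [(56, 1, 1, 1)] (.node [] .nil (.node [] (.node [(122, (-1), 1, 1)] .nil .nil) .nil)) (.node [(77, 1, 1, 1)] (.node [(98, (-1), 1, 1)] .nil .nil) (.node [(109, 1, 1, 1)] .nil .nil))) (.node [(63, 1, 1, 1)] (.node [] (.node [] (.node [(116, (-1), 1, 1)] .nil .nil) .nil) .nil) (.node [(86, (-1), 1, 1)] .nil .nil)))) (.node [] (.node [] (.node [] (.node [(68, (-1), 1,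 1)] (.node [] (.node [(114, (-1), 1, 1)] .nil .nil) .nil) (.node [(100, (-1), 1, 1)] .nil .nil)) (.node [] (.node [] .nil (.node [(125, (-1), 1, 1)] .nil .nil)) (.node [] (.node [(124, 1, 1, 1)] .nil .nil) .nil))) (.node [] (.node [] .nil (.node [(107, (-1), 1, 1)] .nil .nil)) .nil)) (.node [] (.node [] (.node [(73, 1, 1, 1)] (.node [(94, (-1), 1, 1)] .nil .nil) (.node [(102, 1, 1, 1)] .nil .nil)) .nil) (.node [(66, 1, 1, 1)] .nil (.node [] .nil (.node [(112, (-1), 1, 1)] .nil .nil))))))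
def C113 : List (ℕ × List (ℕ × ℤ)) := [(0, [(21, 1)]), (1, [(37, (-1))]), (3, [(44, 1)]), (5, [(46, (-1))]), (7, [(54, (-1))]), (9, [(56, 1)]), (11, [(61, 1)]), (13, [(63, 1)]), (14, [(66, 1)]), (16, [(68, (-1))]), (18, [(73, 1)]), (23, [(75, (-1))]), (25, [(77, 1)]), (27, [(84, 1)]), (29, [(86, (-1))]), (31, [(91, 1)]), (34, [(94, (-1))]), (39, [(96, 1)]), (41, [(98, (-1))]), (48, [(100, (-1))]), (50, [(102, 1)]), (52, [(107, (-1))]), (57, [(109, 1)]), (59, [(111, (-1))]), (62, [(112, (-1))]), (64, [(114, (-1))]), (69, [(116, (-1))]), (71, [(118, 1)]), (79, [(120, 1)]), (81, [(122, (-1))]), (88, [(124, 1)]), (104, [(125, (-1))])]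
def M114 : Tr (List (ℕ × ℤ × ℕ × ℕ)) := (.node [(22, (-1), 1, 1)] (.node [(38, 1, 1, 1)] (.node [(45, (-1), 1, 1)] (.node [(55, 1, 1, 1)] (.node [(68, (-1), 1, 1)] (.node [(92, 1, 1, 1)] .nil .nil) (.node [] (.node [(121, 1, 1, 1)] .nil .nil) .nil)) (.node [(76, (-1), 1, 1)] (.node [(97, 1, 1, 1)] .nil (.node [(125, 1, 1, 1)] .nil .nil)) (.node [] (.node [(124, (-1), 1, 1)] .nil .nil) .nil))) (.node [] .nil (.node [(85, 1, 1, 1)] .nil .nil))) (.node [] (.node [] (.node [(73, 1, 1, 1)] (.node [(94, (-1), 1, 1)] .nil .nil) (.node [(102, 1, 1, 1)] .nil .nil)) (.node [] .nil (.node [(110, 1, 1, 1)] .nil .nil))) (.node [(65, (-1), 1, 1)] (.node [] (.node [] (.node [(117, (-1), 1, 1)] .nil .nil) .nil) .nil) (.node [] .nil (.node [(113, (-1), 1, 1)] .nil .nil))))) (.node [] (.node [(46, (-1), 1, 1)] (.node [(56, 1, 1, 1)] (.node [] .nil (.node [(101, (-1), 1, 1)] (.node [(122, 1, 1, 1)] .nil .nil) .nil)) (.node [(77, 1, 1, 1)]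 (.node [(98, (-1), 1, 1)] .nil .nil) .nil)) (.node [(64, 1, 1, 1)] (.node [] .nil (.node [(108, (-1), 1, 1)] .nil .nil)) (.node [(86, (-1), 1, 1)] .nil (.node [(112, 1, 1, 1)] .nil .nil)))) (.node [] (.node [] .nil (.node [] .nil (.node [(111, (-1), 1, 1)] .nil .nil))) (.node [(67, 1, 1, 1)] (.node [] (.node [] (.node [(118, (-1), 1, 1)] .nil .nil) .nil) .nil) .nil))))
def C114 : List (ℕ × List (ℕ × ℤ)) := [(0, [(22, (-1))]), (1, [(38, 1)]), (3, [(45, (-1))]), (4, [(46, (-1))]), (7, [(55, 1)]), (8, [(56, 1)]), (12, [(64, 1)]), (13, [(65, (-1))]), (14, [(67, 1)]), (15, [(68, (-1))]), (17, [(73, 1)]), (23, [(76, (-1))]), (24, [(77, 1)]), (27, [(85, 1)]), (28, [(86, (-1))]), (31, [(92, 1)]), (33, [(94, (-1))]), (39, [(97, 1)]), (40, [(98, (-1))]), (48, [(101, (-1))]), (49, [(102, 1)]), (52, [(108, (-1))]), (57, [(110, 1)]), (58, [(111, (-1))]), (60, [(112, 1)]), (61, [(113, (-1))]), (69, [(117, (-1))]), (70, [(118, (-1))]),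 (79, [(121, 1)]), (80, [(122, 1)]), (87, [(124, (-1))]), (103, [(125, 1)])]
def M115 : Tr (List (ℕ × ℤ × ℕ × ℕ)) := (.node [(23, 1, 1, 1)] (.node [(39, (-1), 1, 1)] (.node [] (.node [(57, 1, 1, 1)] (.node [(70, (-1), 1, 1)] (.node [] (.node [(116, (-1), 1, 1)] .nil .nil) .nil) .nil) (.node [] .nil (.node [(110, 1, 1, 1)] .nil .nil))) (.node [] (.node [(74, 1, 1, 1)] (.node [(95, (-1), 1, 1)] .nil .nil) (.node [(106, (-1), 1, 1)] .nil .nil)) .nil)) (.node [] (.node [(62, 1, 1, 1)] (.node [] (.node [] (.node [(117, 1, 1, 1)] .nil .nil) .nil) (.node [(103, (-1), 1, 1)] .nil .nil)) .nil) (.node [(69, 1, 1, 1)] (.node [(75, (-1), 1, 1)] (.node [(96, 1, 1, 1)] .nil .nil) .nil) (.node [(88, (-1), 1, 1)] .nil .nil)))) (.node [(43, (-1), 1, 1)] (.node [] (.node [(60, (-1), 1, 1)] (.node [(71, 1, 1, 1)] .nil .nil) (.node [] .nil (.node [(112, (-1), 1, 1)] .nil .nil))) (.node [] (.node [] (.node [] (.node [(118, (-1), 1, 1)] .nil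 .nil) .nil) .nil) (.node [(87, 1, 1, 1)] .nil .nil))) (.node [(47, 1, 1, 1)] (.node [] (.node [] .nil (.node [(104, 1, 1, 1)] (.node [(123, 1, 1, 1)] .nil .nil) .nil)) .nil) (.node [] (.node [(76, 1, 1, 1)] (.node [(97, (-1), 1, 1)] .nil (.node [(125, (-1), 1, 1)] .nil .nil)) (.node [(109, (-1), 1, 1)] (.node [(124, 1, 1, 1)] .nil .nil) .nil)) (.node [(90, 1, 1, 1)] (.node [] (.node [(119, (-1), 1, 1)] .nil .nil) .nil) .nil)))))
def C115 : List (ℕ × List (ℕ × ℤ)) := [(0, [(23, 1)]), (1, [(39, (-1))]), (2, [(43, (-1))]), (6, [(47, 1)]), (7, [(57, 1)]), (8, [(60, (-1))]), (9, [(62, 1)]), (13, [(69, 1)]), (15, [(70, (-1))]), (16, [(71, 1)]), (19, [(74, 1)]), (21, [(75, (-1))]), (22, [(76, 1)]), (28, [(87, 1)]), (29, [(88, (-1))]), (30, [(90, 1)]), (35, [(95, (-1))]), (37, [(96, 1)]), (38, [(97, (-1))]), (49, [(103, (-1))]), (50, [(104, 1)]), (51, [(106, (-1))]), (54, [(109, (-1))]), (55, [(110, 1)]), (56, [(112, (-1))]), (63,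 [(116, (-1))]), (65, [(117, 1)]), (68, [(118, (-1))]), (78, [(119, (-1))]), (82, [(123, 1)]), (86, [(124, 1)]), (102, [(125, (-1))])]
def M116 : Tr (List (ℕ × ℤ × ℕ × ℕ)) := (.node [(24, (-1), 1, 1)] (.node [(40, 1, 1, 1)] (.node [] (.node [(58, (-1), 1, 1)] .nil (.node [] .nil (.node [(111, 1, 1, 1)] .nil .nil))) (.node [] (.node [] (.node [] (.node [(118, 1, 1, 1)] .nil .nil) .nil) (.node [(107, (-1), 1, 1)] .nil .nil)) (.node [(87, 1, 1, 1)] .nil .nil))) (.node [(47, 1, 1, 1)] (.node [] (.node [] .nil (.node [] (.node [(123, (-1), 1, 1)] .nil .nil) .nil)) .nil) (.node [] (.node [] (.node [] .nil (.node [(125, 1, 1, 1)] .nil .nil)) (.node [(109, (-1), 1, 1)] (.node [(124, (-1), 1, 1)] .nil .nil) .nil)) (.node [(89, (-1), 1, 1)] .nil .nil)))) (.node [(44, 1, 1, 1)] (.node [] (.node [(61, 1, 1, 1)] (.node [(72, 1, 1, 1)] (.node [] (.node [(117, (-1), 1, 1)] .nil .nil) .nil) (.node [(103, (-1), 1, 1)] .nil .nil)) (.node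 [] .nil (.node [(113, (-1), 1, 1)] .nil .nil))) (.node [(69, 1, 1, 1)] (.node [(75, (-1), 1, 1)] (.node [(96, 1, 1, 1)] .nil .nil) .nil) .nil)) (.node [] (.node [(63, 1, 1, 1)] (.node [(74, 1, 1, 1)] (.node [(95, (-1), 1, 1)] .nil .nil) (.node [(105, 1, 1, 1)] .nil .nil)) .nil) (.node [(70, (-1), 1, 1)] (.node [(77, 1, 1, 1)] (.node [(98, (-1), 1, 1)] .nil .nil) .nil) (.node [(91, 1, 1, 1)] (.node [] (.node [(120, (-1), 1, 1)] .nil .nil) .nil) (.node [(115, (-1), 1, 1)] .nil .nil))))))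
def C116 : List (ℕ × List (ℕ × ℤ)) := [(0, [(24, (-1))]), (1, [(40, 1)]), (2, [(44, 1)]), (5, [(47, 1)]), (7, [(58, (-1))]), (8, [(61, 1)]), (10, [(63, 1)]), (12, [(69, 1)]), (14, [(70, (-1))]), (16, [(72, 1)]), (18, [(74, 1)]), (20, [(75, (-1))]), (22, [(77, 1)]), (27, [(87, 1)]), (29, [(89, (-1))]), (30, [(91, 1)]), (34, [(95, (-1))]), (36, [(96, 1)]), (38, [(98, (-1))]), (48, [(103, (-1))]), (50, [(105, 1)]), (51, [(107, (-1))]), (53, [(109, (-1))]), (55, [(111, 1)]), (56, [(113, (-1))]), (62, [(115, (-1))]), (64, [(117, (-1))]), (67, [(118, 1)]), (78, [(120, (-1))]), (81, [(123, (-1))]), (85, [(124, (-1))]), (101, [(125, 1)])]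
def M117 : Tr (List (ℕ × ℤ × ℕ × ℕ)) := (.node [(25, 1, 1, 1)] (.node [(41, (-1), 1, 1)] (.node [] (.node [(59, 1, 1, 1)] (.node [(72, 1, 1, 1)] .nil .nil) .nil) (.node [(69, 1, 1, 1)] (.node [] .nil (.node [(108, (-1), 1, 1)] .nil .nil)) (.node [(88, 1, 1, 1)] .nil .nil))) (.node [] (.node [(64, 1, 1, 1)] (.node [(74, 1, 1, 1)] (.node [(95, (-1), 1, 1)] .nil .nil) (.node [(105, 1, 1, 1)] .nil .nil)) .nil) (.node [] (.node [(77, 1, 1, 1)] (.node [(98, (-1), 1, 1)] .nil .nil) (.node [(110, (-1), 1, 1)] .nil .nil)) (.node [] .nil (.node [(116, (-1), 1, 1)] .nil .nil))))) (.node [(45, (-1), 1, 1)] (.node [(47, 1, 1, 1)] (.node [] (.node [] .nil (.node [(104, (-1), 1, 1)] (.node [(123, 1, 1, 1)] .nil .nil) .nil)) (.node [] .nil (.node [(114, (-1), 1, 1)] .nil .nil))) (.node [] (.node [(76, (-1), 1, 1)] (.node [(97, 1, 1, 1)] .nil (.node [(125, (-1), 1, 1)] .nil .nil)) (.node [] (.node [(124, 1, 1, 1)] .nil .nil) .nil)) (.node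 [(89, (-1), 1, 1)] .nil (.node [(115, 1, 1, 1)] .nil .nil)))) (.node [] (.node [(65, (-1), 1, 1)] (.node [] (.node [] (.node [(118, (-1), 1, 1)] .nil .nil) .nil) .nil) .nil) (.node [(71, (-1), 1, 1)] (.node [] .nil (.node [(111, 1, 1, 1)] .nil .nil)) (.node [(92, 1, 1, 1)] (.node [] (.node [(121, (-1), 1, 1)] .nil .nil) .nil) .nil)))))
def C117 : List (ℕ × List (ℕ × ℤ)) := [(0, [(25, 1)]), (1, [(41, (-1))]), (2, [(45, (-1))]), (4, [(47, 1)]), (7, [(59, 1)]), (9, [(64, 1)]), (10, [(65, (-1))]), (11, [(69, 1)]), (14, [(71, (-1))]), (15, [(72, 1)]), (17, [(74, 1)]), (20, [(76, (-1))]), (21, [(77, 1)]), (27, [(88, 1)]), (28, [(89, (-1))]), (30, [(92, 1)]), (33, [(95, (-1))]), (36, [(97, 1)]), (37, [(98, (-1))]), (48, [(104, (-1))]), (49, [(105, 1)]), (51, [(108, (-1))]), (53, [(110, (-1))]), (54, [(111, 1)]), (56, [(114, (-1))]), (60, [(115, 1)]), (61, [(116, (-1))]), (66, [(118, (-1))]), (78, [(121, (-1))]), (80, [(123, 1)]),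 (84, [(124, 1)]), (100, [(125, (-1))])]
def M118 : Tr (List (ℕ × ℤ × ℕ × ℕ)) := (.node [(26, (-1), 1, 1)] (.node [(42, 1, 1, 1)] (.node [(47, 1, 1, 1)] (.node [] (.node [] .nil (.node [] (.node [(123, (-1), 1, 1)] .nil .nil) .nil)) (.node [] .nil (.node [(114, (-1), 1, 1)] .nil .nil))) (.node [(70, 1, 1, 1)] (.node [(77, 1, 1, 1)] (.node [(98, (-1), 1, 1)] .nil (.node [(125, 1, 1, 1)] .nil .nil)) (.node [] (.node [(124, (-1), 1, 1)] .nil .nil) .nil)) (.node [(90, 1, 1, 1)] .nil (.node [(117, (-1), 1, 1)] .nil .nil)))) (.node [] (.node [(67, (-1), 1, 1)] (.node [(75, 1, 1, 1)] (.node [(96, (-1), 1, 1)] .nil .nil) (.node [(107, 1, 1, 1)] .nil .nil)) (.node [] .nil (.node [(115, (-1), 1, 1)] .nil .nil))) (.node [(72, 1, 1, 1)] (.node [] .nil (.node [(112, (-1), 1, 1)] .nil .nil)) (.node [(92, 1, 1, 1)] .nil .nil)))) (.node [(46, 1, 1, 1)] (.node [] (.node [(66, 1, 1, 1)] (.node [] .nil (.node [(106, (-1), 1, 1)] .nil .nil))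 .nil) (.node [(71, (-1), 1, 1)] .nil (.node [(91, (-1), 1, 1)] .nil .nil))) (.node [] (.node [(68, 1, 1, 1)] (.node [(76, (-1), 1, 1)] (.node [(97, 1, 1, 1)] .nil .nil) (.node [(108, (-1), 1, 1)] .nil .nil)) (.node [] .nil (.node [(116, 1, 1, 1)] .nil .nil))) (.node [] (.node [] .nil (.node [(113, 1, 1, 1)] .nil .nil)) (.node [] (.node [] (.node [(122, (-1), 1, 1)] .nil .nil) .nil) .nil)))))
def C118 : List (ℕ × List (ℕ × ℤ)) := [(0, [(26, (-1))]), (1, [(42, 1)]), (2, [(46, 1)]), (3, [(47, 1)]), (8, [(66, 1)]), (9, [(67, (-1))]), (10, [(68, 1)]), (11, [(70, 1)]), (12, [(71, (-1))]), (13, [(72, 1)]), (17, [(75, 1)]), (18, [(76, (-1))]), (19, [(77, 1)]), (27, [(90, 1)]), (28, [(91, (-1))]), (29, [(92, 1)]), (33, [(96, (-1))]), (34, [(97, 1)]), (35, [(98, (-1))]), (48, [(106, (-1))]), (49, [(107, 1)]), (50, [(108, (-1))]), (53, [(112, (-1))]), (54, [(113, 1)]), (55, [(114, (-1))]), (57, [(115, (-1))]), (58, [(116, 1)]), (59,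 [(117, (-1))]), (78, [(122, (-1))]), (79, [(123, (-1))]), (83, [(124, (-1))]), (99, [(125, 1)])]
def M119 : Tr (List (ℕ × ℤ × ℕ × ℕ)) := (.node [(27, (-1), 1, 1)] (.node [(48, 1, 1, 1)] (.node [(57, 1, 1, 1)] (.node [] (.node [(80, 1, 1, 1)] (.node [] (.node [(120, (-1), 1, 1)] .nil .nil) .nil) (.node [(115, (-1), 1, 1)] .nil .nil)) .nil) (.node [] (.node [(83, 1, 1, 1)] (.node [(99, (-1), 1, 1)] .nil .nil) .nil) .nil)) (.node [(62, 1, 1, 1)] (.node [] (.node [] (.node [] (.node [(121, 1, 1, 1)] .nil .nil) .nil) .nil) (.node [(88, (-1), 1, 1)] (.node [(104, 1, 1, 1)] .nil .nil) .nil)) (.node [(79, (-1), 1, 1)] (.node [(84, (-1), 1, 1)] (.node [(100, 1, 1, 1)] .nil .nil) .nil) (.node [] (.node [(110, (-1), 1, 1)] (.node [(124, (-1), 1, 1)] .nil .nil) .nil) .nil)))) (.node [(53, (-1), 1, 1)] (.node [(60, (-1), 1, 1)] (.node [] (.node [(81, (-1), 1, 1)] .nil .nil) (.node [(87, 1, 1, 1)] (.node [(103, (-1), 1, 1)] (.node [(123,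 1, 1, 1)] .nil .nil) .nil) .nil)) (.node [] (.node [] (.node [] (.node [(122, (-1), 1, 1)] .nil .nil) .nil) .nil) (.node [] (.node [(109, 1, 1, 1)] .nil .nil) .nil))) (.node [] (.node [(78, 1, 1, 1)] (.node [] (.node [] .nil (.node [(125, 1, 1, 1)] .nil .nil)) .nil) (.node [(90, 1, 1, 1)] (.node [(106, (-1), 1, 1)] .nil .nil) .nil)) (.node [] (.node [(85, 1, 1, 1)] (.node [(101, (-1), 1, 1)] .nil .nil) .nil) (.node [] (.node [(112, 1, 1, 1)] .nil .nil) .nil)))))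
def C119 : List (ℕ × List (ℕ × ℤ)) := [(0, [(27, (-1))]), (1, [(48, 1)]), (2, [(53, (-1))]), (3, [(57, 1)]), (4, [(60, (-1))]), (5, [(62, 1)]), (10, [(78, 1)]), (13, [(79, (-1))]), (15, [(80, 1)]), (16, [(81, (-1))]), (19, [(83, 1)]), (21, [(84, (-1))]), (22, [(85, 1)]), (24, [(87, 1)]), (25, [(88, (-1))]), (26, [(90, 1)]), (35, [(99, (-1))]), (37, [(100, 1)]), (38, [(101, (-1))]), (40, [(103, (-1))]), (41, [(104, 1)]), (42, [(106, (-1))]), (44, [(109, 1)]), (45, [(110, (-1))]), (46, [(112, 1)]), (47, [(115, (-1))]), (63, [(120, (-1))]), (65, [(121, 1)]), (68, [(122, (-1))]), (72, [(123, 1)]), (77, [(124, (-1))]), (98, [(125, 1)])]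
def M120 : Tr (List (ℕ × ℤ × ℕ × ℕ)) := (.node [(28, 1, 1, 1)] (.node [(49, (-1), 1, 1)] (.node [(58, (-1), 1, 1)] (.node [] (.node [] .nil (.node [(116, (-1), 1, 1)] .nil .nil)) (.node [(87, 1, 1, 1)] (.node [(103, (-1), 1, 1)] (.node [(123, (-1), 1, 1)] .nil .nil) .nil) .nil)) (.node [] (.node [] (.node [] (.node [(122, 1, 1, 1)] .nil .nil) .nil) .nil) (.node [] (.node [(109, 1, 1, 1)] .nil .nil) .nil))) (.node [] (.node [(78, 1, 1, 1)] (.node [] (.node [] .nil (.node [(125, (-1), 1, 1)] .nil .nil)) .nil) (.node [(89, (-1), 1, 1)] (.node [(105, 1, 1, 1)] .nil .nil) .nil)) (.node [] .nil (.node [] (.node [(111, (-1), 1, 1)] .nil .nil) .nil)))) (.node [(54, 1, 1, 1)] (.node [(61, 1, 1, 1)] (.node [] (.node [(82, (-1), 1, 1)] (.node [] (.node [(121, (-1), 1, 1)] .nil .nil) .nil) .nil) .nil) (.node [(79, (-1), 1, 1)] (.node [(84, (-1), 1, 1)] (.node [(100, 1, 1, 1)] .nil .nil) .nil) (.node [] (.node [] (.node [(124, 1, 1,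 1)] .nil .nil) .nil) .nil))) (.node [(63, 1, 1, 1)] (.node [] (.node [(83, 1, 1, 1)] (.node [(99, (-1), 1, 1)] .nil .nil) .nil) (.node [(91, 1, 1, 1)] (.node [(107, (-1), 1, 1)] .nil .nil) .nil)) (.node [(80, 1, 1, 1)] (.node [(86, 1, 1, 1)] (.node [(102, (-1), 1, 1)] .nil .nil) .nil) (.node [] (.node [(113, 1, 1, 1)] .nil .nil) (.node [(119, (-1), 1, 1)] .nil .nil))))))
def C120 : List (ℕ × List (ℕ × ℤ)) := [(0, [(28, 1)]), (1, [(49, (-1))]), (2, [(54, 1)]), (3, [(58, (-1))]), (4, [(61, 1)]), (6, [(63, 1)]), (9, [(78, 1)]), (12, [(79, (-1))]), (14, [(80, 1)]), (16, [(82, (-1))]), (18, [(83, 1)]), (20, [(84, (-1))]), (22, [(86, 1)]), (23, [(87, 1)]), (25, [(89, (-1))]), (26, [(91, 1)]), (34, [(99, (-1))]), (36, [(100, 1)]), (38, [(102, (-1))]), (39, [(103, (-1))]), (41, [(105, 1)]), (42, [(107, (-1))]), (43, [(109, 1)]), (45, [(111, (-1))]), (46, [(113, 1)]), (47, [(116, (-1))]), (62, [(119, (-1))]), (64, [(121, (-1))]),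 (67, [(122, 1)]), (71, [(123, (-1))]), (76, [(124, 1)]), (97, [(125, (-1))])]
def M121 : Tr (List (ℕ × ℤ × ℕ × ℕ)) := (.node [(29, (-1), 1, 1)] (.node [(50, 1, 1, 1)] (.node [(59, 1, 1, 1)] (.node [] (.node [(82, (-1), 1, 1)] .nil (.node [(117, (-1), 1, 1)] .nil .nil)) (.node [(88, 1, 1, 1)] (.node [(104, (-1), 1, 1)] .nil .nil) .nil)) (.node [(79, (-1), 1, 1)] .nil (.node [] (.node [(110, 1, 1, 1)] (.node [(124, (-1), 1, 1)] .nil .nil) .nil) .nil))) (.node [(64, 1, 1, 1)] (.node [] (.node [(83, 1, 1, 1)] (.node [(99, (-1), 1, 1)] .nil .nil) .nil) .nil) (.node [] (.node [(86, 1, 1, 1)] (.node [(102, (-1), 1, 1)] .nil .nil) .nil) (.node [] .nil (.node [(120, (-1), 1, 1)] .nil .nil))))) (.node [(55, (-1), 1, 1)] (.node [] (.node [(78, 1, 1, 1)] (.node [] (.node [] .nil (.node [(125, 1, 1, 1)] .nil .nil)) .nil) (.node [(89, (-1), 1, 1)] (.node [(105, 1, 1, 1)] .nil .nil) .nil)) (.node [] (.node [(85, (-1), 1, 1)] (.node [(101,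 1, 1, 1)] .nil .nil) .nil) (.node [] (.node [(111, (-1), 1, 1)] .nil .nil) (.node [(119, 1, 1, 1)] .nil .nil)))) (.node [(65, (-1), 1, 1)] (.node [] (.node [] (.node [] (.node [(122, (-1), 1, 1)] .nil .nil) .nil) .nil) (.node [(92, 1, 1, 1)] (.node [(108, (-1), 1, 1)] .nil .nil) .nil)) (.node [(81, 1, 1, 1)] (.node [] (.node [] (.node [(123, 1, 1, 1)] .nil .nil) .nil) .nil) (.node [] (.node [(114, 1, 1, 1)] .nil .nil) .nil)))))
def C121 : List (ℕ × List (ℕ × ℤ)) := [(0, [(29, (-1))]), (1, [(50, 1)]), (2, [(55, (-1))]), (3, [(59, 1)]), (5, [(64, 1)]), (6, [(65, (-1))]), (8, [(78, 1)]), (11, [(79, (-1))]), (14, [(81, 1)]), (15, [(82, (-1))]), (17, [(83, 1)]), (20, [(85, (-1))]), (21, [(86, 1)]), (23, [(88, 1)]), (24, [(89, (-1))]), (26, [(92, 1)]), (33, [(99, (-1))]), (36, [(101, 1)]), (37, [(102, (-1))]), (39, [(104, (-1))]), (40, [(105, 1)]), (42, [(108, (-1))]), (43, [(110, 1)]), (44, [(111, (-1))]), (46, [(114, 1)]),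 (47, [(117, (-1))]), (60, [(119, 1)]), (61, [(120, (-1))]), (66, [(122, (-1))]), (70, [(123, 1)]), (75, [(124, (-1))]), (96, [(125, 1)])]
def M122 : Tr (List (ℕ × ℤ × ℕ × ℕ)) := (.node [(30, 1, 1, 1)] (.node [(51, (-1), 1, 1)] (.node [] (.node [(78, 1, 1, 1)] (.node [] (.node [] .nil (.node [(125, (-1), 1, 1)] .nil .nil)) (.node [(118, (-1), 1, 1)] .nil .nil)) (.node [(90, 1, 1, 1)] (.node [(106, (-1), 1, 1)] .nil .nil) .nil)) (.node [(80, (-1), 1, 1)] (.node [(86, 1, 1, 1)] (.node [(102, (-1), 1, 1)] .nil .nil) .nil) (.node [] (.node [(112, 1, 1, 1)] .nil .nil) (.node [(121, (-1), 1, 1)] .nil .nil)))) (.node [(67, (-1), 1, 1)] (.node [] (.node [(84, 1, 1, 1)] (.node [(100, (-1), 1, 1)] .nil .nil) .nil) (.node [(92, 1, 1, 1)] (.node [(108, (-1), 1, 1)] .nil .nil) (.node [(119, (-1), 1, 1)] .nil .nil))) (.node [(82, (-1), 1, 1)] (.node [] (.node [] (.node [(123, (-1), 1, 1)] .nil .nil) .nil) .nil) (.node [] (.node [(114,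 1, 1, 1)] .nil .nil) .nil)))) (.node [(56, 1, 1, 1)] (.node [(66, 1, 1, 1)] (.node [] .nil (.node [(91, (-1), 1, 1)] (.node [(107, 1, 1, 1)] .nil .nil) .nil)) (.node [(81, 1, 1, 1)] .nil (.node [] (.node [(113, (-1), 1, 1)] .nil .nil) .nil))) (.node [(68, 1, 1, 1)] (.node [] (.node [(85, (-1), 1, 1)] (.node [(101, 1, 1, 1)] .nil .nil) .nil) (.node [] (.node [] (.node [(124, 1, 1, 1)] .nil .nil) .nil) (.node [(120, 1, 1, 1)] .nil .nil))) .nil)))
def C122 : List (ℕ × List (ℕ × ℤ)) := [(0, [(30, 1)]), (1, [(51, (-1))]), (2, [(56, 1)]), (4, [(66, 1)]), (5, [(67, (-1))]), (6, [(68, 1)]), (7, [(78, 1)]), (11, [(80, (-1))]), (12, [(81, 1)]), (13, [(82, (-1))]), (17, [(84, 1)]), (18, [(85, (-1))]), (19, [(86, 1)]), (23, [(90, 1)]), (24, [(91, (-1))]), (25, [(92, 1)]), (33, [(100, (-1))]), (34, [(101, 1)]), (35, [(102, (-1))]), (39, [(106, (-1))]), (40, [(107, 1)]), (41, [(108, (-1))]), (43, [(112, 1)]), (44, [(113, (-1))]), (45,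 [(114, 1)]), (47, [(118, (-1))]), (57, [(119, (-1))]), (58, [(120, 1)]), (59, [(121, (-1))]), (69, [(123, (-1))]), (74, [(124, 1)]), (95, [(125, (-1))])]
def M123 : Tr (List (ℕ × ℤ × ℕ × ℕ)) := (.node [(31, (-1), 1, 1)] (.node [(52, 1, 1, 1)] (.node [(69, 1, 1, 1)] (.node [(79, 1, 1, 1)] .nil (.node [] .nil (.node [(121, 1, 1, 1)] .nil .nil))) (.node [] (.node [(89, 1, 1, 1)] (.node [(105, (-1), 1, 1)] .nil .nil) .nil) (.node [] (.node [(115, 1, 1, 1)] .nil .nil) .nil))) (.node [(71, 1, 1, 1)] (.node [(81, 1, 1, 1)] (.node [(87, 1, 1, 1)] (.node [(103, (-1), 1, 1)] .nil .nil) .nil) (.node [] (.node [] (.node [(124, (-1), 1, 1)] .nil .nil) .nil) .nil)) (.node [] (.node [(91, (-1), 1, 1)] (.node [(107, 1, 1, 1)] .nil .nil) (.node [(119, 1, 1, 1)] .nil .nil)) (.node [] (.node [(117, 1, 1, 1)] .nil .nil) .nil)))) (.node [] (.node [(70, (-1), 1, 1)] (.node [(80, (-1), 1, 1)] .nil (.node [] .nil (.node [(122, (-1), 1, 1)] .nil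 .nil))) (.node [] (.node [(90, 1, 1, 1)] (.node [(106, (-1), 1, 1)] .nil .nil) .nil) (.node [] (.node [(116, (-1), 1, 1)] .nil .nil) .nil))) (.node [(72, (-1), 1, 1)] (.node [(82, (-1), 1, 1)] (.node [(88, (-1), 1, 1)] (.node [(104, 1, 1, 1)] .nil .nil) .nil) .nil) (.node [] (.node [(92, 1, 1, 1)] (.node [(108, (-1), 1, 1)] .nil .nil) (.node [(120, (-1), 1, 1)] .nil .nil)) (.node [] (.node [(118, (-1), 1, 1)] .nil .nil) (.node [] (.node [(125, 1, 1, 1)] .nil .nil) .nil))))))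
def C123 : List (ℕ × List (ℕ × ℤ)) := [(0, [(31, (-1))]), (1, [(52, 1)]), (3, [(69, 1)]), (4, [(70, (-1))]), (5, [(71, 1)]), (6, [(72, (-1))]), (7, [(79, 1)]), (8, [(80, (-1))]), (9, [(81, 1)]), (10, [(82, (-1))]), (17, [(87, 1)]), (18, [(88, (-1))]), (19, [(89, 1)]), (20, [(90, 1)]), (21, [(91, (-1))]), (22, [(92, 1)]), (33, [(103, (-1))]), (34, [(104, 1)]), (35, [(105, (-1))]), (36, [(106, (-1))]), (37, [(107, 1)]), (38, [(108, (-1))]), (43, [(115, 1)]), (44, [(116, (-1))]), (45, [(117, 1)]), (46, [(118, (-1))]), (53, [(119, 1)]), (54, [(120, (-1))]), (55, [(121, 1)]), (56, [(122, (-1))]), (73, [(124, (-1))]), (94, [(125, 1)])]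
def M124 : Tr (List (ℕ × ℤ × ℕ × ℕ)) := (.node [(32, 1, 1, 1)] (.node [] (.node [(74, (-1), 1, 1)] (.node [(83, 1, 1, 1)] (.node [(91, (-1), 1, 1)] .nil .nil) (.node [] (.node [(115, 1, 1, 1)] .nil .nil) .nil)) (.node [(87, 1, 1, 1)] (.node [] (.node [(111, (-1), 1, 1)] .nil .nil) (.node [(122, 1, 1, 1)] .nil .nil)) .nil)) (.node [(76, (-1), 1, 1)] (.node [(85, 1, 1, 1)] (.node [] (.node [(109, (-1), 1, 1)] .nil .nil) (.node [(120, 1, 1, 1)] .nil .nil)) (.node [] (.node [(117, 1, 1, 1)] .nil .nil) .nil)) (.node [(89, 1, 1, 1)] (.node [] (.node [(113, 1, 1, 1)] .nil .nil) .nil) (.node [] .nil (.node [] (.node [(125, (-1), 1, 1)] .nil .nil) .nil))))) (.node [(73, 1, 1, 1)] (.node [(75, 1, 1, 1)] (.node [(84, (-1), 1, 1)] (.node [(92, 1, 1, 1)] .nil (.node [(119, (-1), 1, 1)] .nil .nil)) (.node [] (.node [(116, (-1), 1, 1)] .nil .nil) .nil)) (.node [(88, (-1), 1, 1)] (.node [] (.node [(112, (-1), 1, 1)] .nil .nil) (.node [(123,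 (-1), 1, 1)] .nil .nil)) .nil)) (.node [(77, 1, 1, 1)] (.node [(86, (-1), 1, 1)] (.node [] (.node [(110, 1, 1, 1)] .nil .nil) (.node [(121, (-1), 1, 1)] .nil .nil)) (.node [] (.node [(118, (-1), 1, 1)] .nil .nil) .nil)) (.node [(90, 1, 1, 1)] (.node [] (.node [(114, (-1), 1, 1)] .nil .nil) .nil) .nil))))
def C124 : List (ℕ × List (ℕ × ℤ)) := [(0, [(32, 1)]), (2, [(73, 1)]), (3, [(74, (-1))]), (4, [(75, 1)]), (5, [(76, (-1))]), (6, [(77, 1)]), (7, [(83, 1)]), (8, [(84, (-1))]), (9, [(85, 1)]), (10, [(86, (-1))]), (11, [(87, 1)]), (12, [(88, (-1))]), (13, [(89, 1)]), (14, [(90, 1)]), (15, [(91, (-1))]), (16, [(92, 1)]), (33, [(109, (-1))]), (34, [(110, 1)]), (35, [(111, (-1))]), (36, [(112, (-1))]), (37, [(113, 1)]), (38, [(114, (-1))]), (39, [(115, 1)]), (40, [(116, (-1))]), (41, [(117, 1)]), (42, [(118, (-1))]), (48, [(119, (-1))]), (49, [(120, 1)]), (50, [(121, (-1))]), (51, [(122, 1)]), (52, [(123, (-1))]), (93, [(125,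 (-1))])]
def M125 : Tr (List (ℕ × ℤ × ℕ × ℕ)) := (.node [] (.node [(93, 1, 1, 1)] (.node [(95, 1, 1, 1)] (.node [(99, (-1), 1, 1)] (.node [(107, 1, 1, 1)] (.node [(123, 1, 1, 1)] .nil .nil) .nil) (.node [(115, (-1), 1, 1)] .nil .nil)) (.node [(103, (-1), 1, 1)] (.node [(111, 1, 1, 1)] .nil .nil) (.node [(119, 1, 1, 1)] .nil .nil))) (.node [(97, 1, 1, 1)] (.node [(101, (-1), 1, 1)] (.node [(109, 1, 1, 1)] .nil .nil) (.node [(117, (-1), 1, 1)] .nil .nil)) (.node [(105, (-1), 1, 1)] (.node [(113, (-1), 1, 1)] .nil .nil) (.node [(121, 1, 1, 1)] .nil .nil)))) (.node [(94, (-1), 1, 1)] (.node [(96, (-1), 1, 1)] (.node [(100, 1, 1, 1)] (.node [(108, (-1), 1, 1)] (.node [(124, (-1), 1, 1)] .nil .nil) .nil) (.node [(116, 1, 1, 1)] .nil .nil)) (.node [(104, 1, 1, 1)] (.node [(112, 1, 1, 1)] .nil .nil) (.node [(120, (-1), 1, 1)] .nil .nil))) (.node [(98, (-1), 1, 1)] (.node [(102, 1, 1, 1)] (.node [(110, (-1), 1, 1)] .nil .nil) (.node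 [(118, 1, 1, 1)] .nil .nil)) (.node [(106, (-1), 1, 1)] (.node [(114, 1, 1, 1)] .nil .nil) (.node [(122, (-1), 1, 1)] .nil .nil)))))
def C125 : List (ℕ × List (ℕ × ℤ)) := [(1, [(93, 1)]), (2, [(94, (-1))]), (3, [(95, 1)]), (4, [(96, (-1))]), (5, [(97, 1)]), (6, [(98, (-1))]), (7, [(99, (-1))]), (8, [(100, 1)]), (9, [(101, (-1))]), (10, [(102, 1)]), (11, [(103, (-1))]), (12, [(104, 1)]), (13, [(105, (-1))]), (14, [(106, (-1))]), (15, [(107, 1)]), (16, [(108, (-1))]), (17, [(109, 1)]), (18, [(110, (-1))]), (19, [(111, 1)]), (20, [(112, 1)]), (21, [(113, (-1))]), (22, [(114, 1)]), (23, [(115, (-1))]), (24, [(116, 1)]), (25, [(117, (-1))]), (26, [(118, 1)]), (27, [(119, 1)]), (28, [(120, (-1))]), (29, [(121, 1)]), (30, [(122, (-1))]), (31, [(123, 1)]), (32, [(124, (-1))])]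
set_option maxRecDepth 20000 in
def T : Tabs where
  X := (.node X0 (.node X1 (.node X3 (.node X7 (.node X15 (.node X31 (.node X63 .nil .nil) (.node X95 .nil .nil)) (.node X47 (.node X79 .nil .nil) (.node X111 .nil .nil))) (.node X23 (.node X39 (.node X71 .nil .nil) (.node X103 .nil .nil)) (.node X55 (.node X87 .nil .nil) (.node X119 .nil .nil)))) (.node X11 (.node X19 (.node X35 (.node X67 .nil .nil) (.node X99 .nil .nil)) (.node X51 (.node X83 .nil .nil) (.node X115 .nil .nil))) (.node X27 (.node X43 (.node X75 .nil .nil) (.node X107 .nil .nil)) (.node X59 (.node X91 .nil .nil) (.node X123 .nil .nil))))) (.node X5 (.node X9 (.node X17 (.node X33 (.node X65 .nil .nil) (.node X97 .nil .nil)) (.node X49 (.node X81 .nil .nil) (.node X113 .nil .nil))) (.node X25 (.node X41 (.node X73 .nil .nil) (.node X105 .nil .nil)) (.node X57 (.node X89 .nil .nil) (.node X121 .nil .nil)))) (.node X13 (.node X21 (.node X37 (.node X69 .nil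 .nil) (.node X101 .nil .nil)) (.node X53 (.node X85 .nil .nil) (.node X117 .nil .nil))) (.node X29 (.node X45 (.node X77 .nil .nil) (.node X109 .nil .nil)) (.node X61 (.node X93 .nil .nil) (.node X125 .nil .nil)))))) (.node X2 (.node X4 (.node X8 (.node X16 (.node X32 (.node X64 .nil .nil) (.node X96 .nil .nil)) (.node X48 (.node X80 .nil .nil) (.node X112 .nil .nil))) (.node X24 (.node X40 (.node X72 .nil .nil) (.node X104 .nil .nil)) (.node X56 (.node X88 .nil .nil) (.node X120 .nil .nil)))) (.node X12 (.node X20 (.node X36 (.node X68 .nil .nil) (.node X100 .nil .nil)) (.node X52 (.node X84 .nil .nil) (.node X116 .nil .nil))) (.node X28 (.node X44 (.node X76 .nil .nil) (.node X108 .nil .nil)) (.node X60 (.node X92 .nil .nil) (.node X124 .nil .nil))))) (.node X6 (.node X10 (.node X18 (.node X34 (.node X66 .nil .nil) (.node X98 .nil .nil)) (.node X50 (.node X82 .nil .nil) (.node X114 .nil .nil))) (.node X26 (.node X42 (.node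 X74 .nil .nil) (.node X106 .nil .nil)) (.node X58 (.node X90 .nil .nil) (.node X122 .nil .nil)))) (.node X14 (.node X22 (.node X38 (.node X70 .nil .nil) (.node X102 .nil .nil)) (.node X54 (.node X86 .nil .nil) (.node X118 .nil .nil))) (.node X30 (.node X46 (.node X78 .nil .nil) (.node X110 .nil .nil)) (.node X62 (.node X94 .nil .nil) .nil))))))
  ht := (.node (-17) (.node (-16) (.node (-14) (.node (-13) (.node (-8) (.node (-2) (.node 1 .nil .nil) (.node 3 .nil .nil)) (.node (-1) (.node 2 .nil .nil) (.node 9 .nil .nil))) (.node (-7) (.node (-6) (.node 3 .nil .nil) (.node 6 .nil .nil)) (.node (-2) (.node 5 .nil .nil) (.node 11 .nil .nil)))) (.node (-11) (.node (-8) (.node (-7) (.node 2 .nil .nil) (.node 4 .nil .nil)) (.node (-2) (.node 3 .nil .nil) (.node 10 .nil .nil))) (.node (-6) (.node (-5) (.node 3 .nil .nil) (.node 9 .nil .nil)) (.node (-1) (.node 8 .nil .nil) (.node 15 .nil .nil))))) (.node (-12) (.node (-11) (.node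 (-10) (.node (-9) (.node 2 .nil .nil) (.node 5 .nil .nil)) (.node (-4) (.node 4 .nil .nil) (.node 10 .nil .nil))) (.node (-5) (.node (-4) (.node 1 .nil .nil) (.node 8 .nil .nil)) (.node (-3) (.node 7 .nil .nil) (.node 13 .nil .nil)))) (.node (-9) (.node (-7) (.node (-6) (.node 1 .nil .nil) (.node 6 .nil .nil)) (.node (-4) (.node 5 .nil .nil) (.node 12 .nil .nil))) (.node (-4) (.node (-3) (.node 5 .nil .nil) (.node 7 .nil .nil)) (.node (-1) (.node 1 .nil .nil) (.node 17 .nil .nil)))))) (.node (-15) (.node (-13) (.node (-12) (.node (-7) (.node (-1) (.node 1 .nil .nil) (.node 4 .nil .nil)) (.node (-5) (.node 3 .nil .nil) (.node 9 .nil .nil))) (.node (-6) (.node (-5) (.node 4 .nil .nil) (.node 7 .nil .nil)) (.node (-1) (.node 6 .nil .nil) (.node 12 .nil .nil)))) (.node (-10) (.node (-8) (.node (-7) (.node 3 .nil .nil) (.node 5 .nil .nil)) (.node (-1) (.node 4 .nil .nil) (.node 11 .nil .nil))) (.node (-5) (.node (-4) (.node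 4 .nil .nil) (.node 10 .nil .nil)) (.node (-2) (.node 9 .nil .nil) (.node 16 .nil .nil))))) (.node (-11) (.node (-10) (.node (-9) (.node (-8) (.node 1 .nil .nil) (.node 6 .nil .nil)) (.node (-3) (.node 5 .nil .nil) (.node 11 .nil .nil))) (.node (-4) (.node (-3) (.node 2 .nil .nil) (.node 8 .nil .nil)) (.node (-2) (.node 7 .nil .nil) (.node 14 .nil .nil)))) (.node (-9) (.node (-6) (.node (-5) (.node 2 .nil .nil) (.node 7 .nil .nil)) (.node (-3) (.node 6 .nil .nil) (.node 13 .nil .nil))) (.node (-3) (.node (-2) (.node 1 .nil .nil) (.node 8 .nil .nil)) (.node (-1) (.node 2 .nil .nil) .nil))))))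
  rf := (.node (.node (1, (-1)) (.node (0, 1) (.node (3, 1) (.node (7, 1) (.node (15, 1) (.node (52, 1) (.node (63, 1) .nil .nil) (.node (74, 1) .nil .nil)) (.node (47, 1) (.node (79, 1) .nil .nil) (.node (111, 1) .nil .nil))) (.node (39, 1) (.node (23, (-1)) (.node (71, 1) .nil .nil) (.node (87, 1) .nil .nil)) (.node (55, 1) (.node (103, (-1)) .nil .nil) (.node (119, 1) .nil .nil)))) (.node (11, 1) (.node (35, 1) (.node (19, (-1)) (.node (67, 1) .nil .nil) (.node (83, 1) .nil .nil)) (.node (30, (-1)) (.node (99, (-1)) .nil .nil) (.node (115, 1) .nil .nil))) (.node (48, 1) (.node (43, 1) (.node (96, (-1)) .nil .nil) (.node (91, 1) .nil .nil)) (.node (59, 1) (.node (107, (-1)) .nil .nil) (.node (123, 1) .nil .nil))))) (.node (5, 1) (.node (9, 1) (.node (33, 1) (.node (17, (-1)) (.node (65, 1) .nil .nil) (.node (76, 1) .nil .nil)) (.node (28, (-1)) (.node (81, 1) .nil .nil) (.node (113, 1) .nil .nil))) (.node (41, 1) (.node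 (25, (-1)) (.node (94, (-1)) .nil .nil) (.node (89, 1) .nil .nil)) (.node (57, 1) (.node (105, (-1)) .nil .nil) (.node (121, 1) .nil .nil)))) (.node (13, 1) (.node (37, 1) (.node (21, (-1)) (.node (69, 1) .nil .nil) (.node (85, 1) .nil .nil)) (.node (53, 1) (.node (101, (-1)) .nil .nil) (.node (117, 1) .nil .nil))) (.node (50, 1) (.node (45, 1) (.node (98, (-1)) .nil .nil) (.node (109, 1) .nil .nil)) (.node (61, 1) (.node (32, (-1)) .nil .nil) (.node (124, (-1)) .nil .nil)))))) (.node (2, 1) (.node (4, 1) (.node (8, 1) (.node (16, 1) (.node (93, (-1)) (.node (64, 1) .nil .nil) (.node (75, 1) .nil .nil)) (.node (27, (-1)) (.node (80, 1) .nil .nil) (.node (112, 1) .nil .nil))) (.node (40, 1) (.node (24, (-1)) (.node (72, 1) .nil .nil) (.node (88, 1) .nil .nil)) (.node (56, 1) (.node (104, (-1)) .nil .nil) (.node (120, 1) .nil .nil)))) (.node (12, 1) (.node (36, 1) (.node (20, (-1)) (.node (68, 1) .nil .nil) (.node (84, 1)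 .nil .nil)) (.node (31, (-1)) (.node (100, (-1)) .nil .nil) (.node (116, 1) .nil .nil))) (.node (49, 1) (.node (44, 1) (.node (97, (-1)) .nil .nil) (.node (92, 1) .nil .nil)) (.node (60, 1) (.node (108, (-1)) .nil .nil) (.node (125, 1) .nil .nil))))) (.node (6, 1) (.node (10, 1) (.node (34, 1) (.node (18, (-1)) (.node (66, 1) .nil .nil) (.node (77, 1) .nil .nil)) (.node (29, (-1)) (.node (82, 1) .nil .nil) (.node (114, 1) .nil .nil))) (.node (42, 1) (.node (26, (-1)) (.node (95, (-1)) .nil .nil) (.node (90, 1) .nil .nil)) (.node (58, 1) (.node (106, (-1)) .nil .nil) (.node (122, 1) .nil .nil)))) (.node (14, 1) (.node (38, 1) (.node (22, (-1)) (.node (70, 1) .nil .nil) (.node (86, 1) .nil .nil)) (.node (54, 1) (.node (102, (-1)) .nil .nil) (.node (118, 1) .nil .nil))) (.node (51, 1) (.node (46, 1) (.node (78, 1) .nil .nil) (.node (110, 1) .nil .nil)) (.node (62, 1) (.node (73, 1) .nil .nil) .nil)))))) (.node (.node (0, 1)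 (.node (1, 1) (.node (7, (-1)) (.node (3, 1) (.node (15, 1) (.node (31, 1) (.node (63, 1) .nil .nil) (.node (99, 1) .nil .nil)) (.node (78, (-1)) (.node (69, 1) .nil .nil) (.node (111, 1) .nil .nil))) (.node (27, (-1)) (.node (48, (-1)) (.node (81, (-1)) .nil .nil) (.node (103, 1) .nil .nil)) (.node (45, (-1)) (.node (87, 1) .nil .nil) (.node (115, (-1)) .nil .nil)))) (.node (11, 1) (.node (19, 1) (.node (35, 1) (.node (67, 1) .nil .nil) (.node (95, (-1)) .nil .nil)) (.node (42, 1) (.node (74, (-1)) .nil .nil) (.node (119, 1) .nil .nil))) (.node (23, 1) (.node (53, 1) (.node (84, 1) .nil .nil) (.node (107, 1) .nil .nil)) (.node (59, 1) (.node (91, 1) .nil .nil) (.node (123, 1) .nil .nil))))) (.node (9, (-1)) (.node (5, 1) (.node (17, 1) (.node (33, 1) (.node (65, 1) .nil .nil) (.node (101, 1) .nil .nil)) (.node (40, 1) (.node (71, 1) .nil .nil) (.node (113, 1) .nil .nil))) (.node (29, (-1)) (.node (50, (-1)) (.node (73,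 1) .nil .nil) (.node (105, 1) .nil .nil)) (.node (57, 1) (.node (89, 1) .nil .nil) (.node (117, (-1)) .nil .nil)))) (.node (13, 1) (.node (21, 1) (.node (37, 1) (.node (79, (-1)) .nil .nil) (.node (97, (-1)) .nil .nil)) (.node (43, (-1)) (.node (76, (-1)) .nil .nil) (.node (121, 1) .nil .nil))) (.node (25, 1) (.node (55, 1) (.node (86, 1) .nil .nil) (.node (109, 1) .nil .nil)) (.node (61, 1) (.node (93, 1) .nil .nil) (.node (125, 1) .nil .nil)))))) (.node (2, 1) (.node (8, (-1)) (.node (4, 1) (.node (16, 1) (.node (32, 1) (.node (64, 1) .nil .nil) (.node (100, 1) .nil .nil)) (.node (39, 1) (.node (70, 1) .nil .nil) (.node (112, 1) .nil .nil))) (.node (28, (-1)) (.node (49, (-1)) (.node (82, (-1)) .nil .nil) (.node (104, 1) .nil .nil)) (.node (46, (-1)) (.node (88, 1) .nil .nil) (.node (116, (-1)) .nil .nil)))) (.node (12, 1) (.node (20, 1) (.node (36, 1) (.node (68, 1) .nil .nil) (.node (96, (-1)) .nil .nil)) (.node (52,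 1) (.node (75, (-1)) .nil .nil) (.node (120, 1) .nil .nil))) (.node (24, 1) (.node (54, 1) (.node (85, 1) .nil .nil) (.node (108, 1) .nil .nil)) (.node (60, 1) (.node (92, 1) .nil .nil) (.node (124, 1) .nil .nil))))) (.node (10, (-1)) (.node (6, 1) (.node (18, 1) (.node (34, 1) (.node (66, 1) .nil .nil) (.node (102, 1) .nil .nil)) (.node (41, 1) (.node (72, 1) .nil .nil) (.node (114, 1) .nil .nil))) (.node (30, (-1)) (.node (51, (-1)) (.node (83, 1) .nil .nil) (.node (106, 1) .nil .nil)) (.node (58, 1) (.node (90, 1) .nil .nil) (.node (118, (-1)) .nil .nil)))) (.node (14, 1) (.node (22, 1) (.node (38, 1) (.node (80, (-1)) .nil .nil) (.node (98, (-1)) .nil .nil)) (.node (44, (-1)) (.node (77, (-1)) .nil .nil) (.node (122, 1) .nil .nil))) (.node (26, 1) (.node (56, 1) (.node (47, (-1)) .nil .nil) (.node (110, 1) .nil .nil)) (.node (62, 1) (.node (94, 1) .nil .nil) .nil)))))) (.node (.node (0, 1) (.node (1, 1) (.node (2, 1)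 (.node (7, 1) (.node (15, 1) (.node (30, 1) (.node (63, 1) .nil .nil) (.node (94, (-1)) .nil .nil)) (.node (46, 1) (.node (78, (-1)) .nil .nil) (.node (111, 1) .nil .nil))) (.node (20, 1) (.node (36, 1) (.node (67, 1) .nil .nil) (.node (100, (-1)) .nil .nil)) (.node (59, 1) (.node (84, (-1)) .nil .nil) (.node (119, 1) .nil .nil)))) (.node (8, 1) (.node (19, 1) (.node (35, 1) (.node (71, (-1)) .nil .nil) (.node (99, 1) .nil .nil)) (.node (52, (-1)) (.node (83, 1) .nil .nil) (.node (112, (-1)) .nil .nil))) (.node (27, 1) (.node (43, 1) (.node (75, 1) .nil .nil) (.node (107, 1) .nil .nil)) (.node (55, (-1)) (.node (91, 1) .nil .nil) (.node (122, (-1)) .nil .nil))))) (.node (5, 1) (.node (12, (-1)) (.node (17, 1) (.node (33, 1) (.node (65, 1) .nil .nil) (.node (97, 1) .nil .nil)) (.node (49, 1) (.node (81, 1) .nil .nil) (.node (116, 1) .nil .nil))) (.node (22, 1) (.node (38, 1) (.node (74, 1) .nil .nil) (.node (102, (-1)) .nil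 .nil)) (.node (53, (-1)) (.node (86, (-1)) .nil .nil) (.node (121, 1) .nil .nil)))) (.node (10, 1) (.node (24, (-1)) (.node (40, (-1)) (.node (56, (-1)) .nil .nil) (.node (104, 1) .nil .nil)) (.node (57, 1) (.node (88, 1) .nil .nil) (.node (114, (-1)) .nil .nil))) (.node (29, 1) (.node (45, 1) (.node (77, 1) .nil .nil) (.node (109, 1) .nil .nil)) (.node (61, 1) (.node (93, 1) .nil .nil) (.node (125, 1) .nil .nil)))))) (.node (3, (-1)) (.node (4, 1) (.node (11, (-1)) (.node (16, 1) (.node (32, 1) (.node (64, 1) .nil .nil) (.node (96, 1) .nil .nil)) (.node (48, 1) (.node (80, 1) .nil .nil) (.node (115, 1) .nil .nil))) (.node (21, 1) (.node (37, 1) (.node (68, 1) .nil .nil) (.node (101, (-1)) .nil .nil)) (.node (69, (-1)) (.node (85, (-1)) .nil .nil) (.node (120, 1) .nil .nil)))) (.node (9, 1) (.node (23, (-1)) (.node (39, (-1)) (.node (72, (-1)) .nil .nil) (.node (103, 1) .nil .nil)) (.node (51, 1) (.node (87, 1) .nil .nil)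 (.node (113, (-1)) .nil .nil))) (.node (28, 1) (.node (44, 1) (.node (76, 1) .nil .nil) (.node (108, 1) .nil .nil)) (.node (60, 1) (.node (92, 1) .nil .nil) (.node (124, 1) .nil .nil))))) (.node (6, 1) (.node (13, (-1)) (.node (18, 1) (.node (34, 1) (.node (70, (-1)) .nil .nil) (.node (98, 1) .nil .nil)) (.node (50, 1) (.node (82, 1) .nil .nil) (.node (117, 1) .nil .nil))) (.node (26, 1) (.node (42, 1) (.node (73, (-1)) .nil .nil) (.node (106, 1) .nil .nil)) (.node (54, (-1)) (.node (90, 1) .nil .nil) (.node (123, 1) .nil .nil)))) (.node (14, 1) (.node (25, (-1)) (.node (41, (-1)) (.node (66, 1) .nil .nil) (.node (105, 1) .nil .nil)) (.node (58, 1) (.node (89, 1) .nil .nil) (.node (118, 1) .nil .nil))) (.node (31, (-1)) (.node (47, (-1)) (.node (79, 1) .nil .nil) (.node (110, 1) .nil .nil)) (.node (62, 1) (.node (95, 1) .nil .nil) .nil)))))) .nil .nil) (.node (.node (0, 1) (.node (1, 1) (.node (3, 1) (.node (7, 1) (.node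 (16, (-1)) (.node (31, 1) (.node (65, (-1)) .nil .nil) (.node (95, 1) .nil .nil)) (.node (47, 1) (.node (79, 1) .nil .nil) (.node (111, 1) .nil .nil))) (.node (23, 1) (.node (39, 1) (.node (70, (-1)) .nil .nil) (.node (104, 1) .nil .nil)) (.node (54, 1) (.node (88, 1) .nil .nil) (.node (119, 1) .nil .nil)))) (.node (12, (-1)) (.node (19, 1) (.node (35, 1) (.node (66, (-1)) .nil .nil) (.node (99, 1) .nil .nil)) (.node (51, 1) (.node (83, 1) .nil .nil) (.node (115, 1) .nil .nil))) (.node (27, 1) (.node (43, 1) (.node (76, 1) .nil .nil) (.node (108, 1) .nil .nil)) (.node (58, 1) (.node (92, 1) .nil .nil) (.node (123, 1) .nil .nil))))) (.node (4, 1) (.node (8, 1) (.node (18, (-1)) (.node (34, (-1)) (.node (63, 1) .nil .nil) (.node (96, (-1)) .nil .nil)) (.node (50, (-1)) (.node (80, (-1)) .nil .nil) (.node (114, 1) .nil .nil))) (.node (24, 1) (.node (40, 1) (.node (73, 1) .nil .nil) (.node (105, 1) .nil .nil)) (.node (57, 1)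 (.node (89, 1) .nil .nil) (.node (120, (-1)) .nil .nil)))) (.node (13, 1) (.node (22, (-1)) (.node (38, (-1)) (.node (69, 1) .nil .nil) (.node (100, (-1)) .nil .nil)) (.node (53, 1) (.node (84, (-1)) .nil .nil) (.node (116, (-1)) .nil .nil))) (.node (28, 1) (.node (44, 1) (.node (77, 1) .nil .nil) (.node (110, 1) .nil .nil)) (.node (64, (-1)) (.node (93, 1) .nil .nil) (.node (125, 1) .nil .nil)))))) (.node (2, 1) (.node (5, (-1)) (.node (9, (-1)) (.node (15, 1) (.node (32, 1) (.node (61, (-1)) .nil .nil) (.node (97, 1) .nil .nil)) (.node (48, 1) (.node (81, 1) .nil .nil) (.node (112, 1) .nil .nil))) (.node (25, (-1)) (.node (41, (-1)) (.node (72, 1) .nil .nil) (.node (103, (-1)) .nil .nil)) (.node (56, 1) (.node (87, (-1)) .nil .nil) (.node (121, 1) .nil .nil)))) (.node (11, 1) (.node (20, 1) (.node (36, 1) (.node (68, 1) .nil .nil) (.node (101, 1) .nil .nil)) (.node (52, 1) (.node (85, 1) .nil .nil) (.node (117, 1) .nil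 .nil))) (.node (29, (-1)) (.node (45, (-1)) (.node (75, (-1)) .nil .nil) (.node (107, (-1)) .nil .nil)) (.node (62, 1) (.node (91, (-1)) .nil .nil) (.node (124, 1) .nil .nil))))) (.node (6, 1) (.node (10, 1) (.node (17, 1) (.node (33, 1) (.node (67, 1) .nil .nil) (.node (98, 1) .nil .nil)) (.node (49, 1) (.node (82, 1) .nil .nil) (.node (113, (-1)) .nil .nil))) (.node (26, 1) (.node (42, 1) (.node (74, 1) .nil .nil) (.node (106, 1) .nil .nil)) (.node (59, (-1)) (.node (90, 1) .nil .nil) (.node (122, 1) .nil .nil)))) (.node (14, 1) (.node (21, 1) (.node (37, 1) (.node (71, 1) .nil .nil) (.node (102, 1) .nil .nil)) (.node (55, (-1)) (.node (86, 1) .nil .nil) (.node (118, 1) .nil .nil))) (.node (30, 1) (.node (46, 1) (.node (78, 1) .nil .nil) (.node (109, (-1)) .nil .nil)) (.node (60, (-1)) (.node (94, 1) .nil .nil) .nil)))))) .nil .nil)) (.node (.node (0, 1) (.node (2, (-1)) (.node (3, 1) (.node (7, 1) (.node (21, (-1)) (.node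 (32, (-1)) (.node (63, 1) .nil .nil) (.node (95, 1) .nil .nil)) (.node (47, 1) (.node (83, 1) .nil .nil) (.node (105, (-1)) .nil .nil))) (.node (23, 1) (.node (43, (-1)) (.node (76, (-1)) .nil .nil) (.node (109, 1) .nil .nil)) (.node (50, (-1)) (.node (87, 1) .nil .nil) (.node (119, 1) .nil .nil)))) (.node (17, (-1)) (.node (13, 1) (.node (35, 1) (.node (67, 1) .nil .nil) (.node (99, 1) .nil .nil)) (.node (56, 1) (.node (79, (-1)) .nil .nil) (.node (115, 1) .nil .nil))) (.node (27, 1) (.node (39, 1) (.node (70, 1) .nil .nil) (.node (113, 1) .nil .nil)) (.node (59, 1) (.node (91, 1) .nil .nil) (.node (124, 1) .nil .nil))))) (.node (5, 1) (.node (9, 1) (.node (11, 1) (.node (33, 1) (.node (65, 1) .nil .nil) (.node (97, 1) .nil .nil)) (.node (54, 1) (.node (85, 1) .nil .nil) (.node (107, (-1)) .nil .nil))) (.node (25, 1) (.node (45, (-1)) (.node (52, (-1)) .nil .nil) (.node (111, 1) .nil .nil)) (.node (57, 1) (.node (89, 1)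 .nil .nil) (.node (121, 1) .nil .nil)))) (.node (19, (-1)) (.node (15, 1) (.node (37, 1) (.node (74, (-1)) .nil .nil) (.node (101, 1) .nil .nil)) (.node (48, (-1)) (.node (81, (-1)) .nil .nil) (.node (117, 1) .nil .nil))) (.node (29, 1) (.node (41, 1) (.node (72, 1) .nil .nil) (.node (103, (-1)) .nil .nil)) (.node (61, 1) (.node (94, 1) .nil .nil) (.node (125, 1) .nil .nil)))))) (.node (1, 1) (.node (4, 1) (.node (8, 1) (.node (22, (-1)) (.node (31, 1) (.node (64, 1) .nil .nil) (.node (96, 1) .nil .nil)) (.node (53, 1) (.node (84, 1) .nil .nil) (.node (106, (-1)) .nil .nil))) (.node (24, 1) (.node (44, (-1)) (.node (77, (-1)) .nil .nil) (.node (110, 1) .nil .nil)) (.node (51, (-1)) (.node (88, 1) .nil .nil) (.node (120, 1) .nil .nil)))) (.node (18, (-1)) (.node (14, 1) (.node (36, 1) (.node (68, 1) .nil .nil) (.node (100, 1) .nil .nil)) (.node (73, (-1)) (.node (80, (-1)) .nil .nil) (.node (116, 1) .nil .nil))) (.node (28,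 1) (.node (40, 1) (.node (71, 1) .nil .nil) (.node (114, 1) .nil .nil)) (.node (60, 1) (.node (92, 1) .nil .nil) (.node (123, (-1)) .nil .nil))))) (.node (6, 1) (.node (10, 1) (.node (12, 1) (.node (34, 1) (.node (66, 1) .nil .nil) (.node (98, 1) .nil .nil)) (.node (55, 1) (.node (86, 1) .nil .nil) (.node (108, (-1)) .nil .nil))) (.node (26, 1) (.node (46, (-1)) (.node (69, 1) .nil .nil) (.node (112, 1) .nil .nil)) (.node (58, 1) (.node (90, 1) .nil .nil) (.node (122, 1) .nil .nil)))) (.node (20, (-1)) (.node (16, 1) (.node (38, 1) (.node (75, (-1)) .nil .nil) (.node (102, 1) .nil .nil)) (.node (49, (-1)) (.node (82, (-1)) .nil .nil) (.node (118, 1) .nil .nil))) (.node (30, 1) (.node (42, 1) (.node (78, 1) .nil .nil) (.node (104, (-1)) .nil .nil)) (.node (62, 1) (.node (93, (-1)) .nil .nil) .nil)))))) (.node (.node (0, 1) (.node (1, 1) (.node (4, (-1)) (.node (8, (-1)) (.node (13, 1) (.node (31, 1) (.node (63, 1) .nil .nil)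 (.node (96, 1) .nil .nil)) (.node (47, 1) (.node (80, 1) .nil .nil) (.node (113, 1) .nil .nil))) (.node (23, 1) (.node (39, 1) (.node (71, 1) .nil .nil) (.node (103, 1) .nil .nil)) (.node (56, (-1)) (.node (87, 1) .nil .nil) (.node (119, 1) .nil .nil)))) (.node (11, 1) (.node (21, (-1)) (.node (37, (-1)) (.node (64, 1) .nil .nil) (.node (100, 1) .nil .nil)) (.node (50, 1) (.node (84, 1) .nil .nil) (.node (115, 1) .nil .nil))) (.node (27, 1) (.node (43, 1) (.node (74, (-1)) .nil .nil) (.node (105, (-1)) .nil .nil)) (.node (66, (-1)) (.node (89, (-1)) .nil .nil) (.node (123, 1) .nil .nil))))) (.node (5, 1) (.node (9, 1) (.node (17, 1) (.node (33, 1) (.node (68, (-1)) .nil .nil) (.node (97, 1) .nil .nil)) (.node (49, 1) (.node (81, 1) .nil .nil) (.node (111, (-1)) .nil .nil))) (.node (26, (-1)) (.node (42, (-1)) (.node (73, 1) .nil .nil) (.node (107, 1) .nil .nil)) (.node (60, 1) (.node (91, 1) .nil .nil) (.node (122, 1) .nil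 .nil)))) (.node (15, (-1)) (.node (19, 1) (.node (35, 1) (.node (70, 1) .nil .nil) (.node (101, 1) .nil .nil)) (.node (53, 1) (.node (85, 1) .nil .nil) (.node (118, 1) .nil .nil))) (.node (30, (-1)) (.node (46, (-1)) (.node (77, 1) .nil .nil) (.node (109, 1) .nil .nil)) (.node (58, (-1)) (.node (93, 1) .nil .nil) (.node (125, 1) .nil .nil)))))) (.node (2, 1) (.node (3, 1) (.node (7, 1) (.node (16, 1) (.node (32, 1) (.node (67, (-1)) .nil .nil) (.node (95, (-1)) .nil .nil)) (.node (48, 1) (.node (79, (-1)) .nil .nil) (.node (110, (-1)) .nil .nil))) (.node (24, 1) (.node (40, 1) (.node (72, 1) .nil .nil) (.node (106, 1) .nil .nil)) (.node (55, 1) (.node (90, 1) .nil .nil) (.node (120, 1) .nil .nil)))) (.node (14, (-1)) (.node (18, 1) (.node (34, 1) (.node (65, 1) .nil .nil) (.node (99, (-1)) .nil .nil)) (.node (52, 1) (.node (83, (-1)) .nil .nil) (.node (116, 1) .nil .nil))) (.node (28, 1) (.node (44, 1) (.node (76, 1) .nil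 .nil) (.node (108, 1) .nil .nil)) (.node (57, (-1)) (.node (92, 1) .nil .nil) (.node (124, 1) .nil .nil))))) (.node (6, 1) (.node (10, 1) (.node (20, (-1)) (.node (36, (-1)) (.node (59, (-1)) .nil .nil) (.node (98, 1) .nil .nil)) (.node (51, (-1)) (.node (82, 1) .nil .nil) (.node (114, 1) .nil .nil))) (.node (25, 1) (.node (41, 1) (.node (75, 1) .nil .nil) (.node (104, (-1)) .nil .nil)) (.node (61, 1) (.node (88, (-1)) .nil .nil) (.node (121, (-1)) .nil .nil)))) (.node (12, 1) (.node (22, 1) (.node (38, 1) (.node (69, (-1)) .nil .nil) (.node (102, 1) .nil .nil)) (.node (54, 1) (.node (86, 1) .nil .nil) (.node (117, (-1)) .nil .nil))) (.node (29, 1) (.node (45, 1) (.node (78, 1) .nil .nil) (.node (112, 1) .nil .nil)) (.node (62, 1) (.node (94, 1) .nil .nil) .nil)))))) .nil .nil) (.node (.node (0, 1) (.node (1, 1) (.node (3, 1) (.node (7, 1) (.node (14, 1) (.node (31, 1) (.node (62, (-1)) .nil .nil) (.node (95, 1) .nil .nil))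 (.node (47, 1) (.node (79, 1) .nil .nil) (.node (110, (-1)) .nil .nil))) (.node (24, (-1)) (.node (40, (-1)) (.node (72, 1) .nil .nil) (.node (103, 1) .nil .nil)) (.node (55, 1) (.node (87, 1) .nil .nil) (.node (120, 1) .nil .nil)))) (.node (11, 1) (.node (18, 1) (.node (34, 1) (.node (68, 1) .nil .nil) (.node (99, 1) .nil .nil)) (.node (51, 1) (.node (83, 1) .nil .nil) (.node (116, 1) .nil .nil))) (.node (28, (-1)) (.node (44, (-1)) (.node (75, 1) .nil .nil) (.node (106, (-1)) .nil .nil)) (.node (59, 1) (.node (90, (-1)) .nil .nil) (.node (123, 1) .nil .nil))))) (.node (6, (-1)) (.node (10, (-1)) (.node (17, 1) (.node (33, 1) (.node (64, (-1)) .nil .nil) (.node (98, 1) .nil .nil)) (.node (48, 1) (.node (82, 1) .nil .nil) (.node (112, (-1)) .nil .nil))) (.node (25, 1) (.node (41, 1) (.node (73, 1) .nil .nil) (.node (104, (-1)) .nil .nil)) (.node (58, (-1)) (.node (88, (-1)) .nil .nil) (.node (121, 1) .nil .nil)))) (.node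 (12, 1) (.node (20, 1) (.node (36, 1) (.node (69, 1) .nil .nil) (.node (102, 1) .nil .nil)) (.node (54, (-1)) (.node (86, 1) .nil .nil) (.node (117, 1) .nil .nil))) (.node (29, 1) (.node (45, 1) (.node (76, (-1)) .nil .nil) (.node (109, 1) .nil .nil)) (.node (60, 1) (.node (93, 1) .nil .nil) (.node (125, 1) .nil .nil)))))) (.node (2, 1) (.node (4, 1) (.node (8, 1) (.node (16, 1) (.node (32, 1) (.node (65, 1) .nil .nil) (.node (96, 1) .nil .nil)) (.node (49, (-1)) (.node (80, 1) .nil .nil) (.node (113, 1) .nil .nil))) (.node (23, 1) (.node (39, 1) (.node (71, (-1)) .nil .nil) (.node (105, 1) .nil .nil)) (.node (56, 1) (.node (89, 1) .nil .nil) (.node (119, (-1)) .nil .nil)))) (.node (13, (-1)) (.node (21, (-1)) (.node (37, (-1)) (.node (67, (-1)) .nil .nil) (.node (100, 1) .nil .nil)) (.node (52, 1) (.node (84, 1) .nil .nil) (.node (115, (-1)) .nil .nil))) (.node (27, 1) (.node (43, 1) (.node (77, 1) .nil .nil) (.node (108,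 1) .nil .nil)) (.node (61, (-1)) (.node (92, 1) .nil .nil) (.node (124, 1) .nil .nil))))) (.node (5, 1) (.node (9, 1) (.node (19, (-1)) (.node (35, (-1)) (.node (66, 1) .nil .nil) (.node (97, (-1)) .nil .nil)) (.node (50, 1) (.node (81, (-1)) .nil .nil) (.node (114, 1) .nil .nil))) (.node (26, 1) (.node (42, 1) (.node (74, 1) .nil .nil) (.node (107, 1) .nil .nil)) (.node (57, 1) (.node (91, 1) .nil .nil) (.node (122, 1) .nil .nil)))) (.node (15, (-1)) (.node (22, 1) (.node (38, 1) (.node (70, 1) .nil .nil) (.node (101, (-1)) .nil .nil)) (.node (53, 1) (.node (85, (-1)) .nil .nil) (.node (118, 1) .nil .nil))) (.node (30, 1) (.node (46, 1) (.node (78, 1) .nil .nil) (.node (111, 1) .nil .nil)) (.node (63, (-1)) (.node (94, 1) .nil .nil) .nil)))))) .nil .nil)))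
  A := (.node (.node (-1) (.node 1 (.node 0 (.node 0 (.node 0 (.node (-1) (.node 0 .nil .nil) (.node 1 .nil .nil)) (.node 0 (.node 0 .nil .nil) (.node 0 .nil .nil))) (.node (-1) (.node 1 (.node 0 .nil .nil) (.node 1 .nil .nil)) (.node 0 (.node (-1) .nil .nil) (.node 0 .nil .nil)))) (.node 0 (.node (-1) (.node 1 (.node 0 .nil .nil) (.node 1 .nil .nil)) (.node 1 (.node (-1) .nil .nil) (.node 0 .nil .nil))) (.node (-1) (.node 0 (.node (-1) .nil .nil) (.node 1 .nil .nil)) (.node 0 (.node (-1) .nil .nil) (.node 0 .nil .nil))))) (.node 0 (.node 0 (.node (-1) (.node 1 (.node 0 .nil .nil) (.node 1 .nil .nil)) (.node 1 (.node 0 .nil .nil) (.node 0 .nil .nil))) (.node (-1) (.node 1 (.node (-1) .nil .nil) (.node 1 .nil .nil)) (.node 0 (.node (-1) .nil .nil) (.node 0 .nil .nil)))) (.node 0 (.node (-1) (.node 1 (.node 0 .nil .nil) (.node 1 .nil .nil)) (.node 0 (.node (-1) .nil .nil) (.node 0 .nil .nil))) (.node (-1) (.node 0 (.node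 (-1) .nil .nil) (.node 0 .nil .nil)) (.node 0 (.node 2 .nil .nil) (.node 1 .nil .nil)))))) (.node 0 (.node 0 (.node 0 (.node 0 (.node (-2) (.node 0 .nil .nil) (.node 1 .nil .nil)) (.node 1 (.node 0 .nil .nil) (.node 0 .nil .nil))) (.node (-1) (.node 1 (.node 0 .nil .nil) (.node 1 .nil .nil)) (.node 0 (.node (-1) .nil .nil) (.node 0 .nil .nil)))) (.node 0 (.node (-1) (.node 1 (.node 0 .nil .nil) (.node 1 .nil .nil)) (.node 1 (.node (-1) .nil .nil) (.node 0 .nil .nil))) (.node (-1) (.node 0 (.node (-1) .nil .nil) (.node 1 .nil .nil)) (.node 0 (.node (-1) .nil .nil) (.node (-1) .nil .nil))))) (.node 0 (.node 0 (.node (-1) (.node 1 (.node 0 .nil .nil) (.node 1 .nil .nil)) (.node 1 (.node 0 .nil .nil) (.node 0 .nil .nil))) (.node (-1) (.node 1 (.node (-1) .nil .nil) (.node 1 .nil .nil)) (.node 0 (.node (-1) .nil .nil) (.node 0 .nil .nil)))) (.node 0 (.node (-1) (.node 1 (.node 0 .nil .nil) (.node 1 .nil .nil)) (.node 0 (.node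 (-1) .nil .nil) (.node 0 .nil .nil))) (.node (-1) (.node 0 (.node 0 .nil .nil) (.node 0 .nil .nil)) (.node 0 (.node 1 .nil .nil) .nil)))))) (.node (.node 0 (.node 0 (.node (-1) (.node 1 (.node 0 (.node 0 (.node 0 .nil .nil) (.node (-1) .nil .nil)) (.node (-2) (.node 1 .nil .nil) (.node 0 .nil .nil))) (.node (-1) (.node (-1) (.node (-1) .nil .nil) (.node 0 .nil .nil)) (.node 1 (.node 0 .nil .nil) (.node 1 .nil .nil)))) (.node 0 (.node 0 (.node 0 (.node 0 .nil .nil) (.node 1 .nil .nil)) (.node 1 (.node 1 .nil .nil) (.node (-1) .nil .nil))) (.node 1 (.node (-1) (.node (-1) .nil .nil) (.node 0 .nil .nil)) (.node 0 (.node 0 .nil .nil) (.node 0 .nil .nil))))) (.node (-1) (.node 1 (.node 0 (.node 0 (.node 0 .nil .nil) (.node (-1) .nil .nil)) (.node 1 (.node 1 .nil .nil) (.node 0 .nil .nil))) (.node (-1) (.node (-1) (.node 0 .nil .nil) (.node 0 .nil .nil)) (.node 0 (.node 0 .nil .nil) (.node 1 .nil .nil)))) (.node 0 (.node 0 (.node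 0 (.node (-1) .nil .nil) (.node 1 .nil .nil)) (.node 1 (.node 1 .nil .nil) (.node (-1) .nil .nil))) (.node 1 (.node (-1) (.node (-1) .nil .nil) (.node 0 .nil .nil)) (.node 0 (.node 0 .nil .nil) (.node 0 .nil .nil)))))) (.node 0 (.node (-1) (.node 1 (.node 0 (.node 0 (.node 0 .nil .nil) (.node (-1) .nil .nil)) (.node 1 (.node 1 .nil .nil) (.node 0 .nil .nil))) (.node (-1) (.node (-1) (.node (-1) .nil .nil) (.node 0 .nil .nil)) (.node 1 (.node 0 .nil .nil) (.node 1 .nil .nil)))) (.node 0 (.node 0 (.node 0 (.node 0 .nil .nil) (.node 1 .nil .nil)) (.node 0 (.node 1 .nil .nil) (.node (-1) .nil .nil))) (.node 1 (.node (-1) (.node (-1) .nil .nil) (.node 0 .nil .nil)) (.node 0 (.node 0 .nil .nil) (.node 0 .nil .nil))))) (.node (-1) (.node 1 (.node 0 (.node 0 (.node 0 .nil .nil) (.node (-1) .nil .nil)) (.node 1 (.node 1 .nil .nil) (.node 0 .nil .nil))) (.node (-1) (.node (-1) (.node (-1) .nil .nil) (.node 0 .nil .nil)) (.node 0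 (.node 0 .nil .nil) (.node 1 .nil .nil)))) (.node 0 (.node 0 (.node 0 (.node (-1) .nil .nil) (.node 1 .nil .nil)) (.node 1 (.node 1 .nil .nil) (.node (-1) .nil .nil))) (.node 1 (.node (-1) (.node 2 .nil .nil) (.node 0 .nil .nil)) (.node 0 (.node 0 .nil .nil) .nil)))))) (.node (.node 0 (.node 0 (.node 1 (.node 0 (.node 0 (.node 1 (.node 0 .nil .nil) (.node 1 .nil .nil)) (.node 1 (.node 1 .nil .nil) (.node 0 .nil .nil))) (.node 1 (.node 1 (.node 1 .nil .nil) (.node 1 .nil .nil)) (.node (-1) (.node 1 .nil .nil) (.node 0 .nil .nil)))) (.node 1 (.node 0 (.node 0 (.node (-1) .nil .nil) (.node 0 .nil .nil)) (.node (-1) (.node 0 .nil .nil) (.node 1 .nil .nil))) (.node 0 (.node 0 (.node 0 .nil .nil) (.node 0 .nil .nil)) (.node 1 (.node 0 .nil .nil) (.node 1 .nil .nil))))) (.node 0 (.node (-1) (.node 0 (.node 0 (.node 0 .nil .nil) (.node 0 .nil .nil)) (.node 0 (.node 0 .nil .nil) (.node (-1) .nil .nil))) (.node 1 (.node 1 (.node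 (-1) .nil .nil) (.node 1 .nil .nil)) (.node 1 (.node 1 .nil .nil) (.node 0 .nil .nil)))) (.node 1 (.node (-1) (.node (-1) (.node 2 .nil .nil) (.node (-1) .nil .nil)) (.node (-1) (.node (-1) .nil .nil) (.node 1 .nil .nil))) (.node 0 (.node 0 (.node 0 .nil .nil) (.node 0 .nil .nil)) (.node 0 (.node 0 .nil .nil) (.node 0 .nil .nil)))))) (.node (-1) (.node 0 (.node (-1) (.node 0 (.node 0 (.node 0 .nil .nil) (.node 0 .nil .nil)) (.node 0 (.node 0 .nil .nil) (.node (-1) .nil .nil))) (.node 1 (.node 1 (.node 1 .nil .nil) (.node 1 .nil .nil)) (.node (-2) (.node 1 .nil .nil) (.node 0 .nil .nil)))) (.node 1 (.node (-1) (.node (-1) (.node (-1) .nil .nil) (.node (-1) .nil .nil)) (.node 1 (.node (-1) .nil .nil) (.node 1 .nil .nil))) (.node 0 (.node 0 (.node 0 .nil .nil) (.node 0 .nil .nil)) (.node 0 (.node 0 .nil .nil) (.node 0 .nil .nil))))) (.node 0 (.node (-1) (.node 0 (.node 0 (.node (-1) .nil .nil) (.node 0 .nil .nil)) (.node 0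 (.node 0 .nil .nil) (.node (-1) .nil .nil))) (.node 0 (.node 0 (.node 1 .nil .nil) (.node 0 .nil .nil)) (.node 1 (.node 0 .nil .nil) (.node (-1) .nil .nil)))) (.node 0 (.node (-1) (.node (-1) (.node 1 .nil .nil) (.node (-1) .nil .nil)) (.node (-1) (.node (-1) .nil .nil) (.node 0 .nil .nil))) (.node (-1) (.node (-1) (.node (-1) .nil .nil) (.node 0 .nil .nil)) (.node 0 (.node (-1) .nil .nil) .nil)))))) .nil .nil) (.node (.node 0 (.node 0 (.node 0 (.node 0 (.node (-1) (.node 0 (.node (-1) .nil .nil) (.node 0 .nil .nil)) (.node 0 (.node 0 .nil .nil) (.node 0 .nil .nil))) (.node 0 (.node 0 (.node 1 .nil .nil) (.node (-1) .nil .nil)) (.node 1 (.node (-1) .nil .nil) (.node 0 .nil .nil)))) (.node (-1) (.node 0 (.node 0 (.node 1 .nil .nil) (.node 0 .nil .nil)) (.node 0 (.node 0 .nil .nil) (.node 0 .nil .nil))) (.node 0 (.node 0 (.node (-1) .nil .nil) (.node (-1) .nil .nil)) (.node 1 (.node (-1) .nil .nil) (.node 0 .nil .nil)))))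 (.node 1 (.node 1 (.node (-1) (.node (-1) (.node 1 .nil .nil) (.node 1 .nil .nil)) (.node (-1) (.node 1 .nil .nil) (.node (-1) .nil .nil))) (.node 1 (.node 1 (.node 0 .nil .nil) (.node 0 .nil .nil)) (.node 0 (.node 0 .nil .nil) (.node 1 .nil .nil)))) (.node 0 (.node (-1) (.node (-1) (.node 0 .nil .nil) (.node 1 .nil .nil)) (.node 0 (.node 1 .nil .nil) (.node 1 .nil .nil))) (.node 1 (.node 1 (.node 0 .nil .nil) (.node (-1) .nil .nil)) (.node (-2) (.node 0 .nil .nil) (.node 0 .nil .nil)))))) (.node 0 (.node (-1) (.node (-1) (.node 1 (.node 0 (.node 2 .nil .nil) (.node (-1) .nil .nil)) (.node 0 (.node (-1) .nil .nil) (.node 0 .nil .nil))) (.node (-1) (.node (-1) (.node 0 .nil .nil) (.node 1 .nil .nil)) (.node 0 (.node 1 .nil .nil) (.node (-1) .nil .nil)))) (.node 1 (.node 0 (.node 0 (.node 0 .nil .nil) (.node (-1) .nil .nil)) (.node 0 (.node (-1) .nil .nil) (.node (-1) .nil .nil))) (.node (-1) (.node (-1) (.node 1 .nil .nil)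 (.node 1 .nil .nil)) (.node (-1) (.node 1 .nil .nil) (.node 0 .nil .nil))))) (.node 0 (.node 0 (.node 1 (.node 1 (.node (-1) .nil .nil) (.node 0 .nil .nil)) (.node 1 (.node 0 .nil .nil) (.node 1 .nil .nil))) (.node 0 (.node 0 (.node 0 .nil .nil) (.node 0 .nil .nil)) (.node (-1) (.node 0 .nil .nil) (.node 0 .nil .nil)))) (.node 0 (.node 1 (.node 1 (.node (-1) .nil .nil) (.node 0 .nil .nil)) (.node (-1) (.node 0 .nil .nil) (.node 0 .nil .nil))) (.node 0 (.node 0 (.node 0 .nil .nil) (.node 1 .nil .nil)) (.node 1 (.node 0 .nil .nil) .nil)))))) .nil .nil)) (.node (.node 0 (.node (-1) (.node 0 (.node 0 (.node (-1) (.node (-1) (.node 0 .nil .nil) (.node 0 .nil .nil)) (.node 0 (.node (-1) .nil .nil) (.node 1 .nil .nil))) (.node 0 (.node (-1) (.node (-1) .nil .nil) (.node (-1) .nil .nil)) (.node 1 (.node 0 .nil .nil) (.node 0 .nil .nil)))) (.node (-1) (.node 1 (.node 0 (.node 0 .nil .nil) (.node 0 .nil .nil)) (.node (-1) (.node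 1 .nil .nil) (.node 0 .nil .nil))) (.node 0 (.node 1 (.node 1 .nil .nil) (.node (-1) .nil .nil)) (.node 0 (.node 0 .nil .nil) (.node (-1) .nil .nil))))) (.node 0 (.node 0 (.node 1 (.node 0 (.node 0 .nil .nil) (.node 0 .nil .nil)) (.node (-1) (.node (-1) .nil .nil) (.node 1 .nil .nil))) (.node 0 (.node (-1) (.node 2 .nil .nil) (.node (-1) .nil .nil)) (.node 0 (.node 0 .nil .nil) (.node 0 .nil .nil)))) (.node (-1) (.node 1 (.node 0 (.node (-1) .nil .nil) (.node 0 .nil .nil)) (.node 1 (.node 1 .nil .nil) (.node 0 .nil .nil))) (.node 0 (.node 1 (.node 1 .nil .nil) (.node 1 .nil .nil)) (.node 0 (.node (-1) .nil .nil) (.node 0 .nil .nil)))))) (.node 1 (.node 0 (.node 0 (.node (-1) (.node 1 (.node 0 .nil .nil) (.node 0 .nil .nil)) (.node (-1) (.node (-1) .nil .nil) (.node 1 .nil .nil))) (.node 0 (.node (-1) (.node (-1) .nil .nil) (.node (-1) .nil .nil)) (.node 1 (.node 0 .nil .nil) (.node 0 .nil .nil)))) (.node (-1) (.node 1 (.node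 0 (.node 0 .nil .nil) (.node 0 .nil .nil)) (.node (-2) (.node 1 .nil .nil) (.node 0 .nil .nil))) (.node 0 (.node 1 (.node 1 .nil .nil) (.node (-1) .nil .nil)) (.node 0 (.node 0 .nil .nil) (.node 1 .nil .nil))))) (.node 0 (.node 0 (.node 1 (.node 0 (.node 0 .nil .nil) (.node 0 .nil .nil)) (.node (-1) (.node (-1) .nil .nil) (.node 1 .nil .nil))) (.node 0 (.node (-1) (.node 1 .nil .nil) (.node (-1) .nil .nil)) (.node 0 (.node 0 .nil .nil) (.node 0 .nil .nil)))) (.node (-1) (.node 1 (.node 0 (.node (-1) .nil .nil) (.node 0 .nil .nil)) (.node 1 (.node 1 .nil .nil) (.node 0 .nil .nil))) (.node 0 (.node 1 (.node 0 .nil .nil) (.node 1 .nil .nil)) (.node 0 (.node 1 .nil .nil) .nil)))))) (.node (.node 0 (.node 0 (.node (-1) (.node (-1) (.node 1 (.node 0 (.node 0 .nil .nil) (.node (-1) .nil .nil)) (.node 0 (.node (-1) .nil .nil) (.node (-1) .nil .nil))) (.node 0 (.node 0 (.node 0 .nil .nil) (.node 0 .nil .nil)) (.node (-1) (.node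 0 .nil .nil) (.node 0 .nil .nil)))) (.node 0 (.node (-1) (.node (-1) (.node 1 .nil .nil) (.node (-1) .nil .nil)) (.node 1 (.node (-1) .nil .nil) (.node 0 .nil .nil))) (.node 0 (.node 0 (.node 1 .nil .nil) (.node 1 .nil .nil)) (.node (-2) (.node 1 .nil .nil) (.node 0 .nil .nil))))) (.node 0 (.node 0 (.node 0 (.node 0 (.node (-1) .nil .nil) (.node 0 .nil .nil)) (.node 0 (.node 0 .nil .nil) (.node 1 .nil .nil))) (.node (-1) (.node (-1) (.node 0 .nil .nil) (.node (-1) .nil .nil)) (.node (-1) (.node (-1) .nil .nil) (.node (-1) .nil .nil)))) (.node (-1) (.node 1 (.node 1 (.node (-1) .nil .nil) (.node 0 .nil .nil)) (.node 0 (.node 0 .nil .nil) (.node (-1) .nil .nil))) (.node (-1) (.node (-1) (.node 0 .nil .nil) (.node 0 .nil .nil)) (.node 1 (.node 0 .nil .nil) (.node 0 .nil .nil)))))) (.node 0 (.node 1 (.node 1 (.node 0 (.node 0 (.node (-1) .nil .nil) (.node 1 .nil .nil)) (.node 0 (.node 1 .nil .nil) (.node 1 .nil .nil))) (.node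 0 (.node 0 (.node 0 .nil .nil) (.node (-1) .nil .nil)) (.node 1 (.node (-1) .nil .nil) (.node 0 .nil .nil)))) (.node (-1) (.node 1 (.node 1 (.node 1 .nil .nil) (.node 1 .nil .nil)) (.node 0 (.node 1 .nil .nil) (.node 0 .nil .nil))) (.node 0 (.node 0 (.node 0 .nil .nil) (.node 0 .nil .nil)) (.node 1 (.node 0 .nil .nil) (.node 0 .nil .nil))))) (.node 0 (.node 0 (.node (-1) (.node (-1) (.node 2 .nil .nil) (.node 0 .nil .nil)) (.node (-1) (.node 0 .nil .nil) (.node 0 .nil .nil))) (.node 1 (.node 1 (.node (-1) .nil .nil) (.node 1 .nil .nil)) (.node (-1) (.node 1 .nil .nil) (.node 1 .nil .nil)))) (.node 1 (.node 0 (.node 0 (.node 1 .nil .nil) (.node 0 .nil .nil)) (.node 0 (.node 0 .nil .nil) (.node 1 .nil .nil))) (.node 1 (.node 1 (.node 0 .nil .nil) (.node (-1) .nil .nil)) (.node 0 (.node 0 .nil .nil) .nil)))))) .nil .nil) (.node (.node 0 (.node 0 (.node 0 (.node 0 (.node 1 (.node 0 (.node 2 .nil .nil) (.node 0 .nil .nil)) (.node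 0 (.node 0 .nil .nil) (.node 1 .nil .nil))) (.node (-1) (.node (-1) (.node (-1) .nil .nil) (.node 0 .nil .nil)) (.node 0 (.node 0 .nil .nil) (.node (-1) .nil .nil)))) (.node 0 (.node 1 (.node 1 (.node (-1) .nil .nil) (.node 0 .nil .nil)) (.node 0 (.node 0 .nil .nil) (.node (-1) .nil .nil))) (.node (-1) (.node (-1) (.node 0 .nil .nil) (.node 1 .nil .nil)) (.node 0 (.node 1 .nil .nil) (.node 0 .nil .nil))))) (.node (-1) (.node (-1) (.node 0 (.node 0 (.node 1 .nil .nil) (.node (-1) .nil .nil)) (.node 1 (.node (-1) .nil .nil) (.node 1 .nil .nil))) (.node 0 (.node 0 (.node 0 .nil .nil) (.node 1 .nil .nil)) (.node (-1) (.node 1 .nil .nil) (.node 0 .nil .nil)))) (.node 1 (.node 1 (.node 1 (.node 0 .nil .nil) (.node (-1) .nil .nil)) (.node (-1) (.node (-1) .nil .nil) (.node 0 .nil .nil))) (.node 0 (.node 0 (.node 1 .nil .nil) (.node 0 .nil .nil)) (.node 1 (.node 0 .nil .nil) (.node 0 .nil .nil)))))) (.node 0 (.node 0 (.node 0 (.node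 0 (.node 0 (.node (-1) .nil .nil) (.node 0 .nil .nil)) (.node (-1) (.node 0 .nil .nil) (.node (-1) .nil .nil))) (.node 1 (.node 1 (.node 1 .nil .nil) (.node (-1) .nil .nil)) (.node 0 (.node (-1) .nil .nil) (.node 1 .nil .nil)))) (.node (-1) (.node (-1) (.node (-1) (.node 1 .nil .nil) (.node 0 .nil .nil)) (.node 0 (.node 0 .nil .nil) (.node 1 .nil .nil))) (.node 1 (.node 1 (.node (-1) .nil .nil) (.node 0 .nil .nil)) (.node (-1) (.node 0 .nil .nil) (.node 0 .nil .nil))))) (.node 1 (.node 1 (.node (-1) (.node (-1) (.node 0 .nil .nil) (.node 1 .nil .nil)) (.node 0 (.node 1 .nil .nil) (.node 0 .nil .nil))) (.node 0 (.node 0 (.node 0 .nil .nil) (.node (-1) .nil .nil)) (.node 1 (.node (-1) .nil .nil) (.node 0 .nil .nil)))) (.node (-1) (.node 0 (.node 0 (.node 0 .nil .nil) (.node 1 .nil .nil)) (.node 1 (.node 1 .nil .nil) (.node 0 .nil .nil))) (.node 0 (.node 0 (.node 0 .nil .nil) (.node (-1) .nil .nil)) (.node (-2) (.node 0 .nil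 .nil) .nil)))))) .nil .nil)))
  cor := (.node (.node (-2) (.node (-2) (.node (-4) .nil .nil) (.node (-2) .nil .nil)) (.node (-3) (.node (-3) .nil .nil) (.node (-1) .nil .nil))) (.node (.node (-1) (.node (-2) (.node (-4) .nil .nil) (.node (-2) .nil .nil)) (.node (-3) (.node (-3) .nil .nil) (.node (-1) .nil .nil))) (.node (.node (-1) (.node (-2) (.node (-3) .nil .nil) (.node (-2) .nil .nil)) (.node (-2) (.node (-3) .nil .nil) (.node (-1) .nil .nil))) (.node (.node (-1) (.node (-1) (.node (-3) .nil .nil) (.node (-2) .nil .nil)) (.node (-2) (.node (-3) .nil .nil) (.node (-1) .nil .nil))) (.node (.node (-1) (.node (-1) (.node (-2) .nil .nil) (.node (-1) .nil .nil)) (.node (-2) (.node (-1) .nil .nil) (.node 0 .nil .nil))) (.node (.node (-1) (.node 0 (.node 0 .nil .nil) (.node 0 .nil .nil)) (.node (-1) (.node 0 .nil .nil) (.node 0 .nil .nil))) (.node (.node 0 (.node 0 (.node 0 .nil .nil) (.node 0 .nil .nil)) (.node 0 (.node 0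 .nil .nil) (.node 1 .nil .nil))) .nil .nil) (.node (.node 1 (.node 0 (.node 1 .nil .nil) (.node 0 .nil .nil)) (.node 1 (.node 0 .nil .nil) (.node 0 .nil .nil))) .nil .nil)) (.node (.node 0 (.node (-1) (.node 0 .nil .nil) (.node 0 .nil .nil)) (.node 0 (.node 0 .nil .nil) (.node 0 .nil .nil))) (.node (.node 0 (.node 1 (.node 1 .nil .nil) (.node 0 .nil .nil)) (.node 0 (.node 0 .nil .nil) (.node 0 .nil .nil))) .nil .nil) (.node (.node 1 (.node 1 (.node 2 .nil .nil) (.node 1 .nil .nil)) (.node 2 (.node 1 .nil .nil) (.node 1 .nil .nil))) .nil .nil))) (.node (.node (-1) (.node (-1) (.node (-1) .nil .nil) (.node (-1) .nil .nil)) (.node (-1) (.node (-1) .nil .nil) (.node (-1) .nil .nil))) (.node (.node 0 (.node (-1) (.node (-1) .nil .nil) (.node (-1) .nil .nil)) (.node (-1) (.node (-1) .nil .nil) (.node (-1) .nil .nil))) (.node (.node 0 (.node 0 (.node 1 .nil .nil) (.node 1 .nil .nil)) (.node 0 (.node 1 .nil .nil) (.node 0 .nil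 .nil))) .nil .nil) (.node (.node 1 (.node 1 (.node 2 .nil .nil) (.node 0 .nil .nil)) (.node 1 (.node 1 .nil .nil) (.node 0 .nil .nil))) .nil .nil)) (.node (.node 0 (.node 0 (.node (-1) .nil .nil) (.node 0 .nil .nil)) (.node 0 (.node (-1) .nil .nil) (.node 0 .nil .nil))) (.node (.node 0 (.node 1 (.node 2 .nil .nil) (.node 0 .nil .nil)) (.node 1 (.node 1 .nil .nil) (.node 0 .nil .nil))) .nil .nil) (.node (.node 1 (.node 2 (.node 3 .nil .nil) (.node 1 .nil .nil)) (.node 2 (.node 2 .nil .nil) (.node 0 .nil .nil))) .nil .nil)))) (.node (.node (-1) (.node (-1) (.node (-2) .nil .nil) (.node (-2) .nil .nil)) (.node (-2) (.node (-2) .nil .nil) (.node (-1) .nil .nil))) (.node (.node (-1) (.node (-1) (.node (-2) .nil .nil) (.node (-1) .nil .nil)) (.node (-1) (.node (-2) .nil .nil) (.node 0 .nil .nil))) (.node (.node 0 (.node (-1) (.node (-2) .nil .nil) (.node (-1) .nil .nil)) (.node (-1) (.node (-2) .nil .nil) (.node 0 .nil .nil)))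 (.node (.node 0 (.node 0 (.node 0 .nil .nil) (.node 1 .nil .nil)) (.node 0 (.node 1 .nil .nil) (.node 0 .nil .nil))) .nil .nil) (.node (.node 1 (.node 1 (.node 1 .nil .nil) (.node 0 .nil .nil)) (.node 1 (.node 0 .nil .nil) (.node 0 .nil .nil))) .nil .nil)) (.node (.node 0 (.node 0 (.node (-1) .nil .nil) (.node 0 .nil .nil)) (.node (-1) (.node 0 .nil .nil) (.node 0 .nil .nil))) (.node (.node 0 (.node 1 (.node 1 .nil .nil) (.node 0 .nil .nil)) (.node 1 (.node 0 .nil .nil) (.node 0 .nil .nil))) .nil .nil) (.node (.node 1 (.node 1 (.node 3 .nil .nil) (.node 1 .nil .nil)) (.node 2 (.node 2 .nil .nil) (.node 0 .nil .nil))) .nil .nil))) (.node (.node (-1) (.node 0 (.node (-1) .nil .nil) (.node (-1) .nil .nil)) (.node (-1) (.node (-1) .nil .nil) (.node (-1) .nil .nil))) (.node (.node 0 (.node (-1) (.node (-1) .nil .nil) (.node (-1) .nil .nil)) (.node 0 (.node (-1) .nil .nil) (.node (-1) .nil .nil))) (.node (.node 0 (.node 0 (.node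 1 .nil .nil) (.node 0 .nil .nil)) (.node 1 (.node 1 .nil .nil) (.node 0 .nil .nil))) .nil .nil) (.node (.node 1 (.node 1 (.node 2 .nil .nil) (.node 1 .nil .nil)) (.node 1 (.node 2 .nil .nil) (.node 1 .nil .nil))) .nil .nil)) (.node (.node 0 (.node 0 (.node 0 .nil .nil) (.node 0 .nil .nil)) (.node 0 (.node (-1) .nil .nil) (.node 0 .nil .nil))) (.node (.node 0 (.node 1 (.node 2 .nil .nil) (.node 1 .nil .nil)) (.node 1 (.node 2 .nil .nil) (.node 1 .nil .nil))) .nil .nil) (.node (.node 1 (.node 2 (.node 4 .nil .nil) (.node 2 .nil .nil)) (.node 2 (.node 3 .nil .nil) (.node 1 .nil .nil))) .nil .nil))))) (.node (.node (-1) (.node (-2) (.node (-3) .nil .nil) (.node (-1) .nil .nil)) (.node (-2) (.node (-2) .nil .nil) (.node (-1) .nil .nil))) (.node (.node (-1) (.node (-1) (.node (-3) .nil .nil) (.node (-1) .nil .nil)) (.node (-2) (.node (-2) .nil .nil) (.node (-1) .nil .nil))) (.node (.node (-1) (.node (-1) (.node (-2) .nil .nil)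 (.node (-2) .nil .nil)) (.node (-1) (.node (-2) .nil .nil) (.node (-1) .nil .nil))) (.node (.node 0 (.node (-1) (.node (-2) .nil .nil) (.node (-2) .nil .nil)) (.node (-1) (.node (-2) .nil .nil) (.node (-1) .nil .nil))) (.node (.node 0 (.node 0 (.node 0 .nil .nil) (.node 1 .nil .nil)) (.node 0 (.node 0 .nil .nil) (.node 1 .nil .nil))) .nil .nil) (.node (.node 1 (.node 0 (.node 1 .nil .nil) (.node 1 .nil .nil)) (.node 1 (.node 1 .nil .nil) (.node 0 .nil .nil))) .nil .nil)) (.node (.node 0 (.node 0 (.node (-1) .nil .nil) (.node (-1) .nil .nil)) (.node (-1) (.node (-1) .nil .nil) (.node 0 .nil .nil))) (.node (.node 0 (.node 1 (.node 1 .nil .nil) (.node 1 .nil .nil)) (.node 0 (.node 1 .nil .nil) (.node 0 .nil .nil))) .nil .nil) (.node (.node 1 (.node 1 (.node 2 .nil .nil) (.node 1 .nil .nil)) (.node 2 (.node 2 .nil .nil) (.node 1 .nil .nil))) .nil .nil))) (.node (.node (-1) (.node (-1) (.node (-1) .nil .nil) (.node 0 .nil .nil))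 (.node (-1) (.node (-1) .nil .nil) (.node 0 .nil .nil))) (.node (.node 0 (.node (-1) (.node (-1) .nil .nil) (.node 0 .nil .nil)) (.node (-1) (.node (-1) .nil .nil) (.node 0 .nil .nil))) (.node (.node 0 (.node 0 (.node 0 .nil .nil) (.node 0 .nil .nil)) (.node 1 (.node 0 .nil .nil) (.node 0 .nil .nil))) .nil .nil) (.node (.node 1 (.node 1 (.node 2 .nil .nil) (.node 1 .nil .nil)) (.node 1 (.node 1 .nil .nil) (.node 1 .nil .nil))) .nil .nil)) (.node (.node 0 (.node 0 (.node 0 .nil .nil) (.node (-1) .nil .nil)) (.node 0 (.node (-1) .nil .nil) (.node (-1) .nil .nil))) (.node (.node 0 (.node 1 (.node 2 .nil .nil) (.node 1 .nil .nil)) (.node 1 (.node 1 .nil .nil) (.node 1 .nil .nil))) .nil .nil) (.node (.node 1 (.node 2 (.node 3 .nil .nil) (.node 2 .nil .nil)) (.node 2 (.node 2 .nil .nil) (.node 1 .nil .nil))) .nil .nil)))) (.node (.node (-1) (.node (-1) (.node (-2) .nil .nil) (.node (-1) .nil .nil)) (.node (-2) (.node (-2) .nil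 .nil) (.node 0 .nil .nil))) (.node (.node (-1) (.node (-1) (.node (-2) .nil .nil) (.node (-1) .nil .nil)) (.node (-1) (.node (-1) .nil .nil) (.node 0 .nil .nil))) (.node (.node 0 (.node (-1) (.node (-2) .nil .nil) (.node (-1) .nil .nil)) (.node (-1) (.node (-1) .nil .nil) (.node 0 .nil .nil))) (.node (.node 0 (.node 0 (.node 1 .nil .nil) (.node 0 .nil .nil)) (.node 0 (.node 0 .nil .nil) (.node 0 .nil .nil))) .nil .nil) (.node (.node 1 (.node 1 (.node 1 .nil .nil) (.node 1 .nil .nil)) (.node 1 (.node 1 .nil .nil) (.node 0 .nil .nil))) .nil .nil)) (.node (.node 0 (.node 0 (.node (-1) .nil .nil) (.node (-1) .nil .nil)) (.node 0 (.node (-1) .nil .nil) (.node (-1) .nil .nil))) (.node (.node 0 (.node 1 (.node 1 .nil .nil) (.node 1 .nil .nil)) (.node 1 (.node 1 .nil .nil) (.node 0 .nil .nil))) .nil .nil) (.node (.node 1 (.node 1 (.node 3 .nil .nil) (.node 2 .nil .nil)) (.node 2 (.node 2 .nil .nil) (.node 1 .nil .nil))) .nil .nil)))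 (.node (.node (-1) (.node 0 (.node (-1) .nil .nil) (.node 0 .nil .nil)) (.node (-1) (.node (-1) .nil .nil) (.node 0 .nil .nil))) (.node (.node 0 (.node (-1) (.node (-1) .nil .nil) (.node 0 .nil .nil)) (.node 0 (.node (-1) .nil .nil) (.node 0 .nil .nil))) (.node (.node 0 (.node 0 (.node 1 .nil .nil) (.node 1 .nil .nil)) (.node 1 (.node 1 .nil .nil) (.node 1 .nil .nil))) .nil .nil) (.node (.node 1 (.node 1 (.node 2 .nil .nil) (.node 0 .nil .nil)) (.node 2 (.node 1 .nil .nil) (.node 0 .nil .nil))) .nil .nil)) (.node (.node 0 (.node 0 (.node 0 .nil .nil) (.node (-1) .nil .nil)) (.node 0 (.node 0 .nil .nil) (.node 0 .nil .nil))) (.node (.node 1 (.node 0 (.node 0 .nil .nil) (.node 0 .nil .nil)) (.node 0 (.node 0 .nil .nil) (.node 0 .nil .nil))) .nil .nil) (.node (.node 2 (.node 2 (.node 4 .nil .nil) (.node 2 .nil .nil)) (.node 3 (.node 3 .nil .nil) (.node 1 .nil .nil))) .nil .nil)))))) (.node (.node (-1) (.node (-2) (.node (-4)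 .nil .nil) (.node (-2) .nil .nil)) (.node (-2) (.node (-3) .nil .nil) (.node (-1) .nil .nil))) (.node (.node (-1) (.node (-2) (.node (-3) .nil .nil) (.node (-2) .nil .nil)) (.node (-2) (.node (-2) .nil .nil) (.node (-1) .nil .nil))) (.node (.node (-1) (.node (-1) (.node (-3) .nil .nil) (.node (-2) .nil .nil)) (.node (-2) (.node (-2) .nil .nil) (.node (-1) .nil .nil))) (.node (.node (-1) (.node (-1) (.node (-2) .nil .nil) (.node 0 .nil .nil)) (.node (-2) (.node (-1) .nil .nil) (.node 0 .nil .nil))) (.node (.node (-1) (.node 0 (.node 0 .nil .nil) (.node 0 .nil .nil)) (.node 0 (.node 0 .nil .nil) (.node 0 .nil .nil))) (.node (.node 0 (.node 0 (.node 0 .nil .nil) (.node 1 .nil .nil)) (.node 0 (.node 0 .nil .nil) (.node 0 .nil .nil))) .nil .nil) (.node (.node 1 (.node 0 (.node 1 .nil .nil) (.node 0 .nil .nil)) (.node 1 (.node 1 .nil .nil) (.node 0 .nil .nil))) .nil .nil)) (.node (.node 0 (.node 0 (.node (-1) .nil .nil) (.node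 (-1) .nil .nil)) (.node (-1) (.node (-1) .nil .nil) (.node (-1) .nil .nil))) (.node (.node 0 (.node 1 (.node 1 .nil .nil) (.node 0 .nil .nil)) (.node 0 (.node 1 .nil .nil) (.node 0 .nil .nil))) .nil .nil) (.node (.node 1 (.node 1 (.node 2 .nil .nil) (.node 1 .nil .nil)) (.node 2 (.node 2 .nil .nil) (.node 0 .nil .nil))) .nil .nil))) (.node (.node (-1) (.node (-1) (.node (-1) .nil .nil) (.node (-1) .nil .nil)) (.node (-1) (.node (-1) .nil .nil) (.node 0 .nil .nil))) (.node (.node 0 (.node (-1) (.node (-1) .nil .nil) (.node (-1) .nil .nil)) (.node (-1) (.node (-1) .nil .nil) (.node 0 .nil .nil))) (.node (.node 0 (.node 0 (.node 1 .nil .nil) (.node 1 .nil .nil)) (.node 0 (.node 1 .nil .nil) (.node 1 .nil .nil))) .nil .nil) (.node (.node 1 (.node 1 (.node 2 .nil .nil) (.node 1 .nil .nil)) (.node 1 (.node 1 .nil .nil) (.node 0 .nil .nil))) .nil .nil)) (.node (.node 0 (.node 0 (.node (-1) .nil .nil) (.node 0 .nil .nil)) (.node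 0 (.node 0 .nil .nil) (.node 0 .nil .nil))) (.node (.node 0 (.node 1 (.node 2 .nil .nil) (.node 1 .nil .nil)) (.node 1 (.node 1 .nil .nil) (.node 0 .nil .nil))) .nil .nil) (.node (.node 1 (.node 2 (.node 3 .nil .nil) (.node 1 .nil .nil)) (.node 2 (.node 2 .nil .nil) (.node 1 .nil .nil))) .nil .nil)))) (.node (.node (-1) (.node (-1) (.node (-2) .nil .nil) (.node (-1) .nil .nil)) (.node (-2) (.node (-2) .nil .nil) (.node (-1) .nil .nil))) (.node (.node (-1) (.node (-1) (.node (-2) .nil .nil) (.node (-1) .nil .nil)) (.node (-1) (.node (-1) .nil .nil) (.node (-1) .nil .nil))) (.node (.node 0 (.node (-1) (.node (-2) .nil .nil) (.node (-1) .nil .nil)) (.node (-1) (.node (-1) .nil .nil) (.node (-1) .nil .nil))) (.node (.node 0 (.node 0 (.node 0 .nil .nil) (.node 1 .nil .nil)) (.node 0 (.node 1 .nil .nil) (.node 1 .nil .nil))) .nil .nil) (.node (.node 1 (.node 1 (.node 1 .nil .nil) (.node 0 .nil .nil)) (.node 1 (.node 1 .nil .nil)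 (.node 0 .nil .nil))) .nil .nil)) (.node (.node 0 (.node 0 (.node 0 .nil .nil) (.node 0 .nil .nil)) (.node (-1) (.node 0 .nil .nil) (.node 0 .nil .nil))) (.node (.node 0 (.node 1 (.node 1 .nil .nil) (.node 0 .nil .nil)) (.node 1 (.node 1 .nil .nil) (.node 0 .nil .nil))) .nil .nil) (.node (.node 1 (.node 1 (.node 3 .nil .nil) (.node 1 .nil .nil)) (.node 2 (.node 2 .nil .nil) (.node 1 .nil .nil))) .nil .nil))) (.node (.node (-1) (.node 0 (.node (-1) .nil .nil) (.node (-1) .nil .nil)) (.node (-1) (.node (-1) .nil .nil) (.node 0 .nil .nil))) (.node (.node 0 (.node (-1) (.node (-1) .nil .nil) (.node (-1) .nil .nil)) (.node 0 (.node (-1) .nil .nil) (.node 0 .nil .nil))) (.node (.node 0 (.node 0 (.node 1 .nil .nil) (.node 1 .nil .nil)) (.node 1 (.node 1 .nil .nil) (.node 0 .nil .nil))) .nil .nil) (.node (.node 1 (.node 1 (.node 2 .nil .nil) (.node 2 .nil .nil)) (.node 1 (.node 2 .nil .nil) (.node 1 .nil .nil))) .nil .nil)) (.node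 (.node 0 (.node 0 (.node 0 .nil .nil) (.node (-1) .nil .nil)) (.node 0 (.node 0 .nil .nil) (.node (-1) .nil .nil))) (.node (.node 0 (.node 1 (.node 2 .nil .nil) (.node 2 .nil .nil)) (.node 1 (.node 2 .nil .nil) (.node 1 .nil .nil))) .nil .nil) (.node (.node 1 (.node 2 (.node 4 .nil .nil) (.node 2 .nil .nil)) (.node 3 (.node 3 .nil .nil) (.node 1 .nil .nil))) .nil .nil))))) (.node (.node (-1) (.node (-2) (.node (-3) .nil .nil) (.node (-1) .nil .nil)) (.node (-2) (.node (-2) .nil .nil) (.node 0 .nil .nil))) (.node (.node (-1) (.node (-1) (.node (-3) .nil .nil) (.node (-1) .nil .nil)) (.node (-2) (.node (-2) .nil .nil) (.node 0 .nil .nil))) (.node (.node (-1) (.node (-1) (.node (-2) .nil .nil) (.node (-1) .nil .nil)) (.node (-1) (.node (-2) .nil .nil) (.node (-1) .nil .nil))) (.node (.node 0 (.node (-1) (.node (-2) .nil .nil) (.node (-1) .nil .nil)) (.node (-1) (.node (-2) .nil .nil) (.node (-1) .nil .nil))) (.node (.node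 0 (.node 0 (.node 0 .nil .nil) (.node 0 .nil .nil)) (.node 0 (.node 1 .nil .nil) (.node 0 .nil .nil))) .nil .nil) (.node (.node 1 (.node 0 (.node 1 .nil .nil) (.node 1 .nil .nil)) (.node 1 (.node 1 .nil .nil) (.node 1 .nil .nil))) .nil .nil)) (.node (.node 0 (.node 0 (.node (-1) .nil .nil) (.node 0 .nil .nil)) (.node (-1) (.node (-1) .nil .nil) (.node 0 .nil .nil))) (.node (.node 0 (.node 1 (.node 1 .nil .nil) (.node 1 .nil .nil)) (.node 0 (.node 1 .nil .nil) (.node 1 .nil .nil))) .nil .nil) (.node (.node 1 (.node 1 (.node 2 .nil .nil) (.node 2 .nil .nil)) (.node 2 (.node 2 .nil .nil) (.node 1 .nil .nil))) .nil .nil))) (.node (.node (-1) (.node (-1) (.node (-1) .nil .nil) (.node 0 .nil .nil)) (.node (-1) (.node 0 .nil .nil) (.node 0 .nil .nil))) (.node (.node 0 (.node (-1) (.node (-1) .nil .nil) (.node 0 .nil .nil)) (.node (-1) (.node 0 .nil .nil) (.node 0 .nil .nil))) (.node (.node 0 (.node 0 (.node 1 .nil .nil) (.node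 0 .nil .nil)) (.node 1 (.node 0 .nil .nil) (.node 0 .nil .nil))) .nil .nil) (.node (.node 1 (.node 1 (.node 2 .nil .nil) (.node 1 .nil .nil)) (.node 1 (.node 2 .nil .nil) (.node 0 .nil .nil))) .nil .nil)) (.node (.node 0 (.node 0 (.node 0 .nil .nil) (.node (-1) .nil .nil)) (.node 0 (.node (-1) .nil .nil) (.node 0 .nil .nil))) (.node (.node 0 (.node 1 (.node 2 .nil .nil) (.node 1 .nil .nil)) (.node 1 (.node 2 .nil .nil) (.node 0 .nil .nil))) .nil .nil) (.node (.node 1 (.node 2 (.node 3 .nil .nil) (.node 2 .nil .nil)) (.node 2 (.node 3 .nil .nil) (.node 1 .nil .nil))) .nil .nil)))) (.node (.node (-1) (.node (-1) (.node (-2) .nil .nil) (.node (-1) .nil .nil)) (.node (-2) (.node (-1) .nil .nil) (.node (-1) .nil .nil))) (.node (.node (-1) (.node (-1) (.node (-2) .nil .nil) (.node 0 .nil .nil)) (.node (-1) (.node (-1) .nil .nil) (.node 0 .nil .nil))) (.node (.node 0 (.node (-1) (.node (-2) .nil .nil) (.node 0 .nil .nil)) (.node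 (-1) (.node (-1) .nil .nil) (.node 0 .nil .nil))) (.node (.node 0 (.node 0 (.node 1 .nil .nil) (.node 0 .nil .nil)) (.node 0 (.node 1 .nil .nil) (.node 0 .nil .nil))) .nil .nil) (.node (.node 1 (.node 1 (.node 1 .nil .nil) (.node 1 .nil .nil)) (.node 1 (.node 1 .nil .nil) (.node 1 .nil .nil))) .nil .nil)) (.node (.node 0 (.node 0 (.node (-1) .nil .nil) (.node (-1) .nil .nil)) (.node 0 (.node (-1) .nil .nil) (.node 0 .nil .nil))) (.node (.node 0 (.node 1 (.node 1 .nil .nil) (.node 1 .nil .nil)) (.node 1 (.node 1 .nil .nil) (.node 1 .nil .nil))) .nil .nil) (.node (.node 1 (.node 1 (.node 3 .nil .nil) (.node 2 .nil .nil)) (.node 2 (.node 3 .nil .nil) (.node 1 .nil .nil))) .nil .nil))) (.node (.node (-1) (.node 0 (.node (-1) .nil .nil) (.node 0 .nil .nil)) (.node (-1) (.node 0 .nil .nil) (.node 0 .nil .nil))) (.node (.node 0 (.node (-1) (.node (-1) .nil .nil) (.node 0 .nil .nil)) (.node 0 (.node 0 .nil .nil) (.node 0 .nil .nil)))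 (.node (.node 0 (.node 1 (.node 0 .nil .nil) (.node 0 .nil .nil)) (.node 0 (.node 0 .nil .nil) (.node 0 .nil .nil))) .nil .nil) (.node (.node 1 (.node 1 (.node 2 .nil .nil) (.node 1 .nil .nil)) (.node 2 (.node 1 .nil .nil) (.node 0 .nil .nil))) .nil .nil)) (.node (.node 0 (.node 0 (.node 0 .nil .nil) (.node 0 .nil .nil)) (.node 0 (.node 0 .nil .nil) (.node (-1) .nil .nil))) (.node (.node 1 (.node 0 (.node 0 .nil .nil) (.node 0 .nil .nil)) (.node 1 (.node 0 .nil .nil) (.node 0 .nil .nil))) .nil .nil) .nil))))))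
  ng := (.node 125 (.node 124 (.node 122 (.node 118 (.node 110 (.node 94 (.node 62 .nil .nil) (.node 30 .nil .nil)) (.node 78 (.node 46 .nil .nil) (.node 14 .nil .nil))) (.node 102 (.node 86 (.node 54 .nil .nil) (.node 22 .nil .nil)) (.node 70 (.node 38 .nil .nil) (.node 6 .nil .nil)))) (.node 114 (.node 106 (.node 90 (.node 58 .nil .nil) (.node 26 .nil .nil)) (.node 74 (.node 42 .nil .nil) (.node 10 .nil .nil))) (.node 98 (.node 82 (.node 50 .nil .nil) (.node 18 .nil .nil)) (.node 66 (.node 34 .nil .nil) (.node 2 .nil .nil))))) (.node 120 (.node 116 (.node 108 (.node 92 (.node 60 .nil .nil) (.node 28 .nil .nil)) (.node 76 (.node 44 .nil .nil) (.node 12 .nil .nil))) (.node 100 (.node 84 (.node 52 .nil .nil) (.node 20 .nil .nil)) (.node 68 (.node 36 .nil .nil) (.node 4 .nil .nil)))) (.node 112 (.node 104 (.node 88 (.node 56 .nil .nil) (.node 24 .nil .nil)) (.node 72 (.node 40 .nil .nil) (.node 8 .nil .nil))) (.node 96 (.node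 80 (.node 48 .nil .nil) (.node 16 .nil .nil)) (.node 64 (.node 32 .nil .nil) (.node 0 .nil .nil)))))) (.node 123 (.node 121 (.node 117 (.node 109 (.node 93 (.node 61 .nil .nil) (.node 29 .nil .nil)) (.node 77 (.node 45 .nil .nil) (.node 13 .nil .nil))) (.node 101 (.node 85 (.node 53 .nil .nil) (.node 21 .nil .nil)) (.node 69 (.node 37 .nil .nil) (.node 5 .nil .nil)))) (.node 113 (.node 105 (.node 89 (.node 57 .nil .nil) (.node 25 .nil .nil)) (.node 73 (.node 41 .nil .nil) (.node 9 .nil .nil))) (.node 97 (.node 81 (.node 49 .nil .nil) (.node 17 .nil .nil)) (.node 65 (.node 33 .nil .nil) (.node 1 .nil .nil))))) (.node 119 (.node 115 (.node 107 (.node 91 (.node 59 .nil .nil) (.node 27 .nil .nil)) (.node 75 (.node 43 .nil .nil) (.node 11 .nil .nil))) (.node 99 (.node 83 (.node 51 .nil .nil) (.node 19 .nil .nil)) (.node 67 (.node 35 .nil .nil) (.node 3 .nil .nil)))) (.node 111 (.node 103 (.node 87 (.node 55 .nil .nil) (.node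 23 .nil .nil)) (.node 71 (.node 39 .nil .nil) (.node 7 .nil .nil))) (.node 95 (.node 79 (.node 47 .nil .nil) (.node 15 .nil .nil)) (.node 63 (.node 31 .nil .nil) .nil))))))
  sp := (.node 93 (.node 78 (.node 69 .nil .nil) (.node 64 .nil .nil)) (.node 73 (.node 66 .nil .nil) (.node 63 .nil .nil)))
  ch := (.node C0 (.node C1 (.node C3 (.node C7 (.node C15 (.node C31 (.node C63 .nil .nil) (.node C95 .nil .nil)) (.node C47 (.node C79 .nil .nil) (.node C111 .nil .nil))) (.node C23 (.node C39 (.node C71 .nil .nil) (.node C103 .nil .nil)) (.node C55 (.node C87 .nil .nil) (.node C119 .nil .nil)))) (.node C11 (.node C19 (.node C35 (.node C67 .nil .nil) (.node C99 .nil .nil)) (.node C51 (.node C83 .nil .nil) (.node C115 .nil .nil))) (.node C27 (.node C43 (.node C75 .nil .nil) (.node C107 .nil .nil)) (.node C59 (.node C91 .nil .nil) (.node C123 .nil .nil))))) (.node C5 (.node C9 (.node C17 (.node C33 (.node C65 .nil .nil) (.node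 C97 .nil .nil)) (.node C49 (.node C81 .nil .nil) (.node C113 .nil .nil))) (.node C25 (.node C41 (.node C73 .nil .nil) (.node C105 .nil .nil)) (.node C57 (.node C89 .nil .nil) (.node C121 .nil .nil)))) (.node C13 (.node C21 (.node C37 (.node C69 .nil .nil) (.node C101 .nil .nil)) (.node C53 (.node C85 .nil .nil) (.node C117 .nil .nil))) (.node C29 (.node C45 (.node C77 .nil .nil) (.node C109 .nil .nil)) (.node C61 (.node C93 .nil .nil) (.node C125 .nil .nil)))))) (.node C2 (.node C4 (.node C8 (.node C16 (.node C32 (.node C64 .nil .nil) (.node C96 .nil .nil)) (.node C48 (.node C80 .nil .nil) (.node C112 .nil .nil))) (.node C24 (.node C40 (.node C72 .nil .nil) (.node C104 .nil .nil)) (.node C56 (.node C88 .nil .nil) (.node C120 .nil .nil)))) (.node C12 (.node C20 (.node C36 (.node C68 .nil .nil) (.node C100 .nil .nil)) (.node C52 (.node C84 .nil .nil) (.node C116 .nil .nil))) (.node C28 (.node C44 (.node C76 .nil .nil) (.node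 C108 .nil .nil)) (.node C60 (.node C92 .nil .nil) (.node C124 .nil .nil))))) (.node C6 (.node C10 (.node C18 (.node C34 (.node C66 .nil .nil) (.node C98 .nil .nil)) (.node C50 (.node C82 .nil .nil) (.node C114 .nil .nil))) (.node C26 (.node C42 (.node C74 .nil .nil) (.node C106 .nil .nil)) (.node C58 (.node C90 .nil .nil) (.node C122 .nil .nil)))) (.node C14 (.node C22 (.node C38 (.node C70 .nil .nil) (.node C102 .nil .nil)) (.node C54 (.node C86 .nil .nil) (.node C118 .nil .nil))) (.node C30 (.node C46 (.node C78 .nil .nil) (.node C110 .nil .nil)) (.node C62 (.node C94 .nil .nil) .nil))))))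
  tm := (.node M0 (.node M1 (.node M3 (.node M7 (.node M15 (.node M31 (.node M63 .nil .nil) (.node M95 .nil .nil)) (.node M47 (.node M79 .nil .nil) (.node M111 .nil .nil))) (.node M23 (.node M39 (.node M71 .nil .nil) (.node M103 .nil .nil)) (.node M55 (.node M87 .nil .nil) (.node M119 .nil .nil)))) (.node M11 (.node M19 (.node M35 (.node M67 .nil .nil) (.node M99 .nil .nil)) (.node M51 (.node M83 .nil .nil) (.node M115 .nil .nil))) (.node M27 (.node M43 (.node M75 .nil .nil) (.node M107 .nil .nil)) (.node M59 (.node M91 .nil .nil) (.node M123 .nil .nil))))) (.node M5 (.node M9 (.node M17 (.node M33 (.node M65 .nil .nil) (.node M97 .nil .nil)) (.node M49 (.node M81 .nil .nil) (.node M113 .nil .nil))) (.node M25 (.node M41 (.node M73 .nil .nil) (.node M105 .nil .nil)) (.node M57 (.node M89 .nil .nil) (.node M121 .nil .nil)))) (.node M13 (.node M21 (.node M37 (.node M69 .nil .nil) (.node M101 .nil .nil)) (.node M53 (.node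 M85 .nil .nil) (.node M117 .nil .nil))) (.node M29 (.node M45 (.node M77 .nil .nil) (.node M109 .nil .nil)) (.node M61 (.node M93 .nil .nil) (.node M125 .nil .nil)))))) (.node M2 (.node M4 (.node M8 (.node M16 (.node M32 (.node M64 .nil .nil) (.node M96 .nil .nil)) (.node M48 (.node M80 .nil .nil) (.node M112 .nil .nil))) (.node M24 (.node M40 (.node M72 .nil .nil) (.node M104 .nil .nil)) (.node M56 (.node M88 .nil .nil) (.node M120 .nil .nil)))) (.node M12 (.node M20 (.node M36 (.node M68 .nil .nil) (.node M100 .nil .nil)) (.node M52 (.node M84 .nil .nil) (.node M116 .nil .nil))) (.node M28 (.node M44 (.node M76 .nil .nil) (.node M108 .nil .nil)) (.node M60 (.node M92 .nil .nil) (.node M124 .nil .nil))))) (.node M6 (.node M10 (.node M18 (.node M34 (.node M66 .nil .nil) (.node M98 .nil .nil)) (.node M50 (.node M82 .nil .nil) (.node M114 .nil .nil))) (.node M26 (.node M42 (.node M74 .nil .nil) (.node M106 .nil .nil)) (.node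 M58 (.node M90 .nil .nil) (.node M122 .nil .nil)))) (.node M14 (.node M22 (.node M38 (.node M70 .nil .nil) (.node M102 .nil .nil)) (.node M54 (.node M86 .nil .nil) (.node M118 .nil .nil))) (.node M30 (.node M46 (.node M78 .nil .nil) (.node M110 .nil .nil)) (.node M62 (.node M94 .nil .nil) .nil))))))
  bz := (.node (6, 6, (-1), 0) (.node (0, 0, (-1), 0) (.node (0, 0, (-1), 0) (.node (0, 0, (-1), 0) (.node (0, 0, (-1), 0) (.node (0, 0, (-1), 0) (.node (6, 6, 1, 0) .nil .nil) (.node (0, 0, 1, 0) .nil .nil)) (.node (1, 1, (-1), 0) (.node (1, 1, 1, 0) .nil .nil) (.node (0, 0, 1, 0) .nil .nil))) (.node (0, 0, (-1), 0) (.node (1, 1, (-1), 0) (.node (3, 3, 1, 0) .nil .nil) (.node (0, 0, 1, 0) .nil .nil)) (.node (3, 3, (-1), 0) (.node (1, 1, 1, 0) .nil .nil) (.node (0, 0, 1, 0) .nil .nil)))) (.node (0, 0, (-1), 0) (.node (0, 0, (-1), 0) (.node (1, 1, (-1), 0) (.node (4, 4, 1, 0) .nil .nil) (.node (0, 0, 1, 0) .nil .nil)) (.node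 (2, 2, (-1), 0) (.node (1, 1, 1, 0) .nil .nil) (.node (0, 0, 1, 0) .nil .nil))) (.node (0, 0, (-1), 0) (.node (1, 1, (-1), 0) (.node (2, 2, 1, 0) .nil .nil) (.node (0, 0, 1, 0) .nil .nil)) (.node (4, 4, (-1), 0) (.node (1, 1, 1, 0) .nil .nil) (.node (0, 0, 1, 0) .nil .nil))))) (.node (0, 0, (-1), 0) (.node (0, 0, (-1), 0) (.node (0, 0, (-1), 0) (.node (1, 1, (-1), 0) (.node (5, 5, 1, 0) .nil .nil) (.node (0, 0, 1, 0) .nil .nil)) (.node (2, 2, (-1), 0) (.node (1, 1, 1, 0) .nil .nil) (.node (0, 0, 1, 0) .nil .nil))) (.node (0, 0, (-1), 0) (.node (1, 1, (-1), 0) (.node (2, 2, 1, 0) .nil .nil) (.node (0, 0, 1, 0) .nil .nil)) (.node (4, 4, (-1), 0) (.node (1, 1, 1, 0) .nil .nil) (.node (0, 0, 1, 0) .nil .nil)))) (.node (0, 0, (-1), 0) (.node (0, 0, (-1), 0) (.node (1, 1, (-1), 0) (.node (3, 3, 1, 0) .nil .nil) (.node (0, 0, 1, 0) .nil .nil)) (.node (3, 3, (-1), 0) (.node (1, 1, 1, 0) .nil .nil) (.node (0, 0, 1, 0) .nil .nil)))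 (.node (0, 0, (-1), 0) (.node (1, 1, (-1), 0) (.node (2, 2, 1, 0) .nil .nil) (.node (0, 0, 1, 0) .nil .nil)) (.node (5, 5, (-1), 0) (.node (0, 0, 1, 0) .nil .nil) (.node (6, 6, 1, 0) .nil .nil)))))) (.node (0, 0, (-1), 0) (.node (0, 0, (-1), 0) (.node (0, 0, (-1), 0) (.node (0, 0, (-1), 0) (.node (0, 0, (-1), 0) (.node (5, 5, 1, 0) .nil .nil) (.node (0, 0, 1, 0) .nil .nil)) (.node (2, 2, (-1), 0) (.node (1, 1, 1, 0) .nil .nil) (.node (0, 0, 1, 0) .nil .nil))) (.node (0, 0, (-1), 0) (.node (1, 1, (-1), 0) (.node (3, 3, 1, 0) .nil .nil) (.node (0, 0, 1, 0) .nil .nil)) (.node (3, 3, (-1), 0) (.node (1, 1, 1, 0) .nil .nil) (.node (0, 0, 1, 0) .nil .nil)))) (.node (0, 0, (-1), 0) (.node (0, 0, (-1), 0) (.node (1, 1, (-1), 0) (.node (4, 4, 1, 0) .nil .nil) (.node (0, 0, 1, 0) .nil .nil)) (.node (2, 2, (-1), 0) (.node (1, 1, 1, 0) .nil .nil) (.node (0, 0, 1, 0) .nil .nil))) (.node (0, 0, (-1), 0) (.node (1, 1, (-1), 0) (.node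 (2, 2, 1, 0) .nil .nil) (.node (0, 0, 1, 0) .nil .nil)) (.node (5, 5, (-1), 0) (.node (1, 1, 1, 0) .nil .nil) (.node (0, 0, 1, 0) .nil .nil))))) (.node (0, 0, (-1), 0) (.node (0, 0, (-1), 0) (.node (0, 0, (-1), 0) (.node (1, 1, (-1), 0) (.node (4, 4, 1, 0) .nil .nil) (.node (0, 0, 1, 0) .nil .nil)) (.node (2, 2, (-1), 0) (.node (1, 1, 1, 0) .nil .nil) (.node (0, 0, 1, 0) .nil .nil))) (.node (0, 0, (-1), 0) (.node (1, 1, (-1), 0) (.node (2, 2, 1, 0) .nil .nil) (.node (0, 0, 1, 0) .nil .nil)) (.node (4, 4, (-1), 0) (.node (1, 1, 1, 0) .nil .nil) (.node (0, 0, 1, 0) .nil .nil)))) (.node (0, 0, (-1), 0) (.node (0, 0, (-1), 0) (.node (1, 1, (-1), 0) (.node (3, 3, 1, 0) .nil .nil) (.node (0, 0, 1, 0) .nil .nil)) (.node (3, 3, (-1), 0) (.node (1, 1, 1, 0) .nil .nil) (.node (0, 0, 1, 0) .nil .nil))) (.node (0, 0, (-1), 0) (.node (1, 1, (-1), 0) (.node (1, 1, 1, 0) .nil .nil) (.node (0, 0, 1, 0) .nil .nil)) (.node (6, 6, (-1), 0)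 (.node (0, 0, 1, 0) .nil .nil) .nil))))))
  order := [(93, none), (32, some (0, 93)), (94, some (2, 93)), (31, some (2, 32)), (73, some (0, 94)), (95, some (3, 94)), (52, some (0, 31)), (30, some (3, 31)), (74, some (3, 73)), (99, some (1, 95)), (96, some (4, 95)), (51, some (3, 52)), (26, some (1, 30)), (29, some (4, 30)), (83, some (1, 74)), (69, some (2, 74)), (75, some (4, 74)), (100, some (4, 99)), (97, some (5, 96)), (42, some (1, 51)), (56, some (2, 51)), (50, some (4, 51)), (25, some (4, 26)), (28, some (5, 29)), (79, some (2, 83)), (84, some (4, 83)), (70, some (4, 69)), (76, some (5, 75)), (103, some (3, 100)), (101, some (5, 100)), (98, some (6, 97)), (46, some (2, 42)), (41, some (4, 42)), (55, some (4, 56)), (49, some (5, 50)), (22, some (3, 25)), (24, some (5, 25)), (27, some (6, 28)), (78, some (3, 79)), (80, some (4, 79)), (87, some (3, 84)), (85, some (5, 84)), (66, some (3, 70)), (71, some (5, 70)), (77,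 some (6, 76)), (109, some (2, 103)), (104, some (5, 103)), (102, some (6, 101)), (47, some (3, 46)), (45, some (4, 46)), (38, some (3, 41)), (40, some (5, 41)), (59, some (3, 55)), (54, some (5, 55)), (48, some (6, 49)), (16, some (2, 22)), (21, some (5, 22)), (23, some (6, 24)), (81, some (5, 80)), (88, some (5, 87)), (86, some (6, 85)), (67, some (5, 66)), (72, some (6, 71)), (110, some (5, 109)), (106, some (4, 104)), (105, some (6, 104)), (44, some (5, 45)), (37, some (5, 38)), (39, some (6, 40)), (58, some (5, 59)), (53, some (6, 54)), (15, some (5, 16)), (19, some (4, 21)), (20, some (6, 21)), (82, some (6, 81)), (90, some (4, 88)), (89, some (6, 88)), (64, some (4, 67)), (68, some (6, 67)), (112, some (4, 110)), (111, some (6, 110)), (107, some (6, 106)), (43, some (6, 44)), (35, some (4, 37)), (36, some (6, 37)), (61, some (4, 58)), (57, some (6, 58)), (13, some (4, 15)), (14, some (6, 15)), (18, some (6, 19)),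 (91, some (6, 90)), (65, some (6, 64)), (115, some (3, 112)), (113, some (6, 112)), (108, some (5, 107)), (34, some (6, 35)), (60, some (6, 61)), (10, some (3, 13)), (12, some (6, 13)), (17, some (5, 18)), (92, some (5, 91)), (63, some (5, 65)), (119, some (1, 115)), (116, some (6, 115)), (114, some (5, 113)), (33, some (5, 34)), (62, some (5, 60)), (6, some (1, 10)), (9, some (6, 10)), (11, some (5, 12)), (120, some (6, 119)), (117, some (5, 116)), (5, some (6, 6)), (8, some (5, 9)), (121, some (5, 120)), (118, some (4, 117)), (4, some (5, 5)), (7, some (4, 8)), (122, some (4, 121)), (3, some (4, 4)), (123, some (3, 122)), (2, some (3, 3)), (124, some (2, 123)), (1, some (2, 2)), (125, some (0, 124)), (0, some (0, 1))]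

end Cfsg.Agent.Chev.E7
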