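import Cfsg.Agent.Lib.Chev.Tables

/-! Generated tables for the datum of type E8. -/

set_option autoImplicit false

namespace Cfsg.Agent.Chev.E8

def X0 : Tr (List (ℕ × ℤ × ℕ)) := (.node [] (.node [] (.node [] (.node [(8, 1, 1)] (.node [] (.node [] (.node [] .nil (.node [(27, (-1), 1)] .nil .nil)) (.node [] (.node [(16, (-1), 1)] .nil .nil) (.node [(54, (-1), 1)] .nil .nil))) (.node [] (.node [] .nil (.node [(36, (-1), 1)] .nil .nil)) (.node [] .nil (.node [(96, 1, 1)] .nil .nil)))) (.node [] (.node [] .nil (.node [] .nil (.node [(70, (-1), 1)] .nil .nil))) (.node [] .nil (.node [] .nil (.node [(0, (-2), 1), (1, (-3), 1), (2, (-4), 1), (3, (-6), 1), (4, (-5), 1), (5, (-4), 1), (6, (-3), 1), (7, (-2), 1), (8, (-1), 2)] .nil .nil))))) (.node [] (.node [] (.node [] (.node [] .nil (.node [(29, (-1), 1)] .nil .nil)) (.node [] (.node [(17, 1, 1)] .nil .nil) .nil)) (.node [] (.node [] .nil (.node [(41, (-1), 1)] .nil .nil)) (.node [] .nil (.node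 [(118, (-1), 1)] .nil .nil)))) (.node [] (.node [] .nil (.node [] .nil (.node [(86, 1, 1)] .nil .nil))) (.node [] (.node [] .nil (.node [(48, 1, 1)] .nil .nil)) .nil)))) (.node [] (.node [] (.node [] (.node [] .nil (.node [] .nil (.node [(57, (-1), 1)] .nil .nil))) (.node [] (.node [] .nil (.node [(38, (-1), 1)] .nil .nil)) (.node [] .nil (.node [(107, (-1), 1)] .nil .nil)))) (.node [] (.node [] (.node [] (.node [(12, 1, 1)] .nil .nil) (.node [(32, 1, 1)] .nil .nil)) (.node [] (.node [(20, (-1), 1)] .nil .nil) (.node [(79, (-1), 1)] .nil .nil))) (.node [] (.node [] .nil (.node [(46, 1, 1)] .nil .nil)) (.node [] (.node [(24, 1, 1)] .nil .nil) .nil)))) (.node [] (.node [] (.node [] (.node [] (.node [(11, 1, 1)] .nil .nil) .nil) (.node [] .nil (.node [(65, (-1), 1)] .nil .nil))) (.node [] .nil (.node [] (.node [(23, (-1), 1)] .nil .nil) (.node [(125, (-1), 1)] .nil .nil)))) (.node [] (.node [] .nil (.node [] .nil (.node [(89, 1, 1)] .nil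 .nil))) (.node [] (.node [] .nil (.node [(51, 1, 1)] .nil .nil)) .nil))))) (.node [] (.node [] (.node [] (.node [] (.node [] (.node [] (.node [(9, 1, 1)] .nil .nil) .nil) (.node [] .nil (.node [(55, 1, 1)] .nil .nil))) (.node [] .nil (.node [] (.node [(22, 1, 1)] .nil .nil) (.node [(101, (-1), 1)] .nil .nil)))) (.node [] (.node [] (.node [] .nil (.node [(31, (-1), 1)] .nil .nil)) (.node [] (.node [(19, 1, 1)] .nil .nil) (.node [(74, 1, 1)] .nil .nil))) (.node [] (.node [] .nil (.node [(45, (-1), 1)] .nil .nil)) .nil))) (.node [] (.node [] (.node [] .nil (.node [] .nil (.node [(64, 1, 1)] .nil .nil))) (.node [] (.node [] (.node [(14, 1, 1)] .nil .nil) .nil) (.node [] .nil (.node [(122, (-1), 1)] .nil .nil)))) (.node [] (.node [] (.node [] .nil (.node [(34, (-1), 1)] .nil .nil)) (.node [] .nil (.node [(87, (-1), 1)] .nil .nil))) (.node [] (.node [] .nil (.node [(49, (-1), 1)] .nil .nil)) (.node [] (.node [(25, (-1), 1)] .nil .nil) .nil)))))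 (.node [] (.node [] (.node [] (.node [] (.node [] (.node [(10, 1, 1)] .nil .nil) .nil) (.node [] .nil (.node [(60, 1, 1)] .nil .nil))) (.node [] (.node [] .nil (.node [(39, 1, 1)] .nil .nil)) (.node [] .nil (.node [(113, (-1), 1)] .nil .nil)))) (.node [] .nil (.node [] (.node [] (.node [(15, 1, 1)] .nil .nil) .nil) .nil))) (.node [] (.node [] (.node [] (.node [] .nil (.node [(30, 1, 1)] .nil .nil)) (.node [] (.node [(18, (-1), 1)] .nil .nil) (.node [(67, 1, 1)] .nil .nil))) (.node [] (.node [] .nil (.node [(44, 1, 1)] .nil .nil)) (.node [] .nil (.node [(127, (-1), 1)] .nil .nil)))) (.node [] (.node [] (.node [] (.node [(13, 1, 1)] .nil .nil) (.node [(35, 1, 1)] .nil .nil)) (.node [] .nil (.node [(92, (-1), 1)] .nil .nil))) (.node [] .nil (.node [] (.node [(26, 1, 1)] .nil .nil) .nil)))))))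
def X1 : Tr (List (ℕ × ℤ × ℕ)) := (.node [] (.node [] (.node [] (.node [(9, (-1), 1)] (.node [] (.node [] (.node [] (.node [(8, 1, 1)] .nil .nil) (.node [(28, (-1), 1)] .nil .nil)) .nil) (.node [] (.node [] .nil (.node [(37, (-1), 1)] .nil .nil)) (.node [] (.node [(22, 1, 1)] .nil .nil) (.node [(97, 1, 1)] .nil .nil)))) (.node [] (.node [] (.node [] .nil (.node [(31, (-1), 1)] .nil .nil)) (.node [] (.node [(19, 1, 1)] .nil .nil) (.node [(71, (-1), 1)] .nil .nil))) (.node [] (.node [] .nil (.node [(45, (-1), 1)] .nil .nil)) (.node [] .nil (.node [(128, (-1), 1)] .nil .nil))))) (.node [] (.node [] (.node [] .nil (.node [] .nil (.node [(64, 1, 1)] .nil .nil))) (.node [] (.node [] (.node [(14, 1, 1)] .nil .nil) (.node [(42, (-1), 1)] .nil .nil)) (.node [] .nil (.node [(119, (-1), 1)] .nil .nil)))) (.node [] (.node [] (.node [] .nil (.node [(34, (-1), 1)] .nil .nil)) .nil) (.node [] .nil (.node [] (.node [(25, (-1), 1)] .nil .nil) .nil)))))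 (.node [] (.node [] (.node [] (.node [] (.node [] (.node [(10, 1, 1)] .nil .nil) .nil) (.node [] .nil (.node [(58, (-1), 1)] .nil .nil))) (.node [] .nil (.node [] .nil (.node [(108, (-1), 1)] .nil .nil)))) (.node [] (.node [] (.node [] .nil (.node [(33, 1, 1)] .nil .nil)) (.node [] (.node [(21, (-1), 1)] .nil .nil) (.node [(80, (-1), 1)] .nil .nil))) (.node [] (.node [] (.node [(15, 1, 1)] .nil .nil) (.node [(47, 1, 1)] .nil .nil)) .nil))) (.node [] (.node [] (.node [] (.node [] .nil (.node [(30, 1, 1)] .nil .nil)) (.node [] (.node [(18, (-1), 1)] .nil .nil) (.node [(66, (-1), 1)] .nil .nil))) (.node [] (.node [] .nil (.node [(44, 1, 1)] .nil .nil)) (.node [] .nil (.node [(126, (-1), 1)] .nil .nil)))) (.node [] (.node [] (.node [] (.node [(13, 1, 1)] .nil .nil) (.node [(35, 1, 1)] .nil .nil)) (.node [] .nil (.node [(90, 1, 1)] .nil .nil))) (.node [] (.node [] .nil (.node [(52, 1, 1)] .nil .nil)) (.node [] (.node [(26, 1, 1)] .nil .nil)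 .nil)))))) (.node [] (.node [] (.node [] (.node [] (.node [] .nil (.node [] .nil (.node [(56, 1, 1)] .nil .nil))) (.node [] (.node [] .nil (.node [(38, (-1), 1)] .nil .nil)) (.node [] .nil (.node [(102, (-1), 1)] .nil .nil)))) (.node [] (.node [] (.node [] (.node [(12, 1, 1)] .nil .nil) .nil) (.node [] .nil (.node [(75, 1, 1)] .nil .nil))) (.node [] .nil (.node [] (.node [(24, 1, 1)] .nil .nil) .nil)))) (.node [] (.node [] (.node [] (.node [] (.node [(11, 1, 1)] .nil .nil) .nil) .nil) (.node [] .nil (.node [] (.node [(23, (-1), 1)] .nil .nil) (.node [(123, (-1), 1)] .nil .nil)))) (.node [] (.node [] .nil (.node [] .nil (.node [(88, (-1), 1)] .nil .nil))) (.node [] (.node [] .nil (.node [(50, (-1), 1)] .nil .nil)) .nil)))) (.node [(9, 1, 1)] (.node [] (.node [] (.node [] (.node [] .nil (.node [(29, (-1), 1)] .nil .nil)) (.node [] (.node [(17, 1, 1)] .nil .nil) (.node [(61, 1, 1)] .nil .nil))) (.node [] (.node [] .nil (.node [(40, 1, 1)]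 .nil .nil)) (.node [] .nil (.node [(114, (-1), 1)] .nil .nil)))) (.node [] (.node [] .nil (.node [] .nil (.node [(86, 1, 1)] .nil .nil))) (.node [] (.node [] .nil (.node [(48, 1, 1)] .nil .nil)) .nil))) (.node [] (.node [] (.node [] .nil (.node [] .nil (.node [(68, 1, 1)] .nil .nil))) (.node [] .nil (.node [] .nil (.node [(0, (-2), 1), (1, (-3), 1), (2, (-4), 1), (3, (-6), 1), (4, (-5), 1), (5, (-4), 1), (6, (-3), 1), (7, (-1), 1), (9, (-1), 2)] .nil .nil)))) (.node [] (.node [] .nil (.node [] .nil (.node [(93, (-1), 1)] .nil .nil))) (.node [] (.node [] (.node [(16, (-1), 1)] .nil .nil) (.node [(54, (-1), 1)] .nil .nil)) .nil))))))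
def X2 : Tr (List (ℕ × ℤ × ℕ)) := (.node [] (.node [] (.node [] (.node [] (.node [] (.node [] .nil (.node [] .nil (.node [(56, 1, 1)] .nil .nil))) (.node [] .nil (.node [] .nil (.node [(98, 1, 1)] .nil .nil)))) (.node [] (.node [] (.node [] (.node [(12, 1, 1)] .nil .nil) (.node [(32, (-1), 1)] .nil .nil)) (.node [] (.node [(20, 1, 1)] .nil .nil) (.node [(72, (-1), 1)] .nil .nil))) (.node [] (.node [] .nil (.node [(46, (-1), 1)] .nil .nil)) (.node [] (.node [(24, 1, 1)] .nil .nil) (.node [(130, (-1), 1)] .nil .nil))))) (.node [] (.node [] (.node [] (.node [] (.node [(11, 1, 1)] .nil .nil) .nil) (.node [] .nil (.node [(65, 1, 1)] .nil .nil))) (.node [] (.node [] .nil (.node [(43, (-1), 1)] .nil .nil)) (.node [] (.node [(23, (-1), 1)] .nil .nil) (.node [(120, (-1), 1)] .nil .nil)))) (.node [] (.node [] .nil (.node [] .nil (.node [(88, (-1), 1)] .nil .nil))) (.node [] (.node [] .nil (.node [(50, (-1), 1)] .nil .nil)) .nil)))) (.node [(10,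 1, 1)] (.node [] (.node [] (.node [] (.node [] .nil (.node [(29, (-1), 1)] .nil .nil)) (.node [] (.node [(17, 1, 1)] .nil .nil) (.node [(59, (-1), 1)] .nil .nil))) (.node [] (.node [] .nil (.node [(40, 1, 1)] .nil .nil)) (.node [] .nil (.node [(109, (-1), 1)] .nil .nil)))) (.node [] (.node [] .nil (.node [] .nil (.node [(81, (-1), 1)] .nil .nil))) .nil)) (.node [] (.node [] .nil (.node [] .nil (.node [] .nil (.node [(0, (-2), 1), (1, (-3), 1), (2, (-4), 1), (3, (-6), 1), (4, (-5), 1), (5, (-4), 1), (6, (-2), 1), (7, (-1), 1), (10, (-1), 2)] .nil .nil)))) (.node [] (.node [] (.node [] .nil (.node [(36, 1, 1)] .nil .nil)) (.node [] .nil (.node [(91, 1, 1)] .nil .nil))) (.node [] (.node [] (.node [(16, (-1), 1)] .nil .nil) (.node [(53, 1, 1)] .nil .nil)) (.node [(8, 1, 1)] (.node [(27, 1, 1)] .nil .nil) .nil)))))) (.node [] (.node [] (.node [] (.node [] .nil (.node [] (.node [] .nil (.node [(39, (-1), 1)] .nil .nil)) (.node [] .nil (.node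 [(103, (-1), 1)] .nil .nil)))) (.node [] (.node [] (.node [] .nil (.node [(33, 1, 1)] .nil .nil)) (.node [] (.node [(21, (-1), 1)] .nil .nil) (.node [(76, 1, 1)] .nil .nil))) (.node [] (.node [] (.node [(15, 1, 1)] .nil .nil) (.node [(47, 1, 1)] .nil .nil)) .nil))) (.node [] (.node [] (.node [] (.node [] .nil (.node [(30, 1, 1)] .nil .nil)) (.node [] (.node [(18, (-1), 1)] .nil .nil) (.node [(66, (-1), 1)] .nil .nil))) (.node [] (.node [] .nil (.node [(44, 1, 1)] .nil .nil)) (.node [] .nil (.node [(124, (-1), 1)] .nil .nil)))) (.node [] (.node [] (.node [] (.node [(13, 1, 1)] .nil .nil) .nil) .nil) .nil))) (.node [(10, (-1), 1)] (.node [] (.node [] (.node [] .nil (.node [] .nil (.node [(62, 1, 1)] .nil .nil))) (.node [] (.node [] (.node [(14, 1, 1)] .nil .nil) .nil) (.node [] .nil (.node [(115, (-1), 1)] .nil .nil)))) (.node [] (.node [] (.node [] .nil (.node [(34, (-1), 1)] .nil .nil)) (.node [] .nil (.node [(87, 1, 1)] .nil .nil)))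 (.node [] (.node [] .nil (.node [(49, 1, 1)] .nil .nil)) (.node [] (.node [(25, (-1), 1)] .nil .nil) .nil)))) (.node [] (.node [] (.node [] .nil (.node [] .nil (.node [(69, 1, 1)] .nil .nil))) (.node [] .nil (.node [] .nil (.node [(129, (-1), 1)] .nil .nil)))) (.node [] (.node [] (.node [] .nil (.node [(37, (-1), 1)] .nil .nil)) (.node [] (.node [(22, 1, 1)] .nil .nil) (.node [(94, (-1), 1)] .nil .nil))) (.node [] (.node [] .nil (.node [(55, (-1), 1)] .nil .nil)) (.node [(9, 1, 1)] (.node [(28, (-1), 1)] .nil .nil) .nil)))))))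
def X3 : Tr (List (ℕ × ℤ × ℕ)) := (.node [] (.node [] (.node [] (.node [] (.node [] (.node [] .nil (.node [] .nil (.node [(58, 1, 1)] .nil .nil))) (.node [] .nil (.node [] .nil (.node [(99, 1, 1)] .nil .nil)))) (.node [] (.node [] .nil (.node [] .nil (.node [(73, (-1), 1)] .nil .nil))) (.node [] (.node [] (.node [(15, 1, 1)] .nil .nil) .nil) (.node [] .nil (.node [(133, (-1), 1)] .nil .nil))))) (.node [] (.node [] (.node [] .nil (.node [] .nil (.node [(67, 1, 1)] .nil .nil))) (.node [] .nil (.node [] .nil (.node [(121, (-1), 1)] .nil .nil)))) (.node [] (.node [] (.node [] (.node [(13, 1, 1)] .nil .nil) (.node [(36, 1, 1)] .nil .nil)) (.node [] .nil (.node [(90, (-1), 1)] .nil .nil))) (.node [] (.node [] .nil (.node [(52, (-1), 1)] .nil .nil)) (.node [(9, 1, 1)] (.node [(27, 1, 1)] .nil .nil) .nil))))) (.node [(11, (-1), 1)] (.node [] (.node [] .nil (.node [] (.node [] (.node [(14, 1, 1)] .nil .nil) (.node [(42, 1, 1)] .nil .nil)) (.node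 [] .nil (.node [(110, (-1), 1)] .nil .nil)))) (.node [] (.node [] .nil (.node [] .nil (.node [(82, (-1), 1)] .nil .nil))) .nil)) (.node [] (.node [] (.node [] (.node [] .nil (.node [(32, (-1), 1)] .nil .nil)) (.node [] (.node [(20, 1, 1)] .nil .nil) (.node [(69, 1, 1)] .nil .nil))) (.node [] (.node [] .nil (.node [(46, (-1), 1)] .nil .nil)) (.node [] .nil (.node [(131, (-1), 1)] .nil .nil)))) (.node [] (.node [] .nil (.node [] (.node [(22, 1, 1)] .nil .nil) .nil)) .nil)))) (.node [] (.node [(11, 1, 1)] (.node [] (.node [] (.node [] (.node [] .nil (.node [(29, (-1), 1)] .nil .nil)) (.node [] (.node [(17, 1, 1)] .nil .nil) (.node [(59, (-1), 1)] .nil .nil))) (.node [] (.node [] .nil (.node [(41, (-1), 1)] .nil .nil)) (.node [] .nil (.node [(104, (-1), 1)] .nil .nil)))) (.node [] (.node [] .nil (.node [] .nil (.node [(77, 1, 1)] .nil .nil))) .nil)) (.node [] (.node [] (.node [] (.node [] .nil (.node [(31, 1, 1)] .nil .nil)) (.node [] (.node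 [(19, (-1), 1)] .nil .nil) (.node [(68, (-1), 1)] .nil .nil))) (.node [] (.node [] .nil (.node [(45, 1, 1)] .nil .nil)) (.node [] .nil (.node [(0, (-2), 1), (1, (-3), 1), (2, (-4), 1), (3, (-6), 1), (4, (-5), 1), (5, (-3), 1), (6, (-2), 1), (7, (-1), 1), (11, (-1), 2)] .nil .nil)))) (.node [] (.node [] (.node [] .nil (.node [(37, (-1), 1)] .nil .nil)) (.node [] .nil (.node [(91, 1, 1)] .nil .nil))) (.node [] (.node [] (.node [(16, (-1), 1)] .nil .nil) (.node [(53, 1, 1)] .nil .nil)) (.node [(10, 1, 1)] (.node [(28, (-1), 1)] .nil .nil) .nil))))) (.node [] (.node [] (.node [] (.node [] .nil (.node [] .nil (.node [(63, 1, 1)] .nil .nil))) (.node [] (.node [] .nil (.node [(43, (-1), 1)] .nil .nil)) (.node [] (.node [(23, (-1), 1)] .nil .nil) (.node [(116, (-1), 1)] .nil .nil)))) (.node [] (.node [] (.node [] .nil (.node [(35, (-1), 1)] .nil .nil)) (.node [] .nil (.node [(89, 1, 1)] .nil .nil))) (.node [] (.node [] .nil (.node [(51, 1, 1)]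 .nil .nil)) (.node [(8, 1, 1)] (.node [(26, (-1), 1)] .nil .nil) .nil)))) (.node [] (.node [] (.node [] (.node [] (.node [(12, 1, 1)] .nil .nil) (.node [(33, 1, 1)] .nil .nil)) (.node [] (.node [(21, (-1), 1)] .nil .nil) .nil)) (.node [] (.node [] .nil (.node [(47, 1, 1)] .nil .nil)) (.node [] (.node [(24, 1, 1)] .nil .nil) (.node [(132, (-1), 1)] .nil .nil)))) (.node [] (.node [] .nil (.node [] .nil (.node [(95, (-1), 1)] .nil .nil))) (.node [] (.node [] .nil (.node [(57, (-1), 1)] .nil .nil)) .nil))))))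
def X4 : Tr (List (ℕ × ℤ × ℕ)) := (.node [] (.node [] (.node [(12, 1, 1)] (.node [] (.node [] (.node [] .nil (.node [] .nil (.node [(61, 1, 1)] .nil .nil))) (.node [] (.node [] .nil (.node [(43, (-1), 1)] .nil .nil)) (.node [] .nil (.node [(100, 1, 1)] .nil .nil)))) (.node [] .nil (.node [] (.node [] .nil (.node [(51, 1, 1)] .nil .nil)) (.node [(9, 1, 1)] (.node [(26, (-1), 1)] .nil .nil) (.node [(137, (-1), 1)] .nil .nil))))) (.node [] (.node [] (.node [] (.node [] .nil (.node [(33, 1, 1)] .nil .nil)) (.node [] (.node [(21, (-1), 1)] .nil .nil) (.node [(70, 1, 1)] .nil .nil))) (.node [] .nil (.node [] .nil (.node [(0, (-2), 1), (1, (-3), 1), (2, (-4), 1), (3, (-6), 1), (4, (-4), 1), (5, (-3), 1), (6, (-2), 1), (7, (-1), 1), (12, (-1), 2)] .nil .nil)))) (.node [] (.node [] (.node [] .nil (.node [(39, 1, 1)] .nil .nil)) (.node [] .nil (.node [(93, (-1), 1)] .nil .nil))) (.node [] (.node [] (.node [(16, (-1), 1)] .nil .nil) .nil) .nil))))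 (.node [] (.node [] (.node [] (.node [] (.node [] .nil (.node [(31, 1, 1)] .nil .nil)) (.node [] (.node [(19, (-1), 1)] .nil .nil) (.node [(63, 1, 1)] .nil .nil))) (.node [] .nil (.node [] (.node [(23, (-1), 1)] .nil .nil) (.node [(111, (-1), 1)] .nil .nil)))) (.node [] (.node [] .nil (.node [] .nil (.node [(83, (-1), 1)] .nil .nil))) (.node [] (.node [] .nil (.node [(53, 1, 1)] .nil .nil)) (.node [(11, 1, 1)] (.node [(28, (-1), 1)] .nil .nil) .nil)))) (.node [] (.node [] (.node [] .nil (.node [] .nil (.node [(72, 1, 1)] .nil .nil))) (.node [] (.node [] .nil (.node [(49, (-1), 1)] .nil .nil)) (.node [] .nil (.node [(135, (-1), 1)] .nil .nil)))) (.node [] (.node [] (.node [] .nil (.node [(41, (-1), 1)] .nil .nil)) (.node [] .nil (.node [(95, (-1), 1)] .nil .nil))) .nil)))) (.node [] (.node [(12, (-1), 1)] (.node [] (.node [] (.node [] (.node [] .nil (.node [(30, (-1), 1)] .nil .nil)) (.node [] (.node [(18, 1, 1)] .nil .nil) (.node [(62,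 (-1), 1)] .nil .nil))) (.node [] (.node [] (.node [(14, 1, 1)] .nil .nil) .nil) (.node [] .nil (.node [(105, (-1), 1)] .nil .nil)))) (.node [] (.node [] .nil (.node [] .nil (.node [(78, 1, 1)] .nil .nil))) (.node [] (.node [] .nil (.node [(52, (-1), 1)] .nil .nil)) (.node [(10, 1, 1)] (.node [(27, 1, 1)] .nil .nil) .nil)))) (.node [] (.node [] (.node [] .nil (.node [] .nil (.node [(71, (-1), 1)] .nil .nil))) (.node [] (.node [] .nil (.node [(48, 1, 1)] .nil .nil)) (.node [] .nil (.node [(134, (-1), 1)] .nil .nil)))) (.node [] (.node [] (.node [] .nil (.node [(40, (-1), 1)] .nil .nil)) (.node [] (.node [(22, 1, 1)] .nil .nil) (.node [(94, 1, 1)] .nil .nil))) .nil))) (.node [] (.node [] (.node [] (.node [] (.node [] .nil (.node [(32, (-1), 1)] .nil .nil)) (.node [] (.node [(20, 1, 1)] .nil .nil) .nil)) (.node [] .nil (.node [] .nil (.node [(117, (-1), 1)] .nil .nil)))) (.node [] (.node [] (.node [] (.node [(13, 1, 1)] .nil .nil) (.node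 [(38, (-1), 1)] .nil .nil)) (.node [] .nil (.node [(92, 1, 1)] .nil .nil))) .nil)) (.node [] (.node [] (.node [] .nil (.node [] .nil (.node [(73, (-1), 1)] .nil .nil))) (.node [] (.node [] (.node [(15, 1, 1)] .nil .nil) (.node [(50, 1, 1)] .nil .nil)) (.node [(8, 1, 1)] (.node [(25, 1, 1)] .nil .nil) (.node [(136, (-1), 1)] .nil .nil)))) (.node [] (.node [] (.node [] .nil (.node [(42, 1, 1)] .nil .nil)) .nil) (.node [] (.node [] .nil (.node [(60, (-1), 1)] .nil .nil)) .nil))))))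
def X5 : Tr (List (ℕ × ℤ × ℕ)) := (.node [] (.node [(13, 1, 1)] (.node [(13, (-1), 1)] (.node [] (.node [] (.node [] .nil (.node [] (.node [(21, (-1), 1)] .nil .nil) .nil)) (.node [] (.node [] (.node [(14, 1, 1)] .nil .nil) .nil) .nil)) (.node [] (.node [] (.node [] .nil (.node [(41, (-1), 1)] .nil .nil)) (.node [] .nil (.node [(78, 1, 1)] .nil .nil))) (.node [] (.node [] .nil (.node [(57, 1, 1)] .nil .nil)) (.node [] .nil (.node [(142, (-1), 1)] .nil .nil))))) (.node [] (.node [] (.node [] (.node [] .nil (.node [(37, 1, 1)] .nil .nil)) (.node [] .nil (.node [(74, 1, 1)] .nil .nil))) (.node [] .nil (.node [(10, 1, 1)] (.node [(26, (-1), 1)] .nil .nil) (.node [(138, (-1), 1)] .nil .nil)))) (.node [] (.node [] .nil (.node [] (.node [(22, 1, 1)] .nil .nil) (.node [(97, (-1), 1)] .nil .nil))) (.node [] (.node [] (.node [(17, (-1), 1)] .nil .nil) (.node [(61, 1, 1)] .nil .nil)) .nil)))) (.node [] (.node [] (.node [] (.node [] (.node [] .nil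 (.node [(35, 1, 1)] .nil .nil)) .nil) (.node [] .nil (.node [(8, 1, 1)] (.node [(24, (-1), 1)] .nil .nil) (.node [(112, (-1), 1)] .nil .nil)))) (.node [] (.node [] (.node [] .nil (.node [(43, (-1), 1)] .nil .nil)) (.node [] .nil (.node [(84, (-1), 1)] .nil .nil))) (.node [] (.node [] .nil (.node [(59, 1, 1)] .nil .nil)) .nil))) (.node [] (.node [] (.node [] (.node [] .nil (.node [(39, 1, 1)] .nil .nil)) (.node [] .nil (.node [(76, 1, 1)] .nil .nil))) (.node [] (.node [] (.node [(15, 1, 1)] .nil .nil) (.node [(55, (-1), 1)] .nil .nil)) (.node [(12, 1, 1)] (.node [(28, (-1), 1)] .nil .nil) (.node [(140, (-1), 1)] .nil .nil)))) (.node [] (.node [] .nil (.node [] .nil (.node [(99, (-1), 1)] .nil .nil))) (.node [] (.node [] (.node [(19, (-1), 1)] .nil .nil) (.node [(63, 1, 1)] .nil .nil)) .nil))))) (.node [(13, 1, 1)] (.node [] (.node [] (.node [] (.node [] (.node [] .nil (.node [(34, (-1), 1)] .nil .nil)) .nil) (.node [] .nil (.node [] .nil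 (.node [(106, (-1), 1)] .nil .nil)))) (.node [] (.node [] (.node [] .nil (.node [(42, 1, 1)] .nil .nil)) .nil) (.node [] (.node [] .nil (.node [(58, (-1), 1)] .nil .nil)) .nil))) (.node [] (.node [] (.node [] (.node [] .nil (.node [(38, (-1), 1)] .nil .nil)) (.node [] .nil (.node [(75, (-1), 1)] .nil .nil))) (.node [] (.node [] .nil (.node [(54, 1, 1)] .nil .nil)) (.node [(11, 1, 1)] (.node [(27, 1, 1)] .nil .nil) (.node [(139, (-1), 1)] .nil .nil)))) (.node [] (.node [] .nil (.node [] .nil (.node [(98, 1, 1)] .nil .nil))) (.node [] (.node [] (.node [(18, 1, 1)] .nil .nil) (.node [(62, (-1), 1)] .nil .nil)) .nil)))) (.node [] (.node [] (.node [] (.node [] (.node [] .nil (.node [(36, (-1), 1)] .nil .nil)) .nil) (.node [] .nil (.node [(9, 1, 1)] (.node [(25, 1, 1)] .nil .nil) (.node [(0, (-2), 1), (1, (-3), 1), (2, (-4), 1), (3, (-5), 1), (4, (-4), 1), (5, (-3), 1), (6, (-2), 1), (7, (-1), 1), (13, (-1), 2)] .nil .nil)))) (.node [] (.node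 [] .nil (.node [] .nil (.node [(96, 1, 1)] .nil .nil))) (.node [] (.node [] .nil (.node [(60, (-1), 1)] .nil .nil)) .nil))) (.node [] (.node [] (.node [] (.node [] .nil (.node [(40, (-1), 1)] .nil .nil)) (.node [] .nil (.node [(77, (-1), 1)] .nil .nil))) (.node [] (.node [] .nil (.node [(56, 1, 1)] .nil .nil)) (.node [] .nil (.node [(141, (-1), 1)] .nil .nil)))) (.node [] (.node [] .nil (.node [] .nil (.node [(100, 1, 1)] .nil .nil))) (.node [] (.node [] (.node [(20, 1, 1)] .nil .nil) .nil) .nil))))))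
def X6 : Tr (List (ℕ × ℤ × ℕ)) := (.node [(14, 1, 1)] (.node [(14, 1, 1)] (.node [] (.node [] (.node [] (.node [] (.node [] .nil (.node [(43, (-1), 1)] .nil .nil)) (.node [] .nil (.node [(75, (-1), 1)] .nil .nil))) (.node [] .nil (.node [(12, 1, 1)] .nil (.node [(106, (-1), 1)] .nil .nil)))) (.node [] .nil (.node [] (.node [] (.node [(18, 1, 1)] .nil .nil) (.node [(67, 1, 1)] .nil .nil)) (.node [] (.node [(35, 1, 1)] .nil .nil) (.node [(148, (-1), 1)] .nil .nil))))) (.node [] (.node [] .nil (.node [] .nil (.node [] (.node [(31, (-1), 1)] .nil .nil) (.node [(144, (-1), 1)] .nil .nil)))) (.node [] (.node [] .nil (.node [(8, 1, 1)] .nil (.node [(102, (-1), 1)] .nil .nil))) (.node [] (.node [] .nil (.node [(71, 1, 1)] .nil .nil)) (.node [] (.node [(39, 1, 1)] .nil .nil) .nil))))) (.node [] (.node [] (.node [] (.node [] .nil (.node [] .nil (.node [(77, (-1), 1)] .nil .nil))) (.node [] .nil (.node [] (.node [(29, (-1), 1)] .nil .nil) (.node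 [(0, (-2), 1), (1, (-3), 1), (2, (-3), 1), (3, (-5), 1), (4, (-4), 1), (5, (-3), 1), (6, (-2), 1), (7, (-1), 1), (14, (-1), 2)] .nil .nil)))) (.node [] (.node [] .nil (.node [] .nil (.node [(85, (-1), 1)] .nil .nil))) (.node [] (.node [] (.node [(20, 1, 1)] .nil .nil) (.node [(69, 1, 1)] .nil .nil)) (.node [] (.node [(37, 1, 1)] .nil .nil) .nil)))) (.node [] (.node [] .nil (.node [] (.node [] (.node [(16, 1, 1)] .nil .nil) (.node [(65, (-1), 1)] .nil .nil)) (.node [] (.node [(33, (-1), 1)] .nil .nil) (.node [(146, (-1), 1)] .nil .nil)))) (.node [] (.node [] .nil (.node [(10, 1, 1)] .nil (.node [(104, (-1), 1)] .nil .nil))) (.node [] (.node [] .nil (.node [(73, 1, 1)] .nil .nil)) (.node [] (.node [(41, (-1), 1)] .nil .nil) .nil)))))) (.node [(14, (-1), 1)] (.node [] (.node [] (.node [] (.node [] .nil (.node [] .nil (.node [(76, 1, 1)] .nil .nil))) (.node [] .nil (.node [(13, 1, 1)] .nil .nil))) (.node [] .nil (.node [] (.node [] (.node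 [(19, (-1), 1)] .nil .nil) (.node [(68, (-1), 1)] .nil .nil)) (.node [] (.node [(36, (-1), 1)] .nil .nil) .nil)))) (.node [] (.node [] .nil (.node [] (.node [] .nil (.node [(64, 1, 1)] .nil .nil)) (.node [] (.node [(32, 1, 1)] .nil .nil) (.node [(145, (-1), 1)] .nil .nil)))) (.node [] (.node [] .nil (.node [(9, 1, 1)] .nil (.node [(103, 1, 1)] .nil .nil))) (.node [] (.node [] .nil (.node [(72, (-1), 1)] .nil .nil)) (.node [] (.node [(40, (-1), 1)] .nil .nil) .nil))))) (.node [] (.node [] (.node [] (.node [] .nil (.node [] .nil (.node [(78, 1, 1)] .nil .nil))) (.node [] .nil (.node [] (.node [(30, 1, 1)] .nil .nil) (.node [(143, (-1), 1)] .nil .nil)))) (.node [] (.node [] .nil (.node [] (.node [(22, 1, 1)] .nil .nil) (.node [(101, 1, 1)] .nil .nil))) (.node [] (.node [] (.node [(21, (-1), 1)] .nil .nil) (.node [(70, (-1), 1)] .nil .nil)) (.node [] (.node [(38, (-1), 1)] .nil .nil) .nil)))) (.node [] (.node [] .nil (.node [] (.node [] (.node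 [(17, (-1), 1)] .nil .nil) (.node [(66, 1, 1)] .nil .nil)) (.node [] (.node [(34, (-1), 1)] .nil .nil) (.node [(147, (-1), 1)] .nil .nil)))) (.node [] (.node [] .nil (.node [(11, 1, 1)] .nil (.node [(105, 1, 1)] .nil .nil))) (.node [] (.node [] .nil (.node [(74, 1, 1)] .nil .nil)) (.node [] (.node [(42, 1, 1)] .nil .nil) .nil)))))))
def X7 : Tr (List (ℕ × ℤ × ℕ)) := (.node [] (.node [(15, (-1), 1)] (.node [] (.node [] (.node [] .nil (.node [] (.node [] (.node [(16, 1, 1)] .nil .nil) (.node [(59, 1, 1)] .nil .nil)) (.node [] (.node [(27, 1, 1)] .nil .nil) (.node [(112, (-1), 1)] .nil .nil)))) (.node [] (.node [] (.node [] .nil (.node [(51, (-1), 1)] .nil .nil)) (.node [(10, 1, 1)] .nil (.node [(83, 1, 1)] .nil .nil))) (.node [] .nil (.node [] .nil (.node [(154, (-1), 1)] .nil .nil))))) (.node [] (.node [] (.node [] (.node [] .nil (.node [(47, 1, 1)] .nil .nil)) (.node [] .nil (.node [(79, 1, 1)] .nil .nil))) (.node [] (.node [] (.node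 [(20, 1, 1)] .nil .nil) (.node [(63, 1, 1)] .nil .nil)) (.node [] .nil (.node [(150, (-1), 1)] .nil .nil)))) (.node [] (.node [] (.node [] .nil (.node [(55, (-1), 1)] .nil .nil)) (.node [] (.node [(23, 1, 1)] .nil .nil) (.node [(108, (-1), 1)] .nil .nil))) .nil))) (.node [] (.node [] (.node [] (.node [] (.node [] .nil (.node [(45, 1, 1)] .nil .nil)) .nil) (.node [] (.node [] (.node [(18, 1, 1)] .nil .nil) (.node [(61, 1, 1)] .nil .nil)) .nil)) (.node [] (.node [] (.node [] .nil (.node [(53, (-1), 1)] .nil .nil)) (.node [(12, 1, 1)] .nil .nil)) .nil)) (.node [] (.node [] (.node [] (.node [] .nil (.node [(49, 1, 1)] .nil .nil)) (.node [(8, 1, 1)] .nil (.node [(81, 1, 1)] .nil .nil))) (.node [] .nil (.node [] .nil (.node [(152, (-1), 1)] .nil .nil)))) (.node [] (.node [] (.node [] .nil (.node [(57, 1, 1)] .nil .nil)) (.node [] (.node [(25, 1, 1)] .nil .nil) (.node [(110, (-1), 1)] .nil .nil))) .nil)))) (.node [(15, 1, 1)] (.node [] (.node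 [] (.node [] (.node [] (.node [] .nil (.node [(44, (-1), 1)] .nil .nil)) .nil) (.node [] (.node [] (.node [(17, (-1), 1)] .nil .nil) (.node [(60, (-1), 1)] .nil .nil)) (.node [] (.node [(28, (-1), 1)] .nil .nil) (.node [(0, (-2), 1), (1, (-2), 1), (2, (-4), 1), (3, (-5), 1), (4, (-4), 1), (5, (-3), 1), (6, (-2), 1), (7, (-1), 1), (15, (-1), 2)] .nil .nil)))) (.node [] (.node [] (.node [] .nil (.node [(52, 1, 1)] .nil .nil)) (.node [(11, 1, 1)] .nil (.node [(84, (-1), 1)] .nil .nil))) .nil)) (.node [] (.node [] (.node [] (.node [] .nil (.node [(48, (-1), 1)] .nil .nil)) (.node [] .nil (.node [(80, (-1), 1)] .nil .nil))) (.node [] (.node [] (.node [(21, (-1), 1)] .nil .nil) .nil) (.node [] .nil (.node [(151, (-1), 1)] .nil .nil)))) (.node [] (.node [] (.node [] .nil (.node [(56, 1, 1)] .nil .nil)) (.node [] (.node [(24, (-1), 1)] .nil .nil) (.node [(109, 1, 1)] .nil .nil))) .nil))) (.node [] (.node [] (.node [] (.node [] (.node [] .nil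 (.node [(46, (-1), 1)] .nil .nil)) .nil) (.node [] (.node [] (.node [(19, (-1), 1)] .nil .nil) (.node [(62, (-1), 1)] .nil .nil)) (.node [] .nil (.node [(149, (-1), 1)] .nil .nil)))) (.node [] (.node [] (.node [] .nil (.node [(54, 1, 1)] .nil .nil)) (.node [(13, 1, 1)] .nil (.node [(107, 1, 1)] .nil .nil))) .nil)) (.node [] (.node [] (.node [] (.node [] .nil (.node [(50, (-1), 1)] .nil .nil)) (.node [(9, 1, 1)] .nil (.node [(82, (-1), 1)] .nil .nil))) (.node [] .nil (.node [] .nil (.node [(153, (-1), 1)] .nil .nil)))) (.node [] (.node [] (.node [] .nil (.node [(58, (-1), 1)] .nil .nil)) (.node [] (.node [(26, (-1), 1)] .nil .nil) (.node [(111, 1, 1)] .nil .nil))) .nil)))))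
def X8 : Tr (List (ℕ × ℤ × ℕ)) := (.node [(16, 1, 1)] (.node [(16, (-1), 1)] (.node [(16, 1, 1)] (.node [] (.node [] (.node [] (.node [] .nil (.node [(53, (-1), 1)] .nil .nil)) (.node [] .nil (.node [(80, (-1), 1)] .nil .nil))) (.node [] (.node [] .nil (.node [(69, 1, 1)] .nil .nil)) (.node [] (.node [(32, 1, 1)] .nil .nil) (.node [(0, (-2), 1), (1, (-2), 1), (2, (-3), 1), (3, (-5), 1), (4, (-4), 1), (5, (-3), 1), (6, (-2), 1), (7, (-1), 1), (16, (-1), 2)] .nil .nil)))) (.node [] .nil (.node [] .nil (.node [] (.node [(45, 1, 1)] .nil .nil) (.node [(159, 1, 1)] .nil .nil))))) (.node [] (.node [] (.node [] .nil (.node [(11, (-1), 1)] .nil .nil)) (.node [] (.node [] .nil (.node [(73, 1, 1)] .nil .nil)) (.node [] .nil (.node [(155, 1, 1)] .nil .nil)))) (.node [] (.node [] (.node [] (.node [(18, (-1), 1)] .nil .nil) (.node [(65, (-1), 1)] .nil .nil)) (.node [] .nil (.node [(114, 1, 1)] .nil .nil))) (.node [] .nil (.node [] (.node [(49, 1,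 1)] .nil .nil) .nil))))) (.node [] (.node [] (.node [] (.node [] .nil (.node [(9, (-1), 1)] .nil (.node [(82, (-1), 1)] .nil .nil))) (.node [] (.node [] .nil (.node [(71, 1, 1)] .nil .nil)) (.node [] .nil (.node [(149, (-1), 1)] .nil .nil)))) (.node [] .nil (.node [] .nil (.node [] (.node [(47, 1, 1)] .nil .nil) .nil)))) (.node [] (.node [] .nil (.node [] .nil (.node [] .nil (.node [(157, 1, 1)] .nil .nil)))) (.node [] (.node [] (.node [] (.node [(20, (-1), 1)] .nil .nil) (.node [(67, 1, 1)] .nil .nil)) (.node [] (.node [(30, 1, 1)] .nil .nil) (.node [(116, 1, 1)] .nil .nil))) (.node [] .nil (.node [] (.node [(51, (-1), 1)] .nil .nil) .nil)))))) (.node [(16, (-1), 1)] (.node [] (.node [] (.node [] (.node [] .nil (.node [(8, (-1), 1)] .nil (.node [(81, 1, 1)] .nil .nil))) (.node [] (.node [] .nil (.node [(70, (-1), 1)] .nil .nil)) (.node [(15, 1, 1)] (.node [(33, (-1), 1)] .nil .nil) (.node [(143, (-1), 1)] .nil .nil)))) (.node [] (.node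 [] .nil (.node [] .nil (.node [(85, (-1), 1)] .nil .nil))) (.node [] .nil (.node [] (.node [(46, (-1), 1)] .nil .nil) .nil)))) (.node [] (.node [] (.node [] .nil (.node [(12, (-1), 1)] .nil .nil)) (.node [] .nil (.node [] .nil (.node [(156, 1, 1)] .nil .nil)))) (.node [] (.node [] (.node [] (.node [(19, 1, 1)] .nil .nil) (.node [(66, 1, 1)] .nil .nil)) (.node [] (.node [(29, (-1), 1)] .nil .nil) (.node [(115, (-1), 1)] .nil .nil))) (.node [] .nil (.node [] (.node [(50, (-1), 1)] .nil .nil) .nil))))) (.node [] (.node [] (.node [] (.node [] .nil (.node [(10, (-1), 1)] .nil (.node [(83, 1, 1)] .nil .nil))) (.node [] (.node [] .nil (.node [(72, (-1), 1)] .nil .nil)) .nil)) (.node [] (.node [] (.node [] (.node [(17, 1, 1)] .nil .nil) (.node [(64, 1, 1)] .nil .nil)) (.node [(14, 1, 1)] (.node [(23, 1, 1)] .nil .nil) (.node [(113, (-1), 1)] .nil .nil))) (.node [] .nil (.node [] (.node [(48, (-1), 1)] .nil .nil) .nil)))) (.node [] (.node [] .nil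 (.node [] .nil (.node [] (.node [(44, (-1), 1)] .nil .nil) (.node [(158, 1, 1)] .nil .nil)))) (.node [] (.node [] (.node [] (.node [(21, 1, 1)] .nil .nil) (.node [(68, (-1), 1)] .nil .nil)) (.node [] (.node [(31, (-1), 1)] .nil .nil) (.node [(117, (-1), 1)] .nil .nil))) (.node [] (.node [] .nil (.node [(79, 1, 1)] .nil .nil)) (.node [] (.node [(52, 1, 1)] .nil .nil) .nil)))))))
def X9 : Tr (List (ℕ × ℤ × ℕ)) := (.node [(17, 1, 1)] (.node [] (.node [(17, (-1), 1)] (.node [] (.node [] (.node [] (.node [] .nil (.node [(59, (-1), 1)] .nil .nil)) (.node [(11, 1, 1)] .nil .nil)) (.node [] .nil (.node [(15, (-1), 1)] (.node [(36, 1, 1)] .nil .nil) (.node [(138, (-1), 1)] .nil .nil)))) (.node [] (.node [] (.node [] (.node [(19, (-1), 1)] .nil .nil) (.node [(67, 1, 1)] .nil .nil)) (.node [] .nil (.node [(85, (-1), 1)] .nil .nil))) (.node [] .nil (.node [] .nil (.node [(163, (-1), 1)] .nil .nil))))) (.node [] (.node [] .nil (.node [] (.node []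 .nil (.node [(77, 1, 1)] .nil .nil)) (.node [] (.node [(45, 1, 1)] .nil .nil) .nil))) (.node [] (.node [] .nil (.node [] (.node [(29, (-1), 1)] .nil .nil) (.node [(119, (-1), 1)] .nil .nil))) (.node [] (.node [] .nil (.node [(80, (-1), 1)] .nil .nil)) (.node [] (.node [(55, 1, 1)] .nil .nil) .nil))))) (.node [] (.node [] (.node [] .nil (.node [] (.node [] .nil (.node [(75, 1, 1)] .nil .nil)) (.node [] .nil (.node [(150, 1, 1)] .nil .nil)))) (.node [] (.node [] (.node [] (.node [(21, (-1), 1)] .nil .nil) (.node [(69, 1, 1)] .nil .nil)) (.node [(14, (-1), 1)] .nil .nil)) .nil)) (.node [] (.node [] (.node [] (.node [] .nil (.node [(65, (-1), 1)] .nil .nil)) .nil) (.node [] .nil (.node [(16, 1, 1)] (.node [(47, 1, 1)] .nil .nil) (.node [(161, (-1), 1)] .nil .nil)))) (.node [] (.node [] .nil (.node [] (.node [(34, 1, 1)] .nil .nil) (.node [(121, (-1), 1)] .nil .nil))) (.node [] (.node [(9, 1, 1)] .nil (.node [(82, (-1), 1)] .nil .nil)) (.node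 [] (.node [(57, (-1), 1)] .nil .nil) .nil)))))) (.node [] (.node [(17, 1, 1)] (.node [] (.node [] .nil (.node [] (.node [] .nil (.node [(74, (-1), 1)] .nil .nil)) (.node [] (.node [(37, (-1), 1)] .nil .nil) (.node [(144, 1, 1)] .nil .nil)))) (.node [] (.node [] (.node [] (.node [(20, 1, 1)] .nil .nil) (.node [(68, (-1), 1)] .nil .nil)) .nil) .nil)) (.node [] (.node [] (.node [] (.node [] .nil (.node [(64, 1, 1)] .nil .nil)) (.node [(13, (-1), 1)] .nil .nil)) (.node [] .nil (.node [] (.node [(46, (-1), 1)] .nil .nil) (.node [(160, (-1), 1)] .nil .nil)))) (.node [] (.node [] .nil (.node [] .nil (.node [(120, 1, 1)] .nil .nil))) (.node [] (.node [(8, 1, 1)] .nil (.node [(81, 1, 1)] .nil .nil)) (.node [] (.node [(56, (-1), 1)] .nil .nil) .nil))))) (.node [] (.node [] (.node [] (.node [] .nil (.node [] .nil (.node [(84, 1, 1)] .nil .nil))) (.node [] (.node [] .nil (.node [(76, (-1), 1)] .nil .nil)) (.node [] (.node [(44, (-1), 1)] .nil .nil)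 (.node [(155, 1, 1)] .nil .nil)))) (.node [] (.node [] .nil (.node [] (.node [(24, 1, 1)] .nil .nil) (.node [(118, 1, 1)] .nil .nil))) (.node [] (.node [] .nil (.node [(79, 1, 1)] .nil .nil)) (.node [] (.node [(54, (-1), 1)] .nil .nil) .nil)))) (.node [] (.node [] (.node [] (.node [] (.node [(18, 1, 1)] .nil .nil) (.node [(66, 1, 1)] .nil .nil)) .nil) (.node [] .nil (.node [] .nil (.node [(162, (-1), 1)] .nil .nil)))) (.node [] (.node [] .nil (.node [] (.node [(35, (-1), 1)] .nil .nil) (.node [(0, (-2), 1), (1, (-2), 1), (2, (-3), 1), (3, (-4), 1), (4, (-4), 1), (5, (-3), 1), (6, (-2), 1), (7, (-1), 1), (17, (-1), 2)] .nil .nil))) (.node [] (.node [(10, 1, 1)] .nil .nil) (.node [] (.node [(58, 1, 1)] .nil .nil) .nil)))))))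
def X10 : Tr (List (ℕ × ℤ × ℕ)) := (.node [(18, 1, 1)] (.node [] (.node [] (.node [] (.node [] (.node [] (.node [] .nil (.node [(62, (-1), 1)] .nil .nil)) (.node [(12, 1, 1)] .nil .nil)) (.node [] (.node [] .nil (.node [(76, (-1), 1)] .nil .nil)) (.node [] (.node [(39, 1, 1)] .nil .nil) (.node [(139, 1, 1)] .nil .nil)))) (.node [] (.node [] (.node [] .nil (.node [(70, 1, 1)] .nil .nil)) .nil) (.node [] (.node [] .nil (.node [(79, 1, 1)] .nil .nil)) (.node [] (.node [(54, (-1), 1)] .nil .nil) (.node [(166, 1, 1)] .nil .nil))))) (.node [] (.node [] (.node [] (.node [] (.node [(19, 1, 1)] .nil .nil) (.node [(66, 1, 1)] .nil .nil)) (.node [(13, 1, 1)] .nil .nil)) (.node [] (.node [] .nil (.node [(78, 1, 1)] .nil .nil)) (.node [] (.node [(48, 1, 1)] .nil .nil) (.node [(160, (-1), 1)] .nil .nil)))) (.node [] (.node [] .nil (.node [] (.node [(30, (-1), 1)] .nil .nil) (.node [(123, 1, 1)] .nil .nil))) (.node [] (.node [(10, (-1), 1)] .nil .nil)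 .nil)))) (.node [(18, 1, 1)] (.node [] (.node [] (.node [] (.node [] .nil (.node [(64, 1, 1)] .nil .nil)) (.node [] .nil (.node [(84, 1, 1)] .nil .nil))) (.node [] .nil (.node [] (.node [(44, (-1), 1)] .nil .nil) (.node [(151, (-1), 1)] .nil .nil)))) (.node [] (.node [] (.node [] .nil (.node [(72, 1, 1)] .nil .nil)) .nil) (.node [] (.node [(8, (-1), 1)] .nil (.node [(81, 1, 1)] .nil .nil)) (.node [(17, 1, 1)] (.node [(56, (-1), 1)] .nil .nil) .nil)))) (.node [] (.node [] (.node [] (.node [] (.node [(21, 1, 1)] .nil .nil) .nil) .nil) (.node [] .nil (.node [] (.node [(50, 1, 1)] .nil .nil) (.node [(164, 1, 1)] .nil .nil)))) (.node [] (.node [] (.node [] .nil (.node [(74, (-1), 1)] .nil .nil)) (.node [] .nil (.node [(0, (-2), 1), (1, (-2), 1), (2, (-3), 1), (3, (-4), 1), (4, (-3), 1), (5, (-3), 1), (6, (-2), 1), (7, (-1), 1), (18, (-1), 2)] .nil .nil))) (.node [] (.node [] .nil (.node [(83, (-1), 1)] .nil .nil)) (.node [] (.node [(60, (-1),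 1)] .nil .nil) .nil)))))) (.node [] (.node [(18, (-1), 1)] (.node [] (.node [] .nil (.node [] .nil (.node [] (.node [(40, (-1), 1)] .nil .nil) (.node [(145, (-1), 1)] .nil .nil)))) (.node [] (.node [] (.node [] .nil (.node [(71, (-1), 1)] .nil .nil)) (.node [(14, 1, 1)] .nil .nil)) (.node [] (.node [] .nil (.node [(80, (-1), 1)] .nil .nil)) (.node [] (.node [(55, 1, 1)] .nil .nil) .nil)))) (.node [] (.node [] (.node [] (.node [] (.node [(20, (-1), 1)] .nil .nil) .nil) .nil) (.node [] .nil (.node [(16, (-1), 1)] (.node [(49, (-1), 1)] .nil .nil) .nil))) (.node [] (.node [] .nil (.node [] (.node [(34, 1, 1)] .nil .nil) (.node [(124, (-1), 1)] .nil .nil))) .nil))) (.node [] (.node [] (.node [] (.node [] (.node [] .nil (.node [(65, (-1), 1)] .nil .nil)) .nil) (.node [] .nil (.node [] .nil (.node [(156, (-1), 1)] .nil .nil)))) (.node [] (.node [] .nil (.node [] (.node [(25, 1, 1)] .nil .nil) (.node [(122, (-1), 1)] .nil .nil))) (.node [] (.node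 [(9, (-1), 1)] .nil .nil) .nil))) (.node [] (.node [] (.node [] .nil (.node [] .nil (.node [(85, (-1), 1)] .nil .nil))) (.node [] .nil (.node [] .nil (.node [(165, 1, 1)] .nil .nil)))) (.node [] (.node [] (.node [] .nil (.node [(75, 1, 1)] .nil .nil)) (.node [(15, 1, 1)] (.node [(38, (-1), 1)] .nil .nil) (.node [(134, (-1), 1)] .nil .nil))) (.node [] .nil (.node [] (.node [(61, 1, 1)] .nil .nil) .nil)))))))
def X11 : Tr (List (ℕ × ℤ × ℕ)) := (.node [(19, 1, 1)] (.node [] (.node [] (.node [] (.node [] (.node [] (.node [] .nil (.node [(63, (-1), 1)] .nil .nil)) .nil) (.node [] (.node [] .nil (.node [(77, (-1), 1)] .nil .nil)) (.node [] (.node [(41, 1, 1)] .nil .nil) (.node [(140, (-1), 1)] .nil .nil)))) (.node [] (.node [] .nil (.node [(14, (-1), 1)] .nil .nil)) (.node [] (.node [(8, 1, 1)] .nil .nil) (.node [] .nil (.node [(168, (-1), 1)] .nil .nil))))) (.node [] (.node [] (.node [] (.node [] .nil (.node [(68, 1, 1)] .nil .nil)) .nil)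 (.node [] .nil (.node [(16, 1, 1)] .nil (.node [(161, 1, 1)] .nil .nil)))) (.node [] (.node [] (.node [] .nil (.node [(74, (-1), 1)] .nil .nil)) (.node [] (.node [(31, (-1), 1)] .nil .nil) (.node [(126, (-1), 1)] .nil .nil))) (.node [] (.node [(11, (-1), 1)] .nil .nil) (.node [] (.node [(60, (-1), 1)] .nil .nil) .nil))))) (.node [(19, (-1), 1)] (.node [] (.node [] (.node [] (.node [] (.node [(20, 1, 1)] .nil .nil) .nil) .nil) (.node [] .nil (.node [] (.node [(45, (-1), 1)] .nil .nil) (.node [(152, 1, 1)] .nil .nil)))) (.node [] (.node [] (.node [] .nil (.node [(73, 1, 1)] .nil .nil)) .nil) (.node [] (.node [] .nil (.node [(82, 1, 1)] .nil .nil)) (.node [] (.node [(58, (-1), 1)] .nil .nil) .nil)))) (.node [] (.node [] (.node [] (.node [] .nil (.node [(70, 1, 1)] .nil .nil)) (.node [] .nil (.node [(85, (-1), 1)] .nil .nil))) (.node [] (.node [] .nil (.node [(79, 1, 1)] .nil .nil)) (.node [] (.node [(52, 1, 1)] .nil .nil) .nil))) (.node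 [] (.node [] .nil (.node [(15, (-1), 1)] (.node [(38, (-1), 1)] .nil .nil) (.node [(131, (-1), 1)] .nil .nil))) .nil)))) (.node [] (.node [] (.node [] (.node [] (.node [] (.node [] .nil (.node [(64, 1, 1)] .nil .nil)) (.node [] .nil (.node [(84, 1, 1)] .nil .nil))) (.node [] .nil (.node [] (.node [(42, (-1), 1)] .nil .nil) (.node [(146, 1, 1)] .nil .nil)))) (.node [] .nil (.node [] (.node [(9, 1, 1)] .nil .nil) (.node [(17, (-1), 1)] (.node [(57, 1, 1)] .nil .nil) .nil)))) (.node [] (.node [] .nil (.node [] .nil (.node [] (.node [(51, (-1), 1)] .nil .nil) (.node [(164, 1, 1)] .nil .nil)))) (.node [] (.node [] (.node [] .nil (.node [(75, 1, 1)] .nil .nil)) (.node [] (.node [(35, 1, 1)] .nil .nil) (.node [(0, (-2), 1), (1, (-2), 1), (2, (-3), 1), (3, (-4), 1), (4, (-3), 1), (5, (-2), 1), (6, (-2), 1), (7, (-1), 1), (19, (-1), 2)] .nil .nil))) (.node [] (.node [] .nil (.node [(83, (-1), 1)] .nil .nil)) (.node [(18, 1, 1)] (.node [(61, 1,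 1)] .nil .nil) .nil))))) (.node [(19, 1, 1)] (.node [] (.node [] (.node [] (.node [] (.node [(21, (-1), 1)] .nil .nil) (.node [(67, (-1), 1)] .nil .nil)) (.node [(13, (-1), 1)] .nil .nil)) (.node [] (.node [] .nil (.node [(78, 1, 1)] .nil .nil)) (.node [] (.node [(48, 1, 1)] .nil .nil) (.node [(157, 1, 1)] .nil .nil)))) (.node [] (.node [] .nil (.node [] (.node [(26, 1, 1)] .nil .nil) (.node [(125, 1, 1)] .nil .nil))) .nil)) (.node [] (.node [] (.node [] (.node [] .nil (.node [(71, (-1), 1)] .nil .nil)) .nil) (.node [] (.node [] .nil (.node [(80, (-1), 1)] .nil .nil)) (.node [] (.node [(54, (-1), 1)] .nil .nil) (.node [(167, (-1), 1)] .nil .nil)))) (.node [] (.node [] .nil (.node [] .nil (.node [(135, 1, 1)] .nil .nil))) (.node [] (.node [(12, (-1), 1)] .nil .nil) .nil))))))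
def X12 : Tr (List (ℕ × ℤ × ℕ)) := (.node [(20, 1, 1)] (.node [] (.node [] (.node [(20, 1, 1)] (.node [] (.node [] .nil (.node [] .nil (.node [(84, 1, 1)] .nil .nil))) (.node [] .nil (.node [] .nil (.node [(141, 1, 1)] .nil .nil)))) (.node [] .nil (.node [] .nil (.node [(17, 1, 1)] (.node [(57, 1, 1)] .nil .nil) (.node [(169, 1, 1)] .nil .nil))))) (.node [] (.node [] (.node [] (.node [] .nil (.node [(69, 1, 1)] .nil .nil)) .nil) (.node [] .nil (.node [] (.node [(51, (-1), 1)] .nil .nil) (.node [(162, (-1), 1)] .nil .nil)))) (.node [] (.node [] .nil (.node [] (.node [(32, (-1), 1)] .nil .nil) (.node [(0, (-2), 1), (1, (-2), 1), (2, (-3), 1), (3, (-4), 1), (4, (-3), 1), (5, (-2), 1), (6, (-1), 1), (7, (-1), 1), (20, (-1), 2)] .nil .nil))) (.node [] (.node [] .nil (.node [(83, (-1), 1)] .nil .nil)) (.node [(18, (-1), 1)] .nil .nil))))) (.node [] (.node [] (.node [] (.node [] (.node [] .nil (.node [(67, (-1), 1)] .nil .nil)) (.node [(13,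 1, 1)] .nil .nil)) (.node [] (.node [] .nil (.node [(78, 1, 1)] .nil .nil)) (.node [] (.node [(46, (-1), 1)] .nil .nil) (.node [(153, (-1), 1)] .nil .nil)))) (.node [] .nil (.node [] .nil (.node [] (.node [(59, (-1), 1)] .nil .nil) .nil)))) (.node [] (.node [] .nil (.node [] .nil (.node [] (.node [(53, 1, 1)] .nil .nil) (.node [(167, (-1), 1)] .nil .nil)))) (.node [] (.node [] .nil (.node [] (.node [(39, (-1), 1)] .nil .nil) (.node [(132, 1, 1)] .nil .nil))) (.node [] (.node [(12, 1, 1)] .nil .nil) .nil))))) (.node [] (.node [] (.node [] (.node [] (.node [] (.node [] (.node [(21, 1, 1)] .nil .nil) (.node [(65, 1, 1)] .nil .nil)) .nil) (.node [] .nil (.node [] (.node [(43, (-1), 1)] .nil .nil) (.node [(147, (-1), 1)] .nil .nil)))) (.node [] (.node [] (.node [] .nil (.node [(73, 1, 1)] .nil .nil)) .nil) (.node [] (.node [(10, 1, 1)] .nil (.node [(82, 1, 1)] .nil .nil)) .nil))) (.node [] (.node [] (.node [] (.node [] .nil (.node [(70, 1,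 1)] .nil .nil)) (.node [] .nil (.node [(85, (-1), 1)] .nil .nil))) (.node [] (.node [] .nil (.node [(79, 1, 1)] .nil .nil)) (.node [] .nil (.node [(165, (-1), 1)] .nil .nil)))) (.node [] (.node [] (.node [] .nil (.node [(76, 1, 1)] .nil .nil)) (.node [(15, 1, 1)] (.node [(36, 1, 1)] .nil .nil) (.node [(129, (-1), 1)] .nil .nil))) (.node [] .nil (.node [] (.node [(62, 1, 1)] .nil .nil) .nil))))) (.node [(20, (-1), 1)] (.node [] (.node [] .nil (.node [] .nil (.node [(16, (-1), 1)] (.node [(49, 1, 1)] .nil .nil) (.node [(158, (-1), 1)] .nil .nil)))) (.node [] (.node [] (.node [] .nil (.node [(74, (-1), 1)] .nil .nil)) (.node [] (.node [(27, 1, 1)] .nil .nil) (.node [(127, (-1), 1)] .nil .nil))) (.node [] (.node [(11, 1, 1)] .nil .nil) (.node [] (.node [(60, (-1), 1)] .nil .nil) .nil)))) (.node [] (.node [] (.node [] (.node [] .nil (.node [(72, (-1), 1)] .nil .nil)) (.node [(14, 1, 1)] .nil .nil)) (.node [] (.node [(8, (-1), 1)] .nil (.node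 [(81, (-1), 1)] .nil .nil)) (.node [] (.node [(55, (-1), 1)] .nil .nil) .nil))) (.node [] (.node [] (.node [] .nil (.node [(77, (-1), 1)] .nil .nil)) (.node [] (.node [(41, 1, 1)] .nil .nil) (.node [(136, (-1), 1)] .nil .nil))) (.node [] .nil (.node [(19, 1, 1)] (.node [(63, (-1), 1)] .nil .nil) .nil)))))))
def X13 : Tr (List (ℕ × ℤ × ℕ)) := (.node [(21, 1, 1)] (.node [] (.node [] (.node [(21, (-1), 1)] (.node [] (.node [] (.node [] (.node [(20, 1, 1)] .nil .nil) .nil) .nil) (.node [] .nil (.node [] (.node [(43, (-1), 1)] .nil .nil) (.node [(142, (-1), 1)] .nil .nil)))) (.node [] (.node [] (.node [] .nil (.node [(73, 1, 1)] .nil .nil)) .nil) (.node [] (.node [(10, (-1), 1)] .nil (.node [(82, 1, 1)] .nil .nil)) (.node [] (.node [(58, 1, 1)] .nil .nil) .nil)))) (.node [] (.node [] (.node [] .nil (.node [] .nil (.node [(85, (-1), 1)] .nil .nil))) (.node [] .nil (.node [] (.node [(52, (-1), 1)] .nil .nil) (.node [(163, 1, 1)] .nil .nil))))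 (.node [] (.node [] (.node [] .nil (.node [(76, 1, 1)] .nil .nil)) (.node [(15, (-1), 1)] (.node [(33, (-1), 1)] .nil .nil) (.node [(128, (-1), 1)] .nil .nil))) (.node [] .nil (.node [] (.node [(62, 1, 1)] .nil .nil) .nil))))) (.node [] (.node [] (.node [] (.node [] (.node [] .nil (.node [(68, (-1), 1)] .nil .nil)) .nil) (.node [] .nil (.node [(16, 1, 1)] (.node [(47, (-1), 1)] .nil .nil) (.node [(154, 1, 1)] .nil .nil)))) (.node [] .nil (.node [] (.node [(11, (-1), 1)] .nil .nil) .nil))) (.node [] (.node [] (.node [] (.node [] .nil (.node [(72, (-1), 1)] .nil .nil)) (.node [(14, (-1), 1)] .nil .nil)) (.node [] (.node [] .nil (.node [(81, (-1), 1)] .nil .nil)) (.node [] .nil (.node [(168, 1, 1)] .nil .nil)))) (.node [] (.node [] (.node [] .nil (.node [(77, (-1), 1)] .nil .nil)) (.node [] (.node [(40, (-1), 1)] .nil .nil) (.node [(133, (-1), 1)] .nil .nil))) (.node [] .nil (.node [(19, (-1), 1)] (.node [(63, (-1), 1)] .nil .nil) .nil))))))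 (.node [] (.node [] (.node [] (.node [] (.node [] (.node [] .nil (.node [(66, 1, 1)] .nil .nil)) (.node [(13, (-1), 1)] .nil .nil)) (.node [] (.node [] .nil (.node [(78, 1, 1)] .nil .nil)) (.node [] .nil (.node [(148, 1, 1)] .nil .nil)))) (.node [] .nil (.node [] .nil (.node [] (.node [(59, (-1), 1)] .nil .nil) .nil)))) (.node [] (.node [] (.node [] (.node [] .nil (.node [(71, 1, 1)] .nil .nil)) .nil) (.node [] (.node [] .nil (.node [(80, 1, 1)] .nil .nil)) (.node [] (.node [(53, 1, 1)] .nil .nil) (.node [(166, 1, 1)] .nil .nil)))) (.node [] (.node [] .nil (.node [] (.node [(37, 1, 1)] .nil .nil) (.node [(130, 1, 1)] .nil .nil))) (.node [] (.node [(12, (-1), 1)] .nil .nil) .nil)))) (.node [] (.node [] (.node [] (.node [] (.node [] .nil (.node [(69, 1, 1)] .nil .nil)) .nil) (.node [] .nil (.node [] (.node [(50, 1, 1)] .nil .nil) (.node [(159, 1, 1)] .nil .nil)))) (.node [] (.node [] (.node [] .nil (.node [(75, (-1), 1)] .nil .nil)) (.node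 [] (.node [(28, 1, 1)] .nil .nil) (.node [(0, (-2), 1), (1, (-2), 1), (2, (-3), 1), (3, (-4), 1), (4, (-3), 1), (5, (-2), 1), (6, (-1), 1), (21, (-1), 2)] .nil .nil))) (.node [] (.node [] .nil (.node [(83, (-1), 1)] .nil .nil)) (.node [(18, 1, 1)] (.node [(61, (-1), 1)] .nil .nil) .nil)))) (.node [] (.node [] .nil (.node [] (.node [(9, (-1), 1)] .nil .nil) (.node [(17, (-1), 1)] (.node [(56, (-1), 1)] .nil .nil) (.node [(169, 1, 1)] .nil .nil)))) (.node [] (.node [] .nil (.node [] (.node [(42, 1, 1)] .nil .nil) (.node [(137, 1, 1)] .nil .nil))) (.node [] (.node [] .nil (.node [(84, 1, 1)] .nil .nil)) .nil))))))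
def X14 : Tr (List (ℕ × ℤ × ℕ)) := (.node [(22, (-1), 1)] (.node [(22, 1, 1)] (.node [] (.node [] (.node [] (.node [] .nil (.node [] (.node [(33, 1, 1)] .nil .nil) (.node [(97, 1, 1)] .nil .nil))) (.node [] (.node [(8, 1, 1)] .nil .nil) .nil)) (.node [] (.node [] .nil (.node [] (.node [(41, 1, 1)] .nil .nil) (.node [(105, 1, 1)] .nil .nil))) (.node [] (.node [] (.node [(25, 1, 1)] .nil .nil) (.node [(89, (-1), 1)] .nil .nil)) (.node [] .nil (.node [(176, (-1), 1)] .nil .nil))))) (.node [] (.node [] (.node [] .nil (.node [] (.node [(37, (-1), 1)] .nil .nil) (.node [(101, 1, 1)] .nil .nil))) (.node [] (.node [(12, 1, 1)] .nil .nil) (.node [] .nil (.node [(172, (-1), 1)] .nil .nil)))) (.node [] .nil (.node [] (.node [] (.node [(29, 1, 1)] .nil .nil) (.node [(93, (-1), 1)] .nil .nil)) .nil)))) (.node [] (.node [] (.node [] (.node [] .nil (.node [] (.node [(35, (-1), 1)] .nil .nil) (.node [(99, 1, 1)] .nil .nil))) (.node [] (.node [(10, 1,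 1)] .nil .nil) (.node [] .nil (.node [(170, (-1), 1)] .nil .nil)))) (.node [] (.node [] .nil (.node [] (.node [(43, 1, 1)] .nil .nil) (.node [(0, (-1), 1), (1, (-3), 1), (2, (-3), 1), (3, (-5), 1), (4, (-4), 1), (5, (-3), 1), (6, (-2), 1), (7, (-1), 1), (22, (-1), 2)] .nil .nil))) (.node [] (.node [] (.node [(27, 1, 1)] .nil .nil) (.node [(91, (-1), 1)] .nil .nil)) .nil))) (.node [] (.node [] (.node [] .nil (.node [] (.node [(39, (-1), 1)] .nil .nil) (.node [(103, 1, 1)] .nil .nil))) (.node [] (.node [(14, 1, 1)] (.node [(23, 1, 1)] .nil .nil) (.node [(87, 1, 1)] .nil .nil)) (.node [] .nil (.node [(174, (-1), 1)] .nil .nil)))) (.node [] .nil (.node [] (.node [] (.node [(31, 1, 1)] .nil .nil) (.node [(95, (-1), 1)] .nil .nil)) .nil))))) (.node [] (.node [] (.node [] (.node [] (.node [] .nil (.node [] (.node [(34, 1, 1)] .nil .nil) (.node [(98, (-1), 1)] .nil .nil))) (.node [] (.node [(9, 1, 1)] .nil .nil) .nil)) (.node [] (.node [] .nil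 (.node [] (.node [(42, (-1), 1)] .nil .nil) (.node [(106, (-1), 1)] .nil .nil))) (.node [] (.node [] (.node [(26, (-1), 1)] .nil .nil) (.node [(90, 1, 1)] .nil .nil)) .nil))) (.node [] (.node [] (.node [] .nil (.node [] (.node [(38, 1, 1)] .nil .nil) (.node [(102, (-1), 1)] .nil .nil))) (.node [] (.node [(13, 1, 1)] .nil (.node [(86, (-1), 1)] .nil .nil)) (.node [] .nil (.node [(173, (-1), 1)] .nil .nil)))) (.node [] .nil (.node [] (.node [] (.node [(30, (-1), 1)] .nil .nil) (.node [(94, 1, 1)] .nil .nil)) .nil)))) (.node [] (.node [] (.node [] (.node [] .nil (.node [] (.node [(36, 1, 1)] .nil .nil) (.node [(100, (-1), 1)] .nil .nil))) (.node [] (.node [(11, 1, 1)] .nil .nil) (.node [] .nil (.node [(171, (-1), 1)] .nil .nil)))) (.node [] .nil (.node [] (.node [] (.node [(28, (-1), 1)] .nil .nil) (.node [(92, 1, 1)] .nil .nil)) .nil))) (.node [] (.node [] (.node [] .nil (.node [] (.node [(40, 1, 1)] .nil .nil) (.node [(104, (-1), 1)] .nil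 .nil))) (.node [] (.node [] (.node [(24, (-1), 1)] .nil .nil) (.node [(88, (-1), 1)] .nil .nil)) (.node [] .nil (.node [(175, (-1), 1)] .nil .nil)))) (.node [] .nil (.node [] (.node [] (.node [(32, (-1), 1)] .nil .nil) (.node [(96, (-1), 1)] .nil .nil)) .nil))))))
def X15 : Tr (List (ℕ × ℤ × ℕ)) := (.node [(23, (-1), 1)] (.node [(23, (-1), 1)] (.node [(23, 1, 1)] (.node [] (.node [] (.node [] .nil (.node [] .nil (.node [(108, 1, 1)] .nil .nil))) (.node [] (.node [] .nil (.node [(91, (-1), 1)] .nil .nil)) (.node [] .nil (.node [(170, (-1), 1)] .nil .nil)))) (.node [] (.node [] .nil (.node [] (.node [(51, 1, 1)] .nil .nil) (.node [(117, (-1), 1)] .nil .nil))) (.node [] .nil (.node [] .nil (.node [(181, 1, 1)] .nil .nil))))) (.node [] (.node [] (.node [] .nil (.node [] (.node [(47, (-1), 1)] .nil .nil) (.node [(113, (-1), 1)] .nil .nil))) (.node [] (.node [] (.node [(32, (-1), 1)] .nil .nil) (.node [(95, (-1), 1)] .nil .nil)) (.node [] .nil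 (.node [(177, 1, 1)] .nil .nil)))) (.node [] (.node [] (.node [(9, (-1), 1)] (.node [(25, (-1), 1)] .nil .nil) (.node [(87, 1, 1)] .nil .nil)) .nil) .nil))) (.node [] (.node [] (.node [] (.node [] .nil (.node [] (.node [(45, (-1), 1)] .nil .nil) (.node [(110, 1, 1)] .nil .nil))) (.node [] (.node [] (.node [(30, (-1), 1)] .nil .nil) (.node [(93, (-1), 1)] .nil .nil)) .nil)) (.node [] (.node [] .nil (.node [] (.node [(53, 1, 1)] .nil .nil) (.node [(149, (-1), 1)] .nil .nil))) .nil)) (.node [] (.node [] (.node [] .nil (.node [] (.node [(49, (-1), 1)] .nil .nil) (.node [(115, (-1), 1)] .nil .nil))) (.node [] (.node [(16, 1, 1)] .nil .nil) (.node [] .nil (.node [(179, 1, 1)] .nil .nil)))) (.node [] (.node [] (.node [(11, (-1), 1)] (.node [(27, (-1), 1)] .nil .nil) (.node [(89, (-1), 1)] .nil .nil)) .nil) .nil)))) (.node [] (.node [] (.node [] (.node [] (.node [] .nil (.node [] (.node [(44, 1, 1)] .nil .nil) (.node [(109, (-1), 1)] .nil .nil)))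 (.node [] (.node [] (.node [(29, 1, 1)] .nil .nil) (.node [(92, 1, 1)] .nil .nil)) (.node [] .nil (.node [(171, (-1), 1)] .nil .nil)))) (.node [] (.node [] .nil (.node [] (.node [(52, (-1), 1)] .nil .nil) (.node [(0, (-1), 1), (1, (-2), 1), (2, (-3), 1), (3, (-5), 1), (4, (-4), 1), (5, (-3), 1), (6, (-2), 1), (7, (-1), 1), (23, (-1), 2)] .nil .nil))) .nil)) (.node [] (.node [] (.node [] .nil (.node [] (.node [(48, 1, 1)] .nil .nil) (.node [(114, 1, 1)] .nil .nil))) (.node [] (.node [(15, 1, 1)] (.node [(33, 1, 1)] .nil .nil) .nil) (.node [] .nil (.node [(178, 1, 1)] .nil .nil)))) (.node [] (.node [] (.node [(10, (-1), 1)] (.node [(26, 1, 1)] .nil .nil) (.node [(88, (-1), 1)] .nil .nil)) .nil) .nil))) (.node [] (.node [] (.node [] (.node [] .nil (.node [] (.node [(46, 1, 1)] .nil .nil) (.node [(111, (-1), 1)] .nil .nil))) (.node [] (.node [] (.node [(31, 1, 1)] .nil .nil) (.node [(94, 1, 1)] .nil .nil)) .nil)) (.node [] (.node [] (.node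 [(8, (-1), 1)] (.node [(24, 1, 1)] .nil .nil) (.node [(86, (-1), 1)] .nil .nil)) (.node [(22, 1, 1)] .nil .nil)) .nil)) (.node [] (.node [] (.node [] .nil (.node [] (.node [(50, 1, 1)] .nil .nil) (.node [(116, 1, 1)] .nil .nil))) (.node [] .nil (.node [] .nil (.node [(180, 1, 1)] .nil .nil)))) (.node [] (.node [] (.node [(12, (-1), 1)] (.node [(28, 1, 1)] .nil .nil) (.node [(90, 1, 1)] .nil .nil)) .nil) (.node [] (.node [] .nil (.node [(107, (-1), 1)] .nil .nil)) .nil))))))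
def X16 : Tr (List (ℕ × ℤ × ℕ)) := (.node [(24, (-1), 1)] (.node [] (.node [(24, (-1), 1)] (.node [] (.node [] (.node [] .nil (.node [] (.node [(47, (-1), 1)] .nil .nil) .nil)) (.node [] (.node [] (.node [(29, 1, 1)] .nil .nil) .nil) .nil)) (.node [] (.node [] (.node [(9, 1, 1)] (.node [(26, (-1), 1)] .nil .nil) (.node [(89, (-1), 1)] .nil .nil)) (.node [] (.node [(57, 1, 1)] .nil .nil) (.node [(0, (-1), 1), (1, (-2), 1), (2, (-3), 1), (3, (-4), 1), (4, (-4), 1), (5, (-3), 1), (6, (-2), 1), (7, (-1), 1), (24, (-1), 2)] .nil .nil))) (.node [] .nil (.node [] .nil (.node [(185, (-1), 1)] .nil .nil))))) (.node [] (.node [] (.node [] .nil (.node [] .nil (.node [(118, 1, 1)] .nil .nil))) (.node [] (.node [(15, (-1), 1)] (.node [(36, (-1), 1)] .nil .nil) (.node [(99, (-1), 1)] .nil .nil)) .nil)) (.node [] .nil (.node [] (.node [] .nil (.node [(108, 1, 1)] .nil .nil)) .nil)))) (.node [] (.node [] (.node [] .nil (.node [] (.node [] (.node [(34,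 (-1), 1)] .nil .nil) (.node [(97, (-1), 1)] .nil .nil)) .nil)) (.node [] (.node [] (.node [(11, 1, 1)] (.node [(28, (-1), 1)] .nil .nil) (.node [(91, (-1), 1)] .nil .nil)) (.node [(22, (-1), 1)] (.node [(59, 1, 1)] .nil .nil) (.node [(150, 1, 1)] .nil .nil))) .nil)) (.node [] (.node [] (.node [] (.node [] .nil (.node [(87, 1, 1)] .nil .nil)) (.node [] (.node [(55, (-1), 1)] .nil .nil) (.node [(120, 1, 1)] .nil .nil))) (.node [] (.node [(17, 1, 1)] .nil .nil) (.node [(23, 1, 1)] .nil (.node [(183, (-1), 1)] .nil .nil)))) (.node [] .nil (.node [] (.node [] (.node [(45, (-1), 1)] .nil .nil) (.node [(110, 1, 1)] .nil .nil)) .nil))))) (.node [(24, 1, 1)] (.node [(24, 1, 1)] (.node [] (.node [] .nil (.node [] (.node [] .nil (.node [(96, 1, 1)] .nil .nil)) (.node [] .nil (.node [(172, 1, 1)] .nil .nil)))) (.node [] (.node [] (.node [(10, 1, 1)] (.node [(27, 1, 1)] .nil .nil) (.node [(90, 1, 1)] .nil .nil)) (.node [] (.node [(58, (-1), 1)] .nil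 .nil) (.node [(138, (-1), 1)] .nil .nil))) .nil)) (.node [] (.node [] (.node [] (.node [] .nil (.node [(86, (-1), 1)] .nil .nil)) (.node [] (.node [(54, 1, 1)] .nil .nil) (.node [(119, (-1), 1)] .nil .nil))) (.node [] (.node [] (.node [(37, 1, 1)] .nil .nil) .nil) (.node [] .nil (.node [(182, (-1), 1)] .nil .nil)))) (.node [] .nil (.node [] (.node [] (.node [(44, 1, 1)] .nil .nil) (.node [(109, (-1), 1)] .nil .nil)) .nil)))) (.node [] (.node [] (.node [] (.node [] .nil (.node [] .nil (.node [(112, (-1), 1)] .nil .nil))) (.node [] (.node [] (.node [(35, 1, 1)] .nil .nil) (.node [(98, 1, 1)] .nil .nil)) (.node [] .nil (.node [(177, 1, 1)] .nil .nil)))) (.node [] .nil (.node [] (.node [] .nil (.node [(107, (-1), 1)] .nil .nil)) .nil))) (.node [] (.node [] (.node [] (.node [(8, 1, 1)] (.node [(25, 1, 1)] .nil .nil) (.node [(88, (-1), 1)] .nil .nil)) (.node [] (.node [(56, 1, 1)] .nil .nil) (.node [(121, (-1), 1)] .nil .nil))) (.node [] .nil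 (.node [] .nil (.node [(184, (-1), 1)] .nil .nil)))) (.node [] (.node [] (.node [(13, (-1), 1)] .nil .nil) (.node [] .nil (.node [(170, (-1), 1)] .nil .nil))) (.node [] (.node [] (.node [(46, 1, 1)] .nil .nil) .nil) .nil))))))
def X17 : Tr (List (ℕ × ℤ × ℕ)) := (.node [(25, (-1), 1)] (.node [] (.node [] (.node [] (.node [] (.node [] .nil (.node [] (.node [(50, (-1), 1)] .nil .nil) .nil)) (.node [] (.node [] (.node [(30, 1, 1)] .nil .nil) (.node [(98, 1, 1)] .nil .nil)) .nil)) (.node [] (.node [] (.node [] .nil (.node [(92, (-1), 1)] .nil .nil)) (.node [] (.node [(60, 1, 1)] .nil .nil) (.node [(134, (-1), 1)] .nil .nil))) (.node [] (.node [] .nil (.node [(107, (-1), 1)] .nil .nil)) (.node [] .nil (.node [(188, 1, 1)] .nil .nil))))) (.node [] (.node [] (.node [] (.node [(8, (-1), 1)] (.node [(26, 1, 1)] .nil .nil) (.node [(88, (-1), 1)] .nil .nil)) (.node [] (.node [(56, 1, 1)] .nil .nil) (.node [(122, (-1), 1)] .nil .nil))) (.node [] (.node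 [] (.node [(39, (-1), 1)] .nil .nil) (.node [(100, (-1), 1)] .nil .nil)) (.node [] .nil (.node [(182, (-1), 1)] .nil .nil)))) (.node [] .nil (.node [] (.node [] (.node [(44, 1, 1)] .nil .nil) .nil) .nil)))) (.node [(25, 1, 1)] (.node [] (.node [] (.node [] (.node [] .nil (.node [(86, (-1), 1)] .nil .nil)) (.node [] (.node [(54, 1, 1)] .nil .nil) (.node [(112, (-1), 1)] .nil .nil))) .nil) (.node [] (.node [] (.node [(12, 1, 1)] .nil (.node [(94, (-1), 1)] .nil .nil)) (.node [] (.node [(62, 1, 1)] .nil .nil) (.node [(151, (-1), 1)] .nil .nil))) (.node [] (.node [] .nil (.node [(109, (-1), 1)] .nil .nil)) (.node [(24, 1, 1)] .nil .nil)))) (.node [] (.node [] (.node [] (.node [(10, (-1), 1)] (.node [(28, 1, 1)] .nil .nil) .nil) (.node [] .nil (.node [(124, (-1), 1)] .nil .nil))) (.node [] (.node [(18, 1, 1)] .nil .nil) (.node [] .nil (.node [(186, 1, 1)] .nil .nil)))) (.node [] (.node [] (.node [(13, 1, 1)] .nil (.node [(96, 1, 1)] .nil .nil))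 (.node [] .nil (.node [(170, (-1), 1)] .nil .nil))) (.node [] (.node [] (.node [(48, (-1), 1)] .nil .nil) (.node [(111, 1, 1)] .nil .nil)) .nil))))) (.node [(25, 1, 1)] (.node [(25, (-1), 1)] (.node [] (.node [] .nil (.node [] (.node [] (.node [(34, (-1), 1)] .nil .nil) .nil) (.node [] .nil (.node [(173, (-1), 1)] .nil .nil)))) (.node [] (.node [] (.node [] .nil (.node [(93, 1, 1)] .nil .nil)) (.node [(22, 1, 1)] (.node [(61, (-1), 1)] .nil .nil) (.node [(139, 1, 1)] .nil .nil))) (.node [] (.node [] .nil (.node [(108, 1, 1)] .nil .nil)) .nil))) (.node [] (.node [] (.node [] (.node [(9, (-1), 1)] (.node [(27, (-1), 1)] .nil .nil) .nil) (.node [] .nil (.node [(123, 1, 1)] .nil .nil))) (.node [] (.node [] (.node [(40, 1, 1)] .nil .nil) .nil) (.node [(23, (-1), 1)] .nil .nil))) .nil)) (.node [] (.node [] (.node [] (.node [] (.node [] .nil (.node [(87, 1, 1)] .nil .nil)) (.node [] (.node [(55, (-1), 1)] .nil .nil) .nil)) (.node [] (.node [(15,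 1, 1)] (.node [(38, 1, 1)] .nil .nil) .nil) (.node [] .nil (.node [(178, (-1), 1)] .nil .nil)))) .nil) (.node [] (.node [] (.node [] .nil (.node [] .nil (.node [(0, (-1), 1), (1, (-2), 1), (2, (-3), 1), (3, (-4), 1), (4, (-3), 1), (5, (-3), 1), (6, (-2), 1), (7, (-1), 1), (25, (-1), 2)] .nil .nil))) (.node [] .nil (.node [] .nil (.node [(187, 1, 1)] .nil .nil)))) (.node [] (.node [] (.node [] .nil (.node [(97, (-1), 1)] .nil .nil)) .nil) (.node [] (.node [] (.node [(49, 1, 1)] .nil .nil) .nil) .nil))))))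
def X18 : Tr (List (ℕ × ℤ × ℕ)) := (.node [(26, (-1), 1)] (.node [] (.node [] (.node [] (.node [] (.node [] .nil (.node [] (.node [(52, (-1), 1)] .nil .nil) .nil)) (.node [] (.node [] (.node [(31, 1, 1)] .nil .nil) (.node [(99, 1, 1)] .nil .nil)) .nil)) (.node [] (.node [] .nil (.node [(22, (-1), 1)] .nil (.node [(135, 1, 1)] .nil .nil))) (.node [] .nil (.node [] .nil (.node [(190, (-1), 1)] .nil .nil))))) (.node [] (.node [] (.node [] (.node [] .nil (.node [(90, (-1), 1)] .nil .nil)) (.node [] (.node [(58, 1, 1)] .nil .nil) (.node [(125, 1, 1)] .nil .nil))) (.node [] (.node [] (.node [(41, (-1), 1)] .nil .nil) .nil) (.node [(23, 1, 1)] .nil (.node [(183, 1, 1)] .nil .nil)))) (.node [] (.node [] (.node [] .nil (.node [(96, 1, 1)] .nil .nil)) .nil) (.node [] (.node [] (.node [(45, 1, 1)] .nil .nil) .nil) .nil)))) (.node [(26, (-1), 1)] (.node [] (.node [] (.node [] (.node [(8, 1, 1)] (.node [(27, 1, 1)] .nil .nil) .nil) .nil) (.node []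 (.node [(15, (-1), 1)] (.node [(38, 1, 1)] .nil .nil) .nil) .nil)) (.node [] (.node [] (.node [] .nil (.node [(95, (-1), 1)] .nil .nil)) (.node [] (.node [(63, 1, 1)] .nil .nil) (.node [(152, 1, 1)] .nil .nil))) (.node [] (.node [] .nil (.node [(110, (-1), 1)] .nil .nil)) .nil))) (.node [] (.node [] (.node [] (.node [(11, (-1), 1)] .nil (.node [(92, (-1), 1)] .nil .nil)) (.node [] (.node [(60, 1, 1)] .nil .nil) (.node [(0, (-1), 1), (1, (-2), 1), (2, (-3), 1), (3, (-4), 1), (4, (-3), 1), (5, (-2), 1), (6, (-2), 1), (7, (-1), 1), (26, (-1), 2)] .nil .nil))) (.node [] (.node [(19, 1, 1)] .nil (.node [(107, (-1), 1)] .nil .nil)) .nil)) .nil))) (.node [(26, 1, 1)] (.node [] (.node [] (.node [] (.node [] (.node [] .nil (.node [(86, (-1), 1)] .nil .nil)) (.node [] (.node [(54, 1, 1)] .nil .nil) (.node [(112, (-1), 1)] .nil .nil))) (.node [] (.node [] (.node [(35, (-1), 1)] .nil .nil) .nil) (.node [] .nil (.node [(174, 1, 1)] .nil .nil)))) (.node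 [] (.node [] (.node [(12, (-1), 1)] .nil .nil) (.node [] .nil (.node [(140, (-1), 1)] .nil .nil))) (.node [] .nil (.node [(24, (-1), 1)] .nil .nil)))) (.node [] (.node [] (.node [] .nil (.node [] .nil (.node [(126, (-1), 1)] .nil .nil))) (.node [] (.node [] (.node [(42, 1, 1)] .nil .nil) .nil) (.node [] .nil (.node [(186, 1, 1)] .nil .nil)))) (.node [] (.node [] (.node [(13, (-1), 1)] .nil (.node [(97, (-1), 1)] .nil .nil)) (.node [] .nil (.node [(170, (-1), 1)] .nil .nil))) (.node [] (.node [] (.node [(48, (-1), 1)] .nil .nil) (.node [(111, 1, 1)] .nil .nil)) (.node [(25, 1, 1)] .nil .nil))))) (.node [(26, 1, 1)] (.node [] (.node [] (.node [] (.node [(9, 1, 1)] (.node [(28, (-1), 1)] .nil .nil) (.node [(89, 1, 1)] .nil .nil)) (.node [] (.node [(57, (-1), 1)] .nil .nil) .nil)) (.node [] (.node [] .nil (.node [(100, (-1), 1)] .nil .nil)) (.node [] .nil (.node [(179, 1, 1)] .nil .nil)))) .nil) (.node [] (.node [] (.node [] (.node [] .nil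 (.node [(93, 1, 1)] .nil .nil)) (.node [] (.node [(61, (-1), 1)] .nil .nil) (.node [(131, (-1), 1)] .nil .nil))) (.node [] (.node [] .nil (.node [(108, 1, 1)] .nil .nil)) (.node [] .nil (.node [(189, (-1), 1)] .nil .nil)))) (.node [] .nil (.node [] (.node [] (.node [(51, 1, 1)] .nil .nil) .nil) .nil))))))
def X19 : Tr (List (ℕ × ℤ × ℕ)) := (.node [(27, (-1), 1)] (.node [] (.node [] (.node [(27, 1, 1)] (.node [] (.node [] .nil (.node [] (.node [(53, (-1), 1)] .nil .nil) (.node [(112, (-1), 1)] .nil .nil))) (.node [] (.node [] (.node [(32, 1, 1)] .nil .nil) .nil) .nil)) (.node [] (.node [] (.node [(12, 1, 1)] .nil .nil) (.node [] .nil (.node [(136, (-1), 1)] .nil .nil))) (.node [] .nil (.node [(24, 1, 1)] .nil (.node [(191, 1, 1)] .nil .nil))))) (.node [] (.node [] (.node [] (.node [] .nil (.node [(91, (-1), 1)] .nil .nil)) (.node [] (.node [(59, 1, 1)] .nil .nil) (.node [(127, (-1), 1)] .nil .nil))) (.node [] .nil (.node [] .nil (.node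 [(184, (-1), 1)] .nil .nil)))) (.node [] (.node [] (.node [(13, 1, 1)] .nil .nil) (.node [] .nil (.node [(170, (-1), 1)] .nil .nil))) (.node [] (.node [] (.node [(46, 1, 1)] .nil .nil) (.node [(111, 1, 1)] .nil .nil)) (.node [(25, (-1), 1)] .nil .nil))))) (.node [] (.node [] (.node [] (.node [] (.node [] .nil (.node [(89, 1, 1)] .nil .nil)) (.node [] (.node [(57, (-1), 1)] .nil .nil) .nil)) (.node [] (.node [] (.node [(39, 1, 1)] .nil .nil) (.node [(100, (-1), 1)] .nil .nil)) .nil)) (.node [] (.node [] .nil (.node [] .nil (.node [(153, (-1), 1)] .nil .nil))) .nil)) (.node [] (.node [] (.node [] .nil (.node [] .nil (.node [(129, (-1), 1)] .nil .nil))) (.node [] (.node [(20, 1, 1)] .nil .nil) (.node [] .nil (.node [(189, (-1), 1)] .nil .nil)))) (.node [] .nil (.node [] (.node [] (.node [(51, 1, 1)] .nil .nil) .nil) .nil))))) (.node [(27, 1, 1)] (.node [] (.node [] (.node [] (.node [] (.node [(8, (-1), 1)] (.node [(28, 1, 1)] .nil .nil)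 (.node [(87, (-1), 1)] .nil .nil)) (.node [] (.node [(55, 1, 1)] .nil .nil) .nil)) (.node [] (.node [(15, 1, 1)] (.node [(36, (-1), 1)] .nil .nil) .nil) (.node [] .nil (.node [(175, (-1), 1)] .nil .nil)))) (.node [] (.node [] (.node [] .nil (.node [(95, (-1), 1)] .nil .nil)) (.node [] (.node [(63, 1, 1)] .nil .nil) (.node [(141, 1, 1)] .nil .nil))) (.node [] (.node [] .nil (.node [(110, (-1), 1)] .nil .nil)) .nil))) (.node [] (.node [] (.node [] (.node [(11, 1, 1)] .nil (.node [(92, (-1), 1)] .nil .nil)) (.node [] (.node [(60, 1, 1)] .nil .nil) (.node [(0, (-1), 1), (1, (-2), 1), (2, (-3), 1), (3, (-4), 1), (4, (-3), 1), (5, (-2), 1), (6, (-1), 1), (7, (-1), 1), (27, (-1), 2)] .nil .nil))) (.node [] (.node [] (.node [(43, 1, 1)] .nil .nil) (.node [(107, (-1), 1)] .nil .nil)) (.node [] .nil (.node [(187, (-1), 1)] .nil .nil)))) (.node [] (.node [] (.node [] .nil (.node [(98, (-1), 1)] .nil .nil)) .nil) (.node [] (.node [] (.node [(49,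 (-1), 1)] .nil .nil) .nil) .nil)))) (.node [(27, (-1), 1)] (.node [] (.node [] (.node [] (.node [(10, 1, 1)] .nil .nil) .nil) (.node [] (.node [] (.node [(41, (-1), 1)] .nil .nil) .nil) (.node [(23, (-1), 1)] .nil (.node [(180, (-1), 1)] .nil .nil)))) (.node [] (.node [] (.node [] .nil (.node [(96, 1, 1)] .nil .nil)) .nil) .nil)) (.node [] (.node [] (.node [] (.node [] .nil (.node [(94, 1, 1)] .nil .nil)) (.node [(22, 1, 1)] (.node [(62, (-1), 1)] .nil .nil) (.node [(132, 1, 1)] .nil .nil))) (.node [] (.node [] .nil (.node [(109, 1, 1)] .nil .nil)) .nil)) (.node [] (.node [] (.node [] .nil (.node [(99, 1, 1)] .nil .nil)) .nil) (.node [] .nil (.node [(26, 1, 1)] .nil .nil)))))))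
def X20 : Tr (List (ℕ × ℤ × ℕ)) := (.node [(28, (-1), 1)] (.node [] (.node [] (.node [(28, (-1), 1)] (.node [] (.node [] (.node [] (.node [(27, 1, 1)] .nil .nil) .nil) .nil) (.node [] (.node [(15, (-1), 1)] (.node [(33, 1, 1)] .nil .nil) .nil) .nil)) (.node [] (.node [] (.node [] .nil (.node [(95, (-1), 1)] .nil .nil)) (.node [] (.node [(63, 1, 1)] .nil .nil) (.node [(137, 1, 1)] .nil .nil))) (.node [] (.node [] .nil (.node [(110, (-1), 1)] .nil .nil)) .nil))) (.node [] (.node [] (.node [] (.node [(11, (-1), 1)] .nil .nil) (.node [] .nil (.node [(0, (-1), 1), (1, (-2), 1), (2, (-3), 1), (3, (-4), 1), (4, (-3), 1), (5, (-2), 1), (6, (-1), 1), (28, (-1), 2)] .nil .nil))) (.node [] (.node [] (.node [(43, 1, 1)] .nil .nil) .nil) (.node [] .nil (.node [(185, 1, 1)] .nil .nil)))) (.node [] (.node [] (.node [] .nil (.node [(98, (-1), 1)] .nil .nil)) .nil) (.node [] (.node [] (.node [(47, 1, 1)] .nil .nil) .nil) .nil)))) (.node [] (.node [] (.node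 [] (.node [] (.node [(10, (-1), 1)] .nil (.node [(90, 1, 1)] .nil .nil)) (.node [] (.node [(58, (-1), 1)] .nil .nil) .nil)) (.node [] (.node [] (.node [(40, 1, 1)] .nil .nil) .nil) (.node [(23, 1, 1)] .nil .nil))) (.node [] (.node [] .nil (.node [] .nil (.node [(154, 1, 1)] .nil .nil))) .nil)) (.node [] (.node [] (.node [] (.node [] .nil (.node [(94, 1, 1)] .nil .nil)) (.node [(22, (-1), 1)] (.node [(62, (-1), 1)] .nil .nil) (.node [(130, 1, 1)] .nil .nil))) (.node [] (.node [(21, 1, 1)] .nil (.node [(109, 1, 1)] .nil .nil)) (.node [] .nil (.node [(190, 1, 1)] .nil .nil)))) (.node [] (.node [] (.node [] .nil (.node [(99, 1, 1)] .nil .nil)) .nil) (.node [] (.node [] (.node [(52, 1, 1)] .nil .nil) .nil) (.node [(26, (-1), 1)] .nil .nil)))))) (.node [(28, 1, 1)] (.node [] (.node [] (.node [] (.node [] (.node [(9, (-1), 1)] .nil (.node [(88, (-1), 1)] .nil .nil)) (.node [] (.node [(56, 1, 1)] .nil .nil) .nil)) (.node [] (.node [] (.node [(37,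 (-1), 1)] .nil .nil) (.node [(100, (-1), 1)] .nil .nil)) (.node [] .nil (.node [(176, 1, 1)] .nil .nil)))) (.node [] (.node [] .nil (.node [] .nil (.node [(142, (-1), 1)] .nil .nil))) .nil)) (.node [] (.node [] (.node [] (.node [] .nil (.node [(93, (-1), 1)] .nil .nil)) (.node [] (.node [(61, 1, 1)] .nil .nil) (.node [(128, (-1), 1)] .nil .nil))) (.node [] (.node [] .nil (.node [(108, (-1), 1)] .nil .nil)) (.node [] .nil (.node [(188, 1, 1)] .nil .nil)))) (.node [] .nil (.node [] (.node [] (.node [(50, (-1), 1)] .nil .nil) .nil) .nil)))) (.node [] (.node [] (.node [] (.node [] (.node [] .nil (.node [(91, (-1), 1)] .nil .nil)) (.node [] (.node [(59, 1, 1)] .nil .nil) .nil)) (.node [] (.node [] (.node [(42, (-1), 1)] .nil .nil) .nil) (.node [] .nil (.node [(181, 1, 1)] .nil .nil)))) (.node [] (.node [] (.node [(13, (-1), 1)] .nil (.node [(97, 1, 1)] .nil .nil)) (.node [] .nil (.node [(170, (-1), 1)] .nil .nil))) (.node [] (.node [] .nil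 (.node [(111, 1, 1)] .nil .nil)) (.node [(25, 1, 1)] .nil .nil)))) (.node [] (.node [] (.node [] (.node [(12, (-1), 1)] .nil .nil) (.node [] .nil (.node [(133, (-1), 1)] .nil .nil))) (.node [] .nil (.node [(24, (-1), 1)] .nil (.node [(191, 1, 1)] .nil .nil)))) (.node [] .nil (.node [] (.node [] (.node [(53, (-1), 1)] .nil .nil) (.node [(112, (-1), 1)] .nil .nil)) .nil))))))
def X21 : Tr (List (ℕ × ℤ × ℕ)) := (.node [] (.node [] (.node [] (.node [] (.node [] (.node [] (.node [(11, (-1), 1)] .nil (.node [(91, (-1), 1)] .nil .nil)) (.node [] .nil (.node [(119, (-1), 1)] .nil .nil))) (.node [] .nil (.node [(23, 1, 1)] .nil (.node [(172, 1, 1)] .nil .nil)))) (.node [] (.node [] (.node [] (.node [(31, (-1), 1)] .nil .nil) .nil) (.node [] (.node [(67, 1, 1)] .nil .nil) (.node [(143, (-1), 1)] .nil .nil))) (.node [] (.node [] (.node [(44, 1, 1)] .nil .nil) .nil) (.node [] .nil (.node [(195, 1, 1)] .nil .nil))))) (.node [] (.node [] .nil (.node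 [] (.node [(16, (-1), 1)] .nil (.node [(104, (-1), 1)] .nil .nil)) .nil)) (.node [] (.node [] (.node [] (.node [(34, 1, 1)] .nil .nil) .nil) .nil) (.node [] (.node [] .nil (.node [(114, (-1), 1)] .nil .nil)) (.node [] (.node [(87, 1, 1)] .nil .nil) .nil))))) (.node [] (.node [] (.node [] (.node [] .nil (.node [] .nil (.node [(121, (-1), 1)] .nil .nil))) (.node [] (.node [] .nil (.node [(102, (-1), 1)] .nil .nil)) (.node [] .nil (.node [(177, 1, 1)] .nil .nil)))) (.node [] (.node [] (.node [] (.node [(33, (-1), 1)] .nil .nil) .nil) (.node [] (.node [(69, 1, 1)] .nil .nil) (.node [(155, (-1), 1)] .nil .nil))) (.node [] (.node [] (.node [(46, 1, 1)] .nil .nil) .nil) .nil))) (.node [] (.node [] (.node [] .nil (.node [] (.node [(65, (-1), 1)] .nil .nil) .nil)) (.node [] .nil (.node [] .nil (.node [(193, 1, 1)] .nil .nil)))) (.node [] (.node [] (.node [] (.node [(36, 1, 1)] .nil .nil) .nil) .nil) (.node [(9, (-1), 1)] (.node [] .nil (.node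 [(116, (-1), 1)] .nil .nil)) (.node [] (.node [(89, (-1), 1)] .nil .nil) .nil)))))) (.node [(29, (-1), 1)] (.node [(29, 1, 1)] (.node [] (.node [] (.node [] .nil (.node [] .nil (.node [(120, 1, 1)] .nil .nil))) (.node [] (.node [] .nil (.node [(101, 1, 1)] .nil .nil)) (.node [(24, 1, 1)] .nil .nil))) (.node [] (.node [] (.node [] (.node [(32, 1, 1)] .nil .nil) .nil) (.node [] (.node [(68, (-1), 1)] .nil .nil) (.node [(144, (-1), 1)] .nil .nil))) (.node [] (.node [] (.node [(45, (-1), 1)] .nil .nil) .nil) .nil))) (.node [] (.node [] (.node [] .nil (.node [(22, 1, 1)] (.node [(64, 1, 1)] .nil .nil) .nil)) (.node [] (.node [(17, (-1), 1)] .nil .nil) (.node [] .nil (.node [(192, 1, 1)] .nil .nil)))) (.node [] (.node [] (.node [] (.node [(35, (-1), 1)] .nil .nil) .nil) .nil) (.node [(8, (-1), 1)] (.node [] .nil (.node [(115, 1, 1)] .nil .nil)) (.node [] (.node [(88, (-1), 1)] .nil .nil) .nil))))) (.node [] (.node [] (.node [] (.node [] .nil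 (.node [] .nil (.node [(0, (-1), 1), (1, (-2), 1), (2, (-2), 1), (3, (-4), 1), (4, (-4), 1), (5, (-3), 1), (6, (-2), 1), (7, (-1), 1), (29, (-1), 2)] .nil .nil))) (.node [] (.node [] .nil (.node [(103, 1, 1)] .nil .nil)) .nil)) (.node [] .nil (.node [] (.node [] (.node [(47, (-1), 1)] .nil .nil) (.node [(113, 1, 1)] .nil .nil)) (.node [] (.node [(86, (-1), 1)] .nil .nil) .nil)))) (.node [] (.node [] (.node [] (.node [] (.node [(30, 1, 1)] .nil .nil) .nil) (.node [] (.node [(66, 1, 1)] .nil .nil) .nil)) (.node [] .nil (.node [] .nil (.node [(194, 1, 1)] .nil .nil)))) (.node [] (.node [] (.node [(14, (-1), 1)] (.node [(37, (-1), 1)] .nil .nil) .nil) (.node [] .nil (.node [(171, 1, 1)] .nil .nil))) (.node [(10, (-1), 1)] (.node [] .nil (.node [(118, 1, 1)] .nil .nil)) (.node [] (.node [(90, 1, 1)] .nil .nil) .nil)))))))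
def X22 : Tr (List (ℕ × ℤ × ℕ)) := (.node [] (.node [] (.node [(30, 1, 1)] (.node [] (.node [] (.node [] (.node [(12, (-1), 1)] .nil (.node [(94, (-1), 1)] .nil .nil)) (.node [] .nil (.node [(123, 1, 1)] .nil .nil))) (.node [] (.node [] .nil (.node [(103, 1, 1)] .nil .nil)) (.node [] .nil (.node [(173, (-1), 1)] .nil .nil)))) (.node [] (.node [] .nil (.node [] (.node [(70, 1, 1)] .nil .nil) .nil)) (.node [] (.node [] .nil (.node [(113, 1, 1)] .nil .nil)) (.node [] (.node [(86, (-1), 1)] .nil .nil) (.node [(198, (-1), 1)] .nil .nil))))) (.node [] (.node [] (.node [] (.node [] (.node [(31, 1, 1)] .nil .nil) .nil) (.node [(22, (-1), 1)] (.node [(66, 1, 1)] .nil .nil) .nil)) (.node [] (.node [] .nil (.node [(105, (-1), 1)] .nil .nil)) (.node [] .nil (.node [(192, 1, 1)] .nil .nil)))) (.node [] .nil (.node [(10, 1, 1)] .nil .nil)))) (.node [(30, 1, 1)] (.node [] (.node [] (.node [] .nil (.node [] (.node [(64, 1, 1)] .nil .nil) (.node [(0,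 (-1), 1), (1, (-2), 1), (2, (-2), 1), (3, (-4), 1), (4, (-3), 1), (5, (-3), 1), (6, (-2), 1), (7, (-1), 1), (30, (-1), 2)] .nil .nil))) (.node [] .nil (.node [] .nil (.node [(178, (-1), 1)] .nil .nil)))) (.node [] (.node [] .nil (.node [] (.node [(72, 1, 1)] .nil .nil) (.node [(156, 1, 1)] .nil .nil))) (.node [(8, 1, 1)] (.node [] (.node [(49, 1, 1)] .nil .nil) (.node [(115, 1, 1)] .nil .nil)) (.node [(29, 1, 1)] (.node [(88, (-1), 1)] .nil .nil) .nil)))) (.node [] (.node [] (.node [] (.node [] (.node [(33, 1, 1)] .nil .nil) .nil) .nil) (.node [] .nil (.node [] .nil (.node [(196, (-1), 1)] .nil .nil)))) (.node [] (.node [] (.node [(14, 1, 1)] (.node [(39, 1, 1)] .nil .nil) (.node [(101, 1, 1)] .nil .nil)) (.node [] .nil (.node [(171, 1, 1)] .nil .nil))) (.node [] (.node [] .nil (.node [(117, (-1), 1)] .nil .nil)) (.node [] (.node [(92, (-1), 1)] .nil .nil) .nil)))))) (.node [(30, (-1), 1)] (.node [(30, (-1), 1)] (.node [] (.node [] (.node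 [] .nil (.node [] .nil (.node [(124, (-1), 1)] .nil .nil))) (.node [] .nil (.node [(25, 1, 1)] .nil .nil))) (.node [] (.node [] .nil (.node [] (.node [(71, (-1), 1)] .nil .nil) (.node [(145, 1, 1)] .nil .nil))) (.node [] (.node [] (.node [(48, (-1), 1)] .nil .nil) (.node [(114, (-1), 1)] .nil .nil)) (.node [] (.node [(87, 1, 1)] .nil .nil) .nil)))) (.node [] (.node [] (.node [] (.node [] (.node [(32, (-1), 1)] .nil .nil) .nil) .nil) (.node [] (.node [(18, (-1), 1)] .nil .nil) .nil)) (.node [] (.node [] (.node [] (.node [(38, (-1), 1)] .nil .nil) .nil) .nil) .nil))) (.node [] (.node [] (.node [] (.node [] .nil (.node [] (.node [(65, (-1), 1)] .nil .nil) (.node [(134, (-1), 1)] .nil .nil))) (.node [] (.node [(16, 1, 1)] .nil .nil) .nil)) (.node [] (.node [] (.node [] (.node [(34, 1, 1)] .nil .nil) .nil) .nil) (.node [(9, 1, 1)] (.node [] (.node [(50, (-1), 1)] .nil .nil) .nil) .nil))) (.node [] (.node [] (.node [] .nil (.node [] .nil (.node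 [(143, (-1), 1)] .nil .nil))) (.node [] (.node [] (.node [(44, 1, 1)] .nil .nil) .nil) (.node [] .nil (.node [(197, (-1), 1)] .nil .nil)))) (.node [] (.node [] (.node [] (.node [(40, (-1), 1)] .nil .nil) (.node [(102, (-1), 1)] .nil .nil)) (.node [(23, (-1), 1)] .nil .nil)) (.node [] (.node [] .nil (.node [(122, (-1), 1)] .nil .nil)) (.node [] (.node [(93, 1, 1)] .nil .nil) .nil)))))))
def X23 : Tr (List (ℕ × ℤ × ℕ)) := (.node [] (.node [] (.node [(31, 1, 1)] (.node [] (.node [] (.node [] (.node [] .nil (.node [(95, (-1), 1)] .nil .nil)) (.node [] .nil (.node [(126, (-1), 1)] .nil .nil))) (.node [] (.node [] .nil (.node [(104, 1, 1)] .nil .nil)) (.node [] .nil (.node [(174, 1, 1)] .nil .nil)))) (.node [] .nil (.node [(8, (-1), 1)] (.node [] (.node [(48, (-1), 1)] .nil .nil) .nil) (.node [] .nil (.node [(200, 1, 1)] .nil .nil))))) (.node [] (.node [] (.node [] .nil (.node [] (.node [(68, 1, 1)] .nil .nil) .nil)) (.node [] .nil (.node []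 .nil (.node [(193, (-1), 1)] .nil .nil)))) (.node [] (.node [] (.node [] (.node [(38, (-1), 1)] .nil .nil) (.node [(101, 1, 1)] .nil .nil)) .nil) (.node [(11, 1, 1)] .nil (.node [] (.node [(92, (-1), 1)] .nil .nil) .nil))))) (.node [(31, (-1), 1)] (.node [] (.node [] (.node [] (.node [] (.node [(32, 1, 1)] .nil .nil) .nil) (.node [] .nil (.node [(131, (-1), 1)] .nil .nil))) (.node [] (.node [(16, (-1), 1)] .nil .nil) (.node [] .nil (.node [(179, 1, 1)] .nil .nil)))) (.node [] (.node [] .nil (.node [] (.node [(73, 1, 1)] .nil .nil) (.node [(157, (-1), 1)] .nil .nil))) (.node [] (.node [] (.node [(51, 1, 1)] .nil .nil) (.node [(116, 1, 1)] .nil .nil)) (.node [] (.node [(90, (-1), 1)] .nil .nil) .nil)))) (.node [] (.node [] (.node [] .nil (.node [] (.node [(70, 1, 1)] .nil .nil) (.node [(143, (-1), 1)] .nil .nil))) (.node [] (.node [] .nil (.node [(113, 1, 1)] .nil .nil)) .nil)) (.node [] (.node [] (.node [] (.node [(41, 1, 1)] .nil .nil)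 .nil) (.node [(23, 1, 1)] .nil .nil)) .nil)))) (.node [(31, (-1), 1)] (.node [] (.node [] (.node [] (.node [] .nil (.node [] (.node [(64, 1, 1)] .nil .nil) (.node [(0, (-1), 1), (1, (-2), 1), (2, (-2), 1), (3, (-4), 1), (4, (-3), 1), (5, (-2), 1), (6, (-2), 1), (7, (-1), 1), (31, (-1), 2)] .nil .nil))) (.node [] .nil (.node [(26, 1, 1)] .nil .nil))) (.node [] (.node [] .nil (.node [] .nil (.node [(146, (-1), 1)] .nil .nil))) (.node [(9, (-1), 1)] .nil (.node [(29, (-1), 1)] (.node [(89, 1, 1)] .nil .nil) .nil)))) (.node [] (.node [] .nil (.node [] (.node [(19, (-1), 1)] .nil .nil) (.node [] .nil (.node [(196, (-1), 1)] .nil .nil)))) (.node [] (.node [] (.node [(14, (-1), 1)] .nil (.node [(102, (-1), 1)] .nil .nil)) (.node [] .nil (.node [(171, 1, 1)] .nil .nil))) (.node [] (.node [] .nil (.node [(117, (-1), 1)] .nil .nil)) (.node [(30, 1, 1)] (.node [(93, 1, 1)] .nil .nil) .nil))))) (.node [(31, 1, 1)] (.node [] (.node [] (.node [] (.node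 [] (.node [(33, (-1), 1)] .nil .nil) .nil) (.node [(22, 1, 1)] (.node [(67, (-1), 1)] .nil .nil) (.node [(135, 1, 1)] .nil .nil))) (.node [] (.node [] .nil (.node [(105, (-1), 1)] .nil .nil)) .nil)) (.node [] (.node [] (.node [] (.node [(35, 1, 1)] .nil .nil) .nil) .nil) (.node [] (.node [] (.node [(52, (-1), 1)] .nil .nil) .nil) .nil))) (.node [] (.node [] (.node [] .nil (.node [] (.node [(71, (-1), 1)] .nil .nil) .nil)) (.node [] (.node [] (.node [(45, 1, 1)] .nil .nil) (.node [(114, (-1), 1)] .nil .nil)) (.node [] (.node [(86, (-1), 1)] .nil .nil) (.node [(199, 1, 1)] .nil .nil)))) (.node [] (.node [] (.node [] (.node [(42, (-1), 1)] .nil .nil) .nil) .nil) (.node [(12, 1, 1)] (.node [] .nil (.node [(125, 1, 1)] .nil .nil)) .nil))))))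
def X24 : Tr (List (ℕ × ℤ × ℕ)) := (.node [] (.node [] (.node [(32, 1, 1)] (.node [(32, 1, 1)] (.node [] (.node [] .nil (.node [] .nil (.node [(0, (-1), 1), (1, (-2), 1), (2, (-2), 1), (3, (-4), 1), (4, (-3), 1), (5, (-2), 1), (6, (-1), 1), (7, (-1), 1), (32, (-1), 2)] .nil .nil))) (.node [] .nil (.node [] .nil (.node [(175, (-1), 1)] .nil .nil)))) (.node [] .nil (.node [] (.node [] (.node [(49, (-1), 1)] .nil .nil) .nil) (.node [(29, 1, 1)] (.node [(89, 1, 1)] .nil .nil) (.node [(201, (-1), 1)] .nil .nil))))) (.node [] (.node [] (.node [] .nil (.node [] (.node [(69, 1, 1)] .nil .nil) .nil)) (.node [] .nil (.node [] .nil (.node [(194, 1, 1)] .nil .nil)))) (.node [] (.node [] (.node [(14, 1, 1)] (.node [(39, (-1), 1)] .nil .nil) .nil) (.node [] .nil (.node [(171, 1, 1)] .nil .nil))) (.node [] (.node [] .nil (.node [(117, (-1), 1)] .nil .nil)) (.node [(30, (-1), 1)] .nil .nil))))) (.node [] (.node [] (.node [] (.node [] .nil (.node [(22,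 (-1), 1)] (.node [(67, (-1), 1)] .nil .nil) (.node [(132, 1, 1)] .nil .nil))) (.node [] (.node [] .nil (.node [(105, (-1), 1)] .nil .nil)) (.node [] .nil (.node [(180, (-1), 1)] .nil .nil)))) (.node [] (.node [] .nil (.node [] .nil (.node [(158, 1, 1)] .nil .nil))) (.node [] .nil (.node [] (.node [(91, (-1), 1)] .nil .nil) .nil)))) (.node [] (.node [] .nil (.node [] .nil (.node [] .nil (.node [(199, 1, 1)] .nil .nil)))) (.node [] .nil (.node [(12, (-1), 1)] .nil .nil))))) (.node [(32, (-1), 1)] (.node [] (.node [] (.node [] (.node [] (.node [] (.node [(33, 1, 1)] .nil .nil) .nil) (.node [] (.node [(65, 1, 1)] .nil .nil) (.node [(129, (-1), 1)] .nil .nil))) (.node [] (.node [(16, 1, 1)] .nil .nil) (.node [(27, 1, 1)] .nil .nil))) (.node [] (.node [] .nil (.node [] (.node [(73, 1, 1)] .nil .nil) (.node [(147, 1, 1)] .nil .nil))) (.node [(10, (-1), 1)] (.node [] (.node [(51, 1, 1)] .nil .nil) (.node [(116, 1, 1)] .nil .nil)) .nil))) (.node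 [] (.node [] (.node [] .nil (.node [] (.node [(70, 1, 1)] .nil .nil) (.node [(143, (-1), 1)] .nil .nil))) (.node [] (.node [(20, (-1), 1)] .nil (.node [(113, 1, 1)] .nil .nil)) (.node [] .nil (.node [(197, 1, 1)] .nil .nil)))) (.node [] (.node [] (.node [] (.node [(41, 1, 1)] .nil .nil) (.node [(103, (-1), 1)] .nil .nil)) (.node [(23, (-1), 1)] .nil .nil)) (.node [] .nil (.node [] (.node [(94, 1, 1)] .nil .nil) .nil))))) (.node [(32, (-1), 1)] (.node [] (.node [] (.node [] .nil (.node [] .nil (.node [(136, (-1), 1)] .nil .nil))) .nil) (.node [] (.node [] (.node [] (.node [(36, 1, 1)] .nil .nil) (.node [(101, 1, 1)] .nil .nil)) .nil) (.node [(11, (-1), 1)] (.node [] (.node [(53, (-1), 1)] .nil .nil) .nil) (.node [] (.node [(92, (-1), 1)] .nil .nil) .nil)))) (.node [] (.node [] (.node [] .nil (.node [] (.node [(72, (-1), 1)] .nil .nil) .nil)) (.node [(8, 1, 1)] (.node [] (.node [(46, 1, 1)] .nil .nil) (.node [(115, (-1), 1)] .nil .nil))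 (.node [] (.node [(87, (-1), 1)] .nil .nil) .nil))) (.node [] (.node [] (.node [] (.node [(43, (-1), 1)] .nil .nil) (.node [(104, 1, 1)] .nil .nil)) .nil) (.node [] (.node [] .nil (.node [(127, (-1), 1)] .nil .nil)) (.node [(31, 1, 1)] (.node [(95, (-1), 1)] .nil .nil) .nil)))))))
def X25 : Tr (List (ℕ × ℤ × ℕ)) := (.node [] (.node [] (.node [(33, 1, 1)] (.node [(33, (-1), 1)] (.node [] (.node [] (.node [] (.node [(32, 1, 1)] .nil .nil) .nil) (.node [] .nil (.node [(128, (-1), 1)] .nil .nil))) (.node [] (.node [(16, (-1), 1)] .nil .nil) (.node [] .nil (.node [(176, 1, 1)] .nil .nil)))) (.node [] (.node [] .nil (.node [] (.node [(73, 1, 1)] .nil .nil) .nil)) (.node [(10, 1, 1)] (.node [] (.node [(50, (-1), 1)] .nil .nil) (.node [(116, 1, 1)] .nil .nil)) (.node [] (.node [(90, 1, 1)] .nil .nil) .nil)))) (.node [] (.node [] (.node [] .nil (.node [] .nil (.node [(143, (-1), 1)] .nil .nil))) (.node [] .nil (.node [] .nil (.node [(195, (-1),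 1)] .nil .nil)))) (.node [] (.node [] (.node [] (.node [(40, (-1), 1)] .nil .nil) (.node [(103, (-1), 1)] .nil .nil)) (.node [(23, 1, 1)] .nil .nil)) (.node [] .nil (.node [] (.node [(94, 1, 1)] .nil .nil) .nil))))) (.node [] (.node [] (.node [] (.node [] .nil (.node [] (.node [(68, (-1), 1)] .nil .nil) (.node [(133, (-1), 1)] .nil .nil))) (.node [] .nil (.node [] .nil (.node [(181, 1, 1)] .nil .nil)))) (.node [] (.node [] .nil (.node [] .nil (.node [(159, (-1), 1)] .nil .nil))) (.node [(11, 1, 1)] (.node [] (.node [(53, (-1), 1)] .nil .nil) .nil) .nil))) (.node [] (.node [] (.node [] .nil (.node [] (.node [(72, (-1), 1)] .nil .nil) .nil)) (.node [] (.node [] .nil (.node [(115, (-1), 1)] .nil .nil)) (.node [] .nil (.node [(200, (-1), 1)] .nil .nil)))) (.node [] (.node [] (.node [] (.node [(43, (-1), 1)] .nil .nil) (.node [(104, 1, 1)] .nil .nil)) .nil) (.node [] .nil (.node [(31, (-1), 1)] (.node [(95, (-1), 1)] .nil .nil) .nil))))))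 (.node [(33, (-1), 1)] (.node [] (.node [] (.node [] (.node [] .nil (.node [(22, 1, 1)] (.node [(66, 1, 1)] .nil .nil) (.node [(130, 1, 1)] .nil .nil))) (.node [] (.node [] .nil (.node [(105, (-1), 1)] .nil .nil)) (.node [(28, 1, 1)] .nil .nil))) (.node [] (.node [] .nil (.node [] .nil (.node [(148, (-1), 1)] .nil .nil))) (.node [] (.node [] (.node [(52, 1, 1)] .nil .nil) .nil) (.node [] (.node [(91, (-1), 1)] .nil .nil) .nil)))) (.node [] (.node [] (.node [] .nil (.node [] (.node [(71, 1, 1)] .nil .nil) .nil)) (.node [] (.node [(21, (-1), 1)] .nil (.node [(114, 1, 1)] .nil .nil)) (.node [] .nil (.node [(198, (-1), 1)] .nil .nil)))) (.node [] (.node [] (.node [] (.node [(42, 1, 1)] .nil .nil) .nil) .nil) (.node [(12, 1, 1)] .nil .nil)))) (.node [] (.node [] (.node [] (.node [] .nil (.node [] (.node [(69, 1, 1)] .nil .nil) (.node [(137, 1, 1)] .nil .nil))) .nil) (.node [] (.node [] (.node [(14, (-1), 1)] (.node [(37, 1, 1)] .nil .nil)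 (.node [(102, 1, 1)] .nil .nil)) (.node [] .nil (.node [(171, 1, 1)] .nil .nil))) (.node [] (.node [] .nil (.node [(117, (-1), 1)] .nil .nil)) (.node [(30, 1, 1)] (.node [(93, (-1), 1)] .nil .nil) .nil)))) (.node [] (.node [] .nil (.node [(9, 1, 1)] (.node [] (.node [(47, 1, 1)] .nil .nil) .nil) (.node [(29, (-1), 1)] (.node [(88, (-1), 1)] .nil .nil) (.node [(201, (-1), 1)] .nil .nil)))) (.node [] .nil (.node [] (.node [] .nil (.node [(0, (-1), 1), (1, (-2), 1), (2, (-2), 1), (3, (-4), 1), (4, (-3), 1), (5, (-2), 1), (6, (-1), 1), (33, (-1), 2)] .nil .nil)) .nil))))))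
def X26 : Tr (List (ℕ × ℤ × ℕ)) := (.node [] (.node [(34, 1, 1)] (.node [(34, (-1), 1)] (.node [] (.node [] (.node [] (.node [(13, (-1), 1)] .nil (.node [(98, (-1), 1)] .nil .nil)) (.node [(22, 1, 1)] (.node [(66, 1, 1)] .nil .nil) .nil)) (.node [] .nil (.node [(25, (-1), 1)] .nil .nil))) (.node [] (.node [] (.node [] (.node [(38, 1, 1)] .nil .nil) (.node [(101, 1, 1)] .nil .nil)) (.node [] (.node [(74, 1, 1)] .nil .nil) (.node [(145, 1, 1)] .nil .nil))) (.node [] (.node [] .nil (.node [(118, (-1), 1)] .nil .nil)) (.node [] .nil (.node [(204, 1, 1)] .nil .nil))))) (.node [] (.node [] (.node [] (.node [] (.node [(35, 1, 1)] .nil .nil) .nil) .nil) (.node [(8, (-1), 1)] (.node [(18, 1, 1)] .nil (.node [(106, (-1), 1)] .nil .nil)) (.node [] (.node [(86, (-1), 1)] .nil .nil) .nil))) (.node [] .nil (.node [] (.node [] .nil (.node [(123, 1, 1)] .nil .nil)) .nil)))) (.node [(34, 1, 1)] (.node [] (.node [] (.node [] .nil (.node [] .nil (.node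 [(138, (-1), 1)] .nil .nil))) (.node [] .nil (.node [] .nil (.node [(182, 1, 1)] .nil .nil)))) (.node [] (.node [] (.node [(14, (-1), 1)] (.node [(40, 1, 1)] .nil .nil) (.node [(103, 1, 1)] .nil .nil)) (.node [] (.node [(76, 1, 1)] .nil .nil) (.node [(160, (-1), 1)] .nil .nil))) (.node [] (.node [] (.node [(55, 1, 1)] .nil .nil) (.node [(120, (-1), 1)] .nil .nil)) .nil))) (.node [] (.node [] (.node [] (.node [] (.node [(37, 1, 1)] .nil .nil) .nil) .nil) (.node [(10, (-1), 1)] (.node [] (.node [(44, 1, 1)] .nil .nil) .nil) (.node [(30, 1, 1)] (.node [(88, (-1), 1)] .nil .nil) (.node [(202, 1, 1)] .nil .nil)))) (.node [] (.node [] .nil (.node [] .nil (.node [(172, (-1), 1)] .nil .nil))) (.node [] (.node [] (.node [(64, 1, 1)] .nil .nil) (.node [(0, (-1), 1), (1, (-2), 1), (2, (-2), 1), (3, (-3), 1), (4, (-3), 1), (5, (-3), 1), (6, (-2), 1), (7, (-1), 1), (34, (-1), 2)] .nil .nil)) (.node [] (.node [(96, (-1), 1)] .nil .nil) .nil)))))) (.node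 [] (.node [] (.node [] .nil (.node [] (.node [] (.node [] (.node [(39, (-1), 1)] .nil .nil) (.node [(102, (-1), 1)] .nil .nil)) (.node [] (.node [(75, (-1), 1)] .nil .nil) .nil)) (.node [] (.node [] (.node [(54, (-1), 1)] .nil .nil) (.node [(119, 1, 1)] .nil .nil)) .nil))) (.node [] (.node [] (.node [] (.node [] (.node [(36, (-1), 1)] .nil .nil) .nil) .nil) (.node [(9, (-1), 1)] .nil (.node [(29, 1, 1)] (.node [(87, 1, 1)] .nil .nil) .nil))) (.node [] .nil (.node [] (.node [] .nil (.node [(124, (-1), 1)] .nil .nil)) .nil)))) (.node [] (.node [] (.node [] (.node [] .nil (.node [] .nil (.node [(139, (-1), 1)] .nil .nil))) (.node [] (.node [(17, 1, 1)] .nil .nil) (.node [] .nil (.node [(192, 1, 1)] .nil .nil)))) (.node [] .nil (.node [] (.node [] (.node [(56, (-1), 1)] .nil .nil) (.node [(122, (-1), 1)] .nil .nil)) .nil))) (.node [] (.node [] (.node [] .nil (.node [] .nil (.node [(144, 1, 1)] .nil .nil))) (.node [] .nil (.node [] .nil (.node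 [(203, 1, 1)] .nil .nil)))) (.node [] (.node [] .nil (.node [(24, (-1), 1)] .nil (.node [(173, (-1), 1)] .nil .nil))) (.node [] (.node [] (.node [(65, (-1), 1)] .nil .nil) .nil) (.node [] (.node [(97, 1, 1)] .nil .nil) .nil)))))))
def X27 : Tr (List (ℕ × ℤ × ℕ)) := (.node [] (.node [(35, 1, 1)] (.node [(35, (-1), 1)] (.node [] (.node [] (.node [] (.node [] .nil (.node [(99, (-1), 1)] .nil .nil)) (.node [] (.node [(68, 1, 1)] .nil .nil) .nil)) (.node [] .nil (.node [(26, (-1), 1)] .nil .nil))) (.node [] (.node [] .nil (.node [] .nil (.node [(146, (-1), 1)] .nil .nil))) (.node [] (.node [] (.node [(54, (-1), 1)] .nil .nil) .nil) (.node [] .nil (.node [(206, (-1), 1)] .nil .nil))))) (.node [] (.node [] .nil (.node [] (.node [(19, 1, 1)] .nil .nil) (.node [(29, (-1), 1)] .nil .nil))) (.node [] .nil (.node [] (.node [] .nil (.node [(126, (-1), 1)] .nil .nil)) (.node [] (.node [(96, (-1), 1)] .nil .nil) .nil))))) (.node [(35, (-1), 1)] (.node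 [] (.node [] (.node [] (.node [] (.node [(36, 1, 1)] .nil .nil) .nil) .nil) (.node [(8, 1, 1)] (.node [(17, (-1), 1)] .nil .nil) (.node [] .nil (.node [(183, (-1), 1)] .nil .nil)))) (.node [] (.node [] (.node [] (.node [(42, 1, 1)] .nil .nil) (.node [(104, 1, 1)] .nil .nil)) (.node [] (.node [(77, 1, 1)] .nil .nil) (.node [(161, 1, 1)] .nil .nil))) (.node [] (.node [] (.node [(57, 1, 1)] .nil .nil) (.node [(121, (-1), 1)] .nil .nil)) .nil))) (.node [] (.node [] (.node [] (.node [] .nil (.node [(101, 1, 1)] .nil .nil)) (.node [] (.node [(74, 1, 1)] .nil .nil) (.node [(144, 1, 1)] .nil .nil))) (.node [(11, (-1), 1)] (.node [] (.node [(45, 1, 1)] .nil .nil) (.node [(118, (-1), 1)] .nil .nil)) (.node [(31, 1, 1)] (.node [(90, (-1), 1)] .nil .nil) .nil))) (.node [] (.node [] .nil (.node [(24, 1, 1)] .nil .nil)) (.node [] (.node [] .nil (.node [(131, (-1), 1)] .nil .nil)) .nil))))) (.node [] (.node [(35, 1, 1)] (.node [] (.node [] (.node []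 .nil (.node [] .nil (.node [(138, (-1), 1)] .nil .nil))) .nil) (.node [] (.node [] (.node [(14, 1, 1)] (.node [(41, (-1), 1)] .nil .nil) .nil) .nil) .nil)) (.node [] (.node [] .nil (.node [] .nil (.node [] (.node [(89, 1, 1)] .nil .nil) (.node [(202, 1, 1)] .nil .nil)))) (.node [] (.node [] .nil (.node [] .nil (.node [(172, (-1), 1)] .nil .nil))) (.node [] (.node [] (.node [(64, 1, 1)] .nil .nil) (.node [(0, (-1), 1), (1, (-2), 1), (2, (-2), 1), (3, (-3), 1), (4, (-3), 1), (5, (-2), 1), (6, (-2), 1), (7, (-1), 1), (35, (-1), 2)] .nil .nil)) (.node [(34, 1, 1)] (.node [(97, 1, 1)] .nil .nil) .nil))))) (.node [(35, 1, 1)] (.node [] (.node [] (.node [] (.node [] (.node [(37, (-1), 1)] .nil .nil) .nil) (.node [] .nil (.node [(140, 1, 1)] .nil .nil))) (.node [(9, 1, 1)] (.node [] .nil (.node [(106, (-1), 1)] .nil .nil)) (.node [] (.node [(86, (-1), 1)] .nil .nil) (.node [(193, (-1), 1)] .nil .nil)))) (.node [] .nil (.node [] (.node [] (.node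 [(58, (-1), 1)] .nil .nil) (.node [(125, 1, 1)] .nil .nil)) .nil))) (.node [] (.node [] (.node [] (.node [] (.node [(38, 1, 1)] .nil .nil) (.node [(102, (-1), 1)] .nil .nil)) (.node [] (.node [(75, (-1), 1)] .nil .nil) .nil)) (.node [] (.node [] .nil (.node [(119, 1, 1)] .nil .nil)) (.node [] .nil (.node [(205, (-1), 1)] .nil .nil)))) (.node [] (.node [] .nil (.node [] .nil (.node [(174, 1, 1)] .nil .nil))) (.node [(13, 1, 1)] (.node [(22, (-1), 1)] (.node [(67, (-1), 1)] .nil .nil) .nil) .nil))))))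
def X28 : Tr (List (ℕ × ℤ × ℕ)) := (.node [] (.node [(36, 1, 1)] (.node [(36, (-1), 1)] (.node [(36, 1, 1)] (.node [] (.node [] .nil (.node [] (.node [(69, 1, 1)] .nil .nil) (.node [(138, (-1), 1)] .nil .nil))) (.node [] .nil (.node [(27, (-1), 1)] .nil .nil))) (.node [] (.node [] (.node [(14, (-1), 1)] (.node [(41, (-1), 1)] .nil .nil) .nil) (.node [] .nil (.node [(147, 1, 1)] .nil .nil))) (.node [] (.node [] (.node [(55, (-1), 1)] .nil .nil) .nil) (.node [] .nil (.node [(207, 1, 1)] .nil .nil))))) (.node [] (.node [] .nil (.node [] (.node [(20, 1, 1)] .nil .nil) (.node [] (.node [(89, 1, 1)] .nil .nil) .nil))) (.node [] (.node [] .nil (.node [] .nil (.node [(172, (-1), 1)] .nil .nil))) (.node [] (.node [] .nil (.node [(0, (-1), 1), (1, (-2), 1), (2, (-2), 1), (3, (-3), 1), (4, (-3), 1), (5, (-2), 1), (6, (-1), 1), (7, (-1), 1), (36, (-1), 2)] .nil .nil)) (.node [(34, (-1), 1)] .nil .nil))))) (.node [] (.node [] (.node [] .nil (.node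 [] (.node [] .nil (.node [(106, (-1), 1)] .nil .nil)) (.node [] .nil (.node [(184, 1, 1)] .nil .nil)))) (.node [] (.node [] (.node [] (.node [(43, 1, 1)] .nil .nil) .nil) (.node [] .nil (.node [(162, (-1), 1)] .nil .nil))) .nil)) (.node [] (.node [] .nil (.node [] (.node [] (.node [(46, 1, 1)] .nil .nil) .nil) (.node [(32, 1, 1)] (.node [(91, (-1), 1)] .nil .nil) (.node [(205, (-1), 1)] .nil .nil)))) (.node [] .nil (.node [(13, (-1), 1)] (.node [(22, 1, 1)] (.node [(67, (-1), 1)] .nil .nil) (.node [(132, 1, 1)] .nil .nil)) .nil))))) (.node [] (.node [(36, 1, 1)] (.node [] (.node [] (.node [] (.node [] (.node [(37, 1, 1)] .nil .nil) .nil) .nil) (.node [(8, (-1), 1)] (.node [(17, 1, 1)] .nil .nil) .nil)) (.node [] (.node [] (.node [] .nil (.node [(104, 1, 1)] .nil .nil)) (.node [] (.node [(77, 1, 1)] .nil .nil) .nil)) (.node [] (.node [] (.node [(57, 1, 1)] .nil .nil) (.node [(121, (-1), 1)] .nil .nil)) .nil))) (.node [] (.node [] (.node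 [] (.node [] .nil (.node [(101, 1, 1)] .nil .nil)) (.node [] (.node [(74, 1, 1)] .nil .nil) (.node [(144, 1, 1)] .nil .nil))) (.node [(11, 1, 1)] (.node [] .nil (.node [(118, (-1), 1)] .nil .nil)) (.node [] .nil (.node [(203, (-1), 1)] .nil .nil)))) (.node [] (.node [] .nil (.node [(24, (-1), 1)] .nil .nil)) (.node [] (.node [] (.node [(65, 1, 1)] .nil .nil) (.node [(129, (-1), 1)] .nil .nil)) (.node [] (.node [(98, 1, 1)] .nil .nil) .nil))))) (.node [(36, (-1), 1)] (.node [] (.node [] (.node [] .nil (.node [] .nil (.node [(141, (-1), 1)] .nil .nil))) (.node [(10, 1, 1)] .nil (.node [(29, 1, 1)] (.node [(87, (-1), 1)] .nil .nil) (.node [(194, 1, 1)] .nil .nil)))) (.node [] .nil (.node [] (.node [] (.node [(59, (-1), 1)] .nil .nil) (.node [(127, (-1), 1)] .nil .nil)) (.node [] (.node [(96, (-1), 1)] .nil .nil) .nil)))) (.node [] (.node [] (.node [] (.node [] (.node [(39, 1, 1)] .nil .nil) (.node [(103, (-1), 1)] .nil .nil)) (.node [] (.node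 [(76, (-1), 1)] .nil .nil) .nil)) (.node [] (.node [] .nil (.node [(120, 1, 1)] .nil .nil)) .nil)) (.node [] (.node [] .nil (.node [] .nil (.node [(175, (-1), 1)] .nil .nil))) (.node [] .nil (.node [(35, 1, 1)] (.node [(99, (-1), 1)] .nil .nil) .nil)))))))
def X29 : Tr (List (ℕ × ℤ × ℕ)) := (.node [] (.node [(37, 1, 1)] (.node [(37, (-1), 1)] (.node [(37, (-1), 1)] (.node [] (.node [] (.node [] (.node [(36, 1, 1)] .nil .nil) .nil) .nil) (.node [] (.node [(17, (-1), 1)] .nil .nil) (.node [(28, (-1), 1)] .nil .nil))) (.node [] (.node [] (.node [] (.node [(42, (-1), 1)] .nil .nil) (.node [(104, 1, 1)] .nil .nil)) (.node [] (.node [(77, 1, 1)] .nil .nil) (.node [(148, (-1), 1)] .nil .nil))) (.node [] (.node [] (.node [(56, (-1), 1)] .nil .nil) (.node [(121, (-1), 1)] .nil .nil)) .nil))) (.node [] (.node [] (.node [] .nil (.node [] .nil (.node [(144, 1, 1)] .nil .nil))) (.node [(11, (-1), 1)] (.node [(21, 1, 1)] .nil .nil) (.node [] (.node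 [(90, 1, 1)] .nil .nil) .nil))) (.node [] (.node [] .nil (.node [(24, 1, 1)] .nil .nil)) (.node [] (.node [] .nil (.node [(128, (-1), 1)] .nil .nil)) (.node [] (.node [(98, 1, 1)] .nil .nil) .nil))))) (.node [] (.node [] (.node [] .nil (.node [(10, (-1), 1)] .nil (.node [(29, (-1), 1)] .nil (.node [(185, (-1), 1)] .nil .nil)))) (.node [] (.node [] .nil (.node [] .nil (.node [(163, 1, 1)] .nil .nil))) (.node [] (.node [] (.node [(59, (-1), 1)] .nil .nil) .nil) .nil))) (.node [] (.node [] (.node [] (.node [] .nil (.node [(103, (-1), 1)] .nil .nil)) (.node [] (.node [(76, (-1), 1)] .nil .nil) .nil)) (.node [] (.node [] (.node [(47, 1, 1)] .nil .nil) (.node [(120, 1, 1)] .nil .nil)) (.node [(33, 1, 1)] .nil (.node [(206, 1, 1)] .nil .nil)))) (.node [] .nil (.node [] (.node [] (.node [(68, (-1), 1)] .nil .nil) (.node [(133, (-1), 1)] .nil .nil)) (.node [(35, (-1), 1)] (.node [(99, (-1), 1)] .nil .nil) .nil)))))) (.node [] (.node [(37, 1, 1)]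 (.node [] (.node [] .nil (.node [(9, (-1), 1)] (.node [] .nil (.node [(106, (-1), 1)] .nil .nil)) .nil)) (.node [] (.node [] (.node [] (.node [(43, 1, 1)] .nil .nil) .nil) .nil) (.node [] (.node [] (.node [(58, 1, 1)] .nil .nil) .nil) .nil))) (.node [] (.node [] (.node [] (.node [] .nil (.node [(102, 1, 1)] .nil .nil)) (.node [] (.node [(75, 1, 1)] .nil .nil) .nil)) (.node [] (.node [] .nil (.node [(119, (-1), 1)] .nil .nil)) (.node [] (.node [(91, (-1), 1)] .nil .nil) (.node [(204, 1, 1)] .nil .nil)))) (.node [] .nil (.node [(13, 1, 1)] (.node [(22, (-1), 1)] (.node [(66, 1, 1)] .nil .nil) (.node [(130, 1, 1)] .nil .nil)) .nil)))) (.node [] (.node [] (.node [] (.node [] .nil (.node [] .nil (.node [(142, 1, 1)] .nil .nil))) (.node [] .nil (.node [] (.node [(88, (-1), 1)] .nil .nil) (.node [(195, (-1), 1)] .nil .nil)))) (.node [] (.node [] .nil (.node [] .nil (.node [(172, (-1), 1)] .nil .nil))) (.node [] (.node [] .nil (.node [(0, (-1),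 1), (1, (-2), 1), (2, (-2), 1), (3, (-3), 1), (4, (-3), 1), (5, (-2), 1), (6, (-1), 1), (37, (-1), 2)] .nil .nil)) (.node [(34, 1, 1)] (.node [(97, (-1), 1)] .nil .nil) .nil)))) (.node [] (.node [] (.node [] (.node [(14, 1, 1)] (.node [(40, 1, 1)] .nil .nil) .nil) .nil) (.node [] .nil (.node [] .nil (.node [(207, 1, 1)] .nil .nil)))) (.node [] (.node [] .nil (.node [] .nil (.node [(176, 1, 1)] .nil .nil))) (.node [] (.node [] (.node [(69, 1, 1)] .nil .nil) (.node [(138, (-1), 1)] .nil .nil)) .nil))))))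
def X30 : Tr (List (ℕ × ℤ × ℕ)) := (.node [] (.node [(38, 1, 1)] (.node [] (.node [] (.node [] (.node [] (.node [] .nil (.node [(100, (-1), 1)] .nil .nil)) (.node [] (.node [(71, 1, 1)] .nil .nil) .nil)) (.node [(9, (-1), 1)] (.node [] .nil (.node [(106, (-1), 1)] .nil .nil)) .nil)) (.node [] .nil (.node [] (.node [] .nil (.node [(125, 1, 1)] .nil .nil)) (.node [] .nil (.node [(209, 1, 1)] .nil .nil))))) (.node [] (.node [] (.node [] (.node [] .nil (.node [(102, (-1), 1)] .nil .nil)) (.node [] (.node [(75, (-1), 1)] .nil .nil) .nil)) (.node [] .nil (.node [(30, (-1), 1)] .nil (.node [(202, 1, 1)] .nil .nil)))) (.node [] .nil (.node [(13, (-1), 1)] (.node [(22, 1, 1)] (.node [(64, 1, 1)] .nil .nil) .nil) .nil)))) (.node [] (.node [] (.node [] (.node [] (.node [] (.node [(39, 1, 1)] .nil .nil) .nil) (.node [] .nil (.node [(140, 1, 1)] .nil .nil))) (.node [] (.node [(18, (-1), 1)] .nil .nil) (.node [] (.node [(86, (-1), 1)] .nil .nil) (.node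 [(186, 1, 1)] .nil .nil)))) (.node [] (.node [] (.node [] .nil (.node [(105, 1, 1)] .nil .nil)) (.node [] (.node [(78, 1, 1)] .nil .nil) (.node [(164, (-1), 1)] .nil .nil))) (.node [] (.node [] (.node [(60, 1, 1)] .nil .nil) (.node [(0, (-1), 1), (1, (-2), 1), (2, (-2), 1), (3, (-3), 1), (4, (-2), 1), (5, (-2), 1), (6, (-2), 1), (7, (-1), 1), (38, (-1), 2)] .nil .nil)) (.node [(35, 1, 1)] (.node [(97, 1, 1)] .nil .nil) .nil)))) (.node [] (.node [] (.node [] (.node [(14, (-1), 1)] (.node [(42, (-1), 1)] .nil .nil) .nil) (.node [] .nil (.node [(145, (-1), 1)] .nil .nil))) (.node [(12, (-1), 1)] (.node [] (.node [(48, 1, 1)] .nil .nil) (.node [(122, 1, 1)] .nil .nil)) (.node [] (.node [(93, (-1), 1)] .nil .nil) .nil))) (.node [] (.node [] .nil (.node [(25, 1, 1)] .nil (.node [(174, 1, 1)] .nil .nil))) (.node [] (.node [] .nil (.node [(135, (-1), 1)] .nil .nil)) .nil))))) (.node [] (.node [(38, (-1), 1)] (.node [] (.node [] (.node [] .nil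 (.node [] .nil (.node [(139, 1, 1)] .nil .nil))) .nil) (.node [] .nil (.node [] (.node [] .nil (.node [(126, (-1), 1)] .nil .nil)) (.node [(34, 1, 1)] (.node [(96, (-1), 1)] .nil .nil) .nil)))) (.node [] (.node [] (.node [] (.node [] (.node [(41, 1, 1)] .nil .nil) .nil) .nil) (.node [] .nil (.node [(31, (-1), 1)] (.node [(92, 1, 1)] .nil .nil) .nil))) (.node [] (.node [] .nil (.node [] .nil (.node [(173, 1, 1)] .nil .nil))) (.node [] (.node [] .nil (.node [(134, (-1), 1)] .nil .nil)) .nil)))) (.node [(38, 1, 1)] (.node [] (.node [] (.node [] (.node [] (.node [(40, (-1), 1)] .nil .nil) (.node [(101, 1, 1)] .nil .nil)) (.node [] (.node [(74, 1, 1)] .nil .nil) .nil)) (.node [] (.node [(19, (-1), 1)] .nil .nil) (.node [] .nil (.node [(196, 1, 1)] .nil .nil)))) (.node [] .nil (.node [] (.node [] (.node [(61, (-1), 1)] .nil .nil) .nil) .nil))) (.node [] (.node [] (.node [] .nil (.node [] .nil (.node [(146, (-1), 1)] .nil .nil))) (.node [] (.node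 [] (.node [(54, (-1), 1)] .nil .nil) (.node [(123, (-1), 1)] .nil .nil)) (.node [] .nil (.node [(208, 1, 1)] .nil .nil)))) (.node [] (.node [(8, (-1), 1)] .nil (.node [(26, 1, 1)] .nil .nil)) (.node [] (.node [] (.node [(70, (-1), 1)] .nil .nil) .nil) .nil))))))
def X31 : Tr (List (ℕ × ℤ × ℕ)) := (.node [] (.node [(39, 1, 1)] (.node [] (.node [(39, 1, 1)] (.node [] (.node [] .nil (.node [] (.node [(72, 1, 1)] .nil .nil) (.node [(139, 1, 1)] .nil .nil))) (.node [(10, (-1), 1)] .nil .nil)) (.node [] .nil (.node [] (.node [] .nil (.node [(127, (-1), 1)] .nil .nil)) (.node [(34, (-1), 1)] (.node [(96, (-1), 1)] .nil .nil) (.node [(210, (-1), 1)] .nil .nil))))) (.node [] (.node [] (.node [] (.node [] (.node [(41, 1, 1)] .nil .nil) (.node [(103, (-1), 1)] .nil .nil)) (.node [] (.node [(76, (-1), 1)] .nil .nil) .nil)) (.node [] .nil (.node [] (.node [(92, 1, 1)] .nil .nil) (.node [(203, (-1), 1)] .nil .nil)))) (.node [] (.node [] .nil (.node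 [] .nil (.node [(173, 1, 1)] .nil .nil))) (.node [] (.node [] (.node [(65, 1, 1)] .nil .nil) (.node [(134, (-1), 1)] .nil .nil)) .nil)))) (.node [(39, 1, 1)] (.node [] (.node [] (.node [] (.node [] .nil (.node [(101, 1, 1)] .nil .nil)) (.node [] (.node [(74, 1, 1)] .nil .nil) (.node [(141, (-1), 1)] .nil .nil))) (.node [] .nil (.node [] (.node [(87, (-1), 1)] .nil .nil) (.node [(187, (-1), 1)] .nil .nil)))) (.node [] (.node [] .nil (.node [] .nil (.node [(165, 1, 1)] .nil .nil))) (.node [] (.node [] .nil (.node [(129, (-1), 1)] .nil .nil)) (.node [(36, 1, 1)] (.node [(98, 1, 1)] .nil .nil) .nil)))) (.node [] (.node [] (.node [] (.node [] (.node [(43, (-1), 1)] .nil .nil) .nil) .nil) (.node [] (.node [] (.node [(49, 1, 1)] .nil .nil) .nil) (.node [] (.node [(94, (-1), 1)] .nil .nil) (.node [(208, 1, 1)] .nil .nil)))) (.node [] (.node [(8, 1, 1)] .nil (.node [] .nil (.node [(175, (-1), 1)] .nil .nil))) (.node [] (.node [] (.node [(70, (-1),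 1)] .nil .nil) (.node [(136, 1, 1)] .nil .nil)) .nil))))) (.node [] (.node [(39, (-1), 1)] (.node [] (.node [] (.node [] (.node [] (.node [(40, 1, 1)] .nil .nil) .nil) .nil) (.node [] (.node [(18, 1, 1)] .nil .nil) .nil)) (.node [] (.node [] (.node [] .nil (.node [(105, 1, 1)] .nil .nil)) (.node [] (.node [(78, 1, 1)] .nil .nil) .nil)) (.node [] (.node [] (.node [(60, 1, 1)] .nil .nil) (.node [(0, (-1), 1), (1, (-2), 1), (2, (-2), 1), (3, (-3), 1), (4, (-2), 1), (5, (-2), 1), (6, (-1), 1), (7, (-1), 1), (39, (-1), 2)] .nil .nil)) .nil))) (.node [] (.node [] (.node [] (.node [(14, 1, 1)] .nil .nil) (.node [] .nil (.node [(145, (-1), 1)] .nil .nil))) (.node [(12, 1, 1)] (.node [] .nil (.node [(122, 1, 1)] .nil .nil)) (.node [(32, (-1), 1)] .nil .nil))) (.node [] (.node [] .nil (.node [(25, (-1), 1)] .nil .nil)) .nil))) (.node [(39, (-1), 1)] (.node [] (.node [] .nil (.node [] (.node [(20, (-1), 1)] .nil .nil) (.node [(30, 1, 1)] .nil (.node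 [(197, (-1), 1)] .nil .nil)))) (.node [] .nil (.node [(13, 1, 1)] (.node [(22, (-1), 1)] (.node [(62, (-1), 1)] .nil .nil) .nil) .nil))) (.node [] (.node [] (.node [] .nil (.node [] .nil (.node [(147, 1, 1)] .nil .nil))) (.node [] (.node [] (.node [(55, (-1), 1)] .nil .nil) (.node [(124, (-1), 1)] .nil .nil)) .nil)) (.node [] (.node [] (.node [] .nil (.node [(106, (-1), 1)] .nil .nil)) (.node [(27, 1, 1)] .nil .nil)) (.node [] .nil (.node [(38, 1, 1)] (.node [(100, (-1), 1)] .nil .nil) .nil)))))))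
def X32 : Tr (List (ℕ × ℤ × ℕ)) := (.node [] (.node [(40, 1, 1)] (.node [] (.node [(40, (-1), 1)] (.node [] (.node [] (.node [] (.node [(39, 1, 1)] .nil .nil) .nil) .nil) (.node [] (.node [(18, (-1), 1)] .nil .nil) .nil)) (.node [] (.node [] (.node [] .nil (.node [(105, 1, 1)] .nil .nil)) (.node [] (.node [(78, 1, 1)] .nil .nil) .nil)) (.node [] (.node [] .nil (.node [(0, (-1), 1), (1, (-2), 1), (2, (-2), 1), (3, (-3), 1), (4, (-2), 1), (5, (-2), 1), (6, (-1), 1), (40, (-1), 2)] .nil .nil)) (.node [] (.node [(97, (-1), 1)] .nil .nil) .nil)))) (.node [] (.node [] (.node [] (.node [(14, (-1), 1)] (.node [(42, 1, 1)] .nil .nil) .nil) (.node [] .nil (.node [(145, (-1), 1)] .nil .nil))) (.node [(12, (-1), 1)] .nil (.node [] (.node [(93, 1, 1)] .nil .nil) (.node [(204, 1, 1)] .nil .nil)))) (.node [] (.node [] .nil (.node [(25, 1, 1)] .nil .nil)) (.node [] (.node [] (.node [(66, 1, 1)] .nil .nil) .nil) .nil)))) (.node [(40, 1, 1)] (.node []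 (.node [] (.node [] (.node [] .nil (.node [(102, 1, 1)] .nil .nil)) (.node [] (.node [(75, 1, 1)] .nil .nil) (.node [(142, 1, 1)] .nil .nil))) (.node [] .nil (.node [(30, (-1), 1)] (.node [(88, (-1), 1)] .nil .nil) (.node [(188, 1, 1)] .nil .nil)))) (.node [] (.node [] .nil (.node [] .nil (.node [(166, (-1), 1)] .nil .nil))) (.node [(13, (-1), 1)] (.node [(22, 1, 1)] (.node [(62, (-1), 1)] .nil .nil) (.node [(130, 1, 1)] .nil .nil)) (.node [(37, 1, 1)] .nil .nil)))) (.node [] (.node [] .nil (.node [] (.node [] (.node [(50, 1, 1)] .nil .nil) (.node [(124, (-1), 1)] .nil .nil)) (.node [] .nil (.node [(209, (-1), 1)] .nil .nil)))) (.node [] (.node [(9, 1, 1)] (.node [] .nil (.node [(106, (-1), 1)] .nil .nil)) (.node [] .nil (.node [(176, 1, 1)] .nil .nil))) (.node [] (.node [] (.node [(71, (-1), 1)] .nil .nil) (.node [(137, (-1), 1)] .nil .nil)) (.node [(38, (-1), 1)] (.node [(100, (-1), 1)] .nil .nil) .nil)))))) (.node [] (.node [(40, (-1),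 1)] (.node [] .nil (.node [] .nil (.node [] (.node [] (.node [(61, 1, 1)] .nil .nil) (.node [(128, (-1), 1)] .nil .nil)) (.node [] (.node [(98, 1, 1)] .nil .nil) .nil)))) (.node [] (.node [] (.node [] (.node [] (.node [(43, (-1), 1)] .nil .nil) .nil) .nil) (.node [] (.node [] .nil (.node [(123, 1, 1)] .nil .nil)) (.node [(33, (-1), 1)] (.node [(94, (-1), 1)] .nil .nil) .nil))) .nil)) (.node [] (.node [] (.node [] (.node [] (.node [] .nil (.node [(103, (-1), 1)] .nil .nil)) (.node [] (.node [(76, (-1), 1)] .nil .nil) .nil)) (.node [] (.node [(21, (-1), 1)] .nil .nil) (.node [] .nil (.node [(198, 1, 1)] .nil .nil)))) (.node [] (.node [] .nil (.node [] .nil (.node [(173, 1, 1)] .nil .nil))) (.node [] (.node [] .nil (.node [(134, (-1), 1)] .nil .nil)) .nil))) (.node [] (.node [] (.node [] .nil (.node [] .nil (.node [(148, (-1), 1)] .nil .nil))) (.node [] (.node [] (.node [(56, (-1), 1)] .nil .nil) .nil) (.node [(34, 1, 1)] .nil (.node [(210,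 (-1), 1)] .nil .nil)))) (.node [] (.node [(10, 1, 1)] .nil (.node [(28, 1, 1)] .nil .nil)) (.node [] (.node [] (.node [(72, 1, 1)] .nil .nil) (.node [(139, 1, 1)] .nil .nil)) .nil))))))
def X33 : Tr (List (ℕ × ℤ × ℕ)) := (.node [] (.node [(41, 1, 1)] (.node [] (.node [(41, 1, 1)] (.node [] (.node [] .nil (.node [] (.node [(73, 1, 1)] .nil .nil) (.node [(140, (-1), 1)] .nil .nil))) (.node [(11, (-1), 1)] .nil .nil)) (.node [] .nil (.node [] (.node [] (.node [(60, 1, 1)] .nil .nil) .nil) (.node [(35, (-1), 1)] .nil (.node [(211, 1, 1)] .nil .nil))))) (.node [] (.node [] (.node [] (.node [] .nil (.node [(104, (-1), 1)] .nil .nil)) (.node [] (.node [(77, (-1), 1)] .nil .nil) .nil)) (.node [] .nil (.node [(32, 1, 1)] .nil (.node [(205, 1, 1)] .nil .nil)))) (.node [] (.node [] .nil (.node [] .nil (.node [(174, (-1), 1)] .nil .nil))) (.node [] (.node [] (.node [(67, 1, 1)] .nil .nil) (.node [(135, 1, 1)] .nil .nil)) (.node [(38, 1, 1)] .nil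 .nil))))) (.node [(41, (-1), 1)] (.node [] (.node [] .nil (.node [] (.node [(20, 1, 1)] .nil .nil) (.node [] (.node [(89, (-1), 1)] .nil .nil) (.node [(189, 1, 1)] .nil .nil)))) (.node [] (.node [] .nil (.node [] .nil (.node [(167, (-1), 1)] .nil .nil))) (.node [] (.node [] .nil (.node [(132, (-1), 1)] .nil .nil)) (.node [] (.node [(99, 1, 1)] .nil .nil) .nil)))) (.node [] (.node [] (.node [] .nil (.node [] .nil (.node [(147, 1, 1)] .nil .nil))) (.node [] (.node [] (.node [(51, 1, 1)] .nil .nil) (.node [(127, (-1), 1)] .nil .nil)) (.node [] (.node [(95, (-1), 1)] .nil .nil) .nil))) (.node [] (.node [] .nil (.node [(27, (-1), 1)] .nil .nil)) .nil)))) (.node [] (.node [] (.node [] (.node [] (.node [] (.node [] (.node [(42, 1, 1)] .nil .nil) (.node [(101, 1, 1)] .nil .nil)) (.node [] (.node [(74, 1, 1)] .nil .nil) (.node [(141, (-1), 1)] .nil .nil))) (.node [] (.node [(19, 1, 1)] .nil .nil) .nil)) (.node [] .nil (.node [(13, (-1), 1)] (.node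 [(22, 1, 1)] .nil (.node [(131, (-1), 1)] .nil .nil)) (.node [(36, (-1), 1)] .nil .nil)))) (.node [] (.node [] (.node [] .nil (.node [] .nil (.node [(146, 1, 1)] .nil .nil))) (.node [] (.node [] .nil (.node [(125, (-1), 1)] .nil .nil)) (.node [] .nil (.node [(208, 1, 1)] .nil .nil)))) (.node [] (.node [(8, (-1), 1)] (.node [] .nil (.node [(106, (-1), 1)] .nil .nil)) (.node [(26, (-1), 1)] .nil (.node [(175, (-1), 1)] .nil .nil))) (.node [] (.node [] (.node [(70, (-1), 1)] .nil .nil) (.node [(136, 1, 1)] .nil .nil)) (.node [(39, 1, 1)] (.node [(100, (-1), 1)] .nil .nil) .nil))))) (.node [] (.node [] (.node [] (.node [] (.node [(14, (-1), 1)] (.node [(43, 1, 1)] .nil .nil) .nil) .nil) (.node [(12, (-1), 1)] .nil (.node [(31, 1, 1)] (.node [(92, 1, 1)] .nil .nil) (.node [(199, 1, 1)] .nil .nil)))) (.node [] .nil (.node [] (.node [] (.node [(63, (-1), 1)] .nil .nil) .nil) .nil))) (.node [] (.node [] (.node [] (.node [] .nil (.node [(105,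 1, 1)] .nil .nil)) (.node [] (.node [(78, 1, 1)] .nil .nil) .nil)) (.node [] (.node [] (.node [(57, (-1), 1)] .nil .nil) (.node [(0, (-1), 1), (1, (-2), 1), (2, (-2), 1), (3, (-3), 1), (4, (-2), 1), (5, (-1), 1), (6, (-1), 1), (7, (-1), 1), (41, (-1), 2)] .nil .nil)) (.node [] (.node [(96, (-1), 1)] .nil .nil) .nil))) .nil))))
def X34 : Tr (List (ℕ × ℤ × ℕ)) := (.node [] (.node [(42, 1, 1)] (.node [] (.node [(42, (-1), 1)] (.node [] (.node [] (.node [] (.node [(41, 1, 1)] .nil .nil) .nil) .nil) (.node [] (.node [(19, (-1), 1)] .nil .nil) .nil)) (.node [] .nil (.node [(13, 1, 1)] (.node [(22, (-1), 1)] (.node [(61, 1, 1)] .nil .nil) (.node [(131, (-1), 1)] .nil .nil)) .nil))) (.node [] (.node [] (.node [] .nil (.node [] .nil (.node [(146, 1, 1)] .nil .nil))) (.node [] .nil (.node [(33, 1, 1)] .nil (.node [(206, (-1), 1)] .nil .nil)))) (.node [] (.node [] (.node [] .nil (.node [(106, (-1), 1)] .nil .nil)) (.node [(26, 1, 1)] .nil .nil))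 (.node [] (.node [] (.node [(68, 1, 1)] .nil .nil) .nil) (.node [] (.node [(100, (-1), 1)] .nil .nil) .nil))))) (.node [(42, (-1), 1)] (.node [] (.node [] (.node [] (.node [(14, 1, 1)] (.node [(43, 1, 1)] .nil .nil) .nil) .nil) (.node [(12, 1, 1)] (.node [(21, 1, 1)] .nil .nil) (.node [(31, (-1), 1)] (.node [(90, (-1), 1)] .nil .nil) (.node [(190, (-1), 1)] .nil .nil)))) (.node [] (.node [] .nil (.node [] .nil (.node [(168, 1, 1)] .nil .nil))) (.node [] (.node [] (.node [(63, (-1), 1)] .nil .nil) (.node [(133, 1, 1)] .nil .nil)) .nil))) (.node [] (.node [] (.node [] (.node [] .nil (.node [(105, 1, 1)] .nil .nil)) (.node [] (.node [(78, 1, 1)] .nil .nil) (.node [(148, (-1), 1)] .nil .nil))) (.node [] (.node [] (.node [(52, 1, 1)] .nil .nil) (.node [(0, (-1), 1), (1, (-2), 1), (2, (-2), 1), (3, (-3), 1), (4, (-2), 1), (5, (-1), 1), (6, (-1), 1), (42, (-1), 2)] .nil .nil)) .nil)) (.node [] (.node [] .nil (.node [(28, (-1), 1)] .nil .nil))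 .nil)))) (.node [] (.node [] (.node [] (.node [] (.node [] (.node [] .nil (.node [(102, 1, 1)] .nil .nil)) (.node [] (.node [(75, 1, 1)] .nil .nil) (.node [(142, 1, 1)] .nil .nil))) .nil) (.node [] .nil (.node [] .nil (.node [(37, (-1), 1)] (.node [(99, 1, 1)] .nil .nil) .nil)))) (.node [] (.node [] .nil (.node [] (.node [] .nil (.node [(126, (-1), 1)] .nil .nil)) (.node [] (.node [(95, (-1), 1)] .nil .nil) (.node [(209, (-1), 1)] .nil .nil)))) (.node [] (.node [(9, (-1), 1)] .nil (.node [] .nil (.node [(176, 1, 1)] .nil .nil))) (.node [] (.node [] (.node [(71, (-1), 1)] .nil .nil) (.node [(137, (-1), 1)] .nil .nil)) (.node [(40, 1, 1)] .nil .nil))))) (.node [(42, 1, 1)] (.node [] (.node [] (.node [] (.node [] .nil (.node [(104, (-1), 1)] .nil .nil)) (.node [] (.node [(77, (-1), 1)] .nil .nil) .nil)) (.node [] .nil (.node [] (.node [(93, 1, 1)] .nil .nil) (.node [(200, (-1), 1)] .nil .nil)))) (.node [] (.node [] .nil (.node [] .nil (.node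 [(174, (-1), 1)] .nil .nil))) (.node [] (.node [] .nil (.node [(135, 1, 1)] .nil .nil)) (.node [(38, (-1), 1)] .nil .nil)))) (.node [] (.node [] .nil (.node [] (.node [] (.node [(58, (-1), 1)] .nil .nil) (.node [(128, (-1), 1)] .nil .nil)) (.node [(35, 1, 1)] (.node [(97, (-1), 1)] .nil .nil) (.node [(211, 1, 1)] .nil .nil)))) (.node [] (.node [(11, 1, 1)] .nil .nil) (.node [] (.node [] (.node [(73, 1, 1)] .nil .nil) (.node [(140, (-1), 1)] .nil .nil)) .nil))))))
def X35 : Tr (List (ℕ × ℤ × ℕ)) := (.node [] (.node [(43, 1, 1)] (.node [] (.node [] (.node [] (.node [] .nil (.node [] .nil (.node [(142, 1, 1)] .nil .nil))) (.node [] (.node [(20, (-1), 1)] .nil .nil) .nil)) (.node [] .nil (.node [] (.node [] (.node [(62, 1, 1)] .nil .nil) (.node [(132, 1, 1)] .nil .nil)) (.node [(37, 1, 1)] (.node [(99, 1, 1)] .nil .nil) .nil)))) (.node [] (.node [] (.node [] .nil (.node [] .nil (.node [(147, (-1), 1)] .nil .nil))) (.node [] .nil (.node []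 (.node [(95, (-1), 1)] .nil .nil) (.node [(207, 1, 1)] .nil .nil)))) (.node [] (.node [] .nil (.node [(27, 1, 1)] .nil (.node [(176, 1, 1)] .nil .nil))) (.node [] (.node [] (.node [(69, 1, 1)] .nil .nil) (.node [(137, (-1), 1)] .nil .nil)) (.node [(40, (-1), 1)] .nil .nil))))) (.node [] (.node [] (.node [] (.node [] (.node [] .nil (.node [(104, (-1), 1)] .nil .nil)) (.node [] (.node [(77, (-1), 1)] .nil .nil) .nil)) (.node [] .nil (.node [(32, (-1), 1)] (.node [(91, (-1), 1)] .nil .nil) (.node [(191, 1, 1)] .nil .nil)))) (.node [] (.node [] .nil (.node [] .nil (.node [(169, (-1), 1)] .nil .nil))) .nil)) (.node [] (.node [] .nil (.node [] (.node [] (.node [(53, 1, 1)] .nil .nil) (.node [(129, (-1), 1)] .nil .nil)) (.node [] .nil (.node [(211, 1, 1)] .nil .nil)))) (.node [] (.node [(11, (-1), 1)] .nil .nil) (.node [] (.node [] (.node [(73, 1, 1)] .nil .nil) .nil) (.node [(41, 1, 1)] .nil .nil)))))) (.node [] (.node [] (.node [] (.node []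 (.node [] (.node [(14, (-1), 1)] .nil (.node [(103, 1, 1)] .nil .nil)) (.node [] (.node [(76, 1, 1)] .nil .nil) .nil)) (.node [(12, (-1), 1)] (.node [(21, (-1), 1)] .nil .nil) .nil)) (.node [] .nil (.node [] (.node [] (.node [(63, (-1), 1)] .nil .nil) (.node [(133, 1, 1)] .nil .nil)) .nil))) (.node [] (.node [] (.node [] (.node [] .nil (.node [(105, 1, 1)] .nil .nil)) (.node [] (.node [(78, 1, 1)] .nil .nil) (.node [(148, (-1), 1)] .nil .nil))) (.node [] (.node [] .nil (.node [(0, (-1), 1), (1, (-2), 1), (2, (-2), 1), (3, (-3), 1), (4, (-2), 1), (5, (-1), 1), (43, (-1), 2)] .nil .nil)) (.node [] .nil (.node [(210, 1, 1)] .nil .nil)))) (.node [] (.node [(10, (-1), 1)] .nil (.node [(28, 1, 1)] .nil .nil)) (.node [] (.node [] (.node [(72, (-1), 1)] .nil .nil) .nil) .nil)))) (.node [(43, (-1), 1)] (.node [] (.node [] .nil (.node [] .nil (.node [(33, (-1), 1)] (.node [(94, 1, 1)] .nil .nil) (.node [(201, 1, 1)] .nil .nil)))) (.node [] (.node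 [] (.node [] .nil (.node [(106, (-1), 1)] .nil .nil)) (.node [] .nil (.node [(175, 1, 1)] .nil .nil))) (.node [] (.node [] .nil (.node [(136, (-1), 1)] .nil .nil)) (.node [(39, (-1), 1)] (.node [(100, (-1), 1)] .nil .nil) .nil)))) (.node [] (.node [] .nil (.node [(13, (-1), 1)] (.node [(22, 1, 1)] (.node [(59, (-1), 1)] .nil .nil) (.node [(130, (-1), 1)] .nil .nil)) (.node [(36, 1, 1)] (.node [(98, (-1), 1)] .nil .nil) .nil))) (.node [] .nil (.node [] (.node [] .nil (.node [(141, 1, 1)] .nil .nil)) (.node [(42, 1, 1)] .nil .nil)))))))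
def X36 : Tr (List (ℕ × ℤ × ℕ)) := (.node [] (.node [(44, (-1), 1)] (.node [] (.node [] (.node [] (.node [] (.node [(15, (-1), 1)] .nil (.node [(109, (-1), 1)] .nil .nil)) (.node [(23, 1, 1)] .nil .nil)) (.node [] (.node [] .nil (.node [(120, (-1), 1)] .nil .nil)) (.node [] (.node [(87, 1, 1)] .nil .nil) (.node [(182, 1, 1)] .nil .nil)))) (.node [] (.node [] (.node [] (.node [(48, 1, 1)] .nil .nil) (.node [(113, (-1), 1)] .nil .nil)) (.node [] (.node [(79, 1, 1)] .nil .nil) (.node [(156, (-1), 1)] .nil .nil))) (.node [] .nil (.node [] .nil (.node [(214, (-1), 1)] .nil .nil))))) (.node [] (.node [] (.node [] (.node [] (.node [(45, 1, 1)] .nil .nil) .nil) (.node [(24, 1, 1)] .nil .nil)) (.node [] (.node [] (.node [(65, (-1), 1)] .nil .nil) (.node [(0, (-1), 1), (1, (-1), 1), (2, (-2), 1), (3, (-3), 1), (4, (-3), 1), (5, (-3), 1), (6, (-2), 1), (7, (-1), 1), (44, (-1), 2)] .nil .nil)) .nil)) (.node [] (.node [(10, 1, 1)] .nil .nil) .nil)))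 (.node [(44, 1, 1)] (.node [] (.node [] (.node [] .nil (.node [] .nil (.node [(150, (-1), 1)] .nil .nil))) (.node [] (.node [] .nil (.node [(123, 1, 1)] .nil .nil)) .nil)) (.node [] (.node [(8, 1, 1)] (.node [(16, (-1), 1)] (.node [(50, 1, 1)] .nil .nil) (.node [(115, (-1), 1)] .nil .nil)) (.node [(30, 1, 1)] (.node [(81, 1, 1)] .nil .nil) .nil)) .nil)) (.node [] (.node [] (.node [] (.node [] (.node [(47, 1, 1)] .nil .nil) .nil) .nil) (.node [] .nil (.node [] .nil (.node [(212, (-1), 1)] .nil .nil)))) (.node [] (.node [] (.node [(17, (-1), 1)] (.node [(55, (-1), 1)] .nil .nil) (.node [(118, (-1), 1)] .nil .nil)) (.node [] .nil (.node [(177, 1, 1)] .nil .nil))) (.node [] (.node [] .nil (.node [(149, (-1), 1)] .nil .nil)) (.node [] (.node [(107, (-1), 1)] .nil .nil) .nil)))))) (.node [] (.node [] (.node [] (.node [] .nil (.node [] (.node [] .nil (.node [(122, (-1), 1)] .nil .nil)) (.node [] (.node [(88, (-1), 1)] .nil .nil) (.node [(192,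 1, 1)] .nil .nil)))) (.node [] (.node [] (.node [] (.node [(49, (-1), 1)] .nil .nil) (.node [(114, 1, 1)] .nil .nil)) (.node [(29, 1, 1)] (.node [(80, (-1), 1)] .nil .nil) (.node [(160, (-1), 1)] .nil .nil))) .nil)) (.node [] (.node [] (.node [] (.node [] (.node [(46, (-1), 1)] .nil .nil) .nil) (.node [(25, 1, 1)] .nil .nil)) (.node [] (.node [] (.node [(66, 1, 1)] .nil .nil) .nil) .nil)) (.node [] (.node [] (.node [] (.node [(54, 1, 1)] .nil .nil) .nil) .nil) .nil))) (.node [] (.node [] (.node [] (.node [] .nil (.node [] .nil (.node [(151, (-1), 1)] .nil .nil))) (.node [] (.node [] (.node [(64, 1, 1)] .nil .nil) (.node [(124, (-1), 1)] .nil .nil)) .nil)) (.node [] (.node [(9, 1, 1)] .nil (.node [(34, 1, 1)] .nil .nil)) .nil)) (.node [] (.node [] (.node [] .nil (.node [] .nil (.node [(155, (-1), 1)] .nil .nil))) (.node [] .nil (.node [] .nil (.node [(213, (-1), 1)] .nil .nil)))) (.node [] (.node [] (.node [(18, (-1), 1)] (.node [(56,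 1, 1)] .nil .nil) (.node [(119, 1, 1)] .nil .nil)) (.node [] (.node [(86, (-1), 1)] .nil .nil) (.node [(178, 1, 1)] .nil .nil))) (.node [] .nil (.node [] (.node [(108, 1, 1)] .nil .nil) .nil)))))))
def X37 : Tr (List (ℕ × ℤ × ℕ)) := (.node [] (.node [(45, (-1), 1)] (.node [] (.node [] (.node [] (.node [] (.node [] .nil (.node [(110, (-1), 1)] .nil .nil)) .nil) (.node [] (.node [] .nil (.node [(121, (-1), 1)] .nil .nil)) (.node [] (.node [(89, 1, 1)] .nil .nil) (.node [(183, (-1), 1)] .nil .nil)))) (.node [] (.node [(8, (-1), 1)] .nil (.node [(29, (-1), 1)] .nil (.node [(157, 1, 1)] .nil .nil))) (.node [] .nil (.node [] .nil (.node [(216, 1, 1)] .nil .nil))))) (.node [] (.node [] .nil (.node [] (.node [] (.node [(67, (-1), 1)] .nil .nil) (.node [(131, (-1), 1)] .nil .nil)) .nil)) (.node [] (.node [(11, 1, 1)] (.node [] (.node [(54, 1, 1)] .nil .nil) (.node [(118, (-1), 1)] .nil .nil)) .nil) (.node [] .nil (.node [] (.node [(107, (-1),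 1)] .nil .nil) .nil))))) (.node [(45, (-1), 1)] (.node [] (.node [] (.node [] (.node [] (.node [(46, 1, 1)] .nil .nil) .nil) .nil) (.node [] (.node [] (.node [(64, 1, 1)] .nil .nil) (.node [(126, (-1), 1)] .nil .nil)) .nil)) (.node [] (.node [] (.node [] (.node [(52, 1, 1)] .nil .nil) (.node [(116, (-1), 1)] .nil .nil)) (.node [(31, 1, 1)] (.node [(82, 1, 1)] .nil .nil) .nil)) .nil)) (.node [] (.node [] (.node [] (.node [] .nil (.node [(113, (-1), 1)] .nil .nil)) (.node [] (.node [(79, 1, 1)] .nil .nil) (.node [(155, (-1), 1)] .nil .nil))) .nil) (.node [] (.node [] (.node [] (.node [(57, (-1), 1)] .nil .nil) .nil) (.node [] (.node [(86, (-1), 1)] .nil .nil) .nil)) .nil)))) (.node [] (.node [(45, 1, 1)] (.node [] (.node [] (.node [] .nil (.node [] .nil (.node [(150, (-1), 1)] .nil .nil))) (.node [] (.node [] .nil (.node [(125, 1, 1)] .nil .nil)) (.node [] (.node [(90, (-1), 1)] .nil .nil) (.node [(193, (-1), 1)] .nil .nil)))) (.node []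 (.node [(9, (-1), 1)] (.node [(16, 1, 1)] (.node [(51, (-1), 1)] .nil .nil) .nil) (.node [] .nil (.node [(161, 1, 1)] .nil .nil))) .nil)) (.node [] (.node [] (.node [] .nil (.node [(26, 1, 1)] .nil .nil)) (.node [] (.node [] (.node [(68, 1, 1)] .nil .nil) .nil) (.node [] .nil (.node [(212, (-1), 1)] .nil .nil)))) (.node [] (.node [] (.node [(17, 1, 1)] .nil (.node [(119, 1, 1)] .nil .nil)) (.node [] .nil (.node [(177, 1, 1)] .nil .nil))) (.node [] (.node [] .nil (.node [(149, (-1), 1)] .nil .nil)) (.node [(44, 1, 1)] (.node [(108, 1, 1)] .nil .nil) .nil))))) (.node [(45, 1, 1)] (.node [] (.node [] (.node [] (.node [] (.node [(47, (-1), 1)] .nil .nil) .nil) (.node [(24, (-1), 1)] .nil (.node [(152, 1, 1)] .nil .nil))) (.node [] (.node [] .nil (.node [(0, (-1), 1), (1, (-1), 1), (2, (-2), 1), (3, (-3), 1), (4, (-3), 1), (5, (-2), 1), (6, (-2), 1), (7, (-1), 1), (45, (-1), 2)] .nil .nil)) .nil)) (.node [] (.node [] .nil (.node [(35, 1, 1)]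 .nil .nil)) .nil)) (.node [] (.node [] (.node [] (.node [] (.node [(48, 1, 1)] .nil .nil) (.node [(114, 1, 1)] .nil .nil)) (.node [] (.node [(80, (-1), 1)] .nil .nil) .nil)) (.node [] .nil (.node [] .nil (.node [(215, 1, 1)] .nil .nil)))) (.node [] (.node [] (.node [(19, (-1), 1)] (.node [(58, 1, 1)] .nil .nil) .nil) (.node [] .nil (.node [(179, (-1), 1)] .nil .nil))) (.node [(15, 1, 1)] (.node [(23, (-1), 1)] .nil .nil) .nil))))))
def X38 : Tr (List (ℕ × ℤ × ℕ)) := (.node [] (.node [(46, (-1), 1)] (.node [] (.node [(46, 1, 1)] (.node [] (.node [] .nil (.node [] .nil (.node [(150, (-1), 1)] .nil .nil))) (.node [] .nil (.node [] .nil (.node [(184, 1, 1)] .nil .nil)))) (.node [] (.node [] (.node [(16, (-1), 1)] (.node [(51, (-1), 1)] .nil .nil) .nil) (.node [] .nil (.node [(158, (-1), 1)] .nil .nil))) (.node [] .nil (.node [] .nil (.node [(217, (-1), 1)] .nil .nil))))) (.node [] (.node [] .nil (.node [] (.node [] .nil (.node [(132, 1, 1)]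 .nil .nil)) .nil)) (.node [] (.node [] (.node [(17, (-1), 1)] (.node [(55, 1, 1)] .nil .nil) .nil) (.node [] .nil (.node [(177, 1, 1)] .nil .nil))) (.node [] (.node [] .nil (.node [(149, (-1), 1)] .nil .nil)) (.node [(44, (-1), 1)] .nil .nil))))) (.node [] (.node [] (.node [] (.node [] .nil (.node [(24, 1, 1)] .nil .nil)) (.node [] (.node [] (.node [(65, 1, 1)] .nil .nil) (.node [(0, (-1), 1), (1, (-1), 1), (2, (-2), 1), (3, (-3), 1), (4, (-3), 1), (5, (-2), 1), (6, (-1), 1), (7, (-1), 1), (46, (-1), 2)] .nil .nil)) .nil)) (.node [] (.node [] (.node [] (.node [(53, 1, 1)] .nil .nil) .nil) (.node [(32, 1, 1)] .nil .nil)) .nil)) (.node [] (.node [] .nil (.node [] .nil (.node [] .nil (.node [(215, 1, 1)] .nil .nil)))) (.node [] (.node [] .nil (.node [] (.node [(87, (-1), 1)] .nil .nil) .nil)) (.node [(15, (-1), 1)] (.node [(23, 1, 1)] .nil .nil) .nil))))) (.node [] (.node [(46, 1, 1)] (.node [] (.node [] (.node [] (.node [] (.node [(47,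 1, 1)] .nil .nil) .nil) .nil) (.node [] (.node [] .nil (.node [(127, (-1), 1)] .nil .nil)) (.node [] (.node [(91, (-1), 1)] .nil .nil) (.node [(194, 1, 1)] .nil .nil)))) (.node [] (.node [(10, (-1), 1)] (.node [] .nil (.node [(116, (-1), 1)] .nil .nil)) (.node [] (.node [(82, 1, 1)] .nil .nil) (.node [(162, (-1), 1)] .nil .nil))) .nil)) (.node [] (.node [] (.node [] (.node [] .nil (.node [(113, (-1), 1)] .nil .nil)) (.node [(27, 1, 1)] (.node [(79, 1, 1)] .nil .nil) (.node [(155, (-1), 1)] .nil .nil))) (.node [] (.node [] (.node [(69, 1, 1)] .nil .nil) .nil) (.node [] .nil (.node [(213, 1, 1)] .nil .nil)))) (.node [] (.node [] (.node [] (.node [(57, (-1), 1)] .nil .nil) (.node [(120, 1, 1)] .nil .nil)) .nil) (.node [] .nil (.node [] (.node [(109, 1, 1)] .nil .nil) .nil))))) (.node [(46, (-1), 1)] (.node [] (.node [] (.node [] .nil (.node [] .nil (.node [(153, (-1), 1)] .nil .nil))) (.node [] (.node [] (.node [(67, (-1), 1)] .nil .nil)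 (.node [(129, (-1), 1)] .nil .nil)) .nil)) (.node [] (.node [(11, (-1), 1)] (.node [] .nil (.node [(118, (-1), 1)] .nil .nil)) (.node [(36, 1, 1)] .nil .nil)) (.node [] .nil (.node [] (.node [(107, (-1), 1)] .nil .nil) .nil)))) (.node [] (.node [] (.node [(8, 1, 1)] (.node [] (.node [(49, 1, 1)] .nil .nil) (.node [(115, 1, 1)] .nil .nil)) (.node [(29, 1, 1)] (.node [(81, (-1), 1)] .nil .nil) .nil)) .nil) (.node [] (.node [] (.node [(20, (-1), 1)] (.node [(59, 1, 1)] .nil .nil) (.node [(121, (-1), 1)] .nil .nil)) (.node [] (.node [(89, 1, 1)] .nil .nil) (.node [(180, 1, 1)] .nil .nil))) (.node [] .nil (.node [(45, 1, 1)] (.node [(110, (-1), 1)] .nil .nil) .nil)))))))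
def X39 : Tr (List (ℕ × ℤ × ℕ)) := (.node [] (.node [(47, (-1), 1)] (.node [] (.node [(47, (-1), 1)] (.node [] (.node [] (.node [] (.node [(46, 1, 1)] .nil .nil) .nil) .nil) (.node [] .nil (.node [] (.node [(91, (-1), 1)] .nil .nil) (.node [(185, (-1), 1)] .nil .nil)))) (.node [] (.node [(10, 1, 1)] (.node [] (.node [(52, (-1), 1)] .nil .nil) (.node [(116, (-1), 1)] .nil .nil)) (.node [] (.node [(82, 1, 1)] .nil .nil) (.node [(159, 1, 1)] .nil .nil))) .nil)) (.node [] (.node [] (.node [] .nil (.node [] .nil (.node [(155, (-1), 1)] .nil .nil))) (.node [] (.node [] (.node [(69, 1, 1)] .nil .nil) (.node [(133, (-1), 1)] .nil .nil)) .nil)) (.node [] (.node [] (.node [] (.node [(56, 1, 1)] .nil .nil) (.node [(120, 1, 1)] .nil .nil)) .nil) (.node [] .nil (.node [] (.node [(109, 1, 1)] .nil .nil) .nil))))) (.node [] (.node [] (.node [] .nil (.node [] (.node [] (.node [(66, 1, 1)] .nil .nil) (.node [(128, (-1), 1)] .nil .nil)) .nil)) (.node []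 (.node [(11, 1, 1)] .nil (.node [(33, 1, 1)] .nil .nil)) .nil)) (.node [] (.node [] (.node [] (.node [] .nil (.node [(115, 1, 1)] .nil .nil)) (.node [(29, (-1), 1)] (.node [(81, (-1), 1)] .nil .nil) .nil)) (.node [] .nil (.node [] .nil (.node [(216, (-1), 1)] .nil .nil)))) (.node [] (.node [] (.node [] (.node [(59, 1, 1)] .nil .nil) (.node [(121, (-1), 1)] .nil .nil)) (.node [] (.node [(88, (-1), 1)] .nil .nil) .nil)) (.node [] .nil (.node [(45, (-1), 1)] (.node [(110, (-1), 1)] .nil .nil) .nil)))))) (.node [] (.node [(47, 1, 1)] (.node [] (.node [] (.node [] .nil (.node [(24, (-1), 1)] .nil .nil)) (.node [] (.node [] .nil (.node [(0, (-1), 1), (1, (-1), 1), (2, (-2), 1), (3, (-3), 1), (4, (-3), 1), (5, (-2), 1), (6, (-1), 1), (47, (-1), 2)] .nil .nil)) (.node [] .nil (.node [(195, (-1), 1)] .nil .nil)))) (.node [] (.node [] (.node [] (.node [(53, 1, 1)] .nil .nil) .nil) (.node [] .nil (.node [(163, 1, 1)] .nil .nil))) .nil)) (.node []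 (.node [] (.node [] (.node [] .nil (.node [(114, (-1), 1)] .nil .nil)) (.node [(28, 1, 1)] (.node [(80, 1, 1)] .nil .nil) .nil)) (.node [] .nil (.node [] .nil (.node [(214, (-1), 1)] .nil .nil)))) (.node [] (.node [] (.node [] (.node [(58, (-1), 1)] .nil .nil) .nil) .nil) (.node [(15, 1, 1)] (.node [(23, (-1), 1)] .nil .nil) .nil)))) (.node [] (.node [] (.node [] (.node [] .nil (.node [] .nil (.node [(154, 1, 1)] .nil .nil))) (.node [] (.node [] (.node [(68, (-1), 1)] .nil .nil) (.node [(130, 1, 1)] .nil .nil)) .nil)) (.node [] (.node [] (.node [(17, 1, 1)] .nil (.node [(119, (-1), 1)] .nil .nil)) (.node [(37, 1, 1)] .nil (.node [(177, 1, 1)] .nil .nil))) (.node [] (.node [] .nil (.node [(149, (-1), 1)] .nil .nil)) (.node [(44, 1, 1)] (.node [(108, (-1), 1)] .nil .nil) .nil)))) (.node [] (.node [] (.node [(9, 1, 1)] (.node [(16, 1, 1)] (.node [(50, 1, 1)] .nil .nil) .nil) .nil) (.node [] .nil (.node [] .nil (.node [(217, (-1), 1)] .nil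 .nil)))) (.node [] (.node [] (.node [(21, (-1), 1)] .nil .nil) (.node [] (.node [(90, 1, 1)] .nil .nil) (.node [(181, (-1), 1)] .nil .nil))) (.node [] (.node [] .nil (.node [(150, (-1), 1)] .nil .nil)) .nil))))))
def X40 : Tr (List (ℕ × ℤ × ℕ)) := (.node [] (.node [(48, (-1), 1)] (.node [(48, 1, 1)] (.node [] (.node [] (.node [] (.node [] .nil (.node [(111, (-1), 1)] .nil .nil)) .nil) (.node [] (.node [] .nil (.node [(0, (-1), 1), (1, (-1), 1), (2, (-2), 1), (3, (-3), 1), (4, (-2), 1), (5, (-2), 1), (6, (-2), 1), (7, (-1), 1), (48, (-1), 2)] .nil .nil)) (.node [] (.node [(92, 1, 1)] .nil .nil) (.node [(186, 1, 1)] .nil .nil)))) (.node [] (.node [] .nil (.node [(30, (-1), 1)] .nil .nil)) (.node [] .nil (.node [] .nil (.node [(219, (-1), 1)] .nil .nil))))) (.node [] (.node [] (.node [] (.node [] .nil (.node [(114, 1, 1)] .nil .nil)) (.node [(26, (-1), 1)] (.node [(80, (-1), 1)] .nil .nil) .nil)) (.node [] (.node [] (.node [(70, (-1), 1)]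 .nil .nil) (.node [(135, (-1), 1)] .nil .nil)) (.node [] .nil (.node [(212, (-1), 1)] .nil .nil)))) (.node [] (.node [(12, 1, 1)] (.node [] .nil (.node [(122, 1, 1)] .nil .nil)) .nil) (.node [(15, (-1), 1)] (.node [(23, 1, 1)] .nil .nil) .nil)))) (.node [] (.node [] (.node [] (.node [] (.node [] (.node [(49, 1, 1)] .nil .nil) .nil) (.node [] .nil (.node [(152, 1, 1)] .nil .nil))) .nil) (.node [] (.node [] (.node [] .nil (.node [(117, (-1), 1)] .nil .nil)) (.node [] (.node [(83, 1, 1)] .nil .nil) .nil)) (.node [] (.node [] .nil (.node [(149, (-1), 1)] .nil .nil)) (.node [(45, 1, 1)] (.node [(108, 1, 1)] .nil .nil) .nil)))) (.node [] (.node [] (.node [(9, 1, 1)] (.node [(16, (-1), 1)] (.node [(52, (-1), 1)] .nil .nil) .nil) (.node [] .nil (.node [(156, 1, 1)] .nil .nil))) .nil) (.node [] (.node [] (.node [(19, 1, 1)] (.node [(60, (-1), 1)] .nil .nil) (.node [(125, 1, 1)] .nil .nil)) (.node [] .nil (.node [(179, (-1), 1)] .nil .nil))) .nil))))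 (.node [] (.node [(48, (-1), 1)] (.node [] (.node [] (.node [] .nil (.node [] .nil (.node [(151, 1, 1)] .nil .nil))) (.node [] (.node [] (.node [(64, 1, 1)] .nil .nil) .nil) (.node [] (.node [(93, (-1), 1)] .nil .nil) (.node [(196, 1, 1)] .nil .nil)))) (.node [] (.node [] .nil (.node [(31, (-1), 1)] .nil (.node [(164, (-1), 1)] .nil .nil))) (.node [] .nil (.node [(44, 1, 1)] (.node [(107, (-1), 1)] .nil .nil) .nil)))) (.node [] (.node [] (.node [(8, 1, 1)] (.node [] (.node [(51, 1, 1)] .nil .nil) .nil) .nil) (.node [] (.node [] (.node [(71, 1, 1)] .nil .nil) .nil) .nil)) (.node [] (.node [] (.node [(18, 1, 1)] .nil (.node [(123, (-1), 1)] .nil .nil)) (.node [] (.node [(86, (-1), 1)] .nil .nil) (.node [(178, (-1), 1)] .nil .nil))) .nil))) (.node [(48, 1, 1)] (.node [] (.node [] (.node [] (.node [] (.node [(50, (-1), 1)] .nil .nil) (.node [(113, (-1), 1)] .nil .nil)) (.node [(25, (-1), 1)] (.node [(79, 1, 1)] .nil .nil) .nil)) (.node []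 (.node [] .nil (.node [(134, (-1), 1)] .nil .nil)) .nil)) (.node [] (.node [] (.node [] (.node [(54, 1, 1)] .nil .nil) .nil) (.node [(38, 1, 1)] .nil .nil)) .nil)) (.node [] (.node [] (.node [] .nil (.node [] .nil (.node [(157, 1, 1)] .nil .nil))) (.node [] .nil (.node [] .nil (.node [(218, (-1), 1)] .nil .nil)))) (.node [] (.node [] (.node [] (.node [(61, 1, 1)] .nil .nil) (.node [(126, (-1), 1)] .nil .nil)) .nil) .nil)))))
def X41 : Tr (List (ℕ × ℤ × ℕ)) := (.node [] (.node [(49, (-1), 1)] (.node [(49, 1, 1)] (.node [(49, 1, 1)] (.node [] (.node [] .nil (.node [] .nil (.node [(151, 1, 1)] .nil .nil))) (.node [] (.node [] .nil (.node [(129, (-1), 1)] .nil .nil)) (.node [] .nil (.node [(187, (-1), 1)] .nil .nil)))) (.node [] .nil (.node [] .nil (.node [(44, (-1), 1)] (.node [(107, (-1), 1)] .nil .nil) (.node [(220, 1, 1)] .nil .nil))))) (.node [] (.node [] (.node [(8, (-1), 1)] (.node [] (.node [(51, 1, 1)] .nil .nil) (.node [(115, 1,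 1)] .nil .nil)) (.node [(27, (-1), 1)] (.node [(81, (-1), 1)] .nil .nil) .nil)) (.node [] (.node [] .nil (.node [(136, 1, 1)] .nil .nil)) (.node [] .nil (.node [(213, 1, 1)] .nil .nil)))) (.node [] (.node [] (.node [(18, (-1), 1)] .nil .nil) (.node [] .nil (.node [(178, (-1), 1)] .nil .nil))) .nil))) (.node [(49, 1, 1)] (.node [] (.node [] (.node [] (.node [] .nil (.node [(113, (-1), 1)] .nil .nil)) (.node [(25, 1, 1)] (.node [(79, 1, 1)] .nil .nil) (.node [(153, (-1), 1)] .nil .nil))) (.node [] (.node [] .nil (.node [(134, (-1), 1)] .nil .nil)) .nil)) (.node [] .nil (.node [] .nil (.node [(46, 1, 1)] (.node [(109, 1, 1)] .nil .nil) .nil)))) (.node [] (.node [] (.node [(10, 1, 1)] (.node [] (.node [(53, (-1), 1)] .nil .nil) .nil) .nil) (.node [] .nil (.node [] .nil (.node [(218, (-1), 1)] .nil .nil)))) (.node [] (.node [] (.node [(20, 1, 1)] .nil (.node [(127, (-1), 1)] .nil .nil)) (.node [] .nil (.node [(180, 1, 1)] .nil .nil))) .nil))))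 (.node [] (.node [(49, (-1), 1)] (.node [] (.node [] (.node [] (.node [] (.node [(50, 1, 1)] .nil .nil) .nil) .nil) (.node [] (.node [] (.node [(65, 1, 1)] .nil .nil) .nil) (.node [] (.node [(94, (-1), 1)] .nil .nil) (.node [(197, (-1), 1)] .nil .nil)))) (.node [] (.node [] (.node [] .nil (.node [(117, (-1), 1)] .nil .nil)) (.node [(32, (-1), 1)] (.node [(83, 1, 1)] .nil .nil) (.node [(165, 1, 1)] .nil .nil))) (.node [] (.node [] .nil (.node [(149, (-1), 1)] .nil .nil)) .nil))) (.node [] (.node [] (.node [] (.node [(16, 1, 1)] .nil .nil) (.node [] .nil (.node [(156, 1, 1)] .nil .nil))) (.node [] (.node [] (.node [(72, 1, 1)] .nil .nil) .nil) .nil)) (.node [] (.node [] (.node [] (.node [(60, (-1), 1)] .nil .nil) (.node [(124, (-1), 1)] .nil .nil)) (.node [] (.node [(87, (-1), 1)] .nil .nil) .nil)) .nil))) (.node [(49, (-1), 1)] (.node [] (.node [] .nil (.node [] (.node [] (.node [(70, (-1), 1)] .nil .nil) .nil) .nil)) (.node [] (.node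 [(12, (-1), 1)] (.node [] (.node [(55, 1, 1)] .nil .nil) (.node [(122, 1, 1)] .nil .nil)) (.node [(39, 1, 1)] .nil .nil)) (.node [(15, 1, 1)] (.node [(23, (-1), 1)] .nil .nil) .nil))) (.node [] (.node [] (.node [] .nil (.node [(30, 1, 1)] .nil (.node [(158, (-1), 1)] .nil .nil))) .nil) (.node [] (.node [] (.node [] (.node [(62, 1, 1)] .nil .nil) (.node [(0, (-1), 1), (1, (-1), 1), (2, (-2), 1), (3, (-3), 1), (4, (-2), 1), (5, (-2), 1), (6, (-1), 1), (7, (-1), 1), (49, (-1), 2)] .nil .nil)) (.node [] (.node [(92, 1, 1)] .nil .nil) .nil)) (.node [] .nil (.node [(48, 1, 1)] (.node [(111, (-1), 1)] .nil .nil) .nil)))))))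
def X42 : Tr (List (ℕ × ℤ × ℕ)) := (.node [] (.node [(50, (-1), 1)] (.node [(50, 1, 1)] (.node [(50, (-1), 1)] (.node [] (.node [] (.node [] (.node [(49, 1, 1)] .nil .nil) .nil) .nil) (.node [] (.node [] .nil (.node [(130, 1, 1)] .nil .nil)) (.node [] (.node [(94, (-1), 1)] .nil .nil) (.node [(188, 1, 1)] .nil .nil)))) (.node [] (.node [] (.node [] .nil (.node [(117, (-1), 1)] .nil .nil)) (.node [] (.node [(83, 1, 1)] .nil .nil) .nil)) (.node [] (.node [] .nil (.node [(149, (-1), 1)] .nil .nil)) (.node [] (.node [(108, (-1), 1)] .nil .nil) .nil)))) (.node [] (.node [] (.node [(9, (-1), 1)] (.node [(16, (-1), 1)] (.node [(52, 1, 1)] .nil .nil) .nil) (.node [(28, (-1), 1)] .nil (.node [(156, 1, 1)] .nil .nil))) (.node [] (.node [] (.node [(72, 1, 1)] .nil .nil) (.node [(137, (-1), 1)] .nil .nil)) (.node [] .nil (.node [(214, (-1), 1)] .nil .nil)))) (.node [] (.node [] (.node [] .nil (.node [(124, (-1), 1)] .nil .nil)) .nil) .nil))) (.node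 [(50, 1, 1)] (.node [] (.node [] (.node [] (.node [] .nil (.node [(114, (-1), 1)] .nil .nil)) (.node [] (.node [(80, 1, 1)] .nil .nil) (.node [(154, 1, 1)] .nil .nil))) .nil) (.node [] (.node [(12, 1, 1)] .nil .nil) (.node [(15, (-1), 1)] (.node [(23, 1, 1)] .nil .nil) (.node [(47, 1, 1)] .nil .nil)))) (.node [] (.node [] (.node [] .nil (.node [(30, (-1), 1)] .nil .nil)) (.node [] .nil (.node [] .nil (.node [(219, 1, 1)] .nil .nil)))) (.node [] (.node [] (.node [(21, 1, 1)] (.node [(62, 1, 1)] .nil .nil) (.node [(0, (-1), 1), (1, (-1), 1), (2, (-2), 1), (3, (-3), 1), (4, (-2), 1), (5, (-2), 1), (6, (-1), 1), (50, (-1), 2)] .nil .nil)) (.node [] .nil (.node [(181, (-1), 1)] .nil .nil))) (.node [] .nil (.node [(48, (-1), 1)] (.node [(111, (-1), 1)] .nil .nil) .nil)))))) (.node [] (.node [(50, (-1), 1)] (.node [] (.node [] (.node [] .nil (.node [(25, (-1), 1)] .nil .nil)) (.node [] (.node [] (.node [(66, 1, 1)] .nil .nil) (.node [(134, (-1),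 1)] .nil .nil)) (.node [] .nil (.node [(198, 1, 1)] .nil .nil)))) (.node [] (.node [] .nil (.node [(33, (-1), 1)] .nil (.node [(166, (-1), 1)] .nil .nil))) (.node [] .nil (.node [] (.node [(109, 1, 1)] .nil .nil) .nil)))) (.node [] (.node [] (.node [(10, (-1), 1)] (.node [] (.node [(53, (-1), 1)] .nil .nil) .nil) .nil) .nil) (.node [] (.node [] (.node [] (.node [(61, (-1), 1)] .nil .nil) .nil) (.node [] (.node [(88, (-1), 1)] .nil .nil) .nil)) .nil))) (.node [] (.node [] (.node [] (.node [] (.node [] .nil (.node [(115, 1, 1)] .nil .nil)) (.node [] (.node [(81, (-1), 1)] .nil .nil) .nil)) (.node [] (.node [] (.node [(71, (-1), 1)] .nil .nil) .nil) .nil)) (.node [] (.node [] (.node [(18, 1, 1)] (.node [(56, 1, 1)] .nil .nil) (.node [(123, 1, 1)] .nil .nil)) (.node [(40, 1, 1)] .nil (.node [(178, (-1), 1)] .nil .nil))) .nil)) (.node [] (.node [] (.node [] .nil (.node [] .nil (.node [(159, 1, 1)] .nil .nil))) (.node [] .nil (.node [(44, 1,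 1)] .nil (.node [(220, 1, 1)] .nil .nil)))) (.node [] (.node [] (.node [] .nil (.node [(128, (-1), 1)] .nil .nil)) (.node [] (.node [(93, 1, 1)] .nil .nil) .nil)) (.node [] (.node [] .nil (.node [(151, 1, 1)] .nil .nil)) .nil))))))
def X43 : Tr (List (ℕ × ℤ × ℕ)) := (.node [] (.node [(51, (-1), 1)] (.node [(51, 1, 1)] (.node [(51, 1, 1)] (.node [] (.node [] .nil (.node [] .nil (.node [(152, (-1), 1)] .nil .nil))) (.node [] (.node [] .nil (.node [(132, (-1), 1)] .nil .nil)) (.node [] .nil (.node [(189, 1, 1)] .nil .nil)))) (.node [] (.node [] .nil (.node [(32, 1, 1)] .nil .nil)) (.node [] .nil (.node [(45, (-1), 1)] .nil (.node [(221, (-1), 1)] .nil .nil))))) (.node [] (.node [] (.node [] (.node [] .nil (.node [(116, 1, 1)] .nil .nil)) (.node [] (.node [(82, (-1), 1)] .nil .nil) .nil)) (.node [] .nil (.node [] .nil (.node [(215, (-1), 1)] .nil .nil)))) (.node [] (.node [] (.node [(19, (-1), 1)] (.node [(60, (-1), 1)] .nil .nil) (.node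 [(127, (-1), 1)] .nil .nil)) (.node [] .nil (.node [(179, 1, 1)] .nil .nil))) (.node [] .nil (.node [(48, 1, 1)] .nil .nil))))) (.node [(51, (-1), 1)] (.node [] (.node [] (.node [] .nil (.node [(26, 1, 1)] .nil .nil)) (.node [] (.node [] (.node [(70, (-1), 1)] .nil .nil) (.node [(135, 1, 1)] .nil .nil)) .nil)) (.node [] .nil (.node [] .nil (.node [] (.node [(110, 1, 1)] .nil .nil) .nil)))) (.node [] (.node [] (.node [(11, 1, 1)] .nil (.node [] .nil (.node [(158, (-1), 1)] .nil .nil))) .nil) (.node [] (.node [] .nil (.node [] (.node [(92, 1, 1)] .nil .nil) .nil)) .nil)))) (.node [] (.node [] (.node [] (.node [] (.node [] (.node [] (.node [(52, 1, 1)] .nil .nil) (.node [(113, (-1), 1)] .nil .nil)) (.node [] (.node [(79, 1, 1)] .nil .nil) (.node [(153, (-1), 1)] .nil .nil))) (.node [] (.node [] (.node [(67, 1, 1)] .nil .nil) .nil) (.node [] (.node [(95, (-1), 1)] .nil .nil) (.node [(199, 1, 1)] .nil .nil)))) (.node [] (.node [(12, 1, 1)]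 .nil (.node [] .nil (.node [(167, (-1), 1)] .nil .nil))) (.node [(15, (-1), 1)] (.node [(23, 1, 1)] .nil .nil) (.node [(46, (-1), 1)] .nil .nil)))) (.node [] (.node [] (.node [] .nil (.node [] .nil (.node [(157, (-1), 1)] .nil .nil))) (.node [] (.node [] (.node [(73, 1, 1)] .nil .nil) .nil) (.node [] .nil (.node [(218, (-1), 1)] .nil .nil)))) (.node [] (.node [] (.node [(20, (-1), 1)] .nil (.node [(0, (-1), 1), (1, (-1), 1), (2, (-2), 1), (3, (-3), 1), (4, (-2), 1), (5, (-1), 1), (6, (-1), 1), (7, (-1), 1), (51, (-1), 2)] .nil .nil)) (.node [] (.node [(89, (-1), 1)] .nil .nil) (.node [(180, 1, 1)] .nil .nil))) (.node [] .nil (.node [(49, 1, 1)] (.node [(111, (-1), 1)] .nil .nil) .nil))))) (.node [] (.node [] (.node [] (.node [(8, 1, 1)] (.node [(16, (-1), 1)] (.node [(53, 1, 1)] .nil .nil) .nil) (.node [(27, 1, 1)] .nil .nil)) (.node [] (.node [] .nil (.node [(136, 1, 1)] .nil .nil)) .nil)) (.node [] (.node [] (.node [] (.node [(57, 1,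 1)] .nil .nil) (.node [(125, (-1), 1)] .nil .nil)) (.node [(41, 1, 1)] .nil .nil)) .nil)) (.node [] (.node [] (.node [] (.node [] .nil (.node [(117, (-1), 1)] .nil .nil)) (.node [(31, 1, 1)] (.node [(83, 1, 1)] .nil .nil) .nil)) (.node [] (.node [] .nil (.node [(149, (-1), 1)] .nil .nil)) (.node [] (.node [(107, (-1), 1)] .nil .nil) .nil))) (.node [] (.node [] (.node [] (.node [(63, 1, 1)] .nil .nil) (.node [(131, (-1), 1)] .nil .nil)) .nil) .nil)))))
def X44 : Tr (List (ℕ × ℤ × ℕ)) := (.node [] (.node [(52, (-1), 1)] (.node [(52, 1, 1)] (.node [(52, (-1), 1)] (.node [] (.node [] (.node [] (.node [(51, 1, 1)] .nil .nil) .nil) .nil) (.node [] (.node [] .nil (.node [(133, 1, 1)] .nil .nil)) (.node [] (.node [(95, (-1), 1)] .nil .nil) (.node [(190, (-1), 1)] .nil .nil)))) (.node [] (.node [(12, (-1), 1)] .nil (.node [(33, 1, 1)] .nil .nil)) (.node [(15, 1, 1)] (.node [(23, (-1), 1)] .nil .nil) .nil))) (.node [] (.node [] (.node [] .nil (.node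 [] .nil (.node [(157, (-1), 1)] .nil .nil))) (.node [] (.node [] (.node [(73, 1, 1)] .nil .nil) .nil) (.node [] .nil (.node [(216, 1, 1)] .nil .nil)))) (.node [] (.node [] (.node [] (.node [(61, (-1), 1)] .nil .nil) (.node [(0, (-1), 1), (1, (-1), 1), (2, (-2), 1), (3, (-3), 1), (4, (-2), 1), (5, (-1), 1), (6, (-1), 1), (52, (-1), 2)] .nil .nil)) .nil) (.node [] .nil (.node [] (.node [(111, (-1), 1)] .nil .nil) .nil))))) (.node [(52, (-1), 1)] (.node [] (.node [] (.node [] (.node [(16, 1, 1)] (.node [(53, 1, 1)] .nil .nil) .nil) .nil) (.node [] (.node [] (.node [(71, (-1), 1)] .nil .nil) .nil) .nil)) .nil) (.node [] (.node [] (.node [] (.node [] .nil (.node [(117, (-1), 1)] .nil .nil)) (.node [(31, (-1), 1)] (.node [(83, 1, 1)] .nil .nil) (.node [(159, 1, 1)] .nil .nil))) (.node [] (.node [] .nil (.node [(149, (-1), 1)] .nil .nil)) .nil)) (.node [] (.node [] (.node [] (.node [(63, 1, 1)] .nil .nil) (.node [(131, (-1), 1)] .nil .nil))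 (.node [] (.node [(93, 1, 1)] .nil .nil) .nil)) .nil)))) (.node [] (.node [] (.node [] (.node [] (.node [] (.node [] .nil (.node [(114, (-1), 1)] .nil .nil)) (.node [(26, (-1), 1)] (.node [(80, 1, 1)] .nil .nil) (.node [(154, 1, 1)] .nil .nil))) (.node [] (.node [] (.node [(68, 1, 1)] .nil .nil) (.node [(135, 1, 1)] .nil .nil)) (.node [] .nil (.node [(200, (-1), 1)] .nil .nil)))) (.node [] (.node [] .nil (.node [] .nil (.node [(168, 1, 1)] .nil .nil))) (.node [] .nil (.node [(47, (-1), 1)] (.node [(110, 1, 1)] .nil .nil) .nil)))) (.node [] (.node [] (.node [(11, (-1), 1)] .nil .nil) (.node [] .nil (.node [] .nil (.node [(219, 1, 1)] .nil .nil)))) (.node [] (.node [] (.node [(21, (-1), 1)] .nil (.node [(128, (-1), 1)] .nil .nil)) (.node [] (.node [(90, (-1), 1)] .nil .nil) (.node [(181, (-1), 1)] .nil .nil))) (.node [] .nil (.node [(50, 1, 1)] .nil .nil))))) (.node [(52, 1, 1)] (.node [] (.node [] (.node [(9, 1, 1)] (.node [] .nil (.node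 [(116, 1, 1)] .nil .nil)) (.node [(28, 1, 1)] (.node [(82, (-1), 1)] .nil .nil) .nil)) (.node [] (.node [] .nil (.node [(137, (-1), 1)] .nil .nil)) .nil)) (.node [] (.node [] (.node [(19, 1, 1)] (.node [(58, 1, 1)] .nil .nil) (.node [(126, (-1), 1)] .nil .nil)) (.node [(42, 1, 1)] .nil (.node [(179, 1, 1)] .nil .nil))) (.node [] .nil (.node [(48, (-1), 1)] .nil .nil)))) (.node [] (.node [] .nil (.node [] .nil (.node [(45, 1, 1)] (.node [(108, (-1), 1)] .nil .nil) (.node [(221, (-1), 1)] .nil .nil)))) (.node [] .nil (.node [] (.node [] .nil (.node [(152, (-1), 1)] .nil .nil)) .nil))))))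
def X45 : Tr (List (ℕ × ℤ × ℕ)) := (.node [] (.node [(53, (-1), 1)] (.node [(53, 1, 1)] (.node [] (.node [] (.node [] .nil (.node [] .nil (.node [(154, 1, 1)] .nil .nil))) (.node [] .nil (.node [] .nil (.node [(191, 1, 1)] .nil .nil)))) (.node [] .nil (.node [] .nil (.node [(47, 1, 1)] (.node [(110, 1, 1)] .nil .nil) .nil)))) (.node [] (.node [] (.node [(11, 1, 1)] .nil (.node [] .nil (.node [(158, 1, 1)] .nil .nil))) (.node [] .nil (.node [] .nil (.node [(217, (-1), 1)] .nil .nil)))) (.node [] (.node [] (.node [(21, 1, 1)] (.node [(62, (-1), 1)] .nil .nil) (.node [(129, (-1), 1)] .nil .nil)) (.node [] .nil (.node [(181, (-1), 1)] .nil .nil))) (.node [] .nil (.node [(50, (-1), 1)] .nil .nil))))) (.node [] (.node [] (.node [] (.node [] (.node [] .nil (.node [(116, 1, 1)] .nil .nil)) (.node [(28, (-1), 1)] (.node [(82, (-1), 1)] .nil .nil) .nil)) (.node [] (.node [] (.node [(72, (-1), 1)] .nil .nil) (.node [(137, (-1), 1)] .nil .nil)) .nil))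 .nil) (.node [] (.node [] (.node [] .nil (.node [(32, (-1), 1)] .nil .nil)) (.node [] .nil (.node [] .nil (.node [(221, (-1), 1)] .nil .nil)))) (.node [] (.node [] (.node [] .nil (.node [(132, 1, 1)] .nil .nil)) (.node [] (.node [(94, 1, 1)] .nil .nil) .nil)) (.node [] .nil (.node [(51, 1, 1)] .nil .nil)))))) (.node [] (.node [] (.node [] (.node [] (.node [] (.node [(16, (-1), 1)] .nil (.node [(115, (-1), 1)] .nil .nil)) (.node [(27, (-1), 1)] (.node [(81, 1, 1)] .nil .nil) .nil)) (.node [] (.node [] (.node [(69, 1, 1)] .nil .nil) (.node [(136, (-1), 1)] .nil .nil)) (.node [] .nil (.node [(201, 1, 1)] .nil .nil)))) (.node [] (.node [] .nil (.node [] .nil (.node [(169, (-1), 1)] .nil .nil))) .nil)) (.node [] (.node [] (.node [] (.node [] .nil (.node [(117, (-1), 1)] .nil .nil)) (.node [] (.node [(83, 1, 1)] .nil .nil) (.node [(159, 1, 1)] .nil .nil))) (.node [] (.node [] .nil (.node [(149, (-1), 1)] .nil .nil)) (.node [] .nil (.node [(220,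 (-1), 1)] .nil .nil)))) (.node [] (.node [] (.node [] (.node [(63, 1, 1)] .nil .nil) (.node [(130, (-1), 1)] .nil .nil)) (.node [] (.node [(91, (-1), 1)] .nil .nil) .nil)) .nil))) (.node [(53, (-1), 1)] (.node [] (.node [] (.node [(10, 1, 1)] .nil .nil) (.node [] (.node [] (.node [(73, 1, 1)] .nil .nil) .nil) .nil)) (.node [] (.node [] (.node [(20, 1, 1)] (.node [(59, 1, 1)] .nil .nil) (.node [(0, (-1), 1), (1, (-1), 1), (2, (-2), 1), (3, (-3), 1), (4, (-2), 1), (5, (-1), 1), (53, (-1), 2)] .nil .nil)) (.node [(43, 1, 1)] .nil (.node [(180, (-1), 1)] .nil .nil))) (.node [] .nil (.node [(49, (-1), 1)] (.node [(111, (-1), 1)] .nil .nil) .nil)))) (.node [] (.node [] (.node [(12, 1, 1)] .nil (.node [(33, (-1), 1)] .nil .nil)) (.node [(15, (-1), 1)] (.node [(23, 1, 1)] .nil .nil) (.node [(46, 1, 1)] (.node [(109, (-1), 1)] .nil .nil) .nil))) (.node [] (.node [] (.node [] .nil (.node [(133, 1, 1)] .nil .nil)) (.node [] (.node [(95, (-1), 1)]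 .nil .nil) .nil)) (.node [] (.node [] .nil (.node [(153, 1, 1)] .nil .nil)) (.node [(52, 1, 1)] .nil .nil)))))))
def X46 : Tr (List (ℕ × ℤ × ℕ)) := (.node [] (.node [] (.node [(54, (-1), 1)] (.node [] (.node [] (.node [] (.node [] .nil (.node [(112, (-1), 1)] .nil .nil)) (.node [(26, 1, 1)] (.node [(80, (-1), 1)] .nil .nil) .nil)) (.node [] (.node [] (.node [(64, 1, 1)] .nil .nil) (.node [(138, (-1), 1)] .nil .nil)) (.node [] (.node [(96, 1, 1)] .nil .nil) .nil))) (.node [] (.node [] (.node [] .nil (.node [(125, 1, 1)] .nil .nil)) (.node [(34, (-1), 1)] .nil (.node [(164, (-1), 1)] .nil .nil))) (.node [] .nil (.node [] .nil (.node [(223, 1, 1)] .nil .nil))))) (.node [] (.node [] (.node [] (.node [] .nil (.node [(119, (-1), 1)] .nil .nil)) .nil) (.node [] (.node [] (.node [(74, (-1), 1)] .nil .nil) (.node [(140, (-1), 1)] .nil .nil)) (.node [(44, 1, 1)] .nil .nil))) (.node [] (.node [(13, 1, 1)] .nil (.node [] (.node [(86, (-1), 1)] .nil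 .nil) .nil)) (.node [] (.node [(24, 1, 1)] .nil .nil) .nil)))) (.node [] (.node [] (.node [] (.node [(9, (-1), 1)] (.node [] (.node [(55, 1, 1)] .nil .nil) .nil) .nil) .nil) (.node [] (.node [] (.node [(19, (-1), 1)] (.node [(61, (-1), 1)] .nil .nil) (.node [(0, (-1), 1), (1, (-1), 1), (2, (-2), 1), (3, (-2), 1), (4, (-2), 1), (5, (-2), 1), (6, (-2), 1), (7, (-1), 1), (54, (-1), 2)] .nil .nil)) (.node [(38, (-1), 1)] (.node [(84, 1, 1)] .nil .nil) .nil)) (.node [] (.node [] .nil (.node [(150, 1, 1)] .nil .nil)) .nil))) (.node [] (.node [] (.node [] (.node [(17, (-1), 1)] (.node [(58, (-1), 1)] .nil .nil) (.node [(122, 1, 1)] .nil .nil)) (.node [] .nil (.node [(160, (-1), 1)] .nil .nil))) (.node [(15, 1, 1)] .nil (.node [(48, 1, 1)] (.node [(108, 1, 1)] .nil .nil) .nil))) (.node [] (.node [] .nil (.node [] .nil (.node [(183, 1, 1)] .nil .nil))) (.node [] (.node [] .nil (.node [(152, 1, 1)] .nil .nil)) .nil))))) (.node [(54, 1, 1)] (.node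 [] (.node [] (.node [] (.node [(8, (-1), 1)] .nil .nil) (.node [] .nil (.node [] (.node [(97, (-1), 1)] .nil .nil) (.node [(202, (-1), 1)] .nil .nil)))) (.node [] (.node [] (.node [(18, (-1), 1)] (.node [(60, 1, 1)] .nil .nil) (.node [(126, (-1), 1)] .nil .nil)) (.node [(35, (-1), 1)] .nil .nil)) .nil)) (.node [] (.node [] (.node [] (.node [] (.node [(57, 1, 1)] .nil .nil) .nil) .nil) (.node [] (.node [] (.node [(75, 1, 1)] .nil .nil) .nil) (.node [(45, 1, 1)] (.node [(107, (-1), 1)] .nil .nil) .nil))) (.node [] (.node [] .nil (.node [] .nil (.node [(182, 1, 1)] .nil .nil))) (.node [] (.node [] .nil (.node [(151, 1, 1)] .nil .nil)) .nil)))) (.node [(54, 1, 1)] (.node [] (.node [] (.node [] (.node [] (.node [(56, (-1), 1)] .nil .nil) (.node [(118, 1, 1)] .nil .nil)) .nil) (.node [] (.node [] .nil (.node [(139, (-1), 1)] .nil .nil)) (.node [] .nil (.node [(212, (-1), 1)] .nil .nil)))) .nil) (.node [] (.node [] (.node [] (.node [] .nil (.node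 [(123, (-1), 1)] .nil .nil)) (.node [] .nil (.node [(161, (-1), 1)] .nil .nil))) (.node [] .nil (.node [] .nil (.node [(222, 1, 1)] .nil .nil)))) (.node [] (.node [] .nil (.node [] .nil (.node [(186, 1, 1)] .nil .nil))) (.node [] (.node [(25, 1, 1)] (.node [(79, 1, 1)] .nil .nil) .nil) .nil))))))
def X47 : Tr (List (ℕ × ℤ × ℕ)) := (.node [] (.node [] (.node [(55, (-1), 1)] (.node [(55, 1, 1)] (.node [] (.node [(8, 1, 1)] .nil (.node [(27, 1, 1)] (.node [(81, (-1), 1)] .nil .nil) .nil)) (.node [] (.node [] (.node [(65, 1, 1)] .nil .nil) .nil) .nil)) (.node [] (.node [] (.node [(18, 1, 1)] (.node [(60, 1, 1)] .nil .nil) (.node [(127, (-1), 1)] .nil .nil)) (.node [] .nil (.node [(165, 1, 1)] .nil .nil))) (.node [] .nil (.node [] .nil (.node [(224, (-1), 1)] .nil .nil))))) (.node [] (.node [] (.node [] (.node [] (.node [(57, 1, 1)] .nil .nil) (.node [(120, (-1), 1)] .nil .nil)) .nil) (.node [] (.node [] .nil (.node [(141, 1, 1)] .nil .nil))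 (.node [] (.node [(107, (-1), 1)] .nil .nil) .nil))) (.node [] (.node [] .nil (.node [] (.node [(87, (-1), 1)] .nil .nil) (.node [(182, 1, 1)] .nil .nil))) (.node [] (.node [] .nil (.node [(151, 1, 1)] .nil .nil)) .nil)))) (.node [(55, 1, 1)] (.node [] (.node [] (.node [(10, (-1), 1)] (.node [] .nil (.node [(118, 1, 1)] .nil .nil)) .nil) (.node [] (.node [] .nil (.node [(139, (-1), 1)] .nil .nil)) .nil)) (.node [] (.node [] (.node [(20, (-1), 1)] (.node [(62, (-1), 1)] .nil .nil) (.node [(129, (-1), 1)] .nil .nil)) (.node [(39, (-1), 1)] .nil .nil)) .nil)) (.node [] (.node [] (.node [] (.node [] (.node [(59, (-1), 1)] .nil .nil) .nil) .nil) (.node [] .nil (.node [(49, 1, 1)] (.node [(109, 1, 1)] .nil .nil) (.node [(222, 1, 1)] .nil .nil)))) (.node [] (.node [] .nil (.node [] .nil (.node [(184, (-1), 1)] .nil .nil))) (.node [] (.node [(25, (-1), 1)] (.node [(79, 1, 1)] .nil .nil) (.node [(153, (-1), 1)] .nil .nil)) .nil))))) (.node [(55,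 1, 1)] (.node [] (.node [] (.node [] (.node [] (.node [] (.node [(56, 1, 1)] .nil .nil) .nil) .nil) (.node [] .nil (.node [] (.node [(98, (-1), 1)] .nil .nil) (.node [(203, 1, 1)] .nil .nil)))) (.node [] (.node [] (.node [] .nil (.node [(0, (-1), 1), (1, (-1), 1), (2, (-2), 1), (3, (-2), 1), (4, (-2), 1), (5, (-2), 1), (6, (-1), 1), (7, (-1), 1), (55, (-1), 2)] .nil .nil)) (.node [(36, (-1), 1)] (.node [(84, 1, 1)] .nil .nil) .nil)) (.node [] (.node [] .nil (.node [(150, 1, 1)] .nil .nil)) .nil))) (.node [] (.node [] (.node [] (.node [(17, 1, 1)] .nil (.node [(122, 1, 1)] .nil .nil)) (.node [] .nil (.node [(160, (-1), 1)] .nil .nil))) (.node [(15, (-1), 1)] (.node [] (.node [(76, 1, 1)] .nil .nil) .nil) (.node [(46, 1, 1)] .nil .nil))) .nil)) (.node [(55, (-1), 1)] (.node [] (.node [] .nil (.node [] (.node [] (.node [(74, (-1), 1)] .nil .nil) .nil) (.node [(44, (-1), 1)] .nil (.node [(213, 1, 1)] .nil .nil)))) (.node [] (.node [(13, (-1),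 1)] .nil .nil) (.node [] (.node [(24, (-1), 1)] .nil .nil) .nil))) (.node [] (.node [] (.node [] (.node [] .nil (.node [(124, (-1), 1)] .nil .nil)) (.node [(34, 1, 1)] .nil (.node [(162, 1, 1)] .nil .nil))) .nil) (.node [] (.node [] (.node [] .nil (.node [(138, (-1), 1)] .nil .nil)) (.node [] (.node [(96, 1, 1)] .nil .nil) (.node [(187, (-1), 1)] .nil .nil))) (.node [] .nil (.node [(54, 1, 1)] (.node [(112, (-1), 1)] .nil .nil) .nil)))))))
def X48 : Tr (List (ℕ × ℤ × ℕ)) := (.node [] (.node [] (.node [(56, (-1), 1)] (.node [(56, (-1), 1)] (.node [] (.node [(9, 1, 1)] (.node [] (.node [(55, 1, 1)] .nil .nil) .nil) (.node [(28, 1, 1)] .nil .nil)) (.node [] (.node [] (.node [(66, 1, 1)] .nil .nil) .nil) (.node [] (.node [(98, (-1), 1)] .nil .nil) .nil))) (.node [] (.node [] (.node [] (.node [(61, 1, 1)] .nil .nil) (.node [(0, (-1), 1), (1, (-1), 1), (2, (-2), 1), (3, (-2), 1), (4, (-2), 1), (5, (-2), 1), (6, (-1), 1), (56, (-1), 2)] .nil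 .nil)) (.node [] (.node [(84, 1, 1)] .nil .nil) (.node [(166, (-1), 1)] .nil .nil))) (.node [] (.node [] .nil (.node [(150, 1, 1)] .nil .nil)) .nil))) (.node [] (.node [] (.node [] (.node [(17, (-1), 1)] (.node [(58, 1, 1)] .nil .nil) .nil) (.node [] .nil (.node [(160, (-1), 1)] .nil .nil))) (.node [(15, 1, 1)] (.node [] (.node [(76, 1, 1)] .nil .nil) (.node [(142, (-1), 1)] .nil .nil)) (.node [] (.node [(108, (-1), 1)] .nil .nil) .nil))) (.node [] (.node [] .nil (.node [] (.node [(88, (-1), 1)] .nil .nil) .nil)) .nil))) (.node [(56, 1, 1)] (.node [] (.node [] (.node [] (.node [] .nil (.node [(119, 1, 1)] .nil .nil)) .nil) (.node [] .nil (.node [(44, 1, 1)] .nil .nil))) (.node [] (.node [(13, 1, 1)] (.node [(21, (-1), 1)] .nil (.node [(130, 1, 1)] .nil .nil)) (.node [(40, (-1), 1)] .nil .nil)) (.node [] (.node [(24, 1, 1)] .nil .nil) .nil))) (.node [] (.node [] (.node [] (.node [] .nil (.node [(124, (-1), 1)] .nil .nil)) (.node [(34,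 (-1), 1)] .nil .nil)) (.node [] .nil (.node [(50, 1, 1)] .nil (.node [(223, (-1), 1)] .nil .nil)))) (.node [] (.node [] (.node [] .nil (.node [(138, (-1), 1)] .nil .nil)) (.node [] .nil (.node [(185, 1, 1)] .nil .nil))) (.node [] (.node [] (.node [(80, 1, 1)] .nil .nil) (.node [(154, 1, 1)] .nil .nil)) (.node [(54, (-1), 1)] (.node [(112, (-1), 1)] .nil .nil) .nil)))))) (.node [(56, 1, 1)] (.node [] (.node [] (.node [] (.node [(10, 1, 1)] .nil .nil) (.node [] (.node [] .nil (.node [(139, (-1), 1)] .nil .nil)) (.node [] .nil (.node [(204, (-1), 1)] .nil .nil)))) (.node [] (.node [] (.node [] (.node [(62, (-1), 1)] .nil .nil) (.node [(128, (-1), 1)] .nil .nil)) (.node [(37, (-1), 1)] .nil .nil)) .nil)) (.node [] (.node [] (.node [] (.node [] (.node [(59, (-1), 1)] .nil .nil) (.node [(123, 1, 1)] .nil .nil)) .nil) (.node [] .nil (.node [(47, 1, 1)] (.node [(109, 1, 1)] .nil .nil) .nil))) (.node [] .nil (.node [] (.node [(25, 1, 1)] .nil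 .nil) .nil)))) (.node [] (.node [] (.node [] (.node [] (.node [] .nil (.node [(120, (-1), 1)] .nil .nil)) .nil) (.node [] (.node [] (.node [(75, (-1), 1)] .nil .nil) .nil) (.node [] .nil (.node [(214, (-1), 1)] .nil .nil)))) (.node [] (.node [] .nil (.node [] .nil (.node [(182, 1, 1)] .nil .nil))) (.node [] (.node [] .nil (.node [(151, 1, 1)] .nil .nil)) .nil))) (.node [] (.node [] (.node [] (.node [(18, (-1), 1)] .nil .nil) (.node [] .nil (.node [(163, (-1), 1)] .nil .nil))) (.node [] .nil (.node [] .nil (.node [(224, (-1), 1)] .nil .nil)))) (.node [] (.node [] .nil (.node [] (.node [(97, 1, 1)] .nil .nil) (.node [(188, 1, 1)] .nil .nil))) (.node [] (.node [] (.node [(81, (-1), 1)] .nil .nil) .nil) .nil))))))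
def X49 : Tr (List (ℕ × ℤ × ℕ)) := (.node [] (.node [] (.node [(57, (-1), 1)] (.node [(57, 1, 1)] (.node [] (.node [] .nil (.node [] (.node [(82, (-1), 1)] .nil .nil) .nil)) (.node [] (.node [] (.node [(67, 1, 1)] .nil .nil) .nil) .nil)) (.node [] (.node [] (.node [(19, 1, 1)] .nil .nil) (.node [(36, 1, 1)] .nil (.node [(167, (-1), 1)] .nil .nil))) (.node [] .nil (.node [] .nil (.node [(225, 1, 1)] .nil .nil))))) (.node [] (.node [] (.node [] (.node [] .nil (.node [(121, (-1), 1)] .nil .nil)) .nil) (.node [] .nil (.node [(46, (-1), 1)] .nil .nil))) (.node [] (.node [] .nil (.node [] (.node [(89, (-1), 1)] .nil .nil) (.node [(183, (-1), 1)] .nil .nil))) (.node [] (.node [] .nil (.node [(152, (-1), 1)] .nil .nil)) (.node [(54, 1, 1)] .nil .nil))))) (.node [(57, (-1), 1)] (.node [] (.node [] (.node [(11, (-1), 1)] .nil .nil) (.node [] (.node [] (.node [(74, (-1), 1)] .nil .nil) (.node [(140, 1, 1)] .nil .nil)) .nil)) (.node [] (.node []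 (.node [] (.node [(63, (-1), 1)] .nil .nil) (.node [(132, (-1), 1)] .nil .nil)) (.node [(41, (-1), 1)] .nil .nil)) .nil)) (.node [] (.node [] (.node [] (.node [] .nil (.node [(127, (-1), 1)] .nil .nil)) (.node [] .nil (.node [(162, 1, 1)] .nil .nil))) (.node [] .nil (.node [(51, 1, 1)] (.node [(110, 1, 1)] .nil .nil) .nil))) (.node [] (.node [] .nil (.node [] (.node [(96, 1, 1)] .nil .nil) .nil)) (.node [] (.node [(26, (-1), 1)] .nil .nil) .nil))))) (.node [(57, 1, 1)] (.node [(57, 1, 1)] (.node [] (.node [] (.node [] (.node [] (.node [(58, 1, 1)] .nil .nil) (.node [(118, 1, 1)] .nil .nil)) .nil) (.node [] .nil (.node [] (.node [(99, (-1), 1)] .nil .nil) (.node [(205, (-1), 1)] .nil .nil)))) (.node [] (.node [(13, 1, 1)] (.node [(20, 1, 1)] .nil (.node [(131, (-1), 1)] .nil .nil)) .nil) (.node [] (.node [(24, 1, 1)] .nil .nil) .nil))) (.node [] (.node [] (.node [] (.node [] .nil (.node [(125, (-1), 1)] .nil .nil)) (.node [] .nil (.node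 [(161, 1, 1)] .nil .nil))) (.node [] (.node [] (.node [(77, 1, 1)] .nil .nil) .nil) (.node [] .nil (.node [(222, 1, 1)] .nil .nil)))) (.node [] (.node [] (.node [] .nil (.node [(138, (-1), 1)] .nil .nil)) (.node [] .nil (.node [(184, (-1), 1)] .nil .nil))) (.node [] (.node [] (.node [(79, 1, 1)] .nil .nil) (.node [(153, (-1), 1)] .nil .nil)) (.node [(55, 1, 1)] (.node [(112, (-1), 1)] .nil .nil) .nil))))) (.node [] (.node [] (.node [] (.node [] (.node [(17, (-1), 1)] (.node [(59, 1, 1)] .nil .nil) .nil) .nil) (.node [(15, 1, 1)] (.node [] .nil (.node [(141, 1, 1)] .nil .nil)) (.node [(45, (-1), 1)] (.node [(107, (-1), 1)] .nil .nil) (.node [(215, (-1), 1)] .nil .nil)))) .nil) (.node [] (.node [] (.node [] (.node [] (.node [(60, 1, 1)] .nil .nil) (.node [(0, (-1), 1), (1, (-1), 1), (2, (-2), 1), (3, (-2), 1), (4, (-2), 1), (5, (-1), 1), (6, (-1), 1), (7, (-1), 1), (57, (-1), 2)] .nil .nil)) (.node [(35, 1, 1)] (.node [(84, 1, 1)] .nil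 .nil) .nil)) (.node [] (.node [] .nil (.node [(150, 1, 1)] .nil .nil)) .nil)) (.node [(8, (-1), 1)] (.node [] .nil (.node [] .nil (.node [(189, 1, 1)] .nil .nil))) (.node [] (.node [(27, (-1), 1)] .nil .nil) .nil))))))
def X50 : Tr (List (ℕ × ℤ × ℕ)) := (.node [] (.node [] (.node [(58, (-1), 1)] (.node [(58, (-1), 1)] (.node [] (.node [] (.node [] (.node [(57, 1, 1)] .nil .nil) .nil) .nil) (.node [] (.node [] (.node [(68, 1, 1)] .nil .nil) .nil) (.node [] (.node [(99, (-1), 1)] .nil .nil) .nil))) (.node [] (.node [(13, (-1), 1)] (.node [] .nil (.node [(131, (-1), 1)] .nil .nil)) (.node [(37, 1, 1)] .nil (.node [(168, 1, 1)] .nil .nil))) (.node [] (.node [(24, (-1), 1)] .nil .nil) .nil))) (.node [] (.node [] (.node [] .nil (.node [] .nil (.node [(161, 1, 1)] .nil .nil))) (.node [] (.node [] (.node [(77, 1, 1)] .nil .nil) .nil) (.node [(47, (-1), 1)] .nil .nil))) (.node [] (.node [] (.node [] .nil (.node [(138, (-1), 1)] .nil .nil)) (.node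 [] (.node [(90, (-1), 1)] .nil .nil) .nil)) (.node [] .nil (.node [] (.node [(112, (-1), 1)] .nil .nil) .nil))))) (.node [(58, (-1), 1)] (.node [] (.node [] (.node [] (.node [(17, 1, 1)] (.node [(59, 1, 1)] .nil .nil) .nil) .nil) (.node [(15, (-1), 1)] (.node [] (.node [(75, (-1), 1)] .nil .nil) .nil) (.node [(45, 1, 1)] .nil .nil))) (.node [] (.node [] (.node [] .nil (.node [(133, 1, 1)] .nil .nil)) (.node [(42, (-1), 1)] .nil .nil)) .nil)) (.node [] (.node [] (.node [] (.node [] .nil (.node [(0, (-1), 1), (1, (-1), 1), (2, (-2), 1), (3, (-2), 1), (4, (-2), 1), (5, (-1), 1), (6, (-1), 1), (58, (-1), 2)] .nil .nil)) (.node [(35, (-1), 1)] (.node [(84, 1, 1)] .nil .nil) (.node [(163, (-1), 1)] .nil .nil))) (.node [] (.node [] .nil (.node [(150, 1, 1)] .nil .nil)) (.node [(52, 1, 1)] .nil .nil))) (.node [] (.node [] .nil (.node [] (.node [(97, 1, 1)] .nil .nil) .nil)) .nil)))) (.node [(58, 1, 1)] (.node [(58, 1, 1)] (.node [] (.node []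 (.node [(11, 1, 1)] (.node [] .nil (.node [(119, 1, 1)] .nil .nil)) .nil) (.node [] (.node [] .nil (.node [(140, 1, 1)] .nil .nil)) (.node [] .nil (.node [(206, 1, 1)] .nil .nil)))) (.node [] (.node [] (.node [(21, 1, 1)] (.node [(63, (-1), 1)] .nil .nil) .nil) .nil) .nil)) (.node [] (.node [] (.node [] (.node [] .nil (.node [(126, (-1), 1)] .nil .nil)) .nil) (.node [] .nil (.node [] (.node [(110, 1, 1)] .nil .nil) (.node [(223, (-1), 1)] .nil .nil)))) (.node [] (.node [] .nil (.node [] .nil (.node [(185, 1, 1)] .nil .nil))) (.node [] (.node [(26, 1, 1)] (.node [(80, 1, 1)] .nil .nil) (.node [(154, 1, 1)] .nil .nil)) (.node [(56, 1, 1)] .nil .nil))))) (.node [(58, 1, 1)] (.node [] (.node [] (.node [] (.node [] .nil (.node [(121, (-1), 1)] .nil .nil)) .nil) (.node [] (.node [] .nil (.node [(142, (-1), 1)] .nil .nil)) (.node [] (.node [(108, (-1), 1)] .nil .nil) (.node [(216, 1, 1)] .nil .nil)))) (.node [] (.node [] .nil (.node [] .nil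 (.node [(183, (-1), 1)] .nil .nil))) (.node [] (.node [] .nil (.node [(152, (-1), 1)] .nil .nil)) (.node [(54, (-1), 1)] .nil .nil)))) (.node [] (.node [] (.node [] (.node [(19, (-1), 1)] (.node [(61, 1, 1)] .nil .nil) (.node [(128, (-1), 1)] .nil .nil)) .nil) (.node [] .nil (.node [] .nil (.node [(225, 1, 1)] .nil .nil)))) (.node [(9, (-1), 1)] (.node [] .nil (.node [] .nil (.node [(190, (-1), 1)] .nil .nil))) (.node [] (.node [(28, (-1), 1)] (.node [(82, (-1), 1)] .nil .nil) .nil) .nil))))))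
def X51 : Tr (List (ℕ × ℤ × ℕ)) := (.node [] (.node [] (.node [(59, (-1), 1)] (.node [] (.node [] (.node [(11, (-1), 1)] .nil .nil) (.node [] (.node [] (.node [(69, 1, 1)] .nil .nil) .nil) .nil)) (.node [] (.node [] (.node [(21, (-1), 1)] (.node [(63, (-1), 1)] .nil .nil) (.node [(132, 1, 1)] .nil .nil)) (.node [] .nil (.node [(169, (-1), 1)] .nil .nil))) .nil)) (.node [] (.node [] (.node [] .nil (.node [] .nil (.node [(162, (-1), 1)] .nil .nil))) (.node [] .nil (.node [] (.node [(110, 1, 1)] .nil .nil) .nil))) (.node [] (.node [] .nil (.node [] (.node [(91, (-1), 1)] .nil .nil) (.node [(185, 1, 1)] .nil .nil))) (.node [] (.node [] .nil (.node [(154, 1, 1)] .nil .nil)) (.node [(56, (-1), 1)] .nil .nil))))) (.node [] (.node [] (.node [] (.node [] (.node [] .nil (.node [(121, (-1), 1)] .nil .nil)) .nil) (.node [] (.node [] (.node [(76, (-1), 1)] .nil .nil) (.node [(142, (-1), 1)] .nil .nil)) (.node [(46, 1, 1)] .nil .nil))) (.node [] (.node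 [] .nil (.node [(43, (-1), 1)] .nil .nil)) .nil)) (.node [] (.node [] (.node [] (.node [] .nil (.node [(129, (-1), 1)] .nil .nil)) (.node [(36, (-1), 1)] .nil .nil)) (.node [] .nil (.node [(53, 1, 1)] .nil (.node [(225, 1, 1)] .nil .nil)))) (.node [] (.node [] .nil (.node [] (.node [(98, 1, 1)] .nil .nil) .nil)) (.node [] (.node [(28, 1, 1)] (.node [(82, (-1), 1)] .nil .nil) .nil) (.node [(57, 1, 1)] .nil .nil)))))) (.node [(59, 1, 1)] (.node [(59, 1, 1)] (.node [] (.node [] (.node [] (.node [(17, (-1), 1)] .nil (.node [(120, 1, 1)] .nil .nil)) .nil) (.node [(15, 1, 1)] (.node [] .nil (.node [(141, (-1), 1)] .nil .nil)) (.node [] .nil (.node [(207, (-1), 1)] .nil .nil)))) (.node [] (.node [] (.node [] .nil (.node [(133, 1, 1)] .nil .nil)) .nil) .nil)) (.node [] (.node [] (.node [] (.node [] .nil (.node [(0, (-1), 1), (1, (-1), 1), (2, (-2), 1), (3, (-2), 1), (4, (-2), 1), (5, (-1), 1), (59, (-1), 2)] .nil .nil)) (.node [] (.node [(84,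 1, 1)] .nil .nil) (.node [(163, (-1), 1)] .nil .nil))) (.node [] (.node [] .nil (.node [(150, 1, 1)] .nil .nil)) (.node [] .nil (.node [(224, 1, 1)] .nil .nil)))) (.node [] .nil (.node [] (.node [(27, 1, 1)] (.node [(81, 1, 1)] .nil .nil) .nil) .nil)))) (.node [(59, (-1), 1)] (.node [] (.node [] .nil (.node [] (.node [] (.node [(77, 1, 1)] .nil .nil) .nil) (.node [(47, 1, 1)] (.node [(109, (-1), 1)] .nil .nil) (.node [(217, (-1), 1)] .nil .nil)))) (.node [] (.node [] (.node [] .nil (.node [(138, (-1), 1)] .nil .nil)) (.node [] .nil (.node [(184, 1, 1)] .nil .nil))) (.node [] (.node [] .nil (.node [(153, 1, 1)] .nil .nil)) (.node [(55, (-1), 1)] (.node [(112, (-1), 1)] .nil .nil) .nil)))) (.node [] (.node [] (.node [(13, 1, 1)] (.node [(20, (-1), 1)] (.node [(62, 1, 1)] .nil .nil) (.node [(130, (-1), 1)] .nil .nil)) (.node [(37, (-1), 1)] .nil .nil)) (.node [] (.node [(24, 1, 1)] .nil .nil) .nil)) (.node [(10, (-1), 1)] (.node [] .nil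 (.node [] (.node [(99, (-1), 1)] .nil .nil) (.node [(191, 1, 1)] .nil .nil))) (.node [] .nil (.node [(58, 1, 1)] .nil .nil)))))))
def X52 : Tr (List (ℕ × ℤ × ℕ)) := (.node [] (.node [] (.node [] (.node [(60, 1, 1)] (.node [] (.node [] .nil (.node [] (.node [(83, (-1), 1)] .nil .nil) .nil)) (.node [(15, (-1), 1)] (.node [] (.node [(70, 1, 1)] .nil .nil) (.node [(141, 1, 1)] .nil .nil)) .nil)) (.node [] (.node [] .nil (.node [(39, 1, 1)] .nil .nil)) (.node [] .nil (.node [(54, 1, 1)] .nil (.node [(226, (-1), 1)] .nil .nil))))) (.node [] (.node [] (.node [] (.node [] .nil (.node [(0, (-1), 1), (1, (-1), 1), (2, (-2), 1), (3, (-2), 1), (4, (-1), 1), (5, (-1), 1), (6, (-1), 1), (7, (-1), 1), (60, (-1), 2)] .nil .nil)) (.node [] (.node [(84, 1, 1)] .nil .nil) .nil)) (.node [] .nil (.node [(49, (-1), 1)] .nil (.node [(222, 1, 1)] .nil .nil)))) (.node [] (.node [] .nil (.node [] (.node [(92, (-1), 1)] .nil .nil) (.node [(186, 1, 1)] .nil .nil)))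 (.node [] (.node [(27, 1, 1)] (.node [(79, 1, 1)] .nil .nil) .nil) .nil)))) (.node [] (.node [] (.node [] (.node [(12, (-1), 1)] (.node [] .nil (.node [(125, (-1), 1)] .nil .nil)) .nil) (.node [] .nil (.node [] (.node [(107, (-1), 1)] .nil .nil) .nil))) (.node [] (.node [] (.node [] .nil (.node [(136, (-1), 1)] .nil .nil)) .nil) (.node [] (.node [] .nil (.node [(153, (-1), 1)] .nil .nil)) (.node [(57, 1, 1)] (.node [(112, (-1), 1)] .nil .nil) .nil)))) (.node [] (.node [] (.node [(13, (-1), 1)] (.node [(20, (-1), 1)] (.node [(63, 1, 1)] .nil .nil) .nil) (.node [] .nil (.node [(165, (-1), 1)] .nil .nil))) (.node [] .nil (.node [] (.node [(111, 1, 1)] .nil .nil) .nil))) (.node [(8, 1, 1)] (.node [] .nil (.node [] .nil (.node [(189, 1, 1)] .nil .nil))) .nil)))) (.node [(60, 1, 1)] (.node [(60, (-1), 1)] (.node [] (.node [] (.node [] (.node [] (.node [(61, 1, 1)] .nil .nil) (.node [(122, (-1), 1)] .nil .nil)) .nil) (.node [] (.node [] (.node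 [(74, (-1), 1)] .nil .nil) .nil) (.node [] (.node [(100, (-1), 1)] .nil .nil) (.node [(208, 1, 1)] .nil .nil)))) (.node [] (.node [] (.node [] .nil (.node [(135, (-1), 1)] .nil .nil)) (.node [(41, 1, 1)] .nil .nil)) (.node [] (.node [(25, 1, 1)] .nil (.node [(152, (-1), 1)] .nil .nil)) (.node [(55, 1, 1)] .nil .nil)))) (.node [] (.node [] (.node [] (.node [(19, (-1), 1)] .nil .nil) (.node [] .nil (.node [(164, (-1), 1)] .nil .nil))) (.node [] (.node [] (.node [(78, 1, 1)] .nil .nil) .nil) (.node [(51, (-1), 1)] .nil .nil))) (.node [] (.node [] (.node [] .nil (.node [(139, 1, 1)] .nil .nil)) (.node [] (.node [(96, 1, 1)] .nil .nil) (.node [(187, 1, 1)] .nil .nil))) .nil))) (.node [] (.node [] (.node [] (.node [] (.node [(18, (-1), 1)] (.node [(62, 1, 1)] .nil .nil) (.node [(127, (-1), 1)] .nil .nil)) .nil) (.node [] .nil (.node [(48, (-1), 1)] .nil (.node [(218, 1, 1)] .nil .nil)))) (.node [] .nil (.node [] (.node [(26, 1, 1)] .nil .nil)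 .nil))) (.node [] (.node [] (.node [] (.node [] .nil (.node [(134, (-1), 1)] .nil .nil)) (.node [(38, 1, 1)] .nil (.node [(167, (-1), 1)] .nil .nil))) (.node [] (.node [] .nil (.node [(151, (-1), 1)] .nil .nil)) .nil)) (.node [] (.node [] (.node [] .nil (.node [(140, 1, 1)] .nil .nil)) .nil) .nil)))))
def X53 : Tr (List (ℕ × ℤ × ℕ)) := (.node [] (.node [] (.node [] (.node [(61, (-1), 1)] (.node [] (.node [] (.node [] (.node [(60, 1, 1)] .nil .nil) .nil) .nil) (.node [] (.node [] (.node [(71, 1, 1)] .nil .nil) (.node [(142, (-1), 1)] .nil .nil)) (.node [] (.node [(100, (-1), 1)] .nil .nil) .nil))) (.node [] (.node [] (.node [] .nil (.node [(135, (-1), 1)] .nil .nil)) (.node [(40, 1, 1)] .nil .nil)) (.node [] (.node [(25, (-1), 1)] .nil (.node [(152, (-1), 1)] .nil .nil)) .nil))) (.node [] (.node [] (.node [] (.node [(19, 1, 1)] .nil (.node [(128, (-1), 1)] .nil .nil)) (.node [] .nil (.node [(164, (-1), 1)] .nil .nil))) (.node [] (.node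 [] (.node [(78, 1, 1)] .nil .nil) .nil) (.node [(50, (-1), 1)] .nil (.node [(223, (-1), 1)] .nil .nil)))) (.node [] (.node [] (.node [] .nil (.node [(139, 1, 1)] .nil .nil)) (.node [] (.node [(93, (-1), 1)] .nil .nil) .nil)) (.node [] (.node [(28, 1, 1)] (.node [(80, 1, 1)] .nil .nil) .nil) .nil)))) (.node [] (.node [] (.node [] (.node [] (.node [(18, 1, 1)] (.node [(62, 1, 1)] .nil .nil) (.node [(126, (-1), 1)] .nil .nil)) .nil) (.node [] .nil (.node [(48, 1, 1)] (.node [(108, (-1), 1)] .nil .nil) .nil))) (.node [] (.node [] (.node [] .nil (.node [(137, 1, 1)] .nil .nil)) .nil) (.node [] (.node [(26, (-1), 1)] .nil (.node [(154, 1, 1)] .nil .nil)) (.node [(58, 1, 1)] .nil .nil)))) (.node [] (.node [] (.node [] (.node [(21, (-1), 1)] .nil (.node [(134, (-1), 1)] .nil .nil)) (.node [(38, (-1), 1)] .nil (.node [(166, 1, 1)] .nil .nil))) (.node [] (.node [] .nil (.node [(151, (-1), 1)] .nil .nil)) .nil)) (.node [(9, 1, 1)] (.node [] (.node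 [] .nil (.node [(140, 1, 1)] .nil .nil)) (.node [] .nil (.node [(190, (-1), 1)] .nil .nil))) .nil)))) (.node [(61, 1, 1)] (.node [(61, (-1), 1)] (.node [] (.node [] (.node [(12, 1, 1)] (.node [] .nil (.node [(123, (-1), 1)] .nil .nil)) .nil) (.node [] (.node [] (.node [(75, (-1), 1)] .nil .nil) .nil) (.node [] .nil (.node [(209, (-1), 1)] .nil .nil)))) (.node [] (.node [] .nil (.node [(42, 1, 1)] .nil .nil)) (.node [] .nil (.node [(56, 1, 1)] (.node [(112, (-1), 1)] .nil .nil) .nil)))) (.node [] (.node [] (.node [(13, 1, 1)] (.node [] (.node [(63, 1, 1)] .nil .nil) .nil) .nil) (.node [] .nil (.node [(52, (-1), 1)] (.node [(111, 1, 1)] .nil .nil) .nil))) (.node [] (.node [] .nil (.node [] (.node [(97, 1, 1)] .nil .nil) (.node [(188, (-1), 1)] .nil .nil))) .nil))) (.node [(61, 1, 1)] (.node [] (.node [] (.node [] (.node [] .nil (.node [(0, (-1), 1), (1, (-1), 1), (2, (-2), 1), (3, (-2), 1), (4, (-1), 1), (5, (-1), 1), (6, (-1), 1), (61,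 (-1), 2)] .nil .nil)) (.node [] (.node [(84, 1, 1)] .nil .nil) .nil)) (.node [] .nil (.node [] .nil (.node [(219, (-1), 1)] .nil .nil)))) (.node [] (.node [] .nil (.node [] .nil (.node [(186, 1, 1)] .nil .nil))) .nil)) (.node [] (.node [] (.node [] .nil (.node [] .nil (.node [(168, 1, 1)] .nil .nil))) (.node [] .nil (.node [(54, (-1), 1)] .nil (.node [(226, (-1), 1)] .nil .nil)))) (.node [] (.node [(15, 1, 1)] .nil .nil) (.node [] (.node [] (.node [(83, (-1), 1)] .nil .nil) .nil) .nil))))))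
def X54 : Tr (List (ℕ × ℤ × ℕ)) := (.node [] (.node [] (.node [] (.node [] (.node [] (.node [(12, (-1), 1)] .nil .nil) (.node [] (.node [] (.node [(72, 1, 1)] .nil .nil) .nil) .nil)) (.node [] (.node [] (.node [] .nil (.node [(136, 1, 1)] .nil .nil)) .nil) (.node [] (.node [] .nil (.node [(153, 1, 1)] .nil .nil)) (.node [(56, (-1), 1)] (.node [(112, (-1), 1)] .nil .nil) .nil)))) (.node [] (.node [] (.node [(13, (-1), 1)] (.node [(20, 1, 1)] (.node [(63, 1, 1)] .nil .nil) (.node [(130, (-1), 1)] .nil .nil)) (.node [] .nil (.node [(165, 1, 1)] .nil .nil))) (.node [] .nil (.node [] (.node [(111, 1, 1)] .nil .nil) (.node [(224, 1, 1)] .nil .nil)))) (.node [] (.node [] .nil (.node [] (.node [(94, (-1), 1)] .nil .nil) (.node [(188, (-1), 1)] .nil .nil))) (.node [] (.node [] (.node [(81, 1, 1)] .nil .nil) .nil) .nil)))) (.node [(62, 1, 1)] (.node [] (.node [] (.node [] (.node [] .nil (.node [(0, (-1), 1), (1, (-1), 1), (2, (-2), 1), (3, (-2),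 1), (4, (-1), 1), (5, (-1), 1), (62, (-1), 2)] .nil .nil)) (.node [] (.node [(84, 1, 1)] .nil .nil) .nil)) (.node [] .nil (.node [(49, 1, 1)] (.node [(109, (-1), 1)] .nil .nil) .nil))) (.node [] .nil (.node [] (.node [(27, (-1), 1)] .nil .nil) (.node [(59, 1, 1)] .nil .nil)))) (.node [] (.node [] (.node [] .nil (.node [(39, (-1), 1)] .nil .nil)) (.node [] .nil (.node [] .nil (.node [(226, (-1), 1)] .nil .nil)))) (.node [(10, 1, 1)] (.node [(15, (-1), 1)] (.node [] .nil (.node [(141, (-1), 1)] .nil .nil)) (.node [] .nil (.node [(191, 1, 1)] .nil .nil))) (.node [] (.node [] (.node [(83, (-1), 1)] .nil .nil) .nil) (.node [(60, 1, 1)] .nil .nil)))))) (.node [(62, 1, 1)] (.node [(62, (-1), 1)] (.node [] (.node [] (.node [] (.node [(18, (-1), 1)] .nil (.node [(124, (-1), 1)] .nil .nil)) .nil) (.node [] (.node [] (.node [(76, (-1), 1)] .nil .nil) .nil) (.node [] .nil (.node [(210, 1, 1)] .nil .nil)))) (.node [] (.node [] (.node [] .nil (.node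 [(137, 1, 1)] .nil .nil)) (.node [(43, 1, 1)] .nil .nil)) (.node [] (.node [] .nil (.node [(154, 1, 1)] .nil .nil)) .nil))) (.node [] (.node [] (.node [] (.node [(21, 1, 1)] .nil (.node [(134, (-1), 1)] .nil .nil)) (.node [] .nil (.node [(166, 1, 1)] .nil .nil))) (.node [] (.node [] .nil (.node [(151, (-1), 1)] .nil .nil)) (.node [(53, (-1), 1)] .nil .nil))) (.node [] (.node [] .nil (.node [] (.node [(98, 1, 1)] .nil .nil) .nil)) .nil))) (.node [(62, (-1), 1)] (.node [] (.node [] (.node [] (.node [] .nil (.node [(129, (-1), 1)] .nil .nil)) .nil) (.node [] (.node [] (.node [(78, 1, 1)] .nil .nil) .nil) (.node [(50, 1, 1)] .nil (.node [(220, 1, 1)] .nil .nil)))) (.node [] (.node [] (.node [] .nil (.node [(139, 1, 1)] .nil .nil)) (.node [] .nil (.node [(187, (-1), 1)] .nil .nil))) (.node [] (.node [(28, (-1), 1)] .nil .nil) .nil))) (.node [] (.node [] (.node [] .nil (.node [(40, (-1), 1)] .nil (.node [(169, (-1), 1)] .nil .nil))) (.node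 [] (.node [(25, 1, 1)] .nil .nil) (.node [(55, (-1), 1)] .nil .nil))) (.node [] (.node [] (.node [] .nil (.node [(142, (-1), 1)] .nil .nil)) (.node [] (.node [(100, (-1), 1)] .nil .nil) .nil)) (.node [] .nil (.node [(61, 1, 1)] .nil .nil)))))))
def X55 : Tr (List (ℕ × ℤ × ℕ)) := (.node [] (.node [] (.node [] (.node [] (.node [] .nil (.node [] (.node [] (.node [(73, 1, 1)] .nil .nil) .nil) .nil)) (.node [] (.node [] .nil (.node [(43, (-1), 1)] .nil .nil)) (.node [] (.node [(27, 1, 1)] .nil .nil) (.node [(58, (-1), 1)] .nil .nil)))) (.node [] (.node [] (.node [] (.node [] .nil (.node [(133, (-1), 1)] .nil .nil)) (.node [] .nil (.node [(167, (-1), 1)] .nil .nil))) (.node [] .nil (.node [(53, 1, 1)] .nil (.node [(225, (-1), 1)] .nil .nil)))) (.node [] (.node [] (.node [] .nil (.node [(141, (-1), 1)] .nil .nil)) (.node [] (.node [(95, (-1), 1)] .nil .nil) (.node [(190, 1, 1)] .nil .nil))) (.node [] (.node [] (.node [(82, 1, 1)] .nil .nil)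 .nil) (.node [(61, 1, 1)] .nil .nil))))) (.node [(63, (-1), 1)] (.node [] (.node [] (.node [] (.node [(20, (-1), 1)] .nil (.node [(131, (-1), 1)] .nil .nil)) .nil) (.node [] (.node [] (.node [(78, 1, 1)] .nil .nil) .nil) (.node [(51, 1, 1)] (.node [(110, (-1), 1)] .nil .nil) .nil))) .nil) (.node [] (.node [] (.node [] (.node [] .nil (.node [(136, 1, 1)] .nil .nil)) (.node [(41, (-1), 1)] .nil (.node [(169, (-1), 1)] .nil .nil))) (.node [] (.node [] .nil (.node [(153, 1, 1)] .nil .nil)) .nil)) (.node [(11, 1, 1)] (.node [] .nil (.node [] (.node [(100, (-1), 1)] .nil .nil) .nil)) .nil)))) (.node [(63, 1, 1)] (.node [] (.node [] (.node [] (.node [] (.node [(19, (-1), 1)] .nil (.node [(0, (-1), 1), (1, (-1), 1), (2, (-2), 1), (3, (-2), 1), (4, (-1), 1), (63, (-1), 2)] .nil .nil)) (.node [] (.node [(84, 1, 1)] .nil .nil) .nil)) (.node [] (.node [] (.node [(77, (-1), 1)] .nil .nil) .nil) (.node [] .nil (.node [(211, (-1), 1)] .nil .nil))))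 (.node [] .nil (.node [] (.node [(28, 1, 1)] .nil .nil) (.node [(59, (-1), 1)] .nil .nil)))) (.node [] (.node [] (.node [] (.node [] .nil (.node [(135, 1, 1)] .nil .nil)) (.node [] .nil (.node [(168, (-1), 1)] .nil .nil))) (.node [] (.node [] .nil (.node [(152, 1, 1)] .nil .nil)) (.node [] .nil (.node [(226, (-1), 1)] .nil .nil)))) (.node [] (.node [(15, 1, 1)] (.node [] .nil (.node [(142, (-1), 1)] .nil .nil)) (.node [] (.node [(99, 1, 1)] .nil .nil) (.node [(191, 1, 1)] .nil .nil))) (.node [] (.node [] (.node [(83, (-1), 1)] .nil .nil) .nil) (.node [(62, 1, 1)] .nil .nil))))) (.node [] (.node [] (.node [] (.node [(13, 1, 1)] (.node [(21, (-1), 1)] .nil (.node [(132, (-1), 1)] .nil .nil)) .nil) (.node [] .nil (.node [(52, 1, 1)] (.node [(111, 1, 1)] .nil .nil) (.node [(221, (-1), 1)] .nil .nil)))) (.node [] (.node [] (.node [] .nil (.node [(140, (-1), 1)] .nil .nil)) (.node [] .nil (.node [(189, 1, 1)] .nil .nil))) (.node [] .nil (.node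 [(60, 1, 1)] .nil .nil)))) (.node [] (.node [] (.node [] (.node [] .nil (.node [(137, 1, 1)] .nil .nil)) (.node [(42, (-1), 1)] .nil .nil)) (.node [] (.node [(26, 1, 1)] .nil (.node [(154, 1, 1)] .nil .nil)) (.node [(57, (-1), 1)] (.node [(112, (-1), 1)] .nil .nil) .nil))) (.node [(12, 1, 1)] .nil .nil)))))
def X56 : Tr (List (ℕ × ℤ × ℕ)) := (.node [(64, 1, 1)] (.node [] (.node [] (.node [] (.node [] (.node [] (.node [(19, 1, 1)] .nil (.node [(0, (-1), 1), (1, (-1), 1), (2, (-1), 1), (3, (-2), 1), (4, (-2), 1), (5, (-2), 1), (6, (-2), 1), (7, (-1), 1), (64, (-1), 2)] .nil .nil)) (.node [(31, 1, 1)] .nil .nil)) (.node [] (.node [] .nil (.node [(144, (-1), 1)] .nil .nil)) (.node [(48, 1, 1)] (.node [(101, 1, 1)] .nil .nil) (.node [(202, (-1), 1)] .nil .nil)))) (.node [] .nil (.node [] .nil (.node [] .nil (.node [(228, (-1), 1)] .nil .nil))))) (.node [] (.node [] (.node [] .nil (.node [(35, 1, 1)] .nil .nil)) (.node [] (.node [] .nil (.node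 [(146, (-1), 1)] .nil .nil)) .nil)) (.node [(8, 1, 1)] (.node [(14, 1, 1)] .nil .nil) (.node [(17, 1, 1)] (.node [(29, 1, 1)] .nil .nil) (.node [] (.node [(122, 1, 1)] .nil .nil) .nil))))) (.node [] (.node [] (.node [] (.node [] (.node [] (.node [(65, 1, 1)] .nil .nil) .nil) (.node [] .nil (.node [(161, (-1), 1)] .nil .nil))) (.node [] .nil (.node [] .nil (.node [(212, (-1), 1)] .nil .nil)))) (.node [] (.node [] (.node [] (.node [(71, (-1), 1)] .nil .nil) (.node [(143, (-1), 1)] .nil .nil)) (.node [] (.node [(85, 1, 1)] .nil .nil) .nil)) (.node [] (.node [] (.node [(79, 1, 1)] .nil .nil) (.node [(155, (-1), 1)] .nil .nil)) (.node [] (.node [(119, (-1), 1)] .nil .nil) .nil)))) (.node [] (.node [] (.node [] (.node [] (.node [(68, (-1), 1)] .nil .nil) .nil) .nil) (.node [(16, 1, 1)] .nil (.node [] (.node [(114, (-1), 1)] .nil .nil) .nil))) (.node [] (.node [] (.node [] (.node [(74, 1, 1)] .nil .nil) .nil) (.node [(44, 1, 1)] .nil (.node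 [(193, (-1), 1)] .nil .nil))) (.node [] (.node [] .nil (.node [(157, (-1), 1)] .nil .nil)) (.node [] (.node [(125, 1, 1)] .nil .nil) .nil)))))) (.node [(64, (-1), 1)] (.node [] (.node [] (.node [] (.node [] .nil (.node [] .nil (.node [(160, (-1), 1)] .nil .nil))) (.node [] .nil (.node [(54, 1, 1)] (.node [(102, (-1), 1)] .nil .nil) .nil))) (.node [] (.node [] (.node [] (.node [(70, 1, 1)] .nil .nil) .nil) .nil) (.node [] .nil (.node [] (.node [(118, 1, 1)] .nil .nil) .nil)))) (.node [] (.node [] (.node [] (.node [] (.node [(67, 1, 1)] .nil .nil) .nil) (.node [(38, 1, 1)] .nil .nil)) (.node [] .nil (.node [] (.node [(113, 1, 1)] .nil .nil) .nil))) (.node [(9, 1, 1)] (.node [] .nil (.node [] .nil (.node [(192, (-1), 1)] .nil .nil))) (.node [] (.node [] .nil (.node [(156, (-1), 1)] .nil .nil)) (.node [] (.node [(123, (-1), 1)] .nil .nil) .nil))))) (.node [(64, 1, 1)] (.node [] (.node [] (.node [] (.node [] (.node [(66, (-1), 1)] .nil .nil)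 .nil) (.node [(34, 1, 1)] .nil (.node [(164, (-1), 1)] .nil .nil))) (.node [] (.node [] .nil (.node [(145, (-1), 1)] .nil .nil)) .nil)) (.node [] (.node [] .nil (.node [] (.node [(86, (-1), 1)] .nil .nil) .nil)) (.node [] (.node [] (.node [(80, (-1), 1)] .nil .nil) .nil) .nil))) (.node [] (.node [] .nil (.node [] .nil (.node [] .nil (.node [(227, (-1), 1)] .nil .nil)))) (.node [] (.node [] (.node [] (.node [(75, (-1), 1)] .nil .nil) .nil) (.node [(45, 1, 1)] .nil (.node [(196, (-1), 1)] .nil .nil))) (.node [(18, 1, 1)] (.node [(30, 1, 1)] .nil .nil) (.node [] (.node [(126, (-1), 1)] .nil .nil) .nil)))))))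
def X57 : Tr (List (ℕ × ℤ × ℕ)) := (.node [(65, 1, 1)] (.node [] (.node [] (.node [(65, 1, 1)] (.node [] (.node [] (.node [(20, 1, 1)] .nil (.node [(129, (-1), 1)] .nil .nil)) (.node [(32, 1, 1)] .nil (.node [(160, (-1), 1)] .nil .nil))) (.node [] .nil (.node [(49, 1, 1)] .nil (.node [(203, 1, 1)] .nil .nil)))) (.node [] (.node [] (.node [] (.node [(70, 1, 1)] .nil .nil) .nil) .nil) (.node [] .nil (.node [] (.node [(118, 1, 1)] .nil .nil) (.node [(229, 1, 1)] .nil .nil))))) (.node [] (.node [] (.node [] (.node [] (.node [(67, 1, 1)] .nil .nil) .nil) (.node [(36, 1, 1)] .nil .nil)) (.node [] (.node [] .nil (.node [(147, 1, 1)] .nil .nil)) (.node [] (.node [(113, 1, 1)] .nil .nil) .nil))) (.node [] (.node [] .nil (.node [] .nil (.node [(192, (-1), 1)] .nil .nil))) (.node [] (.node [] .nil (.node [(156, (-1), 1)] .nil .nil)) .nil)))) (.node [(65, 1, 1)] (.node [] (.node [] (.node [] .nil (.node [(34, (-1), 1)] .nil (.node [(162, 1, 1)] .nil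 .nil))) (.node [] (.node [] .nil (.node [(145, (-1), 1)] .nil .nil)) (.node [] .nil (.node [(213, 1, 1)] .nil .nil)))) (.node [] (.node [] (.node [] (.node [(72, (-1), 1)] .nil .nil) .nil) .nil) (.node [] .nil (.node [] (.node [(120, (-1), 1)] .nil .nil) .nil)))) (.node [] (.node [] (.node [] (.node [] (.node [(69, (-1), 1)] .nil .nil) .nil) .nil) (.node [] .nil (.node [] (.node [(115, (-1), 1)] .nil .nil) (.node [(227, (-1), 1)] .nil .nil)))) (.node [] (.node [] .nil (.node [] .nil (.node [(194, 1, 1)] .nil .nil))) (.node [(18, (-1), 1)] (.node [(30, (-1), 1)] .nil (.node [(158, 1, 1)] .nil .nil)) (.node [] (.node [(127, (-1), 1)] .nil .nil) .nil)))))) (.node [(65, (-1), 1)] (.node [] (.node [] (.node [] (.node [] (.node [] (.node [(66, 1, 1)] .nil .nil) .nil) .nil) (.node [] .nil (.node [(55, 1, 1)] (.node [(103, (-1), 1)] .nil .nil) .nil))) (.node [] (.node [] (.node [] .nil (.node [(143, (-1), 1)] .nil .nil)) (.node [] (.node [(85,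 1, 1)] .nil .nil) .nil)) (.node [] (.node [] (.node [(79, 1, 1)] .nil .nil) (.node [(155, (-1), 1)] .nil .nil)) .nil))) (.node [] (.node [] (.node [] .nil (.node [(39, 1, 1)] .nil .nil)) (.node [(16, (-1), 1)] .nil .nil)) (.node [(10, 1, 1)] (.node [] (.node [] (.node [(74, 1, 1)] .nil .nil) .nil) (.node [(44, (-1), 1)] .nil .nil)) (.node [] .nil (.node [] (.node [(124, (-1), 1)] .nil .nil) .nil))))) (.node [(65, (-1), 1)] (.node [] (.node [] (.node [] .nil (.node [] .nil (.node [(165, 1, 1)] .nil .nil))) .nil) (.node [(8, (-1), 1)] (.node [(14, (-1), 1)] .nil (.node [] (.node [(87, (-1), 1)] .nil .nil) .nil)) (.node [(17, (-1), 1)] (.node [(29, (-1), 1)] (.node [(81, (-1), 1)] .nil .nil) .nil) (.node [] (.node [(122, 1, 1)] .nil .nil) .nil)))) (.node [] .nil (.node [] (.node [] (.node [] (.node [(76, (-1), 1)] .nil .nil) (.node [(144, (-1), 1)] .nil .nil)) (.node [(46, 1, 1)] (.node [(101, 1, 1)] .nil .nil) (.node [(197, 1, 1)] .nil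 .nil))) (.node [] .nil (.node [(64, 1, 1)] (.node [(0, (-1), 1), (1, (-1), 1), (2, (-1), 1), (3, (-2), 1), (4, (-2), 1), (5, (-2), 1), (6, (-1), 1), (7, (-1), 1), (65, (-1), 2)] .nil .nil) .nil)))))))
def X58 : Tr (List (ℕ × ℤ × ℕ)) := (.node [(66, 1, 1)] (.node [] (.node [] (.node [(66, (-1), 1)] (.node [] (.node [] (.node [(21, 1, 1)] (.node [(65, 1, 1)] .nil .nil) (.node [(130, 1, 1)] .nil .nil)) (.node [(33, 1, 1)] .nil .nil)) (.node [] .nil (.node [(50, 1, 1)] (.node [(103, (-1), 1)] .nil .nil) (.node [(204, (-1), 1)] .nil .nil)))) (.node [] (.node [] (.node [] (.node [(71, 1, 1)] .nil .nil) (.node [(143, (-1), 1)] .nil .nil)) (.node [] (.node [(85, 1, 1)] .nil .nil) .nil)) (.node [] (.node [] .nil (.node [(155, (-1), 1)] .nil .nil)) (.node [] (.node [(119, 1, 1)] .nil .nil) .nil)))) (.node [] (.node [] (.node [] (.node [] (.node [(68, 1, 1)] .nil .nil) .nil) (.node [(37, 1, 1)] .nil .nil)) (.node [(16, 1, 1)] (.node [] .nil (.node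 [(148, (-1), 1)] .nil .nil)) (.node [] (.node [(114, 1, 1)] .nil .nil) .nil))) (.node [(10, (-1), 1)] (.node [] .nil (.node [(44, 1, 1)] .nil .nil)) (.node [] .nil (.node [] (.node [(124, (-1), 1)] .nil .nil) .nil))))) (.node [(66, 1, 1)] (.node [] (.node [] (.node [] .nil (.node [] .nil (.node [(163, (-1), 1)] .nil .nil))) (.node [] .nil (.node [] .nil (.node [(214, (-1), 1)] .nil .nil)))) (.node [] (.node [(14, 1, 1)] .nil .nil) (.node [(17, 1, 1)] (.node [(29, 1, 1)] (.node [(81, (-1), 1)] .nil .nil) .nil) .nil))) (.node [] (.node [] .nil (.node [] .nil (.node [] .nil (.node [(228, 1, 1)] .nil .nil)))) (.node [] (.node [] (.node [] (.node [(76, (-1), 1)] .nil .nil) (.node [(144, (-1), 1)] .nil .nil)) (.node [] .nil (.node [(195, (-1), 1)] .nil .nil))) (.node [] (.node [] .nil (.node [(159, (-1), 1)] .nil .nil)) (.node [(64, (-1), 1)] (.node [(0, (-1), 1), (1, (-1), 1), (2, (-1), 1), (3, (-2), 1), (4, (-2), 1), (5, (-2), 1), (6, (-1),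 1), (66, (-1), 2)] .nil .nil) .nil)))))) (.node [(66, (-1), 1)] (.node [] (.node [] (.node [] (.node [] .nil (.node [(34, 1, 1)] .nil .nil)) (.node [] (.node [] .nil (.node [(145, (-1), 1)] .nil .nil)) (.node [(56, 1, 1)] .nil .nil))) (.node [] (.node [] (.node [] (.node [(72, (-1), 1)] .nil .nil) .nil) .nil) (.node [] (.node [] (.node [(80, 1, 1)] .nil .nil) .nil) (.node [] (.node [(120, (-1), 1)] .nil .nil) .nil)))) (.node [] (.node [] (.node [] (.node [] (.node [(69, (-1), 1)] .nil .nil) .nil) (.node [(40, 1, 1)] .nil .nil)) (.node [] .nil (.node [] (.node [(115, (-1), 1)] .nil .nil) .nil))) (.node [] (.node [] (.node [] (.node [(75, 1, 1)] .nil .nil) .nil) .nil) (.node [(18, 1, 1)] (.node [(30, 1, 1)] .nil .nil) .nil)))) (.node [] (.node [] (.node [] (.node [] .nil (.node [] .nil (.node [(166, (-1), 1)] .nil .nil))) .nil) (.node [(9, (-1), 1)] (.node [] .nil (.node [] (.node [(88, (-1), 1)] .nil .nil) (.node [(192, (-1), 1)] .nil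 .nil))) (.node [] (.node [] .nil (.node [(156, (-1), 1)] .nil .nil)) (.node [] (.node [(123, 1, 1)] .nil .nil) .nil)))) (.node [] (.node [] .nil (.node [] .nil (.node [] .nil (.node [(229, 1, 1)] .nil .nil)))) (.node [] (.node [] .nil (.node [(47, 1, 1)] (.node [(102, 1, 1)] .nil .nil) (.node [(198, (-1), 1)] .nil .nil))) (.node [] (.node [] .nil (.node [(160, (-1), 1)] .nil .nil)) (.node [] (.node [(128, (-1), 1)] .nil .nil) .nil)))))))
def X59 : Tr (List (ℕ × ℤ × ℕ)) := (.node [(67, 1, 1)] (.node [] (.node [] (.node [(67, 1, 1)] (.node [] (.node [] (.node [] .nil (.node [(132, (-1), 1)] .nil .nil)) (.node [] .nil (.node [(161, 1, 1)] .nil .nil))) (.node [] .nil (.node [(51, 1, 1)] .nil (.node [(205, (-1), 1)] .nil .nil)))) (.node [] .nil (.node [] (.node [] (.node [(79, 1, 1)] .nil .nil) .nil) (.node [] .nil (.node [(230, (-1), 1)] .nil .nil))))) (.node [] .nil (.node [] (.node [] (.node [] (.node [(74, 1, 1)] .nil .nil) .nil) (.node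 [] .nil (.node [(193, 1, 1)] .nil .nil))) (.node [] (.node [] .nil (.node [(157, 1, 1)] .nil .nil)) (.node [(64, 1, 1)] (.node [(127, (-1), 1)] .nil .nil) .nil))))) (.node [(67, (-1), 1)] (.node [] (.node [] (.node [] .nil (.node [(35, (-1), 1)] .nil .nil)) (.node [] (.node [] .nil (.node [(146, 1, 1)] .nil .nil)) (.node [] .nil (.node [(215, (-1), 1)] .nil .nil)))) (.node [(8, 1, 1)] (.node [] (.node [] (.node [(73, (-1), 1)] .nil .nil) .nil) .nil) (.node [] .nil (.node [] (.node [(121, (-1), 1)] .nil .nil) .nil)))) (.node [] (.node [] .nil (.node [] .nil (.node [] (.node [(116, (-1), 1)] .nil .nil) .nil))) (.node [] (.node [] .nil (.node [(46, (-1), 1)] (.node [(101, 1, 1)] .nil .nil) .nil)) (.node [(19, (-1), 1)] (.node [(31, (-1), 1)] .nil .nil) .nil))))) (.node [(67, (-1), 1)] (.node [(67, 1, 1)] (.node [] (.node [] (.node [] (.node [] (.node [(68, 1, 1)] .nil .nil) .nil) (.node [] .nil (.node [(162, 1, 1)] .nil .nil))) (.node []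 .nil (.node [(57, 1, 1)] (.node [(104, (-1), 1)] .nil .nil) .nil))) (.node [] (.node [(14, 1, 1)] .nil .nil) (.node [(17, 1, 1)] (.node [(29, 1, 1)] .nil .nil) .nil))) (.node [] (.node [] (.node [] .nil (.node [(41, 1, 1)] .nil .nil)) (.node [] .nil (.node [] .nil (.node [(227, (-1), 1)] .nil .nil)))) (.node [(11, 1, 1)] (.node [] (.node [] .nil (.node [(144, (-1), 1)] .nil .nil)) (.node [(45, (-1), 1)] .nil (.node [(194, 1, 1)] .nil .nil))) (.node [] (.node [] .nil (.node [(158, 1, 1)] .nil .nil)) (.node [(65, 1, 1)] (.node [(0, (-1), 1), (1, (-1), 1), (2, (-1), 1), (3, (-2), 1), (4, (-2), 1), (5, (-1), 1), (6, (-1), 1), (7, (-1), 1), (67, (-1), 2)] .nil .nil) .nil))))) (.node [] (.node [] (.node [] (.node [] (.node [] (.node [(69, 1, 1)] .nil .nil) .nil) (.node [(36, (-1), 1)] .nil (.node [(167, (-1), 1)] .nil .nil))) (.node [(16, 1, 1)] (.node [] .nil (.node [(147, 1, 1)] .nil .nil)) (.node [] (.node [(113, 1, 1)] .nil .nil) .nil)))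 (.node [] (.node [] .nil (.node [] (.node [(89, (-1), 1)] .nil .nil) .nil)) (.node [] (.node [] (.node [(82, (-1), 1)] .nil .nil) .nil) (.node [] (.node [(125, (-1), 1)] .nil .nil) .nil)))) (.node [] (.node [] (.node [] (.node [] (.node [(70, 1, 1)] .nil .nil) (.node [(143, (-1), 1)] .nil .nil)) (.node [] (.node [(85, 1, 1)] .nil .nil) .nil)) (.node [] (.node [] .nil (.node [(155, (-1), 1)] .nil .nil)) (.node [] (.node [(118, 1, 1)] .nil .nil) .nil))) (.node [] (.node [] (.node [] (.node [(77, (-1), 1)] .nil .nil) .nil) (.node [] .nil (.node [(199, (-1), 1)] .nil .nil))) (.node [(20, (-1), 1)] (.node [(32, (-1), 1)] .nil .nil) (.node [] (.node [(131, (-1), 1)] .nil .nil) .nil)))))))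
def X60 : Tr (List (ℕ × ℤ × ℕ)) := (.node [(68, 1, 1)] (.node [] (.node [] (.node [(68, (-1), 1)] (.node [] (.node [] (.node [] (.node [(67, 1, 1)] .nil .nil) (.node [(133, 1, 1)] .nil .nil)) .nil) (.node [] .nil (.node [(52, 1, 1)] (.node [(104, (-1), 1)] .nil .nil) (.node [(206, 1, 1)] .nil .nil)))) (.node [] (.node [(14, (-1), 1)] .nil .nil) (.node [(17, (-1), 1)] (.node [(29, (-1), 1)] (.node [(80, 1, 1)] .nil .nil) .nil) .nil))) (.node [] .nil (.node [(11, (-1), 1)] (.node [] (.node [] (.node [(75, 1, 1)] .nil .nil) (.node [(144, (-1), 1)] .nil .nil)) (.node [(45, 1, 1)] .nil .nil)) (.node [] .nil (.node [] (.node [(0, (-1), 1), (1, (-1), 1), (2, (-1), 1), (3, (-2), 1), (4, (-2), 1), (5, (-1), 1), (6, (-1), 1), (68, (-1), 2)] .nil .nil) .nil))))) (.node [(68, (-1), 1)] (.node [] (.node [] (.node [] (.node [] (.node [(69, 1, 1)] .nil .nil) .nil) .nil) (.node [(16, (-1), 1)] .nil (.node [] .nil (.node [(216, 1, 1)] .nil .nil)))) (.node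 [(9, 1, 1)] .nil (.node [] (.node [] (.node [(82, (-1), 1)] .nil .nil) .nil) .nil))) (.node [] (.node [] (.node [] (.node [] .nil (.node [(143, (-1), 1)] .nil .nil)) (.node [] (.node [(85, 1, 1)] .nil .nil) .nil)) (.node [] (.node [] .nil (.node [(155, (-1), 1)] .nil .nil)) .nil)) (.node [] (.node [] (.node [] (.node [(77, (-1), 1)] .nil .nil) .nil) (.node [(47, (-1), 1)] (.node [(102, 1, 1)] .nil .nil) .nil)) (.node [] .nil (.node [] (.node [(131, (-1), 1)] .nil .nil) .nil)))))) (.node [(68, (-1), 1)] (.node [(68, 1, 1)] (.node [] (.node [] (.node [] .nil (.node [(35, 1, 1)] .nil (.node [(163, (-1), 1)] .nil .nil))) (.node [] (.node [] .nil (.node [(146, 1, 1)] .nil .nil)) (.node [(58, 1, 1)] .nil .nil))) (.node [] (.node [] (.node [] (.node [(73, (-1), 1)] .nil .nil) .nil) .nil) (.node [] .nil (.node [] (.node [(121, (-1), 1)] .nil .nil) .nil)))) (.node [] (.node [] (.node [] .nil (.node [(42, 1, 1)] .nil .nil)) (.node [] .nil (.node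 [] (.node [(116, (-1), 1)] .nil .nil) (.node [(228, 1, 1)] .nil .nil)))) (.node [] (.node [] .nil (.node [] .nil (.node [(195, (-1), 1)] .nil .nil))) (.node [(19, 1, 1)] (.node [(31, 1, 1)] .nil (.node [(159, (-1), 1)] .nil .nil)) (.node [(66, 1, 1)] (.node [(128, (-1), 1)] .nil .nil) .nil))))) (.node [(68, 1, 1)] (.node [] (.node [] (.node [] .nil (.node [(37, (-1), 1)] .nil (.node [(168, 1, 1)] .nil .nil))) (.node [] (.node [] .nil (.node [(148, (-1), 1)] .nil .nil)) (.node [] (.node [(114, 1, 1)] .nil .nil) .nil))) (.node [] (.node [] .nil (.node [] (.node [(90, (-1), 1)] .nil .nil) (.node [(193, 1, 1)] .nil .nil))) (.node [] (.node [] .nil (.node [(157, 1, 1)] .nil .nil)) (.node [(64, (-1), 1)] (.node [(126, (-1), 1)] .nil .nil) .nil)))) (.node [] (.node [] (.node [] (.node [] (.node [(71, 1, 1)] .nil .nil) .nil) .nil) (.node [] .nil (.node [] (.node [(119, 1, 1)] .nil .nil) (.node [(230, (-1), 1)] .nil .nil)))) (.node [] (.node []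 .nil (.node [] .nil (.node [(200, 1, 1)] .nil .nil))) (.node [(21, (-1), 1)] (.node [(33, (-1), 1)] .nil (.node [(161, 1, 1)] .nil .nil)) .nil))))))
def X61 : Tr (List (ℕ × ℤ × ℕ)) := (.node [(69, 1, 1)] (.node [] (.node [] (.node [] (.node [] (.node [] .nil (.node [] .nil (.node [(163, (-1), 1)] .nil .nil))) (.node [] .nil (.node [(53, 1, 1)] .nil (.node [(207, (-1), 1)] .nil .nil)))) (.node [] (.node [] (.node [] (.node [(73, (-1), 1)] .nil .nil) .nil) .nil) (.node [] (.node [] (.node [(81, 1, 1)] .nil .nil) .nil) (.node [] (.node [(121, (-1), 1)] .nil .nil) .nil)))) (.node [] (.node [] .nil (.node [] .nil (.node [] (.node [(116, (-1), 1)] .nil .nil) .nil))) (.node [] (.node [] (.node [] (.node [(76, 1, 1)] .nil .nil) .nil) (.node [(46, 1, 1)] .nil (.node [(195, (-1), 1)] .nil .nil))) (.node [] (.node [] .nil (.node [(159, (-1), 1)] .nil .nil)) (.node [(66, (-1), 1)] (.node [(129, (-1), 1)] .nil .nil) .nil))))) (.node [] (.node [] (.node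 [] (.node [] .nil (.node [(37, 1, 1)] .nil .nil)) (.node [] (.node [] .nil (.node [(148, (-1), 1)] .nil .nil)) (.node [] .nil (.node [(217, (-1), 1)] .nil .nil)))) (.node [(10, 1, 1)] .nil .nil)) (.node [] (.node [] .nil (.node [] .nil (.node [] .nil (.node [(230, (-1), 1)] .nil .nil)))) (.node [] (.node [] .nil (.node [] (.node [(103, 1, 1)] .nil .nil) .nil)) (.node [(21, 1, 1)] (.node [(33, 1, 1)] .nil .nil) (.node [(67, 1, 1)] (.node [(132, 1, 1)] .nil .nil) .nil)))))) (.node [(69, (-1), 1)] (.node [(69, 1, 1)] (.node [] (.node [] (.node [] .nil (.node [(36, 1, 1)] .nil .nil)) (.node [(16, 1, 1)] (.node [] .nil (.node [(147, (-1), 1)] .nil .nil)) (.node [(59, 1, 1)] .nil .nil))) (.node [] .nil (.node [] (.node [] (.node [(82, (-1), 1)] .nil .nil) .nil) .nil))) (.node [] (.node [] (.node [] (.node [] .nil (.node [(143, (-1), 1)] .nil .nil)) (.node [(43, 1, 1)] (.node [(85, 1, 1)] .nil .nil) .nil)) (.node [] (.node [] .nil (.node [(155,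 (-1), 1)] .nil .nil)) (.node [] .nil (.node [(229, (-1), 1)] .nil .nil)))) (.node [] (.node [] (.node [] (.node [(77, (-1), 1)] .nil .nil) .nil) (.node [(47, 1, 1)] .nil .nil)) (.node [(20, 1, 1)] (.node [(32, 1, 1)] .nil .nil) (.node [] (.node [(130, (-1), 1)] .nil .nil) .nil))))) (.node [(69, (-1), 1)] (.node [] (.node [] (.node [] .nil (.node [] .nil (.node [(169, (-1), 1)] .nil .nil))) (.node [] .nil (.node [] (.node [(115, 1, 1)] .nil .nil) .nil))) (.node [(11, 1, 1)] (.node [] (.node [] .nil (.node [(144, (-1), 1)] .nil .nil)) (.node [] (.node [(91, (-1), 1)] .nil .nil) (.node [(194, (-1), 1)] .nil .nil))) (.node [] (.node [] .nil (.node [(158, (-1), 1)] .nil .nil)) (.node [(65, (-1), 1)] (.node [(0, (-1), 1), (1, (-1), 1), (2, (-1), 1), (3, (-2), 1), (4, (-2), 1), (5, (-1), 1), (69, (-1), 2)] .nil .nil) .nil)))) (.node [] (.node [] (.node [(14, 1, 1)] (.node [] (.node [(72, 1, 1)] .nil .nil) .nil) .nil) (.node [(17, 1, 1)] (.node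 [(29, 1, 1)] .nil .nil) (.node [] (.node [(120, 1, 1)] .nil .nil) .nil))) (.node [] (.node [] .nil (.node [] (.node [(104, (-1), 1)] .nil .nil) (.node [(201, (-1), 1)] .nil .nil))) (.node [] (.node [] .nil (.node [(162, (-1), 1)] .nil .nil)) (.node [(68, 1, 1)] (.node [(133, 1, 1)] .nil .nil) .nil)))))))
def X62 : Tr (List (ℕ × ℤ × ℕ)) := (.node [(70, 1, 1)] (.node [] (.node [(70, 1, 1)] (.node [(70, 1, 1)] (.node [] (.node [] (.node [] .nil (.node [(136, (-1), 1)] .nil .nil)) (.node [] .nil (.node [(164, (-1), 1)] .nil .nil))) (.node [(16, (-1), 1)] (.node [] .nil (.node [(147, 1, 1)] .nil .nil)) (.node [] .nil (.node [(208, 1, 1)] .nil .nil)))) (.node [] .nil (.node [] .nil (.node [(64, 1, 1)] (.node [(125, (-1), 1)] .nil .nil) (.node [(231, 1, 1)] .nil .nil))))) (.node [] (.node [] (.node [] (.node [] .nil (.node [(143, (-1), 1)] .nil .nil)) (.node [(41, (-1), 1)] (.node [(85, 1, 1)] .nil .nil) .nil)) (.node [] .nil (.node [] .nil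 (.node [(227, (-1), 1)] .nil .nil)))) (.node [] (.node [] .nil (.node [] .nil (.node [(196, (-1), 1)] .nil .nil))) (.node [(20, 1, 1)] (.node [(32, 1, 1)] .nil .nil) .nil)))) (.node [] (.node [] (.node [] (.node [] .nil (.node [(38, (-1), 1)] .nil (.node [(167, (-1), 1)] .nil .nil))) (.node [] .nil (.node [] (.node [(113, 1, 1)] .nil .nil) (.node [(218, 1, 1)] .nil .nil)))) (.node [] .nil (.node [] (.node [] .nil (.node [(158, 1, 1)] .nil .nil)) (.node [(67, 1, 1)] (.node [(0, (-1), 1), (1, (-1), 1), (2, (-1), 1), (3, (-2), 1), (4, (-1), 1), (5, (-1), 1), (6, (-1), 1), (7, (-1), 1), (70, (-1), 2)] .nil .nil) .nil)))) (.node [] (.node [] (.node [(14, (-1), 1)] (.node [] (.node [(73, 1, 1)] .nil .nil) .nil) .nil) (.node [] .nil (.node [] (.node [(117, (-1), 1)] .nil .nil) .nil))) (.node [] (.node [] .nil (.node [(49, (-1), 1)] .nil (.node [(199, (-1), 1)] .nil .nil))) .nil)))) (.node [(70, (-1), 1)] (.node [(70, (-1), 1)] (.node [] (.node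 [] (.node [] (.node [] (.node [(71, 1, 1)] .nil .nil) .nil) (.node [] .nil (.node [(165, (-1), 1)] .nil .nil))) (.node [] .nil (.node [(60, 1, 1)] (.node [(105, (-1), 1)] .nil .nil) .nil))) (.node [(8, (-1), 1)] .nil (.node [(18, 1, 1)] (.node [(30, 1, 1)] .nil (.node [(157, 1, 1)] .nil .nil)) (.node [(65, 1, 1)] (.node [(127, (-1), 1)] .nil .nil) .nil)))) (.node [] .nil (.node [(12, 1, 1)] (.node [] (.node [] .nil (.node [(145, 1, 1)] .nil .nil)) (.node [(48, (-1), 1)] (.node [(101, 1, 1)] .nil .nil) (.node [(197, (-1), 1)] .nil .nil))) (.node [] .nil (.node [] (.node [(134, (-1), 1)] .nil .nil) .nil))))) (.node [] (.node [] (.node [] (.node [] (.node [] (.node [(72, 1, 1)] .nil .nil) .nil) (.node [(39, (-1), 1)] .nil .nil)) .nil) (.node [] (.node [] (.node [] (.node [(74, 1, 1)] .nil .nil) .nil) (.node [] (.node [(92, (-1), 1)] .nil .nil) .nil)) (.node [(19, 1, 1)] (.node [(31, 1, 1)] (.node [(83, (-1), 1)] .nil .nil) .nil) .nil)))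 (.node [] (.node [] .nil (.node [] (.node [] (.node [(79, 1, 1)] .nil .nil) (.node [(156, 1, 1)] .nil .nil)) (.node [] (.node [(122, (-1), 1)] .nil .nil) .nil))) (.node [] (.node [] (.node [] (.node [(78, (-1), 1)] .nil .nil) (.node [(146, 1, 1)] .nil .nil)) (.node [(51, (-1), 1)] .nil .nil)) (.node [] .nil (.node [] (.node [(135, (-1), 1)] .nil .nil) .nil)))))))
def X63 : Tr (List (ℕ × ℤ × ℕ)) := (.node [(71, 1, 1)] (.node [] (.node [(71, 1, 1)] (.node [(71, (-1), 1)] (.node [] (.node [] (.node [] (.node [(70, 1, 1)] .nil .nil) (.node [(137, 1, 1)] .nil .nil)) .nil) (.node [] (.node [] .nil (.node [(148, (-1), 1)] .nil .nil)) (.node [] (.node [(105, (-1), 1)] .nil .nil) (.node [(209, (-1), 1)] .nil .nil)))) (.node [] .nil (.node [(18, (-1), 1)] (.node [(30, (-1), 1)] .nil (.node [(157, 1, 1)] .nil .nil)) (.node [] (.node [(126, (-1), 1)] .nil .nil) .nil)))) (.node [] (.node [] (.node [] .nil (.node [(42, (-1), 1)] .nil .nil)) (.node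 [] .nil (.node [] .nil (.node [(228, 1, 1)] .nil .nil)))) (.node [(12, (-1), 1)] (.node [] (.node [] .nil (.node [(145, 1, 1)] .nil .nil)) (.node [(48, 1, 1)] .nil .nil)) (.node [(21, 1, 1)] (.node [(33, 1, 1)] .nil .nil) (.node [] (.node [(134, (-1), 1)] .nil .nil) .nil))))) (.node [] (.node [] (.node [] (.node [] (.node [] (.node [(72, 1, 1)] .nil .nil) .nil) (.node [] .nil (.node [(168, 1, 1)] .nil .nil))) (.node [] .nil (.node [] (.node [(114, 1, 1)] .nil .nil) (.node [(219, (-1), 1)] .nil .nil)))) (.node [] .nil (.node [(19, (-1), 1)] (.node [(31, (-1), 1)] (.node [(83, (-1), 1)] .nil .nil) (.node [(159, (-1), 1)] .nil .nil)) (.node [(68, 1, 1)] (.node [(128, (-1), 1)] .nil .nil) .nil)))) (.node [] (.node [] .nil (.node [] (.node [] .nil (.node [(156, 1, 1)] .nil .nil)) .nil)) (.node [] (.node [] (.node [] (.node [(78, (-1), 1)] .nil .nil) (.node [(146, 1, 1)] .nil .nil)) (.node [(50, (-1), 1)] .nil (.node [(200, 1, 1)] .nil .nil)))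 (.node [] .nil (.node [] (.node [(135, (-1), 1)] .nil .nil) .nil)))))) (.node [(71, (-1), 1)] (.node [(71, (-1), 1)] (.node [] (.node [] (.node [] .nil (.node [(38, 1, 1)] .nil (.node [(166, 1, 1)] .nil .nil))) (.node [] .nil (.node [(61, 1, 1)] .nil .nil))) (.node [(9, (-1), 1)] .nil (.node [] .nil (.node [(66, 1, 1)] (.node [(0, (-1), 1), (1, (-1), 1), (2, (-1), 1), (3, (-2), 1), (4, (-1), 1), (5, (-1), 1), (6, (-1), 1), (71, (-1), 2)] .nil .nil) .nil)))) (.node [] (.node [] (.node [(14, 1, 1)] (.node [] (.node [(73, 1, 1)] .nil .nil) .nil) .nil) (.node [] .nil (.node [] (.node [(117, (-1), 1)] .nil .nil) .nil))) (.node [] (.node [] .nil (.node [] (.node [(102, 1, 1)] .nil .nil) (.node [(198, 1, 1)] .nil .nil))) .nil))) (.node [(71, 1, 1)] (.node [] (.node [] (.node [] (.node [] .nil (.node [(143, (-1), 1)] .nil .nil)) (.node [(40, (-1), 1)] (.node [(85, 1, 1)] .nil .nil) .nil)) .nil) (.node [] (.node [] (.node [] (.node [(75, 1, 1)]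 .nil .nil) .nil) (.node [] (.node [(93, (-1), 1)] .nil .nil) (.node [(196, (-1), 1)] .nil .nil))) .nil)) (.node [] (.node [] .nil (.node [] (.node [] (.node [(80, 1, 1)] .nil .nil) .nil) (.node [(64, (-1), 1)] (.node [(123, (-1), 1)] .nil .nil) (.node [(231, 1, 1)] .nil .nil)))) (.node [] (.node [(16, 1, 1)] .nil (.node [(52, (-1), 1)] .nil .nil)) (.node [] (.node [] .nil (.node [(164, (-1), 1)] .nil .nil)) .nil))))))
def X64 : Tr (List (ℕ × ℤ × ℕ)) := (.node [(72, 1, 1)] (.node [] (.node [(72, 1, 1)] (.node [] (.node [] (.node [] .nil (.node [] .nil (.node [(166, 1, 1)] .nil .nil))) (.node [] .nil (.node [] .nil (.node [(210, 1, 1)] .nil .nil)))) (.node [] .nil (.node [] (.node [] .nil (.node [(158, (-1), 1)] .nil .nil)) (.node [(66, (-1), 1)] (.node [(0, (-1), 1), (1, (-1), 1), (2, (-1), 1), (3, (-2), 1), (4, (-1), 1), (5, (-1), 1), (72, (-1), 2)] .nil .nil) .nil)))) (.node [] (.node [] (.node [(14, (-1), 1)] (.node [] (.node [(73,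 1, 1)] .nil .nil) .nil) (.node [(43, (-1), 1)] .nil .nil)) (.node [] .nil (.node [] (.node [(117, (-1), 1)] .nil .nil) (.node [(229, (-1), 1)] .nil .nil)))) (.node [] (.node [] .nil (.node [(49, 1, 1)] .nil (.node [(198, 1, 1)] .nil .nil))) .nil))) (.node [(72, 1, 1)] (.node [] (.node [] (.node [] (.node [] .nil (.node [(143, (-1), 1)] .nil .nil)) (.node [(40, 1, 1)] (.node [(85, 1, 1)] .nil .nil) (.node [(169, (-1), 1)] .nil .nil))) (.node [] .nil (.node [] (.node [(115, 1, 1)] .nil .nil) (.node [(220, 1, 1)] .nil .nil)))) (.node [] .nil (.node [(20, (-1), 1)] (.node [(32, (-1), 1)] .nil .nil) (.node [(69, 1, 1)] (.node [(130, (-1), 1)] .nil .nil) .nil)))) (.node [] (.node [] .nil (.node [] .nil (.node [] .nil (.node [(231, 1, 1)] .nil .nil)))) (.node [] (.node [(16, (-1), 1)] (.node [] .nil (.node [(147, (-1), 1)] .nil .nil)) (.node [] .nil (.node [(201, (-1), 1)] .nil .nil))) (.node [] .nil (.node [(70, 1, 1)] (.node [(136, 1, 1)]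 .nil .nil) .nil)))))) (.node [(72, (-1), 1)] (.node [(72, (-1), 1)] (.node [] (.node [] (.node [] .nil (.node [(39, 1, 1)] .nil .nil)) (.node [] .nil (.node [(62, 1, 1)] .nil .nil))) (.node [(10, (-1), 1)] .nil (.node [] (.node [] (.node [(83, (-1), 1)] .nil .nil) (.node [(159, (-1), 1)] .nil .nil)) (.node [] (.node [(129, (-1), 1)] .nil .nil) .nil)))) (.node [] (.node [] .nil (.node [] (.node [] .nil (.node [(156, 1, 1)] .nil .nil)) .nil)) (.node [] (.node [] (.node [] (.node [(78, (-1), 1)] .nil .nil) .nil) (.node [(50, 1, 1)] (.node [(103, 1, 1)] .nil .nil) .nil)) .nil))) (.node [(72, (-1), 1)] (.node [] .nil (.node [(12, 1, 1)] (.node [] (.node [] (.node [(76, 1, 1)] .nil .nil) (.node [(145, 1, 1)] .nil .nil)) (.node [] (.node [(94, (-1), 1)] .nil .nil) (.node [(197, 1, 1)] .nil .nil))) (.node [(21, (-1), 1)] (.node [(33, (-1), 1)] .nil .nil) (.node [] (.node [(134, (-1), 1)] .nil .nil) .nil)))) (.node [] (.node [] .nil (.node [(18,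 1, 1)] (.node [(30, 1, 1)] (.node [(81, 1, 1)] .nil .nil) .nil) (.node [(65, (-1), 1)] (.node [(124, (-1), 1)] .nil .nil) .nil))) (.node [] (.node [] (.node [] .nil (.node [(148, (-1), 1)] .nil .nil)) (.node [(53, (-1), 1)] (.node [(105, (-1), 1)] .nil .nil) .nil)) (.node [] (.node [] .nil (.node [(165, 1, 1)] .nil .nil)) (.node [(71, 1, 1)] (.node [(137, 1, 1)] .nil .nil) .nil)))))))
def X65 : Tr (List (ℕ × ℤ × ℕ)) := (.node [(73, 1, 1)] (.node [] (.node [(73, 1, 1)] (.node [] (.node [] (.node [] .nil (.node [] .nil (.node [(168, (-1), 1)] .nil .nil))) (.node [] .nil (.node [] .nil (.node [(211, (-1), 1)] .nil .nil)))) (.node [] .nil (.node [(20, 1, 1)] (.node [(32, 1, 1)] (.node [(83, (-1), 1)] .nil .nil) .nil) (.node [(68, (-1), 1)] (.node [(131, (-1), 1)] .nil .nil) .nil)))) (.node [] (.node [] .nil (.node [] .nil (.node [] .nil (.node [(230, 1, 1)] .nil .nil)))) (.node [] (.node [] (.node [] (.node [(78, (-1), 1)] .nil .nil) (.node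 [(147, (-1), 1)] .nil .nil)) (.node [(51, 1, 1)] .nil (.node [(200, (-1), 1)] .nil .nil))) (.node [] .nil (.node [(71, 1, 1)] (.node [(136, 1, 1)] .nil .nil) .nil))))) (.node [(73, (-1), 1)] (.node [] (.node [] (.node [] .nil (.node [(42, 1, 1)] .nil .nil)) (.node [] .nil (.node [] (.node [(116, 1, 1)] .nil .nil) (.node [(221, (-1), 1)] .nil .nil)))) (.node [(12, (-1), 1)] .nil (.node [] .nil (.node [] (.node [(133, (-1), 1)] .nil .nil) .nil)))) (.node [] (.node [] .nil (.node [] (.node [] .nil (.node [(158, (-1), 1)] .nil .nil)) .nil)) (.node [] (.node [] .nil (.node [(53, 1, 1)] (.node [(105, (-1), 1)] .nil .nil) .nil)) .nil)))) (.node [(73, (-1), 1)] (.node [] (.node [] (.node [] (.node [] (.node [] .nil (.node [(143, (-1), 1)] .nil .nil)) (.node [(41, 1, 1)] (.node [(85, 1, 1)] .nil .nil) (.node [(169, (-1), 1)] .nil .nil))) (.node [] .nil (.node [(63, 1, 1)] .nil .nil))) (.node [(11, (-1), 1)] .nil (.node [(21, 1, 1)] (.node [(33,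 1, 1)] .nil .nil) (.node [(69, (-1), 1)] (.node [(132, (-1), 1)] .nil .nil) .nil)))) (.node [] (.node [] .nil (.node [] (.node [] .nil (.node [(157, (-1), 1)] .nil .nil)) (.node [] .nil (.node [(231, 1, 1)] .nil .nil)))) (.node [] (.node [(16, 1, 1)] (.node [] .nil (.node [(148, (-1), 1)] .nil .nil)) (.node [(52, 1, 1)] (.node [(104, 1, 1)] .nil .nil) (.node [(201, (-1), 1)] .nil .nil))) (.node [] .nil (.node [(72, 1, 1)] (.node [(137, 1, 1)] .nil .nil) .nil))))) (.node [] (.node [] (.node [] (.node [(14, 1, 1)] .nil (.node [(43, 1, 1)] .nil .nil)) (.node [] .nil (.node [] (.node [(117, (-1), 1)] .nil .nil) .nil))) (.node [] (.node [] (.node [] (.node [(77, 1, 1)] .nil .nil) (.node [(146, (-1), 1)] .nil .nil)) (.node [] (.node [(95, (-1), 1)] .nil .nil) (.node [(199, (-1), 1)] .nil .nil))) (.node [] .nil (.node [(70, 1, 1)] (.node [(135, 1, 1)] .nil .nil) .nil)))) (.node [] (.node [] .nil (.node [(19, 1, 1)] (.node [(31, 1, 1)] (.node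 [(82, 1, 1)] .nil .nil) (.node [(159, (-1), 1)] .nil .nil)) (.node [(67, (-1), 1)] (.node [(0, (-1), 1), (1, (-1), 1), (2, (-1), 1), (3, (-2), 1), (4, (-1), 1), (73, (-1), 2)] .nil .nil) .nil))) (.node [] .nil (.node [] (.node [] .nil (.node [(167, (-1), 1)] .nil .nil)) .nil))))))
def X66 : Tr (List (ℕ × ℤ × ℕ)) := (.node [(74, 1, 1)] (.node [(74, 1, 1)] (.node [(74, (-1), 1)] (.node [(74, 1, 1)] (.node [] (.node [] (.node [] .nil (.node [(141, (-1), 1)] .nil .nil)) (.node [(41, 1, 1)] (.node [(85, 1, 1)] .nil .nil) .nil)) (.node [(17, (-1), 1)] .nil (.node [(60, (-1), 1)] .nil .nil))) (.node [(8, 1, 1)] .nil (.node [] .nil (.node [] .nil (.node [(232, (-1), 1)] .nil .nil))))) (.node [] (.node [] (.node [] (.node [] .nil (.node [(144, 1, 1)] .nil .nil)) .nil) (.node [] .nil (.node [(65, 1, 1)] (.node [(125, (-1), 1)] .nil .nil) .nil))) (.node [] (.node [] .nil (.node [] (.node [(101, 1, 1)] .nil .nil) (.node [(202, 1, 1)] .nil .nil)))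 (.node [] (.node [(36, 1, 1)] .nil (.node [(164, (-1), 1)] .nil .nil)) .nil)))) (.node [] (.node [] (.node [] (.node [(14, 1, 1)] .nil .nil) (.node [] .nil (.node [] (.node [(118, (-1), 1)] .nil .nil) (.node [(222, (-1), 1)] .nil .nil)))) (.node [] (.node [] (.node [] (.node [(78, 1, 1)] .nil .nil) (.node [(147, 1, 1)] .nil .nil)) .nil) (.node [] (.node [] .nil (.node [(162, (-1), 1)] .nil .nil)) (.node [] (.node [(138, (-1), 1)] .nil .nil) .nil)))) (.node [] (.node [] (.node [] (.node [] (.node [(77, 1, 1)] .nil .nil) .nil) .nil) (.node [(20, (-1), 1)] (.node [] (.node [(79, 1, 1)] .nil .nil) .nil) (.node [(70, 1, 1)] (.node [(0, (-1), 1), (1, (-1), 1), (2, (-1), 1), (3, (-1), 1), (4, (-1), 1), (5, (-1), 1), (6, (-1), 1), (7, (-1), 1), (74, (-1), 2)] .nil .nil) .nil))) (.node [] (.node [] .nil (.node [(55, (-1), 1)] .nil (.node [(205, 1, 1)] .nil .nil))) (.node [] (.node [(38, 1, 1)] .nil (.node [(167, (-1), 1)] .nil .nil)) .nil)))))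 (.node [] (.node [] (.node [] (.node [] (.node [] (.node [] (.node [(75, 1, 1)] .nil .nil) .nil) .nil) (.node [] .nil (.node [] (.node [(106, (-1), 1)] .nil .nil) .nil))) (.node [] (.node [] (.node [] .nil (.node [(146, 1, 1)] .nil .nil)) .nil) (.node [] (.node [(34, 1, 1)] .nil (.node [(161, (-1), 1)] .nil .nil)) .nil))) (.node [] (.node [] .nil (.node [(19, (-1), 1)] .nil (.node [(67, 1, 1)] (.node [(127, (-1), 1)] .nil .nil) .nil))) (.node [(13, 1, 1)] (.node [] .nil (.node [(54, (-1), 1)] .nil (.node [(203, 1, 1)] .nil .nil))) (.node [] (.node [] .nil (.node [(165, (-1), 1)] .nil .nil)) (.node [] (.node [(139, (-1), 1)] .nil .nil) .nil))))) (.node [] (.node [] (.node [] (.node [] (.node [] (.node [(76, 1, 1)] .nil .nil) .nil) .nil) (.node [(18, (-1), 1)] .nil (.node [(64, 1, 1)] (.node [(122, (-1), 1)] .nil .nil) (.node [(227, (-1), 1)] .nil .nil)))) (.node [] (.node [] .nil (.node [] (.node [(96, (-1), 1)] .nil .nil) .nil)) (.node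 [] (.node [(35, 1, 1)] (.node [(84, (-1), 1)] .nil .nil) .nil) .nil))) (.node [] (.node [] (.node [] (.node [] .nil (.node [(145, 1, 1)] .nil .nil)) .nil) (.node [] (.node [] .nil (.node [(160, (-1), 1)] .nil .nil)) .nil)) (.node [] (.node [] .nil (.node [(57, (-1), 1)] .nil (.node [(208, 1, 1)] .nil .nil))) (.node [] (.node [(39, 1, 1)] .nil .nil) (.node [] (.node [(140, (-1), 1)] .nil .nil) .nil)))))))
def X67 : Tr (List (ℕ × ℤ × ℕ)) := (.node [(75, 1, 1)] (.node [(75, 1, 1)] (.node [(75, (-1), 1)] (.node [(75, (-1), 1)] (.node [] (.node [] (.node [] (.node [(74, 1, 1)] .nil .nil) (.node [(142, 1, 1)] .nil .nil)) (.node [(42, 1, 1)] .nil .nil)) (.node [] .nil (.node [(61, (-1), 1)] (.node [(106, (-1), 1)] .nil .nil) .nil))) (.node [(9, 1, 1)] (.node [] (.node [] .nil (.node [(146, 1, 1)] .nil .nil)) .nil) (.node [] (.node [(34, (-1), 1)] .nil (.node [(161, (-1), 1)] .nil .nil)) .nil))) (.node [] (.node [] .nil (.node [(19, 1, 1)] .nil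 (.node [(66, 1, 1)] (.node [(126, (-1), 1)] .nil .nil) .nil))) (.node [(13, (-1), 1)] (.node [] .nil (.node [(54, 1, 1)] (.node [(102, 1, 1)] .nil .nil) .nil)) (.node [] (.node [(37, 1, 1)] .nil .nil) (.node [] (.node [(139, (-1), 1)] .nil .nil) .nil))))) (.node [] (.node [] (.node [] (.node [] (.node [] (.node [(76, 1, 1)] .nil .nil) .nil) .nil) (.node [(18, 1, 1)] .nil (.node [(64, (-1), 1)] (.node [(119, (-1), 1)] .nil .nil) (.node [(223, 1, 1)] .nil .nil)))) (.node [] (.node [] (.node [] .nil (.node [(148, (-1), 1)] .nil .nil)) .nil) (.node [] (.node [(35, (-1), 1)] (.node [(84, (-1), 1)] .nil .nil) (.node [(163, 1, 1)] .nil .nil)) .nil))) (.node [] (.node [] (.node [] (.node [] .nil (.node [(145, 1, 1)] .nil .nil)) .nil) (.node [(21, (-1), 1)] (.node [] (.node [(80, 1, 1)] .nil .nil) (.node [(160, (-1), 1)] .nil .nil)) (.node [(71, 1, 1)] (.node [(128, (-1), 1)] .nil .nil) .nil))) (.node [] (.node [] .nil (.node [(56, (-1), 1)] .nil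 (.node [(206, (-1), 1)] .nil .nil))) (.node [] (.node [] .nil (.node [(168, 1, 1)] .nil .nil)) (.node [] (.node [(140, (-1), 1)] .nil .nil) .nil)))))) (.node [] (.node [] (.node [] (.node [] (.node [(14, (-1), 1)] .nil .nil) .nil) (.node [] (.node [] (.node [] (.node [(78, 1, 1)] .nil .nil) .nil) .nil) (.node [] .nil (.node [] (.node [(138, (-1), 1)] .nil .nil) .nil)))) (.node [] (.node [] (.node [] (.node [] (.node [(77, 1, 1)] .nil .nil) .nil) .nil) (.node [] .nil (.node [(68, 1, 1)] (.node [(0, (-1), 1), (1, (-1), 1), (2, (-1), 1), (3, (-1), 1), (4, (-1), 1), (5, (-1), 1), (6, (-1), 1), (75, (-1), 2)] .nil .nil) .nil))) (.node [] (.node [] .nil (.node [] .nil (.node [(204, (-1), 1)] .nil .nil))) (.node [] (.node [(38, (-1), 1)] .nil (.node [(166, 1, 1)] .nil .nil)) .nil)))) (.node [(75, 1, 1)] (.node [] (.node [] (.node [] (.node [] .nil (.node [(144, 1, 1)] .nil .nil)) .nil) (.node [] .nil (.node [] (.node [(123, (-1), 1)] .nil .nil)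 (.node [(228, 1, 1)] .nil .nil)))) (.node [] (.node [] .nil (.node [] (.node [(97, (-1), 1)] .nil .nil) (.node [(202, 1, 1)] .nil .nil))) (.node [] (.node [] .nil (.node [(164, (-1), 1)] .nil .nil)) .nil))) (.node [] (.node [] .nil (.node [] .nil (.node [] .nil (.node [(232, (-1), 1)] .nil .nil)))) (.node [] (.node [(17, 1, 1)] .nil (.node [(58, (-1), 1)] .nil (.node [(209, (-1), 1)] .nil .nil))) (.node [] (.node [(40, 1, 1)] (.node [(85, 1, 1)] .nil .nil) .nil) .nil))))))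
def X68 : Tr (List (ℕ × ℤ × ℕ)) := (.node [(76, 1, 1)] (.node [(76, 1, 1)] (.node [(76, (-1), 1)] (.node [] (.node [] (.node [(14, 1, 1)] .nil (.node [(43, 1, 1)] .nil .nil)) (.node [] .nil (.node [(62, (-1), 1)] .nil .nil))) (.node [(10, 1, 1)] (.node [] (.node [] (.node [(78, 1, 1)] .nil .nil) (.node [(147, (-1), 1)] .nil .nil)) .nil) (.node [] (.node [] .nil (.node [(162, 1, 1)] .nil .nil)) (.node [] (.node [(138, (-1), 1)] .nil .nil) .nil)))) (.node [] (.node [] (.node [] (.node [] (.node [(77, 1, 1)] .nil .nil) .nil) .nil) (.node [(20, 1, 1)] .nil (.node [] (.node [(0, (-1), 1), (1, (-1), 1), (2, (-1), 1), (3, (-1), 1), (4, (-1), 1), (5, (-1), 1), (76, (-1), 2)] .nil .nil) .nil))) (.node [] (.node [] .nil (.node [(55, 1, 1)] (.node [(103, 1, 1)] .nil .nil) (.node [(204, (-1), 1)] .nil .nil))) (.node [] (.node [] .nil (.node [(166, 1, 1)] .nil .nil)) .nil)))) (.node [(76, 1, 1)] (.node [] (.node [] (.node [] (.node [] .nil (.node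 [(144, 1, 1)] .nil .nil)) .nil) (.node [] .nil (.node [(65, (-1), 1)] (.node [(120, (-1), 1)] .nil .nil) (.node [(224, (-1), 1)] .nil .nil)))) (.node [] .nil (.node [] (.node [(36, (-1), 1)] .nil .nil) .nil))) (.node [] (.node [] .nil (.node [] (.node [] (.node [(81, 1, 1)] .nil .nil) .nil) (.node [(72, 1, 1)] (.node [(130, (-1), 1)] .nil .nil) (.node [(232, (-1), 1)] .nil .nil)))) (.node [] (.node [(17, (-1), 1)] .nil (.node [] .nil (.node [(207, 1, 1)] .nil .nil))) (.node [] (.node [(40, (-1), 1)] (.node [(85, 1, 1)] .nil .nil) (.node [(169, (-1), 1)] .nil .nil)) (.node [(74, 1, 1)] (.node [(141, 1, 1)] .nil .nil) .nil)))))) (.node [] (.node [] (.node [] (.node [] .nil (.node [(18, (-1), 1)] .nil .nil)) (.node [] (.node [] (.node [] .nil (.node [(148, (-1), 1)] .nil .nil)) .nil) (.node [] (.node [] (.node [(84, (-1), 1)] .nil .nil) (.node [(163, 1, 1)] .nil .nil)) .nil))) (.node [] (.node [] (.node [] (.node [] .nil (.node [(145, 1,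 1)] .nil .nil)) .nil) (.node [(21, 1, 1)] (.node [] .nil (.node [(160, (-1), 1)] .nil .nil)) (.node [(69, 1, 1)] (.node [(129, (-1), 1)] .nil .nil) .nil))) (.node [] (.node [] .nil (.node [(56, 1, 1)] .nil .nil)) (.node [] (.node [(39, (-1), 1)] .nil .nil) .nil)))) (.node [(76, (-1), 1)] (.node [] (.node [] .nil (.node [] .nil (.node [(66, (-1), 1)] (.node [(124, (-1), 1)] .nil .nil) (.node [(229, (-1), 1)] .nil .nil)))) (.node [(13, 1, 1)] (.node [] .nil (.node [] (.node [(98, (-1), 1)] .nil .nil) (.node [(203, (-1), 1)] .nil .nil))) (.node [] (.node [(37, (-1), 1)] .nil (.node [(165, 1, 1)] .nil .nil)) (.node [] (.node [(139, (-1), 1)] .nil .nil) .nil)))) (.node [] (.node [] .nil (.node [] (.node [(34, 1, 1)] .nil .nil) .nil)) (.node [] (.node [] .nil (.node [(59, (-1), 1)] (.node [(106, (-1), 1)] .nil .nil) (.node [(210, 1, 1)] .nil .nil))) (.node [] .nil (.node [(75, 1, 1)] (.node [(142, 1, 1)] .nil .nil) .nil)))))))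
def X69 : Tr (List (ℕ × ℤ × ℕ)) := (.node [(77, 1, 1)] (.node [(77, 1, 1)] (.node [(77, (-1), 1)] (.node [] (.node [] .nil (.node [] .nil (.node [(63, (-1), 1)] .nil .nil))) (.node [(11, 1, 1)] .nil (.node [] (.node [(36, 1, 1)] (.node [(84, (-1), 1)] .nil .nil) .nil) .nil))) (.node [] (.node [] .nil (.node [] .nil (.node [(69, (-1), 1)] (.node [(131, (-1), 1)] .nil .nil) .nil))) (.node [] (.node [] .nil (.node [(57, 1, 1)] (.node [(104, 1, 1)] .nil .nil) (.node [(206, 1, 1)] .nil .nil))) (.node [] (.node [] .nil (.node [(168, (-1), 1)] .nil .nil)) (.node [(75, 1, 1)] (.node [(141, 1, 1)] .nil .nil) .nil))))) (.node [(77, (-1), 1)] (.node [] (.node [] .nil (.node [(20, (-1), 1)] .nil (.node [(67, (-1), 1)] (.node [(121, (-1), 1)] .nil .nil) (.node [(225, 1, 1)] .nil .nil)))) (.node [(13, (-1), 1)] .nil .nil)) (.node [] (.node [] (.node [] (.node [] .nil (.node [(147, (-1), 1)] .nil .nil)) .nil) (.node [] (.node [] (.node [(82, 1, 1)]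 .nil .nil) (.node [(162, 1, 1)] .nil .nil)) (.node [(73, 1, 1)] (.node [(133, (-1), 1)] .nil .nil) .nil))) (.node [] (.node [] .nil (.node [(59, 1, 1)] (.node [(106, (-1), 1)] .nil .nil) .nil)) (.node [] (.node [(42, (-1), 1)] .nil .nil) .nil))))) (.node [] (.node [(77, 1, 1)] (.node [] (.node [] (.node [] (.node [] .nil (.node [(144, 1, 1)] .nil .nil)) .nil) (.node [(19, (-1), 1)] .nil .nil)) (.node [] .nil (.node [] (.node [(37, 1, 1)] .nil .nil) .nil))) (.node [] (.node [] (.node [] (.node [] .nil (.node [(146, (-1), 1)] .nil .nil)) .nil) (.node [] (.node [] .nil (.node [(161, 1, 1)] .nil .nil)) (.node [] (.node [(132, (-1), 1)] .nil .nil) (.node [(232, (-1), 1)] .nil .nil)))) (.node [] (.node [(17, 1, 1)] .nil (.node [(58, 1, 1)] .nil (.node [(207, 1, 1)] .nil .nil))) (.node [] (.node [(41, (-1), 1)] (.node [(85, 1, 1)] .nil .nil) (.node [(169, (-1), 1)] .nil .nil)) (.node [(76, 1, 1)] (.node [(142, 1, 1)] .nil .nil) .nil))))) (.node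 [] (.node [] (.node [] .nil (.node [(21, (-1), 1)] .nil (.node [(68, (-1), 1)] (.node [(0, (-1), 1), (1, (-1), 1), (2, (-1), 1), (3, (-1), 1), (4, (-1), 1), (77, (-1), 2)] .nil .nil) (.node [(230, 1, 1)] .nil .nil)))) (.node [] (.node [] .nil (.node [] (.node [(99, (-1), 1)] .nil .nil) (.node [(205, 1, 1)] .nil .nil))) (.node [] (.node [] .nil (.node [(167, (-1), 1)] .nil .nil)) (.node [(74, 1, 1)] (.node [(140, 1, 1)] .nil .nil) .nil)))) (.node [] (.node [] (.node [] (.node [] (.node [(78, 1, 1)] .nil .nil) (.node [(148, (-1), 1)] .nil .nil)) .nil) (.node [] (.node [(35, 1, 1)] .nil (.node [(163, 1, 1)] .nil .nil)) (.node [] (.node [(138, (-1), 1)] .nil .nil) .nil))) (.node [(14, (-1), 1)] (.node [] .nil (.node [] .nil (.node [(211, (-1), 1)] .nil .nil))) (.node [] (.node [(43, (-1), 1)] .nil .nil) .nil))))))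
def X70 : Tr (List (ℕ × ℤ × ℕ)) := (.node [(78, 1, 1)] (.node [(78, 1, 1)] (.node [] (.node [] (.node [] .nil (.node [(21, 1, 1)] .nil .nil)) (.node [(12, 1, 1)] .nil (.node [] (.node [(39, 1, 1)] .nil (.node [(167, (-1), 1)] .nil .nil)) (.node [(75, 1, 1)] (.node [(140, 1, 1)] .nil .nil) .nil)))) (.node [] (.node [] (.node [] (.node [] .nil (.node [(148, (-1), 1)] .nil .nil)) .nil) (.node [] .nil (.node [(72, (-1), 1)] (.node [(135, (-1), 1)] .nil .nil) (.node [(232, (-1), 1)] .nil .nil)))) (.node [] (.node [] .nil (.node [(60, 1, 1)] (.node [(105, 1, 1)] .nil .nil) (.node [(209, (-1), 1)] .nil .nil))) (.node [] (.node [(43, 1, 1)] (.node [(85, 1, 1)] .nil .nil) .nil) .nil)))) (.node [] (.node [] (.node [] (.node [] (.node [] .nil (.node [(146, (-1), 1)] .nil .nil)) .nil) (.node [] .nil (.node [(70, (-1), 1)] (.node [(0, (-1), 1), (1, (-1), 1), (2, (-1), 1), (3, (-1), 1), (78, (-1), 2)] .nil .nil) (.node [(226, (-1), 1)] .nil .nil))))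 (.node [] .nil (.node [] (.node [(41, 1, 1)] .nil (.node [(169, (-1), 1)] .nil .nil)) (.node [(77, 1, 1)] (.node [(142, 1, 1)] .nil .nil) .nil)))) (.node [] (.node [] .nil (.node [] (.node [] (.node [(83, 1, 1)] .nil .nil) (.node [(165, (-1), 1)] .nil .nil)) (.node [] (.node [(137, (-1), 1)] .nil .nil) .nil))) (.node [(14, 1, 1)] (.node [(19, 1, 1)] .nil (.node [(62, 1, 1)] .nil (.node [(211, (-1), 1)] .nil .nil))) .nil)))) (.node [] (.node [(78, (-1), 1)] (.node [] (.node [] (.node [] (.node [] .nil (.node [(145, (-1), 1)] .nil .nil)) .nil) .nil) (.node [(13, 1, 1)] .nil (.node [] (.node [(40, 1, 1)] .nil (.node [(168, (-1), 1)] .nil .nil)) (.node [(76, 1, 1)] (.node [(141, 1, 1)] .nil .nil) .nil)))) (.node [] (.node [] .nil (.node [] (.node [] .nil (.node [(164, (-1), 1)] .nil .nil)) (.node [(73, (-1), 1)] (.node [(136, (-1), 1)] .nil .nil) .nil))) (.node [] (.node [(18, 1, 1)] .nil (.node [(61, 1, 1)] (.node [(106, (-1), 1)] .nil .nil)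 (.node [(210, (-1), 1)] .nil .nil))) .nil))) (.node [] (.node [] (.node [] (.node [] (.node [] .nil (.node [(147, (-1), 1)] .nil .nil)) .nil) (.node [] .nil (.node [(71, (-1), 1)] (.node [(134, (-1), 1)] .nil .nil) (.node [(231, (-1), 1)] .nil .nil)))) (.node [] (.node [] .nil (.node [] (.node [(100, (-1), 1)] .nil .nil) (.node [(208, (-1), 1)] .nil .nil))) (.node [] (.node [(42, 1, 1)] .nil .nil) .nil))) (.node [] (.node [] .nil (.node [] (.node [(38, 1, 1)] (.node [(84, (-1), 1)] .nil .nil) (.node [(166, (-1), 1)] .nil .nil)) (.node [(74, 1, 1)] (.node [(139, 1, 1)] .nil .nil) .nil))) (.node [] (.node [(20, 1, 1)] .nil (.node [(63, 1, 1)] .nil .nil)) .nil)))))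
def X71 : Tr (List (ℕ × ℤ × ℕ)) := (.node [(79, 1, 1)] (.node [(79, (-1), 1)] (.node [] (.node [(79, 1, 1)] (.node [] (.node [] (.node [] .nil (.node [(153, (-1), 1)] .nil .nil)) (.node [(51, 1, 1)] .nil .nil)) (.node [] (.node [] .nil (.node [(162, (-1), 1)] .nil .nil)) (.node [] (.node [(127, (-1), 1)] .nil .nil) (.node [(222, (-1), 1)] .nil .nil)))) (.node [] (.node [] .nil (.node [(65, 1, 1)] .nil .nil)) (.node [] .nil (.node [] .nil (.node [(233, 1, 1)] .nil .nil))))) (.node [] (.node [] (.node [] (.node [] .nil (.node [(155, (-1), 1)] .nil .nil)) (.node [(57, 1, 1)] .nil .nil)) (.node [] (.node [] .nil (.node [(167, (-1), 1)] .nil .nil)) .nil)) (.node [] (.node [(20, 1, 1)] .nil (.node [] (.node [(113, (-1), 1)] .nil .nil) (.node [(212, (-1), 1)] .nil .nil))) (.node [] (.node [(46, 1, 1)] .nil .nil) .nil)))) (.node [] (.node [] (.node [] (.node [(16, 1, 1)] .nil (.node [(54, 1, 1)] .nil .nil)) (.node [] (.node [] .nil (.node [(164,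 (-1), 1)] .nil .nil)) .nil)) (.node [] (.node [] (.node [] (.node [(83, 1, 1)] .nil .nil) (.node [(158, (-1), 1)] .nil .nil)) (.node [(70, 1, 1)] .nil .nil)) (.node [] .nil (.node [] (.node [(150, (-1), 1)] .nil .nil) .nil)))) (.node [] (.node [] (.node [(17, 1, 1)] (.node [] (.node [(82, 1, 1)] .nil .nil) .nil) .nil) (.node [] .nil (.node [] (.node [(149, (-1), 1)] .nil .nil) .nil))) (.node [] (.node [] .nil (.node [] (.node [(122, (-1), 1)] .nil .nil) (.node [(215, (-1), 1)] .nil .nil))) (.node [] (.node [(48, 1, 1)] .nil .nil) .nil))))) (.node [] (.node [] (.node [] (.node [] (.node [] (.node [] (.node [(80, 1, 1)] .nil .nil) .nil) .nil) (.node [] .nil (.node [] (.node [(0, (-1), 1), (2, (-1), 1), (3, (-1), 1), (4, (-1), 1), (5, (-1), 1), (6, (-1), 1), (7, (-1), 1), (79, (-1), 2)] .nil .nil) (.node [(227, (-1), 1)] .nil .nil)))) (.node [] (.node [(18, 1, 1)] (.node [] .nil (.node [(157, (-1), 1)] .nil .nil)) (.node [(67, 1, 1)] .nil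 .nil)) (.node [] (.node [(44, 1, 1)] .nil .nil) .nil))) (.node [] (.node [] (.node [] .nil (.node [(60, 1, 1)] .nil .nil)) (.node [] (.node [] (.node [(85, 1, 1)] .nil .nil) .nil) .nil)) (.node [(15, 1, 1)] (.node [] (.node [] .nil (.node [(160, (-1), 1)] .nil .nil)) (.node [] (.node [(118, (-1), 1)] .nil .nil) (.node [(213, (-1), 1)] .nil .nil))) (.node [] .nil (.node [] (.node [(151, (-1), 1)] .nil .nil) .nil))))) (.node [] (.node [] (.node [] (.node [] (.node [] (.node [(81, 1, 1)] .nil .nil) .nil) (.node [(55, 1, 1)] .nil .nil)) (.node [] (.node [] .nil (.node [(165, (-1), 1)] .nil .nil)) .nil)) (.node [] (.node [(19, 1, 1)] .nil (.node [(74, 1, 1)] (.node [(107, (-1), 1)] .nil .nil) .nil)) (.node [] (.node [(45, 1, 1)] .nil .nil) .nil))) (.node [] (.node [(8, (-1), 1)] (.node [] (.node [] .nil (.node [(156, (-1), 1)] .nil .nil)) (.node [(64, 1, 1)] .nil .nil)) .nil) (.node [] (.node [] (.node [] (.node [(84, 1, 1)] .nil .nil) (.node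 [(161, (-1), 1)] .nil .nil)) (.node [] (.node [(125, (-1), 1)] .nil .nil) (.node [(218, (-1), 1)] .nil .nil))) (.node [] (.node [(49, 1, 1)] .nil .nil) (.node [] (.node [(152, (-1), 1)] .nil .nil) .nil)))))))
def X72 : Tr (List (ℕ × ℤ × ℕ)) := (.node [(80, 1, 1)] (.node [(80, (-1), 1)] (.node [] (.node [(80, (-1), 1)] (.node [] (.node [] (.node [] (.node [(79, 1, 1)] .nil .nil) (.node [(154, 1, 1)] .nil .nil)) (.node [(52, 1, 1)] .nil .nil)) (.node [] (.node [] .nil (.node [(163, 1, 1)] .nil .nil)) (.node [] (.node [(0, (-1), 1), (2, (-1), 1), (3, (-1), 1), (4, (-1), 1), (5, (-1), 1), (6, (-1), 1), (80, (-1), 2)] .nil .nil) (.node [(223, 1, 1)] .nil .nil)))) (.node [] (.node [(18, (-1), 1)] (.node [] .nil (.node [(157, (-1), 1)] .nil .nil)) (.node [(66, 1, 1)] .nil .nil)) (.node [] (.node [(44, (-1), 1)] .nil .nil) .nil))) (.node [] (.node [] (.node [] .nil (.node [(58, 1, 1)] .nil .nil)) (.node [] (.node [] (.node [(85, 1, 1)] .nil .nil)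 (.node [(168, 1, 1)] .nil .nil)) .nil)) (.node [(15, (-1), 1)] (.node [(21, 1, 1)] (.node [] .nil (.node [(160, (-1), 1)] .nil .nil)) (.node [] (.node [(114, (-1), 1)] .nil .nil) .nil)) (.node [] (.node [(47, 1, 1)] .nil .nil) (.node [] (.node [(151, (-1), 1)] .nil .nil) .nil))))) (.node [] (.node [] (.node [] (.node [] (.node [] (.node [(81, 1, 1)] .nil .nil) .nil) .nil) .nil) (.node [] (.node [(19, (-1), 1)] (.node [] .nil (.node [(159, 1, 1)] .nil .nil)) (.node [(71, 1, 1)] .nil .nil)) (.node [] (.node [(45, (-1), 1)] .nil .nil) .nil))) (.node [] (.node [] (.node [] (.node [] .nil (.node [(156, (-1), 1)] .nil .nil)) (.node [(64, (-1), 1)] .nil .nil)) .nil) (.node [] (.node [] (.node [] (.node [(84, 1, 1)] .nil .nil) (.node [(161, (-1), 1)] .nil .nil)) (.node [] (.node [(123, (-1), 1)] .nil .nil) (.node [(216, 1, 1)] .nil .nil))) (.node [] .nil (.node [] (.node [(152, (-1), 1)] .nil .nil) .nil)))))) (.node [] (.node [] (.node [] (.node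 [] (.node [(16, (-1), 1)] .nil (.node [(54, (-1), 1)] .nil .nil)) (.node [] (.node [] .nil (.node [(164, (-1), 1)] .nil .nil)) (.node [] (.node [(128, (-1), 1)] .nil .nil) (.node [(228, 1, 1)] .nil .nil)))) (.node [] (.node [] (.node [] (.node [(83, 1, 1)] .nil .nil) .nil) (.node [(68, 1, 1)] .nil .nil)) (.node [] .nil (.node [] (.node [(150, (-1), 1)] .nil .nil) .nil)))) (.node [] (.node [] (.node [(17, (-1), 1)] (.node [] (.node [(82, 1, 1)] .nil .nil) .nil) (.node [(61, 1, 1)] .nil .nil)) (.node [] .nil (.node [] (.node [(149, (-1), 1)] .nil .nil) .nil))) (.node [] (.node [] .nil (.node [] (.node [(119, (-1), 1)] .nil .nil) (.node [(214, 1, 1)] .nil .nil))) (.node [] (.node [(48, (-1), 1)] .nil .nil) .nil)))) (.node [(80, 1, 1)] (.node [] (.node [] (.node [] (.node [] .nil (.node [(155, (-1), 1)] .nil .nil)) (.node [(56, 1, 1)] .nil .nil)) (.node [] (.node [] .nil (.node [(166, 1, 1)] .nil .nil)) .nil)) (.node [] (.node [] .nil (.node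 [(75, 1, 1)] (.node [(108, (-1), 1)] .nil .nil) (.node [(212, (-1), 1)] .nil .nil))) .nil)) (.node [] (.node [(9, (-1), 1)] .nil (.node [] .nil (.node [] .nil (.node [(233, 1, 1)] .nil .nil)))) (.node [] (.node [] .nil (.node [] (.node [(126, (-1), 1)] .nil .nil) (.node [(219, 1, 1)] .nil .nil))) (.node [] (.node [(50, 1, 1)] .nil .nil) .nil))))))
def X73 : Tr (List (ℕ × ℤ × ℕ)) := (.node [(81, 1, 1)] (.node [(81, (-1), 1)] (.node [] (.node [] (.node [] (.node [(16, 1, 1)] .nil (.node [(53, 1, 1)] .nil .nil)) (.node [] .nil (.node [] (.node [(129, (-1), 1)] .nil .nil) (.node [(224, (-1), 1)] .nil .nil)))) (.node [] (.node [] (.node [] (.node [(83, 1, 1)] .nil .nil) (.node [(158, 1, 1)] .nil .nil)) .nil) (.node [] .nil (.node [] (.node [(150, (-1), 1)] .nil .nil) .nil)))) (.node [] (.node [] (.node [(17, 1, 1)] (.node [] (.node [(82, 1, 1)] .nil .nil) .nil) (.node [(59, 1, 1)] .nil .nil)) (.node [] (.node [] .nil (.node [(169, (-1), 1)]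 .nil .nil)) (.node [] (.node [(149, (-1), 1)] .nil .nil) .nil))) (.node [] (.node [] .nil (.node [] (.node [(115, (-1), 1)] .nil .nil) (.node [(214, 1, 1)] .nil .nil))) .nil))) (.node [(81, 1, 1)] (.node [] (.node [] (.node [] (.node [] .nil (.node [(155, (-1), 1)] .nil .nil)) (.node [(56, (-1), 1)] .nil .nil)) (.node [] (.node [] .nil (.node [(166, 1, 1)] .nil .nil)) .nil)) (.node [] (.node [(20, (-1), 1)] .nil (.node [(72, 1, 1)] .nil .nil)) (.node [] (.node [(46, (-1), 1)] .nil .nil) .nil))) (.node [] (.node [] (.node [] .nil (.node [(65, (-1), 1)] .nil .nil)) (.node [] .nil (.node [] .nil (.node [(233, 1, 1)] .nil .nil)))) (.node [] (.node [] (.node [] .nil (.node [(162, 1, 1)] .nil .nil)) (.node [] (.node [(124, (-1), 1)] .nil .nil) (.node [(217, (-1), 1)] .nil .nil))) (.node [] (.node [(50, (-1), 1)] .nil .nil) (.node [(79, 1, 1)] (.node [(153, 1, 1)] .nil .nil) .nil)))))) (.node [] (.node [] (.node [] (.node [] (.node [] .nil (.node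 [(55, (-1), 1)] .nil .nil)) (.node [] (.node [] .nil (.node [(165, 1, 1)] .nil .nil)) (.node [] (.node [(130, (-1), 1)] .nil .nil) (.node [(229, (-1), 1)] .nil .nil)))) (.node [] (.node [] (.node [] .nil (.node [(159, 1, 1)] .nil .nil)) (.node [(69, 1, 1)] .nil .nil)) .nil)) (.node [] (.node [] (.node [] (.node [] .nil (.node [(156, (-1), 1)] .nil .nil)) (.node [(62, 1, 1)] .nil .nil)) .nil) (.node [] (.node [] (.node [] (.node [(84, 1, 1)] .nil .nil) .nil) (.node [] (.node [(120, (-1), 1)] .nil .nil) .nil)) (.node [] (.node [(49, (-1), 1)] .nil .nil) .nil)))) (.node [(81, (-1), 1)] (.node [] (.node [] .nil (.node [] (.node [] (.node [(85, 1, 1)] .nil .nil) .nil) .nil)) (.node [(15, 1, 1)] (.node [(21, (-1), 1)] (.node [] .nil (.node [(160, (-1), 1)] .nil .nil)) (.node [(76, 1, 1)] (.node [(109, (-1), 1)] .nil .nil) (.node [(213, 1, 1)] .nil .nil))) (.node [] (.node [(47, (-1), 1)] .nil .nil) (.node [] (.node [(151, (-1), 1)] .nil .nil)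 .nil)))) (.node [] (.node [(10, (-1), 1)] (.node [(18, 1, 1)] .nil (.node [(66, (-1), 1)] .nil .nil)) (.node [] (.node [(44, 1, 1)] .nil .nil) .nil)) (.node [] (.node [] (.node [] .nil (.node [(163, 1, 1)] .nil .nil)) (.node [] (.node [(0, (-1), 1), (2, (-1), 1), (3, (-1), 1), (4, (-1), 1), (5, (-1), 1), (81, (-1), 2)] .nil .nil) (.node [(220, (-1), 1)] .nil .nil))) (.node [] .nil (.node [(80, 1, 1)] (.node [(154, 1, 1)] .nil .nil) .nil)))))))
def X74 : Tr (List (ℕ × ℤ × ℕ)) := (.node [(82, 1, 1)] (.node [(82, (-1), 1)] (.node [] (.node [] (.node [] .nil (.node [] .nil (.node [] (.node [(132, (-1), 1)] .nil .nil) (.node [(225, 1, 1)] .nil .nil)))) (.node [] (.node [(20, 1, 1)] .nil (.node [(69, (-1), 1)] .nil .nil)) (.node [] (.node [(46, 1, 1)] .nil .nil) .nil))) (.node [] .nil (.node [] (.node [] (.node [] (.node [(84, 1, 1)] .nil .nil) (.node [(162, 1, 1)] .nil .nil)) (.node [] (.node [(116, (-1), 1)] .nil .nil) (.node [(216, (-1),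 1)] .nil .nil))) (.node [] .nil (.node [(80, 1, 1)] (.node [(153, 1, 1)] .nil .nil) .nil))))) (.node [(82, (-1), 1)] (.node [] (.node [] (.node [] .nil (.node [(58, (-1), 1)] .nil .nil)) (.node [] (.node [] (.node [(85, 1, 1)] .nil .nil) (.node [(168, (-1), 1)] .nil .nil)) .nil)) (.node [(15, (-1), 1)] (.node [] .nil (.node [(73, 1, 1)] .nil .nil)) .nil)) (.node [] (.node [] (.node [] (.node [] .nil (.node [(158, 1, 1)] .nil .nil)) (.node [(67, (-1), 1)] .nil .nil)) .nil) (.node [] (.node [] .nil (.node [] (.node [(0, (-1), 1), (2, (-1), 1), (3, (-1), 1), (4, (-1), 1), (82, (-1), 2)] .nil .nil) .nil)) (.node [] (.node [(52, (-1), 1)] .nil .nil) .nil))))) (.node [] (.node [(82, 1, 1)] (.node [] (.node [] (.node [] (.node [] .nil (.node [(155, (-1), 1)] .nil .nil)) (.node [(57, (-1), 1)] .nil .nil)) (.node [] (.node [] .nil (.node [(167, (-1), 1)] .nil .nil)) (.node [] (.node [(133, (-1), 1)] .nil .nil) (.node [(230, 1, 1)] .nil .nil))))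 (.node [] (.node [(21, 1, 1)] .nil .nil) (.node [] (.node [(47, 1, 1)] .nil .nil) .nil))) (.node [] (.node [] (.node [] (.node [] .nil (.node [(157, 1, 1)] .nil .nil)) (.node [(63, 1, 1)] .nil .nil)) (.node [] .nil (.node [] .nil (.node [(233, 1, 1)] .nil .nil)))) (.node [] (.node [] (.node [] .nil (.node [(163, 1, 1)] .nil .nil)) (.node [] (.node [(121, (-1), 1)] .nil .nil) (.node [(217, (-1), 1)] .nil .nil))) (.node [] (.node [(51, (-1), 1)] .nil .nil) (.node [(81, 1, 1)] (.node [(154, 1, 1)] .nil .nil) .nil))))) (.node [] (.node [] (.node [] (.node [(17, (-1), 1)] .nil (.node [(59, (-1), 1)] .nil .nil)) (.node [] (.node [] .nil (.node [(169, (-1), 1)] .nil .nil)) (.node [] (.node [(149, (-1), 1)] .nil .nil) .nil))) (.node [] (.node [] (.node [] .nil (.node [(161, 1, 1)] .nil .nil)) (.node [(77, 1, 1)] (.node [(110, (-1), 1)] .nil .nil) (.node [(215, (-1), 1)] .nil .nil))) (.node [] .nil (.node [(79, 1, 1)] (.node [(152, 1, 1)] .nil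 .nil) .nil)))) (.node [] (.node [(11, (-1), 1)] (.node [(19, 1, 1)] (.node [] (.node [(83, 1, 1)] .nil .nil) (.node [(159, 1, 1)] .nil .nil)) (.node [(68, (-1), 1)] .nil .nil)) (.node [] (.node [(45, 1, 1)] .nil .nil) (.node [] (.node [(150, (-1), 1)] .nil .nil) .nil))) (.node [(16, (-1), 1)] (.node [] .nil (.node [] (.node [(131, (-1), 1)] .nil .nil) (.node [(221, 1, 1)] .nil .nil))) (.node [] (.node [(53, (-1), 1)] .nil .nil) .nil))))))
def X75 : Tr (List (ℕ × ℤ × ℕ)) := (.node [(83, 1, 1)] (.node [(83, (-1), 1)] (.node [(83, 1, 1)] (.node [] (.node [] .nil (.node [] (.node [] .nil (.node [(169, (-1), 1)] .nil .nil)) (.node [] (.node [(136, (-1), 1)] .nil .nil) (.node [(226, (-1), 1)] .nil .nil)))) (.node [] (.node [] .nil (.node [(72, (-1), 1)] .nil .nil)) (.node [] (.node [(49, 1, 1)] .nil .nil) (.node [(80, 1, 1)] (.node [(152, 1, 1)] .nil .nil) .nil)))) (.node [] (.node [] (.node [(19, (-1), 1)] (.node [] .nil (.node [(159, 1, 1)]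 .nil .nil)) (.node [(63, (-1), 1)] .nil .nil)) (.node [] .nil (.node [] .nil (.node [(233, 1, 1)] .nil .nil)))) (.node [] (.node [] (.node [] .nil (.node [(165, (-1), 1)] .nil .nil)) (.node [] (.node [(117, (-1), 1)] .nil .nil) (.node [(219, 1, 1)] .nil .nil))) (.node [] (.node [(53, 1, 1)] .nil .nil) .nil)))) (.node [] (.node [] (.node [] (.node [] (.node [] .nil (.node [(157, 1, 1)] .nil .nil)) (.node [(61, (-1), 1)] .nil .nil)) (.node [] .nil (.node [] (.node [(149, (-1), 1)] .nil .nil) .nil))) (.node [] .nil (.node [] (.node [(51, 1, 1)] .nil .nil) (.node [(82, 1, 1)] (.node [(154, 1, 1)] .nil .nil) .nil)))) (.node [] (.node [] (.node [(21, (-1), 1)] .nil (.node [(70, (-1), 1)] .nil .nil)) .nil) (.node [(16, 1, 1)] (.node [] (.node [] .nil (.node [(167, (-1), 1)] .nil .nil)) (.node [] (.node [(134, (-1), 1)] .nil .nil) (.node [(221, 1, 1)] .nil .nil))) .nil)))) (.node [] (.node [(83, (-1), 1)] (.node [] (.node [] (.node [] (.node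 [] .nil (.node [(156, 1, 1)] .nil .nil)) (.node [(60, (-1), 1)] .nil .nil)) (.node [] (.node [] (.node [(85, 1, 1)] .nil .nil) .nil) (.node [] (.node [(137, (-1), 1)] .nil .nil) (.node [(231, (-1), 1)] .nil .nil)))) (.node [(15, 1, 1)] (.node [] .nil (.node [(73, (-1), 1)] .nil .nil)) (.node [] (.node [(50, 1, 1)] .nil .nil) (.node [(81, 1, 1)] (.node [(153, 1, 1)] .nil .nil) .nil)))) (.node [] (.node [] (.node [(20, (-1), 1)] .nil .nil) .nil) (.node [] (.node [] (.node [] .nil (.node [(166, (-1), 1)] .nil .nil)) (.node [] (.node [(0, (-1), 1), (2, (-1), 1), (3, (-1), 1), (83, (-1), 2)] .nil .nil) (.node [(220, 1, 1)] .nil .nil))) .nil))) (.node [] (.node [] (.node [] (.node [(18, (-1), 1)] (.node [] .nil (.node [(158, 1, 1)] .nil .nil)) (.node [(62, (-1), 1)] .nil .nil)) .nil) (.node [] (.node [] (.node [] (.node [(84, 1, 1)] .nil .nil) (.node [(164, (-1), 1)] .nil .nil)) (.node [(78, 1, 1)] (.node [(111, (-1), 1)] .nil .nil) (.node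 [(218, 1, 1)] .nil .nil))) (.node [] (.node [(52, 1, 1)] .nil .nil) .nil))) (.node [] (.node [(12, (-1), 1)] (.node [] .nil (.node [(71, (-1), 1)] .nil .nil)) (.node [] (.node [(48, 1, 1)] .nil .nil) (.node [(79, 1, 1)] (.node [(151, 1, 1)] .nil .nil) .nil))) (.node [] (.node [] (.node [] .nil (.node [(168, (-1), 1)] .nil .nil)) (.node [] (.node [(135, (-1), 1)] .nil .nil) .nil)) .nil)))))
def X76 : Tr (List (ℕ × ℤ × ℕ)) := (.node [(84, 1, 1)] (.node [] (.node [(84, (-1), 1)] (.node [] (.node [] (.node [(19, 1, 1)] .nil (.node [(63, 1, 1)] .nil .nil)) (.node [] (.node [] (.node [(85, 1, 1)] .nil .nil) .nil) (.node [] (.node [(141, (-1), 1)] .nil .nil) .nil))) (.node [(15, (-1), 1)] (.node [] (.node [] .nil (.node [(167, (-1), 1)] .nil .nil)) (.node [(76, (-1), 1)] .nil .nil)) (.node [] (.node [(55, 1, 1)] .nil .nil) .nil))) (.node [] (.node [] (.node [] (.node [] .nil (.node [(163, (-1), 1)] .nil .nil)) .nil) (.node [] .nil (.node [(81,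 1, 1)] (.node [(152, 1, 1)] .nil .nil) .nil))) (.node [] (.node [] .nil (.node [] (.node [(0, (-1), 1), (2, (-1), 1), (84, (-1), 2)] .nil .nil) (.node [(223, (-1), 1)] .nil .nil))) (.node [] (.node [(59, 1, 1)] .nil .nil) .nil)))) (.node [] (.node [] (.node [] (.node [(21, 1, 1)] (.node [] .nil (.node [(161, (-1), 1)] .nil .nil)) .nil) (.node [] .nil (.node [(79, 1, 1)] (.node [(150, 1, 1)] .nil .nil) .nil))) (.node [] (.node [] (.node [] .nil (.node [(169, (-1), 1)] .nil .nil)) (.node [(78, (-1), 1)] .nil .nil)) (.node [] (.node [(57, 1, 1)] .nil .nil) .nil))) (.node [] (.node [] (.node [] (.node [] .nil (.node [(165, (-1), 1)] .nil .nil)) (.node [(74, (-1), 1)] .nil .nil)) (.node [] .nil (.node [(83, 1, 1)] (.node [(154, 1, 1)] .nil .nil) .nil))) (.node [(17, 1, 1)] (.node [] .nil (.node [] (.node [(139, (-1), 1)] .nil .nil) (.node [(225, (-1), 1)] .nil .nil))) (.node [] (.node [(61, 1, 1)] .nil .nil) .nil))))) (.node [(84, 1, 1)] (.node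 [] (.node [] (.node [] (.node [(20, 1, 1)] (.node [] .nil (.node [(160, (-1), 1)] .nil .nil)) .nil) (.node [] .nil (.node [] (.node [(142, (-1), 1)] .nil .nil) (.node [(232, 1, 1)] .nil .nil)))) (.node [] (.node [] (.node [] .nil (.node [(168, (-1), 1)] .nil .nil)) (.node [(77, (-1), 1)] .nil .nil)) (.node [] (.node [(56, 1, 1)] .nil .nil) .nil))) (.node [] (.node [] (.node [] (.node [] .nil (.node [(164, (-1), 1)] .nil .nil)) .nil) (.node [] .nil (.node [(82, 1, 1)] (.node [(153, 1, 1)] .nil .nil) .nil))) (.node [] (.node [] .nil (.node [] (.node [(138, (-1), 1)] .nil .nil) (.node [(224, (-1), 1)] .nil .nil))) (.node [] (.node [(60, 1, 1)] .nil .nil) .nil)))) (.node [] (.node [] (.node [] (.node [] (.node [] .nil (.node [(162, (-1), 1)] .nil .nil)) .nil) (.node [] .nil (.node [(80, 1, 1)] (.node [(151, 1, 1)] .nil .nil) (.node [(233, 1, 1)] .nil .nil)))) (.node [] (.node [] .nil (.node [] (.node [(112, (-1), 1)] .nil .nil) (.node [(222,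 (-1), 1)] .nil .nil))) (.node [] (.node [(58, 1, 1)] .nil .nil) .nil))) (.node [] (.node [(13, (-1), 1)] (.node [] (.node [] .nil (.node [(166, (-1), 1)] .nil .nil)) (.node [(75, (-1), 1)] .nil .nil)) (.node [] (.node [(54, 1, 1)] .nil .nil) .nil)) (.node [(18, 1, 1)] (.node [] .nil (.node [] (.node [(140, (-1), 1)] .nil .nil) (.node [(226, (-1), 1)] .nil .nil))) (.node [] (.node [(62, 1, 1)] .nil .nil) .nil))))))
def X77 : Tr (List (ℕ × ℤ × ℕ)) := (.node [(85, 2, 1)] (.node [] (.node [] (.node [] (.node [] (.node [] (.node [] .nil (.node [(169, (-1), 1)] .nil .nil)) (.node [(73, 1, 1)] .nil .nil)) (.node [] .nil (.node [(83, 1, 1)] (.node [(147, (-1), 1)] .nil .nil) (.node [(232, 1, 1)] .nil .nil)))) (.node [(16, (-1), 1)] .nil (.node [] (.node [(65, 1, 1)] .nil .nil) (.node [] (.node [(161, (-1), 1)] .nil .nil) .nil)))) (.node [] (.node [] (.node [] .nil (.node [(77, 1, 1)] .nil .nil)) (.node [] .nil (.node [] (.node [(157, (-1), 1)]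 .nil .nil) .nil))) (.node [(20, (-1), 1)] (.node [] .nil (.node [(79, 1, 1)] (.node [(143, (-1), 1)] .nil .nil) (.node [(228, 1, 1)] .nil .nil))) (.node [] (.node [(69, 1, 1)] .nil .nil) (.node [] (.node [(165, (-1), 1)] .nil .nil) .nil))))) (.node [] (.node [] (.node [] (.node [] .nil (.node [(75, 1, 1)] .nil .nil)) (.node [] .nil (.node [] (.node [(155, (-1), 1)] .nil .nil) (.node [(233, 1, 1)] .nil .nil)))) (.node [(18, (-1), 1)] .nil (.node [] (.node [(67, 1, 1)] .nil .nil) (.node [] (.node [(163, (-1), 1)] .nil .nil) .nil)))) (.node [] (.node [] .nil (.node [] .nil (.node [] (.node [(159, (-1), 1)] .nil .nil) .nil))) (.node [] (.node [] .nil (.node [(81, 1, 1)] (.node [(145, (-1), 1)] .nil .nil) (.node [(230, 1, 1)] .nil .nil))) (.node [] (.node [(71, 1, 1)] .nil .nil) (.node [] (.node [(167, (-1), 1)] .nil .nil) .nil)))))) (.node [(85, (-1), 1)] (.node [] (.node [] (.node [] (.node [] .nil (.node [(74, 1, 1)] .nil .nil)) (.node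 [] .nil (.node [(84, 1, 1)] (.node [(148, (-1), 1)] .nil .nil) .nil))) (.node [(17, (-1), 1)] .nil (.node [] (.node [(66, 1, 1)] .nil .nil) (.node [] (.node [(162, (-1), 1)] .nil .nil) .nil)))) (.node [] (.node [] (.node [] .nil (.node [(78, 1, 1)] .nil .nil)) (.node [] .nil (.node [] (.node [(158, (-1), 1)] .nil .nil) .nil))) (.node [(21, (-1), 1)] (.node [] .nil (.node [(80, 1, 1)] (.node [(144, (-1), 1)] .nil .nil) (.node [(229, 1, 1)] .nil .nil))) (.node [] (.node [(70, 1, 1)] .nil .nil) (.node [] (.node [(166, (-1), 1)] .nil .nil) .nil))))) (.node [] (.node [] (.node [] (.node [] .nil (.node [(76, 1, 1)] .nil .nil)) (.node [] .nil (.node [] (.node [(156, (-1), 1)] .nil .nil) .nil))) (.node [(19, (-1), 1)] (.node [] .nil (.node [] (.node [(0, (-1), 1), (85, (-1), 2)] .nil .nil) (.node [(227, 1, 1)] .nil .nil))) (.node [] (.node [(68, 1, 1)] .nil .nil) (.node [] (.node [(164, (-1), 1)] .nil .nil) .nil)))) (.node [] (.node [(14, (-1),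 1)] .nil (.node [] (.node [(64, 1, 1)] .nil .nil) (.node [] (.node [(160, (-1), 1)] .nil .nil) .nil))) (.node [] (.node [] .nil (.node [(82, 1, 1)] (.node [(146, (-1), 1)] .nil .nil) (.node [(231, 1, 1)] .nil .nil))) (.node [] (.node [(72, 1, 1)] .nil .nil) (.node [] (.node [(168, (-1), 1)] .nil .nil) .nil)))))))
def X78 : Tr (List (ℕ × ℤ × ℕ)) := (.node [(86, (-1), 1)] (.node [] (.node [] (.node [] (.node [] (.node [] (.node [(26, (-1), 1)] .nil (.node [(170, 1, 1)] .nil .nil)) (.node [] (.node [(114, (-1), 1)] .nil .nil) .nil)) (.node [] (.node [] .nil (.node [(172, 1, 1)] .nil .nil)) .nil)) (.node [] (.node [] .nil (.node [] (.node [(125, 1, 1)] .nil .nil) (.node [(196, 1, 1)] .nil .nil))) (.node [] .nil (.node [] .nil (.node [(235, (-1), 1)] .nil .nil))))) (.node [] (.node [] (.node [] .nil (.node [] (.node [(119, (-1), 1)] .nil .nil) .nil)) (.node [] (.node [(48, (-1), 1)] (.node [(101, 1, 1)] .nil .nil) (.node [(174, 1, 1)] .nil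 .nil)) .nil)) (.node [] (.node [(22, (-1), 1)] .nil .nil) (.node [(24, (-1), 1)] .nil .nil)))) (.node [] (.node [] (.node [] (.node [] (.node [] (.node [(87, 1, 1)] .nil .nil) .nil) (.node [] .nil (.node [(183, 1, 1)] .nil .nil))) (.node [] (.node [(44, (-1), 1)] .nil .nil) .nil)) (.node [] (.node [] (.node [(31, (-1), 1)] (.node [(93, (-1), 1)] .nil .nil) (.node [(171, 1, 1)] .nil .nil)) (.node [] (.node [(1, (-1), 1), (2, (-1), 1), (3, (-2), 1), (4, (-2), 1), (5, (-2), 1), (6, (-2), 1), (7, (-1), 1), (86, (-1), 2)] .nil .nil) (.node [(212, 1, 1)] .nil .nil))) (.node [] (.node [] (.node [(107, 1, 1)] .nil .nil) (.node [(177, 1, 1)] .nil .nil)) .nil))) (.node [] (.node [(9, 1, 1)] (.node [] (.node [(29, (-1), 1)] (.node [(90, (-1), 1)] .nil .nil) .nil) (.node [] (.node [(122, 1, 1)] .nil .nil) (.node [(192, 1, 1)] .nil .nil))) (.node [(23, (-1), 1)] (.node [(64, (-1), 1)] .nil .nil) .nil)) (.node [] (.node [] (.node [(35, (-1), 1)] (.node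 [(96, 1, 1)] .nil .nil) .nil) .nil) (.node [] (.node [] .nil (.node [(179, 1, 1)] .nil .nil)) .nil))))) (.node [] (.node [] (.node [] (.node [] (.node [] .nil (.node [] .nil (.node [(182, 1, 1)] .nil .nil))) .nil) (.node [] (.node [] (.node [(30, (-1), 1)] (.node [(92, 1, 1)] .nil .nil) .nil) (.node [] (.node [(126, (-1), 1)] .nil .nil) (.node [(202, 1, 1)] .nil .nil))) .nil)) (.node [] (.node [(8, 1, 1)] (.node [] (.node [] (.node [(89, 1, 1)] .nil .nil) .nil) .nil) (.node [] (.node [(54, (-1), 1)] (.node [(102, (-1), 1)] .nil .nil) .nil) .nil)) (.node [] (.node [] (.node [(34, (-1), 1)] .nil .nil) .nil) (.node [] (.node [] .nil (.node [(178, 1, 1)] .nil .nil)) .nil)))) (.node [(86, 1, 1)] (.node [] (.node [] (.node [] (.node [] (.node [(88, (-1), 1)] .nil .nil) .nil) (.node [] (.node [(118, 1, 1)] .nil .nil) (.node [(186, 1, 1)] .nil .nil))) (.node [] (.node [(45, (-1), 1)] .nil (.node [(173, 1, 1)] .nil .nil)) .nil)) (.node [] .nil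 (.node [] (.node [] (.node [(108, (-1), 1)] .nil .nil) .nil) .nil))) (.node [] (.node [] (.node [] .nil (.node [] (.node [(123, (-1), 1)] .nil .nil) (.node [(193, 1, 1)] .nil .nil))) (.node [] .nil (.node [] .nil (.node [(234, (-1), 1)] .nil .nil)))) (.node [] (.node [] (.node [(38, (-1), 1)] (.node [(97, (-1), 1)] .nil .nil) .nil) .nil) (.node [(25, (-1), 1)] (.node [] (.node [(113, 1, 1)] .nil .nil) .nil) .nil))))))
def X79 : Tr (List (ℕ × ℤ × ℕ)) := (.node [(87, (-1), 1)] (.node [] (.node [] (.node [(87, 1, 1)] (.node [] (.node [] (.node [(27, (-1), 1)] .nil .nil) (.node [] (.node [(115, (-1), 1)] .nil .nil) (.node [(182, 1, 1)] .nil .nil))) .nil) (.node [] (.node [] (.node [(30, 1, 1)] (.node [(92, 1, 1)] .nil .nil) .nil) (.node [] (.node [(127, (-1), 1)] .nil .nil) (.node [(197, (-1), 1)] .nil .nil))) (.node [] .nil (.node [] .nil (.node [(236, 1, 1)] .nil .nil))))) (.node [] (.node [(8, (-1), 1)] (.node [] (.node [] (.node [(89,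 1, 1)] .nil .nil) .nil) (.node [] (.node [(120, (-1), 1)] .nil .nil) .nil)) (.node [] (.node [(49, (-1), 1)] .nil (.node [(175, (-1), 1)] .nil .nil)) .nil)) (.node [] (.node [] (.node [(34, 1, 1)] .nil .nil) .nil) (.node [] (.node [] .nil (.node [(178, 1, 1)] .nil .nil)) .nil)))) (.node [(87, 1, 1)] (.node [] (.node [] (.node [] .nil (.node [] (.node [(118, 1, 1)] .nil .nil) (.node [(184, (-1), 1)] .nil .nil))) (.node [] (.node [] .nil (.node [(173, 1, 1)] .nil .nil)) .nil)) (.node [] (.node [] (.node [(32, (-1), 1)] (.node [(94, (-1), 1)] .nil .nil) .nil) (.node [] (.node [(129, (-1), 1)] .nil .nil) (.node [(213, (-1), 1)] .nil .nil))) .nil)) (.node [] (.node [(10, 1, 1)] (.node [] (.node [] (.node [(91, (-1), 1)] .nil .nil) .nil) .nil) (.node [] (.node [(65, (-1), 1)] .nil .nil) (.node [] .nil (.node [(234, (-1), 1)] .nil .nil)))) (.node [] (.node [] (.node [(36, (-1), 1)] .nil .nil) .nil) (.node [(25, 1, 1)] (.node [] (.node [(113,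 1, 1)] .nil .nil) (.node [(180, (-1), 1)] .nil .nil)) .nil))))) (.node [] (.node [] (.node [] (.node [] (.node [] (.node [] (.node [(88, 1, 1)] .nil .nil) .nil) .nil) (.node [] (.node [(44, 1, 1)] .nil .nil) .nil)) (.node [] (.node [] (.node [] .nil (.node [(171, 1, 1)] .nil .nil)) (.node [] (.node [(1, (-1), 1), (2, (-1), 1), (3, (-2), 1), (4, (-2), 1), (5, (-2), 1), (6, (-1), 1), (7, (-1), 1), (87, (-1), 2)] .nil .nil) (.node [(203, (-1), 1)] .nil .nil))) (.node [] (.node [] (.node [(107, 1, 1)] .nil .nil) (.node [(177, 1, 1)] .nil .nil)) .nil))) (.node [] (.node [] (.node [] (.node [(29, 1, 1)] .nil .nil) (.node [] (.node [(122, 1, 1)] .nil .nil) (.node [(192, 1, 1)] .nil .nil))) (.node [(23, 1, 1)] (.node [(55, (-1), 1)] (.node [(103, (-1), 1)] .nil .nil) .nil) .nil)) (.node [] (.node [] (.node [] (.node [(96, 1, 1)] .nil .nil) .nil) .nil) .nil))) (.node [(87, (-1), 1)] (.node [] (.node [] (.node [] .nil (.node [] .nil (.node [(187,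 (-1), 1)] .nil .nil))) (.node [] (.node [(46, (-1), 1)] (.node [(101, 1, 1)] .nil .nil) .nil) .nil)) (.node [] (.node [(22, 1, 1)] .nil .nil) (.node [(24, 1, 1)] (.node [] (.node [(109, (-1), 1)] .nil .nil) .nil) .nil))) (.node [] (.node [] (.node [] .nil (.node [] (.node [(124, (-1), 1)] .nil .nil) (.node [(194, (-1), 1)] .nil .nil))) .nil) (.node [] (.node [] (.node [(39, (-1), 1)] (.node [(98, (-1), 1)] .nil .nil) (.node [(172, 1, 1)] .nil .nil)) .nil) (.node [] .nil (.node [(86, 1, 1)] (.node [(170, 1, 1)] .nil .nil) .nil)))))))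
def X80 : Tr (List (ℕ × ℤ × ℕ)) := (.node [(88, (-1), 1)] (.node [] (.node [] (.node [(88, (-1), 1)] (.node [] (.node [] (.node [(28, (-1), 1)] (.node [(87, 1, 1)] .nil .nil) .nil) .nil) (.node [] (.node [(44, (-1), 1)] .nil .nil) .nil)) (.node [] (.node [] (.node [] (.node [(93, 1, 1)] .nil .nil) (.node [(171, 1, 1)] .nil .nil)) (.node [] (.node [(1, (-1), 1), (2, (-1), 1), (3, (-2), 1), (4, (-2), 1), (5, (-2), 1), (6, (-1), 1), (88, (-1), 2)] .nil .nil) (.node [(198, 1, 1)] .nil .nil))) (.node [] (.node [] .nil (.node [(177, 1, 1)] .nil .nil)) .nil))) (.node [] (.node [(9, (-1), 1)] (.node [] (.node [(29, (-1), 1)] (.node [(90, 1, 1)] .nil .nil) .nil) (.node [] .nil (.node [(192, 1, 1)] .nil .nil))) (.node [(23, (-1), 1)] (.node [(50, (-1), 1)] (.node [(103, (-1), 1)] .nil .nil) (.node [(176, 1, 1)] .nil .nil)) .nil)) .nil)) (.node [(88, 1, 1)] (.node [] (.node [] (.node [] .nil (.node [] (.node [(119, 1, 1)] .nil .nil) (.node [(185,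 1, 1)] .nil .nil))) .nil) (.node [] (.node [(22, (-1), 1)] (.node [(33, (-1), 1)] .nil .nil) (.node [] (.node [(130, 1, 1)] .nil .nil) (.node [(214, 1, 1)] .nil .nil))) (.node [(24, (-1), 1)] (.node [] (.node [(109, (-1), 1)] .nil .nil) .nil) .nil))) (.node [] (.node [] (.node [] .nil (.node [] (.node [(124, (-1), 1)] .nil .nil) .nil)) (.node [] (.node [(66, (-1), 1)] .nil .nil) (.node [] .nil (.node [(235, 1, 1)] .nil .nil)))) (.node [] (.node [] (.node [(37, (-1), 1)] (.node [(98, (-1), 1)] .nil .nil) (.node [(172, 1, 1)] .nil .nil)) .nil) (.node [] (.node [] (.node [(114, 1, 1)] .nil .nil) (.node [(181, 1, 1)] .nil .nil)) (.node [(86, (-1), 1)] (.node [(170, 1, 1)] .nil .nil) .nil)))))) (.node [] (.node [] (.node [] (.node [] .nil (.node [] (.node [] .nil (.node [(173, 1, 1)] .nil .nil)) .nil)) (.node [] (.node [] (.node [] (.node [(94, (-1), 1)] .nil .nil) .nil) (.node [] (.node [(128, (-1), 1)] .nil .nil) (.node [(204, 1, 1)] .nil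 .nil))) (.node [] (.node [] (.node [(108, 1, 1)] .nil .nil) .nil) .nil))) (.node [] (.node [(10, (-1), 1)] (.node [] (.node [] (.node [(91, (-1), 1)] .nil .nil) .nil) (.node [] (.node [(123, 1, 1)] .nil .nil) .nil)) (.node [] (.node [(56, (-1), 1)] .nil .nil) .nil)) (.node [] (.node [] (.node [] (.node [(97, 1, 1)] .nil .nil) .nil) .nil) (.node [(25, (-1), 1)] .nil .nil)))) (.node [] (.node [] (.node [] (.node [] .nil (.node [] (.node [(120, (-1), 1)] .nil .nil) (.node [(188, 1, 1)] .nil .nil))) (.node [] (.node [(47, (-1), 1)] (.node [(102, 1, 1)] .nil .nil) .nil) .nil)) (.node [] (.node [] (.node [(34, (-1), 1)] .nil .nil) .nil) (.node [] (.node [] .nil (.node [(178, 1, 1)] .nil .nil)) .nil))) (.node [] (.node [] (.node [] (.node [(30, (-1), 1)] .nil .nil) (.node [] .nil (.node [(195, 1, 1)] .nil .nil))) (.node [] .nil (.node [] .nil (.node [(236, 1, 1)] .nil .nil)))) (.node [] (.node [] (.node [(40, (-1), 1)] .nil .nil) .nil) (.node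 [] (.node [] (.node [(115, (-1), 1)] .nil .nil) (.node [(182, 1, 1)] .nil .nil)) .nil))))))
def X81 : Tr (List (ℕ × ℤ × ℕ)) := (.node [(89, (-1), 1)] (.node [] (.node [] (.node [(89, 1, 1)] (.node [] (.node [] .nil (.node [] (.node [(116, (-1), 1)] .nil .nil) (.node [(183, (-1), 1)] .nil .nil))) .nil) (.node [] (.node [] (.node [(31, 1, 1)] .nil .nil) (.node [] .nil (.node [(199, 1, 1)] .nil .nil))) (.node [] (.node [] (.node [(107, 1, 1)] .nil .nil) .nil) (.node [] .nil (.node [(237, (-1), 1)] .nil .nil))))) (.node [] (.node [] (.node [] .nil (.node [] (.node [(121, (-1), 1)] .nil .nil) .nil)) (.node [] (.node [(51, (-1), 1)] .nil .nil) .nil)) (.node [] (.node [] (.node [(35, 1, 1)] (.node [(96, 1, 1)] .nil .nil) .nil) .nil) (.node [] (.node [] .nil (.node [(179, (-1), 1)] .nil .nil)) (.node [(86, 1, 1)] .nil .nil))))) (.node [(89, (-1), 1)] (.node [] (.node [] .nil (.node [] (.node [(46, 1, 1)] (.node [(101, 1, 1)] .nil .nil) (.node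 [(174, (-1), 1)] .nil .nil)) .nil)) (.node [] (.node [] (.node [] (.node [(95, (-1), 1)] .nil .nil) .nil) (.node [] (.node [(132, (-1), 1)] .nil .nil) (.node [(215, 1, 1)] .nil .nil))) .nil)) (.node [] (.node [(11, 1, 1)] (.node [] .nil (.node [] (.node [(127, (-1), 1)] .nil .nil) (.node [(194, (-1), 1)] .nil .nil))) (.node [] (.node [(67, (-1), 1)] .nil .nil) .nil)) (.node [] .nil (.node [(26, 1, 1)] .nil .nil))))) (.node [] (.node [(89, 1, 1)] (.node [] (.node [] (.node [] (.node [] (.node [(90, 1, 1)] .nil .nil) .nil) (.node [] (.node [(118, 1, 1)] .nil .nil) (.node [(184, (-1), 1)] .nil .nil))) (.node [] (.node [(45, 1, 1)] .nil .nil) .nil)) (.node [] (.node [(22, (-1), 1)] (.node [(32, 1, 1)] .nil .nil) (.node [] (.node [(131, (-1), 1)] .nil .nil) (.node [(205, 1, 1)] .nil .nil))) (.node [(24, (-1), 1)] .nil .nil))) (.node [] (.node [] (.node [] .nil (.node [] (.node [(125, (-1), 1)] .nil .nil) (.node [(193, (-1), 1)] .nil .nil)))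 (.node [] (.node [(57, (-1), 1)] (.node [(104, (-1), 1)] .nil .nil) .nil) (.node [] .nil (.node [(234, (-1), 1)] .nil .nil)))) (.node [] (.node [] (.node [(36, 1, 1)] .nil (.node [(172, 1, 1)] .nil .nil)) .nil) (.node [] (.node [] (.node [(113, 1, 1)] .nil .nil) (.node [(180, (-1), 1)] .nil .nil)) (.node [(87, 1, 1)] (.node [(170, 1, 1)] .nil .nil) .nil))))) (.node [] (.node [] (.node [(8, 1, 1)] (.node [] (.node [(29, (-1), 1)] (.node [(91, 1, 1)] .nil .nil) .nil) (.node [] .nil (.node [(189, 1, 1)] .nil .nil))) (.node [(23, (-1), 1)] (.node [] .nil (.node [(175, (-1), 1)] .nil .nil)) .nil)) (.node [] .nil (.node [] (.node [] (.node [(110, (-1), 1)] .nil .nil) .nil) .nil))) (.node [] (.node [] (.node [] (.node [] (.node [(92, 1, 1)] .nil .nil) (.node [(171, 1, 1)] .nil .nil)) (.node [] (.node [(1, (-1), 1), (2, (-1), 1), (3, (-2), 1), (4, (-2), 1), (5, (-1), 1), (6, (-1), 1), (7, (-1), 1), (89, (-1), 2)] .nil .nil) .nil)) (.node [] (.node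 [] .nil (.node [(177, 1, 1)] .nil .nil)) .nil)) (.node [] (.node [] (.node [(41, (-1), 1)] (.node [(99, (-1), 1)] .nil .nil) .nil) .nil) (.node [(27, 1, 1)] .nil .nil))))))
def X82 : Tr (List (ℕ × ℤ × ℕ)) := (.node [(90, (-1), 1)] (.node [] (.node [] (.node [(90, (-1), 1)] (.node [] (.node [] (.node [] (.node [(89, 1, 1)] .nil .nil) .nil) .nil) (.node [] (.node [(45, (-1), 1)] .nil .nil) .nil)) (.node [] (.node [(22, 1, 1)] .nil (.node [] (.node [(131, (-1), 1)] .nil .nil) (.node [(200, (-1), 1)] .nil .nil))) (.node [(24, 1, 1)] (.node [] (.node [(108, 1, 1)] .nil .nil) .nil) .nil))) (.node [] (.node [] (.node [] .nil (.node [] .nil (.node [(193, (-1), 1)] .nil .nil))) (.node [] (.node [(52, (-1), 1)] (.node [(104, (-1), 1)] .nil .nil) .nil) .nil)) (.node [] (.node [] (.node [] (.node [(97, 1, 1)] .nil .nil) (.node [(172, 1, 1)] .nil .nil)) .nil) (.node [] .nil (.node [] (.node [(170, 1, 1)] .nil .nil) .nil))))) (.node [(90, (-1), 1)]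 (.node [] (.node [] (.node [] (.node [(29, 1, 1)] (.node [(91, 1, 1)] .nil .nil) .nil) .nil) (.node [(23, 1, 1)] (.node [(47, 1, 1)] (.node [(102, 1, 1)] .nil .nil) .nil) .nil)) (.node [] (.node [] .nil (.node [] (.node [(133, 1, 1)] .nil .nil) (.node [(216, (-1), 1)] .nil .nil))) (.node [] (.node [] (.node [(110, (-1), 1)] .nil .nil) .nil) .nil))) (.node [] (.node [] (.node [] (.node [] .nil (.node [(171, 1, 1)] .nil .nil)) (.node [] (.node [(1, (-1), 1), (2, (-1), 1), (3, (-2), 1), (4, (-2), 1), (5, (-1), 1), (6, (-1), 1), (90, (-1), 2)] .nil .nil) (.node [(195, 1, 1)] .nil .nil))) (.node [] (.node [(68, (-1), 1)] .nil (.node [(177, 1, 1)] .nil .nil)) .nil)) (.node [] (.node [] (.node [] (.node [(99, (-1), 1)] .nil .nil) .nil) .nil) .nil)))) (.node [] (.node [(90, 1, 1)] (.node [] (.node [] (.node [] .nil (.node [] (.node [(119, 1, 1)] .nil .nil) (.node [(185, 1, 1)] .nil .nil))) (.node [] (.node [] .nil (.node [(174, (-1), 1)] .nil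 .nil)) .nil)) (.node [] (.node [] (.node [(33, 1, 1)] (.node [(95, (-1), 1)] .nil .nil) .nil) (.node [] .nil (.node [(206, (-1), 1)] .nil .nil))) .nil)) (.node [] (.node [(11, (-1), 1)] (.node [] .nil (.node [] (.node [(126, (-1), 1)] .nil .nil) .nil)) (.node [] (.node [(58, (-1), 1)] .nil .nil) (.node [] .nil (.node [(235, 1, 1)] .nil .nil)))) (.node [] (.node [] (.node [(37, 1, 1)] .nil .nil) .nil) (.node [(26, (-1), 1)] (.node [] (.node [(114, 1, 1)] .nil .nil) (.node [(181, 1, 1)] .nil .nil)) (.node [(88, 1, 1)] .nil .nil))))) (.node [(90, 1, 1)] (.node [] (.node [(9, 1, 1)] (.node [] .nil (.node [] (.node [(121, (-1), 1)] .nil .nil) (.node [(190, (-1), 1)] .nil .nil))) (.node [] (.node [] .nil (.node [(176, 1, 1)] .nil .nil)) .nil)) (.node [] (.node [] (.node [(35, (-1), 1)] .nil .nil) .nil) (.node [] (.node [] .nil (.node [(179, (-1), 1)] .nil .nil)) (.node [(86, (-1), 1)] .nil .nil)))) (.node [] (.node [] (.node [] (.node [(31,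 (-1), 1)] (.node [(93, 1, 1)] .nil .nil) .nil) (.node [] (.node [(128, (-1), 1)] .nil .nil) .nil)) (.node [] .nil (.node [] .nil (.node [(237, (-1), 1)] .nil .nil)))) (.node [] (.node [] (.node [(42, (-1), 1)] .nil .nil) .nil) (.node [(28, 1, 1)] (.node [] (.node [(116, (-1), 1)] .nil .nil) (.node [(183, (-1), 1)] .nil .nil)) .nil))))))
def X83 : Tr (List (ℕ × ℤ × ℕ)) := (.node [(91, (-1), 1)] (.node [] (.node [] (.node [] (.node [] (.node [] .nil (.node [] .nil (.node [(185, 1, 1)] .nil .nil))) (.node [] (.node [(46, (-1), 1)] .nil .nil) .nil)) (.node [] (.node [] (.node [(33, (-1), 1)] (.node [(95, (-1), 1)] .nil .nil) .nil) (.node [] (.node [(132, 1, 1)] .nil .nil) (.node [(201, 1, 1)] .nil .nil))) (.node [] (.node [] (.node [(109, 1, 1)] .nil .nil) .nil) .nil))) (.node [] (.node [(11, 1, 1)] (.node [] .nil (.node [] .nil (.node [(194, 1, 1)] .nil .nil))) (.node [] (.node [(53, (-1), 1)] .nil .nil) .nil)) (.node [] (.node [] (.node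 [(37, (-1), 1)] (.node [(98, 1, 1)] .nil .nil) .nil) .nil) (.node [] (.node [] .nil (.node [(181, 1, 1)] .nil .nil)) (.node [(88, (-1), 1)] .nil .nil))))) (.node [] (.node [] (.node [] (.node [] .nil (.node [] (.node [(121, (-1), 1)] .nil .nil) .nil)) (.node [] (.node [] (.node [(103, 1, 1)] .nil .nil) (.node [(176, 1, 1)] .nil .nil)) .nil)) (.node [] (.node [] .nil (.node [] .nil (.node [(217, 1, 1)] .nil .nil))) .nil)) (.node [] (.node [] (.node [] .nil (.node [] (.node [(129, (-1), 1)] .nil .nil) .nil)) (.node [] (.node [(69, (-1), 1)] .nil .nil) (.node [] .nil (.node [(237, (-1), 1)] .nil .nil)))) (.node [] .nil (.node [(28, (-1), 1)] (.node [] (.node [(116, (-1), 1)] .nil .nil) .nil) (.node [(89, 1, 1)] .nil .nil)))))) (.node [] (.node [(91, 1, 1)] (.node [] (.node [] (.node [] (.node [(29, (-1), 1)] .nil .nil) (.node [] (.node [(120, 1, 1)] .nil .nil) .nil)) (.node [(23, (-1), 1)] (.node [(47, (-1), 1)] .nil (.node [(175, 1, 1)]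 .nil .nil)) .nil)) (.node [] (.node [] .nil (.node [] (.node [(133, 1, 1)] .nil .nil) (.node [(207, 1, 1)] .nil .nil))) (.node [] (.node [] (.node [(110, (-1), 1)] .nil .nil) .nil) .nil))) (.node [] (.node [] (.node [] (.node [] .nil (.node [(171, 1, 1)] .nil .nil)) (.node [] (.node [(1, (-1), 1), (2, (-1), 1), (3, (-2), 1), (4, (-2), 1), (5, (-1), 1), (91, (-1), 2)] .nil .nil) (.node [(195, 1, 1)] .nil .nil))) (.node [] (.node [(59, (-1), 1)] .nil (.node [(177, 1, 1)] .nil .nil)) (.node [] .nil (.node [(236, (-1), 1)] .nil .nil)))) (.node [] (.node [] (.node [] (.node [(99, (-1), 1)] .nil .nil) .nil) .nil) (.node [(27, (-1), 1)] (.node [] (.node [(115, 1, 1)] .nil .nil) .nil) .nil)))) (.node [(91, (-1), 1)] (.node [] (.node [(10, 1, 1)] (.node [] .nil (.node [] .nil (.node [(191, 1, 1)] .nil .nil))) (.node [] (.node [] (.node [(104, (-1), 1)] .nil .nil) .nil) .nil)) (.node [] (.node [] (.node [(36, (-1), 1)] .nil (.node [(172, 1, 1)]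 .nil .nil)) .nil) (.node [] (.node [] .nil (.node [(180, 1, 1)] .nil .nil)) (.node [(87, (-1), 1)] (.node [(170, 1, 1)] .nil .nil) .nil)))) (.node [] (.node [] (.node [(22, (-1), 1)] (.node [(32, (-1), 1)] (.node [(94, 1, 1)] .nil .nil) .nil) (.node [] (.node [(130, (-1), 1)] .nil .nil) .nil)) (.node [(24, (-1), 1)] .nil .nil)) (.node [] (.node [] (.node [(43, (-1), 1)] .nil .nil) .nil) (.node [] (.node [] .nil (.node [(184, 1, 1)] .nil .nil)) (.node [(90, 1, 1)] .nil .nil)))))))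
def X84 : Tr (List (ℕ × ℤ × ℕ)) := (.node [(92, (-1), 1)] (.node [] (.node [(92, 1, 1)] (.node [(92, 1, 1)] (.node [] (.node [] .nil (.node [] (.node [(117, (-1), 1)] .nil .nil) (.node [(186, 1, 1)] .nil .nil))) (.node [(23, 1, 1)] (.node [] .nil (.node [(175, (-1), 1)] .nil .nil)) .nil)) (.node [] .nil (.node [] .nil (.node [(86, 1, 1)] .nil (.node [(238, 1, 1)] .nil .nil))))) (.node [] (.node [] (.node [] (.node [] .nil (.node [(171, 1, 1)] .nil .nil)) (.node [] (.node [(1, (-1), 1), (2, (-1), 1), (3, (-2), 1), (4, (-1), 1), (5, (-1), 1), (6, (-1), 1), (7, (-1), 1), (92, (-1), 2)] .nil .nil) .nil)) (.node [] .nil (.node [] .nil (.node [(234, (-1), 1)] .nil .nil)))) (.node [] (.node [] (.node [(38, 1, 1)] .nil .nil) .nil) (.node [(27, (-1), 1)] (.node [] (.node [(113, 1, 1)] .nil .nil) .nil) .nil)))) (.node [] (.node [] (.node [(8, (-1), 1)] (.node [] .nil (.node [] (.node [(125, (-1), 1)] .nil .nil) (.node [(189, 1, 1)] .nil .nil)))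 (.node [] (.node [(49, 1, 1)] .nil .nil) .nil)) (.node [] (.node [] .nil (.node [] (.node [(136, (-1), 1)] .nil .nil) (.node [(218, (-1), 1)] .nil .nil))) (.node [] (.node [] .nil (.node [(180, (-1), 1)] .nil .nil)) (.node [(89, 1, 1)] (.node [(170, 1, 1)] .nil .nil) .nil)))) (.node [] (.node [(12, 1, 1)] (.node [(22, 1, 1)] (.node [(32, (-1), 1)] (.node [(95, 1, 1)] .nil .nil) .nil) (.node [] .nil (.node [(197, 1, 1)] .nil .nil))) (.node [] (.node [(70, (-1), 1)] .nil .nil) .nil)) (.node [] (.node [] (.node [(41, 1, 1)] .nil .nil) .nil) .nil)))) (.node [] (.node [(92, (-1), 1)] (.node [] (.node [] (.node [] (.node [] (.node [(93, 1, 1)] .nil .nil) .nil) (.node [] (.node [(122, (-1), 1)] .nil .nil) (.node [(187, 1, 1)] .nil .nil))) (.node [] (.node [(48, 1, 1)] (.node [(101, 1, 1)] .nil .nil) .nil) .nil)) (.node [] (.node [] .nil (.node [] (.node [(135, (-1), 1)] .nil .nil) (.node [(208, (-1), 1)] .nil .nil))) (.node [(25, (-1), 1)] (.node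 [] .nil (.node [(179, (-1), 1)] .nil .nil)) (.node [(87, 1, 1)] .nil .nil)))) (.node [] (.node [] (.node [] (.node [(31, (-1), 1)] .nil .nil) (.node [] .nil (.node [(196, 1, 1)] .nil .nil))) (.node [] (.node [(60, (-1), 1)] (.node [(105, (-1), 1)] .nil .nil) .nil) .nil)) (.node [] (.node [] (.node [(39, 1, 1)] .nil (.node [(173, (-1), 1)] .nil .nil)) .nil) .nil))) (.node [] (.node [] (.node [] (.node [] (.node [(30, (-1), 1)] (.node [(94, 1, 1)] .nil .nil) .nil) (.node [] (.node [(127, (-1), 1)] .nil .nil) .nil)) (.node [] (.node [(51, 1, 1)] .nil .nil) .nil)) (.node [] (.node [] (.node [] (.node [(96, 1, 1)] .nil .nil) .nil) .nil) (.node [(26, (-1), 1)] (.node [] (.node [(111, (-1), 1)] .nil .nil) .nil) .nil))) (.node [] (.node [] (.node [] .nil (.node [] (.node [(134, (-1), 1)] .nil .nil) (.node [(199, 1, 1)] .nil .nil))) (.node [] (.node [] (.node [(107, 1, 1)] .nil .nil) (.node [(178, (-1), 1)] .nil .nil)) .nil)) (.node [] (.node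 [] (.node [] (.node [(100, (-1), 1)] .nil .nil) (.node [(174, (-1), 1)] .nil .nil)) .nil) .nil)))))
def X85 : Tr (List (ℕ × ℤ × ℕ)) := (.node [(93, (-1), 1)] (.node [] (.node [(93, 1, 1)] (.node [(93, (-1), 1)] (.node [] (.node [] (.node [] (.node [(92, 1, 1)] .nil .nil) .nil) .nil) (.node [] (.node [(48, (-1), 1)] .nil (.node [(176, 1, 1)] .nil .nil)) .nil)) (.node [] (.node [] .nil (.node [] (.node [(135, (-1), 1)] .nil .nil) .nil)) (.node [(25, 1, 1)] (.node [] .nil (.node [(179, (-1), 1)] .nil .nil)) .nil))) (.node [] (.node [] (.node [] (.node [(31, 1, 1)] .nil .nil) (.node [] (.node [(128, (-1), 1)] .nil .nil) (.node [(196, 1, 1)] .nil .nil))) (.node [] (.node [] (.node [(105, (-1), 1)] .nil .nil) .nil) (.node [] .nil (.node [(235, 1, 1)] .nil .nil)))) (.node [] (.node [] (.node [] .nil (.node [(173, (-1), 1)] .nil .nil)) .nil) (.node [(28, (-1), 1)] (.node [] (.node [(114, 1, 1)] .nil .nil) .nil) .nil)))) (.node [] (.node [] (.node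 [(9, (-1), 1)] (.node [] (.node [(30, 1, 1)] (.node [(94, 1, 1)] .nil .nil) .nil) (.node [] (.node [(126, (-1), 1)] .nil .nil) (.node [(190, (-1), 1)] .nil .nil))) (.node [] (.node [(50, 1, 1)] .nil .nil) .nil)) (.node [] (.node [] .nil (.node [] (.node [(137, 1, 1)] .nil .nil) (.node [(219, 1, 1)] .nil .nil))) (.node [(26, 1, 1)] (.node [] (.node [(111, (-1), 1)] .nil .nil) (.node [(181, 1, 1)] .nil .nil)) (.node [(90, 1, 1)] .nil .nil)))) (.node [] (.node [] (.node [] (.node [(33, (-1), 1)] .nil .nil) (.node [] (.node [(134, (-1), 1)] .nil .nil) (.node [(198, (-1), 1)] .nil .nil))) (.node [] (.node [(71, (-1), 1)] .nil (.node [(178, (-1), 1)] .nil .nil)) .nil)) (.node [] (.node [] (.node [(42, 1, 1)] (.node [(100, (-1), 1)] .nil .nil) (.node [(174, (-1), 1)] .nil .nil)) .nil) .nil)))) (.node [] (.node [(93, (-1), 1)] (.node [] (.node [] (.node [] .nil (.node [] (.node [(123, (-1), 1)] .nil .nil) (.node [(188, (-1), 1)] .nil .nil)))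 (.node [] (.node [] (.node [(102, 1, 1)] .nil .nil) .nil) .nil)) (.node [] (.node [] .nil (.node [] .nil (.node [(209, 1, 1)] .nil .nil))) (.node [] .nil (.node [(88, 1, 1)] (.node [(170, 1, 1)] .nil .nil) .nil)))) (.node [] (.node [(12, (-1), 1)] (.node [(22, (-1), 1)] (.node [] (.node [(95, 1, 1)] .nil .nil) .nil) .nil) (.node [] (.node [(61, (-1), 1)] .nil .nil) .nil)) (.node [] (.node [] (.node [(40, 1, 1)] .nil .nil) .nil) .nil))) (.node [(93, 1, 1)] (.node [] (.node [] (.node [] (.node [] .nil (.node [(171, 1, 1)] .nil .nil)) (.node [] (.node [(1, (-1), 1), (2, (-1), 1), (3, (-2), 1), (4, (-1), 1), (5, (-1), 1), (6, (-1), 1), (93, (-1), 2)] .nil .nil) .nil)) (.node [] (.node [(52, 1, 1)] .nil .nil) .nil)) (.node [] (.node [] (.node [(38, (-1), 1)] (.node [(97, 1, 1)] .nil .nil) .nil) .nil) .nil)) (.node [] (.node [] (.node [] .nil (.node [] .nil (.node [(200, (-1), 1)] .nil .nil))) (.node [] (.node [] (.node [(108, 1, 1)] .nil .nil)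 .nil) (.node [(86, (-1), 1)] .nil (.node [(238, 1, 1)] .nil .nil)))) (.node [] (.node [(23, (-1), 1)] .nil .nil) (.node [] (.node [] (.node [(117, (-1), 1)] .nil .nil) (.node [(186, 1, 1)] .nil .nil)) .nil))))))
def X86 : Tr (List (ℕ × ℤ × ℕ)) := (.node [(94, (-1), 1)] (.node [] (.node [(94, 1, 1)] (.node [] (.node [] (.node [] .nil (.node [] .nil (.node [(188, (-1), 1)] .nil .nil))) (.node [] (.node [(49, (-1), 1)] .nil .nil) .nil)) (.node [] (.node [] .nil (.node [] (.node [(136, 1, 1)] .nil .nil) .nil)) (.node [] (.node [] .nil (.node [(180, 1, 1)] .nil .nil)) (.node [(88, (-1), 1)] (.node [(170, 1, 1)] .nil .nil) .nil)))) (.node [] (.node [(12, 1, 1)] (.node [(22, 1, 1)] (.node [(32, 1, 1)] (.node [(95, 1, 1)] .nil .nil) .nil) (.node [] (.node [(130, (-1), 1)] .nil .nil) (.node [(197, (-1), 1)] .nil .nil))) (.node [] .nil (.node [] .nil (.node [(236, (-1), 1)] .nil .nil)))) (.node [] (.node [] (.node [(40, (-1), 1)] .nil .nil) .nil)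 (.node [] (.node [] (.node [(115, 1, 1)] .nil .nil) .nil) .nil)))) (.node [(94, 1, 1)] (.node [] (.node [(10, (-1), 1)] (.node [] (.node [] .nil (.node [(171, 1, 1)] .nil .nil)) (.node [] (.node [(1, (-1), 1), (2, (-1), 1), (3, (-2), 1), (4, (-1), 1), (5, (-1), 1), (94, (-1), 2)] .nil .nil) (.node [(191, 1, 1)] .nil .nil))) .nil) (.node [] (.node [] .nil (.node [] .nil (.node [(220, (-1), 1)] .nil .nil))) (.node [(27, 1, 1)] .nil (.node [(91, 1, 1)] .nil .nil)))) (.node [] (.node [] .nil (.node [] (.node [(72, (-1), 1)] .nil .nil) (.node [] .nil (.node [(238, 1, 1)] .nil .nil)))) (.node [] (.node [(23, 1, 1)] (.node [(43, 1, 1)] .nil (.node [(175, 1, 1)] .nil .nil)) .nil) (.node [] (.node [] (.node [(117, (-1), 1)] .nil .nil) .nil) (.node [(92, 1, 1)] .nil .nil)))))) (.node [] (.node [(94, (-1), 1)] (.node [] (.node [] (.node [] (.node [(30, (-1), 1)] .nil .nil) (.node [] (.node [(124, (-1), 1)] .nil .nil) .nil)) (.node [] (.node [(50,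 (-1), 1)] (.node [(103, 1, 1)] .nil .nil) .nil) .nil)) (.node [] (.node [] .nil (.node [] (.node [(137, 1, 1)] .nil .nil) (.node [(210, (-1), 1)] .nil .nil))) (.node [] (.node [] (.node [(111, (-1), 1)] .nil .nil) (.node [(181, 1, 1)] .nil .nil)) .nil))) (.node [] (.node [] (.node [] (.node [(33, 1, 1)] .nil .nil) (.node [] (.node [(134, (-1), 1)] .nil .nil) (.node [(198, (-1), 1)] .nil .nil))) (.node [] (.node [(62, (-1), 1)] .nil (.node [(178, (-1), 1)] .nil .nil)) .nil)) (.node [] (.node [] (.node [] (.node [(100, (-1), 1)] .nil .nil) .nil) .nil) .nil))) (.node [(94, (-1), 1)] (.node [] (.node [] (.node [] .nil (.node [] (.node [(129, (-1), 1)] .nil .nil) .nil)) (.node [] (.node [(53, 1, 1)] (.node [(105, (-1), 1)] .nil .nil) .nil) .nil)) (.node [] (.node [] (.node [(39, (-1), 1)] (.node [(98, 1, 1)] .nil .nil) (.node [(173, (-1), 1)] .nil .nil)) .nil) (.node [(28, 1, 1)] .nil .nil))) (.node [] (.node [] (.node [] .nil (.node [] .nil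 (.node [(201, 1, 1)] .nil .nil))) (.node [(25, (-1), 1)] (.node [] (.node [(109, 1, 1)] .nil .nil) .nil) (.node [(87, (-1), 1)] .nil .nil))) (.node [] (.node [] (.node [] .nil (.node [(176, 1, 1)] .nil .nil)) .nil) (.node [] (.node [] .nil (.node [(187, (-1), 1)] .nil .nil)) (.node [(93, 1, 1)] .nil .nil)))))))
def X87 : Tr (List (ℕ × ℤ × ℕ)) := (.node [(95, (-1), 1)] (.node [] (.node [(95, 1, 1)] (.node [] (.node [] (.node [] .nil (.node [] .nil (.node [(190, 1, 1)] .nil .nil))) (.node [] (.node [(51, (-1), 1)] .nil .nil) .nil)) (.node [] .nil (.node [(27, (-1), 1)] (.node [] (.node [(111, (-1), 1)] .nil .nil) .nil) (.node [(90, (-1), 1)] .nil .nil)))) (.node [] (.node [] (.node [] .nil (.node [] (.node [(133, (-1), 1)] .nil .nil) (.node [(199, 1, 1)] .nil .nil))) (.node [] .nil (.node [] .nil (.node [(237, 1, 1)] .nil .nil)))) (.node [] (.node [] (.node [(42, (-1), 1)] (.node [(100, (-1), 1)] .nil .nil) (.node [(175, 1, 1)] .nil .nil))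 .nil) (.node [] (.node [] (.node [(116, 1, 1)] .nil .nil) .nil) (.node [(93, 1, 1)] .nil .nil))))) (.node [(95, (-1), 1)] (.node [] (.node [(11, (-1), 1)] (.node [] (.node [(32, (-1), 1)] .nil .nil) (.node [] (.node [(131, (-1), 1)] .nil .nil) .nil)) (.node [] (.node [(53, (-1), 1)] (.node [(105, (-1), 1)] .nil .nil) .nil) .nil)) (.node [] (.node [] .nil (.node [] .nil (.node [(221, 1, 1)] .nil .nil))) .nil)) (.node [] (.node [] (.node [] .nil (.node [] (.node [(136, 1, 1)] .nil .nil) (.node [(201, 1, 1)] .nil .nil))) (.node [] (.node [(73, (-1), 1)] .nil (.node [(180, 1, 1)] .nil .nil)) .nil)) .nil))) (.node [] (.node [] (.node [] (.node [] (.node [] (.node [(31, (-1), 1)] .nil (.node [(171, 1, 1)] .nil .nil)) (.node [] (.node [(1, (-1), 1), (2, (-1), 1), (3, (-2), 1), (4, (-1), 1), (95, (-1), 2)] .nil .nil) (.node [(191, 1, 1)] .nil .nil))) (.node [] (.node [(52, (-1), 1)] (.node [(104, 1, 1)] .nil .nil) .nil) .nil)) (.node [] (.node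 [] .nil (.node [] .nil (.node [(211, 1, 1)] .nil .nil))) (.node [(28, (-1), 1)] .nil (.node [(91, (-1), 1)] .nil .nil)))) (.node [] (.node [] (.node [] .nil (.node [] (.node [(135, 1, 1)] .nil .nil) (.node [(200, 1, 1)] .nil .nil))) (.node [] (.node [(63, (-1), 1)] .nil (.node [(179, 1, 1)] .nil .nil)) (.node [] .nil (.node [(238, 1, 1)] .nil .nil)))) (.node [] (.node [(23, (-1), 1)] (.node [(43, (-1), 1)] .nil (.node [(176, 1, 1)] .nil .nil)) .nil) (.node [] (.node [] (.node [(117, (-1), 1)] .nil .nil) .nil) (.node [(94, 1, 1)] .nil .nil))))) (.node [] (.node [] (.node [(12, (-1), 1)] (.node [(22, (-1), 1)] (.node [(33, (-1), 1)] .nil .nil) (.node [] (.node [(132, (-1), 1)] .nil .nil) .nil)) .nil) (.node [] (.node [] (.node [(41, (-1), 1)] (.node [(99, 1, 1)] .nil .nil) (.node [(174, 1, 1)] .nil .nil)) .nil) (.node [] .nil (.node [(92, 1, 1)] .nil .nil)))) (.node [] (.node [] (.node [] .nil (.node [] (.node [(137, 1, 1)] .nil .nil) .nil))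 (.node [(26, (-1), 1)] (.node [] (.node [(110, 1, 1)] .nil .nil) (.node [(181, 1, 1)] .nil .nil)) (.node [(89, (-1), 1)] (.node [(170, 1, 1)] .nil .nil) .nil))) (.node [] .nil (.node [] (.node [] .nil (.node [(189, 1, 1)] .nil .nil)) .nil))))))
def X88 : Tr (List (ℕ × ℤ × ℕ)) := (.node [(96, (-1), 1)] (.node [(96, 1, 1)] (.node [(96, (-1), 1)] (.node [(96, 1, 1)] (.node [] (.node [] .nil (.node [] (.node [(1, (-1), 1), (2, (-1), 1), (3, (-1), 1), (4, (-1), 1), (5, (-1), 1), (6, (-1), 1), (7, (-1), 1), (96, (-1), 2)] .nil .nil) .nil)) (.node [(24, 1, 1)] (.node [] (.node [(101, 1, 1)] .nil .nil) .nil) .nil)) (.node [] (.node [] (.node [(38, (-1), 1)] .nil .nil) (.node [] .nil (.node [(208, (-1), 1)] .nil .nil))) (.node [] .nil (.node [] .nil (.node [(239, (-1), 1)] .nil .nil))))) (.node [] (.node [] (.node [] (.node [] .nil (.node [(172, (-1), 1)] .nil .nil)) (.node [] (.node [(138, (-1), 1)] .nil .nil) .nil)) (.node [] (.node [(60, 1,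 1)] .nil .nil) (.node [(87, 1, 1)] .nil .nil))) (.node [] .nil (.node [] (.node [] (.node [(118, (-1), 1)] .nil .nil) (.node [(186, 1, 1)] .nil .nil)) .nil)))) (.node [] (.node [] (.node [] (.node [(22, (-1), 1)] .nil .nil) (.node [] (.node [(55, 1, 1)] .nil .nil) .nil)) (.node [] (.node [] (.node [(41, (-1), 1)] (.node [(100, 1, 1)] .nil .nil) (.node [(175, (-1), 1)] .nil .nil)) (.node [] (.node [(141, (-1), 1)] .nil .nil) (.node [(222, 1, 1)] .nil .nil))) (.node [] (.node [] .nil (.node [(184, 1, 1)] .nil .nil)) .nil))) (.node [] (.node [(13, 1, 1)] (.node [] (.node [(36, (-1), 1)] (.node [(99, 1, 1)] .nil .nil) .nil) (.node [] .nil (.node [(203, (-1), 1)] .nil .nil))) (.node [(27, 1, 1)] (.node [(74, (-1), 1)] (.node [(107, 1, 1)] .nil .nil) .nil) (.node [(92, 1, 1)] (.node [(170, 1, 1)] .nil .nil) .nil))) (.node [] .nil (.node [] (.node [] (.node [(125, (-1), 1)] .nil .nil) (.node [(189, 1, 1)] .nil .nil)) .nil))))) (.node [(96, 1,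 1)] (.node [] (.node [] (.node [(8, 1, 1)] (.node [] (.node [] (.node [(97, 1, 1)] .nil .nil) .nil) .nil) (.node [] (.node [(54, 1, 1)] .nil .nil) .nil)) (.node [] (.node [] (.node [(39, (-1), 1)] .nil (.node [(174, (-1), 1)] .nil .nil)) (.node [] (.node [(140, (-1), 1)] .nil .nil) .nil)) (.node [] (.node [] .nil (.node [(183, 1, 1)] .nil .nil)) .nil))) (.node [] (.node [] (.node [] (.node [(35, (-1), 1)] .nil .nil) (.node [] .nil (.node [(202, (-1), 1)] .nil .nil))) (.node [(26, 1, 1)] (.node [] (.node [(106, (-1), 1)] .nil .nil) .nil) (.node [(89, 1, 1)] .nil .nil))) (.node [] .nil (.node [] (.node [] (.node [(122, (-1), 1)] .nil .nil) (.node [(187, 1, 1)] .nil .nil)) .nil)))) (.node [] (.node [] (.node [] (.node [] (.node [(34, (-1), 1)] (.node [(98, 1, 1)] .nil .nil) .nil) .nil) (.node [(25, 1, 1)] (.node [(57, 1, 1)] .nil .nil) (.node [(86, 1, 1)] .nil (.node [(234, (-1), 1)] .nil .nil)))) (.node [] .nil (.node [] (.node [] (.node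 [(112, (-1), 1)] .nil .nil) .nil) .nil))) (.node [] (.node [] (.node [] (.node [] .nil (.node [(173, (-1), 1)] .nil .nil)) (.node [] (.node [(139, (-1), 1)] .nil .nil) (.node [(205, (-1), 1)] .nil .nil))) (.node [] (.node [] .nil (.node [(182, 1, 1)] .nil .nil)) .nil)) (.node [] .nil (.node [] (.node [] (.node [(127, (-1), 1)] .nil .nil) .nil) .nil))))))
def X89 : Tr (List (ℕ × ℤ × ℕ)) := (.node [(97, (-1), 1)] (.node [(97, 1, 1)] (.node [(97, (-1), 1)] (.node [(97, (-1), 1)] (.node [] (.node [] (.node [] (.node [(96, 1, 1)] .nil .nil) .nil) (.node [] (.node [(128, (-1), 1)] .nil .nil) .nil)) (.node [] (.node [(54, (-1), 1)] (.node [(102, 1, 1)] .nil .nil) .nil) .nil)) (.node [] (.node [] (.node [] .nil (.node [(174, (-1), 1)] .nil .nil)) (.node [] (.node [(140, (-1), 1)] .nil .nil) (.node [(209, 1, 1)] .nil .nil))) (.node [] (.node [] .nil (.node [(183, 1, 1)] .nil .nil)) .nil))) (.node [] (.node [] (.node [] (.node [(35, 1, 1)] .nil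 .nil) (.node [] .nil (.node [(202, (-1), 1)] .nil .nil))) (.node [(26, (-1), 1)] (.node [(61, 1, 1)] (.node [(106, (-1), 1)] .nil .nil) .nil) (.node [(88, 1, 1)] .nil .nil))) (.node [] .nil (.node [] (.node [] (.node [(119, (-1), 1)] .nil .nil) .nil) .nil)))) (.node [] (.node [] (.node [] (.node [] (.node [(34, 1, 1)] (.node [(98, 1, 1)] .nil .nil) .nil) .nil) (.node [(25, (-1), 1)] (.node [(56, 1, 1)] .nil .nil) (.node [(86, (-1), 1)] .nil .nil))) (.node [] (.node [] (.node [(42, (-1), 1)] .nil (.node [(176, 1, 1)] .nil .nil)) (.node [] (.node [(142, 1, 1)] .nil .nil) (.node [(223, (-1), 1)] .nil .nil))) (.node [] (.node [] (.node [(112, (-1), 1)] .nil .nil) (.node [(185, (-1), 1)] .nil .nil)) .nil))) (.node [] (.node [] (.node [] (.node [(37, (-1), 1)] .nil (.node [(173, (-1), 1)] .nil .nil)) (.node [] (.node [(139, (-1), 1)] .nil .nil) (.node [(204, 1, 1)] .nil .nil))) (.node [(28, 1, 1)] (.node [(75, (-1), 1)] (.node [(108, 1, 1)]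 .nil .nil) (.node [(182, 1, 1)] .nil .nil)) (.node [(93, 1, 1)] .nil .nil))) (.node [] .nil (.node [] (.node [] (.node [(126, (-1), 1)] .nil .nil) (.node [(190, (-1), 1)] .nil .nil)) .nil))))) (.node [(97, 1, 1)] (.node [] (.node [] (.node [(9, 1, 1)] (.node [(22, 1, 1)] .nil .nil) .nil) (.node [] (.node [] (.node [(40, (-1), 1)] (.node [(100, 1, 1)] .nil .nil) .nil) .nil) .nil)) (.node [] (.node [(13, (-1), 1)] (.node [] (.node [] (.node [(99, 1, 1)] .nil .nil) .nil) .nil) (.node [] .nil (.node [(90, 1, 1)] (.node [(170, 1, 1)] .nil .nil) .nil))) (.node [] .nil (.node [] (.node [] (.node [(123, (-1), 1)] .nil .nil) (.node [(188, (-1), 1)] .nil .nil)) .nil)))) (.node [(97, 1, 1)] (.node [] (.node [] (.node [] (.node [] .nil (.node [(172, (-1), 1)] .nil .nil)) (.node [] (.node [(138, (-1), 1)] .nil .nil) .nil)) (.node [] (.node [(58, 1, 1)] .nil .nil) (.node [] .nil (.node [(235, 1, 1)] .nil .nil)))) (.node [] .nil (.node [] (.node []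 .nil (.node [(186, 1, 1)] .nil .nil)) .nil))) (.node [] (.node [] (.node [] (.node [(38, 1, 1)] .nil .nil) (.node [] .nil (.node [(206, 1, 1)] .nil .nil))) (.node [] .nil (.node [] .nil (.node [(239, (-1), 1)] .nil .nil)))) (.node [] (.node [(24, (-1), 1)] .nil .nil) (.node [] (.node [] (.node [(1, (-1), 1), (2, (-1), 1), (3, (-1), 1), (4, (-1), 1), (5, (-1), 1), (6, (-1), 1), (97, (-1), 2)] .nil .nil) .nil) .nil))))))
def X90 : Tr (List (ℕ × ℤ × ℕ)) := (.node [(98, (-1), 1)] (.node [(98, 1, 1)] (.node [(98, (-1), 1)] (.node [] (.node [] (.node [(22, (-1), 1)] .nil (.node [] (.node [(130, (-1), 1)] .nil .nil) .nil)) (.node [] (.node [(55, (-1), 1)] (.node [(103, 1, 1)] .nil .nil) .nil) .nil)) (.node [] (.node [] (.node [(40, 1, 1)] (.node [(100, 1, 1)] .nil .nil) (.node [(175, 1, 1)] .nil .nil)) (.node [] (.node [(141, 1, 1)] .nil .nil) (.node [(210, (-1), 1)] .nil .nil))) (.node [] (.node [] .nil (.node [(184, (-1), 1)] .nil .nil)) .nil)))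 (.node [] (.node [(13, 1, 1)] (.node [] (.node [(36, 1, 1)] (.node [(99, 1, 1)] .nil .nil) .nil) (.node [] .nil (.node [(203, 1, 1)] .nil .nil))) (.node [(27, (-1), 1)] (.node [(62, 1, 1)] .nil .nil) (.node [] (.node [(170, 1, 1)] .nil .nil) .nil))) (.node [] .nil (.node [] (.node [] (.node [(120, (-1), 1)] .nil .nil) (.node [(188, (-1), 1)] .nil .nil)) .nil)))) (.node [(98, 1, 1)] (.node [] (.node [] (.node [] (.node [] .nil (.node [(172, (-1), 1)] .nil .nil)) (.node [] (.node [(138, (-1), 1)] .nil .nil) .nil)) (.node [] .nil (.node [(87, (-1), 1)] .nil .nil))) (.node [] (.node [] (.node [(43, (-1), 1)] .nil .nil) (.node [] .nil (.node [(224, 1, 1)] .nil .nil))) .nil)) (.node [] (.node [] .nil (.node [] (.node [(76, (-1), 1)] (.node [(109, 1, 1)] .nil .nil) .nil) (.node [(94, 1, 1)] .nil (.node [(239, (-1), 1)] .nil .nil)))) (.node [] (.node [(24, 1, 1)] .nil .nil) (.node [] (.node [] (.node [(1, (-1), 1), (2, (-1), 1), (3, (-1), 1),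 (4, (-1), 1), (5, (-1), 1), (98, (-1), 2)] .nil .nil) (.node [(191, 1, 1)] .nil .nil)) (.node [(96, 1, 1)] .nil .nil)))))) (.node [(98, 1, 1)] (.node [] (.node [] (.node [(10, 1, 1)] (.node [] (.node [(34, (-1), 1)] .nil .nil) .nil) (.node [(25, 1, 1)] (.node [(56, (-1), 1)] .nil .nil) .nil)) (.node [] (.node [] (.node [] .nil (.node [(176, 1, 1)] .nil .nil)) (.node [] (.node [(142, 1, 1)] .nil .nil) .nil)) (.node [] (.node [] (.node [(112, (-1), 1)] .nil .nil) (.node [(185, (-1), 1)] .nil .nil)) .nil))) (.node [] (.node [] (.node [] (.node [(37, 1, 1)] .nil (.node [(173, (-1), 1)] .nil .nil)) (.node [] (.node [(139, (-1), 1)] .nil .nil) (.node [(204, 1, 1)] .nil .nil))) (.node [(28, (-1), 1)] (.node [] .nil (.node [(182, 1, 1)] .nil .nil)) (.node [(91, 1, 1)] .nil .nil))) (.node [] .nil (.node [] (.node [] (.node [(124, (-1), 1)] .nil .nil) .nil) .nil)))) (.node [(98, (-1), 1)] (.node [] (.node [] .nil (.node [] (.node [(59, 1, 1)] (.node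 [(106, (-1), 1)] .nil .nil) .nil) (.node [(88, (-1), 1)] .nil (.node [(236, (-1), 1)] .nil .nil)))) (.node [] .nil (.node [] (.node [] .nil (.node [(187, (-1), 1)] .nil .nil)) .nil))) (.node [] (.node [] (.node [] (.node [(39, 1, 1)] .nil .nil) (.node [] .nil (.node [(207, (-1), 1)] .nil .nil))) .nil) (.node [] .nil (.node [] (.node [] (.node [(129, (-1), 1)] .nil .nil) .nil) (.node [(97, 1, 1)] .nil .nil)))))))
def X91 : Tr (List (ℕ × ℤ × ℕ)) := (.node [(99, (-1), 1)] (.node [(99, 1, 1)] (.node [(99, (-1), 1)] (.node [] (.node [] (.node [] .nil (.node [] (.node [(133, (-1), 1)] .nil .nil) .nil)) (.node [] (.node [(57, (-1), 1)] (.node [(104, 1, 1)] .nil .nil) .nil) .nil)) (.node [] (.node [] (.node [(42, 1, 1)] .nil .nil) (.node [] .nil (.node [(211, 1, 1)] .nil .nil))) (.node [] (.node [] (.node [(112, (-1), 1)] .nil .nil) .nil) .nil))) (.node [] (.node [] (.node [] .nil (.node [] .nil (.node [(205, (-1), 1)] .nil .nil))) (.node []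 (.node [(63, 1, 1)] .nil .nil) (.node [(91, (-1), 1)] .nil .nil))) (.node [] .nil (.node [] (.node [] (.node [(121, (-1), 1)] .nil .nil) (.node [(190, 1, 1)] .nil .nil)) (.node [(97, 1, 1)] .nil .nil))))) (.node [(99, (-1), 1)] (.node [] (.node [] (.node [] (.node [(36, (-1), 1)] .nil .nil) .nil) (.node [(27, 1, 1)] (.node [(59, (-1), 1)] (.node [(106, (-1), 1)] .nil .nil) .nil) (.node [(89, (-1), 1)] .nil .nil))) (.node [] (.node [] .nil (.node [] .nil (.node [(225, (-1), 1)] .nil .nil))) .nil)) (.node [] (.node [] (.node [] (.node [] .nil (.node [(175, 1, 1)] .nil .nil)) (.node [] (.node [(141, 1, 1)] .nil .nil) (.node [(207, (-1), 1)] .nil .nil))) (.node [] (.node [(77, (-1), 1)] (.node [(110, 1, 1)] .nil .nil) (.node [(184, (-1), 1)] .nil .nil)) (.node [(95, 1, 1)] .nil .nil))) (.node [] .nil (.node [] (.node [] (.node [(131, (-1), 1)] .nil .nil) .nil) .nil))))) (.node [(99, 1, 1)] (.node [(99, 1, 1)] (.node [] (.node [(11, 1, 1)]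 (.node [] (.node [(35, (-1), 1)] .nil (.node [(172, (-1), 1)] .nil .nil)) (.node [] (.node [(138, (-1), 1)] .nil .nil) .nil)) (.node [(26, 1, 1)] (.node [(58, (-1), 1)] .nil .nil) .nil)) (.node [] (.node [] (.node [(43, 1, 1)] .nil .nil) .nil) .nil)) (.node [] (.node [] (.node [] (.node [] .nil (.node [(174, 1, 1)] .nil .nil)) (.node [] (.node [(140, 1, 1)] .nil .nil) (.node [(206, (-1), 1)] .nil .nil))) (.node [] (.node [] .nil (.node [(183, (-1), 1)] .nil .nil)) (.node [] .nil (.node [(239, (-1), 1)] .nil .nil)))) (.node [] (.node [(24, (-1), 1)] .nil .nil) (.node [] (.node [] (.node [(1, (-1), 1), (2, (-1), 1), (3, (-1), 1), (4, (-1), 1), (99, (-1), 2)] .nil .nil) (.node [(191, 1, 1)] .nil .nil)) (.node [(98, 1, 1)] .nil .nil))))) (.node [] (.node [] (.node [(13, (-1), 1)] (.node [] (.node [(37, (-1), 1)] .nil .nil) .nil) (.node [(28, 1, 1)] .nil (.node [(90, (-1), 1)] (.node [(170, 1, 1)] .nil .nil) (.node [(237, 1, 1)] .nil .nil))))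 (.node [] .nil (.node [] (.node [] .nil (.node [(189, 1, 1)] .nil .nil)) (.node [(96, 1, 1)] .nil .nil)))) (.node [] (.node [] (.node [] (.node [(41, 1, 1)] (.node [(100, 1, 1)] .nil .nil) (.node [(176, 1, 1)] .nil .nil)) (.node [] (.node [(142, 1, 1)] .nil .nil) .nil)) (.node [] (.node [] .nil (.node [(185, (-1), 1)] .nil .nil)) .nil)) (.node [(22, 1, 1)] .nil (.node [] (.node [] (.node [(132, (-1), 1)] .nil .nil) .nil) .nil))))))
def X92 : Tr (List (ℕ × ℤ × ℕ)) := (.node [(100, (-1), 1)] (.node [(100, 1, 1)] (.node [] (.node [] (.node [] (.node [] .nil (.node [] (.node [(137, (-1), 1)] .nil .nil) .nil)) (.node [(28, (-1), 1)] (.node [(60, (-1), 1)] (.node [(105, 1, 1)] .nil .nil) .nil) .nil)) (.node [] .nil (.node [] (.node [] .nil (.node [(189, 1, 1)] .nil .nil)) (.node [(97, 1, 1)] .nil .nil)))) (.node [] (.node [] (.node [] (.node [(41, (-1), 1)] .nil (.node [(176, 1, 1)] .nil .nil)) (.node [] (.node [(142, 1, 1)] .nil .nil) (.node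 [(208, 1, 1)] .nil .nil))) (.node [] .nil (.node [(94, (-1), 1)] .nil (.node [(239, (-1), 1)] .nil .nil)))) (.node [] .nil (.node [] (.node [] (.node [(1, (-1), 1), (2, (-1), 1), (3, (-1), 1), (100, (-1), 2)] .nil .nil) .nil) .nil)))) (.node [] (.node [] (.node [(13, 1, 1)] (.node [] (.node [(39, (-1), 1)] .nil (.node [(174, 1, 1)] .nil .nil)) (.node [] (.node [(140, 1, 1)] .nil .nil) .nil)) (.node [] (.node [(62, (-1), 1)] .nil .nil) (.node [(92, (-1), 1)] (.node [(170, 1, 1)] .nil .nil) .nil))) (.node [] (.node [] .nil (.node [] .nil (.node [(226, 1, 1)] .nil .nil))) (.node [] (.node [] .nil (.node [(191, 1, 1)] .nil .nil)) (.node [(99, 1, 1)] .nil .nil)))) (.node [] (.node [] (.node [] (.node [(43, (-1), 1)] .nil .nil) (.node [] .nil (.node [(210, 1, 1)] .nil .nil))) (.node [] (.node [(78, (-1), 1)] (.node [(111, 1, 1)] .nil .nil) (.node [(187, 1, 1)] .nil .nil)) .nil)) (.node [(22, (-1), 1)] (.node [(26, (-1), 1)] .nil .nil) (.node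 [] (.node [] (.node [(135, (-1), 1)] .nil .nil) .nil) .nil))))) (.node [(100, 1, 1)] (.node [(100, (-1), 1)] (.node [] (.node [(12, 1, 1)] (.node [] (.node [(38, (-1), 1)] .nil (.node [(173, 1, 1)] .nil .nil)) (.node [] (.node [(139, 1, 1)] .nil .nil) .nil)) (.node [] (.node [(61, (-1), 1)] (.node [(106, (-1), 1)] .nil .nil) .nil) .nil)) (.node [] .nil (.node [] (.node [] .nil (.node [(190, 1, 1)] .nil .nil)) (.node [(98, 1, 1)] .nil .nil)))) (.node [] (.node [] (.node [] (.node [(42, (-1), 1)] .nil .nil) (.node [] .nil (.node [(209, 1, 1)] .nil .nil))) (.node [] (.node [] .nil (.node [(186, 1, 1)] .nil .nil)) (.node [(95, (-1), 1)] .nil .nil))) (.node [] (.node [(25, (-1), 1)] .nil .nil) (.node [] (.node [] (.node [(134, (-1), 1)] .nil .nil) .nil) .nil)))) (.node [] (.node [] (.node [] (.node [] (.node [(40, (-1), 1)] .nil (.node [(175, 1, 1)] .nil .nil)) (.node [] (.node [(141, 1, 1)] .nil .nil) .nil)) (.node [] (.node [(63, (-1), 1)]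 .nil .nil) (.node [(93, (-1), 1)] .nil (.node [(238, (-1), 1)] .nil .nil)))) .nil) (.node [] (.node [] (.node [] .nil (.node [] .nil (.node [(211, 1, 1)] .nil .nil))) (.node [] (.node [] (.node [(112, (-1), 1)] .nil .nil) (.node [(188, 1, 1)] .nil .nil)) (.node [(96, 1, 1)] .nil .nil))) (.node [] (.node [(27, (-1), 1)] .nil .nil) (.node [] (.node [] (.node [(136, (-1), 1)] .nil .nil) .nil) .nil))))))
def X93 : Tr (List (ℕ × ℤ × ℕ)) := (.node [] (.node [(101, 1, 1)] (.node [] (.node [(101, 1, 1)] (.node [(8, (-1), 1)] (.node [] (.node [(41, 1, 1)] .nil (.node [(175, (-1), 1)] .nil .nil)) (.node [] (.node [(143, (-1), 1)] .nil .nil) (.node [(202, (-1), 1)] .nil .nil))) (.node [(29, 1, 1)] .nil (.node [(92, 1, 1)] .nil .nil))) (.node [] .nil (.node [] (.node [] (.node [(122, (-1), 1)] .nil .nil) .nil) (.node [] .nil (.node [(240, 1, 1)] .nil .nil))))) (.node [] (.node [] (.node [] .nil (.node [] (.node [(144, (-1), 1)] .nil .nil) .nil))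 (.node [] (.node [(70, 1, 1)] .nil .nil) .nil)) (.node [] .nil (.node [(36, 1, 1)] (.node [] .nil (.node [(196, (-1), 1)] .nil .nil)) .nil)))) (.node [] (.node [] (.node [] (.node [] .nil (.node [] .nil (.node [(205, (-1), 1)] .nil .nil))) (.node [] (.node [(65, 1, 1)] .nil .nil) (.node [] .nil (.node [(234, (-1), 1)] .nil .nil)))) (.node [] (.node [] (.node [] (.node [(105, 1, 1)] .nil .nil) .nil) (.node [] (.node [(147, (-1), 1)] .nil .nil) (.node [(227, (-1), 1)] .nil .nil))) (.node [] (.node [] (.node [(127, (-1), 1)] .nil .nil) (.node [(194, (-1), 1)] .nil .nil)) (.node [] (.node [(172, (-1), 1)] .nil .nil) .nil)))) (.node [] (.node [(14, 1, 1)] (.node [] (.node [] (.node [(104, 1, 1)] .nil .nil) .nil) .nil) (.node [(32, 1, 1)] (.node [] (.node [(113, (-1), 1)] .nil .nil) .nil) (.node [] (.node [(171, (-1), 1)] .nil .nil) .nil))) (.node [] (.node [] .nil (.node [(87, 1, 1)] .nil .nil)) (.node [(38, 1, 1)] (.node [] .nil (.node [(199,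 (-1), 1)] .nil .nil)) .nil))))) (.node [(101, (-1), 1)] (.node [] (.node [] (.node [] (.node [] (.node [] (.node [(102, 1, 1)] .nil .nil) .nil) (.node [] .nil (.node [(203, (-1), 1)] .nil .nil))) (.node [] (.node [(64, 1, 1)] .nil .nil) (.node [(96, 1, 1)] .nil .nil))) (.node [] (.node [] .nil (.node [] (.node [(146, (-1), 1)] .nil .nil) .nil)) (.node [(34, 1, 1)] (.node [] (.node [(125, (-1), 1)] .nil .nil) (.node [(193, (-1), 1)] .nil .nil)) .nil))) (.node [] (.node [] .nil (.node [(31, 1, 1)] (.node [(74, 1, 1)] .nil .nil) .nil)) (.node [(22, 1, 1)] (.node [] .nil (.node [(86, 1, 1)] .nil .nil)) (.node [] (.node [] .nil (.node [(197, (-1), 1)] .nil .nil)) (.node [] (.node [(173, (-1), 1)] .nil .nil) .nil))))) (.node [] (.node [] (.node [] (.node [] (.node [] (.node [(103, 1, 1)] .nil .nil) .nil) (.node [] .nil (.node [(208, (-1), 1)] .nil .nil))) (.node [(30, 1, 1)] (.node [(67, 1, 1)] .nil .nil) .nil)) (.node [] .nil (.node [(35,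 1, 1)] (.node [] (.node [(1, (-1), 1), (3, (-1), 1), (4, (-1), 1), (5, (-1), 1), (6, (-1), 1), (7, (-1), 1), (101, (-1), 2)] .nil .nil) .nil) .nil))) (.node [] (.node [] (.node [] .nil (.node [] (.node [(145, (-1), 1)] .nil .nil) .nil)) (.node [] (.node [] (.node [(118, (-1), 1)] .nil .nil) (.node [(192, (-1), 1)] .nil .nil)) .nil)) (.node [] (.node [] (.node [] (.node [(106, 1, 1)] .nil .nil) .nil) (.node [(89, 1, 1)] .nil .nil)) (.node [(39, 1, 1)] .nil (.node [] (.node [(174, (-1), 1)] .nil .nil) .nil)))))))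
def X94 : Tr (List (ℕ × ℤ × ℕ)) := (.node [] (.node [(102, 1, 1)] (.node [] (.node [(102, (-1), 1)] (.node [(9, (-1), 1)] (.node [] (.node [(42, 1, 1)] (.node [(101, 1, 1)] .nil .nil) (.node [(176, 1, 1)] .nil .nil)) .nil) (.node [] (.node [(64, (-1), 1)] .nil .nil) (.node [(93, 1, 1)] .nil .nil))) (.node [] (.node [] .nil (.node [] (.node [(146, (-1), 1)] .nil .nil) .nil)) (.node [(34, (-1), 1)] (.node [] (.node [(123, (-1), 1)] .nil .nil) (.node [(193, (-1), 1)] .nil .nil)) .nil))) (.node [] (.node [] .nil (.node [(31, (-1), 1)] (.node [(71, 1, 1)] .nil .nil) .nil)) (.node [(22, (-1), 1)] (.node [] .nil (.node [(86, (-1), 1)] .nil .nil)) (.node [(37, 1, 1)] .nil (.node [] (.node [(173, (-1), 1)] .nil .nil) .nil))))) (.node [] (.node [] (.node [] (.node [] (.node [] (.node [(103, 1, 1)] .nil .nil) .nil) (.node [] .nil (.node [(206, 1, 1)] .nil .nil))) (.node [(30, (-1), 1)] (.node [(66, 1, 1)] .nil .nil) (.node [] .nil (.node [(235,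 1, 1)] .nil .nil)))) (.node [] (.node [] .nil (.node [] (.node [(148, 1, 1)] .nil .nil) (.node [(228, 1, 1)] .nil .nil))) (.node [(35, (-1), 1)] (.node [] (.node [(1, (-1), 1), (3, (-1), 1), (4, (-1), 1), (5, (-1), 1), (6, (-1), 1), (102, (-1), 2)] .nil .nil) (.node [(195, 1, 1)] .nil .nil)) .nil))) (.node [] (.node [] (.node [] .nil (.node [] (.node [(145, (-1), 1)] .nil .nil) .nil)) (.node [(33, 1, 1)] (.node [] (.node [(114, (-1), 1)] .nil .nil) (.node [(192, (-1), 1)] .nil .nil)) .nil)) (.node [] (.node [] (.node [] (.node [(106, 1, 1)] .nil .nil) .nil) (.node [(88, 1, 1)] .nil .nil)) (.node [] (.node [] .nil (.node [(200, 1, 1)] .nil .nil)) (.node [] (.node [(174, (-1), 1)] .nil .nil) .nil)))))) (.node [(102, (-1), 1)] (.node [] (.node [] (.node [] (.node [] .nil (.node [] .nil (.node [(204, 1, 1)] .nil .nil))) (.node [] .nil (.node [(97, 1, 1)] .nil .nil))) (.node [] (.node [] (.node [] (.node [(105, 1, 1)] .nil .nil) .nil) .nil)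 (.node [] (.node [] (.node [(126, (-1), 1)] .nil .nil) .nil) (.node [] (.node [(172, (-1), 1)] .nil .nil) .nil)))) (.node [] (.node [(14, (-1), 1)] (.node [] (.node [] (.node [(104, 1, 1)] .nil .nil) .nil) .nil) (.node [] (.node [(75, 1, 1)] .nil .nil) (.node [] (.node [(171, (-1), 1)] .nil .nil) .nil))) (.node [] .nil (.node [(38, (-1), 1)] (.node [] .nil (.node [(198, 1, 1)] .nil .nil)) .nil)))) (.node [(102, 1, 1)] (.node [] (.node [] (.node [] .nil (.node [] (.node [(144, (-1), 1)] .nil .nil) (.node [(209, 1, 1)] .nil .nil))) (.node [] (.node [(68, 1, 1)] .nil .nil) .nil)) (.node [] .nil (.node [] (.node [] (.node [(128, (-1), 1)] .nil .nil) (.node [(196, (-1), 1)] .nil .nil)) .nil))) (.node [] (.node [] .nil (.node [] (.node [] (.node [(119, (-1), 1)] .nil .nil) .nil) (.node [] .nil (.node [(240, 1, 1)] .nil .nil)))) (.node [] (.node [(29, (-1), 1)] .nil (.node [(90, 1, 1)] .nil .nil)) (.node [(40, 1, 1)] (.node [] (.node [(143,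 (-1), 1)] .nil .nil) (.node [(202, (-1), 1)] .nil .nil)) .nil))))))
def X95 : Tr (List (ℕ × ℤ × ℕ)) := (.node [] (.node [(103, 1, 1)] (.node [] (.node [] (.node [(10, (-1), 1)] (.node [] (.node [(43, 1, 1)] .nil .nil) (.node [] .nil (.node [(204, 1, 1)] .nil .nil))) (.node [] (.node [(65, (-1), 1)] .nil .nil) (.node [(94, 1, 1)] .nil .nil))) (.node [] (.node [] (.node [] (.node [(105, 1, 1)] .nil .nil) .nil) (.node [] (.node [(147, 1, 1)] .nil .nil) .nil)) (.node [] (.node [] (.node [(124, (-1), 1)] .nil .nil) (.node [(194, 1, 1)] .nil .nil)) (.node [] (.node [(172, (-1), 1)] .nil .nil) .nil)))) (.node [] (.node [(14, 1, 1)] (.node [] (.node [] (.node [(104, 1, 1)] .nil .nil) .nil) .nil) (.node [(32, (-1), 1)] (.node [(72, 1, 1)] .nil .nil) (.node [] (.node [(171, (-1), 1)] .nil .nil) .nil))) (.node [] (.node [] .nil (.node [(87, (-1), 1)] .nil .nil)) (.node [] (.node [] .nil (.node [(198, 1, 1)] .nil .nil)) .nil)))) (.node [(103, 1,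 1)] (.node [] (.node [] (.node [] .nil (.node [] (.node [(144, (-1), 1)] .nil .nil) (.node [(207, (-1), 1)] .nil .nil))) (.node [] .nil (.node [] .nil (.node [(236, (-1), 1)] .nil .nil)))) (.node [] (.node [] .nil (.node [] .nil (.node [(229, (-1), 1)] .nil .nil))) (.node [(36, (-1), 1)] (.node [] (.node [(129, (-1), 1)] .nil .nil) .nil) .nil))) (.node [] (.node [] .nil (.node [] (.node [] (.node [(115, (-1), 1)] .nil .nil) .nil) (.node [] .nil (.node [(240, 1, 1)] .nil .nil)))) (.node [] (.node [(29, 1, 1)] .nil .nil) (.node [(40, (-1), 1)] (.node [] (.node [(143, (-1), 1)] .nil .nil) (.node [(201, (-1), 1)] .nil .nil)) (.node [(101, 1, 1)] (.node [(175, 1, 1)] .nil .nil) .nil)))))) (.node [(103, (-1), 1)] (.node [] (.node [] (.node [] .nil (.node [(30, 1, 1)] (.node [(66, (-1), 1)] .nil .nil) (.node [(98, 1, 1)] .nil .nil))) (.node [] (.node [] .nil (.node [] (.node [(148, 1, 1)] .nil .nil) .nil)) (.node [] (.node [] (.node [(1, (-1),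 1), (3, (-1), 1), (4, (-1), 1), (5, (-1), 1), (103, (-1), 2)] .nil .nil) (.node [(195, 1, 1)] .nil .nil)) .nil))) (.node [] (.node [] (.node [] .nil (.node [] (.node [(145, (-1), 1)] .nil .nil) .nil)) (.node [(33, (-1), 1)] (.node [(76, 1, 1)] .nil (.node [(192, (-1), 1)] .nil .nil)) .nil)) (.node [] (.node [] (.node [] (.node [(106, 1, 1)] .nil .nil) .nil) (.node [(88, (-1), 1)] .nil .nil)) (.node [(39, (-1), 1)] .nil .nil)))) (.node [(103, (-1), 1)] (.node [] (.node [] (.node [] .nil (.node [] .nil (.node [(210, (-1), 1)] .nil .nil))) (.node [] (.node [(69, 1, 1)] .nil .nil) .nil)) (.node [(22, 1, 1)] .nil (.node [(37, (-1), 1)] (.node [] (.node [(130, (-1), 1)] .nil .nil) (.node [(197, 1, 1)] .nil .nil)) (.node [] (.node [(173, (-1), 1)] .nil .nil) .nil)))) (.node [] (.node [] .nil (.node [(34, 1, 1)] (.node [] (.node [(120, (-1), 1)] .nil .nil) .nil) .nil)) (.node [] (.node [] .nil (.node [(91, 1, 1)] .nil .nil)) (.node [] (.node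 [] .nil (.node [(203, 1, 1)] .nil .nil)) (.node [(102, 1, 1)] (.node [(176, 1, 1)] .nil .nil) .nil)))))))
def X96 : Tr (List (ℕ × ℤ × ℕ)) := (.node [] (.node [(104, 1, 1)] (.node [] (.node [] (.node [(11, (-1), 1)] (.node [] .nil (.node [] .nil (.node [(206, (-1), 1)] .nil .nil))) (.node [] (.node [(67, (-1), 1)] .nil .nil) (.node [(95, 1, 1)] .nil .nil))) (.node [] .nil (.node [(36, 1, 1)] (.node [] (.node [(1, (-1), 1), (3, (-1), 1), (4, (-1), 1), (104, (-1), 2)] .nil .nil) .nil) .nil))) (.node [] (.node [] .nil (.node [] (.node [(73, 1, 1)] .nil .nil) .nil)) (.node [] (.node [] (.node [] (.node [(106, 1, 1)] .nil .nil) .nil) (.node [(89, (-1), 1)] .nil .nil)) (.node [] (.node [] .nil (.node [(200, (-1), 1)] .nil .nil)) (.node [(102, 1, 1)] (.node [(175, 1, 1)] .nil .nil) .nil))))) (.node [(104, (-1), 1)] (.node [] (.node [] .nil (.node [(32, 1, 1)] (.node [(69, (-1), 1)] .nil .nil) (.node [] .nil (.node [(237, 1, 1)] .nil .nil))))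 (.node [(22, (-1), 1)] (.node [] .nil (.node [] .nil (.node [(230, 1, 1)] .nil .nil))) (.node [] (.node [] (.node [(132, (-1), 1)] .nil .nil) .nil) .nil))) (.node [] (.node [] (.node [] .nil (.node [] (.node [(147, 1, 1)] .nil .nil) .nil)) (.node [] (.node [] (.node [(116, (-1), 1)] .nil .nil) (.node [(194, 1, 1)] .nil .nil)) .nil)) (.node [] (.node [] .nil (.node [(91, (-1), 1)] .nil .nil)) (.node [(42, (-1), 1)] .nil .nil))))) (.node [(104, (-1), 1)] (.node [(104, 1, 1)] (.node [] (.node [] (.node [] .nil (.node [] (.node [(144, (-1), 1)] .nil .nil) (.node [(207, (-1), 1)] .nil .nil))) (.node [(31, 1, 1)] (.node [(68, (-1), 1)] .nil .nil) (.node [(99, 1, 1)] .nil .nil))) (.node [] .nil (.node [(37, 1, 1)] (.node [] (.node [(131, (-1), 1)] .nil .nil) .nil) .nil))) (.node [] (.node [] (.node [] .nil (.node [] (.node [(146, 1, 1)] .nil .nil) .nil)) (.node [] (.node [(77, 1, 1)] .nil (.node [(193, 1, 1)] .nil .nil)) (.node [] .nil (.node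 [(240, 1, 1)] .nil .nil)))) (.node [] (.node [(29, (-1), 1)] .nil (.node [(90, (-1), 1)] .nil .nil)) (.node [(41, (-1), 1)] (.node [] (.node [(143, (-1), 1)] .nil .nil) (.node [(201, (-1), 1)] .nil .nil)) (.node [(103, 1, 1)] (.node [(176, 1, 1)] .nil .nil) .nil))))) (.node [] (.node [] (.node [(14, (-1), 1)] (.node [] .nil (.node [] .nil (.node [(211, 1, 1)] .nil .nil))) (.node [(33, 1, 1)] .nil (.node [] (.node [(171, (-1), 1)] .nil .nil) .nil))) (.node [] .nil (.node [] (.node [] (.node [(133, (-1), 1)] .nil .nil) (.node [(199, (-1), 1)] .nil .nil)) (.node [(101, 1, 1)] (.node [(174, 1, 1)] .nil .nil) .nil)))) (.node [] (.node [] (.node [] (.node [] (.node [(105, 1, 1)] .nil .nil) .nil) (.node [] (.node [(148, 1, 1)] .nil .nil) .nil)) (.node [(35, 1, 1)] (.node [] (.node [(121, (-1), 1)] .nil .nil) (.node [(195, 1, 1)] .nil .nil)) (.node [] (.node [(172, (-1), 1)] .nil .nil) .nil))) (.node [] .nil (.node [(43, (-1), 1)] (.node [] .nil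 (.node [(205, (-1), 1)] .nil .nil)) .nil))))))
def X97 : Tr (List (ℕ × ℤ × ℕ)) := (.node [] (.node [(105, 1, 1)] (.node [(105, 1, 1)] (.node [] (.node [(12, (-1), 1)] (.node [] .nil (.node [] .nil (.node [(209, 1, 1)] .nil .nil))) (.node [(33, (-1), 1)] (.node [(70, (-1), 1)] .nil .nil) .nil)) (.node [] .nil (.node [(39, 1, 1)] (.node [] (.node [(134, (-1), 1)] .nil .nil) (.node [(199, (-1), 1)] .nil .nil)) (.node [(102, 1, 1)] (.node [(174, 1, 1)] .nil .nil) .nil)))) (.node [] (.node [] (.node [] .nil (.node [] (.node [(148, 1, 1)] .nil .nil) .nil)) (.node [] .nil (.node [] .nil (.node [(240, 1, 1)] .nil .nil)))) (.node [] (.node [] .nil (.node [(92, (-1), 1)] .nil .nil)) (.node [(43, 1, 1)] (.node [] (.node [(143, (-1), 1)] .nil .nil) .nil) .nil)))) (.node [] (.node [] (.node [(14, 1, 1)] (.node [] .nil (.node [] (.node [(146, 1, 1)] .nil .nil) (.node [(211, 1, 1)] .nil .nil))) (.node [] (.node [(72, (-1), 1)] .nil .nil) (.node [] (.node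 [(171, (-1), 1)] .nil .nil) (.node [(238, (-1), 1)] .nil .nil)))) (.node [] (.node [] .nil (.node [] .nil (.node [(231, (-1), 1)] .nil .nil))) (.node [(41, 1, 1)] (.node [] (.node [(136, (-1), 1)] .nil .nil) (.node [(201, (-1), 1)] .nil .nil)) (.node [(104, 1, 1)] (.node [(176, 1, 1)] .nil .nil) .nil)))) (.node [] (.node [] .nil (.node [] (.node [] (.node [(117, (-1), 1)] .nil .nil) (.node [(197, (-1), 1)] .nil .nil)) .nil)) (.node [] (.node [(31, (-1), 1)] .nil (.node [(94, (-1), 1)] .nil .nil)) .nil)))) (.node [(105, (-1), 1)] (.node [(105, (-1), 1)] (.node [] (.node [] (.node [] .nil (.node [] (.node [(145, 1, 1)] .nil .nil) (.node [(210, 1, 1)] .nil .nil))) (.node [] (.node [(71, (-1), 1)] .nil .nil) (.node [(100, 1, 1)] .nil .nil))) (.node [(22, 1, 1)] .nil (.node [(40, 1, 1)] (.node [] (.node [(135, (-1), 1)] .nil .nil) (.node [(200, (-1), 1)] .nil .nil)) (.node [(103, 1, 1)] (.node [(175, 1, 1)] .nil .nil) .nil)))) (.node [] (.node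 [] .nil (.node [] (.node [(78, 1, 1)] .nil (.node [(196, (-1), 1)] .nil .nil)) .nil)) (.node [] (.node [(30, (-1), 1)] .nil (.node [(93, (-1), 1)] .nil .nil)) .nil))) (.node [] (.node [] (.node [] (.node [] .nil (.node [] (.node [(147, 1, 1)] .nil .nil) .nil)) (.node [] (.node [(73, (-1), 1)] .nil .nil) .nil)) (.node [] (.node [] (.node [] (.node [(106, 1, 1)] .nil .nil) .nil) .nil) (.node [(42, 1, 1)] (.node [] (.node [(137, (-1), 1)] .nil .nil) .nil) .nil))) (.node [] (.node [] .nil (.node [(38, 1, 1)] (.node [] (.node [(1, (-1), 1), (3, (-1), 1), (105, (-1), 2)] .nil .nil) (.node [(198, (-1), 1)] .nil .nil)) (.node [(101, 1, 1)] (.node [(173, 1, 1)] .nil .nil) .nil))) (.node [] (.node [(32, (-1), 1)] .nil (.node [(95, (-1), 1)] .nil .nil)) (.node [] (.node [] .nil (.node [(208, 1, 1)] .nil .nil)) .nil))))))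
def X98 : Tr (List (ℕ × ℤ × ℕ)) := (.node [] (.node [(106, 2, 1)] (.node [(106, (-1), 1)] (.node [] (.node [(13, (-1), 1)] (.node [] .nil (.node [] (.node [(148, 1, 1)] .nil .nil) .nil)) (.node [(37, (-1), 1)] (.node [(74, (-1), 1)] .nil .nil) (.node [(100, (-1), 1)] .nil .nil))) (.node [(22, (-1), 1)] .nil (.node [] (.node [] (.node [(139, (-1), 1)] .nil .nil) (.node [(205, 1, 1)] .nil .nil)) .nil))) (.node [] (.node [] .nil (.node [(41, (-1), 1)] (.node [(78, (-1), 1)] .nil .nil) (.node [(103, 1, 1)] (.node [(174, 1, 1)] .nil .nil) .nil))) (.node [] (.node [] .nil (.node [(96, (-1), 1)] .nil .nil)) (.node [] (.node [] (.node [(144, 1, 1)] .nil .nil) (.node [(209, 1, 1)] .nil .nil)) .nil)))) (.node [] (.node [] (.node [] .nil (.node [(39, (-1), 1)] (.node [(76, (-1), 1)] .nil .nil) (.node [(101, 1, 1)] (.node [(172, 1, 1)] .nil .nil) (.node [(239, 1, 1)] .nil .nil)))) (.node [] (.node [] .nil (.node [] .nil (.node [(232, 1, 1)] .nil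 .nil))) (.node [] (.node [] (.node [(141, (-1), 1)] .nil .nil) (.node [(207, 1, 1)] .nil .nil)) .nil))) (.node [] (.node [] .nil (.node [(43, (-1), 1)] (.node [] (.node [(1, (-1), 1), (106, (-1), 2)] .nil .nil) (.node [(203, 1, 1)] .nil .nil)) (.node [(105, 1, 1)] (.node [(176, 1, 1)] .nil .nil) .nil))) (.node [] (.node [(35, (-1), 1)] .nil (.node [(98, (-1), 1)] .nil .nil)) (.node [] (.node [] (.node [(146, 1, 1)] .nil .nil) (.node [(211, 1, 1)] .nil .nil)) .nil))))) (.node [] (.node [] (.node [] (.node [(14, (-1), 1)] .nil (.node [(38, (-1), 1)] (.node [(75, (-1), 1)] .nil .nil) .nil)) (.node [] .nil (.node [] (.node [] (.node [(140, (-1), 1)] .nil .nil) (.node [(206, 1, 1)] .nil .nil)) .nil))) (.node [] (.node [] .nil (.node [(42, (-1), 1)] (.node [] .nil (.node [(202, 1, 1)] .nil .nil)) (.node [(104, 1, 1)] (.node [(175, 1, 1)] .nil .nil) .nil))) (.node [] (.node [(34, (-1), 1)] .nil (.node [(97, (-1), 1)] .nil .nil)) (.node [] (.node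 [] (.node [(145, 1, 1)] .nil .nil) (.node [(210, 1, 1)] .nil .nil)) .nil)))) (.node [] (.node [] (.node [] .nil (.node [(40, (-1), 1)] (.node [(77, (-1), 1)] .nil .nil) (.node [(102, 1, 1)] (.node [(173, 1, 1)] .nil .nil) (.node [(240, 1, 1)] .nil .nil)))) (.node [] .nil (.node [] (.node [] (.node [(142, (-1), 1)] .nil .nil) (.node [(208, 1, 1)] .nil .nil)) .nil))) (.node [] (.node [] .nil (.node [] (.node [] (.node [(138, (-1), 1)] .nil .nil) (.node [(204, 1, 1)] .nil .nil)) .nil)) (.node [] (.node [(36, (-1), 1)] .nil (.node [(99, (-1), 1)] .nil .nil)) (.node [] (.node [] (.node [(147, 1, 1)] .nil .nil) .nil) .nil))))))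
def X99 : Tr (List (ℕ × ℤ × ℕ)) := (.node [(107, (-1), 1)] (.node [(107, (-1), 1)] (.node [] (.node [(107, 1, 1)] (.node [] (.node [] .nil (.node [] (.node [(149, (-1), 1)] .nil .nil) .nil)) (.node [] (.node [] (.node [(113, (-1), 1)] .nil .nil) (.node [(184, 1, 1)] .nil .nil)) .nil)) (.node [] (.node [] (.node [(48, (-1), 1)] .nil .nil) (.node [(87, 1, 1)] .nil (.node [(218, 1, 1)] .nil .nil))) (.node [] .nil (.node [] .nil (.node [(241, 1, 1)] .nil .nil))))) (.node [] (.node [] (.node [] (.node [] .nil (.node [(177, 1, 1)] .nil .nil)) (.node [] (.node [(150, (-1), 1)] .nil .nil) .nil)) (.node [] (.node [] (.node [(127, (-1), 1)] .nil .nil) (.node [(189, 1, 1)] .nil .nil)) .nil)) (.node [] (.node [(27, (-1), 1)] (.node [(54, (-1), 1)] .nil .nil) .nil) .nil))) (.node [] (.node [] (.node [] (.node [(23, (-1), 1)] .nil .nil) (.node [] (.node [] (.node [(122, (-1), 1)] .nil .nil) (.node [(186, 1, 1)] .nil .nil)) .nil)) (.node [] (.node []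 (.node [(51, (-1), 1)] (.node [(111, 1, 1)] .nil .nil) (.node [(180, 1, 1)] .nil .nil)) (.node [(92, 1, 1)] (.node [(153, (-1), 1)] .nil .nil) .nil)) .nil)) (.node [] (.node [(15, 1, 1)] (.node [(24, (-1), 1)] (.node [(46, (-1), 1)] (.node [(110, 1, 1)] .nil .nil) .nil) (.node [] .nil (.node [(213, 1, 1)] .nil .nil))) (.node [] (.node [(79, (-1), 1)] .nil .nil) .nil)) (.node [] (.node [] (.node [(57, (-1), 1)] .nil .nil) .nil) .nil)))) (.node [(107, 1, 1)] (.node [] (.node [] (.node [] (.node [] (.node [] (.node [(108, 1, 1)] .nil .nil) .nil) .nil) (.node [] (.node [] (.node [(118, (-1), 1)] .nil .nil) .nil) (.node [] (.node [(170, 1, 1)] .nil .nil) (.node [(234, (-1), 1)] .nil .nil)))) (.node [] (.node [(25, (-1), 1)] (.node [(49, (-1), 1)] .nil (.node [(179, 1, 1)] .nil .nil)) (.node [(89, 1, 1)] (.node [(152, (-1), 1)] .nil .nil) (.node [(222, 1, 1)] .nil .nil))) .nil)) (.node [] (.node [] (.node [] (.node [(45, (-1), 1)] .nil .nil)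 (.node [] .nil (.node [(212, 1, 1)] .nil .nil))) (.node [] (.node [] (.node [(2, (-1), 1), (3, (-1), 1), (4, (-1), 1), (5, (-1), 1), (6, (-1), 1), (7, (-1), 1), (107, (-1), 2)] .nil .nil) .nil) .nil)) (.node [] (.node [] (.node [(55, (-1), 1)] .nil (.node [(182, 1, 1)] .nil .nil)) .nil) .nil))) (.node [] (.node [] (.node [] (.node [] (.node [(44, (-1), 1)] (.node [(109, 1, 1)] .nil .nil) .nil) .nil) (.node [] (.node [] (.node [(125, (-1), 1)] .nil .nil) (.node [(187, 1, 1)] .nil .nil)) .nil)) (.node [] (.node [(26, (-1), 1)] .nil (.node [(96, 1, 1)] .nil .nil)) .nil)) (.node [(8, (-1), 1)] (.node [] (.node [] (.node [] .nil (.node [(178, 1, 1)] .nil .nil)) (.node [(86, 1, 1)] (.node [(151, (-1), 1)] .nil .nil) (.node [(215, 1, 1)] .nil .nil))) .nil) (.node [] (.node [] (.node [(60, (-1), 1)] (.node [(112, 1, 1)] .nil .nil) (.node [(183, 1, 1)] .nil .nil)) .nil) .nil)))))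
def X100 : Tr (List (ℕ × ℤ × ℕ)) := (.node [(108, (-1), 1)] (.node [(108, (-1), 1)] (.node [] (.node [(108, (-1), 1)] (.node [] (.node [] (.node [] (.node [(107, 1, 1)] .nil .nil) .nil) .nil) (.node [] (.node [] (.node [(114, (-1), 1)] .nil .nil) (.node [(185, (-1), 1)] .nil .nil)) (.node [] (.node [(170, 1, 1)] .nil .nil) .nil))) (.node [] (.node [(25, 1, 1)] (.node [] .nil (.node [(179, 1, 1)] .nil .nil)) (.node [(88, 1, 1)] (.node [(152, (-1), 1)] .nil .nil) (.node [(219, (-1), 1)] .nil .nil))) .nil)) (.node [] (.node [] (.node [] (.node [(45, 1, 1)] .nil .nil) (.node [] .nil (.node [(212, 1, 1)] .nil .nil))) (.node [] (.node [] (.node [(2, (-1), 1), (3, (-1), 1), (4, (-1), 1), (5, (-1), 1), (6, (-1), 1), (108, (-1), 2)] .nil .nil) (.node [(190, (-1), 1)] .nil .nil)) .nil)) (.node [] (.node [(28, (-1), 1)] (.node [] .nil (.node [(182, 1, 1)] .nil .nil)) .nil) .nil))) (.node [] (.node [] (.node [] (.node [] (.node [(44, 1, 1)] (.node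 [(109, 1, 1)] .nil .nil) .nil) .nil) (.node [] (.node [] (.node [(123, (-1), 1)] .nil .nil) .nil) .nil)) (.node [] (.node [(26, 1, 1)] (.node [(52, (-1), 1)] .nil (.node [(181, (-1), 1)] .nil .nil)) (.node [(93, 1, 1)] (.node [(154, 1, 1)] .nil .nil) .nil)) .nil)) (.node [] (.node [] (.node [] (.node [(47, (-1), 1)] .nil (.node [(178, 1, 1)] .nil .nil)) (.node [(86, (-1), 1)] (.node [(151, (-1), 1)] .nil .nil) (.node [(214, (-1), 1)] .nil .nil))) (.node [] (.node [(80, (-1), 1)] .nil .nil) .nil)) (.node [] (.node [] (.node [(58, (-1), 1)] (.node [(112, 1, 1)] .nil .nil) (.node [(183, 1, 1)] .nil .nil)) .nil) .nil)))) (.node [(108, 1, 1)] (.node [] (.node [] (.node [] (.node [(23, 1, 1)] .nil .nil) (.node [] (.node [] (.node [(119, (-1), 1)] .nil .nil) (.node [(186, 1, 1)] .nil .nil)) (.node [] .nil (.node [(235, 1, 1)] .nil .nil)))) (.node [] (.node [] (.node [(50, (-1), 1)] (.node [(111, 1, 1)] .nil .nil) .nil) (.node [(90, 1, 1)] .nil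 (.node [(223, (-1), 1)] .nil .nil))) .nil)) (.node [] (.node [(15, (-1), 1)] (.node [(24, 1, 1)] (.node [] (.node [(110, 1, 1)] .nil .nil) .nil) .nil) (.node [] (.node [] (.node [(128, (-1), 1)] .nil .nil) .nil) .nil)) (.node [] (.node [] (.node [(56, (-1), 1)] .nil .nil) .nil) .nil))) (.node [(108, 1, 1)] (.node [] (.node [] (.node [] (.node [] .nil (.node [(177, 1, 1)] .nil .nil)) (.node [] (.node [(150, (-1), 1)] .nil .nil) .nil)) (.node [] (.node [] (.node [(126, (-1), 1)] .nil .nil) (.node [(188, (-1), 1)] .nil .nil)) .nil)) (.node [] (.node [] (.node [(54, 1, 1)] .nil .nil) (.node [(97, 1, 1)] .nil .nil)) .nil)) (.node [(9, (-1), 1)] (.node [] (.node [] (.node [(48, 1, 1)] .nil .nil) (.node [] .nil (.node [(216, (-1), 1)] .nil .nil))) (.node [] .nil (.node [] .nil (.node [(241, 1, 1)] .nil .nil)))) (.node [] (.node [] (.node [(61, (-1), 1)] .nil .nil) .nil) (.node [] (.node [] (.node [(149, (-1), 1)] .nil .nil) .nil) .nil))))))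
def X101 : Tr (List (ℕ × ℤ × ℕ)) := (.node [(109, (-1), 1)] (.node [(109, (-1), 1)] (.node [] (.node [] (.node [] (.node [(23, (-1), 1)] .nil .nil) (.node [] (.node [] (.node [(115, (-1), 1)] .nil .nil) .nil) .nil)) (.node [] (.node [] (.node [(50, 1, 1)] (.node [(111, 1, 1)] .nil .nil) (.node [(180, (-1), 1)] .nil .nil)) (.node [] (.node [(153, 1, 1)] .nil .nil) (.node [(220, 1, 1)] .nil .nil))) .nil)) (.node [] (.node [(15, 1, 1)] (.node [(24, (-1), 1)] (.node [(46, 1, 1)] (.node [(110, 1, 1)] .nil .nil) .nil) (.node [] .nil (.node [(213, (-1), 1)] .nil .nil))) (.node [] (.node [] (.node [(129, (-1), 1)] .nil .nil) (.node [(191, 1, 1)] .nil .nil)) .nil)) (.node [] (.node [] (.node [(56, 1, 1)] .nil .nil) .nil) .nil))) (.node [(109, 1, 1)] (.node [] (.node [] (.node [] (.node [] .nil (.node [(177, 1, 1)] .nil .nil)) (.node [] (.node [(150, (-1), 1)] .nil .nil) .nil)) (.node [] (.node [] (.node [(124, (-1), 1)] .nil .nil) (.node [(188,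 (-1), 1)] .nil .nil)) .nil)) (.node [] (.node [(27, 1, 1)] (.node [(53, (-1), 1)] .nil .nil) (.node [(94, 1, 1)] .nil .nil)) .nil)) (.node [] (.node [] (.node [] .nil (.node [(87, (-1), 1)] .nil .nil)) (.node [] (.node [(81, (-1), 1)] .nil .nil) (.node [] .nil (.node [(241, 1, 1)] .nil .nil)))) (.node [] (.node [] (.node [(59, (-1), 1)] .nil (.node [(184, (-1), 1)] .nil .nil)) .nil) (.node [] (.node [] (.node [(149, (-1), 1)] .nil .nil) .nil) (.node [(107, 1, 1)] .nil .nil)))))) (.node [(109, 1, 1)] (.node [] (.node [] (.node [] (.node [] (.node [(44, (-1), 1)] .nil .nil) .nil) (.node [] (.node [] (.node [(120, (-1), 1)] .nil .nil) (.node [(187, (-1), 1)] .nil .nil)) (.node [] .nil (.node [(236, (-1), 1)] .nil .nil)))) (.node [] (.node [] (.node [] .nil (.node [(181, (-1), 1)] .nil .nil)) (.node [(91, 1, 1)] (.node [(154, 1, 1)] .nil .nil) (.node [(224, 1, 1)] .nil .nil))) .nil)) (.node [] (.node [] (.node [] (.node [(47, 1, 1)] .nil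 (.node [(178, 1, 1)] .nil .nil)) (.node [] (.node [(151, (-1), 1)] .nil .nil) (.node [(214, (-1), 1)] .nil .nil))) (.node [] (.node [] (.node [(130, (-1), 1)] .nil .nil) .nil) .nil)) (.node [] (.node [] (.node [] (.node [(112, 1, 1)] .nil .nil) .nil) .nil) .nil))) (.node [(109, (-1), 1)] (.node [] (.node [] .nil (.node [] (.node [] (.node [(2, (-1), 1), (3, (-1), 1), (4, (-1), 1), (5, (-1), 1), (109, (-1), 2)] .nil .nil) .nil) .nil)) (.node [] (.node [(28, 1, 1)] (.node [(55, 1, 1)] .nil (.node [(182, 1, 1)] .nil .nil)) (.node [(98, 1, 1)] .nil .nil)) .nil)) (.node [(10, (-1), 1)] (.node [] (.node [(25, (-1), 1)] (.node [(49, 1, 1)] .nil .nil) (.node [(88, (-1), 1)] .nil (.node [(217, 1, 1)] .nil .nil))) .nil) (.node [] (.node [] (.node [(62, (-1), 1)] .nil (.node [(185, (-1), 1)] .nil .nil)) (.node [] (.node [(170, 1, 1)] .nil .nil) .nil)) (.node [] .nil (.node [(108, 1, 1)] .nil .nil)))))))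
def X102 : Tr (List (ℕ × ℤ × ℕ)) := (.node [(110, (-1), 1)] (.node [(110, (-1), 1)] (.node [] (.node [] (.node [] .nil (.node [] (.node [] (.node [(116, (-1), 1)] .nil .nil) .nil) .nil)) (.node [] (.node [(27, (-1), 1)] (.node [(52, 1, 1)] .nil .nil) (.node [(91, (-1), 1)] .nil (.node [(221, (-1), 1)] .nil .nil))) .nil)) (.node [] (.node [] (.node [] .nil (.node [] .nil (.node [(215, 1, 1)] .nil .nil))) (.node [] (.node [] (.node [(132, (-1), 1)] .nil .nil) .nil) .nil)) (.node [] (.node [] (.node [(58, 1, 1)] (.node [(112, 1, 1)] .nil .nil) (.node [(184, (-1), 1)] .nil .nil)) .nil) (.node [] .nil (.node [(108, 1, 1)] .nil .nil))))) (.node [(110, (-1), 1)] (.node [] (.node [] (.node [] (.node [(46, (-1), 1)] .nil .nil) .nil) (.node [] (.node [] (.node [(2, (-1), 1), (3, (-1), 1), (4, (-1), 1), (110, (-1), 2)] .nil .nil) (.node [(190, 1, 1)] .nil .nil)) .nil)) (.node [] (.node [] .nil (.node [(95, 1, 1)] .nil .nil)) .nil)) (.node [] (.node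 [] (.node [] (.node [] .nil (.node [(180, (-1), 1)] .nil .nil)) (.node [(89, (-1), 1)] (.node [(153, 1, 1)] .nil .nil) (.node [(217, 1, 1)] .nil .nil))) (.node [] (.node [(82, (-1), 1)] .nil .nil) .nil)) (.node [] (.node [] .nil (.node [] (.node [(170, 1, 1)] .nil .nil) .nil)) .nil)))) (.node [(110, 1, 1)] (.node [(110, 1, 1)] (.node [] (.node [] (.node [] (.node [(45, (-1), 1)] .nil (.node [(177, 1, 1)] .nil .nil)) (.node [] (.node [(150, (-1), 1)] .nil .nil) .nil)) (.node [] (.node [] (.node [(121, (-1), 1)] .nil .nil) (.node [(189, 1, 1)] .nil .nil)) (.node [] .nil (.node [(237, 1, 1)] .nil .nil)))) (.node [] (.node [(28, (-1), 1)] (.node [(53, 1, 1)] .nil .nil) (.node [] .nil (.node [(225, (-1), 1)] .nil .nil))) .nil)) (.node [] (.node [] (.node [] (.node [] .nil (.node [(179, (-1), 1)] .nil .nil)) (.node [] (.node [(152, 1, 1)] .nil .nil) (.node [(216, 1, 1)] .nil .nil))) (.node [] (.node [] (.node [(133, (-1), 1)] .nil .nil) .nil)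 (.node [] .nil (.node [(241, 1, 1)] .nil .nil)))) (.node [] (.node [] (.node [(59, 1, 1)] .nil (.node [(185, (-1), 1)] .nil .nil)) .nil) (.node [] (.node [] (.node [(149, (-1), 1)] .nil .nil) .nil) (.node [(109, 1, 1)] .nil .nil))))) (.node [] (.node [] (.node [(15, (-1), 1)] (.node [(24, 1, 1)] (.node [(47, (-1), 1)] .nil .nil) .nil) (.node [] (.node [] (.node [(131, (-1), 1)] .nil .nil) (.node [(191, 1, 1)] .nil .nil)) .nil)) (.node [] (.node [] (.node [(57, 1, 1)] .nil (.node [(183, (-1), 1)] .nil .nil)) (.node [(99, 1, 1)] .nil .nil)) (.node [] .nil (.node [(107, 1, 1)] .nil .nil)))) (.node [(11, (-1), 1)] (.node [] (.node [(26, (-1), 1)] (.node [(51, 1, 1)] (.node [(111, 1, 1)] .nil .nil) (.node [(181, (-1), 1)] .nil .nil)) (.node [(90, (-1), 1)] (.node [(154, 1, 1)] .nil .nil) .nil)) .nil) (.node [(23, 1, 1)] (.node [] (.node [(63, (-1), 1)] .nil .nil) .nil) .nil)))))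
def X103 : Tr (List (ℕ × ℤ × ℕ)) := (.node [(111, (-1), 1)] (.node [(111, (-1), 1)] (.node [(111, 1, 1)] (.node [] (.node [] .nil (.node [] (.node [] (.node [(117, (-1), 1)] .nil .nil) (.node [(191, 1, 1)] .nil .nil)) .nil)) (.node [] (.node [] .nil (.node [(94, (-1), 1)] .nil .nil)) (.node [] .nil (.node [(108, 1, 1)] .nil .nil)))) (.node [] (.node [] (.node [(26, 1, 1)] (.node [(51, (-1), 1)] .nil (.node [(181, (-1), 1)] .nil .nil)) (.node [] (.node [(154, 1, 1)] .nil .nil) (.node [(218, (-1), 1)] .nil .nil))) (.node [] (.node [] (.node [(136, (-1), 1)] .nil .nil) .nil) (.node [] .nil (.node [(241, 1, 1)] .nil .nil)))) (.node [] (.node [] (.node [(61, 1, 1)] .nil (.node [(187, 1, 1)] .nil .nil)) .nil) (.node [] (.node [] (.node [(149, (-1), 1)] .nil .nil) .nil) .nil)))) (.node [] (.node [] (.node [(15, 1, 1)] (.node [] (.node [(49, (-1), 1)] .nil (.node [(179, (-1), 1)] .nil .nil)) (.node [] (.node [(152, 1, 1)] .nil .nil) .nil)) (.node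 [] (.node [] (.node [(134, (-1), 1)] .nil .nil) .nil) .nil)) (.node [] .nil (.node [] .nil (.node [(110, 1, 1)] .nil .nil)))) (.node [] (.node [] (.node [(28, 1, 1)] (.node [(53, (-1), 1)] .nil .nil) (.node [(92, (-1), 1)] .nil (.node [(220, (-1), 1)] .nil .nil))) (.node [] (.node [(83, (-1), 1)] .nil .nil) .nil)) (.node [(23, (-1), 1)] (.node [] (.node [(63, 1, 1)] .nil (.node [(189, 1, 1)] .nil .nil)) .nil) .nil)))) (.node [(111, 1, 1)] (.node [(111, (-1), 1)] (.node [] (.node [] (.node [] (.node [(48, (-1), 1)] .nil (.node [(178, (-1), 1)] .nil .nil)) (.node [] (.node [(151, 1, 1)] .nil .nil) .nil)) (.node [] (.node [] (.node [(2, (-1), 1), (3, (-1), 1), (111, (-1), 2)] .nil .nil) .nil) (.node [] .nil (.node [(238, (-1), 1)] .nil .nil)))) (.node [] (.node [] .nil (.node [(95, (-1), 1)] .nil (.node [(226, 1, 1)] .nil .nil))) (.node [] .nil (.node [(109, 1, 1)] .nil .nil)))) (.node [] (.node [] (.node [(27, 1, 1)] (.node [(52, (-1),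 1)] .nil .nil) (.node [] .nil (.node [(219, (-1), 1)] .nil .nil))) (.node [] (.node [] (.node [(137, (-1), 1)] .nil .nil) .nil) .nil)) (.node [] (.node [] (.node [(62, 1, 1)] .nil (.node [(188, 1, 1)] .nil .nil)) (.node [] (.node [(170, 1, 1)] .nil .nil) .nil)) .nil))) (.node [] (.node [] (.node [] (.node [(25, 1, 1)] (.node [(50, (-1), 1)] .nil (.node [(180, (-1), 1)] .nil .nil)) (.node [] (.node [(153, 1, 1)] .nil .nil) .nil)) (.node [] (.node [] (.node [(135, (-1), 1)] .nil .nil) .nil) .nil)) (.node [] (.node [] (.node [(60, 1, 1)] (.node [(112, 1, 1)] .nil .nil) (.node [(186, 1, 1)] .nil .nil)) (.node [(100, 1, 1)] .nil .nil)) .nil)) (.node [(12, (-1), 1)] (.node [] (.node [] .nil (.node [(93, (-1), 1)] .nil (.node [(221, (-1), 1)] .nil .nil))) (.node [] .nil (.node [(107, 1, 1)] .nil .nil))) (.node [] (.node [] (.node [] .nil (.node [(190, 1, 1)] .nil .nil)) .nil) .nil)))))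
def X104 : Tr (List (ℕ × ℤ × ℕ)) := (.node [(112, (-1), 1)] (.node [] (.node [(112, (-1), 1)] (.node [] (.node [] (.node [(26, (-1), 1)] .nil (.node [] (.node [(154, 1, 1)] .nil .nil) .nil)) (.node [] (.node [] (.node [(2, (-1), 1), (112, (-1), 2)] .nil .nil) .nil) .nil)) (.node [] (.node [] (.node [(61, (-1), 1)] .nil (.node [(189, 1, 1)] .nil .nil)) (.node [(98, (-1), 1)] .nil (.node [(226, 1, 1)] .nil .nil))) .nil)) (.node [] (.node [] (.node [] (.node [(57, (-1), 1)] .nil (.node [(185, 1, 1)] .nil .nil)) (.node [] .nil (.node [(222, 1, 1)] .nil .nil))) (.node [] (.node [] (.node [(141, (-1), 1)] .nil .nil) .nil) (.node [(109, 1, 1)] .nil .nil))) (.node [] (.node [] .nil (.node [] (.node [(170, 1, 1)] .nil .nil) .nil)) (.node [] (.node [] (.node [(150, 1, 1)] .nil .nil) .nil) .nil)))) (.node [] (.node [] (.node [] (.node [(28, (-1), 1)] (.node [(55, (-1), 1)] .nil (.node [(183, 1, 1)] .nil .nil)) .nil) (.node [] (.node [] (.node [(139,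 (-1), 1)] .nil .nil) .nil) (.node [(107, 1, 1)] .nil .nil))) (.node [] (.node [] (.node [(63, (-1), 1)] .nil (.node [(191, 1, 1)] .nil .nil)) (.node [(100, (-1), 1)] .nil .nil)) .nil)) (.node [] (.node [] (.node [] (.node [(59, (-1), 1)] .nil (.node [(187, 1, 1)] .nil .nil)) (.node [(96, (-1), 1)] .nil (.node [(224, 1, 1)] .nil .nil))) (.node [] (.node [(84, (-1), 1)] .nil .nil) (.node [(111, 1, 1)] .nil .nil))) (.node [(24, (-1), 1)] .nil (.node [] (.node [] (.node [(152, 1, 1)] .nil .nil) .nil) .nil))))) (.node [(112, 2, 1)] (.node [] (.node [] (.node [(15, (-1), 1)] (.node [(27, (-1), 1)] (.node [(54, (-1), 1)] .nil (.node [(182, 1, 1)] .nil .nil)) .nil) (.node [] (.node [] (.node [(138, (-1), 1)] .nil .nil) .nil) (.node [] .nil (.node [(239, 1, 1)] .nil .nil)))) (.node [] (.node [] (.node [(62, (-1), 1)] .nil (.node [(190, 1, 1)] .nil .nil)) (.node [(99, (-1), 1)] .nil .nil)) .nil)) (.node [] (.node [] (.node [] (.node [(58, (-1),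 1)] .nil (.node [(186, 1, 1)] .nil .nil)) (.node [] .nil (.node [(223, 1, 1)] .nil .nil))) (.node [] (.node [] (.node [(142, (-1), 1)] .nil .nil) .nil) (.node [(110, 1, 1)] .nil .nil))) (.node [] .nil (.node [] (.node [] (.node [(151, 1, 1)] .nil .nil) .nil) .nil)))) (.node [] (.node [] (.node [] (.node [] (.node [(56, (-1), 1)] .nil (.node [(184, 1, 1)] .nil .nil)) .nil) (.node [] (.node [] (.node [(140, (-1), 1)] .nil .nil) .nil) (.node [(108, 1, 1)] .nil (.node [(241, 1, 1)] .nil .nil)))) .nil) (.node [(13, (-1), 1)] (.node [] (.node [] (.node [(60, (-1), 1)] .nil (.node [(188, 1, 1)] .nil .nil)) (.node [(97, (-1), 1)] .nil (.node [(225, 1, 1)] .nil .nil))) .nil) (.node [(25, (-1), 1)] .nil (.node [] (.node [] (.node [(153, 1, 1)] .nil .nil) .nil) .nil))))))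
def X105 : Tr (List (ℕ × ℤ × ℕ)) := (.node [] (.node [(113, (-1), 1)] (.node [(113, 1, 1)] (.node [(113, 1, 1)] (.node [] (.node [] (.node [(51, (-1), 1)] .nil (.node [(180, (-1), 1)] .nil .nil)) (.node [] .nil (.node [(212, (-1), 1)] .nil .nil))) (.node [] (.node [] .nil (.node [(194, 1, 1)] .nil .nil)) (.node [] .nil (.node [(234, 1, 1)] .nil .nil)))) (.node [] .nil (.node [] .nil (.node [] .nil (.node [(242, 1, 1)] .nil .nil))))) (.node [] (.node [] (.node [] .nil (.node [(89, 1, 1)] (.node [(155, (-1), 1)] .nil .nil) .nil)) (.node [] (.node [] .nil (.node [(199, 1, 1)] .nil .nil)) .nil)) (.node [] (.node [(32, 1, 1)] (.node [(64, 1, 1)] (.node [(122, (-1), 1)] .nil .nil) .nil) .nil) (.node [(46, (-1), 1)] .nil .nil)))) (.node [] (.node [] (.node [] (.node [] .nil (.node [(86, 1, 1)] .nil (.node [(215, (-1), 1)] .nil .nil))) (.node [] (.node [] .nil (.node [(196, 1, 1)] .nil .nil)) .nil)) (.node [] (.node [] (.node [] (.node [(117,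 1, 1)] .nil .nil) .nil) (.node [] (.node [(158, (-1), 1)] .nil .nil) .nil)) (.node [] .nil (.node [] (.node [(177, (-1), 1)] .nil .nil) .nil)))) (.node [(8, (-1), 1)] (.node [(16, (-1), 1)] (.node [(29, 1, 1)] (.node [] (.node [(116, 1, 1)] .nil .nil) .nil) .nil) .nil) (.node [] (.node [] (.node [(67, 1, 1)] (.node [(127, (-1), 1)] .nil .nil) .nil) .nil) (.node [(48, (-1), 1)] .nil .nil))))) (.node [(113, (-1), 1)] (.node [] (.node [] (.node [] (.node [] (.node [] (.node [(114, 1, 1)] .nil .nil) .nil) (.node [] .nil (.node [(213, (-1), 1)] .nil .nil))) (.node [] .nil (.node [(107, (-1), 1)] (.node [(171, 1, 1)] .nil .nil) .nil))) (.node [] (.node [(30, 1, 1)] .nil (.node [] (.node [(157, (-1), 1)] .nil .nil) (.node [(227, 1, 1)] .nil .nil))) (.node [(44, (-1), 1)] .nil .nil))) (.node [] (.node [] (.node [] .nil (.node [(92, 1, 1)] .nil .nil)) (.node [] (.node [(79, (-1), 1)] (.node [(143, 1, 1)] .nil .nil) .nil) .nil)) (.node [(23, (-1),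 1)] (.node [] (.node [(65, 1, 1)] (.node [(125, (-1), 1)] .nil .nil) (.node [(192, 1, 1)] .nil .nil)) .nil) (.node [] .nil (.node [] (.node [(178, (-1), 1)] .nil .nil) .nil))))) (.node [] (.node [] (.node [] (.node [] (.node [] (.node [(115, 1, 1)] .nil .nil) .nil) (.node [(87, 1, 1)] .nil (.node [(218, (-1), 1)] .nil .nil))) (.node [] (.node [] .nil (.node [(197, 1, 1)] .nil .nil)) .nil)) (.node [] (.node [(31, 1, 1)] (.node [] (.node [(118, (-1), 1)] .nil .nil) .nil) (.node [(101, (-1), 1)] .nil .nil)) (.node [(45, (-1), 1)] (.node [] (.node [(149, 1, 1)] .nil .nil) .nil) .nil))) (.node [] (.node [] (.node [] .nil (.node [] (.node [(156, (-1), 1)] .nil .nil) .nil)) .nil) (.node [] (.node [] (.node [(70, 1, 1)] (.node [(3, (-1), 1), (4, (-1), 1), (5, (-1), 1), (6, (-1), 1), (7, (-1), 1), (113, (-1), 2)] .nil .nil) (.node [(193, 1, 1)] .nil .nil)) .nil) (.node [(49, (-1), 1)] .nil (.node [] (.node [(179, (-1), 1)] .nil .nil) .nil)))))))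
def X106 : Tr (List (ℕ × ℤ × ℕ)) := (.node [] (.node [(114, (-1), 1)] (.node [(114, 1, 1)] (.node [(114, (-1), 1)] (.node [] (.node [] (.node [(52, (-1), 1)] (.node [(113, 1, 1)] .nil .nil) (.node [(181, 1, 1)] .nil .nil)) .nil) (.node [] (.node [] .nil (.node [(195, (-1), 1)] .nil .nil)) (.node [] (.node [(171, 1, 1)] .nil .nil) (.node [(235, (-1), 1)] .nil .nil)))) (.node [] (.node [(30, (-1), 1)] .nil (.node [] (.node [(157, (-1), 1)] .nil .nil) .nil)) (.node [(44, 1, 1)] .nil .nil))) (.node [] (.node [] (.node [] .nil (.node [(90, 1, 1)] .nil .nil)) (.node [] (.node [] (.node [(143, 1, 1)] .nil .nil) (.node [(200, (-1), 1)] .nil .nil)) .nil)) (.node [(23, 1, 1)] (.node [(33, 1, 1)] (.node [] (.node [(123, (-1), 1)] .nil .nil) (.node [(192, 1, 1)] .nil .nil)) .nil) (.node [(47, (-1), 1)] .nil (.node [] (.node [(178, (-1), 1)] .nil .nil) .nil))))) (.node [] (.node [] (.node [] (.node [] (.node [] (.node [(115, 1, 1)] .nil .nil) .nil)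 (.node [] .nil (.node [(216, 1, 1)] .nil .nil))) .nil) (.node [] (.node [(31, (-1), 1)] .nil (.node [] (.node [(159, 1, 1)] .nil .nil) .nil)) (.node [(45, 1, 1)] (.node [] (.node [(149, 1, 1)] .nil .nil) .nil) .nil))) (.node [(9, (-1), 1)] (.node [] (.node [] .nil (.node [] (.node [(156, (-1), 1)] .nil .nil) .nil)) .nil) (.node [] (.node [] (.node [(68, 1, 1)] (.node [(3, (-1), 1), (4, (-1), 1), (5, (-1), 1), (6, (-1), 1), (114, (-1), 2)] .nil .nil) (.node [(193, 1, 1)] .nil .nil)) .nil) (.node [] .nil (.node [] (.node [(179, (-1), 1)] .nil .nil) .nil)))))) (.node [(114, (-1), 1)] (.node [] (.node [] (.node [] (.node [] .nil (.node [(86, (-1), 1)] .nil (.node [(214, 1, 1)] .nil .nil))) (.node [] (.node [] .nil (.node [(196, 1, 1)] .nil .nil)) (.node [(108, (-1), 1)] .nil .nil))) (.node [] (.node [] (.node [] (.node [(117, 1, 1)] .nil .nil) .nil) (.node [] .nil (.node [(228, (-1), 1)] .nil .nil))) (.node [] .nil (.node [] (.node [(177,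 (-1), 1)] .nil .nil) .nil)))) (.node [] (.node [(16, 1, 1)] (.node [(29, (-1), 1)] (.node [] (.node [(116, 1, 1)] .nil .nil) .nil) (.node [(93, 1, 1)] .nil .nil)) (.node [] (.node [(80, (-1), 1)] .nil .nil) .nil)) (.node [] (.node [] (.node [(66, 1, 1)] (.node [(126, (-1), 1)] .nil .nil) .nil) .nil) (.node [(48, 1, 1)] .nil .nil)))) (.node [(114, 1, 1)] (.node [] (.node [] (.node [] .nil (.node [(88, 1, 1)] (.node [(155, (-1), 1)] .nil .nil) (.node [(219, 1, 1)] .nil .nil))) (.node [] (.node [] .nil (.node [(198, (-1), 1)] .nil .nil)) .nil)) (.node [] (.node [] (.node [(64, (-1), 1)] (.node [(119, (-1), 1)] .nil .nil) .nil) (.node [(102, (-1), 1)] .nil .nil)) .nil)) (.node [] (.node [] .nil (.node [] .nil (.node [] .nil (.node [(242, 1, 1)] .nil .nil)))) (.node [] (.node [] (.node [(71, 1, 1)] (.node [(128, (-1), 1)] .nil .nil) .nil) .nil) (.node [(50, (-1), 1)] (.node [] .nil (.node [(212, (-1), 1)] .nil .nil)) .nil))))))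
def X107 : Tr (List (ℕ × ℤ × ℕ)) := (.node [] (.node [(115, (-1), 1)] (.node [(115, 1, 1)] (.node [] (.node [] (.node [] (.node [(53, (-1), 1)] .nil .nil) (.node [] .nil (.node [(214, 1, 1)] .nil .nil))) (.node [] .nil (.node [] .nil (.node [(236, 1, 1)] .nil .nil)))) (.node [] (.node [] (.node [] (.node [(117, 1, 1)] .nil .nil) .nil) (.node [] (.node [(158, 1, 1)] .nil .nil) .nil)) (.node [] .nil (.node [] (.node [(177, (-1), 1)] .nil .nil) .nil)))) (.node [] (.node [(16, (-1), 1)] (.node [(29, 1, 1)] (.node [] (.node [(116, 1, 1)] .nil .nil) .nil) (.node [(91, 1, 1)] .nil .nil)) (.node [] (.node [] .nil (.node [(201, 1, 1)] .nil .nil)) .nil)) (.node [] (.node [] (.node [(66, (-1), 1)] (.node [(124, (-1), 1)] .nil .nil) .nil) .nil) .nil))) (.node [(115, 1, 1)] (.node [] (.node [] (.node [] .nil (.node [(88, (-1), 1)] (.node [(155, (-1), 1)] .nil .nil) (.node [(217, (-1), 1)] .nil .nil))) (.node [] (.node [] .nil (.node [(198, (-1), 1)]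 .nil .nil)) .nil)) (.node [] (.node [(32, (-1), 1)] .nil .nil) (.node [(46, 1, 1)] .nil .nil))) (.node [(10, (-1), 1)] (.node [] .nil (.node [] .nil (.node [] .nil (.node [(242, 1, 1)] .nil .nil)))) (.node [] (.node [] (.node [(69, 1, 1)] (.node [(129, (-1), 1)] .nil .nil) (.node [(194, (-1), 1)] .nil .nil)) .nil) (.node [(50, 1, 1)] .nil (.node [(113, 1, 1)] (.node [(180, 1, 1)] .nil .nil) .nil)))))) (.node [(115, (-1), 1)] (.node [] (.node [] (.node [] (.node [] .nil (.node [(87, (-1), 1)] .nil .nil)) (.node [] (.node [] .nil (.node [(197, (-1), 1)] .nil .nil)) (.node [(109, (-1), 1)] .nil .nil))) (.node [] (.node [] .nil (.node [] (.node [(159, 1, 1)] .nil .nil) (.node [(229, 1, 1)] .nil .nil))) (.node [] (.node [] (.node [(149, 1, 1)] .nil .nil) .nil) .nil))) (.node [] (.node [] (.node [] .nil (.node [(94, 1, 1)] (.node [(156, (-1), 1)] .nil .nil) .nil)) (.node [] (.node [(81, (-1), 1)] .nil .nil) .nil)) (.node [] (.node [] (.node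 [] (.node [(3, (-1), 1), (4, (-1), 1), (5, (-1), 1), (115, (-1), 2)] .nil .nil) .nil) .nil) (.node [(49, 1, 1)] .nil .nil)))) (.node [(115, (-1), 1)] (.node [] (.node [] (.node [] .nil (.node [] .nil (.node [(220, (-1), 1)] .nil .nil))) (.node [] (.node [] (.node [(143, 1, 1)] .nil .nil) .nil) .nil)) (.node [(23, (-1), 1)] (.node [(33, (-1), 1)] (.node [(65, (-1), 1)] (.node [(120, (-1), 1)] .nil .nil) (.node [(192, 1, 1)] .nil .nil)) (.node [(103, (-1), 1)] .nil .nil)) (.node [(47, 1, 1)] .nil (.node [] (.node [(178, (-1), 1)] .nil .nil) .nil)))) (.node [] (.node [] (.node [(30, 1, 1)] .nil .nil) (.node [(44, (-1), 1)] .nil .nil)) (.node [] (.node [] (.node [(72, 1, 1)] (.node [(130, (-1), 1)] .nil .nil) (.node [(195, (-1), 1)] .nil .nil)) (.node [] (.node [(171, 1, 1)] .nil .nil) .nil)) (.node [] (.node [] .nil (.node [(213, 1, 1)] .nil .nil)) (.node [(114, 1, 1)] (.node [(181, 1, 1)] .nil .nil) .nil)))))))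
def X108 : Tr (List (ℕ × ℤ × ℕ)) := (.node [] (.node [(116, (-1), 1)] (.node [(116, 1, 1)] (.node [] (.node [] (.node [] .nil (.node [] .nil (.node [(216, (-1), 1)] .nil .nil))) (.node [] .nil (.node [] .nil (.node [(237, (-1), 1)] .nil .nil)))) (.node [] (.node [(32, 1, 1)] .nil .nil) (.node [(46, (-1), 1)] (.node [] (.node [(149, 1, 1)] .nil .nil) .nil) .nil))) (.node [] .nil (.node [] (.node [] (.node [(68, (-1), 1)] (.node [(3, (-1), 1), (4, (-1), 1), (116, (-1), 2)] .nil .nil) (.node [(194, (-1), 1)] .nil .nil)) .nil) (.node [] .nil (.node [(114, 1, 1)] (.node [(180, 1, 1)] .nil .nil) .nil))))) (.node [(116, (-1), 1)] (.node [] (.node [] (.node [] .nil (.node [(90, (-1), 1)] .nil .nil)) (.node [] (.node [] (.node [(143, 1, 1)] .nil .nil) (.node [(200, 1, 1)] .nil .nil)) .nil)) (.node [(23, 1, 1)] .nil .nil)) (.node [(11, (-1), 1)] (.node [] (.node [] .nil (.node [] (.node [(158, 1, 1)] .nil .nil) .nil)) .nil) (.node [] (.node []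 (.node [] (.node [(132, (-1), 1)] .nil .nil) .nil) (.node [] (.node [(171, 1, 1)] .nil .nil) .nil)) (.node [(52, 1, 1)] .nil .nil))))) (.node [(116, (-1), 1)] (.node [(116, 1, 1)] (.node [] (.node [] (.node [] .nil (.node [(89, (-1), 1)] (.node [(155, (-1), 1)] .nil .nil) (.node [(217, (-1), 1)] .nil .nil))) (.node [] (.node [] .nil (.node [(199, 1, 1)] .nil .nil)) (.node [(110, (-1), 1)] .nil .nil))) (.node [] (.node [(33, 1, 1)] .nil (.node [] .nil (.node [(230, (-1), 1)] .nil .nil))) (.node [(47, (-1), 1)] .nil .nil))) (.node [] (.node [] (.node [] .nil (.node [(95, 1, 1)] (.node [(157, 1, 1)] .nil .nil) .nil)) (.node [] (.node [(82, (-1), 1)] .nil .nil) (.node [] .nil (.node [(242, 1, 1)] .nil .nil)))) (.node [] (.node [] (.node [(69, (-1), 1)] (.node [(131, (-1), 1)] .nil .nil) (.node [(195, (-1), 1)] .nil .nil)) .nil) (.node [(51, 1, 1)] .nil (.node [(115, 1, 1)] (.node [(181, 1, 1)] .nil .nil) .nil))))) (.node [] (.node [] (.node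 [(16, 1, 1)] (.node [(29, (-1), 1)] .nil (.node [(91, (-1), 1)] .nil (.node [(221, 1, 1)] .nil .nil))) (.node [] (.node [] .nil (.node [(201, 1, 1)] .nil .nil)) .nil)) (.node [] (.node [] (.node [(67, (-1), 1)] (.node [(121, (-1), 1)] .nil .nil) (.node [(193, (-1), 1)] .nil .nil)) (.node [(104, (-1), 1)] .nil .nil)) (.node [] .nil (.node [(113, 1, 1)] (.node [(179, 1, 1)] .nil .nil) .nil)))) (.node [] (.node [] (.node [(31, 1, 1)] (.node [] (.node [(117, 1, 1)] .nil .nil) .nil) (.node [] (.node [(159, 1, 1)] .nil .nil) .nil)) (.node [(45, (-1), 1)] .nil (.node [] (.node [(177, (-1), 1)] .nil .nil) .nil))) (.node [] (.node [] (.node [(73, 1, 1)] (.node [(133, (-1), 1)] .nil .nil) .nil) .nil) (.node [(53, 1, 1)] (.node [] .nil (.node [(215, (-1), 1)] .nil .nil)) .nil))))))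
def X109 : Tr (List (ℕ × ℤ × ℕ)) := (.node [] (.node [(117, (-1), 1)] (.node [(117, 2, 1)] (.node [] (.node [] (.node [] .nil (.node [] .nil (.node [(219, 1, 1)] .nil .nil))) (.node [] (.node [] .nil (.node [(201, 1, 1)] .nil .nil)) (.node [] .nil (.node [(238, 1, 1)] .nil .nil)))) (.node [] .nil (.node [(49, (-1), 1)] .nil (.node [(114, 1, 1)] (.node [(179, 1, 1)] .nil .nil) .nil)))) (.node [] (.node [] (.node [(31, (-1), 1)] .nil (.node [(95, (-1), 1)] (.node [(159, 1, 1)] .nil .nil) .nil)) (.node [] .nil (.node [] .nil (.node [(242, 1, 1)] .nil .nil)))) (.node [] (.node [] (.node [(71, (-1), 1)] (.node [(134, (-1), 1)] .nil .nil) (.node [(197, 1, 1)] .nil .nil)) .nil) (.node [(53, (-1), 1)] .nil .nil)))) (.node [] (.node [] (.node [(16, (-1), 1)] (.node [] .nil (.node [(93, (-1), 1)] (.node [(157, 1, 1)] .nil .nil) (.node [(221, 1, 1)] .nil .nil))) .nil) (.node [] .nil (.node [(51, (-1), 1)] .nil (.node [(116, 1, 1)] (.node [(181,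 1, 1)] .nil .nil) .nil)))) (.node [(12, (-1), 1)] (.node [] (.node [(33, (-1), 1)] .nil .nil) .nil) (.node [] (.node [] (.node [(73, (-1), 1)] (.node [(136, (-1), 1)] .nil .nil) (.node [(199, 1, 1)] .nil .nil)) .nil) .nil)))) (.node [(117, (-1), 1)] (.node [(117, (-1), 1)] (.node [] (.node [] (.node [] .nil (.node [(92, (-1), 1)] (.node [(156, 1, 1)] .nil .nil) (.node [(220, 1, 1)] .nil .nil))) (.node [] (.node [] (.node [(143, 1, 1)] .nil .nil) .nil) (.node [(111, (-1), 1)] .nil .nil))) (.node [(23, (-1), 1)] (.node [] .nil (.node [] .nil (.node [(231, 1, 1)] .nil .nil))) (.node [(50, (-1), 1)] .nil (.node [(115, 1, 1)] (.node [(180, 1, 1)] .nil .nil) .nil)))) (.node [] (.node [] (.node [(32, (-1), 1)] .nil .nil) (.node [] (.node [(83, (-1), 1)] .nil .nil) .nil)) (.node [] (.node [] (.node [(72, (-1), 1)] (.node [(135, (-1), 1)] .nil .nil) (.node [(198, 1, 1)] .nil .nil)) (.node [] (.node [(171, 1, 1)] .nil .nil) .nil)) .nil))) (.node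 [] (.node [] (.node [] (.node [(30, (-1), 1)] .nil (.node [(94, (-1), 1)] (.node [(158, 1, 1)] .nil .nil) .nil)) .nil) (.node [] (.node [] (.node [(70, (-1), 1)] (.node [(3, (-1), 1), (117, (-1), 2)] .nil .nil) (.node [(196, 1, 1)] .nil .nil)) (.node [(105, (-1), 1)] .nil .nil)) (.node [(52, (-1), 1)] .nil .nil))) (.node [] (.node [] .nil (.node [(48, (-1), 1)] (.node [] (.node [(149, 1, 1)] .nil .nil) .nil) (.node [(113, 1, 1)] (.node [(178, 1, 1)] .nil .nil) .nil))) (.node [] (.node [] (.node [] (.node [(137, (-1), 1)] .nil .nil) (.node [(200, 1, 1)] .nil .nil)) .nil) (.node [] (.node [] .nil (.node [(218, 1, 1)] .nil .nil)) .nil))))))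
def X110 : Tr (List (ℕ × ℤ × ℕ)) := (.node [] (.node [] (.node [(118, (-1), 1)] (.node [(118, 1, 1)] (.node [] (.node [] (.node [(57, 1, 1)] .nil (.node [(184, (-1), 1)] .nil .nil)) (.node [(89, 1, 1)] (.node [(155, 1, 1)] .nil .nil) .nil)) (.node [] .nil (.node [(107, (-1), 1)] .nil .nil))) (.node [] (.node [] (.node [(64, 1, 1)] (.node [(125, (-1), 1)] .nil .nil) .nil) (.node [] .nil (.node [(227, (-1), 1)] .nil .nil))) (.node [] .nil (.node [] .nil (.node [(243, 1, 1)] .nil .nil))))) (.node [] (.node [] .nil (.node [] (.node [(79, (-1), 1)] .nil (.node [(205, 1, 1)] .nil .nil)) .nil)) (.node [] (.node [(36, (-1), 1)] .nil .nil) (.node [] (.node [] .nil (.node [(212, 1, 1)] .nil .nil)) .nil)))) (.node [] (.node [] (.node [] (.node [(29, 1, 1)] .nil .nil) (.node [] (.node [] .nil (.node [(202, 1, 1)] .nil .nil)) .nil)) (.node [] (.node [] (.node [(67, 1, 1)] (.node [(4, (-1), 1), (5, (-1), 1), (6, (-1), 1), (7, (-1), 1), (118, (-1),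 2)] .nil .nil) (.node [(194, (-1), 1)] .nil .nil)) (.node [(101, (-1), 1)] (.node [(162, (-1), 1)] .nil .nil) .nil)) .nil)) (.node [] (.node [(17, 1, 1)] (.node [] (.node [] (.node [(121, 1, 1)] .nil .nil) .nil) .nil) (.node [(46, (-1), 1)] .nil (.node [(113, (-1), 1)] (.node [(177, 1, 1)] .nil .nil) .nil))) (.node [] .nil (.node [(54, 1, 1)] (.node [(86, 1, 1)] .nil (.node [(215, 1, 1)] .nil .nil)) .nil))))) (.node [] (.node [(118, 1, 1)] (.node [] (.node [] (.node [] (.node [] (.node [(119, 1, 1)] .nil .nil) .nil) .nil) (.node [] .nil (.node [] (.node [(172, 1, 1)] .nil .nil) .nil))) (.node [] (.node [(34, (-1), 1)] (.node [(65, 1, 1)] (.node [(127, (-1), 1)] .nil .nil) (.node [(193, (-1), 1)] .nil .nil)) (.node [] (.node [(161, (-1), 1)] .nil .nil) .nil)) .nil)) (.node [(8, (-1), 1)] (.node [] (.node [] .nil (.node [(96, (-1), 1)] .nil .nil)) (.node [(45, (-1), 1)] (.node [] (.node [(144, 1, 1)] .nil .nil) .nil) .nil)) (.node [(24,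 1, 1)] .nil (.node [] (.node [] .nil (.node [(213, 1, 1)] .nil .nil)) (.node [] (.node [(182, (-1), 1)] .nil .nil) .nil))))) (.node [] (.node [] (.node [] (.node [] (.node [] (.node [(120, 1, 1)] .nil .nil) .nil) (.node [] .nil (.node [(222, (-1), 1)] .nil .nil))) (.node [(44, (-1), 1)] (.node [] .nil (.node [(203, 1, 1)] .nil .nil)) .nil)) (.node [] (.node [(35, (-1), 1)] .nil .nil) (.node [] (.node [] (.node [(150, 1, 1)] .nil .nil) .nil) .nil))) (.node [] (.node [] (.node [] (.node [] (.node [(122, (-1), 1)] .nil .nil) (.node [(192, (-1), 1)] .nil .nil)) (.node [] (.node [(160, (-1), 1)] .nil .nil) .nil)) .nil) (.node [] (.node [] (.node [(74, (-1), 1)] (.node [(138, 1, 1)] .nil .nil) .nil) (.node [] .nil (.node [(234, (-1), 1)] .nil .nil))) (.node [(55, 1, 1)] (.node [(87, 1, 1)] .nil .nil) (.node [] (.node [(183, (-1), 1)] .nil .nil) .nil)))))))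
def X111 : Tr (List (ℕ × ℤ × ℕ)) := (.node [] (.node [] (.node [(119, (-1), 1)] (.node [(119, (-1), 1)] (.node [] (.node [] (.node [(58, 1, 1)] (.node [(118, 1, 1)] .nil .nil) (.node [(185, 1, 1)] .nil .nil)) (.node [(90, 1, 1)] .nil .nil)) (.node [] .nil (.node [(108, (-1), 1)] (.node [(172, 1, 1)] .nil .nil) .nil))) (.node [] (.node [(34, 1, 1)] (.node [] (.node [(126, (-1), 1)] .nil .nil) (.node [(193, (-1), 1)] .nil .nil)) (.node [] (.node [(161, (-1), 1)] .nil .nil) (.node [(228, 1, 1)] .nil .nil))) .nil)) (.node [] (.node [] .nil (.node [(45, 1, 1)] (.node [(80, (-1), 1)] (.node [(144, 1, 1)] .nil .nil) (.node [(206, (-1), 1)] .nil .nil)) .nil)) (.node [(24, (-1), 1)] (.node [(37, (-1), 1)] .nil .nil) (.node [] .nil (.node [] (.node [(182, (-1), 1)] .nil .nil) .nil))))) (.node [] (.node [] (.node [] (.node [] (.node [] (.node [(120, 1, 1)] .nil .nil) .nil) .nil) (.node [(44, 1, 1)] .nil .nil)) (.node [] (.node [(35, 1, 1)] (.node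 [(68, 1, 1)] (.node [(128, (-1), 1)] .nil .nil) (.node [(195, 1, 1)] .nil .nil)) (.node [(102, (-1), 1)] (.node [(163, 1, 1)] .nil .nil) .nil)) (.node [] (.node [] (.node [(150, 1, 1)] .nil .nil) .nil) .nil))) (.node [] (.node [] (.node [] (.node [] .nil (.node [(192, (-1), 1)] .nil .nil)) (.node [] (.node [(160, (-1), 1)] .nil .nil) .nil)) (.node [(47, (-1), 1)] .nil (.node [(114, (-1), 1)] .nil .nil))) (.node [] (.node [] (.node [] (.node [(138, 1, 1)] .nil .nil) .nil) .nil) (.node [] (.node [] .nil (.node [(216, (-1), 1)] .nil .nil)) (.node [] (.node [(183, (-1), 1)] .nil .nil) .nil)))))) (.node [] (.node [(119, 1, 1)] (.node [] (.node [] (.node [(29, (-1), 1)] .nil .nil) (.node [] (.node [] .nil (.node [(202, 1, 1)] .nil .nil)) .nil)) (.node [] (.node [] (.node [(66, 1, 1)] (.node [(4, (-1), 1), (5, (-1), 1), (6, (-1), 1), (119, (-1), 2)] .nil .nil) .nil) .nil) .nil)) (.node [(9, (-1), 1)] (.node [(17, (-1), 1)] (.node [] (.node []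 (.node [(121, 1, 1)] .nil .nil) .nil) (.node [(97, (-1), 1)] .nil .nil)) (.node [] .nil (.node [] (.node [(177, 1, 1)] .nil .nil) .nil))) (.node [] .nil (.node [(54, (-1), 1)] (.node [(86, (-1), 1)] .nil (.node [(214, (-1), 1)] .nil .nil)) .nil)))) (.node [(119, 1, 1)] (.node [] (.node [] (.node [] .nil (.node [] .nil (.node [(223, 1, 1)] .nil .nil))) (.node [] (.node [] .nil (.node [(204, (-1), 1)] .nil .nil)) .nil)) (.node [] .nil (.node [] (.node [] .nil (.node [(212, 1, 1)] .nil .nil)) .nil))) (.node [] (.node [] (.node [] (.node [(64, (-1), 1)] (.node [(123, (-1), 1)] .nil .nil) .nil) .nil) (.node [] .nil (.node [] .nil (.node [(243, 1, 1)] .nil .nil)))) (.node [] (.node [] (.node [(75, (-1), 1)] .nil .nil) (.node [] .nil (.node [(235, 1, 1)] .nil .nil))) (.node [(56, 1, 1)] (.node [(88, 1, 1)] (.node [(155, 1, 1)] .nil .nil) .nil) .nil))))))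
def X112 : Tr (List (ℕ × ℤ × ℕ)) := (.node [] (.node [] (.node [(120, (-1), 1)] (.node [] (.node [] (.node [(29, 1, 1)] (.node [(59, 1, 1)] .nil .nil) (.node [(91, 1, 1)] .nil .nil)) (.node [] .nil (.node [(109, (-1), 1)] .nil .nil))) (.node [] (.node [] (.node [(66, (-1), 1)] (.node [(4, (-1), 1), (5, (-1), 1), (120, (-1), 2)] .nil .nil) (.node [(194, 1, 1)] .nil .nil)) (.node [] (.node [(162, 1, 1)] .nil .nil) (.node [(229, (-1), 1)] .nil .nil))) .nil)) (.node [] (.node [(17, 1, 1)] (.node [] (.node [] (.node [(121, 1, 1)] .nil .nil) .nil) .nil) (.node [(46, 1, 1)] (.node [(81, (-1), 1)] .nil (.node [(207, 1, 1)] .nil .nil)) (.node [] (.node [(177, 1, 1)] .nil .nil) .nil))) (.node [] .nil (.node [] (.node [] .nil (.node [(214, (-1), 1)] .nil .nil)) .nil)))) (.node [(120, 1, 1)] (.node [] (.node [] .nil (.node [] (.node [] .nil (.node [(204, (-1), 1)] .nil .nil)) .nil)) (.node [] (.node [(36, 1, 1)] (.node [(69, 1, 1)] (.node [(130,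 (-1), 1)] .nil .nil) .nil) (.node [(103, (-1), 1)] .nil .nil)) .nil)) (.node [] (.node [] .nil (.node [] .nil (.node [(115, (-1), 1)] .nil (.node [(243, 1, 1)] .nil .nil)))) (.node [] .nil (.node [(56, (-1), 1)] (.node [(88, (-1), 1)] (.node [(155, 1, 1)] .nil .nil) (.node [(217, 1, 1)] .nil .nil)) (.node [(118, 1, 1)] (.node [(184, 1, 1)] .nil .nil) .nil)))))) (.node [] (.node [(120, 1, 1)] (.node [] (.node [] .nil (.node [(44, (-1), 1)] (.node [] .nil (.node [(203, (-1), 1)] .nil .nil)) .nil)) (.node [] (.node [] (.node [] (.node [(129, (-1), 1)] .nil .nil) (.node [(195, 1, 1)] .nil .nil)) (.node [] (.node [(163, 1, 1)] .nil .nil) .nil)) (.node [] (.node [] (.node [(150, 1, 1)] .nil .nil) .nil) .nil))) (.node [(10, (-1), 1)] (.node [] (.node [] (.node [] .nil (.node [(192, (-1), 1)] .nil .nil)) (.node [(98, (-1), 1)] (.node [(160, (-1), 1)] .nil .nil) .nil)) (.node [(47, 1, 1)] .nil .nil)) (.node [] (.node [] (.node [] (.node [(138,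 1, 1)] .nil .nil) .nil) .nil) (.node [(55, (-1), 1)] (.node [(87, (-1), 1)] .nil .nil) .nil)))) (.node [(120, (-1), 1)] (.node [] (.node [] (.node [] .nil (.node [] .nil (.node [(224, (-1), 1)] .nil .nil))) (.node [] (.node [] (.node [(144, 1, 1)] .nil .nil) .nil) .nil)) (.node [(24, 1, 1)] (.node [(37, 1, 1)] .nil .nil) (.node [] (.node [] .nil (.node [(213, (-1), 1)] .nil .nil)) (.node [] (.node [(182, (-1), 1)] .nil .nil) .nil)))) (.node [] (.node [] (.node [(34, (-1), 1)] (.node [(65, (-1), 1)] (.node [(124, (-1), 1)] .nil .nil) .nil) .nil) .nil) (.node [] (.node [] (.node [(76, (-1), 1)] .nil .nil) (.node [] (.node [(172, 1, 1)] .nil .nil) (.node [(236, (-1), 1)] .nil .nil))) (.node [] .nil (.node [(119, 1, 1)] (.node [(185, 1, 1)] .nil .nil) .nil)))))))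
def X113 : Tr (List (ℕ × ℤ × ℕ)) := (.node [] (.node [] (.node [(121, (-1), 1)] (.node [] (.node [] .nil (.node [] .nil (.node [(110, (-1), 1)] .nil .nil))) (.node [] (.node [(36, (-1), 1)] (.node [(68, (-1), 1)] (.node [(131, (-1), 1)] .nil .nil) .nil) (.node [] .nil (.node [(230, 1, 1)] .nil .nil))) (.node [] (.node [] (.node [(150, 1, 1)] .nil .nil) .nil) .nil))) (.node [] (.node [] .nil (.node [] (.node [(82, (-1), 1)] .nil .nil) .nil)) (.node [] (.node [] (.node [] (.node [(138, 1, 1)] .nil .nil) .nil) .nil) (.node [] (.node [] .nil (.node [(216, 1, 1)] .nil .nil)) (.node [(119, 1, 1)] (.node [(184, 1, 1)] .nil .nil) .nil))))) (.node [(121, (-1), 1)] (.node [] (.node [] .nil (.node [(46, (-1), 1)] (.node [] (.node [(144, 1, 1)] .nil .nil) (.node [(206, 1, 1)] .nil .nil)) .nil)) (.node [(24, (-1), 1)] (.node [] (.node [] (.node [(133, (-1), 1)] .nil .nil) .nil) (.node [(104, (-1), 1)] .nil .nil)) .nil)) (.node [] (.node [] (.node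 [] (.node [] .nil (.node [(194, 1, 1)] .nil .nil)) (.node [] (.node [(162, 1, 1)] .nil .nil) .nil)) (.node [] .nil (.node [(116, (-1), 1)] .nil .nil))) (.node [] (.node [] .nil (.node [] (.node [(172, 1, 1)] .nil .nil) .nil)) (.node [(58, (-1), 1)] (.node [(90, (-1), 1)] .nil .nil) .nil))))) (.node [] (.node [(121, 2, 1)] (.node [] (.node [] .nil (.node [(45, (-1), 1)] (.node [] .nil (.node [(205, 1, 1)] .nil .nil)) .nil)) (.node [] (.node [(37, (-1), 1)] (.node [(69, (-1), 1)] (.node [(132, (-1), 1)] .nil .nil) .nil) .nil) .nil)) (.node [(11, (-1), 1)] (.node [] (.node [] (.node [] .nil (.node [(193, 1, 1)] .nil .nil)) (.node [(99, (-1), 1)] (.node [(161, 1, 1)] .nil .nil) .nil)) (.node [] .nil (.node [] .nil (.node [(243, 1, 1)] .nil .nil)))) (.node [] .nil (.node [(57, (-1), 1)] (.node [(89, (-1), 1)] (.node [(155, 1, 1)] .nil .nil) (.node [(217, 1, 1)] .nil .nil)) (.node [(120, 1, 1)] (.node [(185, 1, 1)] .nil .nil) .nil))))) (.node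 [] (.node [] (.node [(17, (-1), 1)] (.node [] .nil (.node [] .nil (.node [(225, 1, 1)] .nil .nil))) (.node [(47, (-1), 1)] (.node [] .nil (.node [(207, 1, 1)] .nil .nil)) (.node [] (.node [(177, 1, 1)] .nil .nil) .nil))) (.node [] .nil (.node [] (.node [] .nil (.node [(215, 1, 1)] .nil .nil)) (.node [(118, 1, 1)] (.node [(183, 1, 1)] .nil .nil) .nil)))) (.node [] (.node [] (.node [(35, (-1), 1)] (.node [(67, (-1), 1)] (.node [(4, (-1), 1), (121, (-1), 2)] .nil .nil) (.node [(195, 1, 1)] .nil .nil)) (.node [] (.node [(163, 1, 1)] .nil .nil) .nil)) .nil) (.node [(29, (-1), 1)] (.node [] (.node [(77, (-1), 1)] .nil .nil) (.node [] .nil (.node [(237, 1, 1)] .nil .nil))) (.node [(59, (-1), 1)] (.node [(91, (-1), 1)] .nil .nil) .nil))))))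
def X114 : Tr (List (ℕ × ℤ × ℕ)) := (.node [] (.node [] (.node [] (.node [(122, 1, 1)] (.node [] (.node [] (.node [(60, (-1), 1)] .nil (.node [(187, (-1), 1)] .nil .nil)) (.node [(92, (-1), 1)] (.node [(156, 1, 1)] .nil .nil) .nil)) (.node [(44, (-1), 1)] (.node [] .nil (.node [(203, (-1), 1)] .nil .nil)) .nil)) (.node [] .nil (.node [] .nil (.node [] .nil (.node [(244, 1, 1)] .nil .nil))))) (.node [(8, (-1), 1)] (.node [] (.node [] (.node [] (.node [(125, (-1), 1)] .nil .nil) (.node [(192, 1, 1)] .nil .nil)) (.node [(96, (-1), 1)] (.node [(160, 1, 1)] .nil .nil) .nil)) (.node [] (.node [] .nil (.node [(208, 1, 1)] .nil .nil)) .nil)) (.node [] (.node [(39, 1, 1)] .nil .nil) (.node [(55, 1, 1)] (.node [(87, 1, 1)] .nil .nil) .nil)))) (.node [(122, 1, 1)] (.node [] (.node [] (.node [(30, (-1), 1)] .nil (.node [] .nil (.node [(222, 1, 1)] .nil .nil))) .nil) (.node [] (.node [] (.node [(70, (-1), 1)] (.node [(134, 1, 1)] .nil .nil) (.node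 [(197, (-1), 1)] .nil .nil)) (.node [] (.node [(165, (-1), 1)] .nil .nil) .nil)) (.node [] (.node [] .nil (.node [(213, (-1), 1)] .nil .nil)) (.node [(118, (-1), 1)] (.node [(182, 1, 1)] .nil .nil) .nil)))) (.node [] (.node [(18, (-1), 1)] (.node [(34, (-1), 1)] (.node [(65, 1, 1)] (.node [(5, (-1), 1), (6, (-1), 1), (7, (-1), 1), (122, (-1), 2)] .nil .nil) .nil) .nil) (.node [(49, 1, 1)] .nil (.node [] (.node [(178, 1, 1)] .nil .nil) .nil))) (.node [] (.node [] (.node [(74, (-1), 1)] .nil .nil) (.node [] .nil (.node [(234, 1, 1)] .nil .nil))) (.node [] (.node [] .nil (.node [(218, 1, 1)] .nil .nil)) .nil))))) (.node [] (.node [(122, (-1), 1)] (.node [] (.node [] (.node [] (.node [] (.node [(123, 1, 1)] .nil .nil) .nil) .nil) (.node [] .nil (.node [] (.node [(173, 1, 1)] .nil .nil) .nil))) (.node [] (.node [] (.node [] .nil (.node [(196, (-1), 1)] .nil .nil)) (.node [(101, (-1), 1)] (.node [(164, (-1), 1)] .nil .nil) .nil)) (.node []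 (.node [] .nil (.node [(212, (-1), 1)] .nil .nil)) .nil))) (.node [] (.node [] (.node [] (.node [(64, 1, 1)] (.node [(127, (-1), 1)] .nil .nil) .nil) .nil) (.node [(48, 1, 1)] (.node [] (.node [(145, 1, 1)] .nil .nil) .nil) (.node [(113, (-1), 1)] .nil .nil))) (.node [(25, (-1), 1)] .nil .nil))) (.node [] (.node [] (.node [] (.node [] (.node [] (.node [(124, 1, 1)] .nil .nil) .nil) .nil) (.node [] (.node [(79, (-1), 1)] .nil .nil) .nil)) (.node [] (.node [(38, 1, 1)] .nil .nil) (.node [(54, 1, 1)] (.node [(86, 1, 1)] (.node [(151, 1, 1)] .nil .nil) .nil) .nil))) (.node [] (.node [] (.node [] .nil (.node [] .nil (.node [(227, 1, 1)] .nil .nil))) .nil) (.node [] (.node [] (.node [] (.node [(139, 1, 1)] .nil .nil) (.node [(202, (-1), 1)] .nil .nil)) (.node [(107, (-1), 1)] .nil .nil)) (.node [] .nil (.node [] (.node [(186, (-1), 1)] .nil .nil) .nil)))))))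
def X115 : Tr (List (ℕ × ℤ × ℕ)) := (.node [] (.node [] (.node [] (.node [(123, (-1), 1)] (.node [] (.node [] (.node [(61, (-1), 1)] (.node [(122, 1, 1)] .nil .nil) (.node [(188, 1, 1)] .nil .nil)) (.node [(93, (-1), 1)] .nil .nil)) (.node [] (.node [] .nil (.node [(204, 1, 1)] .nil .nil)) (.node [] (.node [(173, 1, 1)] .nil .nil) .nil))) (.node [] (.node [] (.node [] .nil (.node [(196, (-1), 1)] .nil .nil)) (.node [] (.node [(164, (-1), 1)] .nil .nil) .nil)) (.node [] (.node [] .nil (.node [(212, (-1), 1)] .nil .nil)) .nil))) (.node [(9, (-1), 1)] (.node [] (.node [] (.node [(64, (-1), 1)] (.node [(126, (-1), 1)] .nil .nil) .nil) (.node [(97, (-1), 1)] .nil .nil)) (.node [(48, (-1), 1)] (.node [] (.node [(145, 1, 1)] .nil .nil) (.node [(209, (-1), 1)] .nil .nil)) .nil)) (.node [(25, 1, 1)] (.node [(40, 1, 1)] .nil .nil) (.node [(56, 1, 1)] (.node [(88, 1, 1)] .nil .nil) .nil)))) (.node [(123, 1, 1)] (.node [] (.node [] (.node [] (.node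 [] (.node [(124, 1, 1)] .nil .nil) .nil) (.node [] .nil (.node [(223, (-1), 1)] .nil .nil))) .nil) (.node [] (.node [(38, (-1), 1)] (.node [(71, (-1), 1)] .nil (.node [(198, 1, 1)] .nil .nil)) (.node [] (.node [(166, 1, 1)] .nil .nil) .nil)) (.node [(54, (-1), 1)] (.node [(86, (-1), 1)] (.node [(151, 1, 1)] .nil .nil) (.node [(214, 1, 1)] .nil .nil)) (.node [(119, (-1), 1)] .nil .nil)))) (.node [] (.node [] (.node [] (.node [(66, 1, 1)] (.node [(128, (-1), 1)] .nil .nil) .nil) .nil) (.node [(50, 1, 1)] .nil .nil)) (.node [] (.node [] (.node [(75, (-1), 1)] (.node [(139, 1, 1)] .nil .nil) (.node [(202, (-1), 1)] .nil .nil)) (.node [] .nil (.node [(235, (-1), 1)] .nil .nil))) (.node [] (.node [] .nil (.node [(219, (-1), 1)] .nil .nil)) (.node [] (.node [(186, (-1), 1)] .nil .nil) .nil)))))) (.node [] (.node [(123, (-1), 1)] (.node [] (.node [] (.node [(30, 1, 1)] .nil .nil) .nil) (.node [] (.node [] (.node [] (.node [(134, 1, 1)] .nil .nil)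 .nil) (.node [(102, (-1), 1)] .nil .nil)) (.node [] .nil (.node [] (.node [(182, 1, 1)] .nil .nil) .nil)))) (.node [] (.node [(18, 1, 1)] (.node [(34, 1, 1)] (.node [] (.node [(5, (-1), 1), (6, (-1), 1), (123, (-1), 2)] .nil .nil) .nil) .nil) (.node [] .nil (.node [(114, (-1), 1)] (.node [(178, 1, 1)] .nil .nil) .nil))) .nil)) (.node [(123, 1, 1)] (.node [] (.node [] (.node [] (.node [] .nil (.node [(192, 1, 1)] .nil .nil)) (.node [] (.node [(160, 1, 1)] .nil .nil) .nil)) (.node [] (.node [(80, (-1), 1)] .nil .nil) .nil)) .nil) (.node [] (.node [] (.node [] .nil (.node [] .nil (.node [(228, (-1), 1)] .nil .nil))) (.node [] .nil (.node [] .nil (.node [(244, 1, 1)] .nil .nil)))) (.node [] (.node [(44, 1, 1)] .nil (.node [(108, (-1), 1)] .nil .nil)) (.node [] (.node [] (.node [(156, 1, 1)] .nil .nil) .nil) .nil))))))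
def X116 : Tr (List (ℕ × ℤ × ℕ)) := (.node [] (.node [] (.node [] (.node [] (.node [] (.node [(30, (-1), 1)] (.node [(62, (-1), 1)] .nil .nil) (.node [(94, (-1), 1)] .nil .nil)) .nil) (.node [] (.node [] (.node [] (.node [(134, 1, 1)] .nil .nil) (.node [(197, 1, 1)] .nil .nil)) (.node [] (.node [(165, 1, 1)] .nil .nil) .nil)) (.node [] (.node [] .nil (.node [(213, 1, 1)] .nil .nil)) (.node [] (.node [(182, 1, 1)] .nil .nil) .nil)))) (.node [(10, (-1), 1)] (.node [(18, (-1), 1)] (.node [(34, (-1), 1)] (.node [(65, (-1), 1)] (.node [(5, (-1), 1), (124, (-1), 2)] .nil .nil) .nil) (.node [(98, (-1), 1)] .nil .nil)) (.node [(49, (-1), 1)] (.node [] .nil (.node [(210, 1, 1)] .nil .nil)) (.node [] (.node [(178, 1, 1)] .nil .nil) .nil))) .nil)) (.node [(124, 2, 1)] (.node [] (.node [] (.node [] (.node [] .nil (.node [(192, 1, 1)] .nil .nil)) (.node [] (.node [(160, 1, 1)] .nil .nil) (.node [(224, 1, 1)] .nil .nil))) .nil) (.node [] (.node [(39,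 (-1), 1)] (.node [(72, (-1), 1)] .nil .nil) .nil) (.node [(55, (-1), 1)] (.node [(87, (-1), 1)] .nil .nil) (.node [(120, (-1), 1)] .nil .nil)))) (.node [] (.node [] (.node [] (.node [] (.node [(130, (-1), 1)] .nil .nil) .nil) .nil) (.node [] .nil (.node [] .nil (.node [(244, 1, 1)] .nil .nil)))) (.node [] (.node [(44, (-1), 1)] (.node [(76, (-1), 1)] .nil (.node [(203, 1, 1)] .nil .nil)) (.node [] .nil (.node [(236, 1, 1)] .nil .nil))) (.node [] (.node [] (.node [(156, 1, 1)] .nil .nil) (.node [(220, 1, 1)] .nil .nil)) (.node [(122, 1, 1)] (.node [(187, 1, 1)] .nil .nil) .nil)))))) (.node [] (.node [(124, (-1), 1)] (.node [] .nil (.node [] (.node [] (.node [] .nil (.node [(198, 1, 1)] .nil .nil)) (.node [(103, (-1), 1)] (.node [(166, 1, 1)] .nil .nil) .nil)) (.node [] (.node [] (.node [(151, 1, 1)] .nil .nil) (.node [(214, 1, 1)] .nil .nil)) .nil))) (.node [] (.node [] (.node [] (.node [(66, (-1), 1)] (.node [(129, (-1), 1)] .nil .nil)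 .nil) .nil) (.node [(50, (-1), 1)] .nil (.node [(115, (-1), 1)] .nil .nil))) (.node [] (.node [] (.node [] (.node [(139, 1, 1)] .nil .nil) .nil) .nil) .nil))) (.node [(124, (-1), 1)] (.node [] (.node [] .nil (.node [] (.node [(81, (-1), 1)] (.node [(145, 1, 1)] .nil .nil) .nil) .nil)) (.node [(25, (-1), 1)] (.node [(40, (-1), 1)] .nil .nil) (.node [(56, (-1), 1)] (.node [(88, (-1), 1)] .nil .nil) .nil))) (.node [] (.node [] (.node [] .nil (.node [] .nil (.node [(229, 1, 1)] .nil .nil))) .nil) (.node [] (.node [] (.node [] .nil (.node [(204, 1, 1)] .nil .nil)) (.node [(109, (-1), 1)] (.node [(173, 1, 1)] .nil .nil) .nil)) (.node [] .nil (.node [(123, 1, 1)] (.node [(188, 1, 1)] .nil .nil) .nil)))))))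
def X117 : Tr (List (ℕ × ℤ × ℕ)) := (.node [] (.node [] (.node [] (.node [(125, 1, 1)] (.node [] (.node [] (.node [] .nil (.node [(189, (-1), 1)] .nil .nil)) (.node [] (.node [(157, 1, 1)] .nil .nil) .nil)) (.node [(45, 1, 1)] (.node [] .nil (.node [(205, (-1), 1)] .nil .nil)) .nil)) (.node [] (.node [] .nil (.node [(101, (-1), 1)] .nil .nil)) (.node [] .nil (.node [] .nil (.node [(245, 1, 1)] .nil .nil))))) (.node [] (.node [] (.node [] (.node [] .nil (.node [(193, 1, 1)] .nil .nil)) (.node [] (.node [(161, 1, 1)] .nil .nil) .nil)) (.node [] .nil (.node [(113, (-1), 1)] .nil .nil))) (.node [] (.node [(41, (-1), 1)] .nil .nil) (.node [(57, (-1), 1)] (.node [(89, (-1), 1)] .nil .nil) .nil)))) (.node [(125, (-1), 1)] (.node [] (.node [] (.node [(31, 1, 1)] (.node [] (.node [(127, (-1), 1)] .nil .nil) .nil) .nil) (.node [] (.node [(79, (-1), 1)] .nil .nil) .nil)) (.node [] (.node [] (.node [] (.node [(135, 1, 1)] .nil .nil) (.node [(199,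 (-1), 1)] .nil .nil)) (.node [] (.node [(167, (-1), 1)] .nil .nil) .nil)) (.node [] (.node [] .nil (.node [(215, (-1), 1)] .nil .nil)) (.node [] (.node [(183, 1, 1)] .nil .nil) .nil)))) (.node [] (.node [(19, 1, 1)] (.node [(35, 1, 1)] (.node [(67, (-1), 1)] (.node [(131, 1, 1)] .nil .nil) .nil) (.node [] .nil (.node [(227, (-1), 1)] .nil .nil))) (.node [(51, (-1), 1)] .nil (.node [] (.node [(179, 1, 1)] .nil .nil) .nil))) (.node [] (.node [] .nil (.node [(107, (-1), 1)] .nil .nil)) .nil)))) (.node [] (.node [] (.node [] (.node [] (.node [] (.node [] (.node [(126, 1, 1)] .nil .nil) .nil) (.node [] .nil (.node [(222, (-1), 1)] .nil .nil))) (.node [] .nil (.node [] (.node [(174, 1, 1)] .nil .nil) .nil))) (.node [] (.node [(38, 1, 1)] (.node [(70, (-1), 1)] .nil .nil) .nil) (.node [(54, 1, 1)] (.node [(86, 1, 1)] .nil .nil) (.node [(118, (-1), 1)] .nil .nil)))) (.node [] (.node [] .nil (.node [] (.node [] (.node [(146, 1, 1)] .nil .nil)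 .nil) .nil)) (.node [(26, 1, 1)] (.node [] (.node [(74, (-1), 1)] .nil (.node [(202, 1, 1)] .nil .nil)) (.node [] .nil (.node [(234, (-1), 1)] .nil .nil))) (.node [] (.node [] .nil (.node [(218, (-1), 1)] .nil .nil)) (.node [(122, (-1), 1)] (.node [(186, 1, 1)] .nil .nil) .nil))))) (.node [(125, 1, 1)] (.node [(8, (-1), 1)] (.node [] (.node [] (.node [(64, 1, 1)] (.node [(6, (-1), 1), (7, (-1), 1), (125, (-1), 2)] .nil .nil) .nil) (.node [(96, (-1), 1)] .nil .nil)) (.node [(48, 1, 1)] (.node [] .nil (.node [(208, (-1), 1)] .nil .nil)) .nil)) (.node [] .nil (.node [] (.node [] (.node [(152, 1, 1)] .nil .nil) .nil) .nil))) (.node [] (.node [] (.node [] (.node [] .nil (.node [(196, 1, 1)] .nil .nil)) (.node [] (.node [(164, 1, 1)] .nil .nil) .nil)) (.node [] (.node [] .nil (.node [(212, 1, 1)] .nil .nil)) .nil)) (.node [] (.node [] (.node [] (.node [(140, 1, 1)] .nil .nil) .nil) .nil) (.node [(60, (-1), 1)] (.node [(92, (-1), 1)] .nil .nil)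 .nil))))))
def X118 : Tr (List (ℕ × ℤ × ℕ)) := (.node [] (.node [] (.node [] (.node [(126, (-1), 1)] (.node [] (.node [] (.node [] (.node [(125, 1, 1)] .nil .nil) (.node [(190, 1, 1)] .nil .nil)) .nil) (.node [] (.node [] .nil (.node [(206, 1, 1)] .nil .nil)) (.node [] (.node [(174, 1, 1)] .nil .nil) .nil))) (.node [] (.node [(38, (-1), 1)] .nil (.node [(102, (-1), 1)] .nil .nil)) (.node [(54, (-1), 1)] (.node [(86, (-1), 1)] .nil .nil) .nil))) (.node [] (.node [] .nil (.node [] (.node [] (.node [(146, 1, 1)] .nil .nil) .nil) (.node [(114, (-1), 1)] .nil .nil))) (.node [(26, (-1), 1)] (.node [(42, (-1), 1)] (.node [] .nil (.node [(202, 1, 1)] .nil .nil)) .nil) (.node [(58, (-1), 1)] (.node [(90, (-1), 1)] .nil .nil) (.node [] (.node [(186, 1, 1)] .nil .nil) .nil))))) (.node [(126, (-1), 1)] (.node [] (.node [] (.node [] (.node [(64, (-1), 1)] (.node [(6, (-1), 1), (126, (-1), 2)] .nil .nil) .nil) .nil) (.node [(48, (-1), 1)] (.node [(80,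 (-1), 1)] .nil .nil) .nil)) (.node [] (.node [] (.node [] .nil (.node [(200, 1, 1)] .nil .nil)) (.node [] (.node [(168, 1, 1)] .nil .nil) .nil)) (.node [] (.node [] (.node [(152, 1, 1)] .nil .nil) (.node [(216, 1, 1)] .nil .nil)) .nil))) (.node [] (.node [] (.node [] (.node [(68, (-1), 1)] .nil (.node [(196, 1, 1)] .nil .nil)) (.node [] (.node [(164, 1, 1)] .nil .nil) (.node [(228, 1, 1)] .nil .nil))) (.node [(52, (-1), 1)] (.node [] .nil (.node [(212, 1, 1)] .nil .nil)) .nil)) (.node [] (.node [] (.node [] (.node [(140, 1, 1)] .nil .nil) .nil) (.node [(108, (-1), 1)] .nil .nil)) .nil)))) (.node [] (.node [] (.node [] (.node [] (.node [(31, (-1), 1)] .nil (.node [] .nil (.node [(223, 1, 1)] .nil .nil))) .nil) (.node [] (.node [] (.node [(71, (-1), 1)] (.node [(135, 1, 1)] .nil .nil) .nil) .nil) (.node [] .nil (.node [(119, (-1), 1)] (.node [(183, 1, 1)] .nil .nil) .nil)))) (.node [] (.node [(19, (-1), 1)] (.node [(35, (-1), 1)] (.node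 [] (.node [(131, 1, 1)] .nil .nil) .nil) .nil) (.node [] .nil (.node [] (.node [(179, 1, 1)] .nil .nil) .nil))) (.node [] (.node [] (.node [(75, (-1), 1)] .nil .nil) (.node [] .nil (.node [(235, 1, 1)] .nil .nil))) (.node [] (.node [] .nil (.node [(219, 1, 1)] .nil .nil)) (.node [(123, (-1), 1)] .nil .nil))))) (.node [(126, 2, 1)] (.node [(9, (-1), 1)] (.node [] (.node [] (.node [] (.node [(128, (-1), 1)] .nil .nil) (.node [(193, 1, 1)] .nil .nil)) (.node [(97, (-1), 1)] (.node [(161, 1, 1)] .nil .nil) .nil)) (.node [] (.node [] .nil (.node [(209, 1, 1)] .nil .nil)) .nil)) .nil) (.node [] (.node [] .nil (.node [] .nil (.node [] .nil (.node [(245, 1, 1)] .nil .nil)))) (.node [] (.node [(45, (-1), 1)] .nil .nil) (.node [(61, (-1), 1)] (.node [(93, (-1), 1)] (.node [(157, 1, 1)] .nil .nil) .nil) .nil))))))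
def X119 : Tr (List (ℕ × ℤ × ℕ)) := (.node [] (.node [] (.node [] (.node [(127, 2, 1)] (.node [] (.node [] .nil (.node [] (.node [(158, 1, 1)] .nil .nil) (.node [(222, 1, 1)] .nil .nil))) (.node [(46, (-1), 1)] .nil .nil)) (.node [] (.node [] (.node [(70, (-1), 1)] .nil .nil) .nil) (.node [] .nil (.node [(118, (-1), 1)] .nil (.node [(246, 1, 1)] .nil .nil))))) (.node [] (.node [] (.node [] (.node [] .nil (.node [(194, 1, 1)] .nil .nil)) (.node [] (.node [(162, 1, 1)] .nil .nil) .nil)) .nil) (.node [] (.node [] (.node [(74, (-1), 1)] .nil .nil) (.node [] .nil (.node [(234, 1, 1)] .nil .nil))) (.node [] (.node [] .nil (.node [(218, 1, 1)] .nil .nil)) (.node [(122, (-1), 1)] .nil .nil))))) (.node [] (.node [(8, (-1), 1)] (.node [] (.node [(32, (-1), 1)] .nil (.node [(96, (-1), 1)] .nil .nil)) (.node [] (.node [] .nil (.node [(208, 1, 1)] .nil .nil)) .nil)) (.node [] (.node [] (.node [] (.node [(136, 1, 1)] .nil .nil) .nil) .nil) (.node []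 .nil (.node [] (.node [(184, 1, 1)] .nil .nil) .nil)))) (.node [] (.node [(20, (-1), 1)] (.node [(36, (-1), 1)] (.node [] (.node [(132, 1, 1)] .nil .nil) .nil) .nil) (.node [] .nil (.node [] (.node [(180, 1, 1)] .nil .nil) .nil))) (.node [] .nil (.node [(60, (-1), 1)] (.node [(92, (-1), 1)] .nil .nil) .nil))))) (.node [] (.node [] (.node [] (.node [] (.node [] (.node [] (.node [(7, (-1), 1), (127, (-1), 2)] .nil .nil) .nil) .nil) (.node [] (.node [(79, (-1), 1)] .nil .nil) (.node [] (.node [(175, 1, 1)] .nil .nil) .nil))) (.node [] (.node [(39, (-1), 1)] (.node [] .nil (.node [(199, 1, 1)] .nil .nil)) (.node [] (.node [(167, 1, 1)] .nil .nil) .nil)) (.node [(55, (-1), 1)] (.node [(87, (-1), 1)] .nil (.node [(215, 1, 1)] .nil .nil)) .nil))) (.node [] (.node [] (.node [] (.node [(67, (-1), 1)] .nil .nil) (.node [] .nil (.node [(227, 1, 1)] .nil .nil))) (.node [(51, (-1), 1)] (.node [] (.node [(147, 1, 1)] .nil .nil) .nil) .nil)) (.node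 [(27, (-1), 1)] (.node [] (.node [] .nil (.node [(203, 1, 1)] .nil .nil)) (.node [(107, (-1), 1)] .nil .nil)) (.node [] .nil (.node [] (.node [(187, 1, 1)] .nil .nil) .nil))))) (.node [(127, (-1), 1)] (.node [] (.node [] (.node [] (.node [(65, (-1), 1)] (.node [(129, 1, 1)] .nil .nil) .nil) .nil) (.node [(49, (-1), 1)] .nil (.node [(113, (-1), 1)] .nil .nil))) (.node [] (.node [(41, (-1), 1)] .nil .nil) (.node [(57, (-1), 1)] (.node [(89, (-1), 1)] (.node [(153, 1, 1)] .nil .nil) .nil) .nil))) (.node [] (.node [] (.node [] (.node [] .nil (.node [(197, 1, 1)] .nil .nil)) (.node [(101, (-1), 1)] (.node [(165, 1, 1)] .nil .nil) .nil)) (.node [] (.node [] .nil (.node [(213, 1, 1)] .nil .nil)) .nil)) (.node [] (.node [] (.node [] (.node [(141, 1, 1)] .nil .nil) (.node [(205, 1, 1)] .nil .nil)) .nil) (.node [] .nil (.node [(125, (-1), 1)] (.node [(189, 1, 1)] .nil .nil) .nil)))))))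
def X120 : Tr (List (ℕ × ℤ × ℕ)) := (.node [] (.node [] (.node [] (.node [(128, (-2), 1)] (.node [] (.node [] (.node [] (.node [(7, 1, 1), (128, (-1), 2)] .nil .nil) .nil) .nil) (.node [] (.node [(80, (-1), 1)] .nil .nil) (.node [] (.node [(176, 1, 1)] .nil .nil) .nil))) (.node [] (.node [(40, (-1), 1)] (.node [] .nil (.node [(200, 1, 1)] .nil .nil)) (.node [] (.node [(168, 1, 1)] .nil .nil) .nil)) (.node [(56, (-1), 1)] (.node [(88, (-1), 1)] .nil (.node [(216, 1, 1)] .nil .nil)) .nil))) (.node [] (.node [] (.node [] (.node [(68, (-1), 1)] .nil .nil) (.node [] .nil (.node [(228, 1, 1)] .nil .nil))) (.node [(52, (-1), 1)] (.node [] (.node [(148, 1, 1)] .nil .nil) .nil) .nil)) (.node [(28, (-1), 1)] (.node [] (.node [] .nil (.node [(204, 1, 1)] .nil .nil)) (.node [(108, (-1), 1)] .nil .nil)) (.node [] .nil (.node [] (.node [(188, 1, 1)] .nil .nil) .nil))))) (.node [] (.node [] (.node [] (.node [] (.node [(66, (-1), 1)] (.node [(130, 1,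 1)] .nil .nil) .nil) .nil) (.node [(50, (-1), 1)] .nil (.node [(114, (-1), 1)] .nil .nil))) (.node [] (.node [(42, (-1), 1)] .nil .nil) (.node [(58, (-1), 1)] (.node [(90, (-1), 1)] (.node [(154, 1, 1)] .nil .nil) .nil) .nil))) (.node [] (.node [] (.node [] (.node [] .nil (.node [(198, 1, 1)] .nil .nil)) (.node [(102, (-1), 1)] (.node [(166, 1, 1)] .nil .nil) .nil)) (.node [] (.node [] .nil (.node [(214, 1, 1)] .nil .nil)) .nil)) (.node [] (.node [] (.node [] (.node [(142, 1, 1)] .nil .nil) (.node [(206, 1, 1)] .nil .nil)) .nil) (.node [] .nil (.node [(126, (-1), 1)] (.node [(190, 1, 1)] .nil .nil) .nil)))))) (.node [] (.node [] (.node [(9, (-1), 1)] (.node [] (.node [(33, (-1), 1)] .nil (.node [(97, (-1), 1)] .nil .nil)) (.node [] (.node [] .nil (.node [(209, 1, 1)] .nil .nil)) .nil)) (.node [] (.node [] (.node [] (.node [(137, 1, 1)] .nil .nil) .nil) .nil) (.node [] .nil (.node [] (.node [(185, 1, 1)] .nil .nil) .nil)))) (.node [] (.node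 [(21, (-1), 1)] (.node [(37, (-1), 1)] (.node [] (.node [(133, 1, 1)] .nil .nil) .nil) .nil) (.node [] .nil (.node [] (.node [(181, 1, 1)] .nil .nil) .nil))) (.node [] .nil (.node [(61, (-1), 1)] (.node [(93, (-1), 1)] .nil .nil) .nil)))) (.node [(128, 1, 1)] (.node [] (.node [] (.node [] (.node [] .nil (.node [(195, 1, 1)] .nil .nil)) (.node [] (.node [(163, 1, 1)] .nil .nil) .nil)) .nil) (.node [] (.node [] (.node [(75, (-1), 1)] .nil .nil) (.node [] .nil (.node [(235, 1, 1)] .nil .nil))) (.node [] (.node [] .nil (.node [(219, 1, 1)] .nil .nil)) (.node [(123, (-1), 1)] .nil .nil)))) (.node [] (.node [] (.node [] (.node [(71, (-1), 1)] .nil .nil) .nil) (.node [] .nil (.node [(119, (-1), 1)] .nil (.node [(247, 1, 1)] .nil .nil)))) (.node [] (.node [(47, (-1), 1)] .nil .nil) (.node [] (.node [] (.node [(159, 1, 1)] .nil .nil) (.node [(223, 1, 1)] .nil .nil)) .nil))))))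
def X121 : Tr (List (ℕ × ℤ × ℕ)) := (.node [] (.node [] (.node [] (.node [(129, 1, 1)] (.node [] (.node [(32, (-1), 1)] .nil (.node [] .nil (.node [(224, 1, 1)] .nil .nil))) .nil) (.node [] (.node [] (.node [(72, (-1), 1)] (.node [(136, 1, 1)] .nil .nil) .nil) .nil) (.node [] .nil (.node [(120, (-1), 1)] (.node [(184, 1, 1)] .nil .nil) .nil)))) (.node [] (.node [(20, (-1), 1)] (.node [(36, (-1), 1)] (.node [] (.node [(132, 1, 1)] .nil .nil) .nil) .nil) (.node [] .nil (.node [] (.node [(180, 1, 1)] .nil .nil) .nil))) (.node [] (.node [] (.node [(76, (-1), 1)] .nil .nil) (.node [] .nil (.node [(236, 1, 1)] .nil .nil))) (.node [] (.node [] .nil (.node [(220, 1, 1)] .nil .nil)) (.node [(124, (-1), 1)] .nil .nil))))) (.node [(129, 1, 1)] (.node [(10, (-1), 1)] (.node [] (.node [] (.node [] .nil (.node [(194, 1, 1)] .nil .nil)) (.node [(98, (-1), 1)] (.node [(162, 1, 1)] .nil .nil) .nil)) (.node [] (.node [] .nil (.node [(210, 1, 1)] .nil .nil))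 .nil)) .nil) (.node [] (.node [] .nil (.node [] .nil (.node [] .nil (.node [(246, 1, 1)] .nil .nil)))) (.node [] (.node [(46, (-1), 1)] .nil .nil) (.node [(62, (-1), 1)] (.node [(94, (-1), 1)] (.node [(158, 1, 1)] .nil .nil) .nil) (.node [(127, 1, 1)] .nil .nil)))))) (.node [] (.node [] (.node [] (.node [] (.node [] (.node [(65, (-1), 1)] (.node [(130, (-1), 1)] .nil .nil) .nil) .nil) (.node [(49, (-1), 1)] (.node [(81, (-1), 1)] .nil .nil) .nil)) (.node [] (.node [] (.node [] .nil (.node [(201, 1, 1)] .nil .nil)) (.node [] (.node [(169, 1, 1)] .nil .nil) .nil)) (.node [] (.node [] (.node [(153, 1, 1)] .nil .nil) (.node [(217, 1, 1)] .nil .nil)) .nil))) (.node [] (.node [] (.node [] (.node [(69, (-1), 1)] .nil (.node [(197, 1, 1)] .nil .nil)) (.node [] (.node [(165, 1, 1)] .nil .nil) (.node [(229, 1, 1)] .nil .nil))) (.node [(53, (-1), 1)] (.node [] .nil (.node [(213, 1, 1)] .nil .nil)) .nil)) (.node [] (.node [] (.node [] (.node [(141,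 1, 1)] .nil .nil) .nil) (.node [(109, (-1), 1)] .nil .nil)) .nil))) (.node [(129, (-2), 1)] (.node [] (.node [] .nil (.node [] (.node [] (.node [(147, 1, 1)] .nil .nil) .nil) (.node [(115, (-1), 1)] .nil .nil))) (.node [(27, (-1), 1)] (.node [(43, (-1), 1)] (.node [] .nil (.node [(203, 1, 1)] .nil .nil)) .nil) (.node [(59, (-1), 1)] (.node [(91, (-1), 1)] .nil .nil) (.node [] (.node [(187, 1, 1)] .nil .nil) .nil)))) (.node [] (.node [] (.node [(39, (-1), 1)] .nil (.node [(103, (-1), 1)] .nil .nil)) (.node [(55, (-1), 1)] (.node [(87, (-1), 1)] .nil .nil) .nil)) (.node [] (.node [] (.node [] .nil (.node [(207, 1, 1)] .nil .nil)) (.node [] (.node [(175, 1, 1)] .nil .nil) .nil)) (.node [] .nil (.node [(6, 1, 1), (129, (-1), 2)] (.node [(191, 1, 1)] .nil .nil) .nil)))))))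
def X122 : Tr (List (ℕ × ℤ × ℕ)) := (.node [] (.node [] (.node [] (.node [(130, (-1), 1)] (.node [] (.node [(33, 1, 1)] (.node [] (.node [(129, (-1), 1)] .nil .nil) .nil) .nil) (.node [] (.node [(81, (-1), 1)] .nil .nil) .nil)) (.node [] (.node [] (.node [] (.node [(137, 1, 1)] .nil .nil) (.node [(201, (-1), 1)] .nil .nil)) (.node [] (.node [(169, (-1), 1)] .nil .nil) .nil)) (.node [] (.node [] .nil (.node [(217, (-1), 1)] .nil .nil)) (.node [] (.node [(185, 1, 1)] .nil .nil) .nil)))) (.node [] (.node [(21, 1, 1)] (.node [(37, 1, 1)] (.node [(69, (-1), 1)] (.node [(133, 1, 1)] .nil .nil) .nil) (.node [] .nil (.node [(229, (-1), 1)] .nil .nil))) (.node [(53, (-1), 1)] .nil (.node [] (.node [(181, 1, 1)] .nil .nil) .nil))) (.node [] (.node [] .nil (.node [(109, (-1), 1)] .nil .nil)) .nil))) (.node [(130, 1, 1)] (.node [] (.node [] (.node [] (.node [] .nil (.node [(195, 1, 1)] .nil .nil)) (.node [] (.node [(163, 1, 1)] .nil .nil) .nil))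 (.node [] .nil (.node [(115, (-1), 1)] .nil .nil))) (.node [] (.node [(43, (-1), 1)] .nil .nil) (.node [(59, (-1), 1)] (.node [(91, (-1), 1)] .nil .nil) .nil))) (.node [] (.node [] (.node [] .nil (.node [(103, (-1), 1)] .nil .nil)) (.node [] .nil (.node [] .nil (.node [(247, 1, 1)] .nil .nil)))) (.node [] (.node [(47, 1, 1)] (.node [] .nil (.node [(207, (-1), 1)] .nil .nil)) .nil) (.node [] (.node [] (.node [(159, 1, 1)] .nil .nil) .nil) (.node [(6, 1, 1), (7, 1, 1), (130, (-1), 2)] (.node [(191, (-1), 1)] .nil .nil) .nil)))))) (.node [] (.node [] (.node [(10, (-1), 1)] (.node [] (.node [] (.node [(66, 1, 1)] .nil .nil) (.node [(98, (-1), 1)] .nil .nil)) (.node [(50, 1, 1)] (.node [] .nil (.node [(210, (-1), 1)] .nil .nil)) .nil)) (.node [] .nil (.node [] (.node [] (.node [(154, 1, 1)] .nil .nil) .nil) .nil))) (.node [] (.node [] (.node [] (.node [] .nil (.node [(198, 1, 1)] .nil .nil)) (.node [] (.node [(166, 1, 1)] .nil .nil) .nil))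 (.node [] (.node [] .nil (.node [(214, 1, 1)] .nil .nil)) .nil)) (.node [] (.node [] (.node [] (.node [(142, 1, 1)] .nil .nil) .nil) .nil) (.node [(62, (-1), 1)] (.node [(94, (-1), 1)] .nil .nil) .nil)))) (.node [(130, (-1), 1)] (.node [] (.node [] .nil (.node [] (.node [] (.node [(148, 1, 1)] .nil .nil) .nil) .nil)) (.node [(28, 1, 1)] (.node [] (.node [(76, (-1), 1)] .nil (.node [(204, 1, 1)] .nil .nil)) (.node [] .nil (.node [(236, (-1), 1)] .nil .nil))) (.node [] (.node [] .nil (.node [(220, (-1), 1)] .nil .nil)) (.node [(124, (-1), 1)] (.node [(188, 1, 1)] .nil .nil) .nil)))) (.node [] (.node [] (.node [(40, 1, 1)] (.node [(72, (-1), 1)] .nil .nil) .nil) (.node [(56, 1, 1)] (.node [(88, 1, 1)] .nil .nil) (.node [(120, (-1), 1)] .nil .nil))) (.node [] (.node [] .nil (.node [] (.node [(176, 1, 1)] .nil .nil) .nil)) (.node [] (.node [] .nil (.node [(224, (-1), 1)] .nil .nil)) (.node [(128, 1, 1)] .nil .nil)))))))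
def X123 : Tr (List (ℕ × ℤ × ℕ)) := (.node [] (.node [] (.node [] (.node [] .nil (.node [] (.node [(41, (-1), 1)] .nil (.node [(104, (-1), 1)] .nil .nil)) (.node [(57, (-1), 1)] (.node [(89, (-1), 1)] (.node [(152, 1, 1)] .nil .nil) .nil) .nil))) (.node [] (.node [] .nil (.node [] .nil (.node [(116, (-1), 1)] .nil .nil))) (.node [] (.node [] (.node [] (.node [(140, 1, 1)] .nil .nil) (.node [(205, 1, 1)] .nil .nil)) .nil) (.node [] .nil (.node [(126, 1, 1)] (.node [(189, 1, 1)] .nil .nil) .nil))))) (.node [(131, (-2), 1)] (.node [] (.node [] (.node [] (.node [(67, (-1), 1)] (.node [(132, (-1), 1)] .nil .nil) .nil) .nil) (.node [(51, (-1), 1)] (.node [(82, (-1), 1)] (.node [(146, 1, 1)] .nil .nil) .nil) .nil)) (.node [(26, (-1), 1)] .nil .nil)) (.node [] (.node [] (.node [] (.node [] .nil (.node [(199, 1, 1)] .nil .nil)) (.node [] (.node [(167, 1, 1)] .nil .nil) (.node [(230, 1, 1)] .nil .nil))) (.node [] (.node [] .nil (.node [(215, 1,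 1)] .nil .nil)) .nil)) (.node [] (.node [] .nil (.node [(110, (-1), 1)] (.node [(174, 1, 1)] .nil .nil) .nil)) .nil)))) (.node [] (.node [(131, 1, 1)] (.node [] (.node [] (.node [] (.node [] .nil (.node [(193, 1, 1)] .nil .nil)) (.node [] (.node [(161, 1, 1)] .nil .nil) (.node [(225, 1, 1)] .nil .nil))) .nil) (.node [] (.node [(42, (-1), 1)] (.node [(73, (-1), 1)] .nil .nil) .nil) (.node [(58, (-1), 1)] (.node [(90, (-1), 1)] .nil .nil) (.node [(121, (-1), 1)] .nil .nil)))) (.node [] (.node [] .nil (.node [] .nil (.node [] .nil (.node [(245, 1, 1)] .nil .nil)))) (.node [] (.node [(45, (-1), 1)] (.node [(77, (-1), 1)] .nil (.node [(206, 1, 1)] .nil .nil)) (.node [] .nil (.node [(237, 1, 1)] .nil .nil))) (.node [] (.node [] (.node [(157, 1, 1)] .nil .nil) (.node [(221, 1, 1)] .nil .nil)) (.node [(5, 1, 1), (131, (-1), 2)] (.node [(190, 1, 1)] .nil .nil) .nil))))) (.node [(131, 1, 1)] (.node [(11, (-1), 1)] (.node [(19, (-1), 1)] (.node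 [(35, (-1), 1)] (.node [(68, (-1), 1)] (.node [(133, (-1), 1)] .nil .nil) .nil) (.node [(99, (-1), 1)] .nil .nil)) (.node [(52, (-1), 1)] (.node [] .nil (.node [(211, 1, 1)] .nil .nil)) (.node [] (.node [(179, 1, 1)] .nil .nil) .nil))) (.node [] .nil (.node [] .nil (.node [(125, 1, 1)] .nil .nil)))) (.node [] (.node [] (.node [] (.node [] (.node [(135, 1, 1)] .nil .nil) (.node [(200, 1, 1)] .nil .nil)) (.node [] (.node [(168, 1, 1)] .nil .nil) .nil)) (.node [] (.node [] .nil (.node [(216, 1, 1)] .nil .nil)) (.node [] (.node [(183, 1, 1)] .nil .nil) .nil))) (.node [(31, (-1), 1)] .nil (.node [(63, (-1), 1)] (.node [(95, (-1), 1)] .nil .nil) .nil))))))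
def X124 : Tr (List (ℕ × ℤ × ℕ)) := (.node [] (.node [] (.node [] (.node [(132, 1, 1)] (.node [] (.node [] .nil (.node [] .nil (.node [(225, (-1), 1)] .nil .nil))) .nil) (.node [] (.node [] (.node [(73, (-1), 1)] .nil .nil) .nil) (.node [] (.node [] (.node [(153, 1, 1)] .nil .nil) .nil) (.node [(121, (-1), 1)] .nil .nil)))) (.node [] .nil (.node [] (.node [] (.node [(77, (-1), 1)] (.node [(141, 1, 1)] .nil .nil) .nil) (.node [] .nil (.node [(237, (-1), 1)] .nil .nil))) (.node [] (.node [] .nil (.node [(221, (-1), 1)] .nil .nil)) (.node [(5, 1, 1), (6, 1, 1), (132, (-1), 2)] .nil .nil))))) (.node [(132, (-1), 1)] (.node [(11, (-1), 1)] (.node [] (.node [] .nil (.node [(99, (-1), 1)] .nil .nil)) (.node [] (.node [] (.node [(147, 1, 1)] .nil .nil) (.node [(211, (-1), 1)] .nil .nil)) .nil)) (.node [(27, 1, 1)] .nil .nil)) (.node [] .nil (.node [] (.node [] .nil (.node [] (.node [(175, 1, 1)] .nil .nil) .nil)) (.node [(63, (-1), 1)] (.node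 [(95, (-1), 1)] .nil .nil) .nil))))) (.node [] (.node [(132, 1, 1)] (.node [] (.node [] (.node [] (.node [(67, (-1), 1)] (.node [(133, (-1), 1)] .nil .nil) (.node [(194, 1, 1)] .nil .nil)) (.node [] (.node [(162, 1, 1)] .nil .nil) .nil)) (.node [(51, (-1), 1)] (.node [(82, (-1), 1)] .nil .nil) .nil)) (.node [] (.node [(43, 1, 1)] .nil .nil) (.node [(59, 1, 1)] (.node [(91, 1, 1)] .nil .nil) .nil))) (.node [] (.node [] (.node [] (.node [] .nil (.node [(199, (-1), 1)] .nil .nil)) (.node [] (.node [(167, (-1), 1)] .nil .nil) (.node [(230, (-1), 1)] .nil .nil))) (.node [] (.node [] .nil (.node [(215, (-1), 1)] .nil .nil)) (.node [] .nil (.node [(246, 1, 1)] .nil .nil)))) (.node [] (.node [(46, 1, 1)] (.node [] .nil (.node [(207, 1, 1)] .nil .nil)) (.node [(110, (-1), 1)] .nil .nil)) (.node [] (.node [] (.node [(158, 1, 1)] .nil .nil) .nil) (.node [(129, 1, 1)] (.node [(191, 1, 1)] .nil .nil) .nil))))) (.node [(132, (-1), 1)] (.node [] (.node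 [(20, 1, 1)] (.node [(36, 1, 1)] (.node [(69, 1, 1)] .nil .nil) .nil) (.node [(53, 1, 1)] .nil (.node [(116, (-1), 1)] (.node [(180, 1, 1)] .nil .nil) .nil))) (.node [] (.node [] (.node [] .nil (.node [(205, (-1), 1)] .nil .nil)) .nil) (.node [] .nil (.node [(127, 1, 1)] (.node [(189, (-1), 1)] .nil .nil) .nil)))) (.node [] (.node [] (.node [(41, (-1), 1)] (.node [] (.node [(136, 1, 1)] .nil .nil) (.node [(201, 1, 1)] .nil .nil)) (.node [(104, (-1), 1)] (.node [(169, 1, 1)] .nil .nil) .nil)) (.node [(57, (-1), 1)] (.node [(89, (-1), 1)] .nil (.node [(217, 1, 1)] .nil .nil)) (.node [] (.node [(184, 1, 1)] .nil .nil) .nil))) (.node [(32, 1, 1)] .nil (.node [] .nil (.node [(131, (-1), 1)] .nil .nil)))))))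
def X125 : Tr (List (ℕ × ℤ × ℕ)) := (.node [] (.node [] (.node [] (.node [(133, (-1), 1)] (.node [] (.node [] (.node [] (.node [(132, (-1), 1)] .nil .nil) .nil) .nil) (.node [] (.node [(82, (-1), 1)] .nil .nil) .nil)) (.node [] (.node [(43, 1, 1)] .nil .nil) (.node [(59, 1, 1)] (.node [(91, 1, 1)] (.node [(154, 1, 1)] .nil .nil) .nil) .nil))) (.node [] (.node [] (.node [] .nil (.node [] .nil (.node [(230, 1, 1)] .nil .nil))) .nil) (.node [] (.node [] (.node [] (.node [(142, 1, 1)] .nil .nil) (.node [(207, (-1), 1)] .nil .nil)) (.node [(110, (-1), 1)] .nil .nil)) (.node [] .nil (.node [(128, 1, 1)] (.node [(191, (-1), 1)] .nil .nil) .nil))))) (.node [(133, (-1), 1)] (.node [] (.node [] (.node [] (.node [(69, 1, 1)] .nil .nil) .nil) (.node [(53, 1, 1)] (.node [] (.node [(148, 1, 1)] .nil .nil) .nil) (.node [(116, (-1), 1)] .nil .nil))) (.node [(28, (-1), 1)] .nil .nil)) (.node [] (.node [] (.node [] (.node [] .nil (.node [(201, (-1), 1)]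 .nil .nil)) (.node [(104, (-1), 1)] (.node [(169, (-1), 1)] .nil .nil) .nil)) (.node [] (.node [] .nil (.node [(217, (-1), 1)] .nil .nil)) .nil)) (.node [] (.node [] .nil (.node [] (.node [(176, 1, 1)] .nil .nil) .nil)) (.node [] .nil (.node [(131, (-1), 1)] .nil .nil)))))) (.node [] (.node [(133, 1, 1)] (.node [(11, (-1), 1)] (.node [] (.node [] (.node [(68, 1, 1)] .nil (.node [(195, 1, 1)] .nil .nil)) (.node [(99, (-1), 1)] (.node [(163, 1, 1)] .nil .nil) .nil)) (.node [(52, 1, 1)] (.node [] .nil (.node [(211, 1, 1)] .nil .nil)) .nil)) .nil) (.node [] (.node [] (.node [] (.node [] .nil (.node [(200, (-1), 1)] .nil .nil)) (.node [] (.node [(168, (-1), 1)] .nil .nil) .nil)) (.node [] (.node [] .nil (.node [(216, (-1), 1)] .nil .nil)) (.node [] .nil (.node [(247, 1, 1)] .nil .nil)))) (.node [] (.node [(47, (-1), 1)] .nil .nil) (.node [(63, (-1), 1)] (.node [(95, (-1), 1)] (.node [(159, 1, 1)] .nil .nil) .nil) (.node [(130, 1, 1)] .nil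 .nil))))) (.node [] (.node [] (.node [(21, (-1), 1)] (.node [(37, (-1), 1)] .nil .nil) (.node [] .nil (.node [] (.node [(181, 1, 1)] .nil .nil) .nil))) (.node [] (.node [] (.node [(77, (-1), 1)] .nil (.node [(206, (-1), 1)] .nil .nil)) (.node [] .nil (.node [(237, 1, 1)] .nil .nil))) (.node [] (.node [] .nil (.node [(221, 1, 1)] .nil .nil)) (.node [(5, 1, 1), (6, 1, 1), (7, 1, 1), (133, (-1), 2)] (.node [(190, (-1), 1)] .nil .nil) .nil)))) (.node [] (.node [] (.node [(42, 1, 1)] (.node [(73, (-1), 1)] (.node [(137, 1, 1)] .nil .nil) .nil) .nil) (.node [(58, 1, 1)] (.node [(90, 1, 1)] .nil .nil) (.node [(121, (-1), 1)] (.node [(185, 1, 1)] .nil .nil) .nil))) (.node [(33, (-1), 1)] .nil (.node [] (.node [] .nil (.node [(225, 1, 1)] .nil .nil)) .nil))))))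
def X126 : Tr (List (ℕ × ℤ × ℕ)) := (.node [] (.node [] (.node [(134, 1, 1)] (.node [] (.node [] .nil (.node [(50, (-1), 1)] (.node [] .nil (.node [(210, 1, 1)] .nil .nil)) .nil)) (.node [] .nil (.node [] (.node [] .nil (.node [(218, 1, 1)] .nil .nil)) (.node [(123, 1, 1)] (.node [(186, 1, 1)] .nil .nil) .nil)))) (.node [(12, (-1), 1)] (.node [] (.node [(38, (-1), 1)] (.node [(70, (-1), 1)] (.node [(135, (-1), 1)] .nil .nil) (.node [(198, 1, 1)] .nil .nil)) (.node [(100, (-1), 1)] (.node [(166, 1, 1)] .nil .nil) .nil)) (.node [] .nil (.node [] .nil (.node [(244, 1, 1)] .nil .nil)))) (.node [] .nil (.node [(62, (-1), 1)] (.node [(94, (-1), 1)] (.node [(156, 1, 1)] .nil .nil) .nil) .nil)))) (.node [(134, 1, 1)] (.node [] (.node [(18, (-1), 1)] (.node [] (.node [] .nil (.node [(196, 1, 1)] .nil .nil)) (.node [] (.node [(164, 1, 1)] .nil .nil) (.node [(226, 1, 1)] .nil .nil))) (.node [] .nil (.node [] (.node [(178, 1, 1)] .nil .nil) .nil)))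 (.node [] .nil (.node [(60, (-1), 1)] (.node [(92, (-1), 1)] .nil (.node [(220, 1, 1)] .nil .nil)) (.node [(4, 1, 1), (134, (-1), 2)] (.node [(188, 1, 1)] .nil .nil) .nil)))) (.node [] (.node [] (.node [(40, (-1), 1)] (.node [(72, (-1), 1)] (.node [(137, (-1), 1)] .nil .nil) .nil) .nil) .nil) (.node [(30, (-1), 1)] (.node [(48, (-1), 1)] (.node [(78, (-1), 1)] .nil (.node [(208, 1, 1)] .nil .nil)) (.node [] .nil (.node [(238, 1, 1)] .nil .nil))) .nil)))) (.node [] (.node [(134, (-2), 1)] (.node [] (.node [] .nil (.node [] (.node [] (.node [(145, 1, 1)] .nil .nil) .nil) .nil)) (.node [(25, (-1), 1)] (.node [] .nil (.node [(105, (-1), 1)] .nil .nil)) (.node [] (.node [] .nil (.node [(219, 1, 1)] .nil .nil)) (.node [(124, 1, 1)] (.node [(187, 1, 1)] .nil .nil) .nil)))) (.node [] (.node [] (.node [(39, (-1), 1)] (.node [(71, (-1), 1)] (.node [(136, (-1), 1)] .nil .nil) .nil) .nil) (.node [] .nil (.node [(117, (-1), 1)] .nil .nil))) (.node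 [] (.node [] .nil (.node [] (.node [(173, 1, 1)] .nil .nil) .nil)) .nil))) (.node [] (.node [] (.node [] (.node [] (.node [] .nil (.node [(197, 1, 1)] .nil .nil)) (.node [] (.node [(165, 1, 1)] .nil .nil) .nil)) (.node [] (.node [(83, (-1), 1)] .nil .nil) .nil)) (.node [] (.node [] (.node [] (.node [(139, 1, 1)] .nil .nil) .nil) .nil) (.node [(61, (-1), 1)] (.node [(93, (-1), 1)] .nil .nil) .nil))) (.node [] (.node [] (.node [] .nil (.node [] .nil (.node [(231, 1, 1)] .nil .nil))) (.node [] (.node [] (.node [(151, 1, 1)] .nil .nil) .nil) (.node [(122, 1, 1)] .nil .nil))) (.node [] (.node [(49, (-1), 1)] (.node [] .nil (.node [(209, 1, 1)] .nil .nil)) (.node [(111, (-1), 1)] .nil .nil)) .nil)))))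
def X127 : Tr (List (ℕ × ℤ × ℕ)) := (.node [] (.node [] (.node [(135, 1, 1)] (.node [] (.node [] .nil (.node [(52, 1, 1)] (.node [] .nil (.node [(211, 1, 1)] .nil .nil)) .nil)) (.node [] (.node [] .nil (.node [(105, (-1), 1)] .nil .nil)) (.node [(60, (-1), 1)] (.node [(92, (-1), 1)] .nil .nil) (.node [(126, 1, 1)] .nil .nil)))) (.node [] (.node [] (.node [] (.node [] .nil (.node [(200, 1, 1)] .nil .nil)) (.node [] (.node [(168, 1, 1)] .nil .nil) .nil)) (.node [] .nil (.node [(117, (-1), 1)] .nil (.node [(245, 1, 1)] .nil .nil)))) (.node [] (.node [] (.node [] .nil (.node [(208, (-1), 1)] .nil .nil)) .nil) (.node [(63, 1, 1)] (.node [(95, 1, 1)] (.node [(157, 1, 1)] .nil .nil) .nil) .nil)))) (.node [(135, (-1), 1)] (.node [] (.node [(19, 1, 1)] (.node [] (.node [(70, (-1), 1)] (.node [(136, (-1), 1)] .nil .nil) .nil) .nil) (.node [] (.node [(83, (-1), 1)] .nil .nil) (.node [] (.node [(179, 1, 1)] .nil .nil) .nil))) (.node [] .nil (.node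 [] (.node [] .nil (.node [(221, 1, 1)] .nil .nil)) (.node [(131, 1, 1)] (.node [(190, 1, 1)] .nil .nil) .nil)))) (.node [] (.node [] (.node [(42, 1, 1)] (.node [(73, 1, 1)] .nil .nil) (.node [] .nil (.node [(231, (-1), 1)] .nil .nil))) (.node [] (.node [] .nil (.node [(218, (-1), 1)] .nil .nil)) .nil)) (.node [(31, 1, 1)] (.node [] .nil (.node [(111, (-1), 1)] .nil .nil)) .nil)))) (.node [] (.node [(135, (-1), 1)] (.node [] (.node [] (.node [] (.node [] .nil (.node [(196, (-1), 1)] .nil .nil)) (.node [] (.node [(164, (-1), 1)] .nil .nil) (.node [(226, (-1), 1)] .nil .nil))) (.node [] (.node [] (.node [(146, 1, 1)] .nil .nil) .nil) .nil)) (.node [(26, 1, 1)] .nil (.node [(61, (-1), 1)] (.node [(93, (-1), 1)] .nil .nil) (.node [(4, 1, 1), (5, 1, 1), (135, (-1), 2)] (.node [(189, 1, 1)] .nil .nil) .nil)))) (.node [] (.node [] (.node [(41, 1, 1)] .nil .nil) .nil) (.node [] (.node [(48, (-1), 1)] (.node [(78, (-1), 1)] .nil (.node [(209, (-1),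 1)] .nil .nil)) (.node [] (.node [(174, 1, 1)] .nil .nil) (.node [(238, (-1), 1)] .nil .nil))) (.node [] .nil (.node [(134, (-1), 1)] .nil .nil))))) (.node [(135, 1, 1)] (.node [(12, (-1), 1)] (.node [] (.node [(38, (-1), 1)] (.node [(71, (-1), 1)] (.node [(137, (-1), 1)] .nil .nil) (.node [(199, 1, 1)] .nil .nil)) (.node [(100, (-1), 1)] (.node [(167, 1, 1)] .nil .nil) .nil)) .nil) (.node [] (.node [] (.node [] (.node [(140, 1, 1)] .nil .nil) .nil) .nil) .nil)) (.node [] (.node [] .nil (.node [] (.node [] (.node [(152, 1, 1)] .nil .nil) (.node [(219, (-1), 1)] .nil .nil)) (.node [(125, 1, 1)] (.node [(186, (-1), 1)] .nil .nil) .nil))) (.node [] (.node [(51, 1, 1)] .nil .nil) .nil)))))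
def X128 : Tr (List (ℕ × ℤ × ℕ)) := (.node [] (.node [] (.node [(136, 1, 1)] (.node [(136, 1, 1)] (.node [] (.node [] .nil (.node [] .nil (.node [(226, 1, 1)] .nil .nil))) (.node [(53, (-1), 1)] .nil .nil)) (.node [] .nil (.node [] .nil (.node [(4, 1, 1), (5, 1, 1), (6, 1, 1), (136, (-1), 2)] (.node [(189, (-1), 1)] .nil .nil) .nil)))) (.node [] (.node [] (.node [(41, 1, 1)] (.node [] .nil (.node [(201, 1, 1)] .nil .nil)) (.node [] (.node [(169, 1, 1)] .nil .nil) .nil)) (.node [] .nil (.node [] .nil (.node [(246, 1, 1)] .nil .nil)))) (.node [] (.node [] (.node [(78, (-1), 1)] .nil .nil) (.node [] .nil (.node [(238, 1, 1)] .nil .nil))) (.node [] (.node [] (.node [(158, 1, 1)] .nil .nil) .nil) (.node [(134, (-1), 1)] .nil .nil))))) (.node [] (.node [(12, (-1), 1)] (.node [(20, (-1), 1)] (.node [] (.node [] .nil (.node [(199, (-1), 1)] .nil .nil)) (.node [(100, (-1), 1)] (.node [(167, (-1), 1)] .nil .nil) .nil)) (.node [] .nil (.node []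 (.node [(180, 1, 1)] .nil .nil) .nil))) (.node [] .nil (.node [] .nil (.node [(132, 1, 1)] (.node [(191, 1, 1)] .nil .nil) .nil)))) (.node [] (.node [] (.node [(43, (-1), 1)] .nil .nil) .nil) (.node [(32, (-1), 1)] (.node [(51, 1, 1)] .nil .nil) .nil)))) (.node [] (.node [(136, (-1), 1)] (.node [] (.node [] (.node [] (.node [(70, (-1), 1)] (.node [(137, (-1), 1)] .nil .nil) (.node [(197, (-1), 1)] .nil .nil)) (.node [] (.node [(165, (-1), 1)] .nil .nil) .nil)) (.node [] (.node [(83, (-1), 1)] (.node [(147, 1, 1)] .nil .nil) .nil) .nil)) (.node [(27, (-1), 1)] .nil (.node [(62, 1, 1)] (.node [(94, 1, 1)] .nil (.node [(221, (-1), 1)] .nil .nil)) (.node [(129, 1, 1)] .nil .nil)))) (.node [] (.node [] (.node [] (.node [(73, 1, 1)] .nil .nil) (.node [] .nil (.node [(231, 1, 1)] .nil .nil))) (.node [] (.node [] .nil (.node [(218, 1, 1)] .nil .nil)) .nil)) (.node [] (.node [(49, 1, 1)] (.node [] .nil (.node [(210, (-1), 1)] .nil .nil)) (.node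 [(111, (-1), 1)] (.node [(175, 1, 1)] .nil .nil) .nil)) .nil))) (.node [(136, (-1), 1)] (.node [] (.node [] (.node [(39, 1, 1)] (.node [(72, 1, 1)] .nil .nil) .nil) (.node [] .nil (.node [(117, (-1), 1)] .nil .nil))) (.node [] (.node [] (.node [] (.node [(141, 1, 1)] .nil .nil) (.node [(208, 1, 1)] .nil .nil)) .nil) (.node [(63, 1, 1)] (.node [(95, 1, 1)] .nil .nil) .nil))) (.node [] (.node [] (.node [] .nil (.node [(105, (-1), 1)] .nil .nil)) (.node [(60, (-1), 1)] (.node [(92, (-1), 1)] (.node [(153, 1, 1)] .nil .nil) (.node [(220, (-1), 1)] .nil .nil)) (.node [(127, 1, 1)] (.node [(187, (-1), 1)] .nil .nil) .nil))) (.node [] (.node [] (.node [] .nil (.node [(211, (-1), 1)] .nil .nil)) .nil) (.node [] .nil (.node [(135, (-1), 1)] .nil .nil)))))))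
def X129 : Tr (List (ℕ × ℤ × ℕ)) := (.node [] (.node [] (.node [(137, 1, 1)] (.node [(137, (-1), 1)] (.node [] (.node [] (.node [] (.node [(136, (-1), 1)] .nil .nil) .nil) .nil) (.node [] (.node [(83, (-1), 1)] .nil .nil) .nil)) (.node [] .nil (.node [(62, 1, 1)] (.node [(94, 1, 1)] .nil (.node [(221, 1, 1)] .nil .nil)) (.node [(128, 1, 1)] (.node [(190, (-1), 1)] .nil .nil) .nil)))) (.node [] (.node [] (.node [(42, (-1), 1)] (.node [(73, 1, 1)] .nil .nil) (.node [] .nil (.node [(231, (-1), 1)] .nil .nil))) (.node [] .nil (.node [] .nil (.node [(247, 1, 1)] .nil .nil)))) (.node [] (.node [] (.node [] .nil (.node [(210, 1, 1)] .nil .nil)) (.node [(111, (-1), 1)] .nil .nil)) (.node [] (.node [] (.node [(159, 1, 1)] .nil .nil) .nil) .nil)))) (.node [] (.node [] (.node [(21, 1, 1)] (.node [] (.node [(72, 1, 1)] .nil (.node [(200, (-1), 1)] .nil .nil)) (.node [] (.node [(168, (-1), 1)] .nil .nil) .nil)) (.node [] .nil (.node [(117, (-1), 1)]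 (.node [(181, 1, 1)] .nil .nil) .nil))) (.node [] .nil (.node [(63, 1, 1)] (.node [(95, 1, 1)] .nil .nil) (.node [(133, 1, 1)] .nil .nil)))) (.node [] (.node [] (.node [] .nil (.node [(105, (-1), 1)] .nil .nil)) (.node [] (.node [] .nil (.node [(220, 1, 1)] .nil .nil)) .nil)) (.node [(33, 1, 1)] (.node [(52, (-1), 1)] (.node [] .nil (.node [(211, 1, 1)] .nil .nil)) .nil) (.node [] .nil (.node [(135, (-1), 1)] .nil .nil)))))) (.node [] (.node [(137, (-1), 1)] (.node [(12, (-1), 1)] (.node [] (.node [] (.node [(71, 1, 1)] .nil (.node [(198, (-1), 1)] .nil .nil)) (.node [(100, (-1), 1)] (.node [(166, (-1), 1)] .nil .nil) .nil)) (.node [] (.node [] (.node [(148, 1, 1)] .nil .nil) .nil) .nil)) (.node [(28, 1, 1)] .nil (.node [] .nil (.node [(130, 1, 1)] (.node [(191, (-1), 1)] .nil .nil) .nil)))) (.node [] (.node [] (.node [(43, (-1), 1)] .nil .nil) (.node [] (.node [] .nil (.node [(219, 1, 1)] .nil .nil)) .nil)) (.node [] (.node [(50, (-1),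 1)] .nil (.node [] (.node [(176, 1, 1)] .nil .nil) .nil)) .nil))) (.node [] (.node [] (.node [] (.node [(40, (-1), 1)] (.node [] .nil (.node [(201, (-1), 1)] .nil .nil)) (.node [] (.node [(169, (-1), 1)] .nil .nil) .nil)) .nil) (.node [] (.node [] (.node [(78, (-1), 1)] (.node [(142, 1, 1)] .nil .nil) (.node [(209, 1, 1)] .nil .nil)) (.node [] .nil (.node [(238, (-1), 1)] .nil .nil))) (.node [] .nil (.node [(134, (-1), 1)] .nil .nil)))) (.node [] (.node [] .nil (.node [(61, 1, 1)] (.node [(93, 1, 1)] (.node [(154, 1, 1)] .nil .nil) .nil) (.node [(4, 1, 1), (5, 1, 1), (6, 1, 1), (7, 1, 1), (137, (-1), 2)] (.node [(188, (-1), 1)] .nil .nil) .nil))) (.node [] (.node [(53, (-1), 1)] .nil .nil) (.node [] (.node [] .nil (.node [(226, (-1), 1)] .nil .nil)) .nil))))))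
def X130 : Tr (List (ℕ × ℤ × ℕ)) := (.node [] (.node [(138, 1, 1)] (.node [(138, (-2), 1)] (.node [] (.node [] (.node [(35, (-1), 1)] .nil (.node [(99, (-1), 1)] (.node [(163, 1, 1)] .nil .nil) .nil)) (.node [] (.node [] (.node [(144, 1, 1)] .nil .nil) .nil) (.node [(112, (-1), 1)] .nil .nil))) (.node [(24, (-1), 1)] (.node [] (.node [(75, (-1), 1)] (.node [(140, (-1), 1)] .nil .nil) (.node [(205, 1, 1)] .nil .nil)) (.node [] .nil (.node [(232, 1, 1)] .nil .nil))) .nil)) (.node [] (.node [] .nil (.node [(57, (-1), 1)] (.node [(84, (-1), 1)] .nil .nil) (.node [(120, 1, 1)] (.node [(183, 1, 1)] .nil .nil) .nil))) (.node [] (.node [] .nil (.node [] (.node [(172, 1, 1)] .nil .nil) .nil)) (.node [] (.node [] .nil (.node [(223, 1, 1)] .nil .nil)) .nil)))) (.node [] (.node [] (.node [] (.node [(37, (-1), 1)] .nil .nil) (.node [(55, (-1), 1)] .nil (.node [(118, 1, 1)] .nil .nil))) (.node [] (.node [] (.node [(77, (-1), 1)] (.node [(142, (-1),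 1)] .nil .nil) (.node [(207, 1, 1)] .nil .nil)) (.node [(106, (-1), 1)] .nil .nil)) .nil)) (.node [] (.node [] (.node [] (.node [] .nil (.node [(203, 1, 1)] .nil .nil)) .nil) (.node [(59, (-1), 1)] (.node [] (.node [(150, 1, 1)] .nil .nil) .nil) (.node [(3, 1, 1), (138, (-1), 2)] (.node [(185, 1, 1)] .nil .nil) .nil))) (.node [] .nil (.node [] (.node [(97, (-1), 1)] (.node [(161, 1, 1)] .nil .nil) (.node [(225, 1, 1)] .nil .nil)) .nil))))) (.node [(138, 1, 1)] (.node [(138, 1, 1)] (.node [] (.node [(17, (-1), 1)] (.node [(36, (-1), 1)] .nil .nil) (.node [(54, (-1), 1)] .nil .nil)) (.node [] (.node [] (.node [(76, (-1), 1)] (.node [(141, (-1), 1)] .nil .nil) (.node [(206, 1, 1)] .nil .nil)) .nil) .nil)) (.node [(13, (-1), 1)] (.node [] (.node [] (.node [] .nil (.node [(202, 1, 1)] .nil .nil)) .nil) (.node [(58, (-1), 1)] .nil (.node [(121, 1, 1)] (.node [(184, 1, 1)] .nil .nil) .nil))) (.node [] .nil (.node [] (.node [(96, (-1), 1)] (.node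 [(160, 1, 1)] .nil .nil) (.node [(224, 1, 1)] .nil .nil)) .nil)))) (.node [] (.node [] (.node [] .nil (.node [(56, (-1), 1)] .nil (.node [(119, 1, 1)] (.node [(182, 1, 1)] .nil .nil) (.node [(243, 1, 1)] .nil .nil)))) (.node [] .nil (.node [] (.node [] .nil (.node [(222, 1, 1)] .nil .nil)) .nil))) (.node [] (.node [] (.node [] (.node [(74, (-1), 1)] (.node [(139, (-1), 1)] .nil .nil) (.node [(204, 1, 1)] .nil .nil)) .nil) .nil) (.node [(34, (-1), 1)] (.node [] .nil (.node [] .nil (.node [(239, 1, 1)] .nil .nil))) (.node [] (.node [(98, (-1), 1)] (.node [(162, 1, 1)] .nil .nil) .nil) .nil))))))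
def X131 : Tr (List (ℕ × ℤ × ℕ)) := (.node [] (.node [(139, 1, 1)] (.node [(139, (-1), 1)] (.node [] (.node [] (.node [(38, 1, 1)] .nil (.node [(100, 1, 1)] (.node [(166, 1, 1)] .nil .nil) .nil)) (.node [(56, (-1), 1)] (.node [] (.node [(145, 1, 1)] .nil .nil) .nil) .nil)) (.node [(25, 1, 1)] (.node [] (.node [] .nil (.node [(208, 1, 1)] .nil .nil)) .nil) (.node [] (.node [] .nil (.node [(222, (-1), 1)] .nil .nil)) .nil))) (.node [(13, (-1), 1)] (.node [] (.node [] (.node [(74, (-1), 1)] (.node [(140, (-1), 1)] .nil .nil) (.node [(204, (-1), 1)] .nil .nil)) .nil) (.node [(60, 1, 1)] .nil (.node [(124, 1, 1)] (.node [(186, 1, 1)] .nil .nil) .nil))) (.node [] (.node [] .nil (.node [] (.node [(173, 1, 1)] .nil .nil) .nil)) (.node [] (.node [(98, (-1), 1)] (.node [(160, (-1), 1)] .nil .nil) .nil) .nil)))) (.node [(139, 1, 1)] (.node [] (.node [] (.node [(40, 1, 1)] (.node [] .nil (.node [(202, (-1), 1)] .nil .nil)) .nil) (.node [] .nil (.node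 [(122, 1, 1)] (.node [(182, (-1), 1)] .nil .nil) .nil))) (.node [] (.node [] (.node [(78, 1, 1)] .nil (.node [(210, 1, 1)] .nil .nil)) .nil) (.node [] (.node [(96, (-1), 1)] .nil (.node [(224, (-1), 1)] .nil .nil)) (.node [(138, (-1), 1)] .nil .nil)))) (.node [] (.node [] (.node [] (.node [(76, (-1), 1)] (.node [(142, (-1), 1)] .nil .nil) .nil) .nil) (.node [(62, 1, 1)] (.node [] (.node [(151, 1, 1)] .nil .nil) .nil) (.node [(134, 1, 1)] (.node [(188, 1, 1)] .nil .nil) .nil))) (.node [(34, (-1), 1)] (.node [(54, (-1), 1)] .nil (.node [] .nil (.node [(239, (-1), 1)] .nil .nil))) (.node [] (.node [] (.node [(164, 1, 1)] .nil .nil) (.node [(226, 1, 1)] .nil .nil)) .nil))))) (.node [(139, 1, 1)] (.node [(139, (-1), 1)] (.node [] (.node [(18, 1, 1)] (.node [(39, 1, 1)] .nil .nil) .nil) (.node [] (.node [] (.node [] .nil (.node [(209, 1, 1)] .nil .nil)) (.node [(106, (-1), 1)] .nil .nil)) (.node [] (.node [] .nil (.node [(223, (-1), 1)] .nil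 .nil)) .nil))) (.node [] (.node [] (.node [] (.node [(75, (-1), 1)] (.node [(141, (-1), 1)] .nil .nil) .nil) .nil) (.node [(61, 1, 1)] .nil (.node [(3, 1, 1), (4, 1, 1), (139, (-1), 2)] (.node [(187, 1, 1)] .nil .nil) .nil))) .nil)) (.node [] (.node [] (.node [] (.node [] (.node [] .nil (.node [(203, (-1), 1)] .nil .nil)) .nil) (.node [] (.node [(84, (-1), 1)] .nil .nil) (.node [(123, 1, 1)] .nil (.node [(244, 1, 1)] .nil .nil)))) (.node [] .nil (.node [] (.node [(97, (-1), 1)] .nil .nil) .nil))) (.node [] (.node [] (.node [] .nil (.node [] .nil (.node [(232, (-1), 1)] .nil .nil))) .nil) (.node [] (.node [(55, (-1), 1)] .nil (.node [(112, (-1), 1)] .nil .nil)) (.node [] (.node [] (.node [(165, 1, 1)] .nil .nil) .nil) .nil))))))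
def X132 : Tr (List (ℕ × ℤ × ℕ)) := (.node [] (.node [(140, 1, 1)] (.node [(140, (-1), 1)] (.node [] (.node [] (.node [] .nil (.node [] (.node [(168, 1, 1)] .nil .nil) .nil)) (.node [(58, 1, 1)] (.node [] (.node [(146, 1, 1)] .nil .nil) .nil) .nil)) (.node [(26, (-1), 1)] (.node [] .nil (.node [(106, (-1), 1)] .nil .nil)) (.node [] (.node [(96, (-1), 1)] .nil .nil) .nil))) (.node [] (.node [] (.node [] (.node [] .nil (.node [(206, (-1), 1)] .nil .nil)) .nil) (.node [] .nil (.node [(3, 1, 1), (4, 1, 1), (5, 1, 1), (140, (-1), 2)] .nil .nil))) (.node [] (.node [] .nil (.node [] (.node [(174, 1, 1)] .nil .nil) .nil)) (.node [] (.node [(99, 1, 1)] (.node [(161, (-1), 1)] .nil .nil) .nil) .nil)))) (.node [(140, (-1), 1)] (.node [] (.node [] (.node [(42, (-1), 1)] (.node [(74, (-1), 1)] (.node [(141, (-1), 1)] .nil .nil) .nil) .nil) (.node [(60, 1, 1)] (.node [(84, (-1), 1)] .nil .nil) (.node [(125, 1, 1)] (.node [(183, (-1), 1)] .nil .nil)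 .nil))) (.node [] (.node [] (.node [] .nil (.node [(211, 1, 1)] .nil .nil)) .nil) (.node [] (.node [] .nil (.node [(225, (-1), 1)] .nil .nil)) .nil))) (.node [] (.node [] (.node [] (.node [(77, 1, 1)] .nil (.node [(208, (-1), 1)] .nil .nil)) (.node [] .nil (.node [(232, 1, 1)] .nil .nil))) (.node [(63, (-1), 1)] (.node [] (.node [(152, 1, 1)] .nil .nil) (.node [(222, 1, 1)] .nil .nil)) (.node [(135, 1, 1)] (.node [(190, 1, 1)] .nil .nil) .nil))) (.node [(35, 1, 1)] (.node [] .nil (.node [(112, (-1), 1)] .nil .nil)) .nil)))) (.node [(140, 1, 1)] (.node [] (.node [] (.node [(19, (-1), 1)] (.node [(41, (-1), 1)] (.node [] .nil (.node [(202, 1, 1)] .nil .nil)) .nil) .nil) (.node [] (.node [] (.node [(78, 1, 1)] .nil .nil) .nil) (.node [] (.node [(97, (-1), 1)] .nil .nil) (.node [(138, (-1), 1)] .nil .nil)))) (.node [] (.node [] .nil (.node [] .nil (.node [(131, 1, 1)] (.node [(189, 1, 1)] .nil .nil) .nil))) (.node [] (.node [(54, (-1), 1)]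 .nil (.node [] .nil (.node [(239, 1, 1)] .nil .nil))) (.node [] (.node [] (.node [(164, (-1), 1)] .nil .nil) (.node [(226, (-1), 1)] .nil .nil)) (.node [(139, (-1), 1)] .nil .nil))))) (.node [(140, 1, 1)] (.node [(13, (-1), 1)] (.node [] (.node [] (.node [(75, (-1), 1)] (.node [(142, (-1), 1)] .nil .nil) (.node [(205, (-1), 1)] .nil .nil)) .nil) (.node [(61, 1, 1)] .nil (.node [(126, 1, 1)] (.node [(186, (-1), 1)] .nil .nil) (.node [(245, 1, 1)] .nil .nil)))) .nil) (.node [] (.node [] (.node [] (.node [] .nil (.node [(209, (-1), 1)] .nil .nil)) .nil) (.node [] (.node [] .nil (.node [(223, 1, 1)] .nil .nil)) .nil)) (.node [(38, 1, 1)] (.node [(57, 1, 1)] .nil .nil) (.node [] (.node [(100, 1, 1)] (.node [(167, 1, 1)] .nil .nil) .nil) .nil))))))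
def X133 : Tr (List (ℕ × ℤ × ℕ)) := (.node [] (.node [(141, 1, 1)] (.node [(141, (-1), 1)] (.node [(141, 1, 1)] (.node [] (.node [(41, (-1), 1)] .nil (.node [] (.node [(169, 1, 1)] .nil .nil) .nil)) (.node [(59, (-1), 1)] (.node [] (.node [(147, 1, 1)] .nil .nil) .nil) .nil)) (.node [(27, 1, 1)] (.node [] (.node [(78, 1, 1)] .nil .nil) .nil) (.node [] .nil (.node [(138, (-1), 1)] .nil .nil)))) (.node [] (.node [] (.node [] (.node [] .nil (.node [(207, (-1), 1)] .nil .nil)) .nil) (.node [] .nil (.node [(129, 1, 1)] (.node [(189, (-1), 1)] .nil .nil) .nil))) (.node [] (.node [] .nil (.node [] (.node [(175, 1, 1)] .nil .nil) (.node [(239, (-1), 1)] .nil .nil))) (.node [] (.node [] (.node [(162, (-1), 1)] .nil .nil) (.node [(226, 1, 1)] .nil .nil)) (.node [(139, (-1), 1)] .nil .nil))))) (.node [] (.node [(13, (-1), 1)] (.node [] (.node [(43, 1, 1)] (.node [] .nil (.node [(205, 1, 1)] .nil .nil)) .nil) (.node [] .nil (.node [(127, 1, 1)] (.node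 [(184, (-1), 1)] .nil .nil) .nil))) .nil) (.node [] (.node [] .nil (.node [] (.node [] (.node [(153, 1, 1)] .nil .nil) .nil) (.node [(136, 1, 1)] (.node [(191, 1, 1)] .nil .nil) .nil))) (.node [(36, (-1), 1)] (.node [(57, 1, 1)] .nil .nil) (.node [] (.node [(100, 1, 1)] (.node [(167, (-1), 1)] .nil .nil) .nil) .nil))))) (.node [(141, 1, 1)] (.node [] (.node [] (.node [(20, 1, 1)] (.node [] (.node [(74, (-1), 1)] (.node [(142, (-1), 1)] .nil .nil) (.node [(203, 1, 1)] .nil .nil)) .nil) (.node [(60, 1, 1)] (.node [(84, (-1), 1)] .nil .nil) .nil)) (.node [] (.node [] (.node [] .nil (.node [(211, (-1), 1)] .nil .nil)) .nil) (.node [] (.node [(98, 1, 1)] .nil (.node [(225, 1, 1)] .nil .nil)) .nil))) (.node [] (.node [] (.node [] (.node [(77, 1, 1)] .nil (.node [(208, 1, 1)] .nil .nil)) (.node [] .nil (.node [(232, (-1), 1)] .nil .nil))) (.node [(63, (-1), 1)] (.node [] .nil (.node [(222, (-1), 1)] .nil .nil)) (.node [(132, 1, 1)] .nil .nil)))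 (.node [] (.node [(55, 1, 1)] .nil (.node [(112, (-1), 1)] .nil .nil)) (.node [] (.node [] (.node [(165, (-1), 1)] .nil .nil) .nil) .nil)))) (.node [(141, (-1), 1)] (.node [] (.node [] (.node [] (.node [(76, 1, 1)] .nil .nil) .nil) (.node [(62, (-1), 1)] .nil (.node [(3, 1, 1), (4, 1, 1), (5, 1, 1), (6, 1, 1), (141, (-1), 2)] (.node [(187, (-1), 1)] .nil .nil) (.node [(246, 1, 1)] .nil .nil)))) (.node [] .nil (.node [] (.node [(99, 1, 1)] .nil .nil) .nil))) (.node [] (.node [] (.node [] (.node [] .nil (.node [(210, (-1), 1)] .nil .nil)) (.node [(106, (-1), 1)] .nil .nil)) (.node [] (.node [(96, (-1), 1)] .nil (.node [(224, 1, 1)] .nil .nil)) .nil)) (.node [(39, (-1), 1)] .nil (.node [] .nil (.node [(140, (-1), 1)] .nil .nil)))))))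
def X134 : Tr (List (ℕ × ℤ × ℕ)) := (.node [] (.node [(142, 1, 1)] (.node [(142, (-1), 1)] (.node [(142, (-1), 1)] (.node [] (.node [(42, 1, 1)] (.node [] (.node [(141, (-1), 1)] .nil .nil) .nil) .nil) (.node [] (.node [(84, (-1), 1)] (.node [(148, 1, 1)] .nil .nil) .nil) .nil)) (.node [(28, (-1), 1)] (.node [] (.node [] .nil (.node [(211, 1, 1)] .nil .nil)) .nil) (.node [] (.node [(98, 1, 1)] .nil (.node [(225, (-1), 1)] .nil .nil)) .nil))) (.node [] (.node [] (.node [] (.node [(77, 1, 1)] .nil .nil) (.node [] .nil (.node [(232, 1, 1)] .nil .nil))) (.node [(63, (-1), 1)] .nil (.node [(130, 1, 1)] (.node [(190, (-1), 1)] .nil .nil) .nil))) (.node [] (.node [] .nil (.node [(112, (-1), 1)] (.node [(176, 1, 1)] .nil .nil) .nil)) (.node [] (.node [] (.node [(163, (-1), 1)] .nil .nil) .nil) .nil)))) (.node [] (.node [] (.node [] (.node [] (.node [(76, 1, 1)] .nil (.node [(206, 1, 1)] .nil .nil)) .nil) (.node [(62, (-1), 1)] .nil (.node [(3,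 1, 1), (4, 1, 1), (5, 1, 1), (6, 1, 1), (7, 1, 1), (142, (-1), 2)] (.node [(185, (-1), 1)] .nil .nil) .nil))) (.node [] .nil (.node [] (.node [(99, 1, 1)] .nil .nil) .nil))) (.node [] (.node [] (.node [] (.node [] .nil (.node [(210, 1, 1)] .nil .nil)) (.node [(106, (-1), 1)] .nil .nil)) (.node [] (.node [] (.node [(154, 1, 1)] .nil .nil) (.node [(224, (-1), 1)] .nil .nil)) (.node [(137, 1, 1)] .nil .nil))) (.node [(37, 1, 1)] (.node [(58, (-1), 1)] .nil .nil) (.node [] (.node [] (.node [(168, (-1), 1)] .nil .nil) .nil) (.node [(140, (-1), 1)] .nil .nil)))))) (.node [(142, 1, 1)] (.node [] (.node [(13, (-1), 1)] (.node [(21, (-1), 1)] (.node [(43, 1, 1)] (.node [(75, 1, 1)] .nil (.node [(204, 1, 1)] .nil .nil)) .nil) (.node [(61, (-1), 1)] .nil .nil)) .nil) (.node [] (.node [] (.node [] (.node [] .nil (.node [(209, 1, 1)] .nil .nil)) .nil) (.node [] (.node [] .nil (.node [(223, (-1), 1)] .nil .nil)) (.node [(133, 1, 1)] (.node [(191, (-1),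 1)] .nil .nil) .nil))) (.node [] (.node [(56, (-1), 1)] .nil .nil) (.node [] (.node [(100, 1, 1)] (.node [(166, (-1), 1)] .nil .nil) .nil) .nil)))) (.node [] (.node [] (.node [] (.node [] (.node [] .nil (.node [(207, 1, 1)] .nil .nil)) .nil) (.node [] .nil (.node [(128, 1, 1)] (.node [(188, (-1), 1)] .nil .nil) (.node [(247, 1, 1)] .nil .nil)))) (.node [] (.node [] .nil (.node [] .nil (.node [(239, 1, 1)] .nil .nil))) (.node [] (.node [] .nil (.node [(226, (-1), 1)] .nil .nil)) (.node [(139, (-1), 1)] .nil .nil)))) (.node [] (.node [] (.node [] (.node [(78, 1, 1)] .nil .nil) .nil) (.node [] (.node [(97, 1, 1)] .nil .nil) (.node [(138, (-1), 1)] .nil .nil))) (.node [(40, 1, 1)] (.node [(59, (-1), 1)] .nil .nil) (.node [] (.node [] (.node [(169, (-1), 1)] .nil .nil) .nil) .nil))))))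
def X135 : Tr (List (ℕ × ℤ × ℕ)) := (.node [(143, 1, 1)] (.node [] (.node [(143, 1, 1)] (.node [] (.node [(16, (-1), 1)] (.node [] (.node [(73, (-1), 1)] .nil (.node [(201, 1, 1)] .nil .nil)) (.node [] .nil (.node [(228, 1, 1)] .nil .nil))) (.node [] .nil (.node [(117, 1, 1)] .nil (.node [(240, 1, 1)] .nil .nil)))) (.node [] .nil (.node [(65, (-1), 1)] (.node [] (.node [(156, 1, 1)] .nil .nil) .nil) (.node [] (.node [(193, 1, 1)] .nil .nil) .nil)))) (.node [] (.node [] (.node [] .nil (.node [(104, (-1), 1)] .nil .nil)) .nil) (.node [(32, (-1), 1)] (.node [] (.node [] (.node [(145, (-1), 1)] .nil .nil) .nil) (.node [(113, 1, 1)] .nil .nil)) (.node [(69, (-1), 1)] .nil (.node [] (.node [(197, 1, 1)] .nil .nil) .nil))))) (.node [] (.node [] (.node [] (.node [] .nil (.node [(102, (-1), 1)] .nil (.node [(230, 1, 1)] .nil .nil))) (.node [] .nil (.node [] .nil (.node [(242, 1, 1)] .nil .nil)))) (.node [(30, (-1), 1)] .nil (.node [(67, (-1),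 1)] (.node [] (.node [(158, 1, 1)] .nil .nil) .nil) (.node [] (.node [(195, 1, 1)] .nil .nil) .nil)))) (.node [(14, (-1), 1)] .nil (.node [] (.node [] (.node [] (.node [(147, (-1), 1)] .nil .nil) .nil) (.node [(115, 1, 1)] .nil .nil)) (.node [(71, (-1), 1)] .nil (.node [] (.node [(199, 1, 1)] .nil .nil) .nil)))))) (.node [(143, (-2), 1)] (.node [] (.node [] (.node [] (.node [] .nil (.node [(101, (-1), 1)] .nil (.node [(229, 1, 1)] .nil .nil))) (.node [] .nil (.node [(2, 1, 1), (143, (-1), 2)] .nil .nil))) (.node [(29, (-1), 1)] .nil (.node [(66, (-1), 1)] (.node [] (.node [(157, 1, 1)] .nil .nil) .nil) (.node [] (.node [(194, 1, 1)] .nil .nil) .nil)))) (.node [] (.node [] (.node [] .nil (.node [(105, (-1), 1)] .nil .nil)) (.node [] (.node [(85, (-1), 1)] .nil .nil) .nil)) (.node [(33, (-1), 1)] (.node [] (.node [] (.node [(146, (-1), 1)] .nil .nil) .nil) (.node [(114, 1, 1)] .nil .nil)) (.node [(70, (-1), 1)] .nil (.node [] (.node [(198,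 1, 1)] .nil .nil) .nil))))) (.node [] (.node [] (.node [] (.node [] .nil (.node [(103, (-1), 1)] .nil (.node [(231, 1, 1)] .nil .nil))) .nil) (.node [(31, (-1), 1)] (.node [] (.node [] (.node [(144, (-1), 1)] .nil .nil) .nil) (.node [] (.node [(171, 1, 1)] .nil .nil) .nil)) (.node [(68, (-1), 1)] (.node [] (.node [(159, 1, 1)] .nil .nil) .nil) (.node [] (.node [(196, 1, 1)] .nil .nil) .nil)))) (.node [] (.node [] .nil (.node [(64, (-1), 1)] (.node [] (.node [(155, 1, 1)] .nil .nil) .nil) (.node [] (.node [(192, 1, 1)] .nil .nil) .nil))) (.node [] (.node [] (.node [] (.node [(148, (-1), 1)] .nil .nil) .nil) (.node [(116, 1, 1)] .nil .nil)) (.node [(72, (-1), 1)] (.node [] .nil (.node [(227, 1, 1)] .nil .nil)) (.node [] (.node [(200, 1, 1)] .nil .nil) .nil)))))))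
def X136 : Tr (List (ℕ × ℤ × ℕ)) := (.node [(144, 1, 1)] (.node [(144, 1, 1)] (.node [(144, (-1), 1)] (.node [] (.node [(17, 1, 1)] (.node [] (.node [(77, 1, 1)] .nil (.node [(207, 1, 1)] .nil .nil)) (.node [(104, (-1), 1)] .nil .nil)) (.node [] .nil (.node [(2, 1, 1), (3, 1, 1), (144, (-1), 2)] .nil .nil))) (.node [(29, (-1), 1)] (.node [] (.node [] (.node [(146, (-1), 1)] .nil .nil) .nil) .nil) (.node [] (.node [] (.node [(160, 1, 1)] .nil .nil) .nil) .nil))) (.node [] (.node [] .nil (.node [(67, (-1), 1)] (.node [(85, (-1), 1)] .nil .nil) (.node [] (.node [(193, (-1), 1)] .nil .nil) .nil))) (.node [(36, 1, 1)] (.node [] .nil (.node [(118, 1, 1)] .nil .nil)) (.node [] (.node [] .nil (.node [(228, (-1), 1)] .nil .nil)) (.node [] (.node [(203, 1, 1)] .nil .nil) .nil))))) (.node [] (.node [] (.node [] .nil (.node [(65, (-1), 1)] .nil (.node [] .nil (.node [(243, 1, 1)] .nil .nil)))) (.node [(34, 1, 1)] (.node [] (.node [] (.node [(148,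 (-1), 1)] .nil .nil) .nil) .nil) (.node [] (.node [] (.node [(162, 1, 1)] .nil .nil) .nil) .nil))) (.node [] (.node [] .nil (.node [(69, (-1), 1)] (.node [] (.node [(155, (-1), 1)] .nil .nil) .nil) (.node [(143, (-1), 1)] (.node [(195, (-1), 1)] .nil .nil) .nil))) (.node [] (.node [] .nil (.node [(120, 1, 1)] .nil .nil)) (.node [(75, 1, 1)] (.node [(102, (-1), 1)] .nil (.node [(230, (-1), 1)] .nil .nil)) (.node [] (.node [(205, 1, 1)] .nil .nil) .nil)))))) (.node [(144, (-1), 1)] (.node [(144, 1, 1)] (.node [] (.node [] .nil (.node [(64, (-1), 1)] .nil (.node [(138, 1, 1)] .nil .nil))) (.node [] (.node [] (.node [] (.node [(147, (-1), 1)] .nil .nil) .nil) .nil) (.node [] (.node [] (.node [(161, 1, 1)] .nil .nil) .nil) .nil))) (.node [(14, (-1), 1)] (.node [] (.node [] .nil (.node [(106, 1, 1)] .nil .nil)) (.node [(68, (-1), 1)] .nil (.node [] (.node [(194, (-1), 1)] .nil .nil) .nil))) (.node [(37, 1, 1)] (.node [] .nil (.node [(119, 1,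 1)] .nil .nil)) (.node [(74, 1, 1)] (.node [(101, (-1), 1)] .nil (.node [(229, (-1), 1)] .nil .nil)) (.node [] (.node [(204, 1, 1)] .nil .nil) .nil))))) (.node [] (.node [] (.node [] (.node [] .nil (.node [] .nil (.node [(232, 1, 1)] .nil .nil))) (.node [(66, (-1), 1)] .nil (.node [] (.node [(192, (-1), 1)] .nil .nil) .nil))) (.node [(35, 1, 1)] (.node [] .nil (.node [] (.node [(172, 1, 1)] .nil .nil) .nil)) (.node [] (.node [] (.node [(163, 1, 1)] .nil .nil) (.node [(227, (-1), 1)] .nil .nil)) (.node [] (.node [(202, 1, 1)] .nil .nil) .nil)))) (.node [] (.node [] (.node [] (.node [] (.node [(145, (-1), 1)] .nil .nil) .nil) .nil) .nil) (.node [] (.node [] .nil (.node [(121, 1, 1)] .nil (.node [(240, (-1), 1)] .nil .nil))) (.node [(76, 1, 1)] (.node [(103, (-1), 1)] .nil .nil) (.node [] (.node [(206, 1, 1)] .nil .nil) .nil)))))))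
def X137 : Tr (List (ℕ × ℤ × ℕ)) := (.node [(145, 1, 1)] (.node [(145, 1, 1)] (.node [] (.node [] (.node [(18, (-1), 1)] (.node [] (.node [(78, (-1), 1)] .nil (.node [(210, 1, 1)] .nil .nil)) (.node [(105, 1, 1)] .nil .nil)) (.node [(66, (-1), 1)] .nil (.node [(134, 1, 1)] .nil .nil))) (.node [(30, 1, 1)] .nil (.node [] (.node [] .nil (.node [(227, 1, 1)] .nil .nil)) (.node [] (.node [(202, (-1), 1)] .nil .nil) .nil)))) (.node [(14, (-1), 1)] (.node [] (.node [] (.node [] (.node [(146, (-1), 1)] .nil .nil) .nil) (.node [(106, 1, 1)] .nil .nil)) (.node [(70, 1, 1)] .nil (.node [] (.node [(196, (-1), 1)] .nil .nil) .nil))) (.node [(39, (-1), 1)] (.node [] .nil (.node [(122, 1, 1)] .nil .nil)) (.node [(76, 1, 1)] (.node [(103, (-1), 1)] .nil .nil) .nil)))) (.node [(145, 1, 1)] (.node [] (.node [] (.node [] .nil (.node [] .nil (.node [(232, (-1), 1)] .nil .nil))) (.node [] .nil (.node [] (.node [(192, 1, 1)] .nil .nil) (.node [(244, 1, 1)]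 .nil .nil)))) (.node [] .nil (.node [(74, 1, 1)] (.node [(101, (-1), 1)] (.node [(165, 1, 1)] .nil .nil) (.node [(229, 1, 1)] .nil .nil)) (.node [(144, (-1), 1)] (.node [(204, (-1), 1)] .nil .nil) .nil)))) (.node [] (.node [] (.node [] (.node [] (.node [(148, (-1), 1)] .nil .nil) .nil) .nil) (.node [(72, 1, 1)] (.node [] (.node [(156, (-1), 1)] .nil .nil) .nil) (.node [] (.node [(198, (-1), 1)] .nil .nil) .nil))) (.node [] (.node [(64, (-1), 1)] .nil (.node [(124, 1, 1)] .nil (.node [(240, 1, 1)] .nil .nil))) (.node [] (.node [] .nil (.node [(231, (-1), 1)] .nil .nil)) (.node [] (.node [(208, 1, 1)] .nil .nil) .nil)))))) (.node [(145, (-1), 1)] (.node [(145, (-1), 1)] (.node [] (.node [] .nil (.node [] .nil (.node [(139, 1, 1)] .nil .nil))) (.node [(34, 1, 1)] .nil (.node [] (.node [] (.node [(164, 1, 1)] .nil .nil) (.node [(228, 1, 1)] .nil .nil)) (.node [] (.node [(203, (-1), 1)] .nil .nil) .nil)))) (.node [] (.node [] (.node [] (.node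 [] (.node [(147, (-1), 1)] .nil .nil) .nil) .nil) (.node [(71, 1, 1)] .nil (.node [(143, (-1), 1)] (.node [(197, (-1), 1)] .nil .nil) .nil))) (.node [(40, (-1), 1)] (.node [] .nil (.node [(123, 1, 1)] .nil .nil)) .nil))) (.node [] (.node [] (.node [] .nil (.node [] (.node [(85, (-1), 1)] .nil .nil) .nil)) (.node [(38, (-1), 1)] (.node [] .nil (.node [] (.node [(173, 1, 1)] .nil .nil) .nil)) (.node [(75, 1, 1)] (.node [(102, (-1), 1)] (.node [(166, 1, 1)] .nil .nil) .nil) .nil))) (.node [] (.node [] .nil (.node [] (.node [] (.node [(160, (-1), 1)] .nil .nil) .nil) .nil)) (.node [] (.node [(65, (-1), 1)] .nil (.node [(2, 1, 1), (3, 1, 1), (4, 1, 1), (145, (-1), 2)] .nil .nil)) (.node [] .nil (.node [] (.node [(209, 1, 1)] .nil .nil) .nil)))))))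
def X138 : Tr (List (ℕ × ℤ × ℕ)) := (.node [(146, 1, 1)] (.node [(146, 1, 1)] (.node [] (.node [] (.node [(19, 1, 1)] (.node [] (.node [] .nil (.node [(211, 1, 1)] .nil .nil)) .nil) (.node [(68, 1, 1)] .nil (.node [(135, 1, 1)] .nil .nil))) (.node [(31, (-1), 1)] .nil (.node [(74, 1, 1)] (.node [(101, (-1), 1)] (.node [(164, (-1), 1)] .nil .nil) .nil) .nil))) (.node [] (.node [] .nil (.node [] .nil (.node [(143, (-1), 1)] .nil .nil))) (.node [(41, 1, 1)] (.node [] .nil (.node [(125, 1, 1)] .nil .nil)) (.node [(77, (-1), 1)] (.node [(104, 1, 1)] .nil .nil) (.node [] (.node [(208, (-1), 1)] .nil .nil) .nil))))) (.node [(146, (-1), 1)] (.node [] (.node [] (.node [] (.node [] (.node [(147, (-1), 1)] .nil .nil) .nil) .nil) (.node [(70, 1, 1)] (.node [(85, (-1), 1)] .nil .nil) (.node [] (.node [(193, 1, 1)] .nil .nil) (.node [(245, 1, 1)] .nil .nil)))) (.node [(38, (-1), 1)] .nil (.node [] (.node [] (.node [(167, 1, 1)] .nil .nil) (.node [(230,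 1, 1)] .nil .nil)) (.node [] (.node [(206, (-1), 1)] .nil .nil) .nil)))) (.node [] (.node [] .nil (.node [(73, (-1), 1)] (.node [] (.node [(157, (-1), 1)] .nil .nil) (.node [(227, (-1), 1)] .nil .nil)) (.node [] (.node [(200, (-1), 1)] .nil .nil) .nil))) (.node [] (.node [] .nil (.node [(2, 1, 1), (3, 1, 1), (4, 1, 1), (5, 1, 1), (146, (-1), 2)] .nil .nil)) .nil)))) (.node [(146, (-1), 1)] (.node [] (.node [] (.node [] (.node [] .nil (.node [] .nil (.node [(232, 1, 1)] .nil .nil))) (.node [] .nil (.node [(140, 1, 1)] .nil .nil))) (.node [(35, (-1), 1)] .nil (.node [(75, 1, 1)] (.node [(102, (-1), 1)] .nil .nil) (.node [(144, (-1), 1)] (.node [(205, (-1), 1)] .nil .nil) .nil)))) (.node [] (.node [] .nil (.node [] .nil (.node [] (.node [(199, (-1), 1)] .nil .nil) .nil))) (.node [(42, 1, 1)] (.node [(64, (-1), 1)] .nil (.node [(126, 1, 1)] .nil (.node [(240, (-1), 1)] .nil .nil))) (.node [] (.node [] .nil (.node [(231, 1, 1)] .nil .nil))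 (.node [(145, (-1), 1)] (.node [(209, (-1), 1)] .nil .nil) .nil))))) (.node [(146, 1, 1)] (.node [(14, (-1), 1)] (.node [] (.node [] (.node [] (.node [(148, (-1), 1)] .nil .nil) .nil) (.node [(106, 1, 1)] .nil .nil)) (.node [(71, 1, 1)] .nil (.node [] (.node [(196, 1, 1)] .nil .nil) .nil))) (.node [] (.node [] .nil (.node [] (.node [(174, 1, 1)] .nil .nil) .nil)) (.node [] (.node [] (.node [(168, 1, 1)] .nil .nil) .nil) .nil))) (.node [] (.node [] .nil (.node [] (.node [] (.node [(161, (-1), 1)] .nil .nil) (.node [(228, (-1), 1)] .nil .nil)) (.node [] (.node [(202, 1, 1)] .nil .nil) .nil))) (.node [] (.node [(67, 1, 1)] .nil (.node [(131, 1, 1)] .nil .nil)) (.node [(78, (-1), 1)] (.node [(105, 1, 1)] .nil .nil) .nil))))))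
def X139 : Tr (List (ℕ × ℤ × ℕ)) := (.node [(147, 1, 1)] (.node [(147, 1, 1)] (.node [] (.node [(147, 1, 1)] (.node [(20, (-1), 1)] (.node [] .nil (.node [] .nil (.node [(232, (-1), 1)] .nil .nil))) (.node [(69, (-1), 1)] .nil (.node [(136, 1, 1)] .nil .nil))) (.node [(32, 1, 1)] .nil (.node [] (.node [] (.node [(165, (-1), 1)] .nil .nil) .nil) (.node [(144, (-1), 1)] (.node [(205, 1, 1)] .nil .nil) .nil)))) (.node [] (.node [] .nil (.node [] .nil (.node [] (.node [(199, 1, 1)] .nil .nil) .nil))) (.node [] (.node [] .nil (.node [(127, 1, 1)] .nil (.node [(240, 1, 1)] .nil .nil))) (.node [] (.node [] .nil (.node [(231, (-1), 1)] .nil .nil)) (.node [(145, (-1), 1)] .nil .nil))))) (.node [] (.node [(14, (-1), 1)] (.node [] (.node [] .nil (.node [(106, 1, 1)] .nil .nil)) (.node [] .nil (.node [] (.node [(194, 1, 1)] .nil .nil) (.node [(246, 1, 1)] .nil .nil)))) (.node [(39, 1, 1)] .nil (.node [] .nil (.node [] (.node [(207, (-1), 1)] .nil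 .nil) .nil)))) (.node [] (.node [] .nil (.node [] (.node [] (.node [(158, (-1), 1)] .nil .nil) .nil) (.node [] (.node [(201, (-1), 1)] .nil .nil) .nil))) (.node [] (.node [(67, 1, 1)] .nil (.node [(129, 1, 1)] .nil .nil)) (.node [(78, (-1), 1)] (.node [(105, 1, 1)] .nil .nil) .nil))))) (.node [(147, (-1), 1)] (.node [] (.node [] (.node [] (.node [] (.node [] (.node [(148, (-1), 1)] .nil .nil) .nil) .nil) (.node [(70, 1, 1)] (.node [(85, (-1), 1)] .nil .nil) (.node [(141, 1, 1)] .nil .nil))) (.node [(36, 1, 1)] .nil (.node [(76, (-1), 1)] (.node [(103, 1, 1)] (.node [(167, (-1), 1)] .nil .nil) (.node [(230, (-1), 1)] .nil .nil)) .nil))) (.node [] (.node [] .nil (.node [(73, (-1), 1)] (.node [] .nil (.node [(227, 1, 1)] .nil .nil)) .nil)) (.node [(43, (-1), 1)] (.node [(65, 1, 1)] .nil (.node [(2, 1, 1), (3, 1, 1), (4, 1, 1), (5, 1, 1), (6, 1, 1), (147, (-1), 2)] .nil .nil)) (.node [] .nil (.node [] (.node [(210, (-1), 1)] .nil .nil) .nil)))))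 (.node [(147, (-1), 1)] (.node [] (.node [] .nil (.node [(72, (-1), 1)] .nil (.node [(143, (-1), 1)] (.node [(197, 1, 1)] .nil .nil) .nil))) (.node [(41, 1, 1)] (.node [] .nil (.node [] (.node [(175, 1, 1)] .nil .nil) .nil)) (.node [(77, (-1), 1)] (.node [(104, 1, 1)] (.node [(169, 1, 1)] .nil .nil) .nil) (.node [] (.node [(208, 1, 1)] .nil .nil) .nil)))) (.node [] (.node [] .nil (.node [(74, 1, 1)] (.node [(101, (-1), 1)] (.node [(162, (-1), 1)] .nil .nil) (.node [(229, (-1), 1)] .nil .nil)) (.node [] (.node [(203, 1, 1)] .nil .nil) .nil))) (.node [] (.node [] .nil (.node [(132, 1, 1)] .nil .nil)) (.node [] .nil (.node [(146, (-1), 1)] (.node [(211, (-1), 1)] .nil .nil) .nil)))))))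
def X140 : Tr (List (ℕ × ℤ × ℕ)) := (.node [(148, 1, 1)] (.node [(148, 1, 1)] (.node [] (.node [(148, (-1), 1)] (.node [(21, 1, 1)] (.node [] (.node [] (.node [(147, (-1), 1)] .nil .nil) .nil) .nil) (.node [] (.node [(85, (-1), 1)] .nil .nil) (.node [(137, 1, 1)] .nil .nil))) (.node [(33, (-1), 1)] .nil (.node [(76, (-1), 1)] (.node [(103, 1, 1)] (.node [(166, (-1), 1)] .nil .nil) (.node [(230, 1, 1)] .nil .nil)) (.node [] (.node [(206, 1, 1)] .nil .nil) .nil)))) (.node [] (.node [] .nil (.node [(73, (-1), 1)] .nil (.node [] (.node [(200, 1, 1)] .nil .nil) .nil))) (.node [(43, (-1), 1)] (.node [] .nil (.node [(2, 1, 1), (3, 1, 1), (4, 1, 1), (5, 1, 1), (6, 1, 1), (7, 1, 1), (148, (-1), 2)] .nil .nil)) (.node [] .nil (.node [] (.node [(210, 1, 1)] .nil .nil) .nil))))) (.node [] (.node [] (.node [] .nil (.node [(72, (-1), 1)] .nil (.node [(143, (-1), 1)] (.node [(195, 1, 1)] .nil .nil) (.node [(247, 1, 1)] .nil .nil)))) (.node [(40, (-1),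 1)] .nil (.node [(77, (-1), 1)] (.node [(104, 1, 1)] (.node [(169, (-1), 1)] .nil .nil) .nil) .nil))) (.node [] (.node [] .nil (.node [] (.node [] (.node [(159, (-1), 1)] .nil .nil) (.node [(229, 1, 1)] .nil .nil)) .nil)) (.node [] (.node [(68, (-1), 1)] .nil (.node [(130, 1, 1)] .nil .nil)) (.node [] .nil (.node [(146, (-1), 1)] (.node [(211, 1, 1)] .nil .nil) .nil)))))) (.node [(148, (-1), 1)] (.node [] (.node [(14, (-1), 1)] (.node [] (.node [] .nil (.node [(106, 1, 1)] .nil .nil)) (.node [(71, (-1), 1)] .nil (.node [(142, 1, 1)] .nil .nil))) (.node [(37, (-1), 1)] .nil (.node [] (.node [] (.node [(168, (-1), 1)] .nil .nil) .nil) (.node [] (.node [(207, 1, 1)] .nil .nil) .nil)))) (.node [] (.node [] .nil (.node [] (.node [] .nil (.node [(228, 1, 1)] .nil .nil)) (.node [] (.node [(201, 1, 1)] .nil .nil) .nil))) (.node [] (.node [(66, (-1), 1)] .nil (.node [(128, 1, 1)] .nil .nil)) (.node [(78, (-1), 1)] (.node [(105, 1, 1)] .nil .nil)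 .nil)))) (.node [] (.node [] (.node [] .nil (.node [] .nil (.node [] (.node [(198, 1, 1)] .nil .nil) .nil))) (.node [(42, (-1), 1)] (.node [] .nil (.node [] (.node [(176, 1, 1)] .nil .nil) (.node [(240, (-1), 1)] .nil .nil))) (.node [] (.node [] .nil (.node [(231, 1, 1)] .nil .nil)) (.node [(145, (-1), 1)] (.node [(209, 1, 1)] .nil .nil) .nil)))) (.node [] (.node [] .nil (.node [(75, (-1), 1)] (.node [(102, 1, 1)] (.node [(163, (-1), 1)] .nil .nil) .nil) (.node [(144, (-1), 1)] (.node [(204, 1, 1)] .nil .nil) .nil))) (.node [] (.node [(69, (-1), 1)] .nil (.node [(133, 1, 1)] .nil .nil)) (.node [] (.node [] .nil (.node [(232, 1, 1)] .nil .nil)) .nil))))))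
def X141 : Tr (List (ℕ × ℤ × ℕ)) := (.node [] (.node [(149, (-2), 1)] (.node [(149, 1, 1)] (.node [] (.node [] .nil (.node [] (.node [] .nil (.node [(217, 1, 1)] .nil .nil)) (.node [] (.node [(180, 1, 1)] .nil .nil) (.node [(241, 1, 1)] .nil .nil)))) (.node [] (.node [(49, (-1), 1)] .nil (.node [(115, 1, 1)] .nil .nil)) .nil)) (.node [] (.node [] (.node [(45, (-1), 1)] .nil (.node [(110, (-1), 1)] .nil .nil)) (.node [] (.node [] (.node [(158, 1, 1)] .nil .nil) (.node [(221, 1, 1)] .nil .nil)) .nil)) (.node [] (.node [(53, (-1), 1)] (.node [(80, (-1), 1)] (.node [(151, (-1), 1)] .nil .nil) (.node [(213, 1, 1)] .nil .nil)) .nil) .nil))) (.node [] (.node [] (.node [] (.node [] .nil (.node [(108, (-1), 1)] .nil .nil)) (.node [] (.node [] (.node [(156, 1, 1)] .nil .nil) (.node [(219, 1, 1)] .nil .nil)) .nil)) (.node [] (.node [(51, (-1), 1)] .nil (.node [(117, 1, 1)] .nil .nil)) .nil)) (.node [(15, (-1), 1)] (.node [] (.node [(47, (-1), 1)]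 .nil (.node [(113, 1, 1)] .nil .nil)) .nil) (.node [] (.node [] (.node [(82, (-1), 1)] (.node [(153, (-1), 1)] .nil .nil) (.node [(215, 1, 1)] .nil .nil)) (.node [] (.node [(178, 1, 1)] .nil .nil) .nil)) .nil)))) (.node [] (.node [] (.node [] (.node [] (.node [] .nil (.node [(107, (-1), 1)] .nil .nil)) (.node [] (.node [] (.node [(155, 1, 1)] .nil .nil) (.node [(218, 1, 1)] .nil .nil)) (.node [] (.node [(181, 1, 1)] .nil .nil) (.node [(242, 1, 1)] .nil .nil)))) (.node [] (.node [(50, (-1), 1)] .nil (.node [(116, 1, 1)] .nil (.node [(233, 1, 1)] .nil .nil))) .nil)) (.node [] (.node [] (.node [(46, (-1), 1)] .nil (.node [(111, (-1), 1)] .nil .nil)) (.node [] (.node [] (.node [(159, 1, 1)] .nil .nil) .nil) .nil)) (.node [] (.node [] (.node [(81, (-1), 1)] (.node [(152, (-1), 1)] .nil .nil) (.node [(214, 1, 1)] .nil .nil)) (.node [] (.node [(177, 1, 1)] .nil .nil) .nil)) .nil))) (.node [] (.node [] (.node [] (.node [(44, (-1), 1)] .nil (.node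 [(109, (-1), 1)] .nil .nil)) (.node [] (.node [] (.node [(157, 1, 1)] .nil .nil) (.node [(220, 1, 1)] .nil .nil)) .nil)) (.node [] (.node [(52, (-1), 1)] (.node [(79, (-1), 1)] (.node [(150, (-1), 1)] .nil .nil) (.node [(212, 1, 1)] .nil .nil)) (.node [(1, 1, 1), (149, (-1), 2)] .nil .nil)) .nil)) (.node [(16, (-1), 1)] (.node [(23, (-1), 1)] (.node [(48, (-1), 1)] .nil (.node [(114, 1, 1)] .nil .nil)) .nil) (.node [] (.node [] (.node [(83, (-1), 1)] (.node [(154, (-1), 1)] .nil .nil) (.node [(216, 1, 1)] .nil .nil)) (.node [] (.node [(179, 1, 1)] .nil .nil) .nil)) .nil)))))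
def X142 : Tr (List (ℕ × ℤ × ℕ)) := (.node [] (.node [(150, (-1), 1)] (.node [(150, (-1), 1)] (.node [] (.node [] (.node [(45, (-1), 1)] .nil (.node [(110, (-1), 1)] .nil .nil)) (.node [] (.node [] (.node [(155, (-1), 1)] .nil .nil) .nil) (.node [] (.node [(184, 1, 1)] .nil .nil) .nil))) (.node [] (.node [(55, 1, 1)] (.node [(80, (-1), 1)] (.node [(152, (-1), 1)] .nil .nil) (.node [(215, (-1), 1)] .nil .nil)) (.node [(120, 1, 1)] .nil (.node [(233, (-1), 1)] .nil .nil))) .nil)) (.node [] (.node [] .nil (.node [] (.node [] (.node [(162, 1, 1)] .nil .nil) (.node [(225, 1, 1)] .nil .nil)) .nil)) (.node [] (.node [(59, 1, 1)] .nil (.node [] (.node [(177, (-1), 1)] .nil .nil) .nil)) .nil))) (.node [] (.node [] (.node [] (.node [(47, (-1), 1)] .nil .nil) (.node [] (.node [] (.node [(160, 1, 1)] .nil .nil) (.node [(223, 1, 1)] .nil .nil)) .nil)) (.node [] (.node [(57, 1, 1)] (.node [(82, (-1), 1)] (.node [(154, (-1), 1)] .nil .nil) (.node [(217,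 (-1), 1)] .nil .nil)) (.node [(1, 1, 1), (3, 1, 1), (150, (-1), 2)] .nil .nil)) .nil)) (.node [] (.node [] (.node [] (.node [] .nil (.node [(213, (-1), 1)] .nil .nil)) (.node [(118, 1, 1)] .nil .nil)) (.node [] .nil (.node [(149, (-1), 1)] .nil .nil))) (.node [] (.node [] .nil (.node [] (.node [(182, 1, 1)] .nil .nil) .nil)) (.node [] (.node [(108, (-1), 1)] .nil .nil) .nil))))) (.node [(150, 1, 1)] (.node [(150, 1, 1)] (.node [] (.node [] (.node [(46, (-1), 1)] .nil .nil) (.node [] (.node [] .nil (.node [(222, 1, 1)] .nil .nil)) (.node [] (.node [(185, 1, 1)] .nil .nil) (.node [(243, 1, 1)] .nil .nil)))) (.node [] (.node [(56, 1, 1)] (.node [(81, (-1), 1)] (.node [(153, (-1), 1)] .nil .nil) (.node [(216, (-1), 1)] .nil .nil)) (.node [(121, 1, 1)] .nil .nil)) .nil)) (.node [(15, (-1), 1)] (.node [] (.node [] (.node [] .nil (.node [(212, (-1), 1)] .nil .nil)) (.node [(112, 1, 1)] .nil .nil)) (.node [] (.node [] (.node [(163, 1, 1)] .nil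 .nil) .nil) .nil)) (.node [] .nil (.node [] (.node [(107, (-1), 1)] .nil .nil) .nil)))) (.node [] (.node [] (.node [] .nil (.node [] (.node [] (.node [(161, 1, 1)] .nil .nil) (.node [(224, 1, 1)] .nil .nil)) .nil)) (.node [] (.node [(58, 1, 1)] .nil (.node [(138, 1, 1)] .nil .nil)) .nil)) (.node [(17, 1, 1)] (.node [(24, 1, 1)] (.node [(54, 1, 1)] (.node [(79, (-1), 1)] (.node [(151, (-1), 1)] .nil .nil) (.node [(214, (-1), 1)] .nil .nil)) (.node [(119, 1, 1)] .nil .nil)) .nil) (.node [(44, (-1), 1)] (.node [] (.node [(84, 1, 1)] .nil .nil) (.node [] (.node [(183, 1, 1)] .nil .nil) (.node [(241, (-1), 1)] .nil .nil))) (.node [] (.node [(109, (-1), 1)] .nil .nil) .nil))))))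
def X143 : Tr (List (ℕ × ℤ × ℕ)) := (.node [] (.node [(151, (-1), 1)] (.node [] (.node [] (.node [] (.node [(48, 1, 1)] .nil (.node [(111, 1, 1)] .nil .nil)) (.node [] (.node [] (.node [(156, (-1), 1)] .nil .nil) (.node [(224, (-1), 1)] .nil .nil)) (.node [] (.node [(187, 1, 1)] .nil .nil) .nil))) (.node [] (.node [] (.node [] .nil (.node [(218, (-1), 1)] .nil .nil)) (.node [(124, 1, 1)] .nil .nil)) .nil)) (.node [(15, (-1), 1)] (.node [] (.node [(54, 1, 1)] (.node [(79, (-1), 1)] (.node [(152, (-1), 1)] .nil .nil) (.node [(214, 1, 1)] .nil .nil)) (.node [(112, 1, 1)] .nil .nil)) (.node [] (.node [] (.node [(165, 1, 1)] .nil .nil) (.node [(226, 1, 1)] .nil .nil)) .nil)) (.node [] (.node [(62, (-1), 1)] .nil (.node [] (.node [(178, (-1), 1)] .nil .nil) .nil)) (.node [] (.node [(109, (-1), 1)] .nil .nil) .nil)))) (.node [(151, 1, 1)] (.node [] (.node [] (.node [(50, 1, 1)] (.node [] .nil (.node [(212, 1, 1)] .nil .nil)) .nil) .nil) (.node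 [] (.node [(60, (-1), 1)] (.node [(83, 1, 1)] .nil (.node [(220, (-1), 1)] .nil .nil)) (.node [(134, 1, 1)] .nil .nil)) (.node [] (.node [(107, (-1), 1)] .nil .nil) (.node [(150, (-1), 1)] .nil .nil)))) (.node [] (.node [] (.node [(56, 1, 1)] (.node [(81, (-1), 1)] (.node [(154, (-1), 1)] .nil .nil) .nil) (.node [(122, 1, 1)] .nil .nil)) .nil) (.node [(44, (-1), 1)] (.node [] (.node [(84, 1, 1)] .nil (.node [(222, (-1), 1)] .nil .nil)) (.node [] .nil (.node [(241, 1, 1)] .nil .nil))) .nil)))) (.node [(151, 1, 1)] (.node [(151, (-1), 1)] (.node [] (.node [] (.node [(49, 1, 1)] .nil .nil) (.node [] (.node [] (.node [(160, (-1), 1)] .nil .nil) .nil) (.node [] (.node [(188, 1, 1)] .nil .nil) (.node [(244, 1, 1)] .nil .nil)))) (.node [] (.node [] (.node [] .nil (.node [(219, (-1), 1)] .nil .nil)) (.node [(1, 1, 1), (3, 1, 1), (4, 1, 1), (151, (-1), 2)] .nil .nil)) .nil)) (.node [] (.node [] (.node [(55, 1, 1)] (.node [(80, (-1), 1)] (.node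 [(153, (-1), 1)] .nil .nil) .nil) .nil) (.node [] (.node [] (.node [(166, 1, 1)] .nil .nil) .nil) (.node [(149, (-1), 1)] .nil .nil))) (.node [] (.node [] .nil (.node [] (.node [(182, (-1), 1)] .nil .nil) .nil)) .nil))) (.node [] (.node [] (.node [] (.node [] (.node [] .nil (.node [(213, 1, 1)] .nil .nil)) .nil) (.node [] (.node [] (.node [(164, 1, 1)] .nil .nil) .nil) .nil)) (.node [] (.node [(61, (-1), 1)] .nil (.node [(139, 1, 1)] .nil .nil)) (.node [] (.node [(108, (-1), 1)] .nil .nil) .nil))) (.node [(18, (-1), 1)] (.node [(25, (-1), 1)] (.node [] .nil (.node [(123, 1, 1)] .nil (.node [(233, 1, 1)] .nil .nil))) .nil) (.node [] (.node [] (.node [] .nil (.node [(223, (-1), 1)] .nil .nil)) (.node [] (.node [(186, 1, 1)] .nil .nil) .nil)) .nil)))))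
def X144 : Tr (List (ℕ × ℤ × ℕ)) := (.node [] (.node [(152, (-1), 1)] (.node [] (.node [] (.node [] .nil (.node [] (.node [] (.node [(157, (-1), 1)] .nil .nil) (.node [(225, (-1), 1)] .nil .nil)) (.node [] (.node [(189, 1, 1)] .nil .nil) .nil))) (.node [] (.node [(60, (-1), 1)] .nil (.node [(1, 1, 1), (3, 1, 1), (4, 1, 1), (5, 1, 1), (152, (-1), 2)] .nil .nil)) (.node [] (.node [(107, (-1), 1)] .nil .nil) .nil))) (.node [] (.node [] (.node [] (.node [] .nil (.node [(216, 1, 1)] .nil .nil)) .nil) (.node [] (.node [] (.node [(167, 1, 1)] .nil .nil) .nil) (.node [(149, (-1), 1)] .nil .nil))) (.node [] (.node [(63, 1, 1)] (.node [] .nil (.node [(222, 1, 1)] .nil .nil)) (.node [] (.node [(179, (-1), 1)] .nil .nil) .nil)) (.node [] (.node [(110, 1, 1)] .nil .nil) .nil)))) (.node [(152, (-1), 1)] (.node [] (.node [] (.node [(52, (-1), 1)] (.node [(79, (-1), 1)] (.node [(153, (-1), 1)] .nil .nil) .nil) .nil) (.node [] (.node [] (.node [(164,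 (-1), 1)] .nil .nil) .nil) .nil)) (.node [] (.node [] (.node [] .nil (.node [(221, (-1), 1)] .nil .nil)) (.node [(135, 1, 1)] .nil .nil)) .nil)) (.node [] (.node [] (.node [(58, (-1), 1)] (.node [(82, 1, 1)] .nil (.node [(218, 1, 1)] .nil .nil)) (.node [(125, 1, 1)] .nil (.node [(233, (-1), 1)] .nil .nil))) .nil) (.node [(45, 1, 1)] (.node [] .nil (.node [] (.node [(186, (-1), 1)] .nil .nil) .nil)) .nil)))) (.node [(152, 1, 1)] (.node [] (.node [] (.node [] (.node [(51, (-1), 1)] (.node [] .nil (.node [(212, (-1), 1)] .nil .nil)) .nil) (.node [] (.node [] (.node [(161, (-1), 1)] .nil .nil) .nil) (.node [] (.node [(190, 1, 1)] .nil .nil) (.node [(245, 1, 1)] .nil .nil)))) (.node [] (.node [(61, (-1), 1)] (.node [(83, 1, 1)] .nil .nil) (.node [(131, 1, 1)] .nil .nil)) (.node [] (.node [(108, (-1), 1)] .nil .nil) (.node [(150, (-1), 1)] .nil .nil)))) (.node [] (.node [] (.node [(57, (-1), 1)] .nil .nil) (.node [] (.node [] (.node [(168,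 1, 1)] .nil .nil) .nil) .nil)) (.node [] (.node [] (.node [(84, 1, 1)] .nil (.node [(223, 1, 1)] .nil .nil)) (.node [] (.node [(183, (-1), 1)] .nil .nil) (.node [(241, (-1), 1)] .nil .nil))) (.node [] .nil (.node [(151, (-1), 1)] .nil .nil))))) (.node [(152, 1, 1)] (.node [(15, (-1), 1)] (.node [] (.node [(54, 1, 1)] (.node [(80, (-1), 1)] (.node [(154, (-1), 1)] .nil .nil) (.node [(215, 1, 1)] .nil .nil)) (.node [(112, 1, 1)] .nil .nil)) (.node [] (.node [] .nil (.node [(226, (-1), 1)] .nil .nil)) .nil)) (.node [] (.node [] .nil (.node [(140, 1, 1)] .nil .nil)) .nil)) (.node [(19, 1, 1)] (.node [(26, 1, 1)] (.node [] (.node [] .nil (.node [(219, 1, 1)] .nil .nil)) (.node [(126, 1, 1)] .nil .nil)) .nil) (.node [(48, 1, 1)] .nil (.node [] (.node [(111, 1, 1)] .nil .nil) .nil))))))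
def X145 : Tr (List (ℕ × ℤ × ℕ)) := (.node [] (.node [(153, (-1), 1)] (.node [] (.node [(153, 1, 1)] (.node [] (.node [(51, (-1), 1)] .nil .nil) (.node [] (.node [] (.node [(158, (-1), 1)] .nil .nil) .nil) .nil)) (.node [] (.node [] (.node [(83, 1, 1)] .nil .nil) (.node [(129, 1, 1)] .nil .nil)) (.node [] .nil (.node [(150, (-1), 1)] .nil .nil)))) (.node [] (.node [] (.node [(57, (-1), 1)] (.node [] .nil (.node [(217, 1, 1)] .nil .nil)) .nil) .nil) (.node [] (.node [] (.node [(84, 1, 1)] .nil .nil) (.node [] (.node [(180, (-1), 1)] .nil .nil) (.node [(241, 1, 1)] .nil .nil))) (.node [] .nil (.node [(151, (-1), 1)] .nil .nil))))) (.node [] (.node [(15, (-1), 1)] (.node [] (.node [(53, 1, 1)] (.node [] .nil (.node [(215, (-1), 1)] .nil .nil)) (.node [(112, 1, 1)] .nil .nil)) (.node [] (.node [] (.node [(165, (-1), 1)] .nil .nil) (.node [(226, 1, 1)] .nil .nil)) .nil)) (.node [] (.node [] .nil (.node [(136, 1, 1)] .nil .nil)) .nil)) (.node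 [] (.node [] (.node [(59, 1, 1)] .nil (.node [(127, 1, 1)] .nil .nil)) .nil) (.node [(46, (-1), 1)] (.node [] .nil (.node [] (.node [(187, (-1), 1)] .nil .nil) .nil)) (.node [] (.node [(111, 1, 1)] .nil .nil) .nil))))) (.node [(153, 1, 1)] (.node [] (.node [] (.node [] (.node [] (.node [(79, (-1), 1)] (.node [(154, (-1), 1)] .nil .nil) (.node [(213, (-1), 1)] .nil .nil)) .nil) (.node [] (.node [] (.node [(162, (-1), 1)] .nil .nil) .nil) (.node [] (.node [(191, 1, 1)] .nil .nil) (.node [(246, 1, 1)] .nil .nil)))) (.node [] (.node [(62, 1, 1)] (.node [] .nil (.node [(221, 1, 1)] .nil .nil)) (.node [(132, 1, 1)] .nil .nil)) (.node [] (.node [(109, 1, 1)] .nil .nil) .nil))) (.node [] (.node [] (.node [] (.node [(82, 1, 1)] .nil (.node [(218, (-1), 1)] .nil .nil)) (.node [] .nil (.node [(233, 1, 1)] .nil .nil))) (.node [] (.node [] (.node [(169, 1, 1)] .nil .nil) .nil) .nil)) (.node [] (.node [] (.node [] .nil (.node [(224, 1, 1)] .nil .nil))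 (.node [] (.node [(184, (-1), 1)] .nil .nil) .nil)) .nil))) (.node [(153, (-1), 1)] (.node [] (.node [] (.node [(55, (-1), 1)] (.node [(81, 1, 1)] .nil .nil) .nil) (.node [] (.node [] (.node [(167, (-1), 1)] .nil .nil) .nil) (.node [(149, (-1), 1)] .nil .nil))) (.node [] (.node [(63, 1, 1)] (.node [] .nil (.node [(222, (-1), 1)] .nil .nil)) (.node [(141, 1, 1)] .nil .nil)) (.node [] (.node [(110, 1, 1)] .nil .nil) .nil))) (.node [(20, (-1), 1)] (.node [(27, (-1), 1)] (.node [(60, (-1), 1)] (.node [] .nil (.node [(220, 1, 1)] .nil .nil)) (.node [(1, 1, 1), (3, 1, 1), (4, 1, 1), (5, 1, 1), (6, 1, 1), (153, (-1), 2)] .nil .nil)) (.node [] (.node [(107, (-1), 1)] .nil .nil) .nil)) (.node [(49, (-1), 1)] (.node [] (.node [] .nil (.node [(225, 1, 1)] .nil .nil)) (.node [] (.node [(189, (-1), 1)] .nil .nil) .nil)) (.node [] .nil (.node [(152, (-1), 1)] .nil .nil)))))))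
def X146 : Tr (List (ℕ × ℤ × ℕ)) := (.node [] (.node [(154, (-1), 1)] (.node [] (.node [(154, (-1), 1)] (.node [] (.node [(52, 1, 1)] (.node [] (.node [(153, (-1), 1)] .nil .nil) .nil) .nil) (.node [] (.node [] (.node [(159, (-1), 1)] .nil .nil) .nil) (.node [] (.node [(191, (-1), 1)] .nil .nil) .nil))) (.node [] (.node [(62, 1, 1)] (.node [] .nil (.node [(221, (-1), 1)] .nil .nil)) (.node [(130, 1, 1)] .nil .nil)) (.node [] (.node [(109, 1, 1)] .nil .nil) .nil))) (.node [] (.node [] (.node [(58, 1, 1)] (.node [(82, 1, 1)] .nil .nil) (.node [] .nil (.node [(233, (-1), 1)] .nil .nil))) (.node [] (.node [] (.node [(169, (-1), 1)] .nil .nil) .nil) .nil)) (.node [] (.node [] (.node [] .nil (.node [(224, (-1), 1)] .nil .nil)) (.node [] (.node [(181, (-1), 1)] .nil .nil) .nil)) .nil))) (.node [] (.node [] (.node [] (.node [] (.node [(81, 1, 1)] .nil (.node [(216, (-1), 1)] .nil .nil)) .nil) (.node [] (.node [] (.node [(166, (-1), 1)] .nil .nil)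 .nil) (.node [(149, (-1), 1)] .nil .nil))) (.node [] (.node [(63, 1, 1)] .nil (.node [(137, 1, 1)] .nil .nil)) (.node [] (.node [(110, 1, 1)] .nil .nil) .nil))) (.node [] (.node [] (.node [] (.node [] .nil (.node [(220, (-1), 1)] .nil .nil)) (.node [(1, 1, 1), (3, 1, 1), (4, 1, 1), (5, 1, 1), (6, 1, 1), (7, 1, 1), (154, (-1), 2)] .nil .nil)) .nil) (.node [(47, 1, 1)] (.node [] (.node [] .nil (.node [(225, (-1), 1)] .nil .nil)) (.node [] (.node [(188, (-1), 1)] .nil .nil) .nil)) (.node [] .nil (.node [(152, (-1), 1)] .nil .nil)))))) (.node [(154, 1, 1)] (.node [] (.node [(15, (-1), 1)] (.node [] (.node [(53, 1, 1)] (.node [(80, 1, 1)] .nil (.node [(214, (-1), 1)] .nil .nil)) (.node [(112, 1, 1)] .nil .nil)) (.node [] (.node [] (.node [(163, (-1), 1)] .nil .nil) (.node [(226, (-1), 1)] .nil .nil)) (.node [] .nil (.node [(247, 1, 1)] .nil .nil)))) (.node [] (.node [] .nil (.node [(133, 1, 1)] .nil .nil)) .nil)) (.node [] (.node [] (.node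 [(59, 1, 1)] (.node [] .nil (.node [(219, (-1), 1)] .nil .nil)) .nil) .nil) (.node [] (.node [] .nil (.node [] (.node [(185, (-1), 1)] .nil .nil) .nil)) (.node [] (.node [(111, 1, 1)] .nil .nil) .nil)))) (.node [] (.node [] (.node [] (.node [(56, 1, 1)] (.node [] .nil (.node [(217, (-1), 1)] .nil .nil)) .nil) (.node [] (.node [] (.node [(168, (-1), 1)] .nil .nil) .nil) .nil)) (.node [] (.node [] (.node [(84, 1, 1)] .nil (.node [(223, (-1), 1)] .nil .nil)) (.node [(142, 1, 1)] .nil (.node [(241, (-1), 1)] .nil .nil))) (.node [] .nil (.node [(151, (-1), 1)] .nil .nil)))) (.node [(21, 1, 1)] (.node [(28, 1, 1)] (.node [(61, 1, 1)] (.node [(83, 1, 1)] .nil .nil) (.node [(128, 1, 1)] .nil .nil)) (.node [] (.node [(108, 1, 1)] .nil .nil) (.node [(150, (-1), 1)] .nil .nil))) (.node [(50, 1, 1)] (.node [] .nil (.node [] (.node [(190, (-1), 1)] .nil .nil) .nil)) .nil)))))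
def X147 : Tr (List (ℕ × ℤ × ℕ)) := (.node [(155, 1, 1)] (.node [(155, (-1), 1)] (.node [] (.node [] (.node [] (.node [] (.node [(82, (-1), 1)] .nil (.node [(217, 1, 1)] .nil .nil)) (.node [(116, (-1), 1)] .nil .nil)) (.node [] .nil (.node [(149, 1, 1)] (.node [(194, 1, 1)] .nil .nil) (.node [(243, (-1), 1)] .nil .nil)))) (.node [] (.node [(65, (-1), 1)] (.node [] (.node [(157, (-1), 1)] .nil .nil) .nil) .nil) .nil)) (.node [] (.node [] (.node [] .nil (.node [(121, 1, 1)] .nil .nil)) (.node [] (.node [] .nil (.node [(230, 1, 1)] .nil .nil)) .nil)) (.node [(46, (-1), 1)] (.node [(69, (-1), 1)] (.node [] (.node [(160, 1, 1)] .nil .nil) .nil) .nil) (.node [] .nil (.node [] (.node [(213, 1, 1)] .nil .nil) .nil))))) (.node [] (.node [] (.node [] (.node [] .nil (.node [(119, 1, 1)] .nil .nil)) (.node [] (.node [] .nil (.node [(228, 1, 1)] .nil .nil)) .nil)) (.node [(44, (-1), 1)] (.node [(67, (-1), 1)] (.node [] (.node [(159, (-1), 1)] .nil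 .nil) .nil) (.node [(143, 1, 1)] .nil .nil)) .nil)) (.node [(17, 1, 1)] .nil (.node [] (.node [] (.node [] (.node [(162, 1, 1)] .nil .nil) .nil) (.node [] (.node [(192, 1, 1)] .nil .nil) .nil)) (.node [(80, (-1), 1)] (.node [(114, (-1), 1)] .nil .nil) (.node [] (.node [(215, 1, 1)] .nil .nil) .nil)))))) (.node [(155, (-1), 1)] (.node [(155, 1, 1)] (.node [] (.node [] (.node [] .nil (.node [(118, 1, 1)] .nil .nil)) (.node [] (.node [] .nil (.node [(227, 1, 1)] .nil .nil)) (.node [(150, (-1), 1)] (.node [(195, 1, 1)] .nil .nil) .nil))) (.node [] (.node [(66, (-1), 1)] (.node [] (.node [(158, (-1), 1)] .nil .nil) .nil) .nil) .nil)) (.node [(16, 1, 1)] (.node [] (.node [] .nil (.node [(1, 1, 1), (2, 1, 1), (3, 1, 1), (155, (-1), 2)] .nil .nil)) .nil) (.node [(47, (-1), 1)] (.node [] (.node [] (.node [(161, 1, 1)] .nil .nil) .nil) .nil) (.node [(79, (-1), 1)] (.node [(113, (-1), 1)] .nil .nil) (.node [] (.node [(214, 1, 1)] .nil .nil) .nil)))))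 (.node [] (.node [] (.node [] (.node [] .nil (.node [(120, 1, 1)] .nil (.node [(233, 1, 1)] .nil .nil))) (.node [] (.node [] .nil (.node [(229, 1, 1)] .nil .nil)) .nil)) (.node [(45, (-1), 1)] (.node [(68, (-1), 1)] .nil (.node [(144, (-1), 1)] (.node [(177, 1, 1)] .nil .nil) .nil)) (.node [] .nil (.node [] (.node [(212, 1, 1)] .nil .nil) .nil)))) (.node [] (.node [(29, (-1), 1)] (.node [(64, (-1), 1)] (.node [] (.node [(156, (-1), 1)] .nil .nil) .nil) .nil) .nil) (.node [] (.node [] (.node [(85, (-1), 1)] (.node [(163, 1, 1)] .nil .nil) .nil) (.node [] (.node [(193, 1, 1)] .nil .nil) (.node [(242, (-1), 1)] .nil .nil))) (.node [(81, (-1), 1)] (.node [(115, (-1), 1)] .nil .nil) (.node [] (.node [(216, 1, 1)] .nil .nil) .nil)))))))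
def X148 : Tr (List (ℕ × ℤ × ℕ)) := (.node [(156, 1, 1)] (.node [(156, (-1), 1)] (.node [(156, 1, 1)] (.node [] (.node [] (.node [] (.node [(83, 1, 1)] .nil (.node [(220, 1, 1)] .nil .nil)) (.node [(117, 1, 1)] .nil .nil)) (.node [] (.node [] .nil (.node [(229, (-1), 1)] .nil .nil)) (.node [] (.node [(197, 1, 1)] .nil .nil) (.node [(244, (-1), 1)] .nil .nil)))) (.node [] .nil (.node [] .nil (.node [] (.node [(212, (-1), 1)] .nil .nil) .nil)))) (.node [(16, 1, 1)] (.node [] (.node [(64, (-1), 1)] (.node [] (.node [(157, (-1), 1)] .nil .nil) .nil) (.node [(1, 1, 1), (2, 1, 1), (3, 1, 1), (4, 1, 1), (156, (-1), 2)] .nil .nil)) (.node [] (.node [] .nil (.node [(231, 1, 1)] .nil .nil)) .nil)) (.node [(49, 1, 1)] (.node [(72, 1, 1)] .nil .nil) (.node [(81, (-1), 1)] (.node [(115, (-1), 1)] .nil .nil) .nil)))) (.node [(156, 1, 1)] (.node [] (.node [] (.node [] .nil (.node [(123, 1, 1)] .nil (.node [(233, (-1), 1)] .nil .nil))) .nil) (.node []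 (.node [(70, 1, 1)] .nil .nil) (.node [(79, (-1), 1)] (.node [(113, (-1), 1)] .nil .nil) (.node [(155, (-1), 1)] (.node [(214, (-1), 1)] .nil .nil) .nil)))) (.node [(18, (-1), 1)] (.node [] (.node [(66, (-1), 1)] (.node [] (.node [(159, (-1), 1)] .nil .nil) .nil) .nil) .nil) (.node [] (.node [] (.node [(85, (-1), 1)] (.node [(165, 1, 1)] .nil .nil) (.node [(227, (-1), 1)] .nil .nil)) (.node [] .nil (.node [(242, 1, 1)] .nil .nil))) (.node [] .nil (.node [] (.node [(218, 1, 1)] .nil .nil) .nil)))))) (.node [(156, (-1), 1)] (.node [(156, (-1), 1)] (.node [] (.node [] (.node [] .nil (.node [(122, 1, 1)] .nil .nil)) (.node [] .nil (.node [(151, (-1), 1)] (.node [(198, 1, 1)] .nil .nil) .nil))) (.node [(44, (-1), 1)] (.node [] .nil (.node [(143, 1, 1)] .nil .nil)) (.node [] .nil (.node [] (.node [(213, (-1), 1)] .nil .nil) .nil)))) (.node [] (.node [] (.node [(65, (-1), 1)] (.node [] (.node [(158, (-1), 1)] .nil .nil) .nil) (.node [(134, 1,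 1)] .nil .nil)) .nil) (.node [(50, 1, 1)] (.node [] (.node [] (.node [(164, 1, 1)] .nil .nil) .nil) (.node [] (.node [(192, (-1), 1)] .nil .nil) .nil)) .nil))) (.node [] (.node [] (.node [] (.node [] .nil (.node [(124, 1, 1)] .nil .nil)) .nil) (.node [(48, 1, 1)] (.node [(71, 1, 1)] (.node [] (.node [(160, (-1), 1)] .nil .nil) .nil) (.node [(145, (-1), 1)] (.node [(178, 1, 1)] .nil .nil) .nil)) (.node [(80, (-1), 1)] (.node [(114, (-1), 1)] .nil .nil) .nil))) (.node [] (.node [(30, 1, 1)] .nil .nil) (.node [] (.node [] (.node [] (.node [(166, 1, 1)] .nil .nil) (.node [(228, (-1), 1)] .nil .nil)) (.node [(149, 1, 1)] (.node [(196, 1, 1)] .nil .nil) .nil)) (.node [] .nil (.node [] (.node [(219, 1, 1)] .nil .nil) .nil)))))))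
def X149 : Tr (List (ℕ × ℤ × ℕ)) := (.node [(157, 1, 1)] (.node [(157, (-1), 1)] (.node [(157, 1, 1)] (.node [] (.node [] (.node [] (.node [] .nil (.node [(221, 1, 1)] .nil .nil)) .nil) (.node [] (.node [] .nil (.node [(230, (-1), 1)] .nil .nil)) (.node [] (.node [(199, 1, 1)] .nil .nil) (.node [(245, (-1), 1)] .nil .nil)))) (.node [] (.node [(70, 1, 1)] .nil (.node [(143, 1, 1)] .nil .nil)) (.node [(79, (-1), 1)] (.node [(113, (-1), 1)] .nil .nil) .nil))) (.node [] (.node [] (.node [] .nil (.node [(131, 1, 1)] .nil .nil)) .nil) (.node [(51, (-1), 1)] (.node [(73, (-1), 1)] (.node [] (.node [(164, (-1), 1)] .nil .nil) (.node [(227, 1, 1)] .nil .nil)) .nil) (.node [(82, 1, 1)] (.node [(116, 1, 1)] .nil .nil) (.node [] (.node [(218, (-1), 1)] .nil .nil) .nil))))) (.node [(157, (-1), 1)] (.node [] (.node [] (.node [] (.node [] (.node [(158, (-1), 1)] .nil .nil) .nil) (.node [(126, 1, 1)] .nil .nil)) .nil) (.node [(48, 1, 1)] .nil (.node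 [] .nil (.node [] (.node [(216, (-1), 1)] .nil .nil) .nil)))) (.node [(19, 1, 1)] (.node [] (.node [(68, 1, 1)] .nil .nil) .nil) (.node [] (.node [] (.node [] (.node [(167, 1, 1)] .nil .nil) .nil) (.node [(149, 1, 1)] (.node [(196, (-1), 1)] .nil .nil) .nil)) .nil)))) (.node [(157, (-1), 1)] (.node [] (.node [] (.node [] (.node [] .nil (.node [(125, 1, 1)] .nil (.node [(233, 1, 1)] .nil .nil))) (.node [] .nil (.node [(152, (-1), 1)] (.node [(200, 1, 1)] .nil .nil) .nil))) (.node [(45, 1, 1)] (.node [(71, 1, 1)] .nil .nil) (.node [(80, (-1), 1)] (.node [(114, (-1), 1)] .nil .nil) (.node [(155, (-1), 1)] (.node [(215, (-1), 1)] .nil .nil) .nil)))) (.node [] (.node [] (.node [(67, 1, 1)] .nil (.node [(135, 1, 1)] .nil .nil)) .nil) (.node [(52, (-1), 1)] (.node [] (.node [(85, (-1), 1)] .nil (.node [(228, 1, 1)] .nil .nil)) (.node [] (.node [(193, (-1), 1)] .nil .nil) (.node [(242, (-1), 1)] .nil .nil))) (.node [] .nil (.node [(156, (-1),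 1)] (.node [(219, (-1), 1)] .nil .nil) .nil))))) (.node [(157, 1, 1)] (.node [(16, 1, 1)] (.node [] (.node [(64, (-1), 1)] (.node [] (.node [(159, (-1), 1)] .nil .nil) .nil) (.node [(1, 1, 1), (2, 1, 1), (3, 1, 1), (4, 1, 1), (5, 1, 1), (157, (-1), 2)] .nil .nil)) (.node [] (.node [] .nil (.node [(231, (-1), 1)] .nil .nil)) .nil)) (.node [] (.node [] (.node [] (.node [(161, (-1), 1)] .nil .nil) .nil) (.node [(146, (-1), 1)] (.node [(179, 1, 1)] .nil .nil) .nil)) .nil)) (.node [] (.node [(31, (-1), 1)] .nil (.node [] .nil (.node [] (.node [(212, 1, 1)] .nil .nil) .nil))) (.node [] (.node [] (.node [] (.node [(168, 1, 1)] .nil .nil) .nil) .nil) (.node [(83, 1, 1)] (.node [(117, 1, 1)] .nil .nil) .nil))))))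
def X150 : Tr (List (ℕ × ℤ × ℕ)) := (.node [(158, 1, 1)] (.node [(158, (-1), 1)] (.node [(158, 1, 1)] (.node [(158, 1, 1)] (.node [] (.node [] .nil (.node [] .nil (.node [(233, (-1), 1)] .nil .nil))) (.node [] .nil (.node [] .nil (.node [(246, (-1), 1)] .nil .nil)))) (.node [] .nil (.node [] .nil (.node [(155, (-1), 1)] (.node [(215, 1, 1)] .nil .nil) .nil)))) (.node [] (.node [] (.node [(67, 1, 1)] .nil (.node [(132, 1, 1)] .nil .nil)) .nil) (.node [] (.node [] (.node [(85, (-1), 1)] (.node [(165, (-1), 1)] .nil .nil) .nil) (.node [] .nil (.node [(242, 1, 1)] .nil .nil))) (.node [] .nil (.node [(156, (-1), 1)] .nil .nil))))) (.node [] (.node [(16, 1, 1)] (.node [] (.node [] .nil (.node [(1, 1, 1), (2, 1, 1), (3, 1, 1), (4, 1, 1), (5, 1, 1), (6, 1, 1), (158, (-1), 2)] .nil .nil)) (.node [] (.node [] .nil (.node [(231, 1, 1)] .nil .nil)) .nil)) (.node [(49, (-1), 1)] .nil (.node [] .nil (.node [] (.node [(217, (-1), 1)] .nil .nil) .nil))))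 (.node [(20, (-1), 1)] (.node [] (.node [(69, (-1), 1)] .nil .nil) .nil) (.node [] (.node [] .nil (.node [] (.node [(197, (-1), 1)] .nil .nil) .nil)) (.node [(83, 1, 1)] (.node [(117, 1, 1)] .nil .nil) .nil))))) (.node [(158, (-1), 1)] (.node [] (.node [] (.node [] (.node [] (.node [] (.node [(159, (-1), 1)] .nil .nil) .nil) (.node [(127, 1, 1)] .nil .nil)) (.node [] .nil (.node [(153, (-1), 1)] (.node [(201, 1, 1)] .nil .nil) .nil))) (.node [(46, (-1), 1)] (.node [(72, (-1), 1)] .nil .nil) (.node [(81, 1, 1)] (.node [(115, 1, 1)] .nil .nil) .nil))) (.node [] (.node [] (.node [] .nil (.node [(136, 1, 1)] .nil .nil)) .nil) (.node [(53, 1, 1)] (.node [] (.node [] (.node [(167, (-1), 1)] .nil .nil) (.node [(229, 1, 1)] .nil .nil)) (.node [(149, 1, 1)] (.node [(194, (-1), 1)] .nil .nil) .nil)) (.node [] .nil (.node [] (.node [(220, (-1), 1)] .nil .nil) .nil))))) (.node [(158, (-1), 1)] (.node [] (.node [] (.node [(65, 1, 1)] .nil (.node [(129,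 1, 1)] .nil .nil)) .nil) (.node [(51, (-1), 1)] (.node [(73, (-1), 1)] (.node [] (.node [(162, (-1), 1)] .nil .nil) (.node [(227, (-1), 1)] .nil .nil)) (.node [(147, (-1), 1)] (.node [(180, 1, 1)] .nil .nil) .nil)) (.node [(82, 1, 1)] (.node [(116, 1, 1)] .nil .nil) (.node [] (.node [(218, 1, 1)] .nil .nil) .nil)))) (.node [] (.node [(32, 1, 1)] (.node [(70, 1, 1)] .nil (.node [(143, 1, 1)] .nil .nil)) (.node [(79, (-1), 1)] (.node [(113, (-1), 1)] .nil .nil) (.node [] (.node [(213, 1, 1)] .nil .nil) .nil))) (.node [] (.node [] (.node [] (.node [(169, 1, 1)] .nil .nil) (.node [(230, 1, 1)] .nil .nil)) (.node [] (.node [(199, (-1), 1)] .nil .nil) .nil)) (.node [] .nil (.node [(157, (-1), 1)] (.node [(221, (-1), 1)] .nil .nil) .nil)))))))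
def X151 : Tr (List (ℕ × ℤ × ℕ)) := (.node [(159, 1, 1)] (.node [(159, (-1), 1)] (.node [(159, 1, 1)] (.node [(159, (-1), 1)] (.node [] (.node [] (.node [] (.node [(158, (-1), 1)] .nil .nil) .nil) .nil) (.node [] .nil (.node [] (.node [(201, (-1), 1)] .nil .nil) (.node [(247, (-1), 1)] .nil .nil)))) (.node [] (.node [(72, (-1), 1)] .nil .nil) (.node [(81, 1, 1)] (.node [(115, 1, 1)] .nil .nil) (.node [] (.node [(216, 1, 1)] .nil .nil) .nil)))) (.node [] (.node [] (.node [(68, (-1), 1)] .nil (.node [(133, 1, 1)] .nil .nil)) .nil) (.node [(53, 1, 1)] (.node [] (.node [] (.node [(166, (-1), 1)] .nil .nil) (.node [(229, (-1), 1)] .nil .nil)) (.node [(149, 1, 1)] .nil .nil)) (.node [] .nil (.node [] (.node [(220, 1, 1)] .nil .nil) .nil))))) (.node [] (.node [] (.node [] (.node [] .nil (.node [(128, 1, 1)] .nil .nil)) .nil) (.node [(50, 1, 1)] (.node [(73, (-1), 1)] .nil .nil) (.node [(82, 1, 1)] (.node [(116, 1, 1)] .nil .nil) .nil))) (.node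 [(21, 1, 1)] (.node [] (.node [] .nil (.node [(143, 1, 1)] .nil .nil)) .nil) (.node [] (.node [] (.node [] (.node [(169, (-1), 1)] .nil .nil) (.node [(230, (-1), 1)] .nil .nil)) (.node [] (.node [(198, (-1), 1)] .nil .nil) .nil)) (.node [] .nil (.node [(157, (-1), 1)] (.node [(221, 1, 1)] .nil .nil) .nil)))))) (.node [(159, (-1), 1)] (.node [] (.node [(16, 1, 1)] (.node [] (.node [] .nil (.node [(1, 1, 1), (2, 1, 1), (3, 1, 1), (4, 1, 1), (5, 1, 1), (6, 1, 1), (7, 1, 1), (159, (-1), 2)] .nil .nil)) (.node [] (.node [] .nil (.node [(231, (-1), 1)] .nil .nil)) (.node [(154, (-1), 1)] .nil .nil))) (.node [(47, 1, 1)] .nil (.node [] .nil (.node [] (.node [(217, 1, 1)] .nil .nil) .nil)))) (.node [] (.node [] (.node [(69, (-1), 1)] .nil (.node [(137, 1, 1)] .nil .nil)) .nil) (.node [] (.node [] (.node [] (.node [(168, (-1), 1)] .nil .nil) .nil) (.node [] (.node [(195, (-1), 1)] .nil .nil) .nil)) (.node [(83, 1, 1)] (.node [(117, 1, 1)] .nil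 .nil) .nil)))) (.node [] (.node [] (.node [] (.node [(66, (-1), 1)] .nil (.node [(130, 1, 1)] .nil .nil)) .nil) (.node [(52, 1, 1)] (.node [] (.node [(85, (-1), 1)] (.node [(163, (-1), 1)] .nil .nil) (.node [(228, (-1), 1)] .nil .nil)) (.node [(148, (-1), 1)] (.node [(181, 1, 1)] .nil .nil) (.node [(242, (-1), 1)] .nil .nil))) (.node [] .nil (.node [(156, (-1), 1)] (.node [(219, 1, 1)] .nil .nil) .nil)))) (.node [] (.node [(33, (-1), 1)] (.node [(71, (-1), 1)] .nil .nil) (.node [(80, 1, 1)] (.node [(114, 1, 1)] .nil .nil) (.node [(155, (-1), 1)] (.node [(214, 1, 1)] .nil .nil) .nil))) (.node [] (.node [] .nil (.node [] (.node [(200, (-1), 1)] .nil .nil) .nil)) (.node [] (.node [] .nil (.node [(233, 1, 1)] .nil .nil)) .nil))))))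
def X152 : Tr (List (ℕ × ℤ × ℕ)) := (.node [(160, 1, 1)] (.node [] (.node [(160, (-1), 1)] (.node [] (.node [] (.node [(64, (-1), 1)] (.node [(84, (-1), 1)] .nil (.node [(224, 1, 1)] .nil .nil)) (.node [(1, 1, 1), (2, 1, 1), (3, 2, 1), (4, 1, 1), (160, (-1), 2)] .nil .nil)) (.node [] .nil (.node [(151, (-1), 1)] (.node [(203, 1, 1)] .nil .nil) .nil))) (.node [(44, (-1), 1)] (.node [] (.node [] (.node [(164, 1, 1)] .nil .nil) (.node [(227, 1, 1)] .nil .nil)) .nil) .nil)) (.node [(17, (-1), 1)] (.node [] (.node [] (.node [] (.node [(161, (-1), 1)] .nil .nil) .nil) (.node [(138, 1, 1)] .nil .nil)) (.node [(79, (-1), 1)] (.node [] .nil (.node [(232, 1, 1)] .nil .nil)) (.node [] (.node [(212, 1, 1)] .nil .nil) .nil))) (.node [(55, (-1), 1)] (.node [(76, (-1), 1)] .nil (.node [] (.node [(192, 1, 1)] .nil .nil) .nil)) (.node [] (.node [(120, (-1), 1)] .nil .nil) .nil)))) (.node [(160, 1, 1)] (.node [] (.node [] (.node [(66, (-1), 1)] .nil .nil)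 .nil) (.node [] (.node [(74, (-1), 1)] (.node [(85, (-1), 1)] (.node [(166, 1, 1)] .nil .nil) (.node [(229, 1, 1)] .nil .nil)) (.node [(145, (-1), 1)] .nil .nil)) (.node [] (.node [(118, (-1), 1)] .nil .nil) .nil))) (.node [] (.node [] (.node [] (.node [] (.node [(163, (-1), 1)] .nil .nil) .nil) .nil) (.node [(81, (-1), 1)] .nil (.node [(156, (-1), 1)] (.node [(214, 1, 1)] .nil .nil) .nil))) (.node [] (.node [] .nil (.node [] .nil (.node [(243, 1, 1)] .nil .nil))) (.node [] (.node [(123, 1, 1)] .nil (.node [(233, 1, 1)] .nil .nil)) (.node [] (.node [(222, 1, 1)] .nil .nil) .nil)))))) (.node [] (.node [] (.node [] (.node [] (.node [(65, (-1), 1)] .nil .nil) (.node [] .nil (.node [] (.node [(204, 1, 1)] .nil .nil) .nil))) (.node [] (.node [] (.node [] (.node [(165, 1, 1)] .nil .nil) (.node [(228, 1, 1)] .nil .nil)) (.node [(144, 1, 1)] .nil .nil)) .nil)) (.node [(18, (-1), 1)] (.node [] (.node [] (.node [] (.node [(162, (-1), 1)] .nil .nil)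 .nil) (.node [(139, (-1), 1)] .nil .nil)) (.node [(80, (-1), 1)] .nil (.node [(155, 1, 1)] (.node [(213, 1, 1)] .nil .nil) .nil))) (.node [(56, (-1), 1)] .nil (.node [] (.node [(122, 1, 1)] .nil .nil) .nil)))) (.node [] (.node [] .nil (.node [(54, (-1), 1)] (.node [(75, (-1), 1)] .nil (.node [] (.node [(182, 1, 1)] .nil .nil) .nil)) (.node [] (.node [(119, (-1), 1)] .nil .nil) .nil))) (.node [] (.node [(34, (-1), 1)] .nil .nil) (.node [] (.node [] .nil (.node [(150, 1, 1)] (.node [(202, 1, 1)] .nil .nil) (.node [(244, 1, 1)] .nil .nil))) (.node [] (.node [(124, 1, 1)] .nil .nil) (.node [] (.node [(223, 1, 1)] .nil .nil) .nil)))))))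
def X153 : Tr (List (ℕ × ℤ × ℕ)) := (.node [(161, 1, 1)] (.node [] (.node [(161, (-1), 1)] (.node [] (.node [] (.node [] (.node [] .nil (.node [(225, 1, 1)] .nil .nil)) (.node [(131, 1, 1)] .nil .nil)) (.node [] .nil (.node [(152, (-1), 1)] (.node [(205, 1, 1)] .nil .nil) .nil))) (.node [(45, 1, 1)] (.node [(74, (-1), 1)] .nil (.node [(144, 1, 1)] .nil .nil)) (.node [] (.node [(118, (-1), 1)] .nil .nil) .nil))) (.node [] (.node [] .nil (.node [] .nil (.node [(155, 1, 1)] .nil .nil))) (.node [(57, 1, 1)] (.node [(77, 1, 1)] .nil (.node [] (.node [(193, 1, 1)] .nil .nil) .nil)) (.node [] (.node [(121, 1, 1)] .nil .nil) (.node [] (.node [(222, (-1), 1)] .nil .nil) .nil))))) (.node [(161, (-1), 1)] (.node [] (.node [] (.node [(68, 1, 1)] (.node [] (.node [(162, (-1), 1)] .nil .nil) .nil) .nil) (.node [(79, (-1), 1)] .nil .nil)) (.node [(54, (-1), 1)] (.node [] (.node [] (.node [(168, 1, 1)] .nil .nil) (.node [(230, 1, 1)] .nil .nil)) (.node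 [(146, (-1), 1)] .nil .nil)) .nil)) (.node [] (.node [] (.node [] (.node [] .nil (.node [(227, (-1), 1)] .nil .nil)) .nil) (.node [(82, 1, 1)] .nil (.node [(157, (-1), 1)] (.node [(216, 1, 1)] .nil .nil) .nil))) (.node [] (.node [] .nil (.node [(150, 1, 1)] (.node [(202, (-1), 1)] .nil .nil) .nil)) (.node [] (.node [(126, 1, 1)] .nil .nil) .nil))))) (.node [] (.node [(161, 1, 1)] (.node [] (.node [] (.node [(67, 1, 1)] .nil .nil) (.node [] .nil (.node [] (.node [(206, 1, 1)] .nil .nil) .nil))) (.node [] (.node [(75, (-1), 1)] (.node [(85, (-1), 1)] (.node [(167, 1, 1)] .nil .nil) .nil) .nil) (.node [] (.node [(119, (-1), 1)] .nil .nil) .nil))) (.node [(19, 1, 1)] (.node [] (.node [] .nil (.node [(140, (-1), 1)] .nil .nil)) (.node [] .nil (.node [] (.node [(215, 1, 1)] .nil .nil) .nil))) (.node [(58, 1, 1)] (.node [] .nil (.node [] .nil (.node [(243, (-1), 1)] .nil .nil))) (.node [] (.node [(125, 1, 1)] .nil (.node [(233, (-1), 1)] .nil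 .nil)) (.node [(160, (-1), 1)] (.node [(223, (-1), 1)] .nil .nil) .nil))))) (.node [(161, 1, 1)] (.node [(17, (-1), 1)] (.node [] (.node [] (.node [] (.node [(163, (-1), 1)] .nil .nil) .nil) (.node [(138, 1, 1)] .nil .nil)) (.node [(80, (-1), 1)] (.node [] .nil (.node [(232, (-1), 1)] .nil .nil)) (.node [] (.node [(212, (-1), 1)] .nil .nil) .nil))) (.node [] (.node [] .nil (.node [] (.node [(183, 1, 1)] .nil .nil) .nil)) .nil)) (.node [] (.node [(35, 1, 1)] (.node [] (.node [] (.node [(164, (-1), 1)] .nil .nil) (.node [(228, (-1), 1)] .nil .nil)) .nil) .nil) (.node [(64, (-1), 1)] (.node [] .nil (.node [] .nil (.node [(245, 1, 1)] .nil .nil))) (.node [(84, (-1), 1)] (.node [(1, 1, 1), (2, 1, 1), (3, 2, 1), (4, 1, 1), (5, 1, 1), (161, (-1), 2)] .nil .nil) .nil))))))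
def X154 : Tr (List (ℕ × ℤ × ℕ)) := (.node [(162, 1, 1)] (.node [] (.node [(162, (-1), 1)] (.node [(162, 1, 1)] (.node [] (.node [(67, 1, 1)] .nil (.node [(132, 1, 1)] .nil .nil)) (.node [] .nil (.node [(153, (-1), 1)] .nil .nil))) (.node [(46, (-1), 1)] (.node [] (.node [(85, (-1), 1)] (.node [(167, (-1), 1)] .nil .nil) .nil) .nil) .nil)) (.node [] (.node [] .nil (.node [] .nil (.node [] (.node [(215, (-1), 1)] .nil .nil) .nil))) (.node [] (.node [] .nil (.node [] (.node [(194, 1, 1)] .nil .nil) (.node [(243, 1, 1)] .nil .nil))) (.node [] (.node [] .nil (.node [(233, 1, 1)] .nil .nil)) (.node [(160, (-1), 1)] .nil .nil))))) (.node [] (.node [(17, (-1), 1)] (.node [] (.node [(69, (-1), 1)] .nil (.node [(138, 1, 1)] .nil .nil)) (.node [] (.node [] .nil (.node [(232, 1, 1)] .nil .nil)) .nil)) (.node [(55, 1, 1)] (.node [] (.node [] (.node [(169, 1, 1)] .nil .nil) .nil) (.node [(147, (-1), 1)] .nil .nil)) .nil)) (.node [] (.node [] .nil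 (.node [] .nil (.node [(158, (-1), 1)] (.node [(217, 1, 1)] .nil .nil) .nil))) (.node [] (.node [] .nil (.node [] (.node [(203, (-1), 1)] .nil .nil) .nil)) (.node [(84, (-1), 1)] (.node [(1, 1, 1), (2, 1, 1), (3, 2, 1), (4, 1, 1), (5, 1, 1), (6, 1, 1), (162, (-1), 2)] .nil .nil) .nil))))) (.node [] (.node [(162, 1, 1)] (.node [] (.node [] (.node [] (.node [] (.node [(163, (-1), 1)] .nil .nil) .nil) .nil) (.node [(79, (-1), 1)] .nil (.node [] (.node [(207, 1, 1)] .nil .nil) .nil))) (.node [] (.node [(76, 1, 1)] (.node [] .nil (.node [(230, (-1), 1)] .nil .nil)) .nil) (.node [] (.node [(120, 1, 1)] .nil .nil) .nil))) (.node [(20, (-1), 1)] (.node [] (.node [] (.node [] .nil (.node [(227, 1, 1)] .nil .nil)) (.node [(141, (-1), 1)] .nil .nil)) (.node [(82, 1, 1)] .nil .nil)) (.node [(59, (-1), 1)] (.node [] .nil (.node [(150, 1, 1)] .nil .nil)) (.node [] (.node [(127, 1, 1)] .nil .nil) (.node [] (.node [(224, (-1), 1)] .nil .nil) .nil)))))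 (.node [(162, (-1), 1)] (.node [] (.node [] .nil (.node [(81, 1, 1)] .nil (.node [(155, 1, 1)] (.node [(213, (-1), 1)] .nil .nil) .nil))) (.node [(57, 1, 1)] (.node [(77, 1, 1)] .nil (.node [] (.node [(184, 1, 1)] .nil .nil) .nil)) (.node [] (.node [(121, 1, 1)] .nil .nil) (.node [] (.node [(222, 1, 1)] .nil .nil) .nil)))) (.node [] (.node [(36, (-1), 1)] (.node [(74, (-1), 1)] (.node [] (.node [(165, (-1), 1)] .nil .nil) (.node [(229, (-1), 1)] .nil .nil)) (.node [(144, 1, 1)] .nil .nil)) (.node [] (.node [(118, (-1), 1)] .nil .nil) .nil)) (.node [(65, 1, 1)] (.node [] .nil (.node [] (.node [(205, (-1), 1)] .nil .nil) (.node [(246, 1, 1)] .nil .nil))) (.node [] (.node [(129, 1, 1)] .nil .nil) (.node [(161, (-1), 1)] (.node [(225, (-1), 1)] .nil .nil) .nil)))))))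
def X155 : Tr (List (ℕ × ℤ × ℕ)) := (.node [(163, 1, 1)] (.node [] (.node [(163, (-1), 1)] (.node [(163, (-1), 1)] (.node [] (.node [(68, (-1), 1)] (.node [] (.node [(162, (-1), 1)] .nil .nil) .nil) (.node [(133, 1, 1)] .nil .nil)) (.node [] .nil (.node [(154, (-1), 1)] (.node [(207, (-1), 1)] .nil .nil) .nil))) (.node [(47, 1, 1)] (.node [(76, 1, 1)] (.node [] (.node [(168, (-1), 1)] .nil .nil) (.node [(230, 1, 1)] .nil .nil)) .nil) (.node [] (.node [(120, 1, 1)] .nil .nil) .nil))) (.node [] (.node [] .nil (.node [(82, 1, 1)] .nil (.node [] (.node [(216, (-1), 1)] .nil .nil) .nil))) (.node [(59, (-1), 1)] (.node [] .nil (.node [(150, 1, 1)] (.node [(195, 1, 1)] .nil .nil) .nil)) (.node [] .nil (.node [] (.node [(224, 1, 1)] .nil .nil) .nil))))) (.node [] (.node [] (.node [] .nil (.node [(81, 1, 1)] .nil (.node [(155, 1, 1)] .nil .nil))) (.node [(56, (-1), 1)] (.node [(77, 1, 1)] .nil (.node [(148, (-1), 1)] .nil .nil)) (.node [] (.node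 [(121, 1, 1)] .nil .nil) .nil))) (.node [] (.node [] (.node [] (.node [] .nil (.node [(229, 1, 1)] .nil .nil)) (.node [(144, 1, 1)] .nil .nil)) (.node [] .nil (.node [(159, (-1), 1)] .nil .nil))) (.node [] (.node [] .nil (.node [] (.node [(204, (-1), 1)] .nil .nil) .nil)) (.node [] (.node [(128, 1, 1)] .nil .nil) (.node [(161, (-1), 1)] (.node [(225, 1, 1)] .nil .nil) .nil)))))) (.node [] (.node [(163, 1, 1)] (.node [(17, (-1), 1)] (.node [] (.node [(69, (-1), 1)] .nil (.node [(138, 1, 1)] .nil .nil)) (.node [(80, 1, 1)] (.node [] .nil (.node [(232, (-1), 1)] .nil .nil)) .nil)) (.node [] (.node [] (.node [] (.node [(169, (-1), 1)] .nil .nil) .nil) .nil) .nil)) (.node [(21, 1, 1)] (.node [] (.node [] (.node [] .nil (.node [(228, 1, 1)] .nil .nil)) (.node [(142, (-1), 1)] .nil .nil)) (.node [] .nil (.node [] (.node [(217, (-1), 1)] .nil .nil) .nil))) (.node [] .nil (.node [(84, (-1), 1)] (.node [(1, 1, 1), (2, 1, 1), (3, 2, 1), (4, 1, 1),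 (5, 1, 1), (6, 1, 1), (7, 1, 1), (163, (-1), 2)] .nil .nil) .nil)))) (.node [] (.node [] (.node [] .nil (.node [] .nil (.node [] (.node [(214, (-1), 1)] .nil .nil) .nil))) (.node [(58, (-1), 1)] (.node [] .nil (.node [] (.node [(185, 1, 1)] .nil .nil) (.node [(243, (-1), 1)] .nil .nil))) (.node [] (.node [] .nil (.node [(233, (-1), 1)] .nil .nil)) (.node [(160, (-1), 1)] (.node [(223, 1, 1)] .nil .nil) .nil)))) (.node [] (.node [(37, 1, 1)] (.node [(75, 1, 1)] (.node [(85, (-1), 1)] (.node [(166, (-1), 1)] .nil .nil) .nil) .nil) (.node [] (.node [(119, 1, 1)] .nil .nil) .nil)) (.node [(66, (-1), 1)] (.node [] .nil (.node [] (.node [(206, (-1), 1)] .nil .nil) (.node [(247, 1, 1)] .nil .nil))) (.node [] (.node [(130, 1, 1)] .nil .nil) .nil))))))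
def X156 : Tr (List (ℕ × ℤ × ℕ)) := (.node [(164, 1, 1)] (.node [] (.node [] (.node [] (.node [] (.node [] (.node [] .nil (.node [(226, 1, 1)] .nil .nil)) (.node [(135, (-1), 1)] .nil .nil)) (.node [(80, (-1), 1)] (.node [] .nil (.node [(232, 1, 1)] .nil .nil)) (.node [] (.node [(208, 1, 1)] .nil .nil) .nil))) (.node [(48, (-1), 1)] (.node [] .nil (.node [(145, 1, 1)] .nil .nil)) (.node [] (.node [(122, (-1), 1)] .nil .nil) .nil))) (.node [(19, 1, 1)] (.node [] (.node [] (.node [] .nil (.node [(228, 1, 1)] .nil .nil)) (.node [(140, (-1), 1)] .nil .nil)) (.node [] .nil (.node [(156, 1, 1)] .nil .nil))) (.node [(60, (-1), 1)] (.node [(78, (-1), 1)] .nil (.node [] (.node [(196, 1, 1)] .nil .nil) .nil)) (.node [(84, (-1), 1)] (.node [(1, 1, 1), (2, 1, 1), (3, 2, 1), (4, 2, 1), (5, 1, 1), (164, (-1), 2)] .nil .nil) .nil)))) (.node [] (.node [] (.node [] (.node [(71, (-1), 1)] (.node [] (.node [(165, (-1), 1)] .nil .nil) .nil) .nil) (.node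 [] .nil (.node [] (.node [(212, 1, 1)] .nil .nil) .nil))) (.node [] (.node [] (.node [] .nil (.node [(231, 1, 1)] .nil .nil)) .nil) (.node [] (.node [(125, 1, 1)] .nil (.node [(233, 1, 1)] .nil .nil)) (.node [(161, (-1), 1)] (.node [(223, 1, 1)] .nil .nil) .nil)))) (.node [] (.node [] (.node [(75, (-1), 1)] (.node [(85, (-1), 1)] (.node [(168, 1, 1)] .nil .nil) .nil) .nil) (.node [(83, (-1), 1)] .nil (.node [] (.node [(219, 1, 1)] .nil .nil) .nil))) (.node [(64, (-1), 1)] (.node [] .nil (.node [(151, 1, 1)] .nil (.node [(245, (-1), 1)] .nil .nil))) .nil)))) (.node [] (.node [(164, (-1), 1)] (.node [] (.node [] (.node [(70, (-1), 1)] .nil .nil) (.node [] .nil (.node [] (.node [(209, 1, 1)] .nil .nil) .nil))) (.node [(54, (-1), 1)] (.node [] .nil (.node [(146, (-1), 1)] .nil .nil)) (.node [] (.node [(123, (-1), 1)] .nil .nil) (.node [(160, 1, 1)] (.node [(222, 1, 1)] .nil .nil) .nil)))) (.node [] (.node [] (.node [(74, (-1), 1)] (.node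 [] (.node [(167, 1, 1)] .nil .nil) .nil) .nil) (.node [] .nil (.node [(157, (-1), 1)] (.node [(218, 1, 1)] .nil .nil) .nil))) (.node [(61, (-1), 1)] (.node [] .nil (.node [] (.node [(202, 1, 1)] .nil .nil) (.node [(244, (-1), 1)] .nil .nil))) .nil))) (.node [(164, 1, 1)] (.node [(18, 1, 1)] (.node [] (.node [] (.node [] (.node [(166, (-1), 1)] .nil .nil) (.node [(227, 1, 1)] .nil .nil)) (.node [(139, 1, 1)] .nil .nil)) .nil) (.node [] (.node [] .nil (.node [] (.node [(186, 1, 1)] .nil .nil) .nil)) (.node [] (.node [(126, 1, 1)] .nil .nil) .nil))) (.node [] (.node [(38, (-1), 1)] .nil .nil) (.node [] (.node [(79, (-1), 1)] .nil (.node [(152, (-1), 1)] .nil .nil)) (.node [] (.node [(134, 1, 1)] .nil .nil) .nil))))))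
def X157 : Tr (List (ℕ × ℤ × ℕ)) := (.node [(165, 1, 1)] (.node [] (.node [] (.node [(165, 1, 1)] (.node [] (.node [(70, (-1), 1)] .nil (.node [(136, (-1), 1)] .nil .nil)) (.node [(81, 1, 1)] .nil .nil)) (.node [(49, 1, 1)] .nil (.node [] .nil (.node [(160, 1, 1)] (.node [(222, (-1), 1)] .nil .nil) .nil)))) (.node [(20, (-1), 1)] (.node [] (.node [(74, (-1), 1)] (.node [] (.node [(167, (-1), 1)] .nil .nil) (.node [(229, 1, 1)] .nil .nil)) (.node [(141, (-1), 1)] .nil .nil)) (.node [] .nil (.node [] (.node [(218, (-1), 1)] .nil .nil) .nil))) (.node [] (.node [] .nil (.node [] (.node [(197, 1, 1)] .nil .nil) (.node [(244, 1, 1)] .nil .nil))) (.node [] (.node [(129, 1, 1)] .nil .nil) .nil)))) (.node [(165, 1, 1)] (.node [(18, 1, 1)] (.node [] (.node [(72, 1, 1)] (.node [] .nil (.node [(227, (-1), 1)] .nil .nil)) (.node [(139, 1, 1)] .nil .nil)) (.node [] .nil (.node [] (.node [(213, 1, 1)] .nil .nil) .nil))) (.node [] .nil (.node [] (.node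 [(127, 1, 1)] .nil .nil) (.node [(162, (-1), 1)] (.node [(224, 1, 1)] .nil .nil) .nil)))) (.node [] (.node [] (.node [(76, 1, 1)] (.node [] (.node [(169, 1, 1)] .nil .nil) .nil) .nil) (.node [] .nil (.node [] (.node [(220, 1, 1)] .nil .nil) .nil))) (.node [(65, 1, 1)] (.node [(79, (-1), 1)] .nil (.node [] .nil (.node [(246, (-1), 1)] .nil .nil))) (.node [] (.node [(134, 1, 1)] .nil .nil) .nil))))) (.node [] (.node [(165, (-1), 1)] (.node [] (.node [] (.node [] (.node [] (.node [(166, (-1), 1)] .nil .nil) .nil) .nil) (.node [] .nil (.node [] (.node [(210, 1, 1)] .nil .nil) .nil))) (.node [(55, 1, 1)] (.node [] (.node [] .nil (.node [(231, (-1), 1)] .nil .nil)) (.node [(147, (-1), 1)] .nil .nil)) (.node [] (.node [(124, 1, 1)] .nil (.node [(233, (-1), 1)] .nil .nil)) .nil))) (.node [] (.node [] (.node [] (.node [(85, (-1), 1)] .nil .nil) .nil) (.node [(83, (-1), 1)] .nil (.node [(158, (-1), 1)] .nil .nil))) (.node [(62, 1, 1)] (.node []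 .nil (.node [(151, 1, 1)] (.node [(203, 1, 1)] .nil .nil) .nil)) .nil))) (.node [(165, (-1), 1)] (.node [] (.node [] .nil (.node [] .nil (.node [(156, 1, 1)] .nil .nil))) (.node [(60, (-1), 1)] (.node [(78, (-1), 1)] .nil (.node [] (.node [(187, 1, 1)] .nil .nil) .nil)) (.node [(84, (-1), 1)] (.node [(1, 1, 1), (2, 1, 1), (3, 2, 1), (4, 2, 1), (5, 1, 1), (6, 1, 1), (165, (-1), 2)] .nil .nil) .nil))) (.node [] (.node [(39, 1, 1)] (.node [] .nil (.node [(145, 1, 1)] .nil .nil)) (.node [] (.node [(122, (-1), 1)] .nil .nil) .nil)) (.node [] (.node [] (.node [] .nil (.node [(232, (-1), 1)] .nil .nil)) (.node [(153, (-1), 1)] (.node [(208, (-1), 1)] .nil .nil) .nil)) (.node [] .nil (.node [(164, (-1), 1)] (.node [(226, (-1), 1)] .nil .nil) .nil)))))))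
def X158 : Tr (List (ℕ × ℤ × ℕ)) := (.node [(166, 1, 1)] (.node [] (.node [] (.node [(166, (-1), 1)] (.node [] (.node [(71, 1, 1)] (.node [] (.node [(165, (-1), 1)] .nil .nil) .nil) (.node [(137, (-1), 1)] .nil .nil)) (.node [] .nil (.node [] (.node [(210, (-1), 1)] .nil .nil) .nil))) (.node [(50, (-1), 1)] (.node [] (.node [] .nil (.node [(231, 1, 1)] .nil .nil)) .nil) (.node [] (.node [(124, 1, 1)] .nil (.node [(233, 1, 1)] .nil .nil)) (.node [] (.node [(223, (-1), 1)] .nil .nil) .nil)))) (.node [(21, 1, 1)] (.node [] (.node [(75, 1, 1)] (.node [(85, (-1), 1)] (.node [(168, (-1), 1)] .nil .nil) .nil) (.node [(142, (-1), 1)] .nil .nil)) (.node [(83, (-1), 1)] .nil (.node [] (.node [(219, (-1), 1)] .nil .nil) .nil))) (.node [(62, 1, 1)] (.node [] .nil (.node [(151, 1, 1)] (.node [(198, 1, 1)] .nil .nil) .nil)) (.node [] (.node [(130, 1, 1)] .nil .nil) .nil)))) (.node [(166, 1, 1)] (.node [] (.node [] (.node [] (.node [] .nil (.node [(228,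 (-1), 1)] .nil .nil)) .nil) (.node [] .nil (.node [(156, 1, 1)] (.node [(214, 1, 1)] .nil .nil) .nil))) (.node [] (.node [(78, (-1), 1)] .nil .nil) (.node [(84, (-1), 1)] (.node [(1, 1, 1), (2, 1, 1), (3, 2, 1), (4, 2, 1), (5, 1, 1), (6, 1, 1), (7, 1, 1), (166, (-1), 2)] .nil .nil) (.node [(163, (-1), 1)] .nil .nil)))) (.node [] (.node [] (.node [] .nil (.node [(145, 1, 1)] .nil .nil)) .nil) (.node [(66, (-1), 1)] (.node [(80, 1, 1)] (.node [] .nil (.node [(232, 1, 1)] .nil .nil)) (.node [] .nil (.node [(247, (-1), 1)] .nil .nil))) (.node [] .nil (.node [(164, (-1), 1)] (.node [(226, 1, 1)] .nil .nil) .nil)))))) (.node [] (.node [(166, (-1), 1)] (.node [(18, 1, 1)] (.node [] (.node [(72, 1, 1)] .nil (.node [(139, 1, 1)] .nil .nil)) .nil) (.node [(56, (-1), 1)] (.node [] .nil (.node [(148, (-1), 1)] .nil .nil)) (.node [] .nil (.node [] (.node [(224, (-1), 1)] .nil .nil) .nil)))) (.node [] (.node [] (.node [(76, 1, 1)] (.node [] (.node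 [(169, (-1), 1)] .nil .nil) .nil) .nil) (.node [] .nil (.node [(159, (-1), 1)] (.node [(220, (-1), 1)] .nil .nil) .nil))) (.node [] (.node [] .nil (.node [] (.node [(204, 1, 1)] .nil .nil) .nil)) (.node [] (.node [(134, 1, 1)] .nil .nil) .nil)))) (.node [] (.node [] (.node [] (.node [] (.node [] .nil (.node [(229, (-1), 1)] .nil .nil)) .nil) .nil) (.node [(61, 1, 1)] (.node [] .nil (.node [] (.node [(188, 1, 1)] .nil .nil) (.node [(244, (-1), 1)] .nil .nil))) (.node [] (.node [(128, 1, 1)] .nil .nil) .nil))) (.node [] (.node [(40, (-1), 1)] .nil (.node [] (.node [(123, 1, 1)] .nil .nil) (.node [(160, 1, 1)] .nil .nil))) (.node [] (.node [(81, 1, 1)] .nil (.node [(154, (-1), 1)] (.node [(209, (-1), 1)] .nil .nil) .nil)) .nil)))))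
def X159 : Tr (List (ℕ × ℤ × ℕ)) := (.node [(167, 1, 1)] (.node [] (.node [] (.node [(167, 1, 1)] (.node [] .nil (.node [(82, (-1), 1)] .nil .nil)) (.node [(51, (-1), 1)] (.node [] .nil (.node [(147, (-1), 1)] .nil .nil)) (.node [] (.node [(127, 1, 1)] .nil .nil) (.node [(161, 1, 1)] .nil .nil)))) (.node [] (.node [] (.node [] (.node [] .nil (.node [(230, 1, 1)] .nil .nil)) .nil) (.node [] .nil (.node [(158, (-1), 1)] .nil .nil))) (.node [] (.node [] .nil (.node [] (.node [(199, 1, 1)] .nil .nil) (.node [(245, 1, 1)] .nil .nil))) (.node [] (.node [(132, (-1), 1)] .nil .nil) (.node [(164, 1, 1)] .nil .nil))))) (.node [(167, (-1), 1)] (.node [(19, (-1), 1)] (.node [] (.node [(73, (-1), 1)] .nil (.node [(140, 1, 1)] .nil .nil)) (.node [] .nil (.node [] (.node [(215, 1, 1)] .nil .nil) .nil))) (.node [(60, (-1), 1)] .nil (.node [] .nil (.node [] (.node [(225, 1, 1)] .nil .nil) .nil)))) (.node [] (.node [] (.node [(77, (-1), 1)] .nil .nil)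 (.node [] .nil (.node [] (.node [(221, 1, 1)] .nil .nil) .nil))) (.node [(67, (-1), 1)] (.node [] .nil (.node [(153, (-1), 1)] (.node [(208, 1, 1)] .nil .nil) .nil)) (.node [] (.node [(135, 1, 1)] .nil .nil) .nil))))) (.node [] (.node [] (.node [] (.node [] (.node [] (.node [] (.node [(168, (-1), 1)] .nil .nil) (.node [(227, 1, 1)] .nil .nil)) .nil) (.node [] .nil (.node [] (.node [(211, 1, 1)] .nil .nil) .nil))) (.node [(57, (-1), 1)] (.node [(78, (-1), 1)] .nil .nil) (.node [(84, (-1), 1)] (.node [(1, 1, 1), (2, 1, 1), (3, 2, 1), (4, 2, 1), (5, 2, 1), (6, 1, 1), (167, (-1), 2)] .nil .nil) (.node [(162, (-1), 1)] .nil .nil)))) (.node [] .nil (.node [(63, (-1), 1)] (.node [(79, (-1), 1)] (.node [] .nil (.node [(232, 1, 1)] .nil .nil)) (.node [(152, 1, 1)] (.node [(205, 1, 1)] .nil .nil) (.node [(246, 1, 1)] .nil .nil))) (.node [] .nil (.node [(165, (-1), 1)] (.node [(226, 1, 1)] .nil .nil) .nil))))) (.node [] (.node [(20, (-1), 1)] (.node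 [] (.node [(74, (-1), 1)] (.node [(85, (-1), 1)] (.node [(169, 1, 1)] .nil .nil) .nil) (.node [(141, (-1), 1)] .nil .nil)) (.node [(83, (-1), 1)] .nil (.node [(157, 1, 1)] (.node [(218, 1, 1)] .nil .nil) .nil))) (.node [] (.node [] .nil (.node [] (.node [(189, 1, 1)] .nil .nil) .nil)) (.node [] (.node [(131, 1, 1)] .nil .nil) .nil))) (.node [] (.node [(41, (-1), 1)] (.node [] (.node [] .nil (.node [(231, 1, 1)] .nil .nil)) (.node [(146, 1, 1)] .nil .nil)) (.node [] (.node [(125, (-1), 1)] .nil (.node [(233, 1, 1)] .nil .nil)) (.node [] (.node [(222, 1, 1)] .nil .nil) .nil))) (.node [(70, (-1), 1)] .nil (.node [] (.node [(136, (-1), 1)] .nil .nil) .nil))))))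
def X160 : Tr (List (ℕ × ℤ × ℕ)) := (.node [(168, 1, 1)] (.node [] (.node [] (.node [(168, (-1), 1)] (.node [] (.node [] (.node [] (.node [(167, (-1), 1)] .nil .nil) .nil) .nil) (.node [] .nil (.node [] (.node [(211, (-1), 1)] .nil .nil) .nil))) (.node [(52, 1, 1)] (.node [(78, (-1), 1)] .nil (.node [(148, (-1), 1)] .nil .nil)) (.node [(84, (-1), 1)] (.node [(1, 1, 1), (2, 1, 1), (3, 2, 1), (4, 2, 1), (5, 2, 1), (6, 1, 1), (7, 1, 1), (168, (-1), 2)] .nil .nil) .nil))) (.node [] (.node [] .nil (.node [] .nil (.node [(159, (-1), 1)] .nil .nil))) (.node [(63, (-1), 1)] (.node [] (.node [] .nil (.node [(232, (-1), 1)] .nil .nil)) (.node [(152, 1, 1)] (.node [(200, 1, 1)] .nil .nil) .nil)) (.node [] (.node [(133, (-1), 1)] .nil .nil) (.node [] (.node [(226, (-1), 1)] .nil .nil) .nil))))) (.node [(168, (-1), 1)] (.node [] (.node [] (.node [] (.node [(85, (-1), 1)] (.node [(169, (-1), 1)] .nil .nil) .nil) .nil) (.node [(83, (-1), 1)] .nil (.node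 [(157, 1, 1)] (.node [(216, 1, 1)] .nil .nil) .nil))) (.node [(61, 1, 1)] .nil (.node [] (.node [(131, 1, 1)] .nil .nil) .nil))) (.node [] (.node [] (.node [] (.node [] .nil (.node [(231, (-1), 1)] .nil .nil)) (.node [(146, 1, 1)] .nil .nil)) (.node [] (.node [] .nil (.node [(233, (-1), 1)] .nil .nil)) .nil)) (.node [(68, 1, 1)] (.node [] .nil (.node [(154, (-1), 1)] (.node [(209, 1, 1)] .nil .nil) .nil)) .nil)))) (.node [] (.node [] (.node [(19, (-1), 1)] (.node [] (.node [(73, (-1), 1)] (.node [] .nil (.node [(228, 1, 1)] .nil .nil)) (.node [(140, 1, 1)] .nil .nil)) .nil) (.node [(58, 1, 1)] .nil (.node [] (.node [(128, 1, 1)] .nil .nil) (.node [(163, (-1), 1)] (.node [(225, (-1), 1)] .nil .nil) .nil)))) (.node [] (.node [] (.node [(77, (-1), 1)] .nil .nil) (.node [] .nil (.node [] (.node [(221, (-1), 1)] .nil .nil) .nil))) (.node [] (.node [(80, 1, 1)] .nil (.node [] (.node [(206, 1, 1)] .nil .nil) (.node [(247, 1, 1)] .nil .nil)))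 (.node [] (.node [(135, 1, 1)] .nil .nil) (.node [(166, (-1), 1)] .nil .nil))))) (.node [(168, 1, 1)] (.node [(21, 1, 1)] (.node [] (.node [(75, 1, 1)] (.node [] .nil (.node [(230, (-1), 1)] .nil .nil)) (.node [(142, (-1), 1)] .nil .nil)) (.node [] .nil (.node [] (.node [(219, 1, 1)] .nil .nil) .nil))) (.node [] (.node [] .nil (.node [] (.node [(190, 1, 1)] .nil .nil) (.node [(245, (-1), 1)] .nil .nil))) (.node [] .nil (.node [(164, 1, 1)] .nil .nil)))) (.node [] (.node [(42, 1, 1)] .nil (.node [] (.node [(126, 1, 1)] .nil .nil) (.node [(161, 1, 1)] (.node [(223, 1, 1)] .nil .nil) .nil))) (.node [(71, 1, 1)] (.node [(82, (-1), 1)] .nil .nil) (.node [] (.node [(137, (-1), 1)] .nil .nil) .nil))))))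
def X161 : Tr (List (ℕ × ℤ × ℕ)) := (.node [(169, 1, 1)] (.node [] (.node [] (.node [] (.node [] (.node [(73, (-1), 1)] .nil .nil) .nil) (.node [(53, (-1), 1)] .nil (.node [] (.node [(129, 1, 1)] .nil .nil) (.node [(163, (-1), 1)] (.node [(225, 1, 1)] .nil .nil) .nil)))) (.node [] (.node [] (.node [(77, (-1), 1)] .nil .nil) (.node [] .nil (.node [] (.node [(221, 1, 1)] .nil .nil) .nil))) (.node [] (.node [] .nil (.node [(153, 1, 1)] (.node [(201, 1, 1)] .nil .nil) (.node [(247, (-1), 1)] .nil .nil))) (.node [] .nil (.node [(166, (-1), 1)] .nil .nil))))) (.node [] (.node [(21, 1, 1)] (.node [] (.node [] (.node [] .nil (.node [(230, 1, 1)] .nil .nil)) (.node [(142, (-1), 1)] .nil .nil)) (.node [] .nil (.node [(158, 1, 1)] (.node [(217, 1, 1)] .nil .nil) .nil))) (.node [(62, (-1), 1)] .nil (.node [] (.node [(132, 1, 1)] .nil .nil) .nil))) (.node [] (.node [] (.node [] .nil (.node [(147, 1, 1)] .nil .nil)) .nil) (.node [(69, (-1), 1)] (.node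 [(82, (-1), 1)] .nil (.node [] (.node [(210, 1, 1)] .nil .nil) .nil)) (.node [] (.node [(137, (-1), 1)] .nil .nil) (.node [(167, 1, 1)] .nil .nil)))))) (.node [] (.node [] (.node [(20, 1, 1)] (.node [] (.node [] (.node [(85, (-1), 1)] .nil (.node [(229, 1, 1)] .nil .nil)) (.node [(141, 1, 1)] .nil .nil)) (.node [(83, (-1), 1)] .nil .nil)) (.node [(59, (-1), 1)] .nil (.node [] (.node [(130, (-1), 1)] .nil .nil) .nil))) (.node [] (.node [] (.node [] (.node [] .nil (.node [(231, 1, 1)] .nil .nil)) .nil) (.node [] (.node [] .nil (.node [(233, 1, 1)] .nil .nil)) .nil)) (.node [] (.node [(81, (-1), 1)] .nil (.node [(154, (-1), 1)] (.node [(207, 1, 1)] .nil .nil) .nil)) (.node [] (.node [(136, 1, 1)] .nil .nil) .nil)))) (.node [(169, (-1), 1)] (.node [] (.node [] (.node [(76, (-1), 1)] .nil .nil) (.node [] .nil (.node [(159, (-1), 1)] (.node [(220, 1, 1)] .nil .nil) .nil))) (.node [(63, (-1), 1)] (.node [] (.node [] .nil (.node [(232, 1, 1)]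 .nil .nil)) (.node [] (.node [(191, 1, 1)] .nil .nil) (.node [(246, (-1), 1)] .nil .nil))) (.node [] (.node [(133, (-1), 1)] .nil .nil) (.node [(165, 1, 1)] (.node [(226, 1, 1)] .nil .nil) .nil)))) (.node [] (.node [(43, (-1), 1)] (.node [(78, (-1), 1)] .nil (.node [(148, (-1), 1)] .nil .nil)) (.node [(84, (-1), 1)] (.node [(1, 1, 1), (2, 1, 1), (3, 2, 1), (4, 2, 1), (5, 2, 1), (6, 2, 1), (7, 1, 1), (169, (-1), 2)] .nil .nil) (.node [(162, 1, 1)] (.node [(224, 1, 1)] .nil .nil) .nil))) (.node [(72, (-1), 1)] (.node [] .nil (.node [] (.node [(211, 1, 1)] .nil .nil) .nil)) (.node [] .nil (.node [(168, (-1), 1)] .nil .nil)))))))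
def X162 : Tr (List (ℕ × ℤ × ℕ)) := (.node [(170, (-2), 1)] (.node [] (.node [] (.node [] (.node [] (.node [] .nil (.node [] (.node [(181, (-1), 1)] .nil .nil) .nil)) (.node [] (.node [(107, 1, 1)] (.node [(171, (-1), 1)] .nil .nil) .nil) .nil)) (.node [] (.node [] (.node [(93, 1, 1)] .nil .nil) (.node [] (.node [(189, (-1), 1)] .nil .nil) (.node [(238, 1, 1)] .nil .nil))) .nil)) (.node [] (.node [(26, (-1), 1)] (.node [] (.node [(89, 1, 1)] .nil .nil) (.node [] (.node [(185, (-1), 1)] .nil .nil) (.node [(234, 1, 1)] .nil .nil))) (.node [] (.node [(111, 1, 1)] (.node [(175, (-1), 1)] .nil .nil) .nil) .nil)) (.node [] (.node [] (.node [(97, 1, 1)] .nil .nil) .nil) (.node [] (.node [] (.node [(177, (-1), 1)] .nil .nil) .nil) .nil)))) (.node [] (.node [] (.node [(24, (-1), 1)] (.node [] (.node [(87, 1, 1)] .nil .nil) (.node [] (.node [(183, (-1), 1)] .nil .nil) .nil)) (.node [] (.node [(109, 1, 1)] (.node [(173, (-1), 1)] .nil .nil) .nil)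 .nil)) (.node [] (.node [] (.node [(95, 1, 1)] .nil .nil) (.node [] (.node [(191, (-1), 1)] .nil .nil) (.node [(241, 1, 1)] .nil .nil))) .nil)) (.node [] (.node [(28, (-1), 1)] (.node [] (.node [(91, 1, 1)] .nil .nil) (.node [] (.node [(187, (-1), 1)] .nil .nil) (.node [(236, 1, 1)] .nil .nil))) (.node [] (.node [(0, 1, 1), (170, (-1), 2)] .nil .nil) .nil)) (.node [] (.node [] (.node [(99, 1, 1)] .nil .nil) .nil) (.node [] (.node [] (.node [(179, (-1), 1)] .nil .nil) .nil) .nil))))) (.node [(170, 1, 1)] (.node [] (.node [] (.node [(23, (-1), 1)] (.node [] (.node [(86, 1, 1)] .nil .nil) (.node [] (.node [(182, (-1), 1)] .nil .nil) .nil)) (.node [] (.node [(108, 1, 1)] (.node [(172, (-1), 1)] .nil .nil) .nil) .nil)) (.node [] (.node [] (.node [(94, 1, 1)] .nil .nil) (.node [] (.node [(190, (-1), 1)] .nil .nil) (.node [(239, 1, 1)] .nil .nil))) .nil)) (.node [] (.node [(27, (-1), 1)] (.node [] (.node [(90, 1, 1)] .nil .nil) (.node [] (.node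 [(186, (-1), 1)] .nil .nil) (.node [(235, 1, 1)] .nil .nil))) (.node [] (.node [(112, 1, 1)] (.node [(176, (-1), 1)] .nil .nil) .nil) .nil)) (.node [] (.node [] (.node [(98, 1, 1)] .nil .nil) .nil) (.node [] (.node [] (.node [(178, (-1), 1)] .nil .nil) .nil) .nil)))) (.node [] (.node [] (.node [(25, (-1), 1)] (.node [] (.node [(88, 1, 1)] .nil .nil) (.node [] (.node [(184, (-1), 1)] .nil .nil) .nil)) (.node [] (.node [(110, 1, 1)] (.node [(174, (-1), 1)] .nil .nil) .nil) .nil)) (.node [] (.node [] (.node [(96, 1, 1)] .nil .nil) .nil) .nil)) (.node [(22, (-1), 1)] (.node [] (.node [] (.node [(92, 1, 1)] .nil .nil) (.node [] (.node [(188, (-1), 1)] .nil .nil) (.node [(237, 1, 1)] .nil .nil))) .nil) (.node [] (.node [] (.node [(100, 1, 1)] .nil .nil) .nil) (.node [] (.node [] (.node [(180, (-1), 1)] .nil .nil) .nil) .nil))))))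
def X163 : Tr (List (ℕ × ℤ × ℕ)) := (.node [(171, (-1), 1)] (.node [] (.node [(171, 1, 1)] (.node [] (.node [(23, (-1), 1)] (.node [] (.node [(95, 1, 1)] .nil .nil) (.node [] .nil (.node [(235, (-1), 1)] .nil .nil))) (.node [] (.node [(113, 1, 1)] .nil .nil) .nil)) (.node [] (.node [] .nil (.node [] (.node [(199, (-1), 1)] .nil .nil) .nil)) (.node [(87, 1, 1)] (.node [] (.node [(178, 1, 1)] .nil .nil) .nil) .nil))) (.node [] (.node [(31, 1, 1)] (.node [] .nil (.node [] (.node [(195, (-1), 1)] .nil .nil) .nil)) (.node [] (.node [(117, 1, 1)] .nil .nil) .nil)) (.node [] (.node [] (.node [(102, (-1), 1)] (.node [(173, (-1), 1)] .nil .nil) .nil) .nil) (.node [(91, 1, 1)] .nil .nil)))) (.node [] (.node [] (.node [(29, 1, 1)] (.node [] .nil (.node [] (.node [(193, (-1), 1)] .nil .nil) (.node [(237, (-1), 1)] .nil .nil))) (.node [] (.node [(115, 1, 1)] .nil .nil) .nil)) (.node [] (.node [] .nil (.node [] (.node [(201, (-1), 1)] .nil .nil) (.node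 [(242, 1, 1)] .nil .nil))) (.node [(89, 1, 1)] (.node [] (.node [(180, 1, 1)] .nil .nil) .nil) .nil))) (.node [(22, (-1), 1)] (.node [(33, 1, 1)] (.node [] .nil (.node [] (.node [(197, (-1), 1)] .nil .nil) .nil)) (.node [] (.node [(143, 1, 1)] .nil .nil) .nil)) (.node [] (.node [] (.node [(104, (-1), 1)] (.node [(175, (-1), 1)] .nil .nil) .nil) .nil) (.node [(93, 1, 1)] .nil .nil))))) (.node [(171, (-1), 1)] (.node [] (.node [] (.node [] (.node [] .nil (.node [] (.node [(192, (-1), 1)] .nil .nil) (.node [(236, (-1), 1)] .nil .nil))) (.node [] (.node [(114, 1, 1)] .nil .nil) (.node [(170, (-1), 1)] .nil .nil))) (.node [] (.node [] .nil (.node [] (.node [(200, (-1), 1)] .nil .nil) (.node [(240, 1, 1)] .nil .nil))) (.node [(88, 1, 1)] (.node [] (.node [(179, 1, 1)] .nil .nil) .nil) .nil))) (.node [] (.node [(32, 1, 1)] (.node [] .nil (.node [] (.node [(196, (-1), 1)] .nil .nil) .nil)) (.node [] (.node [(0, 1, 1), (2, 1, 1), (171, (-1), 2)]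 .nil .nil) .nil)) (.node [] (.node [] (.node [(103, (-1), 1)] (.node [(174, (-1), 1)] .nil .nil) .nil) .nil) (.node [(92, 1, 1)] .nil .nil)))) (.node [] (.node [] (.node [(30, 1, 1)] (.node [] .nil (.node [] (.node [(194, (-1), 1)] .nil .nil) (.node [(238, (-1), 1)] .nil .nil))) (.node [] (.node [(116, 1, 1)] .nil .nil) .nil)) (.node [] (.node [] (.node [(101, (-1), 1)] (.node [(172, (-1), 1)] .nil .nil) .nil) .nil) (.node [(90, 1, 1)] (.node [] (.node [(181, 1, 1)] .nil .nil) .nil) .nil))) (.node [] (.node [] (.node [] .nil (.node [] (.node [(198, (-1), 1)] .nil .nil) .nil)) (.node [(86, 1, 1)] (.node [] (.node [(177, 1, 1)] .nil .nil) .nil) .nil)) (.node [] (.node [] (.node [(105, (-1), 1)] (.node [(176, (-1), 1)] .nil .nil) .nil) .nil) (.node [(94, 1, 1)] (.node [] .nil (.node [(234, (-1), 1)] .nil .nil)) .nil))))))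
def X164 : Tr (List (ℕ × ℤ × ℕ)) := (.node [(172, (-1), 1)] (.node [(172, 1, 1)] (.node [(172, (-1), 1)] (.node [] (.node [(24, 1, 1)] (.node [] (.node [(99, (-1), 1)] .nil .nil) (.node [] (.node [(195, 1, 1)] .nil .nil) .nil)) (.node [] (.node [(118, 1, 1)] .nil .nil) (.node [(170, (-1), 1)] .nil .nil))) (.node [] (.node [] (.node [(102, (-1), 1)] (.node [(174, (-1), 1)] .nil .nil) .nil) (.node [] (.node [(205, (-1), 1)] .nil .nil) (.node [(240, (-1), 1)] .nil .nil))) (.node [] (.node [] (.node [(182, 1, 1)] .nil .nil) .nil) .nil))) (.node [] (.node [(35, (-1), 1)] .nil (.node [(89, 1, 1)] (.node [(0, 1, 1), (2, 1, 1), (3, 1, 1), (172, (-1), 2)] .nil .nil) .nil)) (.node [] .nil (.node [] (.node [] .nil (.node [(235, 1, 1)] .nil .nil)) .nil)))) (.node [] (.node [] (.node [] .nil (.node [(87, 1, 1)] (.node [(120, 1, 1)] .nil .nil) .nil)) (.node [] (.node [] (.node [(104, (-1), 1)] (.node [(176, (-1), 1)] .nil .nil) .nil) (.node [] (.node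 [(207, (-1), 1)] .nil .nil) (.node [(243, 1, 1)] .nil .nil))) (.node [] (.node [] (.node [(184, 1, 1)] .nil .nil) .nil) .nil))) (.node [] (.node [(37, (-1), 1)] (.node [] .nil (.node [] (.node [(203, (-1), 1)] .nil .nil) .nil)) (.node [(91, 1, 1)] (.node [(144, 1, 1)] (.node [(177, (-1), 1)] .nil .nil) .nil) (.node [(171, (-1), 1)] .nil .nil))) (.node [] .nil (.node [(97, (-1), 1)] (.node [] (.node [(193, 1, 1)] .nil .nil) (.node [(237, 1, 1)] .nil .nil)) .nil))))) (.node [] (.node [(172, 1, 1)] (.node [] (.node [(29, 1, 1)] .nil (.node [(86, 1, 1)] (.node [(119, 1, 1)] .nil .nil) .nil)) (.node [] (.node [] (.node [(103, (-1), 1)] (.node [(175, (-1), 1)] .nil .nil) .nil) (.node [] (.node [(206, (-1), 1)] .nil .nil) .nil)) (.node [] (.node [] (.node [(183, 1, 1)] .nil .nil) .nil) .nil))) (.node [(22, (-1), 1)] (.node [(36, (-1), 1)] (.node [] .nil (.node [] (.node [(202, (-1), 1)] .nil .nil) .nil)) (.node [(90, 1, 1)] (.node [(138, 1,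 1)] .nil .nil) .nil)) (.node [] .nil (.node [(96, (-1), 1)] (.node [] (.node [(192, 1, 1)] .nil .nil) (.node [(236, 1, 1)] .nil .nil)) .nil)))) (.node [] (.node [] (.node [(34, (-1), 1)] (.node [] .nil (.node [] .nil (.node [(239, (-1), 1)] .nil .nil))) (.node [(88, 1, 1)] (.node [(121, 1, 1)] .nil .nil) .nil)) (.node [] .nil (.node [] (.node [] (.node [(185, 1, 1)] .nil .nil) (.node [(234, 1, 1)] .nil .nil)) .nil))) (.node [] (.node [] (.node [] (.node [(101, (-1), 1)] (.node [(173, (-1), 1)] .nil .nil) .nil) (.node [] (.node [(204, (-1), 1)] .nil .nil) .nil)) .nil) (.node [] (.node [] (.node [(106, 1, 1)] .nil .nil) .nil) (.node [(98, (-1), 1)] (.node [] (.node [(194, 1, 1)] .nil .nil) .nil) .nil))))))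
def X165 : Tr (List (ℕ × ℤ × ℕ)) := (.node [(173, (-1), 1)] (.node [(173, 1, 1)] (.node [] (.node [] (.node [(25, (-1), 1)] (.node [] (.node [(100, 1, 1)] .nil .nil) (.node [] (.node [(198, 1, 1)] .nil .nil) .nil)) (.node [(88, 1, 1)] (.node [(122, 1, 1)] .nil .nil) .nil)) (.node [] (.node [] .nil (.node [] (.node [(208, (-1), 1)] .nil .nil) .nil)) (.node [] (.node [] .nil (.node [(234, (-1), 1)] .nil .nil)) .nil))) (.node [(22, (-1), 1)] (.node [(38, 1, 1)] (.node [] (.node [(101, (-1), 1)] (.node [(174, (-1), 1)] .nil .nil) .nil) (.node [] (.node [(204, 1, 1)] .nil .nil) .nil)) (.node [(92, (-1), 1)] (.node [(134, 1, 1)] .nil .nil) .nil)) (.node [] .nil (.node [(98, (-1), 1)] (.node [] (.node [(192, (-1), 1)] .nil .nil) .nil) .nil)))) (.node [(173, 1, 1)] (.node [] (.node [(34, (-1), 1)] (.node [] .nil (.node [] (.node [(202, 1, 1)] .nil .nil) (.node [(239, 1, 1)] .nil .nil))) (.node [] (.node [(124, 1, 1)] .nil .nil) .nil)) (.node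 [] (.node [] (.node [(105, 1, 1)] .nil .nil) (.node [] (.node [(210, (-1), 1)] .nil .nil) (.node [(244, 1, 1)] .nil .nil))) (.node [(96, (-1), 1)] (.node [] (.node [(187, 1, 1)] .nil .nil) (.node [(236, (-1), 1)] .nil .nil)) (.node [(172, (-1), 1)] .nil .nil)))) (.node [] (.node [(40, 1, 1)] (.node [] (.node [(103, (-1), 1)] (.node [(176, (-1), 1)] .nil .nil) .nil) .nil) (.node [(94, (-1), 1)] (.node [(145, 1, 1)] (.node [(178, (-1), 1)] .nil .nil) .nil) .nil)) (.node [] (.node [(86, 1, 1)] (.node [(106, 1, 1)] .nil .nil) .nil) (.node [] (.node [] (.node [(196, 1, 1)] .nil .nil) (.node [(238, 1, 1)] .nil .nil)) .nil))))) (.node [] (.node [(173, (-1), 1)] (.node [] (.node [(30, (-1), 1)] .nil (.node [] (.node [(123, 1, 1)] .nil .nil) .nil)) (.node [] (.node [] .nil (.node [] (.node [(209, (-1), 1)] .nil .nil) .nil)) (.node [] (.node [] (.node [(186, 1, 1)] .nil .nil) (.node [(235, (-1), 1)] .nil .nil)) .nil))) (.node [] (.node [(39, 1,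 1)] (.node [] (.node [(102, (-1), 1)] (.node [(175, (-1), 1)] .nil .nil) .nil) .nil) (.node [(93, (-1), 1)] (.node [(139, 1, 1)] .nil .nil) (.node [(171, (-1), 1)] .nil .nil))) .nil)) (.node [] (.node [] (.node [] (.node [] .nil (.node [] (.node [(203, 1, 1)] .nil .nil) .nil)) (.node [] (.node [(0, 1, 1), (2, 1, 1), (3, 1, 1), (4, 1, 1), (173, (-1), 2)] .nil .nil) .nil)) (.node [] .nil (.node [(97, (-1), 1)] (.node [] (.node [(188, 1, 1)] .nil .nil) .nil) .nil))) (.node [] (.node [] (.node [] .nil (.node [] .nil (.node [(240, 1, 1)] .nil .nil))) (.node [] (.node [] (.node [(182, (-1), 1)] .nil .nil) .nil) .nil)) (.node [] (.node [(87, 1, 1)] .nil (.node [(170, (-1), 1)] .nil .nil)) (.node [] (.node [] (.node [(197, 1, 1)] .nil .nil) .nil) .nil))))))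
def X166 : Tr (List (ℕ × ℤ × ℕ)) := (.node [(174, (-1), 1)] (.node [(174, 1, 1)] (.node [] (.node [] (.node [(26, 1, 1)] (.node [] .nil (.node [] (.node [(200, 1, 1)] .nil .nil) .nil)) (.node [(90, (-1), 1)] (.node [(125, 1, 1)] .nil .nil) .nil)) (.node [] .nil (.node [(96, (-1), 1)] (.node [] (.node [(186, (-1), 1)] .nil .nil) .nil) .nil))) (.node [] (.node [] (.node [] .nil (.node [] (.node [(206, 1, 1)] .nil .nil) .nil)) (.node [] (.node [(135, 1, 1)] .nil .nil) (.node [(171, (-1), 1)] .nil .nil))) (.node [] .nil (.node [(99, 1, 1)] (.node [] (.node [(193, (-1), 1)] .nil .nil) .nil) .nil)))) (.node [(174, (-1), 1)] (.node [] (.node [(35, 1, 1)] (.node [] (.node [(101, (-1), 1)] (.node [(175, (-1), 1)] .nil .nil) .nil) .nil) (.node [(92, (-1), 1)] (.node [(0, 1, 1), (2, 1, 1), (3, 1, 1), (4, 1, 1), (5, 1, 1), (174, (-1), 2)] .nil .nil) .nil)) (.node [] (.node [] .nil (.node [] (.node [(211, (-1), 1)] .nil .nil) (.node [(245, 1, 1)]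 .nil .nil))) (.node [] (.node [] (.node [(189, 1, 1)] .nil .nil) (.node [(237, (-1), 1)] .nil .nil)) .nil))) (.node [] (.node [(42, (-1), 1)] (.node [] (.node [(104, 1, 1)] .nil .nil) (.node [] (.node [(208, 1, 1)] .nil .nil) (.node [(240, (-1), 1)] .nil .nil))) (.node [(95, 1, 1)] (.node [(146, 1, 1)] (.node [(179, (-1), 1)] .nil .nil) (.node [(234, 1, 1)] .nil .nil)) .nil)) (.node [] (.node [] .nil (.node [(170, (-1), 1)] .nil .nil)) .nil)))) (.node [] (.node [] (.node [] (.node [(31, 1, 1)] (.node [] .nil (.node [] (.node [(202, (-1), 1)] .nil .nil) (.node [(239, (-1), 1)] .nil .nil))) (.node [] (.node [(126, 1, 1)] .nil .nil) .nil)) (.node [] (.node [] (.node [(105, 1, 1)] .nil .nil) .nil) (.node [(97, (-1), 1)] .nil (.node [(172, (-1), 1)] .nil .nil)))) (.node [] (.node [(41, (-1), 1)] .nil (.node [] (.node [(140, 1, 1)] .nil .nil) .nil)) (.node [] (.node [(86, 1, 1)] (.node [(106, 1, 1)] .nil .nil) .nil) (.node [] (.node [] (.node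 [(196, (-1), 1)] .nil .nil) (.node [(238, (-1), 1)] .nil .nil)) (.node [(173, (-1), 1)] .nil .nil))))) (.node [(174, 1, 1)] (.node [(22, (-1), 1)] (.node [(38, 1, 1)] (.node [] (.node [(102, (-1), 1)] (.node [(176, (-1), 1)] .nil .nil) .nil) (.node [] (.node [(205, 1, 1)] .nil .nil) .nil)) (.node [(93, (-1), 1)] (.node [(131, 1, 1)] .nil .nil) .nil)) (.node [] .nil (.node [] (.node [] (.node [(190, 1, 1)] .nil .nil) .nil) .nil))) (.node [] (.node [] (.node [] .nil (.node [] (.node [(209, 1, 1)] .nil .nil) .nil)) (.node [] (.node [] (.node [(183, (-1), 1)] .nil .nil) (.node [(235, 1, 1)] .nil .nil)) .nil)) (.node [] (.node [(89, (-1), 1)] .nil .nil) (.node [(100, 1, 1)] (.node [] (.node [(199, 1, 1)] .nil .nil) .nil) .nil))))))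
def X167 : Tr (List (ℕ × ℤ × ℕ)) := (.node [(175, (-1), 1)] (.node [(175, 1, 1)] (.node [] (.node [(175, 1, 1)] (.node [(27, (-1), 1)] (.node [] .nil (.node [] (.node [(201, 1, 1)] .nil .nil) (.node [(239, 1, 1)] .nil .nil))) (.node [(91, 1, 1)] (.node [(127, 1, 1)] .nil .nil) .nil)) (.node [] (.node [] (.node [(105, 1, 1)] .nil .nil) .nil) (.node [] (.node [] (.node [(187, (-1), 1)] .nil .nil) .nil) (.node [(172, (-1), 1)] .nil .nil)))) (.node [] (.node [(41, (-1), 1)] (.node [] .nil (.node [] (.node [(207, 1, 1)] .nil .nil) .nil)) (.node [] (.node [(136, 1, 1)] .nil .nil) .nil)) (.node [] (.node [] (.node [(106, 1, 1)] .nil .nil) .nil) (.node [] (.node [] (.node [(194, (-1), 1)] .nil .nil) (.node [(238, 1, 1)] .nil .nil)) (.node [(173, (-1), 1)] .nil .nil))))) (.node [] (.node [(22, (-1), 1)] (.node [(36, (-1), 1)] (.node [] .nil (.node [] (.node [(205, (-1), 1)] .nil .nil) .nil)) (.node [] (.node [(129, 1, 1)] .nil .nil) .nil)) (.node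 [] (.node [] .nil (.node [] .nil (.node [(246, 1, 1)] .nil .nil))) .nil)) (.node [] (.node [(43, 1, 1)] .nil (.node [] (.node [(147, 1, 1)] (.node [(180, (-1), 1)] .nil .nil) .nil) .nil)) (.node [] (.node [(89, (-1), 1)] .nil .nil) (.node [(100, 1, 1)] (.node [] (.node [(199, (-1), 1)] .nil .nil) .nil) .nil))))) (.node [] (.node [] (.node [] (.node [(32, (-1), 1)] (.node [] (.node [(101, (-1), 1)] (.node [(176, (-1), 1)] .nil .nil) .nil) (.node [] (.node [(203, (-1), 1)] .nil .nil) .nil)) (.node [(92, (-1), 1)] (.node [(0, 1, 1), (2, 1, 1), (3, 1, 1), (4, 1, 1), (5, 1, 1), (6, 1, 1), (175, (-1), 2)] .nil .nil) .nil)) (.node [] (.node [] .nil (.node [] (.node [(211, 1, 1)] .nil .nil) .nil)) (.node [(98, 1, 1)] (.node [] (.node [(189, (-1), 1)] .nil .nil) (.node [(237, 1, 1)] .nil .nil)) .nil))) (.node [] (.node [] (.node [] (.node [(104, 1, 1)] .nil .nil) (.node [] (.node [(208, (-1), 1)] .nil .nil) (.node [(240, 1, 1)] .nil .nil))) (.node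 [(95, 1, 1)] (.node [(141, 1, 1)] .nil (.node [(234, (-1), 1)] .nil .nil)) .nil)) (.node [] (.node [(87, (-1), 1)] .nil (.node [(170, (-1), 1)] .nil .nil)) (.node [] (.node [] (.node [(197, (-1), 1)] .nil .nil) .nil) .nil)))) (.node [(175, (-1), 1)] (.node [] (.node [(39, (-1), 1)] (.node [] (.node [(103, 1, 1)] .nil .nil) .nil) (.node [(94, 1, 1)] (.node [(132, 1, 1)] .nil .nil) (.node [(171, (-1), 1)] .nil .nil))) (.node [] .nil (.node [(99, 1, 1)] (.node [] (.node [(191, 1, 1)] .nil .nil) .nil) .nil))) (.node [] (.node [] (.node [] .nil (.node [] (.node [(210, 1, 1)] .nil .nil) .nil)) (.node [(96, (-1), 1)] (.node [] (.node [(184, (-1), 1)] .nil .nil) (.node [(236, 1, 1)] .nil .nil)) .nil)) (.node [] .nil (.node [] .nil (.node [(174, (-1), 1)] .nil .nil)))))))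
def X168 : Tr (List (ℕ × ℤ × ℕ)) := (.node [(176, (-1), 1)] (.node [(176, 1, 1)] (.node [] (.node [(176, (-1), 1)] (.node [(28, 1, 1)] (.node [] (.node [] (.node [(175, (-1), 1)] .nil .nil) .nil) .nil) (.node [] (.node [(0, 1, 1), (2, 1, 1), (3, 1, 1), (4, 1, 1), (5, 1, 1), (6, 1, 1), (7, 1, 1), (176, (-1), 2)] .nil .nil) .nil)) (.node [] (.node [] .nil (.node [] (.node [(211, (-1), 1)] .nil .nil) .nil)) (.node [(98, 1, 1)] (.node [] (.node [(188, (-1), 1)] .nil .nil) (.node [(237, (-1), 1)] .nil .nil)) .nil))) (.node [] (.node [(42, 1, 1)] (.node [] (.node [(104, 1, 1)] .nil .nil) (.node [] .nil (.node [(240, (-1), 1)] .nil .nil))) (.node [(95, 1, 1)] (.node [(137, 1, 1)] .nil .nil) .nil)) (.node [] (.node [] .nil (.node [(170, (-1), 1)] .nil .nil)) (.node [] (.node [] (.node [(195, (-1), 1)] .nil .nil) .nil) .nil)))) (.node [] (.node [] (.node [(37, 1, 1)] (.node [] (.node [(103, 1, 1)] .nil .nil) (.node [] (.node [(206, (-1), 1)] .nil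 .nil) .nil)) (.node [(94, 1, 1)] (.node [(130, 1, 1)] .nil .nil) (.node [(171, (-1), 1)] .nil .nil))) (.node [] (.node [] .nil (.node [] .nil (.node [(247, 1, 1)] .nil .nil))) (.node [(99, 1, 1)] (.node [] (.node [(191, (-1), 1)] .nil .nil) .nil) .nil))) (.node [] (.node [] (.node [] .nil (.node [] (.node [(210, (-1), 1)] .nil .nil) .nil)) (.node [] (.node [(148, 1, 1)] (.node [(181, (-1), 1)] .nil .nil) (.node [(236, (-1), 1)] .nil .nil)) .nil)) (.node [] (.node [(90, 1, 1)] .nil .nil) (.node [] (.node [] (.node [(200, (-1), 1)] .nil .nil) .nil) (.node [(174, (-1), 1)] .nil .nil)))))) (.node [] (.node [] (.node [(22, (-1), 1)] (.node [(33, 1, 1)] (.node [] (.node [(102, 1, 1)] .nil .nil) (.node [] (.node [(204, (-1), 1)] .nil .nil) .nil)) (.node [(93, 1, 1)] (.node [(128, 1, 1)] .nil .nil) .nil)) (.node [] .nil (.node [] (.node [] (.node [(190, (-1), 1)] .nil .nil) .nil) .nil))) (.node [] (.node [(43, 1, 1)] (.node [] .nil (.node []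 (.node [(209, (-1), 1)] .nil .nil) .nil)) (.node [] (.node [(142, 1, 1)] .nil (.node [(235, (-1), 1)] .nil .nil)) .nil)) (.node [] (.node [(88, 1, 1)] .nil .nil) (.node [(100, 1, 1)] (.node [] (.node [(198, (-1), 1)] .nil .nil) .nil) .nil)))) (.node [] (.node [] (.node [(40, 1, 1)] (.node [] .nil (.node [] (.node [(207, (-1), 1)] .nil .nil) .nil)) (.node [] (.node [(133, 1, 1)] .nil .nil) .nil)) (.node [] (.node [] (.node [(106, 1, 1)] .nil .nil) .nil) (.node [] (.node [] .nil (.node [(238, (-1), 1)] .nil .nil)) (.node [(173, (-1), 1)] .nil .nil)))) (.node [] (.node [] (.node [] (.node [(105, 1, 1)] .nil .nil) .nil) (.node [(97, 1, 1)] (.node [] (.node [(185, (-1), 1)] .nil .nil) .nil) (.node [(172, (-1), 1)] .nil .nil))) (.node [] (.node [(91, 1, 1)] .nil .nil) (.node [] (.node [] (.node [(201, (-1), 1)] .nil .nil) (.node [(239, (-1), 1)] .nil .nil)) .nil))))))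
def X169 : Tr (List (ℕ × ℤ × ℕ)) := (.node [(177, (-1), 1)] (.node [(177, (-1), 1)] (.node [] (.node [] (.node [] (.node [] (.node [(110, 1, 1)] .nil .nil) .nil) .nil) (.node [] (.node [(87, 1, 1)] (.node [(114, (-1), 1)] (.node [(179, (-1), 1)] .nil .nil) .nil) (.node [] (.node [(215, (-1), 1)] .nil .nil) (.node [(242, (-1), 1)] .nil .nil))) .nil)) (.node [] (.node [(45, 1, 1)] .nil (.node [] (.node [(149, 1, 1)] (.node [(194, (-1), 1)] .nil .nil) (.node [(237, (-1), 1)] .nil .nil)) .nil)) (.node [] (.node [(91, 1, 1)] (.node [(119, 1, 1)] (.node [(182, 1, 1)] .nil .nil) .nil) .nil) .nil))) (.node [] (.node [] (.node [] .nil (.node [] (.node [] (.node [(192, (-1), 1)] .nil .nil) (.node [(235, (-1), 1)] .nil .nil)) .nil)) (.node [] (.node [(89, 1, 1)] (.node [(116, (-1), 1)] (.node [(181, (-1), 1)] .nil .nil) .nil) (.node [(171, 1, 1)] (.node [(217, (-1), 1)] .nil .nil) .nil)) .nil)) (.node [(24, 1, 1)] (.node [(47, 1, 1)] (.node [] .nil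 (.node [] (.node [(213, (-1), 1)] .nil .nil) .nil)) (.node [] (.node [(155, 1, 1)] .nil .nil) .nil)) (.node [] (.node [] (.node [(121, 1, 1)] (.node [(184, 1, 1)] .nil .nil) .nil) .nil) (.node [(108, 1, 1)] .nil .nil))))) (.node [] (.node [(177, 1, 1)] (.node [] (.node [] .nil (.node [] (.node [] .nil (.node [(234, (-1), 1)] .nil .nil)) .nil)) (.node [] (.node [(88, 1, 1)] (.node [(115, (-1), 1)] (.node [(180, (-1), 1)] .nil .nil) .nil) (.node [] (.node [(216, (-1), 1)] .nil .nil) (.node [(243, (-1), 1)] .nil .nil))) .nil)) (.node [(23, 1, 1)] (.node [(46, 1, 1)] (.node [] .nil (.node [(170, (-1), 1)] (.node [(212, (-1), 1)] .nil .nil) .nil)) (.node [] (.node [(150, (-1), 1)] (.node [(195, (-1), 1)] .nil .nil) .nil) .nil)) (.node [] (.node [] (.node [(120, 1, 1)] (.node [(183, 1, 1)] .nil .nil) .nil) .nil) (.node [(107, 1, 1)] .nil .nil)))) (.node [] (.node [] (.node [(44, 1, 1)] (.node [] .nil (.node [] .nil (.node [(241, (-1), 1)] .nil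 .nil))) (.node [] (.node [] (.node [(193, (-1), 1)] .nil .nil) (.node [(236, (-1), 1)] .nil .nil)) .nil)) (.node [] (.node [(90, 1, 1)] (.node [(118, 1, 1)] .nil .nil) (.node [(172, (-1), 1)] .nil .nil)) .nil)) (.node [(29, 1, 1)] (.node [] (.node [(86, 1, 1)] (.node [(113, (-1), 1)] (.node [(178, (-1), 1)] .nil .nil) .nil) (.node [] (.node [(214, (-1), 1)] .nil .nil) .nil)) .nil) (.node [] (.node [] (.node [(0, 1, 1), (1, 1, 1), (2, 1, 1), (3, 1, 1), (177, (-1), 2)] (.node [(185, 1, 1)] .nil .nil) .nil) .nil) (.node [(109, 1, 1)] .nil .nil))))))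
def X170 : Tr (List (ℕ × ℤ × ℕ)) := (.node [(178, (-1), 1)] (.node [(178, (-1), 1)] (.node [(178, 1, 1)] (.node [] (.node [] (.node [] (.node [(111, (-1), 1)] .nil .nil) .nil) (.node [] (.node [] .nil (.node [(236, 1, 1)] .nil .nil)) .nil)) (.node [] (.node [] .nil (.node [] (.node [(218, (-1), 1)] .nil .nil) .nil)) .nil)) (.node [(23, 1, 1)] (.node [(48, (-1), 1)] (.node [(86, 1, 1)] (.node [(113, (-1), 1)] (.node [(179, (-1), 1)] .nil .nil) .nil) (.node [(170, (-1), 1)] (.node [(214, 1, 1)] .nil .nil) .nil)) (.node [] (.node [] (.node [(197, (-1), 1)] .nil .nil) (.node [(238, (-1), 1)] .nil .nil)) .nil)) (.node [] (.node [(94, (-1), 1)] (.node [(123, 1, 1)] .nil .nil) .nil) (.node [(109, 1, 1)] .nil .nil)))) (.node [(178, 1, 1)] (.node [] (.node [(44, 1, 1)] (.node [] .nil (.node [] (.node [(212, 1, 1)] .nil .nil) (.node [(241, 1, 1)] .nil .nil))) .nil) (.node [] (.node [(92, (-1), 1)] (.node [(117, 1, 1)] .nil .nil) (.node [] (.node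 [(220, (-1), 1)] .nil .nil) .nil)) (.node [(107, 1, 1)] .nil (.node [(177, (-1), 1)] .nil .nil)))) (.node [(25, (-1), 1)] (.node [(50, (-1), 1)] (.node [(88, 1, 1)] (.node [(115, (-1), 1)] (.node [(181, (-1), 1)] .nil .nil) .nil) .nil) (.node [] (.node [(156, 1, 1)] .nil .nil) .nil)) (.node [] (.node [] (.node [(0, 1, 1), (1, 1, 1), (2, 1, 1), (3, 1, 1), (4, 1, 1), (178, (-1), 2)] (.node [(187, 1, 1)] .nil .nil) (.node [(234, 1, 1)] .nil .nil)) .nil) .nil)))) (.node [] (.node [(178, (-1), 1)] (.node [] (.node [] .nil (.node [] (.node [] (.node [(192, 1, 1)] .nil .nil) .nil) .nil)) (.node [] (.node [] .nil (.node [(171, 1, 1)] (.node [(219, (-1), 1)] .nil .nil) (.node [(244, (-1), 1)] .nil .nil))) .nil)) (.node [] (.node [(49, (-1), 1)] (.node [(87, 1, 1)] (.node [(114, (-1), 1)] (.node [(180, (-1), 1)] .nil .nil) .nil) .nil) (.node [] (.node [(151, (-1), 1)] (.node [(198, (-1), 1)] .nil .nil) .nil) .nil)) (.node [] (.node [] (.node [(124,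 1, 1)] (.node [(186, 1, 1)] .nil .nil) .nil) .nil) .nil))) (.node [] (.node [] (.node [] (.node [] .nil (.node [] (.node [(213, 1, 1)] .nil .nil) .nil)) (.node [] (.node [(149, 1, 1)] (.node [(196, (-1), 1)] .nil .nil) .nil) .nil)) (.node [] (.node [(93, (-1), 1)] (.node [(122, 1, 1)] (.node [(182, (-1), 1)] .nil .nil) .nil) (.node [(173, (-1), 1)] .nil .nil)) (.node [(108, 1, 1)] .nil .nil))) (.node [(30, (-1), 1)] (.node [] (.node [] .nil (.node [] .nil (.node [(242, 1, 1)] .nil .nil))) .nil) (.node [] (.node [] (.node [(134, 1, 1)] (.node [(188, 1, 1)] .nil .nil) (.node [(235, 1, 1)] .nil .nil)) .nil) .nil)))))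
def X171 : Tr (List (ℕ × ℤ × ℕ)) := (.node [(179, (-1), 1)] (.node [(179, (-1), 1)] (.node [(179, 1, 1)] (.node [] (.node [] .nil (.node [] (.node [] .nil (.node [(237, 1, 1)] .nil .nil)) .nil)) (.node [] (.node [(92, (-1), 1)] .nil (.node [(171, 1, 1)] .nil .nil)) (.node [(107, 1, 1)] .nil .nil))) (.node [] (.node [] (.node [] .nil (.node [] (.node [(216, 1, 1)] .nil .nil) .nil)) (.node [] (.node [] (.node [(199, (-1), 1)] .nil .nil) .nil) .nil)) (.node [] (.node [(95, 1, 1)] (.node [(126, 1, 1)] (.node [(186, (-1), 1)] .nil .nil) (.node [(234, (-1), 1)] .nil .nil)) .nil) (.node [(110, (-1), 1)] .nil .nil)))) (.node [(179, (-1), 1)] (.node [] (.node [(45, (-1), 1)] (.node [] (.node [(113, (-1), 1)] (.node [(180, (-1), 1)] .nil .nil) .nil) .nil) (.node [] (.node [(149, 1, 1)] (.node [(196, 1, 1)] .nil .nil) .nil) .nil)) (.node [] (.node [] .nil (.node [] (.node [(221, (-1), 1)] .nil .nil) .nil)) .nil)) (.node [(26, 1, 1)] (.node [(52,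 1, 1)] (.node [(90, (-1), 1)] (.node [(116, 1, 1)] .nil .nil) (.node [] (.node [(218, 1, 1)] .nil .nil) (.node [(242, (-1), 1)] .nil .nil))) (.node [] (.node [(157, 1, 1)] .nil .nil) .nil)) (.node [] (.node [] (.node [(131, 1, 1)] (.node [(189, 1, 1)] .nil .nil) .nil) .nil) .nil)))) (.node [] (.node [] (.node [] (.node [] (.node [] .nil (.node [] (.node [(212, (-1), 1)] .nil .nil) (.node [(241, (-1), 1)] .nil .nil))) (.node [] (.node [] (.node [(193, 1, 1)] .nil .nil) .nil) .nil)) (.node [] (.node [(93, (-1), 1)] (.node [(117, 1, 1)] .nil .nil) (.node [] .nil (.node [(245, (-1), 1)] .nil .nil))) (.node [(108, 1, 1)] .nil (.node [(177, (-1), 1)] .nil .nil)))) (.node [] (.node [(51, 1, 1)] (.node [(89, (-1), 1)] .nil .nil) (.node [] (.node [(152, (-1), 1)] (.node [(200, (-1), 1)] .nil .nil) .nil) .nil)) (.node [] (.node [] (.node [(0, 1, 1), (1, 1, 1), (2, 1, 1), (3, 1, 1), (4, 1, 1), (5, 1, 1), (179, (-1), 2)] .nil (.node [(235, (-1),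 1)] .nil .nil)) .nil) (.node [] .nil (.node [(178, (-1), 1)] .nil .nil))))) (.node [(179, 1, 1)] (.node [(23, 1, 1)] (.node [(48, (-1), 1)] (.node [(86, 1, 1)] (.node [(114, (-1), 1)] (.node [(181, (-1), 1)] .nil .nil) .nil) (.node [(170, (-1), 1)] (.node [(215, 1, 1)] .nil .nil) .nil)) (.node [] (.node [] .nil (.node [(238, 1, 1)] .nil .nil)) .nil)) (.node [] (.node [] (.node [(125, 1, 1)] (.node [(183, (-1), 1)] .nil .nil) .nil) (.node [(174, (-1), 1)] .nil .nil)) .nil)) (.node [(31, 1, 1)] (.node [] (.node [] .nil (.node [] (.node [(219, 1, 1)] .nil .nil) .nil)) .nil) (.node [] (.node [] (.node [(135, 1, 1)] (.node [(190, 1, 1)] .nil .nil) .nil) .nil) (.node [(111, (-1), 1)] .nil .nil))))))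
def X172 : Tr (List (ℕ × ℤ × ℕ)) := (.node [(180, (-1), 1)] (.node [(180, (-1), 1)] (.node [(180, 1, 1)] (.node [(180, 1, 1)] (.node [] (.node [] .nil (.node [] .nil (.node [(241, 1, 1)] .nil .nil))) .nil) (.node [] (.node [] (.node [(117, 1, 1)] .nil .nil) .nil) (.node [] .nil (.node [(177, (-1), 1)] .nil .nil)))) (.node [] (.node [(51, 1, 1)] (.node [(89, (-1), 1)] .nil (.node [] (.node [(217, 1, 1)] .nil .nil) .nil)) .nil) (.node [] (.node [] (.node [(0, 1, 1), (1, 1, 1), (2, 1, 1), (3, 1, 1), (4, 1, 1), (5, 1, 1), (6, 1, 1), (180, (-1), 2)] (.node [(187, (-1), 1)] .nil .nil) .nil) .nil) (.node [] .nil (.node [(178, (-1), 1)] .nil .nil))))) (.node [] (.node [(23, 1, 1)] (.node [(46, 1, 1)] (.node [] .nil (.node [(170, (-1), 1)] (.node [(215, (-1), 1)] .nil .nil) .nil)) (.node [] (.node [] (.node [(197, 1, 1)] .nil .nil) (.node [(238, (-1), 1)] .nil .nil)) .nil)) .nil) (.node [(27, (-1), 1)] (.node [(53, (-1), 1)] (.node [(91, 1, 1)]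 .nil .nil) (.node [] (.node [(158, 1, 1)] .nil .nil) .nil)) (.node [] (.node [] (.node [(132, 1, 1)] .nil .nil) .nil) (.node [(111, (-1), 1)] .nil .nil))))) (.node [] (.node [] (.node [] (.node [] (.node [] (.node [(113, (-1), 1)] (.node [(181, (-1), 1)] .nil .nil) .nil) (.node [] (.node [(213, (-1), 1)] .nil .nil) .nil)) (.node [] (.node [(149, 1, 1)] (.node [(194, 1, 1)] .nil .nil) .nil) .nil)) (.node [] (.node [(94, 1, 1)] .nil (.node [] (.node [(221, 1, 1)] .nil .nil) (.node [(246, (-1), 1)] .nil .nil))) (.node [(109, (-1), 1)] .nil .nil))) (.node [] (.node [] (.node [] (.node [(116, 1, 1)] .nil .nil) (.node [] (.node [(218, (-1), 1)] .nil .nil) (.node [(242, 1, 1)] .nil .nil))) (.node [] (.node [(153, (-1), 1)] (.node [(201, (-1), 1)] .nil .nil) .nil) .nil)) (.node [] (.node [] (.node [(129, 1, 1)] (.node [(189, (-1), 1)] .nil .nil) (.node [(236, (-1), 1)] .nil .nil)) .nil) .nil))) (.node [(180, (-1), 1)] (.node [] (.node [(49, 1,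 1)] (.node [(87, (-1), 1)] (.node [(115, 1, 1)] .nil .nil) .nil) (.node [] (.node [] (.node [(199, 1, 1)] .nil .nil) .nil) .nil)) (.node [] (.node [(95, 1, 1)] (.node [(127, 1, 1)] (.node [(184, (-1), 1)] .nil .nil) (.node [(234, 1, 1)] .nil .nil)) (.node [(175, (-1), 1)] .nil .nil)) (.node [(110, (-1), 1)] .nil .nil))) (.node [(32, (-1), 1)] (.node [] (.node [(92, (-1), 1)] .nil (.node [(171, 1, 1)] (.node [(220, 1, 1)] .nil .nil) .nil)) (.node [(107, 1, 1)] .nil .nil)) (.node [] (.node [] (.node [(136, 1, 1)] (.node [(191, 1, 1)] .nil .nil) (.node [(237, (-1), 1)] .nil .nil)) .nil) (.node [] .nil (.node [(179, (-1), 1)] .nil .nil)))))))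
def X173 : Tr (List (ℕ × ℤ × ℕ)) := (.node [(181, (-1), 1)] (.node [(181, (-1), 1)] (.node [(181, 1, 1)] (.node [(181, (-1), 1)] (.node [] (.node [] (.node [] (.node [(180, (-1), 1)] .nil .nil) .nil) .nil) (.node [] (.node [(149, 1, 1)] .nil .nil) .nil)) (.node [] (.node [(94, 1, 1)] .nil (.node [] (.node [(221, (-1), 1)] .nil .nil) .nil)) (.node [(109, (-1), 1)] .nil .nil))) (.node [] (.node [(52, (-1), 1)] (.node [(90, 1, 1)] (.node [(116, 1, 1)] .nil .nil) (.node [] .nil (.node [(242, (-1), 1)] .nil .nil))) (.node [] (.node [] (.node [(201, 1, 1)] .nil .nil) .nil) .nil)) (.node [] (.node [] (.node [(128, 1, 1)] (.node [(188, (-1), 1)] .nil .nil) (.node [(236, 1, 1)] .nil .nil)) .nil) .nil))) (.node [] (.node [] (.node [(47, (-1), 1)] (.node [] (.node [(115, 1, 1)] .nil .nil) (.node [] (.node [(216, (-1), 1)] .nil .nil) .nil)) (.node [] (.node [] (.node [(198, 1, 1)] .nil .nil) .nil) .nil)) (.node [] (.node [(95, 1, 1)] .nil .nil) (.node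 [(110, (-1), 1)] .nil .nil))) (.node [(28, 1, 1)] (.node [] (.node [] .nil (.node [(171, 1, 1)] (.node [(220, (-1), 1)] .nil .nil) .nil)) (.node [] (.node [(159, 1, 1)] .nil .nil) .nil)) (.node [] (.node [] (.node [(133, 1, 1)] (.node [(191, (-1), 1)] .nil .nil) (.node [(237, 1, 1)] .nil .nil)) .nil) (.node [] .nil (.node [(179, (-1), 1)] .nil .nil)))))) (.node [] (.node [] (.node [(23, 1, 1)] (.node [] (.node [] (.node [(114, 1, 1)] .nil .nil) (.node [(170, (-1), 1)] (.node [(214, (-1), 1)] .nil .nil) .nil)) (.node [] (.node [] (.node [(195, 1, 1)] .nil .nil) (.node [(238, 1, 1)] .nil .nil)) .nil)) (.node [] (.node [] .nil (.node [] .nil (.node [(247, (-1), 1)] .nil .nil))) .nil)) (.node [] (.node [(53, (-1), 1)] (.node [(91, 1, 1)] .nil (.node [] (.node [(219, (-1), 1)] .nil .nil) .nil)) (.node [] (.node [(154, (-1), 1)] .nil .nil) .nil)) (.node [] (.node [] (.node [(130, 1, 1)] (.node [(190, (-1), 1)] .nil .nil) .nil) .nil) (.node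 [(111, (-1), 1)] .nil .nil)))) (.node [] (.node [] (.node [(50, (-1), 1)] (.node [(88, 1, 1)] .nil (.node [] (.node [(217, (-1), 1)] .nil .nil) .nil)) (.node [] (.node [] (.node [(200, 1, 1)] .nil .nil) .nil) .nil)) (.node [] (.node [] (.node [(0, 1, 1), (1, 1, 1), (2, 1, 1), (3, 1, 1), (4, 1, 1), (5, 1, 1), (6, 1, 1), (7, 1, 1), (181, (-1), 2)] (.node [(185, (-1), 1)] .nil .nil) (.node [(235, 1, 1)] .nil .nil)) (.node [(176, (-1), 1)] .nil .nil)) (.node [] .nil (.node [(178, (-1), 1)] .nil .nil)))) (.node [(33, 1, 1)] (.node [] (.node [(93, 1, 1)] (.node [(117, 1, 1)] .nil .nil) .nil) (.node [(108, (-1), 1)] .nil (.node [(177, (-1), 1)] .nil .nil))) (.node [] (.node [] (.node [(137, 1, 1)] .nil .nil) .nil) (.node [] (.node [] .nil (.node [(241, (-1), 1)] .nil .nil)) .nil))))))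
def X174 : Tr (List (ℕ × ℤ × ℕ)) := (.node [(182, (-1), 1)] (.node [] (.node [(182, (-1), 1)] (.node [] (.node [] (.node [(86, 1, 1)] (.node [(112, 1, 1)] .nil .nil) (.node [(170, (-1), 1)] (.node [(214, (-1), 1)] .nil .nil) .nil)) (.node [] (.node [] (.node [(192, (-1), 1)] .nil .nil) .nil) .nil)) (.node [] (.node [] (.node [(123, 1, 1)] (.node [(186, 1, 1)] .nil .nil) (.node [(234, (-1), 1)] .nil .nil)) (.node [] (.node [(222, (-1), 1)] .nil .nil) (.node [(244, 1, 1)] .nil .nil))) .nil)) (.node [(24, (-1), 1)] (.node [(54, 1, 1)] (.node [] (.node [(118, (-1), 1)] (.node [(183, (-1), 1)] .nil .nil) .nil) .nil) (.node [(107, 1, 1)] (.node [(151, (-1), 1)] (.node [(203, (-1), 1)] .nil .nil) (.node [(239, (-1), 1)] .nil .nil)) .nil)) (.node [] (.node [(98, 1, 1)] .nil .nil) .nil))) (.node [(182, 1, 1)] (.node [] (.node [] (.node [(88, 1, 1)] .nil .nil) .nil) (.node [] (.node [(96, 1, 1)] (.node [(0, 1, 1), (1, 1, 1), (2, 1, 1), (3, 2, 1),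 (4, 1, 1), (182, (-1), 2)] (.node [(188, 1, 1)] .nil .nil) (.node [(236, (-1), 1)] .nil .nil)) (.node [(173, (-1), 1)] (.node [(224, (-1), 1)] .nil .nil) .nil)) .nil)) (.node [] (.node [(56, 1, 1)] (.node [] (.node [(120, (-1), 1)] (.node [(185, (-1), 1)] .nil .nil) .nil) .nil) (.node [(109, 1, 1)] (.node [(160, 1, 1)] .nil .nil) (.node [(178, (-1), 1)] .nil .nil))) (.node [] (.node [] (.node [(138, 1, 1)] .nil .nil) .nil) (.node [] (.node [] (.node [(212, (-1), 1)] .nil .nil) (.node [(241, (-1), 1)] .nil .nil)) .nil))))) (.node [(182, 1, 1)] (.node [] (.node [] (.node [(44, 1, 1)] (.node [(87, 1, 1)] .nil .nil) .nil) (.node [] (.node [] (.node [(124, 1, 1)] (.node [(187, 1, 1)] .nil .nil) (.node [(235, (-1), 1)] .nil .nil)) (.node [(172, 1, 1)] (.node [(223, (-1), 1)] .nil .nil) .nil)) .nil)) (.node [(25, (-1), 1)] (.node [(55, 1, 1)] (.node [] (.node [(119, (-1), 1)] (.node [(184, (-1), 1)] .nil .nil) .nil) .nil) (.node [(108, 1, 1)]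 (.node [] (.node [(204, (-1), 1)] .nil .nil) .nil) (.node [(177, 1, 1)] .nil .nil))) .nil)) (.node [] (.node [] (.node [] .nil (.node [] (.node [(150, 1, 1)] (.node [(202, (-1), 1)] .nil .nil) .nil) .nil)) (.node [] (.node [(97, 1, 1)] .nil .nil) .nil)) (.node [(34, 1, 1)] (.node [] (.node [] (.node [(122, 1, 1)] .nil .nil) (.node [] .nil (.node [(243, 1, 1)] .nil .nil))) .nil) (.node [] (.node [] (.node [(139, (-1), 1)] .nil .nil) .nil) (.node [] (.node [] (.node [(213, (-1), 1)] .nil .nil) .nil) .nil))))))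
def X175 : Tr (List (ℕ × ℤ × ℕ)) := (.node [(183, (-1), 1)] (.node [] (.node [(183, (-1), 1)] (.node [] (.node [] (.node [] .nil (.node [] (.node [(216, (-1), 1)] .nil .nil) .nil)) (.node [] (.node [] (.node [(193, (-1), 1)] .nil .nil) .nil) .nil)) (.node [] (.node [(96, 1, 1)] (.node [(126, 1, 1)] .nil .nil) (.node [(172, 1, 1)] .nil (.node [(245, 1, 1)] .nil .nil))) .nil)) (.node [] (.node [] .nil (.node [] (.node [(152, (-1), 1)] (.node [(205, (-1), 1)] .nil .nil) .nil) (.node [(177, 1, 1)] .nil .nil))) (.node [] (.node [(99, (-1), 1)] .nil .nil) .nil))) (.node [(183, (-1), 1)] (.node [] (.node [] (.node [(90, (-1), 1)] (.node [(118, (-1), 1)] (.node [(184, (-1), 1)] .nil .nil) .nil) .nil) (.node [(107, 1, 1)] (.node [(150, 1, 1)] (.node [(202, 1, 1)] .nil .nil) .nil) .nil)) (.node [] (.node [] (.node [(131, 1, 1)] (.node [(190, 1, 1)] .nil .nil) (.node [(237, (-1), 1)] .nil .nil)) (.node [(174, (-1), 1)] (.node [(225, (-1), 1)] .nil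 .nil) .nil)) .nil)) (.node [] (.node [(58, (-1), 1)] (.node [] (.node [(121, 1, 1)] .nil (.node [(234, 1, 1)] .nil .nil)) (.node [] (.node [(222, 1, 1)] .nil .nil) (.node [(243, (-1), 1)] .nil .nil))) (.node [(110, (-1), 1)] (.node [(161, 1, 1)] .nil .nil) (.node [(179, (-1), 1)] .nil .nil))) .nil))) (.node [(183, 1, 1)] (.node [(183, 1, 1)] (.node [] (.node [(45, (-1), 1)] (.node [(89, (-1), 1)] .nil .nil) .nil) (.node [] (.node [(97, 1, 1)] (.node [(0, 1, 1), (1, 1, 1), (2, 1, 1), (3, 2, 1), (4, 1, 1), (5, 1, 1), (183, (-1), 2)] (.node [(189, 1, 1)] .nil .nil) .nil) .nil) .nil)) (.node [(26, 1, 1)] (.node [(57, (-1), 1)] .nil (.node [] (.node [] (.node [(206, (-1), 1)] .nil .nil) .nil) .nil)) (.node [] (.node [] (.node [(138, 1, 1)] .nil .nil) .nil) (.node [] (.node [] (.node [(212, 1, 1)] .nil .nil) (.node [(241, 1, 1)] .nil .nil)) (.node [(182, (-1), 1)] .nil .nil))))) (.node [(183, 1, 1)] (.node [(24, (-1), 1)] (.node [(54, 1, 1)]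 (.node [] (.node [(119, (-1), 1)] (.node [(185, (-1), 1)] .nil .nil) .nil) .nil) (.node [(108, 1, 1)] (.node [] .nil (.node [(239, 1, 1)] .nil .nil)) .nil)) .nil) (.node [(35, (-1), 1)] (.node [] (.node [] (.node [(125, 1, 1)] (.node [(186, (-1), 1)] .nil .nil) (.node [(235, 1, 1)] .nil .nil)) (.node [] (.node [(223, 1, 1)] .nil .nil) .nil)) .nil) (.node [(86, 1, 1)] (.node [] (.node [(140, (-1), 1)] .nil .nil) .nil) (.node [(112, 1, 1)] (.node [(170, (-1), 1)] (.node [(215, (-1), 1)] .nil .nil) .nil) .nil))))))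
def X176 : Tr (List (ℕ × ℤ × ℕ)) := (.node [(184, (-1), 1)] (.node [] (.node [(184, (-1), 1)] (.node [(184, 1, 1)] (.node [] (.node [(89, (-1), 1)] .nil (.node [] (.node [(217, (-1), 1)] .nil .nil) .nil)) (.node [] (.node [] (.node [(194, (-1), 1)] .nil .nil) .nil) .nil)) (.node [] (.node [] (.node [(0, 1, 1), (1, 1, 1), (2, 1, 1), (3, 2, 1), (4, 1, 1), (5, 1, 1), (6, 1, 1), (184, (-1), 2)] (.node [(189, (-1), 1)] .nil .nil) .nil) (.node [] .nil (.node [(246, 1, 1)] .nil .nil))) .nil)) (.node [] (.node [(57, (-1), 1)] .nil (.node [] (.node [(153, (-1), 1)] .nil .nil) .nil)) (.node [] (.node [] (.node [(138, 1, 1)] .nil .nil) .nil) (.node [] (.node [] .nil (.node [(241, (-1), 1)] .nil .nil)) (.node [(182, (-1), 1)] .nil .nil))))) (.node [] (.node [(24, (-1), 1)] (.node [] (.node [(91, 1, 1)] .nil .nil) (.node [] (.node [] (.node [(203, 1, 1)] .nil .nil) (.node [(239, (-1), 1)] .nil .nil)) .nil)) (.node [] (.node [] (.node [(132, 1, 1)]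 (.node [(191, 1, 1)] .nil .nil) .nil) (.node [(175, (-1), 1)] .nil .nil)) .nil)) (.node [] (.node [(59, 1, 1)] .nil (.node [] (.node [(162, 1, 1)] .nil .nil) (.node [(180, (-1), 1)] .nil .nil))) (.node [] .nil (.node [(112, 1, 1)] (.node [(170, (-1), 1)] (.node [(215, 1, 1)] .nil .nil) .nil) .nil))))) (.node [(184, 1, 1)] (.node [(184, 1, 1)] (.node [] (.node [(46, 1, 1)] (.node [] (.node [(118, (-1), 1)] (.node [(185, (-1), 1)] .nil .nil) .nil) .nil) (.node [(107, 1, 1)] (.node [(150, 1, 1)] .nil .nil) .nil)) (.node [] (.node [(98, (-1), 1)] (.node [(129, 1, 1)] .nil (.node [(237, 1, 1)] .nil .nil)) (.node [] (.node [(225, 1, 1)] .nil .nil) .nil)) .nil)) (.node [(27, (-1), 1)] (.node [] (.node [] (.node [(121, 1, 1)] .nil (.node [(234, (-1), 1)] .nil .nil)) (.node [] (.node [(222, (-1), 1)] .nil .nil) (.node [(243, 1, 1)] .nil .nil))) (.node [(110, (-1), 1)] (.node [] (.node [(207, (-1), 1)] .nil .nil) .nil) .nil)) (.node [] .nil (.node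 [] (.node [] (.node [(213, 1, 1)] .nil .nil) .nil) .nil)))) (.node [(184, (-1), 1)] (.node [] (.node [(55, (-1), 1)] (.node [] (.node [(120, 1, 1)] .nil .nil) .nil) (.node [(109, (-1), 1)] (.node [] (.node [(205, 1, 1)] .nil .nil) .nil) (.node [(177, 1, 1)] .nil .nil))) (.node [] (.node [(99, (-1), 1)] .nil .nil) .nil)) (.node [(36, 1, 1)] (.node [] (.node [(96, 1, 1)] (.node [(127, 1, 1)] (.node [(187, (-1), 1)] .nil .nil) (.node [(236, 1, 1)] .nil .nil)) (.node [(172, 1, 1)] (.node [(224, 1, 1)] .nil .nil) .nil)) .nil) (.node [(87, (-1), 1)] (.node [] (.node [(141, (-1), 1)] .nil .nil) .nil) (.node [] .nil (.node [(183, (-1), 1)] .nil .nil)))))))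
def X177 : Tr (List (ℕ × ℤ × ℕ)) := (.node [(185, (-1), 1)] (.node [] (.node [(185, (-1), 1)] (.node [(185, (-1), 1)] (.node [] (.node [(90, 1, 1)] (.node [] (.node [(184, (-1), 1)] .nil .nil) .nil) .nil) (.node [] (.node [(150, 1, 1)] (.node [(195, (-1), 1)] .nil .nil) .nil) .nil)) (.node [] (.node [(98, (-1), 1)] (.node [(128, 1, 1)] (.node [(190, (-1), 1)] .nil .nil) (.node [(237, (-1), 1)] .nil .nil)) (.node [] (.node [(225, (-1), 1)] .nil .nil) (.node [(247, 1, 1)] .nil .nil))) .nil)) (.node [] (.node [(58, 1, 1)] (.node [] (.node [(121, 1, 1)] .nil .nil) (.node [] .nil (.node [(243, (-1), 1)] .nil .nil))) (.node [(110, (-1), 1)] (.node [(154, (-1), 1)] (.node [(207, 1, 1)] .nil .nil) .nil) .nil)) .nil)) (.node [] (.node [] (.node [] (.node [] (.node [(120, 1, 1)] .nil .nil) .nil) (.node [(109, (-1), 1)] (.node [] (.node [(204, 1, 1)] .nil .nil) .nil) (.node [(177, 1, 1)] .nil .nil))) (.node [] (.node [(99, (-1), 1)] (.node [(133,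 1, 1)] .nil .nil) (.node [(176, (-1), 1)] .nil .nil)) .nil)) (.node [] (.node [] (.node [] (.node [] .nil (.node [(236, (-1), 1)] .nil .nil)) (.node [(172, 1, 1)] (.node [(224, (-1), 1)] .nil .nil) .nil)) (.node [] (.node [(163, 1, 1)] .nil .nil) (.node [(181, (-1), 1)] .nil .nil))) (.node [] .nil (.node [] (.node [] (.node [(216, 1, 1)] .nil .nil) .nil) (.node [(183, (-1), 1)] .nil .nil)))))) (.node [(185, 1, 1)] (.node [(185, 1, 1)] (.node [(24, (-1), 1)] (.node [(47, (-1), 1)] (.node [(91, 1, 1)] (.node [(119, 1, 1)] .nil .nil) .nil) (.node [(108, (-1), 1)] (.node [] .nil (.node [(239, 1, 1)] .nil .nil)) .nil)) (.node [] (.node [] (.node [(130, 1, 1)] (.node [(191, (-1), 1)] .nil .nil) .nil) .nil) .nil)) (.node [(28, 1, 1)] (.node [(59, 1, 1)] (.node [] (.node [] .nil (.node [(235, (-1), 1)] .nil .nil)) (.node [] (.node [(223, (-1), 1)] .nil .nil) .nil)) .nil) (.node [] .nil (.node [(112, 1, 1)] (.node [(170, (-1), 1)] (.node [(214,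 1, 1)] .nil .nil) .nil) .nil)))) (.node [] (.node [] (.node [(56, 1, 1)] .nil (.node [] (.node [] (.node [(206, 1, 1)] .nil .nil) .nil) .nil)) (.node [] (.node [] (.node [(138, 1, 1)] .nil .nil) .nil) (.node [] (.node [] .nil (.node [(241, 1, 1)] .nil .nil)) (.node [(182, (-1), 1)] .nil .nil)))) (.node [(37, (-1), 1)] (.node [] (.node [(97, (-1), 1)] (.node [(0, 1, 1), (1, 1, 1), (2, 1, 1), (3, 2, 1), (4, 1, 1), (5, 1, 1), (6, 1, 1), (7, 1, 1), (185, (-1), 2)] (.node [(188, (-1), 1)] .nil .nil) .nil) .nil) .nil) (.node [(88, 1, 1)] (.node [] (.node [(142, (-1), 1)] .nil .nil) .nil) (.node [] (.node [] (.node [(217, 1, 1)] .nil .nil) .nil) .nil))))))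
def X178 : Tr (List (ℕ × ℤ × ℕ)) := (.node [(186, (-1), 1)] (.node [] (.node [] (.node [] (.node [] (.node [] .nil (.node [] (.node [(219, (-1), 1)] .nil .nil) .nil)) (.node [(108, 1, 1)] (.node [] (.node [(196, (-1), 1)] .nil .nil) (.node [(239, (-1), 1)] .nil .nil)) .nil)) (.node [] (.node [] .nil (.node [(173, 1, 1)] .nil .nil)) .nil)) (.node [(26, 1, 1)] (.node [] (.node [] (.node [(125, 1, 1)] .nil (.node [(235, (-1), 1)] .nil .nil)) (.node [] (.node [(223, (-1), 1)] .nil .nil) .nil)) (.node [] (.node [] (.node [(208, (-1), 1)] .nil .nil) .nil) (.node [(178, 1, 1)] .nil .nil))) (.node [] (.node [(100, 1, 1)] .nil .nil) (.node [(112, 1, 1)] (.node [(170, (-1), 1)] (.node [(212, (-1), 1)] .nil .nil) .nil) .nil)))) (.node [] (.node [] (.node [(54, 1, 1)] (.node [(93, 1, 1)] (.node [(122, (-1), 1)] (.node [(187, (-1), 1)] .nil .nil) .nil) .nil) (.node [] (.node [(151, 1, 1)] .nil .nil) .nil)) (.node [] (.node [] (.node [(135, (-1), 1)]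 .nil (.node [(238, (-1), 1)] .nil .nil)) (.node [] (.node [(226, (-1), 1)] .nil .nil) .nil)) (.node [] (.node [] .nil (.node [(241, (-1), 1)] .nil .nil)) (.node [(183, (-1), 1)] .nil .nil)))) (.node [] (.node [(61, 1, 1)] (.node [(97, 1, 1)] (.node [(0, 1, 1), (1, 1, 1), (2, 1, 1), (3, 2, 1), (4, 2, 1), (5, 1, 1), (186, (-1), 2)] (.node [(190, 1, 1)] .nil .nil) .nil) (.node [] .nil (.node [(244, (-1), 1)] .nil .nil))) (.node [(111, 1, 1)] (.node [(164, 1, 1)] .nil .nil) .nil)) (.node [(86, 1, 1)] (.node [] (.node [(140, (-1), 1)] .nil .nil) .nil) .nil)))) (.node [(186, 1, 1)] (.node [(186, (-1), 1)] (.node [] (.node [(48, 1, 1)] (.node [(92, 1, 1)] .nil .nil) (.node [] (.node [] (.node [(202, (-1), 1)] .nil .nil) .nil) .nil)) (.node [] (.node [] (.node [(134, 1, 1)] .nil .nil) (.node [(174, (-1), 1)] .nil .nil)) (.node [] .nil (.node [(182, 1, 1)] .nil .nil)))) (.node [] (.node [(60, 1, 1)] (.node [(96, 1, 1)] (.node [(126, 1, 1)] (.node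 [(189, 1, 1)] .nil .nil) .nil) .nil) (.node [] (.node [] (.node [(209, (-1), 1)] .nil .nil) .nil) (.node [(179, (-1), 1)] .nil .nil))) (.node [] (.node [] (.node [(139, 1, 1)] .nil .nil) .nil) .nil))) (.node [(186, 1, 1)] (.node [(25, 1, 1)] (.node [] (.node [] (.node [(123, (-1), 1)] (.node [(188, (-1), 1)] .nil .nil) (.node [(234, (-1), 1)] .nil .nil)) (.node [] (.node [(222, (-1), 1)] .nil .nil) .nil)) (.node [] (.node [(152, (-1), 1)] .nil .nil) .nil)) .nil) (.node [(38, 1, 1)] (.node [] (.node [] .nil (.node [] .nil (.node [(245, (-1), 1)] .nil .nil))) .nil) (.node [] (.node [(107, 1, 1)] .nil .nil) (.node [] (.node [] (.node [(218, (-1), 1)] .nil .nil) .nil) .nil))))))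
def X179 : Tr (List (ℕ × ℤ × ℕ)) := (.node [(187, (-1), 1)] (.node [] (.node [] (.node [(187, 1, 1)] (.node [] (.node [(92, 1, 1)] .nil (.node [] (.node [(220, (-1), 1)] .nil .nil) .nil)) (.node [(109, (-1), 1)] (.node [] (.node [(197, (-1), 1)] .nil .nil) .nil) .nil)) (.node [] (.node [] (.node [(134, 1, 1)] .nil .nil) .nil) (.node [] .nil (.node [(182, 1, 1)] .nil .nil)))) (.node [(27, (-1), 1)] (.node [(60, 1, 1)] (.node [(96, 1, 1)] (.node [(127, 1, 1)] (.node [(189, (-1), 1)] .nil .nil) (.node [(236, (-1), 1)] .nil .nil)) (.node [] (.node [(224, (-1), 1)] .nil .nil) .nil)) .nil) (.node [] (.node [] (.node [(139, 1, 1)] .nil .nil) .nil) (.node [] (.node [] (.node [(213, (-1), 1)] .nil .nil) .nil) .nil)))) (.node [(187, 1, 1)] (.node [(25, 1, 1)] (.node [(55, (-1), 1)] (.node [(94, (-1), 1)] (.node [] .nil (.node [(234, 1, 1)] .nil .nil)) (.node [] (.node [(222, 1, 1)] .nil .nil) .nil)) .nil) (.node [] (.node [] (.node [(136, (-1),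 1)] .nil .nil) .nil) (.node [] .nil (.node [(184, (-1), 1)] .nil .nil)))) (.node [] (.node [(62, (-1), 1)] (.node [(98, (-1), 1)] (.node [(129, 1, 1)] (.node [(191, 1, 1)] .nil .nil) .nil) .nil) (.node [] (.node [(165, 1, 1)] .nil .nil) .nil)) (.node [(87, (-1), 1)] (.node [(107, 1, 1)] (.node [(141, (-1), 1)] .nil .nil) .nil) (.node [] (.node [] (.node [(218, 1, 1)] .nil .nil) .nil) .nil))))) (.node [(187, 1, 1)] (.node [(187, (-1), 1)] (.node [] (.node [(49, (-1), 1)] (.node [] (.node [(122, (-1), 1)] (.node [(188, (-1), 1)] .nil .nil) .nil) .nil) (.node [] (.node [(151, 1, 1)] (.node [(203, (-1), 1)] .nil .nil) .nil) .nil)) (.node [] (.node [] (.node [] .nil (.node [(238, 1, 1)] .nil .nil)) (.node [(175, (-1), 1)] (.node [(226, 1, 1)] .nil .nil) .nil)) (.node [] (.node [] .nil (.node [(241, 1, 1)] .nil .nil)) .nil))) (.node [] (.node [] (.node [] (.node [(0, 1, 1), (1, 1, 1), (2, 1, 1), (3, 2, 1), (4, 2, 1), (5, 1, 1), (6, 1, 1), (187,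 (-1), 2)] .nil .nil) (.node [] .nil (.node [(244, 1, 1)] .nil .nil))) (.node [(111, 1, 1)] (.node [] (.node [(210, (-1), 1)] .nil .nil) .nil) (.node [(180, (-1), 1)] .nil .nil))) .nil)) (.node [(187, (-1), 1)] (.node [] (.node [] (.node [] (.node [(124, 1, 1)] .nil .nil) .nil) (.node [] (.node [(153, (-1), 1)] (.node [(208, 1, 1)] .nil .nil) .nil) (.node [(178, 1, 1)] .nil .nil))) (.node [] (.node [(100, 1, 1)] .nil .nil) (.node [(112, 1, 1)] (.node [(170, (-1), 1)] .nil .nil) .nil))) (.node [(39, (-1), 1)] (.node [] (.node [] .nil (.node [(173, 1, 1)] .nil (.node [(246, (-1), 1)] .nil .nil))) .nil) (.node [] (.node [] (.node [] .nil (.node [(239, 1, 1)] .nil .nil)) .nil) (.node [] .nil (.node [(186, (-1), 1)] .nil .nil)))))))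
def X180 : Tr (List (ℕ × ℤ × ℕ)) := (.node [(188, (-1), 1)] (.node [] (.node [] (.node [(188, (-1), 1)] (.node [] (.node [(93, (-1), 1)] (.node [] (.node [(187, (-1), 1)] .nil .nil) .nil) .nil) (.node [] (.node [(151, 1, 1)] (.node [(198, (-1), 1)] .nil .nil) .nil) .nil)) (.node [] (.node [] (.node [] .nil (.node [(238, (-1), 1)] .nil .nil)) (.node [] (.node [(226, (-1), 1)] .nil .nil) .nil)) (.node [] (.node [] .nil (.node [(241, (-1), 1)] .nil .nil)) .nil))) (.node [(28, 1, 1)] (.node [(61, (-1), 1)] (.node [(97, (-1), 1)] (.node [(0, 1, 1), (1, 1, 1), (2, 1, 1), (3, 2, 1), (4, 2, 1), (5, 1, 1), (6, 1, 1), (7, 1, 1), (188, (-1), 2)] (.node [(190, (-1), 1)] .nil .nil) .nil) (.node [] .nil (.node [(244, (-1), 1)] .nil .nil))) (.node [(111, 1, 1)] (.node [] (.node [(210, 1, 1)] .nil .nil) .nil) .nil)) (.node [] .nil (.node [] (.node [] (.node [(214, (-1), 1)] .nil .nil) .nil) .nil)))) (.node [(188, 1, 1)] (.node [] (.node [(56, 1, 1)]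 (.node [] (.node [(124, 1, 1)] .nil (.node [(235, 1, 1)] .nil .nil)) (.node [] (.node [(223, 1, 1)] .nil .nil) .nil)) (.node [] .nil (.node [(178, 1, 1)] .nil .nil))) (.node [] (.node [(100, 1, 1)] (.node [(137, (-1), 1)] .nil .nil) .nil) (.node [(112, 1, 1)] (.node [(170, (-1), 1)] .nil .nil) (.node [(185, (-1), 1)] .nil .nil)))) (.node [] (.node [] (.node [] (.node [(130, 1, 1)] .nil .nil) (.node [(173, 1, 1)] .nil .nil)) (.node [] (.node [(166, 1, 1)] .nil .nil) .nil)) (.node [(88, 1, 1)] (.node [(108, (-1), 1)] (.node [(142, (-1), 1)] .nil (.node [(239, (-1), 1)] .nil .nil)) .nil) (.node [] (.node [] (.node [(219, 1, 1)] .nil .nil) .nil) (.node [(186, (-1), 1)] .nil .nil)))))) (.node [(188, 1, 1)] (.node [(188, (-1), 1)] (.node [(25, 1, 1)] (.node [(50, 1, 1)] (.node [(94, (-1), 1)] (.node [(123, 1, 1)] .nil .nil) .nil) (.node [] (.node [] (.node [(204, (-1), 1)] .nil .nil) .nil) .nil)) (.node [] (.node [] .nil (.node [(176, (-1),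 1)] .nil .nil)) .nil)) (.node [] (.node [(62, (-1), 1)] (.node [(98, (-1), 1)] (.node [(128, 1, 1)] (.node [(191, (-1), 1)] .nil .nil) .nil) .nil) (.node [] .nil (.node [(181, (-1), 1)] .nil .nil))) .nil)) (.node [] (.node [] (.node [] (.node [] (.node [] .nil (.node [(236, 1, 1)] .nil .nil)) (.node [] (.node [(224, 1, 1)] .nil .nil) .nil)) (.node [] (.node [(154, (-1), 1)] (.node [(209, 1, 1)] .nil .nil) .nil) .nil)) (.node [] (.node [] (.node [(139, 1, 1)] .nil .nil) .nil) .nil)) (.node [(40, 1, 1)] (.node [] (.node [] (.node [(134, 1, 1)] .nil .nil) (.node [] .nil (.node [(247, (-1), 1)] .nil .nil))) (.node [] .nil (.node [(182, 1, 1)] .nil .nil))) (.node [] (.node [(109, (-1), 1)] .nil .nil) (.node [] (.node [] (.node [(220, 1, 1)] .nil .nil) .nil) .nil))))))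
def X181 : Tr (List (ℕ × ℤ × ℕ)) := (.node [(189, (-1), 1)] (.node [] (.node [] (.node [(189, 1, 1)] (.node [] (.node [] .nil (.node [] (.node [(221, (-1), 1)] .nil .nil) .nil)) (.node [(110, 1, 1)] (.node [] (.node [(199, (-1), 1)] .nil .nil) .nil) .nil)) (.node [] (.node [] (.node [(135, 1, 1)] .nil .nil) (.node [(175, (-1), 1)] .nil .nil)) (.node [] .nil (.node [(183, 1, 1)] .nil .nil)))) (.node [] (.node [] (.node [] (.node [] .nil (.node [(237, (-1), 1)] .nil .nil)) (.node [] (.node [(225, (-1), 1)] .nil .nil) .nil)) (.node [] .nil (.node [(180, (-1), 1)] .nil .nil))) (.node [] (.node [] (.node [(140, 1, 1)] .nil .nil) .nil) (.node [] (.node [] (.node [(215, (-1), 1)] .nil .nil) .nil) (.node [(186, 1, 1)] .nil .nil))))) (.node [(189, (-1), 1)] (.node [(26, (-1), 1)] (.node [(57, 1, 1)] (.node [(95, 1, 1)] (.node [(127, 1, 1)] .nil .nil) .nil) (.node [] (.node [(153, (-1), 1)] (.node [(208, (-1), 1)] .nil .nil) .nil) .nil)) .nil)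 (.node [] (.node [(63, 1, 1)] (.node [(99, 1, 1)] (.node [(132, (-1), 1)] .nil .nil) (.node [] .nil (.node [(246, 1, 1)] .nil .nil))) (.node [] (.node [(167, 1, 1)] .nil .nil) .nil)) (.node [(89, 1, 1)] .nil .nil)))) (.node [(189, 1, 1)] (.node [] (.node [] (.node [(51, 1, 1)] (.node [] (.node [(125, (-1), 1)] (.node [(190, (-1), 1)] .nil .nil) (.node [(234, (-1), 1)] .nil .nil)) (.node [] (.node [(222, (-1), 1)] .nil .nil) .nil)) (.node [] (.node [(152, 1, 1)] (.node [(205, (-1), 1)] .nil .nil) .nil) .nil)) (.node [] (.node [(100, 1, 1)] (.node [(136, (-1), 1)] .nil .nil) .nil) (.node [(112, 1, 1)] (.node [(170, (-1), 1)] .nil .nil) (.node [(184, (-1), 1)] .nil .nil)))) (.node [] (.node [] (.node [] (.node [(131, 1, 1)] .nil .nil) (.node [] .nil (.node [(245, 1, 1)] .nil .nil))) (.node [] (.node [] (.node [(211, (-1), 1)] .nil .nil) .nil) .nil)) (.node [] (.node [(107, 1, 1)] (.node [(141, (-1), 1)] .nil (.node [(239, (-1), 1)] .nil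 .nil)) .nil) (.node [] (.node [] (.node [(218, (-1), 1)] .nil .nil) .nil) (.node [(187, (-1), 1)] .nil .nil))))) (.node [] (.node [(27, (-1), 1)] (.node [(60, 1, 1)] (.node [(96, 1, 1)] (.node [(0, 1, 1), (1, 1, 1), (2, 1, 1), (3, 2, 1), (4, 2, 1), (5, 2, 1), (6, 1, 1), (189, (-1), 2)] (.node [(191, 1, 1)] .nil .nil) .nil) .nil) (.node [(111, 1, 1)] .nil (.node [(179, 1, 1)] .nil .nil))) .nil) (.node [(41, 1, 1)] (.node [] (.node [] (.node [] .nil (.node [(238, (-1), 1)] .nil .nil)) (.node [(174, 1, 1)] (.node [(226, (-1), 1)] .nil .nil) .nil)) (.node [] (.node [] .nil (.node [(241, (-1), 1)] .nil .nil)) .nil)) (.node [(92, 1, 1)] .nil .nil)))))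
def X182 : Tr (List (ℕ × ℤ × ℕ)) := (.node [(190, (-1), 1)] (.node [] (.node [] (.node [(190, (-1), 1)] (.node [] (.node [] (.node [] (.node [(189, (-1), 1)] .nil .nil) .nil) .nil) (.node [] (.node [(152, 1, 1)] (.node [(200, (-1), 1)] .nil .nil) .nil) .nil)) (.node [] (.node [(100, 1, 1)] .nil (.node [(176, (-1), 1)] .nil .nil)) (.node [(112, 1, 1)] (.node [(170, (-1), 1)] .nil .nil) .nil))) (.node [] (.node [] (.node [] (.node [(131, 1, 1)] .nil .nil) (.node [] .nil (.node [(245, (-1), 1)] .nil .nil))) (.node [] (.node [] (.node [(211, 1, 1)] .nil .nil) .nil) (.node [(181, (-1), 1)] .nil .nil))) (.node [] (.node [] (.node [] .nil (.node [(239, 1, 1)] .nil .nil)) .nil) (.node [] (.node [] (.node [(216, (-1), 1)] .nil .nil) .nil) .nil)))) (.node [(190, (-1), 1)] (.node [] (.node [(58, (-1), 1)] (.node [] (.node [(0, 1, 1), (1, 1, 1), (2, 1, 1), (3, 2, 1), (4, 2, 1), (5, 2, 1), (6, 1, 1), (7, 1, 1), (190, (-1), 2)] (.node [(191, (-1),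 1)] .nil .nil) .nil) .nil) (.node [(111, 1, 1)] (.node [(154, (-1), 1)] (.node [(209, (-1), 1)] .nil .nil) .nil) (.node [(179, 1, 1)] .nil .nil))) .nil) (.node [] (.node [] (.node [] (.node [(133, (-1), 1)] .nil (.node [(238, 1, 1)] .nil .nil)) (.node [(174, 1, 1)] (.node [(226, 1, 1)] .nil .nil) (.node [(247, 1, 1)] .nil .nil))) (.node [] (.node [(168, 1, 1)] .nil (.node [(241, 1, 1)] .nil .nil)) .nil)) (.node [(90, (-1), 1)] .nil .nil)))) (.node [(190, 1, 1)] (.node [] (.node [(26, (-1), 1)] (.node [(52, (-1), 1)] (.node [(95, 1, 1)] (.node [(126, 1, 1)] .nil (.node [(235, (-1), 1)] .nil .nil)) (.node [] (.node [(223, (-1), 1)] .nil .nil) .nil)) (.node [] (.node [] (.node [(206, (-1), 1)] .nil .nil) .nil) .nil)) (.node [] (.node [] (.node [(137, (-1), 1)] .nil .nil) .nil) (.node [] .nil (.node [(185, (-1), 1)] .nil .nil)))) (.node [] (.node [(63, 1, 1)] (.node [(99, 1, 1)] .nil .nil) .nil) (.node [] (.node [(108, (-1), 1)] (.node [(142,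 (-1), 1)] .nil .nil) .nil) (.node [] (.node [] (.node [(219, (-1), 1)] .nil .nil) .nil) (.node [(188, (-1), 1)] .nil .nil))))) (.node [(190, 1, 1)] (.node [(28, 1, 1)] (.node [(61, (-1), 1)] (.node [(97, (-1), 1)] (.node [(128, 1, 1)] .nil (.node [(237, 1, 1)] .nil .nil)) (.node [] (.node [(225, 1, 1)] .nil .nil) .nil)) .nil) (.node [] (.node [] (.node [(140, 1, 1)] .nil .nil) .nil) (.node [] .nil (.node [(186, 1, 1)] .nil .nil)))) (.node [(42, (-1), 1)] (.node [] (.node [] (.node [(135, 1, 1)] .nil .nil) .nil) (.node [] .nil (.node [(183, 1, 1)] .nil .nil))) (.node [(93, (-1), 1)] (.node [(110, 1, 1)] .nil .nil) (.node [] (.node [] (.node [(221, 1, 1)] .nil .nil) .nil) .nil))))))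
def X183 : Tr (List (ℕ × ℤ × ℕ)) := (.node [(191, (-1), 1)] (.node [] (.node [] (.node [] (.node [] (.node [(95, 1, 1)] .nil .nil) (.node [] (.node [(153, 1, 1)] (.node [(201, (-1), 1)] .nil .nil) .nil) .nil)) (.node [] (.node [] (.node [(137, (-1), 1)] .nil .nil) .nil) (.node [] .nil (.node [(185, (-1), 1)] .nil .nil)))) (.node [] (.node [(63, 1, 1)] (.node [(99, 1, 1)] (.node [(132, 1, 1)] .nil .nil) (.node [] .nil (.node [(246, (-1), 1)] .nil .nil))) .nil) (.node [] (.node [] (.node [(142, (-1), 1)] .nil .nil) .nil) (.node [] (.node [] (.node [(217, (-1), 1)] .nil .nil) .nil) (.node [(188, (-1), 1)] .nil .nil))))) (.node [] (.node [(28, 1, 1)] (.node [(59, 1, 1)] (.node [] (.node [(129, 1, 1)] .nil (.node [(237, (-1), 1)] .nil .nil)) (.node [] (.node [(225, (-1), 1)] .nil .nil) .nil)) (.node [] (.node [] (.node [(210, (-1), 1)] .nil .nil) .nil) (.node [(180, 1, 1)] .nil .nil))) .nil) (.node [] (.node [] (.node [] .nil (.node [(175,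 1, 1)] .nil .nil)) (.node [] (.node [(169, 1, 1)] .nil .nil) .nil)) (.node [(91, 1, 1)] (.node [(110, 1, 1)] .nil .nil) (.node [] (.node [] (.node [(221, (-1), 1)] .nil .nil) .nil) (.node [(189, 1, 1)] .nil .nil)))))) (.node [(191, 1, 1)] (.node [] (.node [(27, 1, 1)] (.node [(53, 1, 1)] (.node [] (.node [(0, 1, 1), (1, 1, 1), (2, 1, 1), (3, 2, 1), (4, 2, 1), (5, 2, 1), (6, 2, 1), (7, 1, 1), (191, (-1), 2)] .nil (.node [(236, (-1), 1)] .nil .nil)) (.node [] (.node [(224, (-1), 1)] .nil .nil) .nil)) (.node [(111, 1, 1)] (.node [(154, (-1), 1)] (.node [(207, (-1), 1)] .nil .nil) .nil) .nil)) .nil) (.node [] (.node [] (.node [] (.node [(133, (-1), 1)] .nil (.node [(238, (-1), 1)] .nil .nil)) (.node [] (.node [(226, (-1), 1)] .nil .nil) (.node [(247, (-1), 1)] .nil .nil))) (.node [] (.node [] .nil (.node [(241, (-1), 1)] .nil .nil)) .nil)) (.node [] (.node [(109, 1, 1)] .nil .nil) (.node [] (.node [] (.node [(220, (-1), 1)] .nil .nil) .nil)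 .nil)))) (.node [(191, (-1), 1)] (.node [] (.node [(62, 1, 1)] (.node [(98, 1, 1)] (.node [(130, (-1), 1)] .nil .nil) .nil) (.node [] (.node [] (.node [(211, (-1), 1)] .nil .nil) .nil) (.node [(181, (-1), 1)] .nil .nil))) (.node [] (.node [] (.node [(141, 1, 1)] .nil (.node [(239, (-1), 1)] .nil .nil)) .nil) (.node [] .nil (.node [(187, 1, 1)] .nil .nil)))) (.node [(43, 1, 1)] (.node [] (.node [(100, 1, 1)] (.node [(136, 1, 1)] .nil .nil) (.node [(176, (-1), 1)] .nil .nil)) (.node [(112, 1, 1)] (.node [(170, (-1), 1)] .nil .nil) (.node [(184, 1, 1)] .nil .nil))) (.node [(94, 1, 1)] .nil (.node [] .nil (.node [(190, (-1), 1)] .nil .nil)))))))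
def X184 : Tr (List (ℕ × ℤ × ℕ)) := (.node [] (.node [] (.node [] (.node [] (.node [(44, 1, 1)] (.node [] (.node [(0, 1, 1), (1, 1, 1), (2, 2, 1), (3, 2, 1), (4, 1, 1), (192, (-1), 2)] .nil (.node [(236, 1, 1)] .nil .nil)) (.node [(171, (-1), 1)] .nil .nil)) (.node [] .nil (.node [(178, 1, 1)] .nil .nil))) (.node [] (.node [] (.node [] (.node [(196, 1, 1)] .nil .nil) .nil) (.node [] (.node [(227, (-1), 1)] .nil .nil) .nil)) .nil)) (.node [(29, 1, 1)] (.node [(64, (-1), 1)] (.node [] (.node [] (.node [(193, (-1), 1)] .nil .nil) .nil) (.node [(172, 1, 1)] .nil .nil)) (.node [(113, 1, 1)] (.node [(156, (-1), 1)] .nil (.node [(240, (-1), 1)] .nil .nil)) .nil)) (.node [(87, 1, 1)] (.node [(103, (-1), 1)] .nil .nil) (.node [(120, (-1), 1)] .nil .nil)))) (.node [(192, 1, 1)] (.node [] (.node [] (.node [] .nil (.node [] .nil (.node [(243, (-1), 1)] .nil .nil))) .nil) (.node [] (.node [(101, (-1), 1)] (.node [(143, 1, 1)] (.node [(198, 1, 1)]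 .nil .nil) .nil) (.node [] (.node [(229, (-1), 1)] .nil .nil) .nil)) (.node [(118, (-1), 1)] (.node [] (.node [(213, 1, 1)] .nil .nil) .nil) .nil))) (.node [(34, 1, 1)] (.node [(66, (-1), 1)] (.node [] (.node [] (.node [(195, (-1), 1)] .nil .nil) .nil) .nil) (.node [(115, 1, 1)] .nil .nil)) (.node [] (.node [] (.node [(144, (-1), 1)] (.node [(203, (-1), 1)] .nil .nil) .nil) .nil) (.node [(123, 1, 1)] (.node [] .nil (.node [(242, (-1), 1)] .nil .nil)) (.node [] (.node [(234, 1, 1)] .nil .nil) .nil)))))) (.node [(192, (-1), 1)] (.node [] (.node [] (.node [] .nil (.node [] .nil (.node [(182, (-1), 1)] .nil .nil))) (.node [] (.node [] (.node [] (.node [(197, 1, 1)] .nil .nil) .nil) (.node [] (.node [(228, (-1), 1)] .nil .nil) .nil)) (.node [] (.node [] (.node [(212, 1, 1)] .nil .nil) .nil) .nil))) (.node [(30, 1, 1)] (.node [(65, (-1), 1)] (.node [] (.node [] (.node [(194, (-1), 1)] .nil .nil) .nil) (.node [(173, (-1), 1)] .nil .nil)) (.node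 [(114, 1, 1)] (.node [(160, 1, 1)] .nil .nil) .nil)) (.node [(88, 1, 1)] (.node [] (.node [] (.node [(202, (-1), 1)] .nil .nil) .nil) .nil) (.node [(122, 1, 1)] .nil .nil)))) (.node [] (.node [] (.node [] (.node [] .nil (.node [] .nil (.node [(244, (-1), 1)] .nil .nil))) (.node [] (.node [(155, 1, 1)] .nil .nil) .nil)) (.node [(86, 1, 1)] (.node [(102, (-1), 1)] .nil .nil) (.node [(119, (-1), 1)] (.node [] (.node [(214, 1, 1)] .nil .nil) .nil) .nil))) (.node [] .nil (.node [] (.node [] (.node [(145, 1, 1)] (.node [(204, (-1), 1)] .nil .nil) .nil) (.node [(177, (-1), 1)] .nil .nil)) (.node [(124, 1, 1)] .nil (.node [] (.node [(235, 1, 1)] .nil .nil) .nil)))))))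
def X185 : Tr (List (ℕ × ℤ × ℕ)) := (.node [] (.node [] (.node [] (.node [] (.node [(45, (-1), 1)] (.node [] (.node [(131, 1, 1)] .nil (.node [(237, 1, 1)] .nil .nil)) .nil) (.node [] .nil (.node [(179, 1, 1)] .nil .nil))) (.node [] (.node [(101, (-1), 1)] .nil .nil) (.node [(118, (-1), 1)] (.node [] (.node [(212, (-1), 1)] .nil .nil) .nil) .nil))) (.node [] (.node [] .nil (.node [] (.node [(157, (-1), 1)] .nil .nil) .nil)) (.node [(89, (-1), 1)] (.node [(104, 1, 1)] (.node [] (.node [(202, 1, 1)] .nil .nil) .nil) .nil) (.node [(121, 1, 1)] .nil (.node [] (.node [(234, (-1), 1)] .nil .nil) .nil))))) (.node [(193, (-1), 1)] (.node [] (.node [] (.node [] (.node [] (.node [(194, (-1), 1)] .nil .nil) .nil) .nil) (.node [(113, 1, 1)] (.node [(155, 1, 1)] .nil .nil) .nil)) (.node [(86, 1, 1)] (.node [] (.node [] (.node [(200, 1, 1)] .nil .nil) .nil) (.node [] (.node [(230, (-1), 1)] .nil .nil) .nil)) (.node [] (.node [] (.node [(215, 1, 1)]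 .nil .nil) .nil) .nil))) (.node [(35, (-1), 1)] (.node [(68, 1, 1)] (.node [] .nil (.node [] (.node [(227, 1, 1)] .nil .nil) .nil)) (.node [(116, (-1), 1)] .nil .nil)) (.node [] (.node [] (.node [] (.node [(205, (-1), 1)] .nil .nil) .nil) (.node [(177, (-1), 1)] .nil .nil)) (.node [(126, 1, 1)] .nil .nil))))) (.node [(193, (-1), 1)] (.node [(193, 1, 1)] (.node [] (.node [] (.node [] .nil (.node [] .nil (.node [(243, 1, 1)] .nil .nil))) (.node [] .nil (.node [(183, (-1), 1)] .nil .nil))) (.node [] (.node [(102, (-1), 1)] (.node [(143, 1, 1)] (.node [(199, 1, 1)] .nil .nil) .nil) .nil) (.node [(119, (-1), 1)] .nil .nil))) (.node [(31, (-1), 1)] (.node [(67, 1, 1)] (.node [] .nil (.node [(174, (-1), 1)] .nil .nil)) (.node [] (.node [(161, 1, 1)] .nil .nil) .nil)) (.node [(90, (-1), 1)] (.node [] (.node [(144, (-1), 1)] .nil .nil) .nil) (.node [(125, 1, 1)] (.node [] .nil (.node [(242, 1, 1)] .nil .nil)) (.node [(192, (-1), 1)] (.node [(235,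 (-1), 1)] .nil .nil) .nil))))) (.node [(193, 1, 1)] (.node [(29, 1, 1)] (.node [(64, (-1), 1)] (.node [] (.node [] (.node [(195, (-1), 1)] .nil .nil) .nil) (.node [(172, 1, 1)] .nil (.node [(245, (-1), 1)] .nil .nil))) (.node [(114, 1, 1)] (.node [] .nil (.node [(240, 1, 1)] .nil .nil)) .nil)) (.node [] .nil (.node [] (.node [] (.node [(216, 1, 1)] .nil .nil) .nil) .nil))) (.node [] (.node [] (.node [] (.node [] (.node [(196, (-1), 1)] .nil .nil) .nil) (.node [] (.node [(228, 1, 1)] .nil .nil) .nil)) .nil) (.node [] (.node [] (.node [(146, 1, 1)] (.node [(206, (-1), 1)] .nil .nil) .nil) .nil) (.node [(0, 1, 1), (1, 1, 1), (2, 2, 1), (3, 2, 1), (4, 1, 1), (5, 1, 1), (193, (-1), 2)] (.node [(171, (-1), 1)] .nil .nil) .nil))))))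
def X186 : Tr (List (ℕ × ℤ × ℕ)) := (.node [] (.node [] (.node [] (.node [(194, 1, 1)] (.node [(46, 1, 1)] (.node [] (.node [(132, 1, 1)] .nil .nil) (.node [] .nil (.node [(243, (-1), 1)] .nil .nil))) (.node [] .nil (.node [(180, 1, 1)] .nil .nil))) (.node [] (.node [] (.node [(143, 1, 1)] (.node [(199, (-1), 1)] .nil .nil) .nil) .nil) (.node [] (.node [] (.node [(213, (-1), 1)] .nil .nil) .nil) .nil))) (.node [] (.node [(67, 1, 1)] .nil (.node [] (.node [(158, (-1), 1)] .nil .nil) .nil)) (.node [] (.node [] (.node [(144, (-1), 1)] (.node [(203, 1, 1)] .nil .nil) .nil) .nil) (.node [] (.node [] .nil (.node [(242, (-1), 1)] .nil .nil)) (.node [(192, (-1), 1)] .nil .nil))))) (.node [] (.node [(29, 1, 1)] (.node [] (.node [] .nil (.node [(172, 1, 1)] .nil .nil)) (.node [] (.node [] .nil (.node [(240, (-1), 1)] .nil .nil)) .nil)) (.node [(87, (-1), 1)] (.node [] (.node [] (.node [(201, 1, 1)] .nil .nil) .nil) .nil) .nil)) (.node [(36, 1,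 1)] (.node [(69, (-1), 1)] .nil .nil) (.node [] .nil (.node [(0, 1, 1), (1, 1, 1), (2, 2, 1), (3, 2, 1), (4, 1, 1), (5, 1, 1), (6, 1, 1), (194, (-1), 2)] (.node [(171, (-1), 1)] .nil .nil) .nil))))) (.node [(194, (-1), 1)] (.node [(194, 1, 1)] (.node [] (.node [] (.node [] (.node [] (.node [(195, (-1), 1)] .nil .nil) .nil) .nil) (.node [(113, 1, 1)] (.node [(155, 1, 1)] .nil .nil) (.node [(184, (-1), 1)] .nil .nil))) (.node [] (.node [(103, 1, 1)] .nil (.node [] (.node [(230, 1, 1)] .nil .nil) .nil)) (.node [(120, 1, 1)] (.node [] (.node [(215, (-1), 1)] .nil .nil) .nil) .nil))) (.node [(32, 1, 1)] (.node [] (.node [] .nil (.node [(175, (-1), 1)] (.node [(227, (-1), 1)] .nil .nil) .nil)) (.node [(116, (-1), 1)] (.node [(162, 1, 1)] .nil .nil) .nil)) (.node [(91, 1, 1)] (.node [] (.node [] (.node [(205, 1, 1)] .nil .nil) .nil) (.node [(177, (-1), 1)] .nil .nil)) (.node [(127, 1, 1)] .nil (.node [] (.node [(236, (-1), 1)] .nil .nil) .nil)))))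 (.node [(194, (-1), 1)] (.node [] (.node [(65, 1, 1)] (.node [] .nil (.node [] .nil (.node [(246, (-1), 1)] .nil .nil))) (.node [(115, (-1), 1)] .nil .nil)) (.node [(89, (-1), 1)] (.node [(104, 1, 1)] .nil .nil) (.node [(121, 1, 1)] (.node [] (.node [(217, 1, 1)] .nil .nil) .nil) (.node [] (.node [(234, 1, 1)] .nil .nil) .nil)))) (.node [] (.node [] (.node [(101, (-1), 1)] (.node [] (.node [(197, (-1), 1)] .nil .nil) .nil) (.node [] (.node [(229, 1, 1)] .nil .nil) .nil)) (.node [(118, (-1), 1)] .nil .nil)) (.node [] (.node [] (.node [(147, 1, 1)] (.node [(207, (-1), 1)] .nil .nil) .nil) .nil) (.node [(129, 1, 1)] .nil (.node [(193, (-1), 1)] (.node [(237, (-1), 1)] .nil .nil) .nil)))))))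
def X187 : Tr (List (ℕ × ℤ × ℕ)) := (.node [] (.node [] (.node [] (.node [(195, (-1), 1)] (.node [(47, (-1), 1)] (.node [] (.node [(133, 1, 1)] (.node [(194, (-1), 1)] .nil .nil) .nil) .nil) (.node [] (.node [(155, 1, 1)] .nil .nil) (.node [(181, 1, 1)] .nil .nil))) (.node [] (.node [(103, 1, 1)] (.node [] (.node [(200, (-1), 1)] .nil .nil) .nil) (.node [] (.node [(230, (-1), 1)] .nil .nil) .nil)) (.node [(120, 1, 1)] (.node [] (.node [(214, (-1), 1)] .nil .nil) .nil) .nil))) (.node [] (.node [(68, (-1), 1)] .nil (.node [(116, (-1), 1)] (.node [(159, (-1), 1)] .nil .nil) .nil)) (.node [(91, 1, 1)] (.node [] (.node [] (.node [(204, 1, 1)] .nil .nil) .nil) (.node [(177, (-1), 1)] .nil .nil)) (.node [] .nil (.node [] (.node [(236, 1, 1)] .nil .nil) .nil))))) (.node [] (.node [] (.node [] .nil (.node [(115, (-1), 1)] .nil .nil)) (.node [(88, 1, 1)] (.node [(104, 1, 1)] .nil .nil) (.node [(121, 1, 1)] (.node [] (.node [(217, (-1), 1)] .nil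 .nil) .nil) .nil))) (.node [(37, (-1), 1)] (.node [] (.node [] .nil (.node [] (.node [(229, (-1), 1)] .nil .nil) .nil)) .nil) (.node [] (.node [] (.node [] (.node [(207, 1, 1)] .nil .nil) .nil) .nil) (.node [(128, 1, 1)] .nil (.node [(193, (-1), 1)] (.node [(237, 1, 1)] .nil .nil) .nil)))))) (.node [(195, (-1), 1)] (.node [(195, 1, 1)] (.node [(29, 1, 1)] (.node [] (.node [] .nil (.node [(172, 1, 1)] .nil .nil)) (.node [(114, (-1), 1)] (.node [] .nil (.node [(240, 1, 1)] .nil .nil)) (.node [(185, (-1), 1)] .nil .nil))) (.node [] (.node [] (.node [] (.node [(201, (-1), 1)] .nil .nil) .nil) .nil) (.node [] (.node [] (.node [(216, (-1), 1)] .nil .nil) .nil) .nil))) (.node [(33, (-1), 1)] (.node [(69, (-1), 1)] (.node [] .nil (.node [(176, (-1), 1)] (.node [(228, (-1), 1)] .nil .nil) .nil)) (.node [] (.node [(163, 1, 1)] .nil .nil) .nil)) (.node [] (.node [] (.node [] (.node [(206, 1, 1)] .nil .nil) .nil) .nil) (.node [(0, 1, 1), (1, 1, 1),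 (2, 2, 1), (3, 2, 1), (4, 1, 1), (5, 1, 1), (6, 1, 1), (7, 1, 1), (195, (-1), 2)] (.node [(171, (-1), 1)] .nil .nil) .nil)))) (.node [] (.node [] (.node [(66, (-1), 1)] (.node [] .nil (.node [] .nil (.node [(247, (-1), 1)] .nil .nil))) .nil) (.node [(90, 1, 1)] (.node [] (.node [(144, (-1), 1)] .nil .nil) .nil) (.node [] (.node [] .nil (.node [(242, 1, 1)] .nil .nil)) (.node [(192, (-1), 1)] (.node [(235, 1, 1)] .nil .nil) .nil)))) (.node [] (.node [] (.node [(102, 1, 1)] (.node [(143, 1, 1)] (.node [(198, (-1), 1)] .nil .nil) .nil) .nil) (.node [(119, 1, 1)] .nil .nil)) (.node [] (.node [] (.node [(148, 1, 1)] .nil .nil) .nil) (.node [(130, 1, 1)] (.node [] .nil (.node [(243, 1, 1)] .nil .nil)) .nil))))))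
def X188 : Tr (List (ℕ × ℤ × ℕ)) := (.node [] (.node [] (.node [(196, 1, 1)] (.node [] (.node [(48, 1, 1)] (.node [] (.node [(135, (-1), 1)] .nil (.node [(238, 1, 1)] .nil .nil)) .nil) (.node [(114, 1, 1)] (.node [] .nil (.node [(240, (-1), 1)] .nil .nil)) .nil)) (.node [] .nil (.node [(122, (-1), 1)] .nil .nil))) (.node [(31, (-1), 1)] (.node [] (.node [] .nil (.node [(174, (-1), 1)] (.node [(228, (-1), 1)] .nil .nil) .nil)) .nil) (.node [(92, 1, 1)] (.node [(105, (-1), 1)] .nil .nil) (.node [(0, 1, 1), (1, 1, 1), (2, 2, 1), (3, 2, 1), (4, 2, 1), (5, 1, 1), (196, (-1), 2)] (.node [(171, (-1), 1)] .nil .nil) .nil)))) (.node [] (.node [] (.node [(64, (-1), 1)] (.node [] (.node [] (.node [(197, (-1), 1)] .nil .nil) .nil) (.node [] .nil (.node [(245, 1, 1)] .nil .nil))) (.node [] (.node [(156, 1, 1)] .nil .nil) .nil)) (.node [] (.node [] .nil (.node [] (.node [(231, (-1), 1)] .nil .nil) .nil)) (.node [(125, 1, 1)] (.node [] (.node [(218,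 1, 1)] .nil .nil) (.node [(242, (-1), 1)] .nil .nil)) (.node [(193, (-1), 1)] (.node [(235, 1, 1)] .nil .nil) .nil)))) (.node [(38, 1, 1)] (.node [(71, (-1), 1)] (.node [(102, (-1), 1)] (.node [(143, 1, 1)] (.node [(200, 1, 1)] .nil .nil) .nil) .nil) (.node [(117, 1, 1)] .nil .nil)) (.node [] (.node [] (.node [(146, 1, 1)] (.node [(208, (-1), 1)] .nil .nil) .nil) (.node [(178, (-1), 1)] .nil .nil)) .nil)))) (.node [(196, (-1), 1)] (.node [(196, (-1), 1)] (.node [] (.node [] (.node [] .nil (.node [] .nil (.node [(244, 1, 1)] .nil .nil))) (.node [] .nil (.node [(186, (-1), 1)] .nil .nil))) (.node [(86, 1, 1)] .nil (.node [(123, (-1), 1)] .nil (.node [(192, 1, 1)] (.node [(234, 1, 1)] .nil .nil) .nil)))) (.node [] (.node [(70, (-1), 1)] (.node [(101, (-1), 1)] (.node [] (.node [(199, 1, 1)] .nil .nil) .nil) .nil) (.node [] (.node [(164, 1, 1)] .nil .nil) .nil)) (.node [(93, 1, 1)] (.node [] (.node [(145, (-1), 1)] .nil .nil) .nil) .nil)))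 (.node [(196, 1, 1)] (.node [(30, (-1), 1)] (.node [] (.node [] (.node [] (.node [(198, (-1), 1)] .nil .nil) .nil) (.node [(173, 1, 1)] (.node [(227, (-1), 1)] .nil .nil) .nil)) (.node [] (.node [(157, (-1), 1)] .nil .nil) .nil)) (.node [] (.node [] (.node [] (.node [(202, (-1), 1)] .nil .nil) .nil) .nil) (.node [(126, 1, 1)] (.node [] (.node [(219, 1, 1)] .nil .nil) .nil) .nil))) (.node [] (.node [] .nil (.node [] (.node [] (.node [(212, 1, 1)] .nil .nil) .nil) .nil)) (.node [] (.node [(113, 1, 1)] (.node [] (.node [(209, (-1), 1)] .nil .nil) .nil) (.node [(179, 1, 1)] .nil .nil)) (.node [(134, 1, 1)] .nil .nil))))))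
def X189 : Tr (List (ℕ × ℤ × ℕ)) := (.node [] (.node [] (.node [(197, 1, 1)] (.node [(197, 1, 1)] (.node [(49, (-1), 1)] (.node [] (.node [(136, (-1), 1)] .nil .nil) (.node [] .nil (.node [(244, (-1), 1)] .nil .nil))) (.node [(115, (-1), 1)] .nil .nil)) (.node [] .nil (.node [] .nil (.node [(192, 1, 1)] (.node [(234, (-1), 1)] .nil .nil) .nil)))) (.node [(32, 1, 1)] (.node [(70, (-1), 1)] (.node [(101, (-1), 1)] (.node [] (.node [(199, (-1), 1)] .nil .nil) .nil) (.node [(175, (-1), 1)] (.node [(229, (-1), 1)] .nil .nil) .nil)) .nil) (.node [] (.node [] (.node [(145, (-1), 1)] .nil .nil) .nil) (.node [(129, 1, 1)] .nil .nil)))) (.node [(197, 1, 1)] (.node [(30, (-1), 1)] (.node [(65, 1, 1)] (.node [] .nil (.node [(173, 1, 1)] (.node [(227, 1, 1)] .nil .nil) (.node [(246, 1, 1)] .nil .nil))) .nil) (.node [] .nil (.node [(127, 1, 1)] .nil (.node [(194, (-1), 1)] (.node [(236, 1, 1)] .nil .nil) .nil)))) (.node [(39, (-1), 1)] (.node [(72,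 1, 1)] (.node [(103, 1, 1)] (.node [] (.node [(201, 1, 1)] .nil .nil) .nil) .nil) .nil) (.node [] (.node [(113, 1, 1)] (.node [(147, 1, 1)] .nil .nil) .nil) (.node [(134, 1, 1)] .nil .nil))))) (.node [(197, (-1), 1)] (.node [(197, (-1), 1)] (.node [] (.node [] (.node [] (.node [] (.node [(198, (-1), 1)] .nil .nil) .nil) .nil) (.node [] (.node [(156, 1, 1)] .nil .nil) (.node [(187, (-1), 1)] .nil .nil))) (.node [(87, (-1), 1)] (.node [] .nil (.node [] (.node [(231, 1, 1)] .nil .nil) .nil)) (.node [(124, 1, 1)] (.node [] (.node [(218, (-1), 1)] .nil .nil) (.node [(242, 1, 1)] .nil .nil)) .nil))) (.node [] (.node [] (.node [] (.node [(143, 1, 1)] .nil .nil) .nil) (.node [(117, 1, 1)] (.node [(165, 1, 1)] .nil .nil) .nil)) (.node [(94, (-1), 1)] (.node [] (.node [] (.node [(208, 1, 1)] .nil .nil) .nil) (.node [(178, (-1), 1)] .nil .nil)) .nil))) (.node [(197, (-1), 1)] (.node [] (.node [] .nil (.node [] (.node [(158, (-1), 1)] .nil .nil)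 .nil)) (.node [(92, 1, 1)] (.node [(105, (-1), 1)] (.node [] (.node [(203, (-1), 1)] .nil .nil) .nil) .nil) (.node [(0, 1, 1), (1, 1, 1), (2, 2, 1), (3, 2, 1), (4, 2, 1), (5, 1, 1), (6, 1, 1), (197, (-1), 2)] (.node [(171, (-1), 1)] (.node [(220, 1, 1)] .nil .nil) .nil) .nil))) (.node [] (.node [] .nil (.node [(122, (-1), 1)] (.node [] (.node [(213, 1, 1)] .nil .nil) .nil) .nil)) (.node [] (.node [] (.node [] (.node [(210, (-1), 1)] .nil .nil) (.node [(240, 1, 1)] .nil .nil)) (.node [(180, 1, 1)] .nil .nil)) (.node [] .nil (.node [(196, (-1), 1)] (.node [(238, (-1), 1)] .nil .nil) .nil)))))))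
def X190 : Tr (List (ℕ × ℤ × ℕ)) := (.node [] (.node [] (.node [(198, 1, 1)] (.node [(198, (-1), 1)] (.node [(50, 1, 1)] (.node [] (.node [(137, (-1), 1)] (.node [(197, (-1), 1)] .nil .nil) .nil) .nil) (.node [] (.node [(156, 1, 1)] .nil .nil) .nil)) (.node [] (.node [] .nil (.node [] (.node [(231, (-1), 1)] .nil .nil) .nil)) (.node [(124, 1, 1)] (.node [] .nil (.node [(242, (-1), 1)] .nil .nil)) (.node [] (.node [(235, (-1), 1)] .nil .nil) .nil)))) (.node [(33, (-1), 1)] (.node [(71, 1, 1)] (.node [(102, 1, 1)] (.node [(143, 1, 1)] (.node [(200, (-1), 1)] .nil .nil) .nil) (.node [(176, (-1), 1)] .nil .nil)) (.node [(117, 1, 1)] .nil .nil)) (.node [(94, (-1), 1)] (.node [] .nil (.node [(178, (-1), 1)] .nil .nil)) (.node [(130, 1, 1)] .nil .nil)))) (.node [(198, 1, 1)] (.node [] (.node [(66, (-1), 1)] (.node [] .nil (.node [] (.node [(228, 1, 1)] .nil .nil) (.node [(247, 1, 1)] .nil .nil))) .nil) (.node [] (.node [(105, (-1), 1)] .nil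 .nil) (.node [(0, 1, 1), (1, 1, 1), (2, 2, 1), (3, 2, 1), (4, 2, 1), (5, 1, 1), (6, 1, 1), (7, 1, 1), (198, (-1), 2)] (.node [(171, (-1), 1)] (.node [(220, (-1), 1)] .nil .nil) .nil) (.node [(195, (-1), 1)] .nil .nil)))) (.node [(40, 1, 1)] .nil (.node [] (.node [(114, (-1), 1)] (.node [(148, 1, 1)] (.node [(210, 1, 1)] .nil .nil) (.node [(240, (-1), 1)] .nil .nil)) .nil) (.node [] .nil (.node [(196, (-1), 1)] (.node [(238, 1, 1)] .nil .nil) .nil)))))) (.node [(198, (-1), 1)] (.node [(198, (-1), 1)] (.node [(30, (-1), 1)] (.node [] (.node [] .nil (.node [(173, 1, 1)] .nil .nil)) (.node [] .nil (.node [(188, (-1), 1)] .nil .nil))) (.node [(88, 1, 1)] .nil (.node [] (.node [] (.node [(219, (-1), 1)] .nil .nil) .nil) (.node [] (.node [(236, (-1), 1)] .nil .nil) .nil)))) (.node [] (.node [(72, 1, 1)] (.node [(103, 1, 1)] (.node [] (.node [(201, (-1), 1)] .nil .nil) .nil) .nil) (.node [] (.node [(166, 1, 1)] .nil .nil) .nil)) (.node [] (.node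 [] (.node [] (.node [(209, 1, 1)] .nil .nil) .nil) .nil) (.node [(134, 1, 1)] .nil .nil)))) (.node [] (.node [] (.node [] (.node [] .nil (.node [] (.node [(229, 1, 1)] .nil .nil) .nil)) (.node [] (.node [(159, (-1), 1)] .nil .nil) .nil)) (.node [(93, (-1), 1)] (.node [] (.node [(145, (-1), 1)] (.node [(204, (-1), 1)] .nil .nil) .nil) .nil) (.node [(128, 1, 1)] .nil .nil))) (.node [] (.node [] .nil (.node [(123, 1, 1)] (.node [] (.node [(214, 1, 1)] .nil .nil) .nil) (.node [(192, 1, 1)] .nil .nil))) (.node [] (.node [(115, (-1), 1)] .nil (.node [(181, 1, 1)] .nil .nil)) (.node [] (.node [] .nil (.node [(244, 1, 1)] .nil .nil)) .nil))))))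
def X191 : Tr (List (ℕ × ℤ × ℕ)) := (.node [] (.node [] (.node [(199, 1, 1)] (.node [(199, 1, 1)] (.node [(51, 1, 1)] (.node [] .nil (.node [] .nil (.node [(245, (-1), 1)] .nil .nil))) (.node [(116, 1, 1)] .nil .nil)) (.node [] .nil (.node [(127, 1, 1)] (.node [] (.node [(218, 1, 1)] .nil .nil) .nil) (.node [(193, 1, 1)] .nil .nil)))) (.node [] (.node [] (.node [] .nil (.node [] (.node [(230, (-1), 1)] .nil .nil) .nil)) .nil) (.node [] (.node [] (.node [(146, (-1), 1)] (.node [(208, (-1), 1)] .nil .nil) .nil) .nil) (.node [(132, (-1), 1)] .nil (.node [(196, 1, 1)] .nil .nil))))) (.node [(199, (-1), 1)] (.node [(31, 1, 1)] (.node [(67, (-1), 1)] (.node [] .nil (.node [(174, 1, 1)] .nil .nil)) (.node [] (.node [(158, (-1), 1)] .nil .nil) .nil)) (.node [(92, 1, 1)] .nil (.node [] .nil (.node [] (.node [(237, 1, 1)] .nil .nil) .nil)))) (.node [(41, 1, 1)] (.node [(73, (-1), 1)] (.node [(104, (-1), 1)] .nil .nil) .nil) (.node [] (.node []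 .nil (.node [(180, 1, 1)] .nil .nil)) (.node [(135, 1, 1)] .nil .nil))))) (.node [(199, (-1), 1)] (.node [] (.node [] (.node [] (.node [] (.node [] (.node [(200, (-1), 1)] .nil .nil) .nil) (.node [] (.node [(227, (-1), 1)] .nil .nil) (.node [(246, (-1), 1)] .nil .nil))) (.node [] (.node [(157, 1, 1)] .nil .nil) (.node [(189, (-1), 1)] .nil .nil))) (.node [(89, 1, 1)] (.node [(105, (-1), 1)] .nil .nil) (.node [(0, 1, 1), (1, 1, 1), (2, 2, 1), (3, 2, 1), (4, 2, 1), (5, 2, 1), (6, 1, 1), (199, (-1), 2)] (.node [(171, (-1), 1)] .nil .nil) (.node [(194, (-1), 1)] .nil .nil)))) (.node [] (.node [] .nil (.node [] (.node [(167, 1, 1)] .nil .nil) .nil)) (.node [(95, 1, 1)] (.node [(113, 1, 1)] (.node [(147, 1, 1)] .nil (.node [(240, (-1), 1)] .nil .nil)) (.node [(179, (-1), 1)] .nil .nil)) (.node [] .nil (.node [(197, (-1), 1)] (.node [(238, 1, 1)] .nil .nil) .nil))))) (.node [] (.node [(32, 1, 1)] (.node [(70, (-1), 1)] (.node [(101, (-1), 1)]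 (.node [(143, 1, 1)] (.node [(201, 1, 1)] .nil .nil) .nil) (.node [(175, (-1), 1)] .nil .nil)) (.node [(117, 1, 1)] .nil .nil)) (.node [] (.node [] (.node [] (.node [(205, (-1), 1)] .nil .nil) .nil) .nil) (.node [(131, 1, 1)] (.node [] (.node [(221, 1, 1)] .nil .nil) .nil) .nil))) (.node [] (.node [] (.node [] .nil (.node [] (.node [(231, (-1), 1)] .nil .nil) .nil)) (.node [(125, (-1), 1)] (.node [] (.node [(215, 1, 1)] .nil .nil) (.node [(242, (-1), 1)] .nil .nil)) (.node [] (.node [(234, 1, 1)] .nil .nil) .nil))) (.node [] (.node [] (.node [] (.node [(211, (-1), 1)] .nil .nil) .nil) .nil) (.node [(136, (-1), 1)] .nil .nil))))))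
def X192 : Tr (List (ℕ × ℤ × ℕ)) := (.node [] (.node [] (.node [(200, 1, 1)] (.node [(200, (-1), 1)] (.node [(52, (-1), 1)] (.node [] (.node [] (.node [(199, (-1), 1)] .nil .nil) .nil) .nil) (.node [] (.node [(157, 1, 1)] .nil .nil) .nil)) (.node [] (.node [(105, (-1), 1)] .nil .nil) (.node [(0, 1, 1), (1, 1, 1), (2, 2, 1), (3, 2, 1), (4, 2, 1), (5, 2, 1), (6, 1, 1), (7, 1, 1), (200, (-1), 2)] (.node [(171, (-1), 1)] (.node [(219, 1, 1)] .nil .nil) .nil) .nil))) (.node [] .nil (.node [(95, 1, 1)] (.node [] (.node [] (.node [(209, (-1), 1)] .nil .nil) (.node [(240, 1, 1)] .nil .nil)) (.node [(179, (-1), 1)] .nil .nil)) (.node [(133, (-1), 1)] .nil (.node [] (.node [(238, (-1), 1)] .nil .nil) .nil))))) (.node [(200, (-1), 1)] (.node [] (.node [(68, 1, 1)] (.node [] (.node [(143, 1, 1)] (.node [(201, (-1), 1)] .nil .nil) .nil) .nil) (.node [(117, 1, 1)] (.node [(159, (-1), 1)] .nil .nil) .nil)) (.node [(93, (-1), 1)] .nil (.node [(131, 1,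 1)] (.node [] (.node [(221, (-1), 1)] .nil .nil) .nil) .nil))) (.node [(42, (-1), 1)] (.node [] (.node [] .nil (.node [] (.node [(231, 1, 1)] .nil .nil) .nil)) (.node [] (.node [] .nil (.node [(242, 1, 1)] .nil .nil)) .nil)) (.node [] (.node [] (.node [] (.node [(211, 1, 1)] .nil .nil) .nil) (.node [(181, 1, 1)] .nil .nil)) .nil)))) (.node [(200, (-1), 1)] (.node [] (.node [(31, 1, 1)] (.node [] (.node [] .nil (.node [(174, 1, 1)] (.node [(228, (-1), 1)] .nil .nil) (.node [(247, (-1), 1)] .nil .nil))) (.node [] .nil (.node [(190, (-1), 1)] .nil .nil))) (.node [(90, (-1), 1)] .nil (.node [(128, 1, 1)] .nil (.node [(195, (-1), 1)] (.node [(237, (-1), 1)] .nil .nil) .nil)))) (.node [] (.node [(73, (-1), 1)] (.node [(104, (-1), 1)] .nil .nil) (.node [] (.node [(168, 1, 1)] .nil .nil) .nil)) (.node [] (.node [(114, (-1), 1)] (.node [(148, 1, 1)] .nil .nil) .nil) (.node [(135, 1, 1)] .nil (.node [(198, (-1), 1)] .nil .nil))))) (.node [(200,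 1, 1)] (.node [(33, (-1), 1)] (.node [(71, 1, 1)] (.node [(102, 1, 1)] .nil (.node [(176, (-1), 1)] (.node [(230, 1, 1)] .nil .nil) .nil)) .nil) (.node [] (.node [] (.node [(146, (-1), 1)] (.node [(206, (-1), 1)] .nil .nil) .nil) .nil) (.node [] .nil (.node [(196, 1, 1)] .nil .nil)))) (.node [] (.node [] .nil (.node [(126, 1, 1)] (.node [] (.node [(216, 1, 1)] .nil .nil) .nil) (.node [(193, 1, 1)] (.node [(235, 1, 1)] .nil .nil) .nil))) (.node [] (.node [(116, 1, 1)] .nil .nil) (.node [(137, (-1), 1)] (.node [] .nil (.node [(245, 1, 1)] .nil .nil)) .nil))))))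
def X193 : Tr (List (ℕ × ℤ × ℕ)) := (.node [] (.node [] (.node [(201, 1, 1)] (.node [] (.node [(53, 1, 1)] (.node [] .nil (.node [] .nil (.node [(247, 1, 1)] .nil .nil))) (.node [] (.node [(158, 1, 1)] .nil .nil) .nil)) (.node [] .nil (.node [(129, 1, 1)] (.node [] (.node [(220, 1, 1)] .nil .nil) .nil) (.node [(195, (-1), 1)] (.node [(237, 1, 1)] .nil .nil) .nil)))) (.node [] (.node [(73, (-1), 1)] (.node [(104, (-1), 1)] .nil .nil) .nil) (.node [] (.node [] (.node [(148, 1, 1)] (.node [(210, (-1), 1)] .nil .nil) .nil) (.node [(180, (-1), 1)] .nil .nil)) (.node [] .nil (.node [(198, (-1), 1)] .nil .nil))))) (.node [] (.node [(33, (-1), 1)] (.node [(69, (-1), 1)] (.node [] .nil (.node [(176, (-1), 1)] (.node [(230, (-1), 1)] .nil .nil) .nil)) .nil) (.node [(94, 1, 1)] .nil (.node [(132, 1, 1)] .nil .nil))) (.node [(43, 1, 1)] .nil (.node [] (.node [(116, 1, 1)] .nil .nil) (.node [(137, (-1), 1)] .nil (.node [(199, 1, 1)] .nil .nil))))))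 (.node [(201, (-1), 1)] (.node [] (.node [(32, (-1), 1)] (.node [] (.node [] (.node [(143, 1, 1)] .nil .nil) (.node [(175, 1, 1)] (.node [(229, (-1), 1)] .nil .nil) .nil)) (.node [(117, 1, 1)] (.node [(159, (-1), 1)] .nil .nil) (.node [(191, (-1), 1)] .nil .nil))) (.node [(91, 1, 1)] .nil (.node [(130, (-1), 1)] (.node [] (.node [(221, 1, 1)] .nil .nil) .nil) .nil))) (.node [] (.node [] (.node [] .nil (.node [] (.node [(231, (-1), 1)] .nil .nil) .nil)) (.node [] (.node [(169, 1, 1)] .nil (.node [(242, (-1), 1)] .nil .nil)) .nil)) (.node [] (.node [(115, 1, 1)] (.node [] (.node [(211, (-1), 1)] .nil .nil) .nil) (.node [(181, 1, 1)] .nil .nil)) (.node [(136, 1, 1)] .nil .nil)))) (.node [(201, (-1), 1)] (.node [] (.node [(72, (-1), 1)] (.node [(103, (-1), 1)] .nil .nil) .nil) (.node [(95, 1, 1)] (.node [] (.node [(147, (-1), 1)] (.node [(207, (-1), 1)] .nil .nil) (.node [(240, (-1), 1)] .nil .nil)) .nil) (.node [(133, (-1), 1)] .nil (.node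 [(197, 1, 1)] (.node [(238, 1, 1)] .nil .nil) .nil)))) (.node [] (.node [] (.node [(105, (-1), 1)] .nil .nil) (.node [(0, 1, 1), (1, 1, 1), (2, 2, 1), (3, 2, 1), (4, 2, 1), (5, 2, 1), (6, 2, 1), (7, 1, 1), (201, (-1), 2)] (.node [(171, (-1), 1)] (.node [(217, 1, 1)] .nil .nil) .nil) (.node [(194, 1, 1)] (.node [(236, 1, 1)] .nil .nil) .nil))) (.node [] .nil (.node [] (.node [] .nil (.node [(246, 1, 1)] .nil .nil)) (.node [(200, (-1), 1)] .nil .nil)))))))
def X194 : Tr (List (ℕ × ℤ × ℕ)) := (.node [] (.node [(202, 1, 1)] (.node [(202, (-1), 1)] (.node [] (.node [(54, (-1), 1)] (.node [] (.node [(140, 1, 1)] .nil (.node [(239, 1, 1)] .nil .nil)) (.node [(174, (-1), 1)] (.node [(228, 1, 1)] .nil .nil) .nil)) (.node [(119, 1, 1)] .nil (.node [(186, (-1), 1)] .nil .nil))) (.node [(86, 1, 1)] .nil .nil)) (.node [(35, 1, 1)] (.node [] .nil (.node [(125, 1, 1)] (.node [(164, 1, 1)] .nil .nil) (.node [(192, (-1), 1)] .nil .nil))) (.node [(96,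 (-1), 1)] (.node [(106, 1, 1)] .nil .nil) (.node [(138, 1, 1)] (.node [(172, (-1), 1)] .nil .nil) .nil)))) (.node [] (.node [] (.node [] (.node [(102, (-1), 1)] (.node [] (.node [(203, (-1), 1)] .nil .nil) .nil) .nil) (.node [(122, (-1), 1)] (.node [(160, 1, 1)] .nil .nil) .nil)) (.node [] (.node [] (.node [(146, 1, 1)] (.node [(209, (-1), 1)] .nil .nil) (.node [(240, 1, 1)] .nil .nil)) (.node [] (.node [(232, (-1), 1)] .nil .nil) .nil)) (.node [] (.node [] (.node [(222, 1, 1)] .nil .nil) (.node [(243, (-1), 1)] .nil .nil)) .nil))) (.node [] (.node [(75, 1, 1)] (.node [] (.node [(144, 1, 1)] (.node [(206, 1, 1)] .nil .nil) .nil) .nil) (.node [(0, 1, 1), (1, 1, 1), (2, 2, 1), (3, 3, 1), (4, 2, 1), (5, 1, 1), (202, (-1), 2)] (.node [] (.node [(212, (-1), 1)] .nil .nil) .nil) (.node [(196, (-1), 1)] (.node [(235, (-1), 1)] .nil .nil) .nil))) (.node [] (.node [] .nil (.node [(182, (-1), 1)] .nil .nil)) (.node [] (.node [] .nil (.node [(245,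 (-1), 1)] .nil .nil)) .nil))))) (.node [] (.node [] (.node [] (.node [(64, (-1), 1)] (.node [(101, (-1), 1)] .nil .nil) .nil) (.node [] (.node [] (.node [(145, (-1), 1)] (.node [(208, (-1), 1)] .nil .nil) .nil) .nil) .nil)) (.node [(38, 1, 1)] (.node [(74, 1, 1)] (.node [] (.node [] (.node [(205, 1, 1)] .nil .nil) .nil) .nil) (.node [(126, 1, 1)] .nil (.node [(193, 1, 1)] (.node [(234, (-1), 1)] .nil .nil) .nil))) (.node [(97, (-1), 1)] .nil (.node [] (.node [] .nil (.node [(244, (-1), 1)] .nil .nil)) .nil)))) (.node [(202, 1, 1)] (.node [(34, 1, 1)] (.node [] (.node [] (.node [] (.node [(204, (-1), 1)] .nil .nil) .nil) .nil) (.node [(123, (-1), 1)] (.node [(161, (-1), 1)] .nil .nil) .nil)) (.node [] .nil (.node [] (.node [] (.node [(223, 1, 1)] .nil .nil) .nil) .nil))) (.node [] .nil (.node [] (.node [(118, 1, 1)] .nil (.node [(183, 1, 1)] .nil .nil)) (.node [(139, (-1), 1)] (.node [(173, 1, 1)] (.node [(227, 1, 1)] .nil .nil) .nil)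 .nil))))))
def X195 : Tr (List (ℕ × ℤ × ℕ)) := (.node [] (.node [(203, 1, 1)] (.node [(203, (-1), 1)] (.node [(203, 1, 1)] (.node [(55, 1, 1)] (.node [(101, (-1), 1)] (.node [(141, 1, 1)] .nil .nil) (.node [(175, (-1), 1)] (.node [(229, 1, 1)] .nil .nil) .nil)) (.node [(120, (-1), 1)] .nil (.node [(187, (-1), 1)] .nil .nil))) (.node [(87, (-1), 1)] (.node [] (.node [(145, (-1), 1)] (.node [(208, 1, 1)] .nil .nil) .nil) .nil) .nil)) (.node [(36, (-1), 1)] (.node [(74, 1, 1)] (.node [] (.node [] (.node [(205, (-1), 1)] .nil .nil) .nil) .nil) (.node [(127, 1, 1)] (.node [(165, 1, 1)] .nil .nil) (.node [] (.node [(234, 1, 1)] .nil .nil) .nil))) (.node [] .nil (.node [] (.node [] .nil (.node [(244, 1, 1)] .nil .nil)) .nil)))) (.node [(203, 1, 1)] (.node [(34, 1, 1)] (.node [] (.node [(103, 1, 1)] .nil .nil) .nil) (.node [] (.node [] (.node [(147, 1, 1)] (.node [(210, (-1), 1)] .nil .nil) .nil) .nil) .nil)) (.node [] (.node [(76, (-1), 1)]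 (.node [] (.node [] (.node [(207, 1, 1)] .nil .nil) .nil) .nil) (.node [(129, 1, 1)] (.node [] (.node [(213, (-1), 1)] .nil .nil) .nil) (.node [(197, (-1), 1)] (.node [(236, (-1), 1)] .nil .nil) .nil))) (.node [] (.node [(118, 1, 1)] .nil .nil) (.node [(139, (-1), 1)] (.node [(173, 1, 1)] (.node [(227, (-1), 1)] .nil .nil) (.node [(246, (-1), 1)] .nil .nil)) .nil))))) (.node [] (.node [] (.node [] (.node [(65, 1, 1)] (.node [] (.node [] (.node [(204, (-1), 1)] .nil .nil) .nil) .nil) (.node [(122, (-1), 1)] (.node [(160, 1, 1)] .nil .nil) .nil)) (.node [] (.node [] (.node [] .nil (.node [(240, (-1), 1)] .nil .nil)) (.node [] (.node [(232, 1, 1)] .nil .nil) .nil)) (.node [] (.node [] (.node [(222, (-1), 1)] .nil .nil) (.node [(243, 1, 1)] .nil .nil)) .nil))) (.node [(39, (-1), 1)] (.node [] (.node [] (.node [(144, 1, 1)] .nil .nil) .nil) (.node [(0, 1, 1), (1, 1, 1), (2, 2, 1), (3, 3, 1), (4, 2, 1), (5, 1, 1), (6, 1, 1), (203, (-1), 2)]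 .nil (.node [(194, 1, 1)] .nil .nil))) (.node [(98, 1, 1)] (.node [] .nil (.node [(182, (-1), 1)] .nil .nil)) .nil))) (.node [(203, (-1), 1)] (.node [] (.node [] .nil (.node [(124, 1, 1)] (.node [(162, (-1), 1)] .nil .nil) (.node [(192, (-1), 1)] .nil .nil))) (.node [(96, (-1), 1)] (.node [(106, 1, 1)] .nil .nil) (.node [(138, 1, 1)] (.node [(172, (-1), 1)] (.node [(224, 1, 1)] .nil .nil) .nil) .nil))) (.node [] .nil (.node [] (.node [] .nil (.node [(184, 1, 1)] .nil .nil)) (.node [] .nil (.node [(202, (-1), 1)] (.node [(239, (-1), 1)] .nil .nil) .nil)))))))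
def X196 : Tr (List (ℕ × ℤ × ℕ)) := (.node [] (.node [(204, 1, 1)] (.node [(204, (-1), 1)] (.node [(204, (-1), 1)] (.node [(56, (-1), 1)] (.node [(102, 1, 1)] (.node [(142, 1, 1)] (.node [(203, (-1), 1)] .nil .nil) .nil) (.node [(176, (-1), 1)] .nil .nil)) (.node [] (.node [(160, 1, 1)] .nil .nil) (.node [(188, (-1), 1)] .nil .nil))) (.node [(88, 1, 1)] (.node [] (.node [] (.node [(209, 1, 1)] .nil .nil) (.node [(240, 1, 1)] .nil .nil)) (.node [] (.node [(232, (-1), 1)] .nil .nil) .nil)) (.node [] (.node [] .nil (.node [(243, (-1), 1)] .nil .nil)) .nil))) (.node [(37, 1, 1)] (.node [(75, (-1), 1)] (.node [] (.node [(144, 1, 1)] (.node [(206, (-1), 1)] .nil .nil) .nil) .nil) (.node [(0, 1, 1), (1, 1, 1), (2, 2, 1), (3, 3, 1), (4, 2, 1), (5, 1, 1), (6, 1, 1), (7, 1, 1), (204, (-1), 2)] (.node [(166, 1, 1)] .nil .nil) (.node [] (.node [(235, 1, 1)] .nil .nil) .nil))) (.node [(98, 1, 1)] (.node [] .nil (.node [(182, (-1), 1)] .nil .nil))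 .nil))) (.node [(204, 1, 1)] (.node [] (.node [] .nil (.node [(124, 1, 1)] .nil (.node [(192, (-1), 1)] .nil .nil))) (.node [] (.node [(106, 1, 1)] (.node [(148, 1, 1)] .nil .nil) .nil) (.node [(138, 1, 1)] (.node [(172, (-1), 1)] (.node [(224, (-1), 1)] .nil .nil) .nil) .nil))) (.node [] (.node [] .nil (.node [(130, 1, 1)] (.node [] (.node [(214, (-1), 1)] .nil .nil) .nil) (.node [(198, (-1), 1)] .nil .nil))) (.node [] (.node [(119, (-1), 1)] .nil .nil) (.node [] (.node [] (.node [(228, (-1), 1)] .nil .nil) (.node [(247, (-1), 1)] .nil .nil)) (.node [(202, (-1), 1)] (.node [(239, 1, 1)] .nil .nil) .nil)))))) (.node [] (.node [] (.node [(34, 1, 1)] (.node [(66, (-1), 1)] (.node [(103, 1, 1)] .nil .nil) (.node [(123, 1, 1)] .nil .nil)) (.node [] (.node [] (.node [] (.node [(210, 1, 1)] .nil .nil) .nil) .nil) (.node [] (.node [] (.node [(223, (-1), 1)] .nil .nil) .nil) .nil))) (.node [(40, 1, 1)] (.node [(76, (-1), 1)] (.node [] (.node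 [] (.node [(207, (-1), 1)] .nil .nil) .nil) .nil) (.node [(128, 1, 1)] .nil (.node [(195, 1, 1)] (.node [(236, 1, 1)] .nil .nil) .nil))) (.node [] .nil (.node [(139, (-1), 1)] (.node [(173, 1, 1)] .nil .nil) .nil)))) (.node [] (.node [] (.node [] .nil (.node [] (.node [(163, (-1), 1)] .nil .nil) .nil)) (.node [(97, 1, 1)] .nil (.node [] (.node [] .nil (.node [(244, (-1), 1)] .nil .nil)) .nil))) (.node [] (.node [] (.node [] (.node [(145, (-1), 1)] .nil .nil) .nil) .nil) (.node [] (.node [(120, (-1), 1)] .nil (.node [(185, 1, 1)] .nil .nil)) (.node [] (.node [] (.node [(229, (-1), 1)] .nil .nil) .nil) .nil))))))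
def X197 : Tr (List (ℕ × ℤ × ℕ)) := (.node [] (.node [(205, 1, 1)] (.node [(205, (-1), 1)] (.node [(205, 1, 1)] (.node [(57, (-1), 1)] (.node [] .nil (.node [] (.node [(230, 1, 1)] .nil .nil) .nil)) (.node [(121, 1, 1)] .nil (.node [(189, (-1), 1)] .nil .nil))) (.node [(89, 1, 1)] (.node [] (.node [(146, (-1), 1)] .nil .nil) .nil) (.node [] (.node [] (.node [(222, 1, 1)] .nil .nil) .nil) .nil))) (.node [] (.node [] .nil (.node [] (.node [(167, 1, 1)] .nil .nil) (.node [(194, 1, 1)] .nil .nil))) (.node [] .nil (.node [] (.node [] .nil (.node [(245, 1, 1)] .nil .nil)) (.node [(202, 1, 1)] .nil .nil))))) (.node [(205, (-1), 1)] (.node [(35, (-1), 1)] (.node [] (.node [(104, (-1), 1)] .nil .nil) (.node [(127, 1, 1)] (.node [(162, (-1), 1)] .nil .nil) .nil)) (.node [(96, (-1), 1)] (.node [] (.node [] (.node [(211, (-1), 1)] .nil .nil) .nil) .nil) .nil)) (.node [] (.node [(77, 1, 1)] .nil (.node [(132, (-1), 1)] (.node [] (.node [(215, (-1),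 1)] .nil .nil) .nil) (.node [(199, (-1), 1)] (.node [(237, (-1), 1)] .nil .nil) .nil))) (.node [] (.node [] .nil (.node [(184, 1, 1)] .nil .nil)) (.node [(140, (-1), 1)] (.node [(174, 1, 1)] .nil .nil) .nil))))) (.node [] (.node [(205, 1, 1)] (.node [] (.node [(67, (-1), 1)] (.node [] (.node [] (.node [(206, (-1), 1)] .nil .nil) .nil) .nil) (.node [(125, (-1), 1)] (.node [(161, 1, 1)] .nil .nil) .nil)) (.node [] (.node [(106, 1, 1)] (.node [(147, 1, 1)] .nil .nil) .nil) (.node [(138, 1, 1)] (.node [(172, (-1), 1)] .nil .nil) .nil))) (.node [(41, 1, 1)] (.node [] .nil (.node [(131, 1, 1)] .nil .nil)) (.node [(99, (-1), 1)] (.node [(118, 1, 1)] .nil (.node [(183, (-1), 1)] .nil .nil)) (.node [] (.node [] (.node [(227, 1, 1)] .nil .nil) (.node [(246, 1, 1)] .nil .nil)) (.node [(203, (-1), 1)] (.node [(239, 1, 1)] .nil .nil) .nil))))) (.node [] (.node [(36, (-1), 1)] (.node [(74, 1, 1)] (.node [] (.node [(144, 1, 1)] (.node [(207, 1, 1)]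 .nil .nil) .nil) .nil) (.node [(0, 1, 1), (1, 1, 1), (2, 2, 1), (3, 3, 1), (4, 2, 1), (5, 2, 1), (6, 1, 1), (205, (-1), 2)] .nil (.node [(193, (-1), 1)] (.node [(234, (-1), 1)] .nil .nil) .nil))) (.node [] .nil (.node [] (.node [] (.node [(225, 1, 1)] .nil .nil) .nil) .nil))) (.node [] (.node [] (.node [] (.node [] (.node [(208, (-1), 1)] .nil .nil) (.node [(240, 1, 1)] .nil .nil)) (.node [] (.node [(232, (-1), 1)] .nil .nil) .nil)) (.node [] (.node [] .nil (.node [(243, (-1), 1)] .nil .nil)) .nil)) (.node [(101, (-1), 1)] .nil (.node [(141, 1, 1)] (.node [(175, (-1), 1)] .nil .nil) .nil))))))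
def X198 : Tr (List (ℕ × ℤ × ℕ)) := (.node [] (.node [(206, 1, 1)] (.node [(206, (-1), 1)] (.node [(206, (-1), 1)] (.node [(58, 1, 1)] (.node [] (.node [] (.node [(205, (-1), 1)] .nil .nil) .nil) .nil) (.node [] (.node [(161, 1, 1)] .nil .nil) (.node [(190, (-1), 1)] .nil .nil))) (.node [(90, (-1), 1)] (.node [(106, 1, 1)] .nil .nil) (.node [(138, 1, 1)] (.node [(172, (-1), 1)] (.node [(223, 1, 1)] .nil .nil) .nil) .nil))) (.node [] (.node [] .nil (.node [(131, 1, 1)] (.node [(168, 1, 1)] .nil .nil) (.node [(195, 1, 1)] .nil .nil))) (.node [(99, (-1), 1)] (.node [] .nil (.node [(183, (-1), 1)] .nil .nil)) (.node [] .nil (.node [] (.node [(239, (-1), 1)] .nil .nil) .nil))))) (.node [(206, (-1), 1)] (.node [] (.node [] (.node [] (.node [(144, 1, 1)] (.node [(207, (-1), 1)] .nil .nil) .nil) .nil) (.node [(0, 1, 1), (1, 1, 1), (2, 2, 1), (3, 3, 1), (4, 2, 1), (5, 2, 1), (6, 1, 1), (7, 1, 1), (206, (-1), 2)] (.node [(163, (-1), 1)] .nil .nil)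 (.node [(193, (-1), 1)] .nil .nil))) (.node [(97, 1, 1)] .nil (.node [] (.node [] (.node [(225, (-1), 1)] .nil .nil) .nil) .nil))) (.node [] (.node [] (.node [] (.node [] .nil (.node [(240, (-1), 1)] .nil .nil)) (.node [] (.node [(232, 1, 1)] .nil .nil) .nil)) (.node [(133, (-1), 1)] (.node [] (.node [(216, (-1), 1)] .nil .nil) (.node [(243, 1, 1)] .nil .nil)) (.node [(200, (-1), 1)] .nil .nil))) (.node [] (.node [] .nil (.node [(185, 1, 1)] .nil .nil)) .nil)))) (.node [] (.node [(206, 1, 1)] (.node [(35, (-1), 1)] (.node [(68, 1, 1)] (.node [(104, (-1), 1)] .nil .nil) (.node [(126, 1, 1)] .nil .nil)) (.node [] (.node [] (.node [(148, 1, 1)] (.node [(211, 1, 1)] .nil .nil) .nil) .nil) .nil)) (.node [(42, (-1), 1)] (.node [(77, 1, 1)] .nil (.node [] .nil (.node [] (.node [(237, 1, 1)] .nil .nil) .nil))) (.node [] (.node [(119, (-1), 1)] .nil .nil) (.node [(140, (-1), 1)] (.node [(174, 1, 1)] (.node [(228, 1, 1)] .nil .nil) (.node [(247,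 1, 1)] .nil .nil)) (.node [(204, (-1), 1)] .nil .nil))))) (.node [(206, 1, 1)] (.node [(37, 1, 1)] (.node [(75, (-1), 1)] .nil (.node [(128, 1, 1)] .nil (.node [] (.node [(235, (-1), 1)] .nil .nil) .nil))) (.node [] .nil (.node [] (.node [] .nil (.node [(245, (-1), 1)] .nil .nil)) (.node [(202, 1, 1)] .nil .nil)))) (.node [] (.node [] (.node [] (.node [(146, (-1), 1)] (.node [(209, (-1), 1)] .nil .nil) .nil) .nil) .nil) (.node [(102, 1, 1)] (.node [(121, 1, 1)] .nil .nil) (.node [(142, 1, 1)] (.node [(176, (-1), 1)] (.node [(230, (-1), 1)] .nil .nil) .nil) .nil))))))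
def X199 : Tr (List (ℕ × ℤ × ℕ)) := (.node [] (.node [(207, 1, 1)] (.node [(207, (-1), 1)] (.node [] (.node [(59, (-1), 1)] (.node [(104, (-1), 1)] .nil .nil) (.node [] (.node [(162, 1, 1)] .nil .nil) (.node [(191, (-1), 1)] .nil .nil))) (.node [(91, 1, 1)] (.node [] (.node [(148, 1, 1)] (.node [(211, (-1), 1)] .nil .nil) .nil) .nil) (.node [] (.node [] (.node [(224, 1, 1)] .nil .nil) .nil) .nil))) (.node [] (.node [(77, 1, 1)] .nil (.node [(132, 1, 1)] (.node [(169, 1, 1)] .nil .nil) (.node [] (.node [(237, (-1), 1)] .nil .nil) .nil))) (.node [] (.node [] .nil (.node [(184, (-1), 1)] .nil .nil)) (.node [] (.node [] .nil (.node [(247, (-1), 1)] .nil .nil)) (.node [(204, (-1), 1)] .nil .nil))))) (.node [] (.node [(37, 1, 1)] (.node [] .nil (.node [(129, 1, 1)] .nil (.node [(194, (-1), 1)] .nil .nil))) (.node [(98, (-1), 1)] .nil .nil)) (.node [] (.node [] .nil (.node [] (.node [] (.node [(217, (-1), 1)] .nil .nil) .nil) (.node [(201, (-1),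 1)] .nil .nil))) (.node [] (.node [(121, 1, 1)] .nil .nil) (.node [(142, 1, 1)] (.node [(176, (-1), 1)] (.node [(230, 1, 1)] .nil .nil) .nil) (.node [(205, 1, 1)] .nil .nil)))))) (.node [] (.node [(207, 1, 1)] (.node [(36, 1, 1)] (.node [(69, (-1), 1)] (.node [] (.node [(144, 1, 1)] .nil .nil) .nil) (.node [(0, 1, 1), (1, 1, 1), (2, 2, 1), (3, 3, 1), (4, 2, 1), (5, 2, 1), (6, 2, 1), (7, 1, 1), (207, (-1), 2)] (.node [(163, (-1), 1)] .nil .nil) .nil)) (.node [] .nil (.node [] (.node [] (.node [(225, 1, 1)] .nil .nil) .nil) .nil))) (.node [(43, 1, 1)] (.node [] (.node [] (.node [] .nil (.node [(240, 1, 1)] .nil .nil)) (.node [] (.node [(232, (-1), 1)] .nil .nil) .nil)) (.node [(133, (-1), 1)] (.node [] .nil (.node [(243, (-1), 1)] .nil .nil)) .nil)) (.node [] (.node [(120, 1, 1)] .nil (.node [(185, 1, 1)] .nil .nil)) (.node [(141, (-1), 1)] (.node [(175, 1, 1)] (.node [(229, 1, 1)] .nil .nil) .nil) .nil)))) (.node [(207, (-1), 1)] (.node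 [] (.node [(76, 1, 1)] .nil (.node [(130, (-1), 1)] .nil (.node [(195, 1, 1)] (.node [(236, (-1), 1)] .nil .nil) .nil))) (.node [(99, (-1), 1)] .nil (.node [] (.node [] .nil (.node [(246, (-1), 1)] .nil .nil)) (.node [(203, 1, 1)] (.node [(239, 1, 1)] .nil .nil) .nil)))) (.node [] (.node [] (.node [(106, 1, 1)] (.node [(147, (-1), 1)] (.node [(210, (-1), 1)] .nil .nil) .nil) .nil) (.node [(138, 1, 1)] (.node [(172, (-1), 1)] .nil .nil) .nil)) (.node [(103, (-1), 1)] .nil (.node [] .nil (.node [(206, (-1), 1)] .nil .nil)))))))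
def X200 : Tr (List (ℕ × ℤ × ℕ)) := (.node [] (.node [(208, 1, 1)] (.node [] (.node [(208, 1, 1)] (.node [(60, 1, 1)] (.node [] .nil (.node [] (.node [(231, 1, 1)] .nil .nil) .nil)) (.node [(0, 1, 1), (1, 1, 1), (2, 2, 1), (3, 3, 1), (4, 3, 1), (5, 2, 1), (6, 1, 1), (208, (-1), 2)] .nil .nil)) (.node [(92, (-1), 1)] .nil (.node [] .nil (.node [(202, (-1), 1)] .nil .nil)))) (.node [(41, 1, 1)] (.node [] (.node [] (.node [] .nil (.node [(240, (-1), 1)] .nil .nil)) (.node [] (.node [(232, 1, 1)] .nil .nil) .nil)) (.node [] .nil (.node [(197, 1, 1)] .nil .nil))) (.node [] .nil (.node [(141, 1, 1)] (.node [(175, (-1), 1)] (.node [(227, (-1), 1)] .nil .nil) .nil) .nil)))) (.node [] (.node [(38, 1, 1)] (.node [(74, 1, 1)] (.node [(105, 1, 1)] .nil .nil) (.node [] (.node [(165, (-1), 1)] .nil .nil) (.node [] (.node [(234, 1, 1)] .nil .nil) .nil))) (.node [] .nil (.node [] (.node [] .nil (.node [(246, (-1), 1)] .nil .nil)) (.node [(205, (-1),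 1)] (.node [(239, (-1), 1)] .nil .nil) .nil)))) (.node [] (.node [(78, (-1), 1)] (.node [(106, 1, 1)] (.node [(147, 1, 1)] (.node [(211, (-1), 1)] .nil .nil) .nil) .nil) (.node [(136, 1, 1)] (.node [] (.node [(218, (-1), 1)] .nil .nil) .nil) (.node [] (.node [(238, (-1), 1)] .nil .nil) .nil))) (.node [(101, (-1), 1)] (.node [(125, (-1), 1)] .nil (.node [(187, 1, 1)] .nil .nil)) .nil)))) (.node [] (.node [(208, (-1), 1)] (.node [] (.node [(70, 1, 1)] (.node [] (.node [] (.node [(209, (-1), 1)] .nil .nil) .nil) .nil) (.node [] (.node [(164, 1, 1)] .nil .nil) .nil)) (.node [(96, (-1), 1)] .nil (.node [(139, 1, 1)] (.node [(173, (-1), 1)] .nil (.node [(245, (-1), 1)] .nil .nil)) (.node [(203, 1, 1)] .nil .nil)))) (.node [] (.node [] (.node [] (.node [(146, (-1), 1)] .nil .nil) .nil) (.node [(135, (-1), 1)] .nil (.node [(199, (-1), 1)] .nil .nil))) (.node [(100, 1, 1)] (.node [(122, 1, 1)] .nil (.node [(186, (-1), 1)] .nil .nil)) .nil))) (.node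 [] (.node [(39, 1, 1)] (.node [] (.node [] (.node [(145, 1, 1)] (.node [(210, 1, 1)] .nil .nil) .nil) .nil) (.node [(134, 1, 1)] (.node [(167, 1, 1)] .nil .nil) (.node [(196, (-1), 1)] .nil .nil))) (.node [] .nil (.node [(140, (-1), 1)] (.node [(174, 1, 1)] (.node [(226, 1, 1)] .nil .nil) .nil) .nil))) (.node [] (.node [] .nil (.node [] (.node [] (.node [(222, (-1), 1)] .nil .nil) (.node [(244, (-1), 1)] .nil .nil)) .nil)) (.node [] (.node [(127, 1, 1)] .nil (.node [(189, (-1), 1)] .nil .nil)) .nil)))))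
def X201 : Tr (List (ℕ × ℤ × ℕ)) := (.node [] (.node [(209, 1, 1)] (.node [] (.node [(209, (-1), 1)] (.node [(61, (-1), 1)] (.node [] (.node [] (.node [(208, (-1), 1)] .nil .nil) .nil) .nil) (.node [(128, 1, 1)] (.node [(164, 1, 1)] .nil .nil) .nil)) (.node [(93, 1, 1)] .nil (.node [(139, 1, 1)] (.node [(173, (-1), 1)] .nil (.node [(245, 1, 1)] .nil .nil)) .nil))) (.node [(42, (-1), 1)] (.node [] (.node [] (.node [(146, (-1), 1)] .nil .nil) .nil) (.node [(135, (-1), 1)] .nil (.node [(198, 1, 1)] .nil .nil))) (.node [(100, 1, 1)] (.node [] .nil (.node [(186, (-1), 1)] .nil .nil)) (.node [(142, 1, 1)] (.node [(176, (-1), 1)] (.node [(228, (-1), 1)] .nil .nil) .nil) .nil)))) (.node [] (.node [] (.node [(75, (-1), 1)] (.node [] (.node [(145, 1, 1)] (.node [(210, (-1), 1)] .nil .nil) .nil) .nil) (.node [(134, 1, 1)] (.node [(166, (-1), 1)] .nil .nil) (.node [(196, (-1), 1)] (.node [(235, 1, 1)] .nil .nil) .nil))) (.node [] .nil (.node [(140,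 (-1), 1)] (.node [(174, 1, 1)] (.node [(226, (-1), 1)] .nil .nil) (.node [(247, (-1), 1)] .nil .nil)) (.node [(206, (-1), 1)] .nil .nil)))) (.node [] (.node [] (.node [] (.node [(148, 1, 1)] .nil .nil) .nil) (.node [(137, 1, 1)] (.node [] (.node [(219, (-1), 1)] .nil .nil) (.node [(244, 1, 1)] .nil .nil)) .nil)) (.node [(102, 1, 1)] (.node [(126, 1, 1)] .nil (.node [(188, 1, 1)] .nil .nil)) .nil)))) (.node [] (.node [(209, (-1), 1)] (.node [(38, 1, 1)] (.node [(71, (-1), 1)] (.node [(105, 1, 1)] .nil .nil) .nil) (.node [(97, 1, 1)] .nil (.node [] .nil (.node [(204, 1, 1)] (.node [(239, 1, 1)] .nil .nil) .nil)))) (.node [] (.node [(78, (-1), 1)] (.node [(106, 1, 1)] (.node [] (.node [(211, 1, 1)] .nil .nil) .nil) .nil) (.node [] .nil (.node [(200, (-1), 1)] (.node [(238, 1, 1)] .nil .nil) .nil))) (.node [] (.node [(123, (-1), 1)] .nil .nil) .nil))) (.node [(209, 1, 1)] (.node [(40, (-1), 1)] (.node [] (.node [] (.node [] .nil (.node [(240,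 1, 1)] .nil .nil)) (.node [] (.node [(232, (-1), 1)] .nil .nil) .nil)) (.node [] (.node [(168, 1, 1)] .nil .nil) .nil)) .nil) (.node [] (.node [] .nil (.node [] (.node [] (.node [(223, (-1), 1)] .nil .nil) .nil) (.node [(202, (-1), 1)] .nil .nil))) (.node [] (.node [(0, 1, 1), (1, 1, 1), (2, 2, 1), (3, 3, 1), (4, 3, 1), (5, 2, 1), (6, 1, 1), (7, 1, 1), (209, (-1), 2)] .nil (.node [(190, (-1), 1)] .nil .nil)) (.node [] (.node [] (.node [(231, (-1), 1)] .nil .nil) .nil) .nil))))))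
def X202 : Tr (List (ℕ × ℤ × ℕ)) := (.node [] (.node [(210, 1, 1)] (.node [] (.node [] (.node [(62, 1, 1)] (.node [(105, 1, 1)] .nil .nil) (.node [(130, (-1), 1)] (.node [(165, 1, 1)] .nil .nil) .nil)) (.node [(94, (-1), 1)] .nil (.node [] (.node [] .nil (.node [(246, 1, 1)] .nil .nil)) (.node [(204, 1, 1)] (.node [(239, (-1), 1)] .nil .nil) .nil)))) (.node [(43, 1, 1)] (.node [(78, (-1), 1)] (.node [(106, 1, 1)] (.node [(147, (-1), 1)] (.node [(211, (-1), 1)] .nil .nil) .nil) .nil) (.node [(136, (-1), 1)] .nil (.node [] (.node [(238, (-1), 1)] .nil .nil) .nil))) (.node [] (.node [] .nil (.node [(187, (-1), 1)] .nil .nil)) (.node [] (.node [] (.node [(229, (-1), 1)] .nil .nil) .nil) .nil)))) (.node [(210, 1, 1)] (.node [(40, (-1), 1)] (.node [(76, 1, 1)] (.node [] (.node [] .nil (.node [(240, (-1), 1)] .nil .nil)) (.node [] (.node [(232, 1, 1)] .nil .nil) .nil)) (.node [] .nil (.node [(197, (-1), 1)] (.node [(236, 1, 1)] .nil .nil) .nil)))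 (.node [] .nil (.node [(141, (-1), 1)] (.node [(175, 1, 1)] .nil .nil) (.node [(207, (-1), 1)] .nil .nil)))) (.node [] (.node [] .nil (.node [] (.node [] (.node [(220, (-1), 1)] .nil .nil) .nil) .nil)) (.node [(103, (-1), 1)] (.node [(0, 1, 1), (1, 1, 1), (2, 2, 1), (3, 3, 1), (4, 3, 1), (5, 2, 1), (6, 2, 1), (7, 1, 1), (210, (-1), 2)] .nil .nil) (.node [] (.node [] (.node [(231, 1, 1)] .nil .nil) .nil) (.node [(208, 1, 1)] .nil .nil)))))) (.node [] (.node [(210, (-1), 1)] (.node [(39, (-1), 1)] (.node [(72, 1, 1)] (.node [] (.node [(145, 1, 1)] .nil .nil) .nil) (.node [(134, 1, 1)] (.node [(166, (-1), 1)] .nil .nil) .nil)) (.node [(98, (-1), 1)] .nil (.node [] (.node [] (.node [(226, 1, 1)] .nil .nil) (.node [(247, 1, 1)] .nil .nil)) .nil))) (.node [] (.node [] (.node [] (.node [(148, 1, 1)] .nil .nil) .nil) (.node [(137, 1, 1)] (.node [] .nil (.node [(244, (-1), 1)] .nil .nil)) (.node [(201, (-1), 1)] .nil .nil))) (.node [] (.node [(124,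 1, 1)] .nil (.node [(188, 1, 1)] .nil .nil)) .nil))) (.node [(210, (-1), 1)] (.node [] (.node [] .nil (.node [] (.node [(169, 1, 1)] .nil .nil) (.node [(198, 1, 1)] .nil .nil))) (.node [(100, 1, 1)] .nil (.node [(142, 1, 1)] (.node [(176, (-1), 1)] .nil .nil) .nil))) (.node [] (.node [] .nil (.node [(139, 1, 1)] (.node [(173, (-1), 1)] (.node [(224, (-1), 1)] .nil .nil) .nil) (.node [(203, (-1), 1)] .nil .nil))) (.node [] (.node [(129, 1, 1)] .nil (.node [(191, (-1), 1)] .nil .nil)) (.node [] .nil (.node [(209, (-1), 1)] .nil .nil)))))))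
def X203 : Tr (List (ℕ × ℤ × ℕ)) := (.node [] (.node [(211, 1, 1)] (.node [] (.node [] (.node [(63, (-1), 1)] .nil (.node [(133, 1, 1)] (.node [(167, 1, 1)] .nil .nil) .nil)) (.node [(95, 1, 1)] .nil (.node [(141, (-1), 1)] (.node [(175, 1, 1)] (.node [(226, (-1), 1)] .nil .nil) .nil) (.node [(206, 1, 1)] .nil .nil)))) (.node [] (.node [] .nil (.node [] .nil (.node [(201, (-1), 1)] .nil .nil))) (.node [] (.node [] .nil (.node [(189, (-1), 1)] .nil .nil)) (.node [] (.node [] (.node [(230, (-1), 1)] .nil .nil) .nil) (.node [(209, 1, 1)] .nil .nil))))) (.node [(211, (-1), 1)] (.node [(42, 1, 1)] (.node [(77, (-1), 1)] (.node [] (.node [(147, (-1), 1)] .nil .nil) .nil) (.node [(136, (-1), 1)] (.node [(169, 1, 1)] .nil .nil) (.node [(199, (-1), 1)] (.node [(237, 1, 1)] .nil .nil) .nil))) (.node [(100, 1, 1)] .nil .nil)) (.node [] (.node [] .nil (.node [] (.node [] (.node [(221, (-1), 1)] .nil .nil) (.node [(246, (-1), 1)] .nil .nil)) .nil))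 (.node [(104, 1, 1)] (.node [(131, 1, 1)] .nil (.node [(191, (-1), 1)] .nil .nil)) .nil)))) (.node [] (.node [] (.node [(41, 1, 1)] (.node [(73, (-1), 1)] (.node [] (.node [(146, 1, 1)] .nil (.node [(240, 1, 1)] .nil .nil)) (.node [] (.node [(232, (-1), 1)] .nil .nil) .nil)) (.node [(135, 1, 1)] (.node [(168, (-1), 1)] .nil .nil) .nil)) (.node [(99, 1, 1)] .nil (.node [(142, 1, 1)] (.node [(176, (-1), 1)] .nil .nil) (.node [(207, (-1), 1)] .nil .nil)))) (.node [] (.node [] .nil (.node [] (.node [] .nil (.node [(245, (-1), 1)] .nil .nil)) .nil)) (.node [] (.node [(0, 1, 1), (1, 1, 1), (2, 2, 1), (3, 3, 1), (4, 3, 1), (5, 3, 1), (6, 2, 1), (7, 1, 1), (211, (-1), 2)] .nil (.node [(190, 1, 1)] .nil .nil)) (.node [] (.node [] (.node [(231, (-1), 1)] .nil .nil) .nil) (.node [(210, (-1), 1)] .nil .nil))))) (.node [] (.node [(43, 1, 1)] (.node [(78, (-1), 1)] (.node [(106, 1, 1)] (.node [(148, 1, 1)] .nil .nil) .nil) (.node [(137, 1, 1)] .nil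 (.node [(200, 1, 1)] (.node [(238, 1, 1)] .nil .nil) .nil))) (.node [] .nil (.node [] .nil (.node [(208, (-1), 1)] .nil .nil)))) (.node [] (.node [] .nil (.node [(140, 1, 1)] (.node [(174, (-1), 1)] (.node [(225, (-1), 1)] .nil .nil) (.node [(247, (-1), 1)] .nil .nil)) (.node [(205, (-1), 1)] (.node [(239, 1, 1)] .nil .nil) .nil))) (.node [(105, 1, 1)] (.node [(132, (-1), 1)] .nil .nil) .nil)))))
def X204 : Tr (List (ℕ × ℤ × ℕ)) := (.node [] (.node [(212, (-1), 1)] (.node [] (.node [] (.node [] (.node [] (.node [(152, (-1), 1)] .nil (.node [(241, 1, 1)] .nil .nil)) (.node [(179, (-1), 1)] .nil .nil)) (.node [] (.node [] .nil (.node [(243, 1, 1)] .nil .nil)) (.node [] (.node [(234, 1, 1)] .nil .nil) .nil))) (.node [] (.node [(122, (-1), 1)] .nil (.node [(192, 1, 1)] .nil .nil)) .nil)) (.node [(45, (-1), 1)] (.node [] (.node [] .nil (.node [(183, 1, 1)] .nil .nil)) (.node [] (.node [] (.node [(227, (-1), 1)] .nil .nil) (.node [(245, 1,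 1)] .nil .nil)) .nil)) (.node [(107, 1, 1)] (.node [(0, 1, 1), (1, 2, 1), (2, 2, 1), (3, 3, 1), (4, 2, 1), (5, 1, 1), (212, (-1), 2)] .nil .nil) (.node [(150, (-1), 1)] (.node [(177, (-1), 1)] .nil .nil) .nil)))) (.node [] (.node [] (.node [] (.node [(114, (-1), 1)] (.node [] (.node [(213, (-1), 1)] .nil .nil) .nil) .nil) .nil) (.node [] (.node [(125, 1, 1)] (.node [(157, 1, 1)] (.node [(219, (-1), 1)] .nil .nil) (.node [(242, 1, 1)] .nil .nil)) (.node [(196, 1, 1)] (.node [(233, (-1), 1)] .nil .nil) .nil)) .nil)) (.node [(54, (-1), 1)] (.node [(80, (-1), 1)] (.node [(119, 1, 1)] (.node [(155, 1, 1)] (.node [(216, 1, 1)] .nil .nil) .nil) .nil) (.node [(149, 1, 1)] .nil .nil)) (.node [] (.node [] (.node [(161, (-1), 1)] (.node [(222, 1, 1)] .nil .nil) .nil) .nil) .nil)))) (.node [] (.node [] (.node [] (.node [] (.node [(113, (-1), 1)] .nil .nil) (.node [] .nil (.node [] (.node [(235, 1, 1)] .nil .nil) .nil))) (.node [] (.node [(123, (-1),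 1)] (.node [(156, (-1), 1)] (.node [(218, (-1), 1)] .nil .nil) .nil) (.node [(193, (-1), 1)] .nil .nil)) .nil)) (.node [(48, (-1), 1)] (.node [(79, (-1), 1)] (.node [(118, 1, 1)] (.node [] (.node [(215, 1, 1)] .nil .nil) .nil) (.node [(186, (-1), 1)] .nil .nil)) (.node [] (.node [] (.node [(228, (-1), 1)] .nil .nil) .nil) .nil)) (.node [(108, 1, 1)] (.node [] (.node [(160, 1, 1)] .nil .nil) .nil) .nil))) (.node [(212, 1, 1)] (.node [(44, (-1), 1)] (.node [] (.node [] (.node [] (.node [(214, (-1), 1)] .nil .nil) .nil) (.node [(182, (-1), 1)] .nil .nil)) (.node [] (.node [] .nil (.node [(244, 1, 1)] .nil .nil)) .nil)) (.node [] (.node [(126, 1, 1)] .nil (.node [(202, (-1), 1)] .nil .nil)) .nil)) (.node [(64, (-1), 1)] (.node [(86, 1, 1)] .nil .nil) (.node [] (.node [] (.node [(164, 1, 1)] (.node [(223, 1, 1)] .nil .nil) .nil) .nil) (.node [(151, 1, 1)] (.node [(178, 1, 1)] .nil .nil) .nil))))))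
def X205 : Tr (List (ℕ × ℤ × ℕ)) := (.node [] (.node [(213, (-1), 1)] (.node [] (.node [(213, 1, 1)] (.node [] (.node [(113, (-1), 1)] (.node [(153, (-1), 1)] .nil .nil) (.node [(180, (-1), 1)] .nil .nil)) .nil) (.node [] (.node [] (.node [(156, (-1), 1)] (.node [(218, 1, 1)] .nil .nil) .nil) .nil) .nil)) (.node [(46, 1, 1)] (.node [(79, (-1), 1)] (.node [(118, 1, 1)] (.node [] (.node [(215, (-1), 1)] .nil .nil) .nil) (.node [(184, 1, 1)] .nil .nil)) (.node [] (.node [] .nil (.node [(246, 1, 1)] .nil .nil)) .nil)) (.node [] (.node [(129, 1, 1)] (.node [(160, 1, 1)] .nil .nil) .nil) .nil))) (.node [(213, 1, 1)] (.node [(44, (-1), 1)] (.node [] (.node [(115, 1, 1)] .nil (.node [(182, (-1), 1)] .nil .nil)) (.node [] (.node [] .nil (.node [(244, (-1), 1)] .nil .nil)) .nil)) (.node [] (.node [(127, 1, 1)] (.node [(158, 1, 1)] (.node [(220, (-1), 1)] .nil .nil) .nil) (.node [(197, 1, 1)] .nil .nil)) .nil)) (.node [(55, 1, 1)] (.node [(81, 1,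 1)] (.node [(120, (-1), 1)] (.node [] (.node [(217, 1, 1)] .nil .nil) .nil) .nil) .nil) (.node [] (.node [] (.node [(162, (-1), 1)] .nil .nil) .nil) (.node [(151, 1, 1)] (.node [(178, 1, 1)] .nil .nil) .nil))))) (.node [] (.node [] (.node [] (.node [] (.node [] (.node [] (.node [(214, (-1), 1)] .nil .nil) .nil) .nil) (.node [] .nil (.node [] (.node [(236, 1, 1)] .nil .nil) .nil))) (.node [] (.node [(124, 1, 1)] (.node [] .nil (.node [(242, (-1), 1)] .nil .nil)) (.node [(194, (-1), 1)] (.node [(233, 1, 1)] .nil .nil) .nil)) .nil)) (.node [(49, 1, 1)] (.node [] (.node [] (.node [(155, 1, 1)] .nil .nil) (.node [(187, (-1), 1)] .nil .nil)) (.node [(149, 1, 1)] (.node [] (.node [(229, (-1), 1)] .nil .nil) .nil) .nil)) (.node [(109, (-1), 1)] (.node [] (.node [] (.node [(222, (-1), 1)] .nil .nil) .nil) .nil) .nil))) (.node [(213, (-1), 1)] (.node [] (.node [] .nil (.node [] (.node [] (.node [(227, 1, 1)] .nil .nil) .nil) .nil)) (.node [(107,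 1, 1)] (.node [(0, 1, 1), (1, 2, 1), (2, 2, 1), (3, 3, 1), (4, 2, 1), (5, 1, 1), (6, 1, 1), (213, (-1), 2)] .nil (.node [(203, (-1), 1)] .nil .nil)) (.node [(150, (-1), 1)] (.node [(177, (-1), 1)] .nil .nil) .nil))) (.node [(65, 1, 1)] (.node [(87, (-1), 1)] (.node [(122, (-1), 1)] .nil (.node [(192, 1, 1)] .nil .nil)) .nil) (.node [] (.node [] (.node [(165, 1, 1)] (.node [(224, 1, 1)] .nil .nil) (.node [(243, (-1), 1)] .nil .nil)) (.node [] (.node [(234, (-1), 1)] .nil .nil) .nil)) (.node [] .nil (.node [(212, (-1), 1)] (.node [(241, (-1), 1)] .nil .nil) .nil)))))))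
def X206 : Tr (List (ℕ × ℤ × ℕ)) := (.node [] (.node [(214, (-1), 1)] (.node [] (.node [(214, (-1), 1)] (.node [] (.node [(114, 1, 1)] (.node [(154, (-1), 1)] (.node [(213, (-1), 1)] .nil .nil) .nil) (.node [(181, (-1), 1)] .nil .nil)) (.node [] .nil (.node [] (.node [(236, (-1), 1)] .nil .nil) .nil))) (.node [] (.node [(124, 1, 1)] (.node [] (.node [(219, 1, 1)] .nil .nil) (.node [(242, 1, 1)] .nil .nil)) (.node [] (.node [(233, (-1), 1)] .nil .nil) .nil)) .nil)) (.node [(47, (-1), 1)] (.node [(80, 1, 1)] (.node [(119, (-1), 1)] (.node [(155, 1, 1)] (.node [(216, (-1), 1)] .nil .nil) .nil) (.node [(185, 1, 1)] .nil .nil)) (.node [(149, 1, 1)] (.node [] (.node [(229, 1, 1)] .nil .nil) (.node [(247, 1, 1)] .nil .nil)) .nil)) (.node [(109, (-1), 1)] (.node [(130, 1, 1)] .nil .nil) .nil))) (.node [(214, 1, 1)] (.node [] .nil (.node [] (.node [(0, 1, 1), (1, 2, 1), (2, 2, 1), (3, 3, 1), (4, 2, 1), (5, 1, 1), (6, 1, 1), (7, 1, 1), (214, (-1),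 2)] (.node [(159, 1, 1)] .nil .nil) (.node [(198, 1, 1)] .nil .nil)) (.node [(150, (-1), 1)] (.node [(177, (-1), 1)] .nil .nil) .nil))) (.node [(56, (-1), 1)] (.node [] (.node [] .nil (.node [(192, 1, 1)] .nil .nil)) .nil) (.node [] (.node [] (.node [(163, (-1), 1)] (.node [(224, (-1), 1)] .nil .nil) (.node [(243, 1, 1)] .nil .nil)) .nil) (.node [] .nil (.node [(212, (-1), 1)] (.node [(241, 1, 1)] .nil .nil) .nil)))))) (.node [] (.node [] (.node [(44, (-1), 1)] (.node [] (.node [(115, 1, 1)] .nil (.node [(182, (-1), 1)] .nil .nil)) (.node [] (.node [] .nil (.node [(244, 1, 1)] .nil .nil)) .nil)) (.node [] (.node [] (.node [] (.node [(220, 1, 1)] .nil .nil) .nil) (.node [(195, (-1), 1)] .nil .nil)) .nil)) (.node [(50, (-1), 1)] (.node [(81, 1, 1)] (.node [(120, (-1), 1)] (.node [] (.node [(217, (-1), 1)] .nil .nil) .nil) (.node [(188, (-1), 1)] .nil .nil)) .nil) (.node [] (.node [] (.node [] (.node [(223, (-1), 1)] .nil .nil) .nil) .nil)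 (.node [(151, 1, 1)] (.node [(178, 1, 1)] .nil .nil) .nil)))) (.node [] (.node [] (.node [] .nil (.node [] (.node [] (.node [(228, 1, 1)] .nil .nil) .nil) .nil)) (.node [(108, (-1), 1)] (.node [(128, 1, 1)] (.node [(160, 1, 1)] .nil .nil) (.node [(204, (-1), 1)] .nil .nil)) .nil)) (.node [(66, (-1), 1)] (.node [(88, 1, 1)] (.node [(123, 1, 1)] (.node [(156, (-1), 1)] .nil .nil) .nil) .nil) (.node [] (.node [] (.node [(166, 1, 1)] .nil .nil) (.node [] (.node [(235, (-1), 1)] .nil .nil) .nil)) .nil)))))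
def X207 : Tr (List (ℕ × ℤ × ℕ)) := (.node [] (.node [(215, (-1), 1)] (.node [] (.node [(215, 1, 1)] .nil (.node [] (.node [(127, 1, 1)] (.node [(157, (-1), 1)] .nil .nil) (.node [(194, (-1), 1)] .nil .nil)) .nil)) (.node [] .nil (.node [] (.node [(132, (-1), 1)] (.node [(161, 1, 1)] (.node [(222, 1, 1)] .nil .nil) .nil) .nil) (.node [] .nil (.node [(212, 1, 1)] .nil .nil))))) (.node [(215, (-1), 1)] (.node [(45, 1, 1)] (.node [] (.node [(116, (-1), 1)] .nil (.node [(183, (-1), 1)] .nil .nil)) (.node [] (.node [] (.node [(227, (-1), 1)] .nil .nil) (.node [(245, (-1), 1)] .nil .nil)) .nil)) (.node [(107, 1, 1)] (.node [] (.node [] (.node [(221, (-1), 1)] .nil .nil) .nil) (.node [(199, 1, 1)] .nil .nil)) .nil)) (.node [(57, (-1), 1)] (.node [(82, (-1), 1)] (.node [(121, 1, 1)] .nil .nil) .nil) (.node [] (.node [] .nil (.node [] (.node [(234, 1, 1)] .nil .nil) .nil)) (.node [(152, 1, 1)] (.node [(179, 1, 1)] .nil .nil) .nil))))) (.node []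 (.node [(215, 1, 1)] (.node [] (.node [] (.node [] (.node [] (.node [(216, (-1), 1)] .nil .nil) .nil) .nil) (.node [] .nil (.node [] (.node [(237, 1, 1)] .nil .nil) .nil))) (.node [] (.node [(0, 1, 1), (1, 2, 1), (2, 2, 1), (3, 3, 1), (4, 2, 1), (5, 2, 1), (6, 1, 1), (215, (-1), 2)] (.node [(158, 1, 1)] .nil .nil) .nil) (.node [(150, (-1), 1)] (.node [(177, (-1), 1)] .nil .nil) .nil))) (.node [(51, (-1), 1)] (.node [] (.node [] .nil (.node [(189, (-1), 1)] .nil .nil)) (.node [] (.node [] (.node [(230, (-1), 1)] .nil .nil) .nil) .nil)) (.node [(110, 1, 1)] (.node [] (.node [(162, (-1), 1)] .nil (.node [(243, 1, 1)] .nil .nil)) .nil) (.node [] .nil (.node [(213, (-1), 1)] (.node [(241, 1, 1)] .nil .nil) .nil))))) (.node [] (.node [(46, 1, 1)] (.node [(79, (-1), 1)] (.node [(118, 1, 1)] (.node [(155, 1, 1)] (.node [(217, 1, 1)] .nil .nil) .nil) (.node [(184, 1, 1)] .nil .nil)) (.node [(149, 1, 1)] (.node [] .nil (.node [(246, (-1), 1)] .nil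 .nil)) .nil)) (.node [] (.node [(131, 1, 1)] .nil (.node [(205, (-1), 1)] .nil .nil)) .nil)) (.node [(67, (-1), 1)] (.node [(89, 1, 1)] (.node [(125, (-1), 1)] (.node [] (.node [(218, (-1), 1)] .nil .nil) (.node [(242, 1, 1)] .nil .nil)) (.node [(193, 1, 1)] (.node [(233, (-1), 1)] .nil .nil) .nil)) .nil) (.node [(113, (-1), 1)] (.node [] (.node [(167, 1, 1)] (.node [(225, 1, 1)] .nil .nil) .nil) .nil) (.node [(153, (-1), 1)] (.node [(180, (-1), 1)] .nil .nil) .nil))))))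
def X208 : Tr (List (ℕ × ℤ × ℕ)) := (.node [] (.node [(216, (-1), 1)] (.node [] (.node [(216, (-1), 1)] (.node [] (.node [] (.node [] (.node [(215, (-1), 1)] .nil .nil) .nil) .nil) (.node [] .nil (.node [] (.node [(237, (-1), 1)] .nil .nil) .nil))) (.node [] (.node [(0, 1, 1), (1, 2, 1), (2, 2, 1), (3, 3, 1), (4, 2, 1), (5, 2, 1), (6, 1, 1), (7, 1, 1), (216, (-1), 2)] .nil (.node [(195, (-1), 1)] .nil .nil)) (.node [(150, (-1), 1)] (.node [(177, (-1), 1)] .nil .nil) .nil))) (.node [] (.node [] .nil (.node [] (.node [] (.node [(230, 1, 1)] .nil .nil) .nil) .nil)) (.node [(110, 1, 1)] (.node [(133, (-1), 1)] (.node [] (.node [(223, 1, 1)] .nil .nil) (.node [(243, (-1), 1)] .nil .nil)) .nil) (.node [] .nil (.node [] (.node [(241, (-1), 1)] .nil .nil) .nil))))) (.node [(216, (-1), 1)] (.node [] (.node [] (.node [] (.node [(155, 1, 1)] (.node [(217, (-1), 1)] .nil .nil) .nil) .nil) (.node [(149, 1, 1)] (.node [] (.node [(228, (-1), 1)] .nil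 .nil) .nil) .nil)) (.node [(108, (-1), 1)] (.node [(131, 1, 1)] .nil (.node [(200, 1, 1)] .nil .nil)) .nil)) (.node [(58, 1, 1)] (.node [] (.node [] (.node [] .nil (.node [(242, (-1), 1)] .nil .nil)) (.node [(193, 1, 1)] (.node [(233, 1, 1)] .nil .nil) .nil)) .nil) (.node [] (.node [] (.node [] (.node [(225, (-1), 1)] .nil .nil) .nil) (.node [] (.node [(235, 1, 1)] .nil .nil) .nil)) .nil)))) (.node [] (.node [(216, 1, 1)] (.node [(45, 1, 1)] (.node [] (.node [(116, (-1), 1)] .nil (.node [(183, (-1), 1)] .nil .nil)) (.node [] (.node [] .nil (.node [(245, 1, 1)] .nil .nil)) .nil)) (.node [] (.node [(128, 1, 1)] (.node [(159, 1, 1)] (.node [(221, 1, 1)] .nil .nil) .nil) .nil) .nil)) (.node [(52, 1, 1)] (.node [(82, (-1), 1)] (.node [(121, 1, 1)] .nil (.node [(190, (-1), 1)] .nil .nil)) .nil) (.node [] (.node [] (.node [(163, (-1), 1)] .nil .nil) .nil) (.node [(152, 1, 1)] (.node [(179, 1, 1)] .nil .nil) (.node [(214, (-1), 1)] .nil .nil)))))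 (.node [(216, 1, 1)] (.node [(47, (-1), 1)] (.node [(80, 1, 1)] (.node [(119, (-1), 1)] .nil (.node [(185, 1, 1)] .nil .nil)) (.node [] (.node [] .nil (.node [(247, (-1), 1)] .nil .nil)) .nil)) (.node [] (.node [] (.node [(161, 1, 1)] .nil .nil) (.node [(206, (-1), 1)] .nil .nil)) (.node [] .nil (.node [(212, 1, 1)] .nil .nil)))) (.node [(68, 1, 1)] (.node [(90, (-1), 1)] (.node [(126, 1, 1)] (.node [(157, (-1), 1)] (.node [(219, (-1), 1)] .nil .nil) .nil) .nil) .nil) (.node [(114, 1, 1)] (.node [] (.node [(168, 1, 1)] .nil .nil) .nil) (.node [(154, (-1), 1)] (.node [(181, (-1), 1)] .nil .nil) .nil))))))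
def X209 : Tr (List (ℕ × ℤ × ℕ)) := (.node [] (.node [(217, (-1), 1)] (.node [] (.node [] (.node [] (.node [(116, (-1), 1)] .nil .nil) .nil) (.node [] (.node [(129, 1, 1)] (.node [(159, 1, 1)] (.node [(221, (-1), 1)] .nil .nil) .nil) .nil) .nil)) (.node [] (.node [(82, (-1), 1)] (.node [(121, 1, 1)] .nil .nil) .nil) (.node [] (.node [] (.node [(163, (-1), 1)] (.node [(224, 1, 1)] .nil .nil) .nil) .nil) (.node [] .nil (.node [(214, (-1), 1)] .nil .nil))))) (.node [] (.node [(47, (-1), 1)] (.node [] (.node [] .nil (.node [(185, 1, 1)] .nil .nil)) (.node [] (.node [] (.node [(229, (-1), 1)] .nil .nil) (.node [(247, 1, 1)] .nil .nil)) .nil)) (.node [(109, 1, 1)] (.node [(132, 1, 1)] .nil (.node [(201, 1, 1)] .nil .nil)) .nil)) (.node [(59, (-1), 1)] (.node [] (.node [] .nil (.node [(194, 1, 1)] .nil .nil)) .nil) (.node [] (.node [] .nil (.node [] (.node [(236, 1, 1)] .nil .nil) .nil)) (.node [(154, (-1), 1)] (.node [(181, (-1), 1)] .nil .nil)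 (.node [(215, 1, 1)] .nil .nil)))))) (.node [] (.node [(217, 1, 1)] (.node [(46, (-1), 1)] (.node [] (.node [] (.node [(155, 1, 1)] .nil .nil) (.node [(184, (-1), 1)] .nil .nil)) (.node [(149, 1, 1)] (.node [] .nil (.node [(246, 1, 1)] .nil .nil)) .nil)) (.node [] (.node [(130, (-1), 1)] .nil .nil) .nil)) (.node [(53, (-1), 1)] (.node [] (.node [] (.node [] .nil (.node [(242, 1, 1)] .nil .nil)) (.node [(191, (-1), 1)] (.node [(233, (-1), 1)] .nil .nil) .nil)) .nil) (.node [] (.node [] (.node [] (.node [(225, 1, 1)] .nil .nil) .nil) .nil) (.node [(153, 1, 1)] (.node [(180, 1, 1)] .nil .nil) .nil)))) (.node [(217, (-1), 1)] (.node [] (.node [(81, (-1), 1)] (.node [(120, 1, 1)] .nil .nil) (.node [] (.node [] (.node [(230, (-1), 1)] .nil .nil) .nil) .nil)) (.node [(110, 1, 1)] (.node [(133, (-1), 1)] (.node [(162, 1, 1)] .nil (.node [(243, 1, 1)] .nil .nil)) (.node [(207, (-1), 1)] .nil .nil)) (.node [] .nil (.node [(213, 1, 1)] (.node [(241,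 1, 1)] .nil .nil) .nil)))) (.node [(69, (-1), 1)] (.node [(91, 1, 1)] (.node [(0, 1, 1), (1, 2, 1), (2, 2, 1), (3, 3, 1), (4, 2, 1), (5, 2, 1), (6, 2, 1), (7, 1, 1), (217, (-1), 2)] (.node [(158, (-1), 1)] (.node [(220, (-1), 1)] .nil .nil) .nil) (.node [(195, (-1), 1)] .nil .nil)) (.node [(150, (-1), 1)] (.node [(177, (-1), 1)] .nil .nil) .nil)) (.node [(115, (-1), 1)] (.node [] (.node [(169, 1, 1)] .nil .nil) (.node [] (.node [(237, 1, 1)] .nil .nil) .nil)) (.node [] .nil (.node [(216, (-1), 1)] .nil .nil)))))))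
def X210 : Tr (List (ℕ × ℤ × ℕ)) := (.node [] (.node [(218, (-1), 1)] (.node [(218, 1, 1)] (.node [(218, 1, 1)] (.node [] .nil (.node [(149, 1, 1)] (.node [] .nil (.node [(246, 1, 1)] .nil .nil)) .nil)) (.node [] (.node [] .nil (.node [(197, (-1), 1)] .nil .nil)) (.node [] .nil (.node [(212, (-1), 1)] .nil .nil)))) (.node [(51, (-1), 1)] (.node [] (.node [(125, (-1), 1)] (.node [] .nil (.node [(242, (-1), 1)] .nil .nil)) (.node [(189, (-1), 1)] (.node [(233, 1, 1)] .nil .nil) .nil)) .nil) (.node [] (.node [(136, 1, 1)] (.node [(164, 1, 1)] .nil .nil) .nil) (.node [(153, (-1), 1)] (.node [(180, (-1), 1)] .nil .nil) .nil)))) (.node [] (.node [(48, (-1), 1)] (.node [(79, (-1), 1)] (.node [(117, 1, 1)] .nil (.node [(186, (-1), 1)] .nil .nil)) .nil) (.node [] .nil (.node [] .nil (.node [(215, (-1), 1)] (.node [(241, (-1), 1)] .nil .nil) .nil)))) (.node [(60, 1, 1)] (.node [(83, 1, 1)] (.node [(0, 1, 1), (1, 2, 1), (2, 2, 1), (3, 3, 1), (4,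 3, 1), (5, 2, 1), (6, 1, 1), (218, (-1), 2)] (.node [(158, 1, 1)] (.node [(221, (-1), 1)] .nil .nil) .nil) .nil) .nil) (.node [(113, (-1), 1)] (.node [] (.node [(167, 1, 1)] .nil .nil) .nil) .nil)))) (.node [] (.node [(218, (-1), 1)] (.node [] (.node [] (.node [] (.node [] (.node [(219, (-1), 1)] .nil .nil) .nil) .nil) (.node [] (.node [] (.node [(227, 1, 1)] .nil .nil) .nil) (.node [] (.node [(238, 1, 1)] .nil .nil) .nil))) (.node [(107, 1, 1)] (.node [(134, 1, 1)] .nil (.node [(199, 1, 1)] .nil .nil)) (.node [(151, (-1), 1)] (.node [(178, (-1), 1)] .nil .nil) (.node [(213, 1, 1)] .nil .nil)))) (.node [] (.node [] (.node [(127, 1, 1)] (.node [(157, (-1), 1)] .nil .nil) .nil) (.node [] (.node [] (.node [(231, (-1), 1)] .nil .nil) .nil) .nil)) (.node [(111, (-1), 1)] (.node [] (.node [(165, (-1), 1)] .nil (.node [(244, 1, 1)] .nil .nil)) (.node [] (.node [(234, (-1), 1)] .nil .nil) .nil)) .nil))) (.node [] (.node [(49, (-1), 1)] (.node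 [] (.node [(122, 1, 1)] (.node [(156, 1, 1)] (.node [(220, 1, 1)] .nil .nil) .nil) (.node [(187, 1, 1)] .nil .nil)) .nil) (.node [] (.node [(135, (-1), 1)] (.node [] (.node [(222, (-1), 1)] .nil .nil) .nil) (.node [(208, (-1), 1)] .nil .nil)) (.node [(152, 1, 1)] (.node [(179, 1, 1)] .nil .nil) .nil))) (.node [(70, 1, 1)] (.node [(92, (-1), 1)] (.node [] .nil (.node [(196, 1, 1)] .nil .nil)) .nil) (.node [] (.node [] (.node [] (.node [(226, 1, 1)] .nil .nil) (.node [(245, 1, 1)] .nil .nil)) .nil) .nil)))))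
def X211 : Tr (List (ℕ × ℤ × ℕ)) := (.node [] (.node [(219, (-1), 1)] (.node [(219, 1, 1)] (.node [(219, (-1), 1)] (.node [] (.node [] (.node [] (.node [(218, (-1), 1)] .nil .nil) .nil) .nil) (.node [] (.node [] .nil (.node [(247, 1, 1)] .nil .nil)) (.node [] (.node [(238, (-1), 1)] .nil .nil) .nil))) (.node [] (.node [(134, 1, 1)] .nil (.node [(198, (-1), 1)] .nil .nil)) (.node [(151, (-1), 1)] (.node [(178, (-1), 1)] .nil .nil) .nil))) (.node [(52, 1, 1)] (.node [] (.node [(126, 1, 1)] (.node [(157, (-1), 1)] .nil .nil) (.node [(190, (-1), 1)] .nil .nil)) (.node [] (.node [] (.node [(231, 1, 1)] .nil .nil) .nil) .nil)) (.node [(111, (-1), 1)] (.node [(137, 1, 1)] (.node [] .nil (.node [(244, (-1), 1)] .nil .nil)) .nil) (.node [(154, (-1), 1)] (.node [(181, (-1), 1)] .nil .nil) .nil)))) (.node [] (.node [] (.node [(80, 1, 1)] (.node [] (.node [(156, 1, 1)] (.node [(220, (-1), 1)] .nil .nil) .nil) .nil) .nil) (.node [] (.node [(135, (-1),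 1)] .nil .nil) (.node [(152, 1, 1)] (.node [(179, 1, 1)] .nil .nil) (.node [(216, (-1), 1)] .nil .nil)))) (.node [(61, (-1), 1)] (.node [] (.node [(128, 1, 1)] (.node [(159, 1, 1)] .nil .nil) (.node [(196, 1, 1)] .nil .nil)) .nil) (.node [(114, 1, 1)] (.node [] (.node [(168, 1, 1)] (.node [(226, (-1), 1)] .nil .nil) (.node [(245, (-1), 1)] .nil .nil)) .nil) .nil)))) (.node [] (.node [(219, (-1), 1)] (.node [(48, (-1), 1)] (.node [] (.node [(117, 1, 1)] .nil (.node [(186, (-1), 1)] .nil .nil)) (.node [] (.node [] (.node [(228, 1, 1)] .nil .nil) .nil) .nil)) (.node [(108, (-1), 1)] (.node [] .nil (.node [(200, 1, 1)] .nil .nil)) (.node [] .nil (.node [(214, 1, 1)] (.node [(241, 1, 1)] .nil .nil) .nil)))) (.node [] (.node [(83, 1, 1)] (.node [(0, 1, 1), (1, 2, 1), (2, 2, 1), (3, 3, 1), (4, 3, 1), (5, 2, 1), (6, 1, 1), (7, 1, 1), (219, (-1), 2)] (.node [] (.node [(221, 1, 1)] .nil .nil) .nil) .nil) .nil) (.node [] (.node [] (.node [(166,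 (-1), 1)] .nil .nil) (.node [] (.node [(235, (-1), 1)] .nil .nil) .nil)) .nil))) (.node [(219, 1, 1)] (.node [(50, 1, 1)] (.node [] (.node [(123, (-1), 1)] (.node [] .nil (.node [(242, 1, 1)] .nil .nil)) (.node [(188, 1, 1)] (.node [(233, (-1), 1)] .nil .nil) .nil)) .nil) (.node [] (.node [] (.node [(164, 1, 1)] (.node [(223, (-1), 1)] .nil .nil) .nil) (.node [(209, (-1), 1)] .nil .nil)) .nil)) (.node [(71, (-1), 1)] (.node [(93, 1, 1)] .nil (.node [] .nil (.node [(212, (-1), 1)] .nil .nil))) (.node [] (.node [(149, 1, 1)] .nil .nil) .nil)))))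
def X212 : Tr (List (ℕ × ℤ × ℕ)) := (.node [] (.node [(220, (-1), 1)] (.node [(220, 1, 1)] (.node [] (.node [] (.node [(117, 1, 1)] .nil .nil) .nil) (.node [] .nil (.node [] .nil (.node [(214, 1, 1)] (.node [(241, (-1), 1)] .nil .nil) .nil)))) (.node [(53, (-1), 1)] (.node [(83, 1, 1)] (.node [(0, 1, 1), (1, 2, 1), (2, 2, 1), (3, 3, 1), (4, 3, 1), (5, 2, 1), (6, 2, 1), (7, 1, 1), (220, (-1), 2)] (.node [(158, (-1), 1)] (.node [(221, (-1), 1)] .nil .nil) .nil) (.node [(191, (-1), 1)] .nil .nil)) .nil) (.node [] (.node [] (.node [(166, (-1), 1)] .nil .nil) .nil) .nil))) (.node [(220, 1, 1)] (.node [(50, 1, 1)] (.node [(81, (-1), 1)] (.node [] (.node [] .nil (.node [(242, (-1), 1)] .nil .nil)) (.node [(188, 1, 1)] (.node [(233, 1, 1)] .nil .nil) .nil)) .nil) (.node [] (.node [(136, (-1), 1)] .nil .nil) (.node [(153, 1, 1)] (.node [(180, 1, 1)] .nil .nil) (.node [(217, (-1), 1)] .nil .nil)))) (.node [(62, 1, 1)] (.node [] (.node [(130, (-1),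 1)] .nil (.node [(197, 1, 1)] .nil .nil)) .nil) (.node [(115, (-1), 1)] (.node [(149, 1, 1)] (.node [(169, 1, 1)] .nil (.node [(246, (-1), 1)] .nil .nil)) .nil) (.node [] .nil (.node [(218, 1, 1)] .nil .nil)))))) (.node [] (.node [(220, (-1), 1)] (.node [(49, 1, 1)] (.node [] (.node [] (.node [(156, 1, 1)] .nil .nil) (.node [(187, (-1), 1)] .nil .nil)) (.node [] (.node [] (.node [(229, 1, 1)] .nil .nil) .nil) .nil)) (.node [(109, 1, 1)] (.node [] .nil (.node [(201, 1, 1)] .nil .nil)) .nil)) (.node [] (.node [] (.node [(129, 1, 1)] (.node [(159, 1, 1)] .nil .nil) .nil) .nil) (.node [] (.node [] (.node [] (.node [(226, 1, 1)] .nil .nil) .nil) (.node [] (.node [(236, (-1), 1)] .nil .nil) .nil)) .nil))) (.node [(220, (-1), 1)] (.node [] (.node [] (.node [(124, 1, 1)] .nil .nil) (.node [] (.node [] (.node [(231, (-1), 1)] .nil .nil) .nil) .nil)) (.node [(111, (-1), 1)] (.node [(137, 1, 1)] (.node [(165, 1, 1)] (.node [(224, (-1), 1)] .nil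 .nil) (.node [(244, 1, 1)] .nil .nil)) (.node [(210, (-1), 1)] .nil .nil)) (.node [(154, (-1), 1)] (.node [(181, (-1), 1)] .nil .nil) .nil))) (.node [(72, 1, 1)] (.node [(94, (-1), 1)] (.node [(134, 1, 1)] .nil (.node [(198, (-1), 1)] .nil .nil)) (.node [(151, (-1), 1)] (.node [(178, (-1), 1)] .nil .nil) (.node [(213, (-1), 1)] .nil .nil))) (.node [] (.node [] (.node [] .nil (.node [(247, (-1), 1)] .nil .nil)) (.node [] (.node [(238, 1, 1)] .nil .nil) .nil)) (.node [] .nil (.node [(219, (-1), 1)] .nil .nil)))))))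
def X213 : Tr (List (ℕ × ℤ × ℕ)) := (.node [] (.node [(221, (-1), 1)] (.node [(221, 1, 1)] (.node [] .nil (.node [] (.node [(136, (-1), 1)] .nil (.node [(201, 1, 1)] .nil .nil)) (.node [(153, 1, 1)] (.node [(180, 1, 1)] .nil .nil) (.node [(216, 1, 1)] .nil .nil)))) (.node [] (.node [] (.node [(131, 1, 1)] .nil .nil) .nil) (.node [] (.node [] (.node [(168, (-1), 1)] (.node [(226, (-1), 1)] .nil .nil) (.node [(246, 1, 1)] .nil .nil)) .nil) (.node [] .nil (.node [(219, 1, 1)] .nil .nil))))) (.node [(221, (-1), 1)] (.node [(52, (-1), 1)] (.node [(82, 1, 1)] (.node [] (.node [(158, (-1), 1)] .nil .nil) (.node [(190, 1, 1)] .nil .nil)) (.node [] (.node [] (.node [(231, 1, 1)] .nil .nil) .nil) .nil)) (.node [(111, (-1), 1)] .nil .nil)) (.node [(63, (-1), 1)] (.node [] (.node [(133, 1, 1)] .nil (.node [(199, 1, 1)] .nil .nil)) .nil) (.node [(116, 1, 1)] (.node [] .nil (.node [] (.node [(238, (-1), 1)] .nil .nil) .nil)) .nil)))) (.node [] (.node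 [] (.node [(51, (-1), 1)] (.node [] (.node [] (.node [(157, 1, 1)] .nil (.node [(242, 1, 1)] .nil .nil)) (.node [(189, (-1), 1)] (.node [(233, (-1), 1)] .nil .nil) .nil)) (.node [] (.node [] (.node [(230, 1, 1)] .nil .nil) .nil) .nil)) (.node [(110, (-1), 1)] (.node [(137, 1, 1)] .nil .nil) (.node [(154, (-1), 1)] (.node [(181, (-1), 1)] .nil .nil) (.node [(217, (-1), 1)] .nil .nil)))) (.node [] (.node [] (.node [(132, (-1), 1)] .nil .nil) .nil) (.node [] (.node [(149, 1, 1)] (.node [(169, 1, 1)] .nil (.node [(247, 1, 1)] .nil .nil)) (.node [] (.node [(237, (-1), 1)] .nil .nil) .nil)) (.node [] .nil (.node [(220, (-1), 1)] .nil .nil))))) (.node [] (.node [(53, (-1), 1)] (.node [(83, 1, 1)] (.node [(0, 1, 1), (1, 2, 1), (2, 2, 1), (3, 3, 1), (4, 3, 1), (5, 3, 1), (6, 2, 1), (7, 1, 1), (221, (-1), 2)] (.node [(159, 1, 1)] .nil .nil) (.node [(191, (-1), 1)] .nil .nil)) .nil) (.node [] (.node [] (.node [(167, 1, 1)] (.node [(225, (-1), 1)]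 .nil .nil) (.node [(245, 1, 1)] .nil .nil)) (.node [(211, (-1), 1)] .nil .nil)) (.node [] .nil (.node [(218, (-1), 1)] .nil .nil)))) (.node [(73, (-1), 1)] (.node [(95, 1, 1)] (.node [(135, 1, 1)] .nil (.node [(200, (-1), 1)] .nil .nil)) (.node [(152, (-1), 1)] (.node [(179, (-1), 1)] .nil .nil) (.node [(215, (-1), 1)] (.node [(241, 1, 1)] .nil .nil) .nil))) (.node [(117, 1, 1)] .nil .nil)))))
def X214 : Tr (List (ℕ × ℤ × ℕ)) := (.node [] (.node [] (.node [(222, (-1), 1)] (.node [(222, 1, 1)] (.node [] (.node [(125, (-1), 1)] .nil (.node [(189, (-1), 1)] (.node [(233, (-1), 1)] .nil .nil) .nil)) (.node [(150, 1, 1)] (.node [] (.node [(227, (-1), 1)] .nil .nil) .nil) .nil)) (.node [(107, 1, 1)] (.node [] (.node [(164, 1, 1)] .nil .nil) (.node [(203, (-1), 1)] .nil .nil)) .nil)) (.node [(57, 1, 1)] (.node [] (.node [] (.node [] .nil (.node [(243, (-1), 1)] .nil .nil)) .nil) (.node [] .nil (.node [(213, (-1), 1)] .nil .nil))) (.node [] (.node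 [(141, (-1), 1)] .nil (.node [] (.node [(234, 1, 1)] .nil .nil) .nil)) (.node [] (.node [(184, (-1), 1)] .nil .nil) .nil)))) (.node [] (.node [(54, 1, 1)] (.node [] (.node [(0, 1, 1), (1, 2, 1), (2, 2, 1), (3, 4, 1), (4, 3, 1), (5, 2, 1), (6, 1, 1), (222, (-1), 2)] .nil .nil) .nil) (.node [] (.node [] (.node [(167, 1, 1)] (.node [(226, 1, 1)] .nil .nil) (.node [(246, (-1), 1)] .nil .nil)) (.node [(208, (-1), 1)] .nil .nil)) .nil)) (.node [] (.node [(84, (-1), 1)] (.node [(138, 1, 1)] (.node [(162, 1, 1)] (.node [(225, (-1), 1)] .nil .nil) .nil) .nil) (.node [(153, (-1), 1)] .nil (.node [(218, (-1), 1)] (.node [(241, 1, 1)] .nil .nil) .nil))) (.node [(118, (-1), 1)] .nil (.node [] (.node [(186, (-1), 1)] .nil .nil) .nil))))) (.node [(222, 1, 1)] (.node [] (.node [] (.node [(79, (-1), 1)] (.node [(127, 1, 1)] (.node [] (.node [(223, (-1), 1)] .nil .nil) .nil) .nil) (.node [] .nil (.node [] (.node [(239, 1, 1)] .nil .nil) .nil))) (.node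 [] (.node [(139, (-1), 1)] (.node [(165, (-1), 1)] .nil (.node [(245, (-1), 1)] .nil .nil)) (.node [(205, 1, 1)] .nil .nil)) (.node [] (.node [(182, (-1), 1)] .nil .nil) .nil))) (.node [(60, 1, 1)] (.node [] (.node [] (.node [(161, (-1), 1)] .nil .nil) .nil) (.node [(152, 1, 1)] (.node [] (.node [(232, (-1), 1)] .nil .nil) .nil) (.node [(215, 1, 1)] .nil .nil))) (.node [(112, 1, 1)] .nil .nil))) (.node [] (.node [(55, 1, 1)] (.node [] (.node [] (.node [(160, 1, 1)] (.node [(224, 1, 1)] .nil .nil) .nil) .nil) (.node [(151, (-1), 1)] .nil (.node [(212, 1, 1)] .nil .nil))) (.node [] (.node [(140, 1, 1)] .nil .nil) (.node [] (.node [(183, 1, 1)] .nil .nil) .nil))) (.node [(74, (-1), 1)] (.node [(96, 1, 1)] (.node [] (.node [] .nil (.node [(244, (-1), 1)] .nil .nil)) (.node [(202, 1, 1)] .nil .nil)) .nil) (.node [(122, 1, 1)] .nil (.node [] (.node [(187, 1, 1)] .nil .nil) .nil))))))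
def X215 : Tr (List (ℕ × ℤ × ℕ)) := (.node [] (.node [] (.node [(223, (-1), 1)] (.node [(223, (-1), 1)] (.node [] (.node [(126, 1, 1)] (.node [] (.node [(222, (-1), 1)] .nil .nil) .nil) (.node [(190, (-1), 1)] .nil .nil)) (.node [] (.node [] (.node [(228, (-1), 1)] .nil .nil) .nil) (.node [] (.node [(239, (-1), 1)] .nil .nil) .nil))) (.node [(108, (-1), 1)] (.node [(139, (-1), 1)] (.node [] .nil (.node [(245, 1, 1)] .nil .nil)) (.node [(204, (-1), 1)] .nil .nil)) (.node [] (.node [(182, (-1), 1)] .nil .nil) .nil))) (.node [(58, (-1), 1)] (.node [] (.node [] (.node [(161, (-1), 1)] .nil .nil) .nil) (.node [(152, 1, 1)] (.node [] (.node [(232, 1, 1)] .nil .nil) .nil) (.node [(214, (-1), 1)] .nil .nil))) (.node [(112, 1, 1)] (.node [(142, (-1), 1)] .nil (.node [] (.node [(235, 1, 1)] .nil .nil) .nil)) (.node [] (.node [(185, (-1), 1)] .nil .nil) .nil)))) (.node [] (.node [] (.node [] (.node [(128, 1, 1)] (.node [(160, 1, 1)] (.node [(224,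 (-1), 1)] .nil .nil) .nil) .nil) (.node [(151, (-1), 1)] .nil (.node [(212, 1, 1)] .nil .nil))) (.node [] (.node [(140, 1, 1)] (.node [(168, 1, 1)] .nil (.node [(247, (-1), 1)] .nil .nil)) (.node [(209, (-1), 1)] .nil .nil)) (.node [] (.node [(183, 1, 1)] .nil .nil) .nil))) (.node [] (.node [] (.node [] (.node [(163, 1, 1)] .nil (.node [(244, 1, 1)] .nil .nil)) (.node [(202, 1, 1)] .nil .nil)) (.node [(154, (-1), 1)] .nil (.node [(219, (-1), 1)] .nil .nil))) (.node [(119, 1, 1)] .nil .nil)))) (.node [(223, 1, 1)] (.node [] (.node [(54, 1, 1)] (.node [(80, 1, 1)] (.node [(0, 1, 1), (1, 2, 1), (2, 2, 1), (3, 4, 1), (4, 3, 1), (5, 2, 1), (6, 1, 1), (7, 1, 1), (223, (-1), 2)] .nil .nil) .nil) (.node [] (.node [] (.node [(166, (-1), 1)] (.node [(226, (-1), 1)] .nil .nil) .nil) (.node [(206, 1, 1)] .nil .nil)) .nil)) (.node [(61, (-1), 1)] (.node [(84, (-1), 1)] (.node [(138, 1, 1)] (.node [] (.node [(225, 1, 1)] .nil .nil) .nil) .nil) (.node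 [] .nil (.node [(216, 1, 1)] (.node [(241, (-1), 1)] .nil .nil) .nil))) (.node [] .nil (.node [] (.node [(186, (-1), 1)] .nil .nil) .nil)))) (.node [(223, 1, 1)] (.node [(56, (-1), 1)] (.node [] (.node [] (.node [] .nil (.node [(243, 1, 1)] .nil .nil)) .nil) .nil) .nil) (.node [(75, 1, 1)] (.node [(97, (-1), 1)] (.node [] (.node [(164, 1, 1)] .nil .nil) .nil) .nil) (.node [(123, (-1), 1)] (.node [(150, 1, 1)] .nil .nil) (.node [] (.node [(188, 1, 1)] (.node [(233, 1, 1)] .nil .nil) .nil) .nil))))))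
def X216 : Tr (List (ℕ × ℤ × ℕ)) := (.node [] (.node [] (.node [(224, (-1), 1)] (.node [] (.node [] (.node [(0, 1, 1), (1, 2, 1), (2, 2, 1), (3, 4, 1), (4, 3, 1), (5, 2, 1), (6, 2, 1), (7, 1, 1), (224, (-1), 2)] .nil (.node [(191, (-1), 1)] .nil .nil)) (.node [] (.node [] (.node [(229, (-1), 1)] .nil .nil) .nil) .nil)) (.node [(109, 1, 1)] (.node [] (.node [(166, (-1), 1)] (.node [(226, 1, 1)] .nil .nil) (.node [(246, 1, 1)] .nil .nil)) .nil) .nil)) (.node [(59, 1, 1)] (.node [(84, (-1), 1)] (.node [(138, 1, 1)] (.node [(162, (-1), 1)] (.node [(225, (-1), 1)] .nil .nil) .nil) .nil) (.node [(153, 1, 1)] .nil (.node [] (.node [(241, 1, 1)] .nil .nil) .nil))) (.node [] (.node [] .nil (.node [] (.node [(236, 1, 1)] .nil .nil) .nil)) .nil))) (.node [(224, 1, 1)] (.node [(56, (-1), 1)] (.node [] (.node [(130, (-1), 1)] (.node [] .nil (.node [(243, (-1), 1)] .nil .nil)) .nil) (.node [] .nil (.node [(213, 1, 1)] .nil .nil))) (.node [] (.node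 [(141, 1, 1)] (.node [(169, 1, 1)] .nil .nil) (.node [(210, (-1), 1)] .nil .nil)) (.node [] (.node [(184, 1, 1)] .nil .nil) .nil))) (.node [] (.node [] (.node [] .nil (.node [(203, 1, 1)] .nil .nil)) (.node [] .nil (.node [(220, (-1), 1)] .nil .nil))) (.node [(120, (-1), 1)] (.node [(150, 1, 1)] .nil .nil) (.node [] (.node [(188, 1, 1)] (.node [(233, (-1), 1)] .nil .nil) .nil) (.node [(222, 1, 1)] .nil .nil)))))) (.node [(224, 1, 1)] (.node [] (.node [(55, (-1), 1)] (.node [(81, (-1), 1)] (.node [(129, 1, 1)] (.node [(160, 1, 1)] .nil .nil) .nil) (.node [(151, (-1), 1)] .nil .nil)) (.node [] (.node [] (.node [] .nil (.node [(247, 1, 1)] .nil .nil)) (.node [(207, 1, 1)] .nil .nil)) .nil)) (.node [(62, 1, 1)] (.node [] (.node [] (.node [(163, 1, 1)] .nil (.node [(244, (-1), 1)] .nil .nil)) .nil) (.node [(154, (-1), 1)] .nil (.node [(217, 1, 1)] .nil .nil))) (.node [] .nil (.node [] (.node [(187, (-1), 1)] .nil .nil) .nil)))) (.node [(224,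 (-1), 1)] (.node [] (.node [] .nil (.node [] (.node [] (.node [(232, (-1), 1)] .nil .nil) .nil) (.node [(214, (-1), 1)] .nil .nil))) (.node [(112, 1, 1)] (.node [(142, (-1), 1)] .nil .nil) (.node [] (.node [(185, (-1), 1)] .nil .nil) .nil))) (.node [(76, (-1), 1)] (.node [(98, 1, 1)] (.node [(139, (-1), 1)] (.node [(165, 1, 1)] .nil .nil) (.node [(204, (-1), 1)] .nil .nil)) (.node [] (.node [(182, (-1), 1)] .nil .nil) .nil)) (.node [(124, 1, 1)] (.node [] .nil (.node [] (.node [(239, 1, 1)] .nil .nil) .nil)) (.node [] .nil (.node [(223, (-1), 1)] .nil .nil)))))))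
def X217 : Tr (List (ℕ × ℤ × ℕ)) := (.node [] (.node [] (.node [(225, (-1), 1)] (.node [] (.node [] (.node [(131, 1, 1)] .nil .nil) (.node [] (.node [] (.node [(230, (-1), 1)] .nil .nil) .nil) .nil)) (.node [(110, (-1), 1)] (.node [(141, 1, 1)] (.node [(168, (-1), 1)] .nil .nil) (.node [(207, 1, 1)] .nil .nil)) (.node [] (.node [(184, 1, 1)] .nil .nil) .nil))) (.node [] (.node [] .nil (.node [] .nil (.node [(217, 1, 1)] .nil .nil))) (.node [] (.node [] .nil (.node [] (.node [(237, 1, 1)] .nil .nil) .nil)) (.node [] .nil (.node [(223, 1, 1)] .nil .nil))))) (.node [(225, (-1), 1)] (.node [(58, 1, 1)] (.node [] (.node [(133, 1, 1)] (.node [(162, (-1), 1)] .nil .nil) .nil) (.node [(153, 1, 1)] (.node [] (.node [(232, 1, 1)] .nil .nil) .nil) (.node [(215, 1, 1)] .nil .nil))) (.node [(112, 1, 1)] (.node [] .nil (.node [(211, (-1), 1)] .nil .nil)) .nil)) (.node [] (.node [] (.node [] (.node [] .nil (.node [(246, (-1), 1)] .nil .nil)) (.node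 [(205, 1, 1)] .nil .nil)) (.node [] .nil (.node [(221, (-1), 1)] .nil .nil))) (.node [(121, 1, 1)] (.node [] .nil (.node [] (.node [(239, (-1), 1)] .nil .nil) .nil)) (.node [] (.node [(190, 1, 1)] .nil .nil) .nil))))) (.node [(225, 1, 1)] (.node [(225, 1, 1)] (.node [(57, 1, 1)] (.node [(82, 1, 1)] (.node [(132, (-1), 1)] (.node [(161, 1, 1)] .nil (.node [(243, 1, 1)] .nil .nil)) .nil) (.node [(152, (-1), 1)] .nil .nil)) (.node [] (.node [(142, (-1), 1)] (.node [(169, 1, 1)] .nil .nil) .nil) (.node [] (.node [(185, (-1), 1)] .nil .nil) .nil))) (.node [(63, (-1), 1)] (.node [] (.node [] (.node [] .nil (.node [(245, (-1), 1)] .nil .nil)) .nil) .nil) (.node [] (.node [(150, 1, 1)] .nil .nil) (.node [] (.node [(189, (-1), 1)] (.node [(233, 1, 1)] .nil .nil) .nil) (.node [(224, (-1), 1)] .nil .nil))))) (.node [] (.node [(59, 1, 1)] (.node [(84, (-1), 1)] (.node [(138, 1, 1)] (.node [(163, 1, 1)] .nil .nil) .nil) (.node [(154, (-1), 1)] .nil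 (.node [(216, (-1), 1)] (.node [(241, (-1), 1)] .nil .nil) .nil))) (.node [] .nil (.node [] .nil (.node [(222, (-1), 1)] .nil .nil)))) (.node [(77, 1, 1)] (.node [(99, (-1), 1)] (.node [(140, (-1), 1)] (.node [(167, 1, 1)] (.node [(226, (-1), 1)] .nil .nil) (.node [(247, (-1), 1)] .nil .nil)) (.node [(206, (-1), 1)] .nil .nil)) (.node [] (.node [(183, (-1), 1)] .nil .nil) .nil)) (.node [(0, 1, 1), (1, 2, 1), (2, 2, 1), (3, 4, 1), (4, 3, 1), (5, 3, 1), (6, 2, 1), (7, 1, 1), (225, (-1), 2)] .nil (.node [] (.node [(191, (-1), 1)] .nil .nil) .nil))))))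
def X218 : Tr (List (ℕ × ℤ × ℕ)) := (.node [] (.node [] (.node [] (.node [] (.node [] (.node [(135, (-1), 1)] .nil .nil) (.node [(154, (-1), 1)] (.node [] (.node [(231, (-1), 1)] .nil .nil) .nil) .nil)) (.node [(111, 1, 1)] (.node [] .nil (.node [(210, 1, 1)] .nil .nil)) (.node [] (.node [(187, 1, 1)] .nil .nil) (.node [(223, (-1), 1)] .nil .nil)))) (.node [(63, (-1), 1)] (.node [] (.node [(140, (-1), 1)] (.node [(167, 1, 1)] .nil (.node [(247, 1, 1)] .nil .nil)) .nil) (.node [] .nil (.node [(220, 1, 1)] .nil .nil))) (.node [] (.node [] .nil (.node [] (.node [(238, 1, 1)] .nil .nil) .nil)) (.node [] (.node [(191, (-1), 1)] (.node [(233, (-1), 1)] .nil .nil) .nil) .nil)))) (.node [] (.node [(61, (-1), 1)] (.node [(84, (-1), 1)] (.node [(137, (-1), 1)] (.node [(165, (-1), 1)] .nil (.node [(245, 1, 1)] .nil .nil)) .nil) (.node [] .nil (.node [(218, 1, 1)] (.node [(241, 1, 1)] .nil .nil) .nil))) (.node [] .nil (.node [] (.node [(189, (-1),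 1)] .nil .nil) (.node [(225, (-1), 1)] .nil .nil)))) (.node [] (.node [] (.node [(142, (-1), 1)] (.node [(169, 1, 1)] .nil .nil) (.node [(208, 1, 1)] .nil .nil)) .nil) (.node [(0, 1, 1), (1, 2, 1), (2, 2, 1), (3, 4, 1), (4, 4, 1), (5, 3, 1), (6, 2, 1), (7, 1, 1), (226, (-1), 2)] (.node [(152, (-1), 1)] .nil .nil) .nil)))) (.node [(226, 1, 1)] (.node [(226, (-1), 1)] (.node [(60, (-1), 1)] (.node [(83, (-1), 1)] (.node [(136, 1, 1)] (.node [(164, 1, 1)] .nil (.node [(244, 1, 1)] .nil .nil)) .nil) (.node [] (.node [] (.node [(232, (-1), 1)] .nil .nil) .nil) .nil)) (.node [(112, 1, 1)] (.node [] .nil (.node [(211, (-1), 1)] .nil .nil)) (.node [] (.node [(188, (-1), 1)] .nil .nil) (.node [(224, 1, 1)] .nil .nil)))) (.node [] (.node [] (.node [(141, 1, 1)] (.node [(168, (-1), 1)] .nil .nil) .nil) (.node [] .nil (.node [(221, (-1), 1)] .nil .nil))) (.node [] (.node [(151, 1, 1)] .nil (.node [] (.node [(239, 1, 1)] .nil .nil) .nil)) .nil)))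 (.node [] (.node [(62, (-1), 1)] (.node [] (.node [(139, 1, 1)] (.node [(166, 1, 1)] .nil (.node [(246, 1, 1)] .nil .nil)) .nil) (.node [] .nil (.node [(219, (-1), 1)] .nil .nil))) (.node [] .nil (.node [] (.node [(190, 1, 1)] .nil .nil) .nil))) (.node [(78, (-1), 1)] (.node [(100, 1, 1)] (.node [] .nil (.node [(209, (-1), 1)] .nil .nil)) (.node [] (.node [(186, (-1), 1)] .nil .nil) (.node [(222, 1, 1)] .nil .nil))) (.node [(134, 1, 1)] (.node [(153, 1, 1)] .nil .nil) .nil)))))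
def X219 : Tr (List (ℕ × ℤ × ℕ)) := (.node [(227, 1, 1)] (.node [] (.node [] (.node [(227, 1, 1)] (.node [(79, (-1), 1)] (.node [] (.node [(167, 1, 1)] .nil (.node [(246, 1, 1)] .nil .nil)) (.node [(199, (-1), 1)] .nil .nil)) (.node [(155, 1, 1)] .nil (.node [(218, 1, 1)] .nil .nil))) (.node [(113, 1, 1)] .nil .nil)) (.node [(67, (-1), 1)] (.node [] (.node [] .nil (.node [(205, 1, 1)] .nil .nil)) .nil) (.node [(127, 1, 1)] (.node [(147, 1, 1)] .nil .nil) (.node [(162, 1, 1)] (.node [(194, (-1), 1)] .nil .nil) .nil)))) (.node [] (.node [(64, (-1), 1)] (.node [] (.node [(143, 1, 1)] .nil (.node [(202, 1, 1)] .nil .nil)) .nil) (.node [(122, 1, 1)] (.node [] (.node [] (.node [(231, 1, 1)] .nil .nil) .nil) .nil) (.node [] .nil (.node [] (.node [(243, 1, 1)] .nil .nil) .nil)))) (.node [(74, (-1), 1)] (.node [(85, 1, 1)] (.node [(144, (-1), 1)] (.node [] (.node [(230, (-1), 1)] .nil .nil) .nil) .nil) (.node [(158, (-1), 1)] .nil (.node [] (.node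 [(242, 1, 1)] .nil .nil) .nil))) (.node [] (.node [] .nil (.node [(213, 1, 1)] .nil .nil)) (.node [(164, 1, 1)] (.node [(196, (-1), 1)] .nil .nil) .nil))))) (.node [(227, (-1), 1)] (.node [] (.node [] (.node [] (.node [] (.node [] (.node [(228, (-1), 1)] .nil .nil) .nil) .nil) (.node [] .nil (.node [(222, (-1), 1)] (.node [(240, 1, 1)] .nil .nil) .nil))) (.node [(118, (-1), 1)] (.node [(145, 1, 1)] .nil .nil) (.node [(160, 1, 1)] (.node [(192, (-1), 1)] .nil .nil) .nil))) (.node [(70, (-1), 1)] (.node [] (.node [] .nil (.node [(208, (-1), 1)] .nil .nil)) (.node [(157, 1, 1)] .nil .nil)) (.node [(0, 1, 1), (1, 2, 1), (2, 3, 1), (3, 4, 1), (4, 3, 1), (5, 2, 1), (6, 1, 1), (227, (-1), 2)] (.node [] .nil (.node [(212, (-1), 1)] .nil .nil)) (.node [] .nil (.node [] (.node [(244, 1, 1)] .nil .nil) .nil))))) (.node [] (.node [(65, (-1), 1)] (.node [] (.node [] (.node [] (.node [(229, 1, 1)] .nil .nil) .nil) (.node [(203, (-1), 1)] .nil .nil))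 (.node [(156, (-1), 1)] .nil .nil)) (.node [(125, (-1), 1)] (.node [(146, (-1), 1)] .nil (.node [] (.node [(234, (-1), 1)] .nil .nil) .nil)) (.node [(161, (-1), 1)] (.node [(193, 1, 1)] (.node [(233, 1, 1)] .nil .nil) .nil) .nil))) (.node [] (.node [(101, (-1), 1)] .nil .nil) (.node [] (.node [] (.node [] (.node [(232, (-1), 1)] .nil .nil) .nil) (.node [(215, (-1), 1)] .nil .nil)) (.node [(165, (-1), 1)] (.node [(197, 1, 1)] .nil .nil) (.node [] (.node [(245, 1, 1)] .nil .nil) .nil)))))))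
def X220 : Tr (List (ℕ × ℤ × ℕ)) := (.node [(228, 1, 1)] (.node [] (.node [] (.node [(228, (-1), 1)] (.node [(80, 1, 1)] (.node [] (.node [(168, 1, 1)] (.node [(227, (-1), 1)] .nil .nil) (.node [(247, 1, 1)] .nil .nil)) (.node [(200, (-1), 1)] .nil .nil)) (.node [] .nil (.node [(219, 1, 1)] (.node [(240, (-1), 1)] .nil .nil) .nil))) (.node [(114, (-1), 1)] (.node [(145, 1, 1)] .nil .nil) (.node [(160, 1, 1)] (.node [(192, (-1), 1)] .nil .nil) .nil))) (.node [(68, 1, 1)] (.node [] (.node [] .nil (.node [(206, 1, 1)] .nil .nil)) (.node [(157, 1, 1)] .nil .nil)) (.node [(0, 1, 1), (1, 2, 1), (2, 3, 1), (3, 4, 1), (4, 3, 1), (5, 2, 1), (6, 1, 1), (7, 1, 1), (228, (-1), 2)] (.node [(148, 1, 1)] .nil (.node [(212, (-1), 1)] .nil .nil)) (.node [(163, 1, 1)] (.node [(195, (-1), 1)] .nil .nil) (.node [] (.node [(244, (-1), 1)] .nil .nil) .nil))))) (.node [] (.node [] (.node [] (.node [] (.node [] (.node [(229, (-1), 1)] .nil .nil) .nil) .nil)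 (.node [(156, (-1), 1)] .nil .nil)) (.node [(123, (-1), 1)] (.node [(146, (-1), 1)] .nil .nil) (.node [(161, (-1), 1)] (.node [(193, 1, 1)] (.node [(233, (-1), 1)] .nil .nil) .nil) .nil))) (.node [(75, 1, 1)] (.node [] .nil (.node [(159, (-1), 1)] .nil .nil)) (.node [] (.node [] (.node [] (.node [(232, 1, 1)] .nil .nil) .nil) (.node [(214, 1, 1)] .nil .nil)) (.node [] .nil (.node [] (.node [(245, (-1), 1)] .nil .nil) .nil)))))) (.node [(228, (-1), 1)] (.node [] (.node [(64, (-1), 1)] (.node [] (.node [(143, 1, 1)] .nil (.node [(202, 1, 1)] .nil .nil)) (.node [] .nil (.node [(223, (-1), 1)] .nil .nil))) (.node [(119, 1, 1)] (.node [] (.node [] (.node [(231, (-1), 1)] .nil .nil) .nil) .nil) (.node [] .nil (.node [] (.node [(243, (-1), 1)] .nil .nil) .nil)))) (.node [(71, 1, 1)] (.node [(85, 1, 1)] (.node [(144, (-1), 1)] (.node [] (.node [(230, 1, 1)] .nil .nil) .nil) (.node [(209, (-1), 1)] .nil .nil)) (.node [] .nil (.node [] (.node [(242,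 (-1), 1)] .nil .nil) .nil))) (.node [(128, 1, 1)] .nil (.node [(164, 1, 1)] (.node [(196, (-1), 1)] .nil .nil) .nil)))) (.node [(228, 1, 1)] (.node [(66, 1, 1)] (.node [] (.node [] .nil (.node [(204, (-1), 1)] .nil .nil)) .nil) (.node [(126, 1, 1)] (.node [] .nil (.node [] (.node [(235, (-1), 1)] .nil .nil) .nil)) .nil)) (.node [] (.node [(102, 1, 1)] .nil .nil) (.node [] (.node [(155, 1, 1)] .nil (.node [(216, (-1), 1)] .nil .nil)) (.node [(166, (-1), 1)] (.node [(198, 1, 1)] .nil .nil) .nil))))))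
def X221 : Tr (List (ℕ × ℤ × ℕ)) := (.node [(229, 1, 1)] (.node [] (.node [] (.node [] (.node [(81, (-1), 1)] (.node [(143, 1, 1)] (.node [(169, 1, 1)] .nil .nil) (.node [(201, (-1), 1)] .nil .nil)) (.node [] .nil (.node [(220, 1, 1)] .nil .nil))) (.node [(115, 1, 1)] (.node [] (.node [] (.node [(231, 1, 1)] .nil .nil) .nil) .nil) (.node [] .nil (.node [] (.node [(243, 1, 1)] .nil .nil) .nil)))) (.node [(69, (-1), 1)] (.node [(85, 1, 1)] (.node [(144, (-1), 1)] (.node [] (.node [(230, (-1), 1)] .nil .nil) .nil) (.node [(207, 1, 1)] .nil .nil)) (.node [(158, 1, 1)] .nil (.node [] (.node [(242, 1, 1)] .nil .nil) .nil))) (.node [(129, 1, 1)] (.node [] .nil (.node [(213, (-1), 1)] .nil .nil)) .nil))) (.node [(229, 1, 1)] (.node [(66, 1, 1)] (.node [] (.node [] .nil (.node [(204, (-1), 1)] .nil .nil)) .nil) (.node [(124, 1, 1)] (.node [(147, (-1), 1)] .nil .nil) (.node [(162, (-1), 1)] (.node [(194, 1, 1)] .nil .nil) .nil))) (.node [(76, (-1),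 1)] .nil (.node [] (.node [(155, 1, 1)] .nil .nil) (.node [(166, (-1), 1)] (.node [(198, 1, 1)] .nil .nil) (.node [(227, 1, 1)] (.node [(246, (-1), 1)] .nil .nil) .nil)))))) (.node [(229, (-1), 1)] (.node [] (.node [(65, 1, 1)] (.node [] (.node [] .nil (.node [(203, 1, 1)] .nil .nil)) (.node [(156, (-1), 1)] .nil (.node [(224, (-1), 1)] .nil .nil))) (.node [(120, (-1), 1)] .nil (.node [] (.node [] (.node [(233, 1, 1)] .nil .nil) .nil) .nil))) (.node [(72, (-1), 1)] (.node [] (.node [] .nil (.node [(210, (-1), 1)] .nil .nil)) (.node [(159, (-1), 1)] .nil .nil)) (.node [(130, (-1), 1)] (.node [] (.node [] (.node [(232, (-1), 1)] .nil .nil) .nil) (.node [(214, 1, 1)] .nil .nil)) (.node [(165, 1, 1)] (.node [(197, (-1), 1)] .nil .nil) .nil)))) (.node [(229, (-1), 1)] (.node [] .nil (.node [(0, 1, 1), (1, 2, 1), (2, 3, 1), (3, 4, 1), (4, 3, 1), (5, 2, 1), (6, 2, 1), (7, 1, 1), (229, (-1), 2)] (.node [(148, 1, 1)] .nil (.node [] (.node [(236,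 (-1), 1)] .nil .nil) .nil)) (.node [(163, 1, 1)] (.node [(195, (-1), 1)] .nil .nil) (.node [] (.node [(244, 1, 1)] .nil .nil) .nil)))) (.node [] (.node [(103, (-1), 1)] (.node [(145, 1, 1)] .nil .nil) (.node [(160, 1, 1)] (.node [(192, (-1), 1)] .nil .nil) .nil)) (.node [] (.node [] .nil (.node [(217, (-1), 1)] (.node [(240, 1, 1)] .nil .nil) .nil)) (.node [] .nil (.node [(228, (-1), 1)] (.node [(247, (-1), 1)] .nil .nil) .nil)))))))
def X222 : Tr (List (ℕ × ℤ × ℕ)) := (.node [(230, 1, 1)] (.node [] (.node [] (.node [] (.node [(82, 1, 1)] .nil (.node [] .nil (.node [(221, 1, 1)] .nil .nil))) (.node [(116, (-1), 1)] (.node [(147, (-1), 1)] .nil .nil) (.node [(162, (-1), 1)] (.node [(194, 1, 1)] (.node [(233, (-1), 1)] .nil .nil) .nil) .nil))) (.node [] .nil (.node [(132, (-1), 1)] (.node [] (.node [] (.node [(232, 1, 1)] .nil .nil) .nil) (.node [(215, (-1), 1)] .nil .nil)) (.node [] .nil (.node [(228, 1, 1)] (.node [(246, 1, 1)] .nil .nil)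 .nil))))) (.node [(230, (-1), 1)] (.node [(68, (-1), 1)] (.node [] (.node [] .nil (.node [(206, (-1), 1)] .nil .nil)) (.node [(158, 1, 1)] .nil .nil)) (.node [(0, 1, 1), (1, 2, 1), (2, 3, 1), (3, 4, 1), (4, 3, 1), (5, 3, 1), (6, 2, 1), (7, 1, 1), (230, (-1), 2)] .nil .nil)) (.node [(77, 1, 1)] .nil (.node [] (.node [] .nil (.node [(217, (-1), 1)] (.node [(240, (-1), 1)] .nil .nil) .nil)) (.node [(168, (-1), 1)] (.node [(200, 1, 1)] .nil .nil) .nil))))) (.node [(230, (-1), 1)] (.node [(230, 1, 1)] (.node [(67, (-1), 1)] (.node [] (.node [] .nil (.node [(205, 1, 1)] .nil .nil)) (.node [(157, (-1), 1)] .nil (.node [(225, (-1), 1)] .nil .nil))) (.node [(121, 1, 1)] (.node [(148, 1, 1)] .nil .nil) (.node [(163, 1, 1)] (.node [(195, (-1), 1)] .nil .nil) .nil))) (.node [(73, 1, 1)] (.node [] (.node [] .nil (.node [(211, (-1), 1)] .nil .nil)) .nil) (.node [(133, 1, 1)] (.node [(155, 1, 1)] .nil (.node [(216, 1, 1)] .nil .nil)) (.node [(167, 1,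 1)] (.node [(199, (-1), 1)] .nil .nil) (.node [(229, (-1), 1)] (.node [(247, 1, 1)] .nil .nil) .nil))))) (.node [] (.node [(69, (-1), 1)] (.node [(85, 1, 1)] (.node [(144, (-1), 1)] .nil (.node [(207, 1, 1)] .nil .nil)) (.node [(159, (-1), 1)] .nil (.node [] (.node [(242, (-1), 1)] .nil .nil) .nil))) (.node [(131, 1, 1)] (.node [] .nil (.node [] (.node [(237, (-1), 1)] .nil .nil) .nil)) (.node [] .nil (.node [(227, (-1), 1)] (.node [(245, 1, 1)] .nil .nil) .nil)))) (.node [] (.node [(104, 1, 1)] (.node [(146, 1, 1)] (.node [] (.node [(231, (-1), 1)] .nil .nil) .nil) .nil) (.node [(161, 1, 1)] (.node [(193, (-1), 1)] .nil .nil) (.node [] (.node [(243, (-1), 1)] .nil .nil) .nil))) (.node [(143, 1, 1)] .nil (.node [(169, 1, 1)] (.node [(201, (-1), 1)] .nil .nil) .nil))))))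
def X223 : Tr (List (ℕ × ℤ × ℕ)) := (.node [(231, 1, 1)] (.node [] (.node [(231, 1, 1)] (.node [] (.node [(83, (-1), 1)] .nil (.node [(159, (-1), 1)] .nil .nil)) (.node [(117, 1, 1)] .nil (.node [(165, (-1), 1)] (.node [(197, 1, 1)] .nil .nil) (.node [(228, (-1), 1)] (.node [(245, (-1), 1)] .nil .nil) .nil)))) (.node [(73, 1, 1)] (.node [] (.node [(146, 1, 1)] .nil (.node [(211, (-1), 1)] .nil .nil)) .nil) (.node [(136, 1, 1)] (.node [] .nil (.node [(218, (-1), 1)] .nil .nil)) (.node [(169, 1, 1)] (.node [(201, (-1), 1)] .nil .nil) .nil)))) (.node [] (.node [(71, 1, 1)] (.node [(85, 1, 1)] (.node [] .nil (.node [(209, (-1), 1)] .nil .nil)) (.node [] .nil (.node [] (.node [(242, 1, 1)] .nil .nil) .nil))) (.node [(134, 1, 1)] .nil (.node [(167, 1, 1)] (.node [(199, (-1), 1)] .nil .nil) (.node [(230, (-1), 1)] (.node [(247, (-1), 1)] .nil .nil) .nil)))) (.node [(78, (-1), 1)] (.node [] (.node [(148, 1, 1)] .nil .nil) .nil) (.node [(143,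 1, 1)] (.node [(157, (-1), 1)] .nil (.node [(220, (-1), 1)] .nil .nil)) .nil)))) (.node [(231, (-1), 1)] (.node [(231, (-1), 1)] (.node [(70, 1, 1)] (.node [] (.node [] .nil (.node [(208, 1, 1)] .nil .nil)) (.node [] .nil (.node [(226, (-1), 1)] .nil .nil))) (.node [(0, 1, 1), (1, 2, 1), (2, 3, 1), (3, 4, 1), (4, 4, 1), (5, 3, 1), (6, 2, 1), (7, 1, 1), (231, (-1), 2)] .nil (.node [(166, 1, 1)] (.node [(198, (-1), 1)] .nil .nil) (.node [(229, 1, 1)] (.node [(246, (-1), 1)] .nil .nil) .nil)))) (.node [] (.node [] (.node [(147, (-1), 1)] .nil .nil) .nil) (.node [(137, (-1), 1)] (.node [(156, 1, 1)] .nil (.node [(219, 1, 1)] (.node [(240, 1, 1)] .nil .nil) .nil)) .nil))) (.node [] (.node [(72, 1, 1)] (.node [] (.node [(145, (-1), 1)] .nil (.node [(210, 1, 1)] .nil .nil)) .nil) (.node [(135, (-1), 1)] (.node [] (.node [] (.node [(232, (-1), 1)] .nil .nil) .nil) (.node [] (.node [(238, (-1), 1)] .nil .nil) .nil)) (.node [(168, (-1), 1)] (.node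 [(200, 1, 1)] .nil .nil) .nil))) (.node [] (.node [(105, (-1), 1)] .nil (.node [(164, 1, 1)] (.node [(196, (-1), 1)] (.node [(233, 1, 1)] .nil .nil) .nil) (.node [(227, 1, 1)] (.node [(244, (-1), 1)] .nil .nil) .nil))) (.node [] (.node [(158, 1, 1)] .nil (.node [(221, 1, 1)] .nil .nil)) .nil)))))
def X224 : Tr (List (ℕ × ℤ × ℕ)) := (.node [(232, 1, 1)] (.node [(232, 1, 1)] (.node [(232, (-1), 1)] (.node [] (.node [(84, 1, 1)] (.node [(146, 1, 1)] .nil (.node [(211, (-1), 1)] .nil .nil)) (.node [(163, (-1), 1)] .nil (.node [(226, (-1), 1)] .nil .nil))) (.node [(0, 1, 1), (1, 2, 1), (2, 3, 1), (3, 5, 1), (4, 4, 1), (5, 3, 1), (6, 2, 1), (7, 1, 1), (232, (-1), 2)] .nil (.node [] (.node [(203, 1, 1)] .nil .nil) .nil))) (.node [(77, (-1), 1)] (.node [] .nil (.node [(167, 1, 1)] .nil (.node [(229, (-1), 1)] (.node [(245, 1, 1)] .nil .nil) .nil))) (.node [(141, (-1), 1)] (.node [] .nil (.node [(222, (-1), 1)] (.node [(240, (-1), 1)] .nil .nil)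 .nil)) (.node [] (.node [(207, (-1), 1)] .nil .nil) .nil)))) (.node [] (.node [(75, (-1), 1)] (.node [] (.node [(148, 1, 1)] .nil .nil) (.node [(165, (-1), 1)] .nil (.node [(227, (-1), 1)] (.node [(243, 1, 1)] .nil .nil) .nil))) (.node [(139, (-1), 1)] .nil (.node [] (.node [(205, (-1), 1)] .nil .nil) .nil))) (.node [] (.node [] .nil (.node [(169, 1, 1)] (.node [] (.node [(233, (-1), 1)] .nil .nil) .nil) (.node [(231, (-1), 1)] (.node [(247, 1, 1)] .nil .nil) .nil))) (.node [(144, 1, 1)] (.node [(161, (-1), 1)] .nil (.node [(224, (-1), 1)] .nil .nil)) (.node [] (.node [(209, (-1), 1)] .nil .nil) .nil))))) (.node [] (.node [] (.node [(74, (-1), 1)] (.node [(85, 1, 1)] (.node [(147, (-1), 1)] .nil .nil) (.node [(164, 1, 1)] .nil .nil)) (.node [(138, 1, 1)] .nil (.node [] (.node [(204, (-1), 1)] .nil .nil) .nil))) (.node [(78, (-1), 1)] (.node [] .nil (.node [(168, (-1), 1)] .nil (.node [(230, 1, 1)] (.node [(246, 1, 1)] .nil .nil) .nil)))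 (.node [(142, 1, 1)] (.node [(160, 1, 1)] .nil (.node [(223, 1, 1)] .nil .nil)) (.node [] (.node [(208, 1, 1)] .nil .nil) .nil)))) (.node [] (.node [(76, (-1), 1)] (.node [] .nil (.node [(166, 1, 1)] .nil (.node [(228, 1, 1)] (.node [(244, 1, 1)] .nil .nil) .nil))) (.node [(140, 1, 1)] (.node [] .nil (.node [] (.node [(239, (-1), 1)] .nil .nil) .nil)) (.node [] (.node [(206, 1, 1)] .nil .nil) .nil))) (.node [] (.node [(106, 1, 1)] .nil (.node [] (.node [(202, (-1), 1)] .nil .nil) .nil)) (.node [(145, (-1), 1)] (.node [(162, 1, 1)] .nil (.node [(225, 1, 1)] .nil .nil)) (.node [] (.node [(210, 1, 1)] .nil .nil) .nil))))))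
def X225 : Tr (List (ℕ × ℤ × ℕ)) := (.node [(233, 1, 1)] (.node [(233, (-1), 1)] (.node [] (.node [] (.node [] (.node [(157, 1, 1)] .nil (.node [(221, (-1), 1)] .nil .nil)) (.node [] .nil (.node [] (.node [(246, (-1), 1)] .nil .nil) .nil))) (.node [(149, 1, 1)] (.node [(165, (-1), 1)] .nil (.node [(229, 1, 1)] .nil .nil)) (.node [] (.node [(213, 1, 1)] .nil .nil) .nil))) (.node [(82, 1, 1)] (.node [] (.node [(161, (-1), 1)] .nil (.node [(225, 1, 1)] .nil .nil)) .nil) (.node [(153, 1, 1)] (.node [(169, 1, 1)] .nil (.node [] (.node [(242, (-1), 1)] .nil .nil) .nil)) (.node [] (.node [(217, (-1), 1)] .nil .nil) .nil)))) (.node [] (.node [(80, 1, 1)] (.node [] (.node [(159, 1, 1)] .nil (.node [(223, 1, 1)] .nil .nil)) .nil) (.node [(151, 1, 1)] (.node [(167, 1, 1)] .nil (.node [(231, 1, 1)] .nil .nil)) (.node [] (.node [(215, (-1), 1)] .nil .nil) .nil))) (.node [(84, 1, 1)] (.node [] (.node [(163, (-1), 1)] .nil (.node [(227, 1, 1)] .nil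 .nil)) .nil) (.node [(155, 1, 1)] (.node [] .nil (.node [] (.node [(244, (-1), 1)] .nil .nil) .nil)) (.node [] (.node [(219, (-1), 1)] .nil .nil) .nil))))) (.node [] (.node [] (.node [(79, 1, 1)] (.node [] (.node [(158, (-1), 1)] .nil (.node [(222, (-1), 1)] .nil .nil)) (.node [] .nil (.node [] (.node [(247, (-1), 1)] .nil .nil) .nil))) (.node [(150, (-1), 1)] (.node [(166, 1, 1)] .nil (.node [(230, (-1), 1)] .nil .nil)) (.node [] (.node [(214, (-1), 1)] .nil .nil) .nil))) (.node [(83, 1, 1)] (.node [] (.node [(162, 1, 1)] .nil (.node [(226, (-1), 1)] .nil .nil)) .nil) (.node [(154, (-1), 1)] (.node [] .nil (.node [] (.node [(243, (-1), 1)] .nil .nil) .nil)) (.node [] (.node [(218, 1, 1)] .nil .nil) .nil)))) (.node [] (.node [(81, 1, 1)] (.node [] (.node [(160, 1, 1)] .nil (.node [(224, (-1), 1)] .nil .nil)) .nil) (.node [(152, (-1), 1)] (.node [(168, (-1), 1)] .nil (.node [(232, (-1), 1)] (.node [(241, (-1), 1)] .nil .nil) .nil)) (.node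 [] (.node [(216, 1, 1)] .nil .nil) .nil))) (.node [(85, 1, 1)] (.node [(0, 1, 1), (1, 3, 1), (2, 3, 1), (3, 5, 1), (4, 4, 1), (5, 3, 1), (6, 2, 1), (7, 1, 1), (233, (-1), 2)] (.node [(164, 1, 1)] .nil (.node [(228, (-1), 1)] .nil .nil)) (.node [] (.node [(212, (-1), 1)] .nil .nil) .nil)) (.node [(156, (-1), 1)] (.node [] .nil (.node [] (.node [(245, (-1), 1)] .nil .nil) .nil)) (.node [] (.node [(220, 1, 1)] .nil .nil) .nil))))))
def X226 : Tr (List (ℕ × ℤ × ℕ)) := (.node [(234, (-1), 1)] (.node [] (.node [] (.node [(234, 1, 1)] (.node [(107, (-1), 1)] (.node [] (.node [(189, (-1), 1)] .nil .nil) (.node [] (.node [(242, 1, 1)] .nil .nil) .nil)) (.node [(177, (-1), 1)] .nil .nil)) (.node [] (.node [] (.node [(196, 1, 1)] .nil .nil) .nil) .nil)) (.node [(89, (-1), 1)] (.node [(125, (-1), 1)] (.node [] .nil (.node [] (.node [(243, 1, 1)] .nil .nil) .nil)) (.node [] (.node [(218, (-1), 1)] .nil .nil) .nil)) (.node [] (.node [(175, (-1), 1)]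 (.node [(202, (-1), 1)] .nil .nil) .nil) (.node [(184, (-1), 1)] .nil .nil)))) (.node [] (.node [(86, (-1), 1)] (.node [(118, (-1), 1)] (.node [(171, (-1), 1)] .nil .nil) (.node [] (.node [(213, (-1), 1)] .nil .nil) .nil)) (.node [] (.node [] (.node [(199, 1, 1)] (.node [(238, 1, 1)] .nil .nil) .nil) (.node [] (.node [(246, 1, 1)] .nil .nil) .nil)) .nil)) (.node [(96, (-1), 1)] (.node [(0, 2, 1), (1, 2, 1), (2, 3, 1), (3, 4, 1), (4, 3, 1), (5, 2, 1), (6, 1, 1), (234, (-1), 2)] (.node [(172, 1, 1)] (.node [(194, 1, 1)] (.node [(237, (-1), 1)] .nil .nil) .nil) .nil) (.node [(180, 1, 1)] (.node [(227, (-1), 1)] .nil .nil) .nil)) (.node [] (.node [] (.node [(205, (-1), 1)] .nil .nil) .nil) (.node [(186, (-1), 1)] .nil .nil))))) (.node [] (.node [] (.node [] (.node [(113, 1, 1)] (.node [] (.node [] (.node [(235, (-1), 1)] .nil .nil) .nil) .nil) (.node [] (.node [(212, 1, 1)] .nil .nil) .nil)) (.node [] (.node [(173, (-1), 1)] (.node [(197,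 (-1), 1)] .nil .nil) (.node [] (.node [(245, 1, 1)] .nil .nil) .nil)) (.node [(182, (-1), 1)] .nil .nil))) (.node [(92, (-1), 1)] (.node [(127, 1, 1)] (.node [] (.node [(193, (-1), 1)] .nil .nil) .nil) (.node [(179, (-1), 1)] (.node [(222, 1, 1)] (.node [(240, 1, 1)] .nil .nil) .nil) .nil)) (.node [(170, 1, 1)] (.node [] (.node [(203, 1, 1)] .nil .nil) .nil) .nil))) (.node [] (.node [(87, (-1), 1)] (.node [(122, 1, 1)] (.node [] (.node [(192, 1, 1)] (.node [(236, 1, 1)] .nil .nil) .nil) .nil) (.node [(178, 1, 1)] (.node [(215, 1, 1)] .nil .nil) .nil)) (.node [] (.node [(174, 1, 1)] .nil .nil) (.node [(183, 1, 1)] (.node [] (.node [(241, 1, 1)] .nil .nil) .nil) .nil))) (.node [(101, (-1), 1)] (.node [] (.node [] .nil (.node [] (.node [(244, 1, 1)] .nil .nil) .nil)) .nil) (.node [] (.node [] (.node [(208, 1, 1)] (.node [(239, (-1), 1)] .nil .nil) .nil) .nil) (.node [(187, 1, 1)] .nil .nil))))))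
def X227 : Tr (List (ℕ × ℤ × ℕ)) := (.node [(235, (-1), 1)] (.node [] (.node [] (.node [(235, (-1), 1)] (.node [(108, 1, 1)] (.node [] (.node [(190, (-1), 1)] (.node [(234, (-1), 1)] .nil .nil) .nil) .nil) (.node [] (.node [(212, 1, 1)] .nil .nil) .nil)) (.node [] (.node [(173, (-1), 1)] .nil (.node [] (.node [(245, (-1), 1)] .nil .nil) .nil)) (.node [(182, (-1), 1)] .nil .nil))) (.node [(90, 1, 1)] (.node [(126, 1, 1)] (.node [] (.node [(193, (-1), 1)] .nil .nil) .nil) (.node [(179, (-1), 1)] (.node [(219, (-1), 1)] (.node [(240, (-1), 1)] .nil .nil) .nil) .nil)) (.node [(170, 1, 1)] (.node [(176, (-1), 1)] .nil .nil) (.node [(185, (-1), 1)] .nil .nil)))) (.node [] (.node [] (.node [(119, 1, 1)] (.node [] (.node [(192, 1, 1)] (.node [(236, (-1), 1)] .nil .nil) .nil) .nil) (.node [(178, 1, 1)] (.node [(214, (-1), 1)] .nil .nil) .nil)) (.node [] (.node [(174, 1, 1)] (.node [(200, 1, 1)] .nil .nil) (.node [] (.node [(247, 1, 1)] .nil .nil)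 .nil)) (.node [(183, 1, 1)] (.node [] (.node [(241, (-1), 1)] .nil .nil) .nil) .nil))) (.node [(97, 1, 1)] (.node [(128, 1, 1)] (.node [] (.node [(195, 1, 1)] .nil .nil) (.node [] (.node [(244, (-1), 1)] .nil .nil) .nil)) (.node [(181, 1, 1)] (.node [(228, (-1), 1)] .nil .nil) .nil)) (.node [] (.node [] (.node [(206, (-1), 1)] (.node [(239, 1, 1)] .nil .nil) .nil) .nil) .nil)))) (.node [] (.node [] (.node [(86, (-1), 1)] (.node [(114, (-1), 1)] (.node [(171, (-1), 1)] .nil .nil) .nil) (.node [] (.node [] (.node [(198, (-1), 1)] (.node [(238, (-1), 1)] .nil .nil) .nil) .nil) .nil)) (.node [(93, 1, 1)] (.node [(0, 2, 1), (1, 2, 1), (2, 3, 1), (3, 4, 1), (4, 3, 1), (5, 2, 1), (6, 1, 1), (7, 1, 1), (235, (-1), 2)] (.node [(172, 1, 1)] (.node [] (.node [(237, 1, 1)] .nil .nil) .nil) .nil) (.node [] (.node [(223, 1, 1)] .nil .nil) .nil)) (.node [] (.node [] (.node [(204, 1, 1)] .nil .nil) .nil) (.node [(186, (-1), 1)] .nil .nil)))) (.node [(235,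 1, 1)] (.node [(88, 1, 1)] (.node [(123, (-1), 1)] (.node [] .nil (.node [] (.node [(243, (-1), 1)] .nil .nil) .nil)) (.node [] (.node [(216, 1, 1)] .nil .nil) .nil)) (.node [] (.node [] (.node [(202, (-1), 1)] .nil .nil) .nil) .nil)) (.node [(102, 1, 1)] (.node [] (.node [] (.node [(196, 1, 1)] .nil .nil) .nil) .nil) (.node [] (.node [(177, (-1), 1)] (.node [(209, 1, 1)] .nil .nil) .nil) (.node [(188, 1, 1)] (.node [] (.node [(242, (-1), 1)] .nil .nil) .nil) .nil))))))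
def X228 : Tr (List (ℕ × ℤ × ℕ)) := (.node [(236, (-1), 1)] (.node [] (.node [] (.node [] (.node [(109, (-1), 1)] (.node [(171, (-1), 1)] (.node [(191, (-1), 1)] .nil .nil) .nil) (.node [] (.node [(213, 1, 1)] .nil .nil) .nil)) (.node [] (.node [] (.node [(198, (-1), 1)] (.node [(238, 1, 1)] .nil .nil) .nil) (.node [] (.node [(246, (-1), 1)] .nil .nil) .nil)) .nil)) (.node [(91, (-1), 1)] (.node [(0, 2, 1), (1, 2, 1), (2, 3, 1), (3, 4, 1), (4, 3, 1), (5, 2, 1), (6, 2, 1), (7, 1, 1), (236, (-1), 2)] (.node [(172, 1, 1)] (.node [(194, (-1), 1)] (.node [(237, (-1), 1)] .nil .nil) .nil) .nil) (.node [(180, (-1), 1)] (.node [(220, (-1), 1)] .nil .nil) .nil)) (.node [] (.node [] (.node [(204, 1, 1)] .nil .nil) .nil) .nil))) (.node [(236, 1, 1)] (.node [(88, 1, 1)] (.node [(120, (-1), 1)] (.node [] .nil (.node [] (.node [(243, 1, 1)] .nil .nil) .nil)) .nil) (.node [] (.node [(175, 1, 1)] (.node [(201, 1, 1)] .nil .nil) .nil) (.node [(184, 1,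 1)] .nil .nil))) (.node [(98, (-1), 1)] (.node [(130, (-1), 1)] .nil (.node [] (.node [(229, (-1), 1)] .nil .nil) .nil)) (.node [] (.node [(177, (-1), 1)] (.node [(207, (-1), 1)] .nil .nil) .nil) (.node [(188, 1, 1)] (.node [] (.node [(242, 1, 1)] .nil .nil) .nil) (.node [(234, 1, 1)] .nil .nil)))))) (.node [] (.node [] (.node [(87, 1, 1)] (.node [(115, 1, 1)] (.node [] (.node [(192, 1, 1)] .nil .nil) .nil) (.node [(178, 1, 1)] (.node [(214, (-1), 1)] .nil .nil) .nil)) (.node [] (.node [] .nil (.node [] (.node [(247, (-1), 1)] .nil .nil) .nil)) (.node [] (.node [] (.node [(241, 1, 1)] .nil .nil) .nil) .nil))) (.node [(94, (-1), 1)] (.node [(129, 1, 1)] (.node [] (.node [(195, 1, 1)] .nil .nil) (.node [] (.node [(244, 1, 1)] .nil .nil) .nil)) (.node [(181, 1, 1)] (.node [(224, 1, 1)] .nil .nil) .nil)) (.node [] (.node [] (.node [] (.node [(239, (-1), 1)] .nil .nil) .nil) .nil) (.node [(187, (-1), 1)] .nil .nil)))) (.node [(236, (-1), 1)]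 (.node [] (.node [(124, 1, 1)] .nil (.node [] (.node [(217, 1, 1)] (.node [(240, 1, 1)] .nil .nil) .nil) .nil)) (.node [(170, 1, 1)] (.node [(176, (-1), 1)] (.node [(203, (-1), 1)] .nil .nil) .nil) (.node [(185, (-1), 1)] .nil .nil))) (.node [(103, (-1), 1)] (.node [] (.node [(173, (-1), 1)] (.node [(197, 1, 1)] .nil .nil) .nil) (.node [(182, (-1), 1)] .nil .nil)) (.node [] (.node [] (.node [(210, 1, 1)] .nil .nil) .nil) (.node [] .nil (.node [(235, (-1), 1)] .nil .nil)))))))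
def X229 : Tr (List (ℕ × ℤ × ℕ)) := (.node [(237, (-1), 1)] (.node [] (.node [] (.node [] (.node [(110, 1, 1)] .nil (.node [] (.node [(215, 1, 1)] .nil .nil) .nil)) (.node [] (.node [(175, 1, 1)] (.node [(200, (-1), 1)] .nil .nil) .nil) (.node [(184, 1, 1)] (.node [] (.node [(241, (-1), 1)] .nil .nil) .nil) .nil))) (.node [] (.node [(131, 1, 1)] .nil (.node [] (.node [(221, (-1), 1)] .nil .nil) .nil)) (.node [] (.node [] (.node [(206, 1, 1)] (.node [(239, 1, 1)] .nil .nil) .nil) .nil) (.node [] .nil (.node [(235, 1, 1)] .nil .nil))))) (.node [(237, (-1), 1)] (.node [(90, (-1), 1)] (.node [(121, 1, 1)] (.node [] (.node [(194, (-1), 1)] .nil .nil) .nil) (.node [(180, (-1), 1)] (.node [(217, 1, 1)] (.node [(240, (-1), 1)] .nil .nil) .nil) .nil)) (.node [(170, 1, 1)] .nil .nil)) (.node [(99, 1, 1)] (.node [(133, 1, 1)] (.node [] .nil (.node [] (.node [(246, 1, 1)] .nil .nil) .nil)) (.node [] (.node [(230, (-1), 1)] .nil .nil) .nil)) (.node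 [] .nil (.node [(190, 1, 1)] .nil .nil))))) (.node [] (.node [(237, 1, 1)] (.node [(89, (-1), 1)] (.node [(116, (-1), 1)] (.node [] (.node [(193, 1, 1)] .nil .nil) (.node [] (.node [(243, (-1), 1)] .nil .nil) .nil)) (.node [(179, 1, 1)] (.node [(216, (-1), 1)] .nil .nil) .nil)) (.node [] (.node [(176, (-1), 1)] (.node [(201, 1, 1)] .nil .nil) .nil) (.node [(185, (-1), 1)] .nil .nil))) (.node [(95, 1, 1)] (.node [(132, (-1), 1)] (.node [] .nil (.node [] (.node [(245, 1, 1)] .nil .nil) .nil)) (.node [] (.node [(225, 1, 1)] .nil .nil) .nil)) (.node [] (.node [(177, (-1), 1)] (.node [(207, (-1), 1)] .nil .nil) .nil) (.node [(189, (-1), 1)] (.node [] (.node [(242, (-1), 1)] .nil .nil) .nil) (.node [(236, (-1), 1)] .nil .nil))))) (.node [] (.node [(91, (-1), 1)] (.node [(0, 2, 1), (1, 2, 1), (2, 3, 1), (3, 4, 1), (4, 3, 1), (5, 3, 1), (6, 2, 1), (7, 1, 1), (237, (-1), 2)] (.node [(172, 1, 1)] (.node [(195, 1, 1)] .nil .nil) .nil) (.node [(181,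 1, 1)] .nil .nil)) (.node [] (.node [] (.node [(205, (-1), 1)] .nil .nil) .nil) (.node [] .nil (.node [(234, (-1), 1)] .nil .nil)))) (.node [(104, 1, 1)] (.node [] (.node [(174, (-1), 1)] (.node [(199, 1, 1)] (.node [(238, (-1), 1)] .nil .nil) .nil) (.node [] (.node [(247, 1, 1)] .nil .nil) .nil)) (.node [(183, (-1), 1)] .nil .nil)) (.node [(171, (-1), 1)] (.node [] (.node [(211, 1, 1)] .nil .nil) .nil) (.node [(191, (-1), 1)] .nil .nil))))))
def X230 : Tr (List (ℕ × ℤ × ℕ)) := (.node [(238, (-1), 1)] (.node [] (.node [(238, 1, 1)] (.node [] (.node [(111, (-1), 1)] .nil (.node [(181, 1, 1)] (.node [(218, 1, 1)] .nil .nil) .nil)) (.node [] .nil (.node [(187, 1, 1)] .nil (.node [(235, (-1), 1)] .nil .nil)))) (.node [(95, 1, 1)] (.node [(135, (-1), 1)] (.node [(174, (-1), 1)] (.node [(199, 1, 1)] .nil .nil) (.node [] (.node [(247, (-1), 1)] .nil .nil) .nil)) .nil) (.node [] (.node [] (.node [(209, 1, 1)] .nil .nil) .nil) (.node [(191, (-1),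 1)] (.node [] (.node [(242, 1, 1)] .nil .nil) .nil) .nil)))) (.node [] (.node [(93, 1, 1)] (.node [(0, 2, 1), (1, 2, 1), (2, 3, 1), (3, 4, 1), (4, 4, 1), (5, 3, 1), (6, 2, 1), (7, 1, 1), (238, (-1), 2)] (.node [] (.node [(197, (-1), 1)] .nil .nil) (.node [] (.node [(245, (-1), 1)] .nil .nil) .nil)) (.node [] (.node [(220, 1, 1)] .nil .nil) .nil)) (.node [] .nil (.node [(189, (-1), 1)] .nil (.node [(237, (-1), 1)] .nil .nil)))) (.node [(100, (-1), 1)] (.node [(137, (-1), 1)] (.node [(176, (-1), 1)] (.node [(201, 1, 1)] .nil .nil) .nil) (.node [] (.node [(231, (-1), 1)] .nil .nil) .nil)) (.node [(171, (-1), 1)] (.node [(179, 1, 1)] (.node [(211, 1, 1)] .nil .nil) .nil) .nil)))) (.node [] (.node [(238, (-1), 1)] (.node [(92, 1, 1)] (.node [(117, 1, 1)] (.node [] (.node [(196, 1, 1)] .nil .nil) (.node [] (.node [(244, (-1), 1)] .nil .nil) .nil)) (.node [] (.node [(219, (-1), 1)] (.node [(240, 1, 1)] .nil .nil) .nil) .nil)) (.node [(170, 1,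 1)] .nil (.node [(188, (-1), 1)] .nil (.node [(236, 1, 1)] .nil .nil)))) (.node [] (.node [(136, 1, 1)] (.node [(175, 1, 1)] (.node [(200, (-1), 1)] .nil .nil) .nil) (.node [] (.node [(226, 1, 1)] .nil .nil) .nil)) (.node [] (.node [(178, (-1), 1)] (.node [(210, (-1), 1)] .nil .nil) .nil) .nil))) (.node [] (.node [(94, 1, 1)] (.node [(134, 1, 1)] (.node [(173, 1, 1)] (.node [(198, 1, 1)] .nil .nil) (.node [] (.node [(246, (-1), 1)] .nil .nil) .nil)) (.node [] (.node [(221, (-1), 1)] .nil .nil) .nil)) (.node [] (.node [] (.node [(208, (-1), 1)] (.node [(239, (-1), 1)] .nil .nil) .nil) .nil) (.node [(190, 1, 1)] .nil .nil))) (.node [(105, (-1), 1)] (.node [] .nil (.node [(186, (-1), 1)] (.node [] (.node [(241, 1, 1)] .nil .nil) .nil) (.node [(234, 1, 1)] .nil .nil))) (.node [] (.node [(180, (-1), 1)] .nil .nil) .nil)))))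
def X231 : Tr (List (ℕ × ℤ × ℕ)) := (.node [(239, (-1), 1)] (.node [(239, 1, 1)] (.node [(239, (-1), 1)] (.node [] (.node [(112, 1, 1)] (.node [(174, (-1), 1)] .nil (.node [] (.node [(247, 1, 1)] .nil .nil) .nil)) (.node [(185, 1, 1)] (.node [(222, 1, 1)] (.node [(240, (-1), 1)] .nil .nil) .nil) .nil)) (.node [(170, 1, 1)] (.node [] (.node [(209, 1, 1)] .nil .nil) .nil) .nil)) (.node [(99, (-1), 1)] (.node [(140, 1, 1)] (.node [] (.node [(205, 1, 1)] .nil .nil) .nil) (.node [(189, (-1), 1)] (.node [(226, 1, 1)] .nil .nil) (.node [(236, (-1), 1)] .nil .nil))) (.node [] .nil (.node [] (.node [] (.node [(243, 1, 1)] .nil .nil) .nil) .nil)))) (.node [] (.node [(97, (-1), 1)] (.node [(138, 1, 1)] (.node [(176, (-1), 1)] (.node [(203, (-1), 1)] .nil .nil) .nil) (.node [(187, 1, 1)] (.node [(224, 1, 1)] .nil .nil) (.node [(234, (-1), 1)] .nil .nil))) (.node [] (.node [] (.node [(211, 1, 1)] .nil .nil) .nil) .nil)) (.node [] (.node [(142, 1,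 1)] (.node [] (.node [(207, 1, 1)] .nil .nil) .nil) (.node [(191, (-1), 1)] (.node [(232, (-1), 1)] (.node [(241, (-1), 1)] .nil .nil) .nil) (.node [(238, (-1), 1)] .nil .nil))) (.node [(172, (-1), 1)] (.node [(183, 1, 1)] .nil .nil) (.node [] (.node [] (.node [(245, 1, 1)] .nil .nil) .nil) .nil))))) (.node [(239, 1, 1)] (.node [] (.node [(96, (-1), 1)] (.node [(0, 2, 1), (1, 2, 1), (2, 3, 1), (3, 5, 1), (4, 4, 1), (5, 3, 1), (6, 2, 1), (7, 1, 1), (239, (-1), 2)] (.node [(175, 1, 1)] (.node [(202, 1, 1)] .nil .nil) .nil) (.node [(186, (-1), 1)] (.node [(223, (-1), 1)] .nil .nil) .nil)) (.node [] (.node [] (.node [(210, (-1), 1)] .nil .nil) .nil) .nil)) (.node [(100, (-1), 1)] (.node [(141, (-1), 1)] (.node [] (.node [(206, (-1), 1)] .nil .nil) .nil) (.node [(190, 1, 1)] .nil (.node [(237, 1, 1)] .nil .nil))) (.node [] (.node [(182, (-1), 1)] .nil .nil) (.node [] (.node [] (.node [(244, 1, 1)] .nil .nil) .nil) .nil)))) (.node [] (.node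 [(98, (-1), 1)] (.node [(139, (-1), 1)] (.node [] (.node [(204, 1, 1)] .nil .nil) .nil) (.node [(188, (-1), 1)] (.node [(225, (-1), 1)] .nil .nil) (.node [(235, 1, 1)] .nil .nil))) .nil) (.node [(106, 1, 1)] (.node [] (.node [] (.node [(208, (-1), 1)] .nil .nil) .nil) .nil) (.node [(173, 1, 1)] (.node [(184, (-1), 1)] .nil .nil) (.node [] (.node [] (.node [(246, 1, 1)] .nil .nil) .nil) .nil))))))
def X232 : Tr (List (ℕ × ℤ × ℕ)) := (.node [] (.node [(240, 1, 1)] (.node [] (.node [] (.node [(0, 2, 1), (1, 2, 1), (2, 4, 1), (3, 5, 1), (4, 4, 1), (5, 3, 1), (6, 2, 1), (7, 1, 1), (240, (-1), 2)] (.node [] (.node [(211, 1, 1)] .nil .nil) .nil) (.node [(195, 1, 1)] (.node [(227, 1, 1)] .nil .nil) (.node [(238, 1, 1)] .nil .nil))) (.node [(171, 1, 1)] .nil (.node [(203, (-1), 1)] (.node [] (.node [(244, (-1), 1)] .nil .nil) .nil) .nil))) (.node [(104, 1, 1)] (.node [(146, (-1), 1)] .nil (.node [(199, (-1), 1)] (.node [(231, 1, 1)] .nil .nil)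 .nil)) (.node [(175, 1, 1)] (.node [] .nil (.node [(234, 1, 1)] .nil .nil)) (.node [(207, 1, 1)] .nil .nil)))) (.node [] (.node [(102, 1, 1)] (.node [(144, (-1), 1)] .nil (.node [(197, 1, 1)] (.node [(229, 1, 1)] .nil .nil) .nil)) (.node [(173, 1, 1)] .nil (.node [(205, 1, 1)] (.node [] (.node [(246, (-1), 1)] .nil .nil) .nil) .nil))) (.node [(106, 1, 1)] (.node [(148, (-1), 1)] .nil (.node [(201, (-1), 1)] (.node [] (.node [(242, (-1), 1)] .nil .nil) .nil) .nil)) (.node [] (.node [(193, 1, 1)] .nil (.node [(236, 1, 1)] .nil .nil)) (.node [(209, 1, 1)] .nil .nil))))) (.node [(240, (-1), 1)] (.node [] (.node [(101, 1, 1)] (.node [(143, 1, 1)] .nil (.node [(196, (-1), 1)] (.node [(228, (-1), 1)] .nil .nil) (.node [(239, (-1), 1)] .nil .nil))) (.node [(172, (-1), 1)] .nil (.node [(204, 1, 1)] (.node [] (.node [(245, (-1), 1)] .nil .nil) .nil) .nil))) (.node [(105, 1, 1)] (.node [(147, 1, 1)] .nil (.node [(200, 1, 1)] (.node [(232, (-1),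 1)] .nil .nil) .nil)) (.node [(176, (-1), 1)] (.node [(192, (-1), 1)] .nil (.node [(235, (-1), 1)] .nil .nil)) (.node [(208, (-1), 1)] .nil .nil)))) (.node [] (.node [(103, 1, 1)] (.node [(145, 1, 1)] .nil (.node [(198, (-1), 1)] (.node [(230, (-1), 1)] .nil .nil) .nil)) (.node [(174, (-1), 1)] .nil (.node [(206, (-1), 1)] (.node [] (.node [(247, (-1), 1)] .nil .nil) .nil) .nil))) (.node [] (.node [] .nil (.node [(202, 1, 1)] (.node [] (.node [(243, (-1), 1)] .nil .nil) .nil) .nil)) (.node [] (.node [(194, (-1), 1)] .nil (.node [(237, (-1), 1)] .nil .nil)) (.node [(210, (-1), 1)] .nil .nil))))))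
def X233 : Tr (List (ℕ × ℤ × ℕ)) := (.node [(241, (-1), 1)] (.node [(241, (-1), 1)] (.node [] (.node [] (.node [] (.node [(179, (-1), 1)] .nil .nil) (.node [] (.node [] (.node [(242, (-1), 1)] .nil .nil) .nil) .nil)) (.node [] (.node [(187, 1, 1)] (.node [(219, 1, 1)] .nil .nil) (.node [(236, 1, 1)] .nil .nil)) .nil)) (.node [(110, 1, 1)] (.node [(152, (-1), 1)] (.node [(183, 1, 1)] (.node [(215, 1, 1)] .nil .nil) .nil) (.node [] (.node [] (.node [(246, (-1), 1)] .nil .nil) .nil) .nil)) (.node [] (.node [(191, (-1), 1)] (.node [(223, (-1), 1)] .nil .nil) .nil) .nil))) (.node [] (.node [(108, 1, 1)] (.node [(150, (-1), 1)] (.node [(181, (-1), 1)] (.node [(213, (-1), 1)] .nil .nil) .nil) (.node [] (.node [] (.node [(244, (-1), 1)] .nil .nil) .nil) .nil)) (.node [] (.node [(189, (-1), 1)] (.node [(221, 1, 1)] .nil .nil) (.node [(238, 1, 1)] .nil .nil)) .nil)) (.node [(112, 1, 1)] (.node [(154, (-1), 1)] (.node [(185, 1, 1)] (.node [(217,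 1, 1)] .nil .nil) (.node [(234, 1, 1)] .nil .nil)) (.node [] (.node [(233, (-1), 1)] .nil .nil) .nil)) (.node [(177, (-1), 1)] (.node [] (.node [(225, (-1), 1)] .nil .nil) .nil) .nil)))) (.node [(241, 1, 1)] (.node [] (.node [(107, 1, 1)] (.node [(149, 1, 1)] (.node [(180, 1, 1)] (.node [(212, 1, 1)] .nil .nil) .nil) (.node [] (.node [] (.node [(243, (-1), 1)] .nil .nil) .nil) .nil)) (.node [] (.node [(188, (-1), 1)] (.node [(220, (-1), 1)] .nil .nil) (.node [(237, (-1), 1)] .nil .nil)) .nil)) (.node [(111, 1, 1)] (.node [(153, 1, 1)] (.node [(184, (-1), 1)] (.node [(216, (-1), 1)] .nil .nil) .nil) (.node [] (.node [] (.node [(247, (-1), 1)] .nil .nil) .nil) .nil)) (.node [] (.node [] (.node [(224, 1, 1)] .nil .nil) .nil) .nil))) (.node [] (.node [(109, 1, 1)] (.node [(151, 1, 1)] (.node [(182, (-1), 1)] (.node [(214, 1, 1)] .nil .nil) .nil) (.node [] (.node [] (.node [(245, (-1), 1)] .nil .nil) .nil) .nil)) (.node [] (.node [(190, 1,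 1)] (.node [(222, 1, 1)] .nil .nil) (.node [(239, (-1), 1)] .nil .nil)) .nil)) (.node [(0, 2, 1), (1, 3, 1), (2, 3, 1), (3, 5, 1), (4, 4, 1), (5, 3, 1), (6, 2, 1), (7, 1, 1), (241, (-1), 2)] (.node [(170, 1, 1)] (.node [(186, (-1), 1)] (.node [(218, (-1), 1)] .nil .nil) (.node [(235, (-1), 1)] .nil .nil)) .nil) (.node [(178, 1, 1)] (.node [] (.node [(226, 1, 1)] .nil .nil) .nil) .nil)))))
def X234 : Tr (List (ℕ × ℤ × ℕ)) := (.node [] (.node [(242, (-1), 1)] (.node [(242, 1, 1)] (.node [] (.node [(149, 1, 1)] (.node [] (.node [(221, 1, 1)] .nil .nil) .nil) .nil) (.node [] (.node [(197, 1, 1)] .nil .nil) (.node [(213, (-1), 1)] .nil .nil))) (.node [(116, 1, 1)] (.node [(157, (-1), 1)] (.node [(193, 1, 1)] .nil (.node [(237, (-1), 1)] .nil .nil)) .nil) (.node [(180, 1, 1)] (.node [(201, (-1), 1)] (.node [(228, (-1), 1)] (.node [(244, (-1), 1)] .nil .nil) .nil) .nil) (.node [(217, 1, 1)] .nil .nil)))) (.node [] (.node [(114, 1, 1)] (.node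 [(155, (-1), 1)] (.node [] .nil (.node [(235, (-1), 1)] .nil .nil)) .nil) (.node [(178, 1, 1)] (.node [(199, (-1), 1)] .nil .nil) (.node [(215, 1, 1)] .nil .nil))) (.node [(0, 2, 1), (1, 3, 1), (2, 4, 1), (3, 5, 1), (4, 4, 1), (5, 3, 1), (6, 2, 1), (7, 1, 1), (242, (-1), 2)] (.node [(159, (-1), 1)] (.node [(195, 1, 1)] .nil .nil) .nil) (.node [] (.node [] (.node [(230, (-1), 1)] (.node [(246, (-1), 1)] .nil .nil) .nil) .nil) (.node [(219, 1, 1)] .nil .nil))))) (.node [(242, (-1), 1)] (.node [] (.node [(113, 1, 1)] (.node [] (.node [] .nil (.node [(234, 1, 1)] .nil .nil)) (.node [] .nil (.node [(241, (-1), 1)] .nil .nil))) (.node [(177, (-1), 1)] (.node [(198, (-1), 1)] .nil .nil) (.node [(214, 1, 1)] .nil .nil))) (.node [(117, 1, 1)] (.node [(158, 1, 1)] (.node [(194, (-1), 1)] .nil (.node [(238, 1, 1)] .nil .nil)) (.node [] (.node [(233, (-1), 1)] .nil .nil) .nil)) (.node [(181, (-1), 1)] (.node [] (.node [(229, 1, 1)] (.node [(245,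 (-1), 1)] .nil .nil) .nil) .nil) (.node [(218, (-1), 1)] .nil .nil)))) (.node [] (.node [(115, 1, 1)] (.node [(156, 1, 1)] (.node [(192, (-1), 1)] .nil (.node [(236, 1, 1)] .nil .nil)) .nil) (.node [(179, (-1), 1)] (.node [(200, 1, 1)] (.node [(227, 1, 1)] (.node [(243, (-1), 1)] .nil .nil) .nil) (.node [(240, (-1), 1)] .nil .nil)) (.node [(216, (-1), 1)] .nil .nil))) (.node [(143, 1, 1)] (.node [(171, 1, 1)] (.node [(196, (-1), 1)] .nil .nil) (.node [(212, 1, 1)] .nil .nil)) (.node [] (.node [] (.node [(231, 1, 1)] (.node [(247, (-1), 1)] .nil .nil) .nil) .nil) (.node [(220, (-1), 1)] .nil .nil))))))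
def X235 : Tr (List (ℕ × ℤ × ℕ)) := (.node [] (.node [] (.node [(243, (-1), 1)] (.node [] (.node [(150, 1, 1)] (.node [(193, 1, 1)] (.node [(225, 1, 1)] .nil .nil) (.node [(237, (-1), 1)] .nil .nil)) (.node [] .nil (.node [(241, (-1), 1)] .nil .nil))) (.node [(177, (-1), 1)] (.node [(203, 1, 1)] (.node [(228, (-1), 1)] (.node [(245, (-1), 1)] .nil .nil) .nil) .nil) .nil)) (.node [(121, 1, 1)] (.node [(161, (-1), 1)] .nil (.node [(215, 1, 1)] (.node [(233, (-1), 1)] .nil .nil) .nil)) (.node [(184, 1, 1)] (.node [(207, (-1), 1)] .nil .nil) .nil))) (.node [] (.node [(119, 1, 1)] (.node [] (.node [(195, 1, 1)] .nil .nil) (.node [(213, (-1), 1)] .nil .nil)) (.node [(182, 1, 1)] (.node [(205, (-1), 1)] (.node [(230, (-1), 1)] (.node [(247, (-1), 1)] .nil .nil) .nil) (.node [(240, (-1), 1)] .nil .nil)) .nil)) (.node [(138, 1, 1)] (.node [(163, (-1), 1)] .nil (.node [(217, 1, 1)] .nil (.node [(242, (-1), 1)] .nil .nil))) (.node [] .nil (.node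 [(223, 1, 1)] (.node [(235, (-1), 1)] .nil .nil) .nil))))) (.node [] (.node [(243, 1, 1)] (.node [(118, 1, 1)] (.node [(155, (-1), 1)] (.node [(194, (-1), 1)] .nil .nil) (.node [(212, 1, 1)] .nil .nil)) (.node [] (.node [(204, (-1), 1)] (.node [(229, 1, 1)] (.node [(246, (-1), 1)] .nil .nil) .nil) .nil) .nil)) (.node [(0, 2, 1), (1, 3, 1), (2, 4, 1), (3, 6, 1), (4, 4, 1), (5, 3, 1), (6, 2, 1), (7, 1, 1), (243, (-1), 2)] (.node [(162, 1, 1)] (.node [] .nil (.node [(239, 1, 1)] .nil .nil)) (.node [(216, (-1), 1)] .nil .nil)) (.node [(185, (-1), 1)] .nil (.node [(222, (-1), 1)] (.node [(234, 1, 1)] .nil .nil) .nil)))) (.node [] (.node [(120, 1, 1)] (.node [(160, 1, 1)] .nil (.node [(214, 1, 1)] .nil .nil)) (.node [(183, (-1), 1)] (.node [(206, 1, 1)] .nil .nil) .nil)) (.node [(144, 1, 1)] (.node [(172, 1, 1)] (.node [(202, (-1), 1)] (.node [(227, 1, 1)] (.node [(244, (-1), 1)] .nil .nil) .nil) .nil) .nil) (.node [(192, (-1), 1)] (.node []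 (.node [(232, 1, 1)] .nil .nil) .nil) (.node [(224, (-1), 1)] (.node [(236, 1, 1)] .nil .nil) .nil))))))
def X236 : Tr (List (ℕ × ℤ × ℕ)) := (.node [] (.node [] (.node [] (.node [] (.node [(151, 1, 1)] (.node [(196, 1, 1)] (.node [(226, 1, 1)] .nil .nil) (.node [(238, (-1), 1)] .nil .nil)) (.node [(214, 1, 1)] .nil .nil)) (.node [(178, (-1), 1)] .nil .nil)) (.node [(0, 2, 1), (1, 3, 1), (2, 4, 1), (3, 6, 1), (4, 5, 1), (5, 3, 1), (6, 2, 1), (7, 1, 1), (244, (-1), 2)] (.node [(164, (-1), 1)] (.node [(202, (-1), 1)] (.node [(227, 1, 1)] (.node [(245, (-1), 1)] .nil .nil) .nil) (.node [(239, 1, 1)] .nil .nil)) (.node [(218, 1, 1)] .nil .nil)) (.node [(187, 1, 1)] (.node [(210, (-1), 1)] .nil .nil) (.node [(224, (-1), 1)] (.node [(236, 1, 1)] .nil .nil) .nil)))) (.node [(244, 1, 1)] (.node [(123, 1, 1)] (.node [(160, 1, 1)] (.node [(198, 1, 1)] .nil .nil) .nil) (.node [] (.node [(208, (-1), 1)] (.node [(231, (-1), 1)] .nil .nil) .nil) (.node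 [(222, (-1), 1)] (.node [(234, 1, 1)] .nil .nil) (.node [(243, (-1), 1)] .nil .nil)))) (.node [(139, 1, 1)] (.node [(166, (-1), 1)] (.node [(204, (-1), 1)] (.node [(229, 1, 1)] (.node [(247, (-1), 1)] .nil .nil) .nil) .nil) (.node [(220, 1, 1)] .nil .nil)) (.node [(192, (-1), 1)] (.node [(212, 1, 1)] (.node [(232, 1, 1)] .nil .nil) .nil) .nil)))) (.node [] (.node [(244, (-1), 1)] (.node [(122, 1, 1)] (.node [(156, (-1), 1)] (.node [(197, (-1), 1)] .nil .nil) .nil) (.node [(182, 1, 1)] (.node [] .nil (.node [(240, (-1), 1)] .nil .nil)) .nil)) (.node [(134, 1, 1)] (.node [(165, 1, 1)] (.node [(203, 1, 1)] (.node [(228, (-1), 1)] (.node [(246, (-1), 1)] .nil .nil) .nil) .nil) (.node [(219, (-1), 1)] .nil (.node [(242, (-1), 1)] .nil .nil))) (.node [(188, (-1), 1)] .nil .nil))) (.node [] (.node [(124, 1, 1)] (.node [] .nil (.node [] (.node [(233, (-1), 1)] .nil .nil) .nil)) (.node [(186, (-1), 1)] (.node [(209, 1, 1)] .nil .nil) (.node [(223,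 1, 1)] (.node [(235, (-1), 1)] .nil .nil) .nil))) (.node [(145, 1, 1)] (.node [(173, 1, 1)] .nil .nil) (.node [] (.node [(213, (-1), 1)] .nil (.node [(241, (-1), 1)] .nil .nil)) .nil)))))
def X237 : Tr (List (ℕ × ℤ × ℕ)) := (.node [] (.node [] (.node [] (.node [] (.node [(152, 1, 1)] .nil (.node [(216, 1, 1)] .nil .nil)) (.node [(179, (-1), 1)] (.node [(208, (-1), 1)] .nil (.node [(240, (-1), 1)] .nil .nil)) (.node [(222, (-1), 1)] (.node [(234, 1, 1)] .nil .nil) .nil))) (.node [(131, 1, 1)] (.node [] .nil (.node [] .nil (.node [(242, (-1), 1)] .nil .nil))) (.node [(189, 1, 1)] (.node [(211, (-1), 1)] .nil .nil) (.node [(225, (-1), 1)] (.node [(237, 1, 1)] .nil .nil) .nil)))) (.node [(245, (-1), 1)] (.node [(126, 1, 1)] (.node [(161, 1, 1)] (.node [(200, 1, 1)] (.node [(227, 1, 1)] (.node [(246, (-1), 1)] .nil .nil) .nil) .nil) (.node [(218, 1, 1)] (.node [(233, (-1), 1)] .nil .nil) .nil)) (.node [(186, (-1), 1)] .nil .nil)) (.node [(140,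 1, 1)] (.node [(168, (-1), 1)] (.node [(206, (-1), 1)] (.node [(230, 1, 1)] .nil .nil) .nil) (.node [(221, 1, 1)] .nil .nil)) (.node [(193, (-1), 1)] (.node [] .nil (.node [(241, (-1), 1)] .nil .nil)) .nil)))) (.node [] (.node [] (.node [(125, 1, 1)] (.node [(157, (-1), 1)] (.node [(199, (-1), 1)] .nil .nil) .nil) (.node [(183, 1, 1)] (.node [(209, 1, 1)] (.node [(231, (-1), 1)] .nil .nil) .nil) (.node [(223, 1, 1)] (.node [(235, (-1), 1)] .nil .nil) (.node [(243, (-1), 1)] .nil .nil)))) (.node [(135, 1, 1)] (.node [(167, 1, 1)] (.node [(205, 1, 1)] .nil .nil) .nil) (.node [(190, (-1), 1)] (.node [(212, 1, 1)] (.node [(232, 1, 1)] .nil .nil) .nil) (.node [] .nil (.node [(244, (-1), 1)] .nil .nil))))) (.node [(245, 1, 1)] (.node [(0, 2, 1), (1, 3, 1), (2, 4, 1), (3, 6, 1), (4, 5, 1), (5, 4, 1), (6, 2, 1), (7, 1, 1), (245, (-1), 2)] (.node [(164, (-1), 1)] (.node [(202, (-1), 1)] (.node [(228, (-1), 1)] (.node [(247, (-1), 1)] .nil .nil)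 .nil) (.node [(239, 1, 1)] .nil .nil)) (.node [(219, (-1), 1)] .nil .nil)) .nil) (.node [(146, 1, 1)] (.node [(174, 1, 1)] .nil .nil) (.node [(196, 1, 1)] (.node [(215, (-1), 1)] .nil .nil) (.node [(226, 1, 1)] (.node [(238, (-1), 1)] .nil .nil) .nil))))))
def X238 : Tr (List (ℕ × ℤ × ℕ)) := (.node [] (.node [] (.node [] (.node [(246, 1, 1)] (.node [(153, 1, 1)] (.node [(199, (-1), 1)] .nil .nil) (.node [(217, 1, 1)] .nil .nil)) (.node [(180, (-1), 1)] (.node [] (.node [(231, (-1), 1)] .nil .nil) .nil) (.node [] .nil (.node [(243, (-1), 1)] .nil .nil)))) (.node [(132, 1, 1)] (.node [(167, 1, 1)] (.node [(205, 1, 1)] .nil .nil) .nil) (.node [] (.node [] (.node [(232, 1, 1)] .nil .nil) .nil) (.node [] .nil (.node [(244, (-1), 1)] .nil .nil))))) (.node [] (.node [(0, 2, 1), (1, 3, 1), (2, 4, 1), (3, 6, 1), (4, 5, 1), (5, 4, 1), (6, 3, 1), (7, 1, 1), (246, (-1), 2)] (.node [(162, 1, 1)] (.node [(201, 1, 1)] .nil (.node [(239, 1, 1)] .nil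 .nil)) .nil) (.node [(187, (-1), 1)] .nil .nil)) (.node [(141, 1, 1)] (.node [(169, (-1), 1)] (.node [(207, (-1), 1)] .nil .nil) .nil) (.node [(194, (-1), 1)] (.node [(215, (-1), 1)] .nil .nil) (.node [(226, 1, 1)] (.node [(238, (-1), 1)] .nil .nil) .nil))))) (.node [] (.node [] (.node [(127, 1, 1)] (.node [(158, (-1), 1)] (.node [] (.node [(227, 1, 1)] (.node [(247, (-1), 1)] .nil .nil) .nil) .nil) (.node [(218, 1, 1)] (.node [(233, (-1), 1)] .nil .nil) .nil)) (.node [(184, 1, 1)] (.node [(210, 1, 1)] .nil .nil) (.node [(224, 1, 1)] (.node [(236, (-1), 1)] .nil .nil) .nil))) (.node [(136, 1, 1)] (.node [] (.node [] (.node [(230, 1, 1)] .nil .nil) .nil) (.node [(221, 1, 1)] .nil .nil)) (.node [(191, (-1), 1)] (.node [(213, 1, 1)] .nil (.node [(241, (-1), 1)] .nil .nil)) .nil))) (.node [(246, (-1), 1)] (.node [(129, 1, 1)] (.node [(165, (-1), 1)] (.node [(203, (-1), 1)] (.node [(229, (-1), 1)] .nil .nil) .nil) (.node [(220, (-1), 1)] .nil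 (.node [(242, (-1), 1)] .nil .nil))) (.node [(189, 1, 1)] (.node [(211, (-1), 1)] .nil .nil) (.node [(225, (-1), 1)] (.node [(237, 1, 1)] .nil .nil) .nil))) (.node [(147, 1, 1)] (.node [(175, 1, 1)] (.node [(208, (-1), 1)] .nil (.node [(240, (-1), 1)] .nil .nil)) (.node [(222, (-1), 1)] (.node [(234, 1, 1)] .nil .nil) .nil)) (.node [(197, 1, 1)] .nil (.node [] .nil (.node [(245, (-1), 1)] .nil .nil)))))))
def X239 : Tr (List (ℕ × ℤ × ℕ)) := (.node [] (.node [] (.node [] (.node [(247, (-1), 1)] (.node [(154, 1, 1)] (.node [(200, (-1), 1)] (.node [] (.node [(246, (-1), 1)] .nil .nil) .nil) .nil) (.node [] (.node [(233, (-1), 1)] .nil .nil) .nil)) (.node [(181, (-1), 1)] (.node [(210, 1, 1)] .nil .nil) (.node [(224, 1, 1)] (.node [(236, (-1), 1)] .nil .nil) .nil))) (.node [(133, 1, 1)] (.node [(168, 1, 1)] (.node [(206, 1, 1)] (.node [(230, 1, 1)] .nil .nil) .nil) (.node [(221, 1, 1)] .nil .nil)) (.node [(191, (-1), 1)] (.node [] .nil (.node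 [(241, (-1), 1)] .nil .nil)) .nil))) (.node [] (.node [(128, 1, 1)] (.node [(163, 1, 1)] (.node [] (.node [(229, (-1), 1)] .nil .nil) .nil) (.node [(220, (-1), 1)] .nil (.node [(242, (-1), 1)] .nil .nil))) (.node [(188, (-1), 1)] (.node [(211, (-1), 1)] .nil .nil) (.node [(225, (-1), 1)] (.node [(237, 1, 1)] .nil .nil) .nil))) (.node [(142, 1, 1)] (.node [] (.node [] .nil (.node [(240, (-1), 1)] .nil .nil)) .nil) (.node [(195, (-1), 1)] (.node [(216, (-1), 1)] .nil .nil) (.node [] .nil (.node [(245, (-1), 1)] .nil .nil)))))) (.node [] (.node [] (.node [(0, 2, 1), (1, 3, 1), (2, 4, 1), (3, 6, 1), (4, 5, 1), (5, 4, 1), (6, 3, 1), (7, 2, 1), (247, (-1), 2)] (.node [(159, (-1), 1)] (.node [(201, 1, 1)] (.node [(228, 1, 1)] .nil .nil) (.node [(239, 1, 1)] .nil .nil)) (.node [(219, 1, 1)] .nil .nil)) (.node [(185, 1, 1)] .nil .nil)) (.node [(137, 1, 1)] (.node [(169, (-1), 1)] (.node [(207, (-1), 1)] .nil .nil) .nil) (.node [] (.node [(214,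 1, 1)] .nil .nil) (.node [(226, 1, 1)] (.node [(238, (-1), 1)] .nil .nil) .nil)))) (.node [] (.node [(130, 1, 1)] (.node [(166, (-1), 1)] (.node [(204, (-1), 1)] .nil .nil) .nil) (.node [(190, 1, 1)] (.node [] (.node [(232, 1, 1)] .nil .nil) .nil) (.node [] .nil (.node [(244, (-1), 1)] .nil .nil)))) (.node [(148, 1, 1)] (.node [(176, 1, 1)] (.node [(209, (-1), 1)] (.node [(231, (-1), 1)] .nil .nil) .nil) (.node [(223, (-1), 1)] (.node [(235, 1, 1)] .nil .nil) (.node [(243, (-1), 1)] .nil .nil))) (.node [(198, 1, 1)] (.node [(217, 1, 1)] .nil .nil) .nil)))))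
def M0 : Tr (List (ℕ × ℤ × ℕ × ℕ)) := (.node [] (.node [] (.node [] (.node [] (.node [] (.node [] .nil (.node [] .nil (.node [(62, (-1), 1, 1)] .nil .nil))) .nil) (.node [] (.node [] (.node [] .nil (.node [(28, (-1), 1, 1)] .nil .nil)) (.node [] .nil (.node [(88, 1, 1, 1)] .nil .nil))) (.node [] (.node [] (.node [(8, (-1), 1, 1)] .nil .nil) (.node [(46, (-1), 1, 1)] .nil .nil)) (.node [] (.node [(19, (-1), 1, 1)] .nil .nil) .nil)))) (.node [] (.node [] (.node [] .nil (.node [] .nil (.node [(78, 1, 1, 1)] .nil .nil))) (.node [] (.node [] .nil (.node [(40, 1, 1, 1)] .nil .nil)) .nil)) (.node [] (.node [] (.node [] .nil (.node [(33, (-1), 1, 1)] .nil .nil)) (.node [] .nil (.node [(110, (-1), 1, 1)] .nil .nil))) (.node [] (.node [] (.node [(9, 1, 1, 1)] .nil .nil) .nil) (.node [] (.node [(21, (-1), 1, 1)] .nil .nil) .nil))))) (.node [] (.node [] (.node [] (.node [] (.node [] (.node [(4, 1, 1, 1)] .nil .nil) (.node [(24, 1, 1, 1)] .nil .nil))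 (.node [] (.node [(12, (-1), 1, 1)] .nil .nil) (.node [(71, (-1), 1, 1)] .nil .nil))) (.node [] (.node [] .nil (.node [(38, 1, 1, 1)] .nil .nil)) (.node [] (.node [(16, 1, 1, 1)] .nil .nil) .nil))) (.node [] (.node [] (.node [] .nil (.node [(30, (-1), 1, 1)] .nil .nil)) (.node [] .nil (.node [(99, (-1), 1, 1)] .nil .nil))) (.node [] (.node [] .nil (.node [(49, (-1), 1, 1)] .nil .nil)) .nil))) (.node [] (.node [] (.node [] .nil (.node [] .nil (.node [(81, 1, 1, 1)] .nil .nil))) (.node [] (.node [] .nil (.node [(43, 1, 1, 1)] .nil .nil)) .nil)) (.node [] (.node [] .nil (.node [] (.node [(15, (-1), 1, 1)] .nil .nil) (.node [(117, (-1), 1, 1)] .nil .nil))) (.node [] (.node [] .nil (.node [(57, (-1), 1, 1)] .nil .nil)) (.node [(3, 1, 1, 1)] .nil .nil)))))) (.node [] (.node [] (.node [] (.node [] (.node [] (.node [] .nil (.node [(23, (-1), 1, 1)] .nil .nil)) (.node [] (.node [(11, 1, 1, 1)] .nil .nil) (.node [(66, 1, 1, 1)] .nil .nil))) (.node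 [] (.node [] .nil (.node [(37, (-1), 1, 1)] .nil .nil)) .nil)) (.node [] (.node [] .nil (.node [] (.node [(14, 1, 1, 1)] .nil .nil) (.node [(93, (-1), 1, 1)] .nil .nil))) (.node [] (.node [] .nil (.node [(47, 1, 1, 1)] .nil .nil)) (.node [(1, 1, 1, 1)] .nil .nil)))) (.node [] (.node [] (.node [] (.node [] .nil (.node [(26, (-1), 1, 1)] .nil .nil)) (.node [] .nil (.node [(79, (-1), 1, 1)] .nil .nil))) (.node [] (.node [] .nil (.node [(41, (-1), 1, 1)] .nil .nil)) (.node [] (.node [(17, (-1), 1, 1)] .nil .nil) .nil))) (.node [] (.node [] (.node [] (.node [(6, 1, 1, 1)] .nil .nil) .nil) (.node [] .nil (.node [(114, (-1), 1, 1)] .nil .nil))) (.node [] (.node [] .nil (.node [(56, 1, 1, 1)] .nil .nil)) .nil)))) (.node [] (.node [] (.node [] .nil (.node [] (.node [] (.node [(7, 1, 1, 1)] .nil .nil) .nil) .nil)) (.node [] (.node [] (.node [] .nil (.node [(31, 1, 1, 1)] .nil .nil)) (.node [] .nil (.node [(105, (-1), 1, 1)] .nil .nil))) (.node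 [] (.node [] .nil (.node [(52, 1, 1, 1)] .nil .nil)) (.node [(2, 1, 1, 1)] .nil .nil)))) (.node [] (.node [] (.node [] (.node [] (.node [(5, 1, 1, 1)] .nil .nil) (.node [(27, 1, 1, 1)] .nil .nil)) (.node [] .nil (.node [(84, (-1), 1, 1)] .nil .nil))) (.node [] .nil (.node [] (.node [(18, 1, 1, 1)] .nil .nil) .nil))) (.node [] (.node [] (.node [] .nil (.node [(36, 1, 1, 1)] .nil .nil)) (.node [] .nil (.node [(119, (-1), 1, 1)] .nil .nil))) (.node [] (.node [] (.node [(10, (-1), 1, 1)] .nil .nil) (.node [(59, 1, 1, 1)] .nil .nil)) (.node [] (.node [(22, 1, 1, 1)] .nil .nil) .nil)))))))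
def C0 : List (ℕ × List (ℕ × ℤ)) := [(120, [(1, 1)]), (122, [(2, 1)]), (125, [(3, 1)]), (129, [(4, 1)]), (134, [(5, 1)]), (140, [(6, 1)]), (146, [(7, 1)]), (151, [(8, (-1))]), (155, [(9, 1)]), (158, [(10, (-1))]), (160, [(11, 1)]), (161, [(12, (-1))]), (168, [(14, 1)]), (173, [(15, (-1))]), (177, [(16, 1)]), (180, [(17, (-1))]), (182, [(18, 1)]), (183, [(19, (-1))]), (187, [(21, (-1))]), (190, [(22, 1)]), (192, [(23, (-1))]), (193, [(24, 1)]), (196, [(26, (-1))]), (198, [(27, 1)]), (199, [(28, (-1))]), (201, [(30, (-1))]), (202, [(31, 1)]), (203, [(33, (-1))]), (206, [(36, 1)]), (208, [(37, (-1))]), (209, [(38, 1)]), (211, [(40, 1)]), (212, [(41, (-1))]), (213, [(43, 1)]), (215, [(46, (-1))]), (216, [(47, 1)]), (217, [(49, (-1))]), (218, [(52, 1)]), (220, [(56, 1)]), (221, [(57, (-1))]), (222, [(59, 1)]), (223, [(62, (-1))]), (224, [(66, 1)]), (225, [(71, (-1))]), (227, [(78, 1)]), (228, [(79, (-1))]), (229, [(81, 1)]), (230, [(84, (-1))]),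 (231, [(88, 1)]), (232, [(93, (-1))]), (233, [(99, (-1))]), (234, [(105, (-1))]), (235, [(110, (-1))]), (236, [(114, (-1))]), (237, [(117, (-1))]), (238, [(119, (-1))])]
def M1 : Tr (List (ℕ × ℤ × ℕ × ℕ)) := (.node [] (.node [] (.node [] (.node [] (.node [] (.node [] (.node [] .nil (.node [(23, (-1), 1, 1)] .nil .nil)) (.node [] (.node [(11, 1, 1, 1)] .nil .nil) (.node [(63, (-1), 1, 1)] .nil .nil))) (.node [] (.node [] .nil (.node [(37, (-1), 1, 1)] .nil .nil)) (.node [] .nil (.node [(120, (-1), 1, 1)] .nil .nil)))) (.node [] (.node [] (.node [] .nil (.node [(29, (-1), 1, 1)] .nil .nil)) (.node [] (.node [(14, 1, 1, 1)] .nil .nil) (.node [(89, 1, 1, 1)] .nil .nil))) (.node [] .nil (.node [(0, 1, 1, 1)] (.node [(20, (-1), 1, 1)] .nil .nil) .nil)))) (.node [] (.node [] (.node [] (.node [] .nil (.node [(26, (-1), 1, 1)] .nil .nil)) .nil) (.node [] .nil (.node [] (.node [(17, (-1), 1, 1)] .nil .nil) .nil))) (.node [] (.node [] (.node []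 (.node [(6, 1, 1, 1)] .nil .nil) (.node [(34, (-1), 1, 1)] .nil .nil)) (.node [] .nil (.node [(111, (-1), 1, 1)] .nil .nil))) (.node [] (.node [] .nil (.node [(56, 1, 1, 1)] .nil .nil)) .nil)))) (.node [] (.node [] (.node [] (.node [] (.node [] .nil (.node [(25, 1, 1, 1)] .nil .nil)) (.node [] (.node [(13, (-1), 1, 1)] .nil .nil) (.node [(72, (-1), 1, 1)] .nil .nil))) (.node [] (.node [] (.node [(7, 1, 1, 1)] .nil .nil) (.node [(39, 1, 1, 1)] .nil .nil)) .nil)) (.node [] (.node [] .nil (.node [] .nil (.node [(100, (-1), 1, 1)] .nil .nil))) (.node [] (.node [] .nil (.node [(50, (-1), 1, 1)] .nil .nil)) (.node [(2, 1, 1, 1)] .nil .nil)))) (.node [] (.node [] (.node [] (.node [] (.node [(5, 1, 1, 1)] .nil .nil) (.node [(27, 1, 1, 1)] .nil .nil)) (.node [] .nil (.node [(82, 1, 1, 1)] .nil .nil))) (.node [] (.node [] .nil (.node [(44, 1, 1, 1)] .nil .nil)) (.node [] (.node [(18, 1, 1, 1)] .nil .nil) .nil))) (.node [] (.node [] (.node [] .nil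 (.node [(36, 1, 1, 1)] .nil .nil)) (.node [] .nil (.node [(118, (-1), 1, 1)] .nil .nil))) (.node [] (.node [] (.node [(10, (-1), 1, 1)] .nil .nil) (.node [(58, (-1), 1, 1)] .nil .nil)) (.node [] (.node [(22, 1, 1, 1)] .nil .nil) .nil)))))) (.node [] (.node [] (.node [] (.node [] (.node [] (.node [] (.node [(4, 1, 1, 1)] .nil .nil) .nil) (.node [] .nil (.node [(67, 1, 1, 1)] .nil .nil))) (.node [] .nil (.node [] (.node [(16, 1, 1, 1)] .nil .nil) .nil))) (.node [] (.node [] (.node [] .nil (.node [(30, (-1), 1, 1)] .nil .nil)) (.node [] .nil (.node [(94, (-1), 1, 1)] .nil .nil))) (.node [] (.node [] .nil (.node [(48, 1, 1, 1)] .nil .nil)) .nil))) (.node [] (.node [] (.node [] .nil (.node [] .nil (.node [(80, (-1), 1, 1)] .nil .nil))) (.node [] (.node [] .nil (.node [(42, (-1), 1, 1)] .nil .nil)) .nil)) (.node [] (.node [] .nil (.node [] (.node [(15, (-1), 1, 1)] .nil .nil) (.node [(115, (-1), 1, 1)] .nil .nil))) (.node [] .nil (.node [(3,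 1, 1, 1)] .nil .nil))))) (.node [] (.node [] (.node [] (.node [] .nil (.node [] .nil (.node [(78, 1, 1, 1)] .nil .nil))) (.node [] (.node [] .nil (.node [(40, 1, 1, 1)] .nil .nil)) .nil)) (.node [] (.node [] (.node [] .nil (.node [(32, 1, 1, 1)] .nil .nil)) (.node [] .nil (.node [(106, (-1), 1, 1)] .nil .nil))) (.node [] (.node [] (.node [(9, 1, 1, 1)] .nil .nil) (.node [(53, 1, 1, 1)] .nil .nil)) (.node [] (.node [(21, (-1), 1, 1)] .nil .nil) .nil)))) (.node [] (.node [] (.node [] .nil (.node [] .nil (.node [(85, (-1), 1, 1)] .nil .nil))) (.node [] (.node [] (.node [(8, (-1), 1, 1)] .nil .nil) (.node [(46, (-1), 1, 1)] .nil .nil)) .nil)) (.node [] .nil (.node [] (.node [] .nil (.node [(60, 1, 1, 1)] .nil .nil)) .nil))))))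
def C1 : List (ℕ × List (ℕ × ℤ)) := [(119, [(0, 1)]), (121, [(2, 1)]), (124, [(3, 1)]), (128, [(4, 1)]), (133, [(5, 1)]), (139, [(6, 1)]), (145, [(7, 1)]), (150, [(8, (-1))]), (154, [(9, 1)]), (157, [(10, (-1))]), (159, [(11, 1)]), (161, [(13, (-1))]), (167, [(14, 1)]), (172, [(15, (-1))]), (176, [(16, 1)]), (179, [(17, (-1))]), (181, [(18, 1)]), (183, [(20, (-1))]), (186, [(21, (-1))]), (189, [(22, 1)]), (191, [(23, (-1))]), (193, [(25, 1)]), (195, [(26, (-1))]), (197, [(27, 1)]), (199, [(29, (-1))]), (200, [(30, (-1))]), (202, [(32, 1)]), (203, [(34, (-1))]), (205, [(36, 1)]), (207, [(37, (-1))]), (209, [(39, 1)]), (210, [(40, 1)]), (212, [(42, (-1))]), (213, [(44, 1)]), (214, [(46, (-1))]), (216, [(48, 1)]), (217, [(50, (-1))]), (218, [(53, 1)]), (219, [(56, 1)]), (221, [(58, (-1))]), (222, [(60, 1)]), (223, [(63, (-1))]), (224, [(67, 1)]), (225, [(72, (-1))]), (226, [(78, 1)]), (228, [(80, (-1))]), (229, [(82, 1)]), (230, [(85, (-1))]),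 (231, [(89, 1)]), (232, [(94, (-1))]), (233, [(100, (-1))]), (234, [(106, (-1))]), (235, [(111, (-1))]), (236, [(115, (-1))]), (237, [(118, (-1))]), (239, [(120, (-1))])]
def M2 : Tr (List (ℕ × ℤ × ℕ × ℕ)) := (.node [] (.node [] (.node [] (.node [] (.node [] (.node [] (.node [] (.node [(4, 1, 1, 1)] .nil .nil) (.node [(24, (-1), 1, 1)] .nil .nil)) (.node [] (.node [(12, 1, 1, 1)] .nil .nil) (.node [(64, (-1), 1, 1)] .nil .nil))) (.node [] (.node [] .nil (.node [(38, (-1), 1, 1)] .nil .nil)) (.node [] (.node [(16, 1, 1, 1)] .nil .nil) (.node [(122, (-1), 1, 1)] .nil .nil)))) (.node [] (.node [] .nil (.node [] .nil (.node [(90, 1, 1, 1)] .nil .nil))) (.node [] (.node [] .nil (.node [(48, 1, 1, 1)] .nil .nil)) .nil))) (.node [] (.node [] (.node [] .nil (.node [] .nil (.node [(80, (-1), 1, 1)] .nil .nil))) (.node [] (.node [] .nil (.node [(42, (-1), 1, 1)] .nil .nil)) .nil)) (.node [] (.node [] (.node [] .nil (.node [(35, (-1), 1, 1)] .nil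 .nil)) (.node [] (.node [(15, (-1), 1, 1)] .nil .nil) (.node [(112, (-1), 1, 1)] .nil .nil))) (.node [] (.node [] .nil (.node [(57, 1, 1, 1)] .nil .nil)) (.node [(3, 1, 1, 1)] .nil .nil))))) (.node [] (.node [] (.node [] (.node [] .nil (.node [] .nil (.node [(73, (-1), 1, 1)] .nil .nil))) .nil) (.node [] (.node [] (.node [] .nil (.node [(32, 1, 1, 1)] .nil .nil)) (.node [] .nil (.node [(101, (-1), 1, 1)] .nil .nil))) (.node [] (.node [] (.node [(9, 1, 1, 1)] .nil .nil) (.node [(51, (-1), 1, 1)] .nil .nil)) (.node [] (.node [(21, (-1), 1, 1)] .nil .nil) .nil)))) (.node [] (.node [] (.node [] (.node [] .nil (.node [(28, 1, 1, 1)] .nil .nil)) (.node [] .nil (.node [(83, 1, 1, 1)] .nil .nil))) (.node [] (.node [] (.node [(8, (-1), 1, 1)] .nil .nil) (.node [(45, 1, 1, 1)] .nil .nil)) (.node [(0, 1, 1, 1)] (.node [(19, 1, 1, 1)] .nil .nil) .nil))) .nil))) (.node [] (.node [] (.node [] (.node [] (.node [] (.node [] .nil (.node [(25, 1, 1, 1)]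 .nil .nil)) (.node [] (.node [(13, (-1), 1, 1)] .nil .nil) (.node [(68, 1, 1, 1)] .nil .nil))) (.node [] (.node [] (.node [(7, 1, 1, 1)] .nil .nil) (.node [(39, 1, 1, 1)] .nil .nil)) .nil)) (.node [] (.node [] (.node [] .nil (.node [(31, (-1), 1, 1)] .nil .nil)) (.node [] .nil (.node [(95, (-1), 1, 1)] .nil .nil))) .nil)) (.node [] (.node [] (.node [] (.node [] (.node [(5, 1, 1, 1)] .nil .nil) .nil) .nil) .nil) (.node [] (.node [] (.node [] .nil (.node [(36, 1, 1, 1)] .nil .nil)) (.node [] .nil (.node [(116, (-1), 1, 1)] .nil .nil))) (.node [] (.node [] (.node [(10, (-1), 1, 1)] .nil .nil) (.node [(58, (-1), 1, 1)] .nil .nil)) (.node [] (.node [(22, 1, 1, 1)] .nil .nil) .nil))))) (.node [] (.node [] (.node [] (.node [] (.node [] .nil (.node [(26, (-1), 1, 1)] .nil .nil)) (.node [] .nil (.node [(79, 1, 1, 1)] .nil .nil))) (.node [] (.node [] .nil (.node [(41, 1, 1, 1)] .nil .nil)) (.node [] (.node [(17, (-1), 1, 1)] .nil .nil) .nil)))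 (.node [] (.node [] (.node [] (.node [(6, 1, 1, 1)] .nil .nil) .nil) (.node [] .nil (.node [(107, (-1), 1, 1)] .nil .nil))) (.node [] (.node [] .nil (.node [(54, 1, 1, 1)] .nil .nil)) .nil))) (.node [] (.node [] (.node [] (.node [] .nil (.node [(29, (-1), 1, 1)] .nil .nil)) (.node [] (.node [(14, 1, 1, 1)] .nil .nil) (.node [(86, (-1), 1, 1)] .nil .nil))) (.node [] (.node [] .nil (.node [(47, (-1), 1, 1)] .nil .nil)) (.node [(1, 1, 1, 1)] (.node [(20, (-1), 1, 1)] .nil .nil) .nil))) (.node [] (.node [] .nil (.node [] .nil (.node [(121, (-1), 1, 1)] .nil .nil))) (.node [] (.node [] .nil (.node [(61, 1, 1, 1)] .nil .nil)) .nil))))))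
def C2 : List (ℕ × List (ℕ × ℤ)) := [(117, [(0, 1)]), (118, [(1, 1)]), (123, [(3, 1)]), (127, [(4, 1)]), (132, [(5, 1)]), (138, [(6, 1)]), (144, [(7, 1)]), (149, [(8, (-1))]), (153, [(9, 1)]), (156, [(10, (-1))]), (159, [(12, 1)]), (160, [(13, (-1))]), (166, [(14, 1)]), (171, [(15, (-1))]), (175, [(16, 1)]), (178, [(17, (-1))]), (181, [(19, 1)]), (182, [(20, (-1))]), (185, [(21, (-1))]), (188, [(22, 1)]), (191, [(24, (-1))]), (192, [(25, 1)]), (194, [(26, (-1))]), (197, [(28, 1)]), (198, [(29, (-1))]), (200, [(31, (-1))]), (201, [(32, 1)]), (203, [(35, (-1))]), (204, [(36, 1)]), (207, [(38, (-1))]), (208, [(39, 1)]), (210, [(41, 1)]), (211, [(42, (-1))]), (213, [(45, 1)]), (214, [(47, (-1))]), (215, [(48, 1)]), (217, [(51, (-1))]), (218, [(54, 1)]), (219, [(57, 1)]), (220, [(58, (-1))]), (222, [(61, 1)]), (223, [(64, (-1))]), (224, [(68, 1)]), (225, [(73, (-1))]), (226, [(79, 1)]), (227, [(80, (-1))]), (229, [(83, 1)]), (230, [(86, (-1))]),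 (231, [(90, 1)]), (232, [(95, (-1))]), (233, [(101, (-1))]), (234, [(107, (-1))]), (235, [(112, (-1))]), (236, [(116, (-1))]), (238, [(121, (-1))]), (239, [(122, (-1))])]
def M3 : Tr (List (ℕ × ℤ × ℕ × ℕ)) := (.node [] (.node [] (.node [] (.node [] (.node [] (.node [] .nil (.node [] .nil (.node [(65, (-1), 1, 1)] .nil .nil))) (.node [] (.node [] (.node [(7, 1, 1, 1)] .nil .nil) .nil) (.node [] .nil (.node [(125, (-1), 1, 1)] .nil .nil)))) (.node [] (.node [] .nil (.node [] .nil (.node [(91, 1, 1, 1)] .nil .nil))) (.node [] (.node [] .nil (.node [(50, 1, 1, 1)] .nil .nil)) .nil))) (.node [] (.node [] (.node [] (.node [] (.node [(5, 1, 1, 1)] .nil .nil) (.node [(28, 1, 1, 1)] .nil .nil)) (.node [] .nil (.node [(82, (-1), 1, 1)] .nil .nil))) (.node [] (.node [] .nil (.node [(44, (-1), 1, 1)] .nil .nil)) (.node [(1, 1, 1, 1)] (.node [(19, 1, 1, 1)] .nil .nil) .nil))) (.node [] (.node [] .nil (.node [] .nil (.node [(113, (-1), 1, 1)] .nil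 .nil))) (.node [] (.node [] .nil (.node [(59, 1, 1, 1)] .nil .nil)) .nil)))) (.node [] (.node [] (.node [] (.node [] .nil (.node [] .nil (.node [(74, (-1), 1, 1)] .nil .nil))) .nil) (.node [] (.node [] (.node [] (.node [(6, 1, 1, 1)] .nil .nil) (.node [(34, 1, 1, 1)] .nil .nil)) (.node [] .nil (.node [(102, (-1), 1, 1)] .nil .nil))) .nil)) (.node [] (.node [] (.node [] .nil (.node [] (.node [(14, 1, 1, 1)] .nil .nil) .nil)) .nil) (.node [] (.node [] (.node [] .nil (.node [(38, (-1), 1, 1)] .nil .nil)) (.node [] .nil (.node [(123, (-1), 1, 1)] .nil .nil))) (.node [] (.node [] (.node [(12, 1, 1, 1)] .nil .nil) (.node [(61, 1, 1, 1)] .nil .nil)) (.node [] (.node [(24, (-1), 1, 1)] .nil .nil) .nil)))))) (.node [] (.node [] (.node [] (.node [] (.node [] .nil (.node [] .nil (.node [(69, 1, 1, 1)] .nil .nil))) .nil) (.node [] (.node [] (.node [] .nil (.node [(33, (-1), 1, 1)] .nil .nil)) (.node [] .nil (.node [(96, (-1), 1, 1)] .nil .nil)))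 (.node [] (.node [] (.node [(9, 1, 1, 1)] .nil .nil) (.node [(51, (-1), 1, 1)] .nil .nil)) (.node [] (.node [(21, (-1), 1, 1)] .nil .nil) .nil)))) (.node [] (.node [] (.node [] (.node [] .nil (.node [(29, (-1), 1, 1)] .nil .nil)) (.node [] .nil (.node [(83, 1, 1, 1)] .nil .nil))) (.node [] (.node [] (.node [(8, (-1), 1, 1)] .nil .nil) (.node [(45, 1, 1, 1)] .nil .nil)) (.node [(2, 1, 1, 1)] (.node [(20, (-1), 1, 1)] .nil .nil) .nil))) (.node [] (.node [] (.node [] .nil (.node [(37, 1, 1, 1)] .nil .nil)) .nil) (.node [] (.node [] (.node [(11, (-1), 1, 1)] .nil .nil) (.node [(60, (-1), 1, 1)] .nil .nil)) (.node [] (.node [(23, 1, 1, 1)] .nil .nil) .nil))))) (.node [] (.node [] (.node [] (.node [] (.node [] .nil (.node [(27, (-1), 1, 1)] .nil .nil)) (.node [] .nil (.node [(81, 1, 1, 1)] .nil .nil))) (.node [] (.node [] .nil (.node [(43, 1, 1, 1)] .nil .nil)) (.node [(0, 1, 1, 1)] (.node [(18, (-1), 1, 1)] .nil .nil) .nil))) (.node [] (.node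 [] (.node [] .nil (.node [(35, (-1), 1, 1)] .nil .nil)) (.node [] (.node [(15, (-1), 1, 1)] .nil .nil) (.node [(108, (-1), 1, 1)] .nil .nil))) (.node [] (.node [] .nil (.node [(55, 1, 1, 1)] .nil .nil)) .nil))) (.node [] (.node [] (.node [] .nil (.node [] .nil (.node [(87, (-1), 1, 1)] .nil .nil))) (.node [] (.node [] .nil (.node [(49, (-1), 1, 1)] .nil .nil)) .nil)) (.node [] (.node [] (.node [] .nil (.node [(39, 1, 1, 1)] .nil .nil)) (.node [] (.node [(16, 1, 1, 1)] .nil .nil) (.node [(124, (-1), 1, 1)] .nil .nil))) (.node [] (.node [] (.node [(13, (-1), 1, 1)] .nil .nil) .nil) (.node [(4, 1, 1, 1)] (.node [(25, 1, 1, 1)] .nil .nil) .nil)))))))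
def C3 : List (ℕ × List (ℕ × ℤ)) := [(114, [(0, 1)]), (115, [(1, 1)]), (116, [(2, 1)]), (126, [(4, 1)]), (131, [(5, 1)]), (137, [(6, 1)]), (143, [(7, 1)]), (148, [(8, (-1))]), (152, [(9, 1)]), (156, [(11, (-1))]), (157, [(12, 1)]), (158, [(13, (-1))]), (165, [(14, 1)]), (170, [(15, (-1))]), (174, [(16, 1)]), (178, [(18, (-1))]), (179, [(19, 1)]), (180, [(20, (-1))]), (184, [(21, (-1))]), (188, [(23, 1)]), (189, [(24, (-1))]), (190, [(25, 1)]), (194, [(27, (-1))]), (195, [(28, 1)]), (196, [(29, (-1))]), (200, [(33, (-1))]), (201, [(34, 1)]), (202, [(35, (-1))]), (204, [(37, 1)]), (205, [(38, (-1))]), (206, [(39, 1)]), (210, [(43, 1)]), (211, [(44, (-1))]), (212, [(45, 1)]), (214, [(49, (-1))]), (215, [(50, 1)]), (216, [(51, (-1))]), (218, [(55, 1)]), (219, [(59, 1)]), (220, [(60, (-1))]), (221, [(61, 1)]), (223, [(65, (-1))]), (224, [(69, 1)]), (225, [(74, (-1))]), (226, [(81, 1)]), (227, [(82, (-1))]), (228, [(83, 1)]), (230, [(87, (-1))]),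 (231, [(91, 1)]), (232, [(96, (-1))]), (233, [(102, (-1))]), (234, [(108, (-1))]), (235, [(113, (-1))]), (237, [(123, (-1))]), (238, [(124, (-1))]), (239, [(125, (-1))])]
def M4 : Tr (List (ℕ × ℤ × ℕ × ℕ)) := (.node [] (.node [] (.node [] (.node [] (.node [] .nil (.node [] (.node [] .nil (.node [(43, 1, 1, 1)] .nil .nil)) (.node [(1, 1, 1, 1)] (.node [(18, (-1), 1, 1)] .nil .nil) (.node [(129, (-1), 1, 1)] .nil .nil)))) (.node [] (.node [] (.node [] .nil (.node [(35, (-1), 1, 1)] .nil .nil)) (.node [] .nil (.node [(92, 1, 1, 1)] .nil .nil))) (.node [] (.node [] .nil (.node [(53, 1, 1, 1)] .nil .nil)) .nil))) (.node [] (.node [] (.node [] (.node [] .nil (.node [(31, 1, 1, 1)] .nil .nil)) (.node [] .nil (.node [(85, (-1), 1, 1)] .nil .nil))) (.node [] (.node [] (.node [(8, (-1), 1, 1)] .nil .nil) .nil) .nil)) (.node [] .nil (.node [] (.node [] (.node [(13, (-1), 1, 1)] .nil .nil) (.node [(62, 1, 1, 1)] .nil .nil)) (.node [] (.node [(25,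 1, 1, 1)] .nil .nil) .nil))))) (.node [] (.node [] (.node [] (.node [] .nil (.node [] .nil (.node [(75, (-1), 1, 1)] .nil .nil))) (.node [] (.node [] .nil (.node [(45, 1, 1, 1)] .nil .nil)) (.node [(3, 1, 1, 1)] (.node [(20, (-1), 1, 1)] .nil .nil) .nil))) (.node [] (.node [] .nil (.node [] (.node [(15, (-1), 1, 1)] .nil .nil) (.node [(103, (-1), 1, 1)] .nil .nil))) (.node [] (.node [] (.node [(11, (-1), 1, 1)] .nil .nil) (.node [(55, 1, 1, 1)] .nil .nil)) (.node [] (.node [(23, 1, 1, 1)] .nil .nil) .nil)))) (.node [] (.node [] (.node [] (.node [] .nil (.node [(33, (-1), 1, 1)] .nil .nil)) (.node [] .nil (.node [(87, (-1), 1, 1)] .nil .nil))) .nil) (.node [] (.node [] (.node [] .nil (.node [(41, (-1), 1, 1)] .nil .nil)) (.node [] .nil (.node [(127, (-1), 1, 1)] .nil .nil))) (.node [] (.node [] .nil (.node [(64, 1, 1, 1)] .nil .nil)) .nil))))) (.node [] (.node [] (.node [] (.node [] (.node [] .nil (.node [] .nil (.node [(70, 1, 1, 1)]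 .nil .nil))) (.node [] (.node [] .nil (.node [(44, (-1), 1, 1)] .nil .nil)) (.node [(2, 1, 1, 1)] (.node [(19, 1, 1, 1)] .nil .nil) .nil))) (.node [] (.node [] (.node [] (.node [(6, 1, 1, 1)] .nil .nil) .nil) (.node [] .nil (.node [(97, (-1), 1, 1)] .nil .nil))) (.node [] (.node [] (.node [(10, 1, 1, 1)] .nil .nil) (.node [(54, (-1), 1, 1)] .nil .nil)) (.node [] (.node [(22, (-1), 1, 1)] .nil .nil) .nil)))) (.node [] (.node [] (.node [] (.node [] .nil (.node [(32, (-1), 1, 1)] .nil .nil)) (.node [] (.node [(14, 1, 1, 1)] .nil .nil) (.node [(86, 1, 1, 1)] .nil .nil))) .nil) (.node [] (.node [] (.node [] .nil (.node [(40, 1, 1, 1)] .nil .nil)) (.node [] .nil (.node [(126, (-1), 1, 1)] .nil .nil))) (.node [] (.node [] .nil (.node [(63, (-1), 1, 1)] .nil .nil)) .nil)))) (.node [] (.node [] (.node [] (.node [] (.node [] (.node [(5, 1, 1, 1)] .nil .nil) (.node [(30, (-1), 1, 1)] .nil .nil)) (.node [] .nil (.node [(84, 1, 1, 1)] .nil .nil)))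 .nil) (.node [] (.node [] .nil (.node [] .nil (.node [(109, (-1), 1, 1)] .nil .nil))) (.node [] (.node [] (.node [(12, 1, 1, 1)] .nil .nil) .nil) (.node [] (.node [(24, (-1), 1, 1)] .nil .nil) .nil)))) (.node [] (.node [] (.node [] (.node [] .nil (.node [(34, 1, 1, 1)] .nil .nil)) .nil) (.node [] (.node [] .nil (.node [(52, (-1), 1, 1)] .nil .nil)) .nil)) (.node [] (.node [] (.node [] (.node [(7, 1, 1, 1)] .nil .nil) (.node [(42, 1, 1, 1)] .nil .nil)) (.node [(0, 1, 1, 1)] (.node [(17, 1, 1, 1)] .nil .nil) (.node [(128, (-1), 1, 1)] .nil .nil))) (.node [] (.node [] .nil (.node [(65, (-1), 1, 1)] .nil .nil)) .nil))))))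
def C4 : List (ℕ × List (ℕ × ℤ)) := [(110, [(0, 1)]), (111, [(1, 1)]), (112, [(2, 1)]), (113, [(3, 1)]), (130, [(5, 1)]), (136, [(6, 1)]), (142, [(7, 1)]), (147, [(8, (-1))]), (152, [(10, 1)]), (153, [(11, (-1))]), (154, [(12, 1)]), (155, [(13, (-1))]), (164, [(14, 1)]), (169, [(15, (-1))]), (174, [(17, 1)]), (175, [(18, (-1))]), (176, [(19, 1)]), (177, [(20, (-1))]), (184, [(22, (-1))]), (185, [(23, 1)]), (186, [(24, (-1))]), (187, [(25, 1)]), (194, [(30, (-1))]), (195, [(31, 1)]), (196, [(32, (-1))]), (197, [(33, (-1))]), (198, [(34, 1)]), (199, [(35, (-1))]), (204, [(40, 1)]), (205, [(41, (-1))]), (206, [(42, 1)]), (207, [(43, 1)]), (208, [(44, (-1))]), (209, [(45, 1)]), (214, [(52, (-1))]), (215, [(53, 1)]), (216, [(54, (-1))]), (217, [(55, 1)]), (219, [(62, 1)]), (220, [(63, (-1))]), (221, [(64, 1)]), (222, [(65, (-1))]), (224, [(70, 1)]), (225, [(75, (-1))]), (226, [(84, 1)]), (227, [(85, (-1))]), (228, [(86, 1)]), (229, [(87, (-1))]),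 (231, [(92, 1)]), (232, [(97, (-1))]), (233, [(103, (-1))]), (234, [(109, (-1))]), (236, [(126, (-1))]), (237, [(127, (-1))]), (238, [(128, (-1))]), (239, [(129, (-1))])]
def M5 : Tr (List (ℕ × ℤ × ℕ × ℕ)) := (.node [] (.node [] (.node [] (.node [] (.node [] (.node [] (.node [] .nil (.node [(33, (-1), 1, 1)] .nil .nil)) (.node [] .nil (.node [(70, 1, 1, 1)] .nil .nil))) (.node [] (.node [] .nil (.node [(49, 1, 1, 1)] .nil .nil)) (.node [] .nil (.node [(134, (-1), 1, 1)] .nil .nil)))) (.node [] (.node [] (.node [] (.node [(6, 1, 1, 1)] .nil .nil) .nil) .nil) (.node [] (.node [] (.node [(13, (-1), 1, 1)] .nil .nil) .nil) .nil))) (.node [] (.node [] (.node [] .nil (.node [] (.node [(14, 1, 1, 1)] .nil .nil) (.node [(89, (-1), 1, 1)] .nil .nil))) (.node [] (.node [] (.node [(9, (-1), 1, 1)] .nil .nil) (.node [(53, 1, 1, 1)] .nil .nil)) .nil)) (.node [] (.node [] .nil (.node [(2, 1, 1, 1)] (.node [(18, (-1), 1, 1)] .nil .nil) (.node [(130,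 (-1), 1, 1)] .nil .nil))) (.node [] (.node [] .nil (.node [(66, 1, 1, 1)] .nil .nil)) (.node [] (.node [(29, 1, 1, 1)] .nil .nil) .nil))))) (.node [] (.node [] (.node [] (.node [] (.node [] .nil (.node [(35, (-1), 1, 1)] .nil .nil)) (.node [] .nil (.node [(76, (-1), 1, 1)] .nil .nil))) (.node [] (.node [] .nil (.node [(51, 1, 1, 1)] .nil .nil)) .nil)) (.node [] (.node [] .nil (.node [(0, 1, 1, 1)] (.node [(16, (-1), 1, 1)] .nil .nil) (.node [(104, (-1), 1, 1)] .nil .nil))) (.node [] .nil (.node [] (.node [(27, 1, 1, 1)] .nil .nil) .nil)))) (.node [] (.node [] (.node [] .nil (.node [] .nil (.node [(91, (-1), 1, 1)] .nil .nil))) (.node [] (.node [] (.node [(11, (-1), 1, 1)] .nil .nil) (.node [(55, 1, 1, 1)] .nil .nil)) .nil)) (.node [] (.node [] (.node [] (.node [(7, 1, 1, 1)] .nil .nil) (.node [(47, (-1), 1, 1)] .nil .nil)) (.node [(4, 1, 1, 1)] (.node [(20, (-1), 1, 1)] .nil .nil) (.node [(132, (-1), 1, 1)] .nil .nil))) (.node [] (.node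 [] .nil (.node [(68, 1, 1, 1)] .nil .nil)) (.node [] (.node [(31, 1, 1, 1)] .nil .nil) .nil)))))) (.node [] (.node [] (.node [] (.node [] (.node [] (.node [] .nil (.node [(34, 1, 1, 1)] .nil .nil)) .nil) (.node [] (.node [] .nil (.node [(50, (-1), 1, 1)] .nil .nil)) .nil)) (.node [] (.node [] .nil (.node [] .nil (.node [(98, (-1), 1, 1)] .nil .nil))) (.node [] .nil (.node [] (.node [(26, (-1), 1, 1)] .nil .nil) .nil)))) (.node [] (.node [] (.node [] .nil (.node [] .nil (.node [(90, 1, 1, 1)] .nil .nil))) (.node [] (.node [] (.node [(10, 1, 1, 1)] .nil .nil) (.node [(54, (-1), 1, 1)] .nil .nil)) .nil)) (.node [] (.node [] (.node [] .nil (.node [(46, 1, 1, 1)] .nil .nil)) (.node [(3, 1, 1, 1)] (.node [(19, 1, 1, 1)] .nil .nil) (.node [(131, (-1), 1, 1)] .nil .nil))) (.node [] (.node [] .nil (.node [(67, (-1), 1, 1)] .nil .nil)) (.node [] (.node [(30, (-1), 1, 1)] .nil .nil) .nil))))) (.node [] (.node [] (.node [] (.node [] .nil (.node []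 .nil (.node [(88, 1, 1, 1)] .nil .nil))) (.node [] (.node [] .nil (.node [(52, (-1), 1, 1)] .nil .nil)) .nil)) (.node [] (.node [] .nil (.node [(1, 1, 1, 1)] (.node [(17, 1, 1, 1)] .nil .nil) .nil)) (.node [] .nil (.node [] (.node [(28, (-1), 1, 1)] .nil .nil) .nil)))) (.node [] (.node [] (.node [] .nil (.node [] .nil (.node [(92, 1, 1, 1)] .nil .nil))) (.node [] (.node [] (.node [(12, 1, 1, 1)] .nil .nil) .nil) .nil)) (.node [] (.node [] (.node [] .nil (.node [(48, 1, 1, 1)] .nil .nil)) (.node [] .nil (.node [(133, (-1), 1, 1)] .nil .nil))) (.node [] (.node [] .nil (.node [(69, (-1), 1, 1)] .nil .nil)) (.node [] (.node [(32, (-1), 1, 1)] .nil .nil) .nil)))))))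
def C5 : List (ℕ × List (ℕ × ℤ)) := [(105, [(0, 1)]), (106, [(1, 1)]), (107, [(2, 1)]), (108, [(3, 1)]), (109, [(4, 1)]), (135, [(6, 1)]), (141, [(7, 1)]), (147, [(9, (-1))]), (148, [(10, 1)]), (149, [(11, (-1))]), (150, [(12, 1)]), (151, [(13, (-1))]), (163, [(14, 1)]), (169, [(16, (-1))]), (170, [(17, 1)]), (171, [(18, (-1))]), (172, [(19, 1)]), (173, [(20, (-1))]), (184, [(26, (-1))]), (185, [(27, 1)]), (186, [(28, (-1))]), (187, [(29, 1)]), (188, [(30, (-1))]), (189, [(31, 1)]), (190, [(32, (-1))]), (191, [(33, (-1))]), (192, [(34, 1)]), (193, [(35, (-1))]), (204, [(46, 1)]), (205, [(47, (-1))]), (206, [(48, 1)]), (207, [(49, 1)]), (208, [(50, (-1))]), (209, [(51, 1)]), (210, [(52, (-1))]), (211, [(53, 1)]), (212, [(54, (-1))]), (213, [(55, 1)]), (219, [(66, 1)]), (220, [(67, (-1))]), (221, [(68, 1)]), (222, [(69, (-1))]), (223, [(70, 1)]), (225, [(76, (-1))]), (226, [(88, 1)]), (227, [(89, (-1))]), (228, [(90, 1)]), (229, [(91, (-1))]),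 (230, [(92, 1)]), (232, [(98, (-1))]), (233, [(104, (-1))]), (235, [(130, (-1))]), (236, [(131, (-1))]), (237, [(132, (-1))]), (238, [(133, (-1))]), (239, [(134, (-1))])]
def M6 : Tr (List (ℕ × ℤ × ℕ × ℕ)) := (.node [] (.node [] (.node [] (.node [] (.node [] .nil (.node [] (.node [] (.node [(10, 1, 1, 1)] .nil .nil) (.node [(59, 1, 1, 1)] .nil .nil)) (.node [] (.node [(27, 1, 1, 1)] .nil .nil) (.node [(140, (-1), 1, 1)] .nil .nil)))) (.node [] (.node [] .nil (.node [(4, 1, 1, 1)] .nil (.node [(98, (-1), 1, 1)] .nil .nil))) (.node [] (.node [] .nil (.node [(67, (-1), 1, 1)] .nil .nil)) (.node [] (.node [(35, (-1), 1, 1)] .nil .nil) .nil)))) (.node [] (.node [] (.node [] .nil (.node [(0, 1, 1, 1)] .nil (.node [(94, (-1), 1, 1)] .nil .nil))) (.node [] (.node [] .nil (.node [(63, 1, 1, 1)] .nil .nil)) (.node [] (.node [(31, 1, 1, 1)] .nil .nil) .nil))) (.node [] (.node [] .nil (.node [] (.node [(23, (-1), 1, 1)] .nil .nil) (.node [(136, (-1),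 1, 1)] .nil .nil))) .nil))) (.node [] (.node [] (.node [] (.node [] .nil (.node [] .nil (.node [(77, (-1), 1, 1)] .nil .nil))) (.node [] (.node [] (.node [(12, 1, 1, 1)] .nil .nil) (.node [(61, 1, 1, 1)] .nil .nil)) (.node [] (.node [(29, 1, 1, 1)] .nil .nil) .nil))) (.node [] (.node [] .nil (.node [] (.node [(21, (-1), 1, 1)] .nil .nil) .nil)) (.node [] (.node [] .nil (.node [(69, (-1), 1, 1)] .nil .nil)) .nil))) (.node [] (.node [] (.node [] .nil (.node [(2, 1, 1, 1)] .nil (.node [(96, (-1), 1, 1)] .nil .nil))) (.node [] (.node [] .nil (.node [(65, 1, 1, 1)] .nil .nil)) (.node [] (.node [(33, (-1), 1, 1)] .nil .nil) .nil))) (.node [] (.node [] (.node [] (.node [(8, 1, 1, 1)] .nil .nil) (.node [(57, (-1), 1, 1)] .nil .nil)) (.node [] (.node [(25, (-1), 1, 1)] .nil .nil) (.node [(138, (-1), 1, 1)] .nil .nil))) .nil)))) (.node [] (.node [] (.node [] (.node [] .nil (.node [] (.node [] (.node [(11, (-1), 1, 1)] .nil .nil) (.node [(60, (-1),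 1, 1)] .nil .nil)) (.node [] (.node [(28, (-1), 1, 1)] .nil .nil) .nil))) (.node [] (.node [] .nil (.node [(5, 1, 1, 1)] .nil .nil)) (.node [] (.node [] .nil (.node [(68, 1, 1, 1)] .nil .nil)) .nil))) (.node [] (.node [] (.node [] .nil (.node [(1, 1, 1, 1)] .nil (.node [(95, 1, 1, 1)] .nil .nil))) (.node [] (.node [] .nil (.node [(64, (-1), 1, 1)] .nil .nil)) (.node [] (.node [(32, (-1), 1, 1)] .nil .nil) .nil))) (.node [] (.node [] (.node [] .nil (.node [(56, 1, 1, 1)] .nil .nil)) (.node [] (.node [(24, 1, 1, 1)] .nil .nil) (.node [(137, (-1), 1, 1)] .nil .nil))) .nil))) (.node [] (.node [] (.node [] (.node [] .nil (.node [] (.node [(14, 1, 1, 1)] .nil .nil) (.node [(93, 1, 1, 1)] .nil .nil))) (.node [] (.node [] (.node [(13, (-1), 1, 1)] .nil .nil) (.node [(62, (-1), 1, 1)] .nil .nil)) (.node [] (.node [(30, (-1), 1, 1)] .nil .nil) .nil))) (.node [] (.node [] .nil (.node [] (.node [(22, 1, 1, 1)] .nil .nil) (.node [(135, (-1), 1, 1)]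 .nil .nil))) (.node [] (.node [] .nil (.node [(70, 1, 1, 1)] .nil .nil)) .nil))) (.node [] (.node [] (.node [] .nil (.node [(3, 1, 1, 1)] .nil (.node [(97, 1, 1, 1)] .nil .nil))) (.node [] (.node [] .nil (.node [(66, 1, 1, 1)] .nil .nil)) (.node [] (.node [(34, 1, 1, 1)] .nil .nil) .nil))) (.node [] (.node [] (.node [] (.node [(9, (-1), 1, 1)] .nil .nil) (.node [(58, 1, 1, 1)] .nil .nil)) (.node [] (.node [(26, (-1), 1, 1)] .nil .nil) (.node [(139, (-1), 1, 1)] .nil .nil))) .nil)))))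
def C6 : List (ℕ × List (ℕ × ℤ)) := [(99, [(0, 1)]), (100, [(1, 1)]), (101, [(2, 1)]), (102, [(3, 1)]), (103, [(4, 1)]), (104, [(5, 1)]), (141, [(8, 1)]), (142, [(9, (-1))]), (143, [(10, 1)]), (144, [(11, (-1))]), (145, [(12, 1)]), (146, [(13, (-1))]), (162, [(14, 1)]), (169, [(21, (-1))]), (170, [(22, 1)]), (171, [(23, (-1))]), (172, [(24, 1)]), (173, [(25, (-1))]), (174, [(26, (-1))]), (175, [(27, 1)]), (176, [(28, (-1))]), (177, [(29, 1)]), (178, [(30, (-1))]), (179, [(31, 1)]), (180, [(32, (-1))]), (181, [(33, (-1))]), (182, [(34, 1)]), (183, [(35, (-1))]), (204, [(56, 1)]), (205, [(57, (-1))]), (206, [(58, 1)]), (207, [(59, 1)]), (208, [(60, (-1))]), (209, [(61, 1)]), (210, [(62, (-1))]), (211, [(63, 1)]), (212, [(64, (-1))]), (213, [(65, 1)]), (214, [(66, 1)]), (215, [(67, (-1))]), (216, [(68, 1)]), (217, [(69, (-1))]), (218, [(70, 1)]), (225, [(77, (-1))]), (226, [(93, 1)]), (227, [(94, (-1))]), (228, [(95, 1)]), (229, [(96, (-1))]),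 (230, [(97, 1)]), (231, [(98, (-1))]), (234, [(135, (-1))]), (235, [(136, (-1))]), (236, [(137, (-1))]), (237, [(138, (-1))]), (238, [(139, (-1))]), (239, [(140, (-1))])]
def M7 : Tr (List (ℕ × ℤ × ℕ × ℕ)) := (.node [] (.node [] (.node [] (.node [] (.node [] (.node [] (.node [] .nil (.node [(43, (-1), 1, 1)] .nil .nil)) (.node [(2, 1, 1, 1)] .nil (.node [(75, 1, 1, 1)] .nil .nil))) (.node [] .nil (.node [] .nil (.node [(146, (-1), 1, 1)] .nil .nil)))) (.node [] (.node [] (.node [] (.node [(8, 1, 1, 1)] .nil .nil) (.node [(51, 1, 1, 1)] .nil .nil)) (.node [] (.node [(19, 1, 1, 1)] .nil .nil) (.node [(104, (-1), 1, 1)] .nil .nil))) .nil)) (.node [] (.node [] (.node [] (.node [] .nil (.node [(47, (-1), 1, 1)] .nil .nil)) (.node [] (.node [(15, 1, 1, 1)] .nil .nil) (.node [(100, (-1), 1, 1)] .nil .nil))) .nil) (.node [] (.node [] (.node [] (.node [(12, 1, 1, 1)] .nil .nil) (.node [(55, 1, 1, 1)] .nil .nil)) (.node [] .nil (.node [(142, (-1),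 1, 1)] .nil .nil))) (.node [] (.node [] .nil (.node [(71, 1, 1, 1)] .nil .nil)) (.node [] (.node [(39, 1, 1, 1)] .nil .nil) .nil))))) (.node [] (.node [] (.node [] (.node [] (.node [] .nil (.node [(45, (-1), 1, 1)] .nil .nil)) (.node [(4, 1, 1, 1)] .nil .nil)) .nil) (.node [] (.node [] (.node [] (.node [(10, 1, 1, 1)] .nil .nil) (.node [(53, 1, 1, 1)] .nil .nil)) .nil) (.node [] .nil (.node [] (.node [(37, 1, 1, 1)] .nil .nil) .nil)))) (.node [] (.node [] (.node [] (.node [] .nil (.node [(49, 1, 1, 1)] .nil .nil)) (.node [] (.node [(17, 1, 1, 1)] .nil .nil) (.node [(102, (-1), 1, 1)] .nil .nil))) .nil) (.node [] (.node [] .nil (.node [] .nil (.node [(144, (-1), 1, 1)] .nil .nil))) (.node [] (.node [(0, 1, 1, 1)] .nil (.node [(73, 1, 1, 1)] .nil .nil)) (.node [] (.node [(41, 1, 1, 1)] .nil .nil) .nil)))))) (.node [] (.node [] (.node [] (.node [] (.node [] (.node [] .nil (.node [(44, 1, 1, 1)] .nil .nil)) (.node [(3, 1, 1, 1)] .nil (.node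 [(76, (-1), 1, 1)] .nil .nil))) .nil) (.node [] (.node [] (.node [] (.node [(9, (-1), 1, 1)] .nil .nil) (.node [(52, (-1), 1, 1)] .nil .nil)) (.node [] (.node [(20, (-1), 1, 1)] .nil .nil) .nil)) (.node [] .nil (.node [] (.node [(36, (-1), 1, 1)] .nil .nil) .nil)))) (.node [] (.node [] (.node [] (.node [] .nil (.node [(48, 1, 1, 1)] .nil .nil)) (.node [] (.node [(16, (-1), 1, 1)] .nil .nil) (.node [(101, 1, 1, 1)] .nil .nil))) .nil) (.node [] (.node [] (.node [] (.node [(13, (-1), 1, 1)] .nil .nil) .nil) (.node [] .nil (.node [(143, (-1), 1, 1)] .nil .nil))) (.node [] (.node [] .nil (.node [(72, (-1), 1, 1)] .nil .nil)) (.node [] (.node [(40, (-1), 1, 1)] .nil .nil) .nil))))) (.node [] (.node [] (.node [] (.node [] (.node [] .nil (.node [(46, 1, 1, 1)] .nil .nil)) (.node [(5, 1, 1, 1)] .nil (.node [(99, 1, 1, 1)] .nil .nil))) .nil) (.node [] (.node [] (.node [] (.node [(11, (-1), 1, 1)] .nil .nil) (.node [(54, (-1), 1, 1)] .nil .nil))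 (.node [] .nil (.node [(141, (-1), 1, 1)] .nil .nil))) (.node [] .nil (.node [] (.node [(38, (-1), 1, 1)] .nil .nil) .nil)))) (.node [] (.node [] (.node [] (.node [] .nil (.node [(50, (-1), 1, 1)] .nil .nil)) (.node [] (.node [(18, (-1), 1, 1)] .nil .nil) (.node [(103, 1, 1, 1)] .nil .nil))) .nil) (.node [] (.node [] .nil (.node [] .nil (.node [(145, (-1), 1, 1)] .nil .nil))) (.node [] (.node [(1, 1, 1, 1)] .nil (.node [(74, (-1), 1, 1)] .nil .nil)) (.node [] (.node [(42, (-1), 1, 1)] .nil .nil) .nil)))))))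
def C7 : List (ℕ × List (ℕ × ℤ)) := [(93, [(0, 1)]), (94, [(1, 1)]), (95, [(2, 1)]), (96, [(3, 1)]), (97, [(4, 1)]), (98, [(5, 1)]), (135, [(8, 1)]), (136, [(9, (-1))]), (137, [(10, 1)]), (138, [(11, (-1))]), (139, [(12, 1)]), (140, [(13, (-1))]), (163, [(15, 1)]), (164, [(16, (-1))]), (165, [(17, 1)]), (166, [(18, (-1))]), (167, [(19, 1)]), (168, [(20, (-1))]), (184, [(36, (-1))]), (185, [(37, 1)]), (186, [(38, (-1))]), (187, [(39, 1)]), (188, [(40, (-1))]), (189, [(41, 1)]), (190, [(42, (-1))]), (191, [(43, (-1))]), (192, [(44, 1)]), (193, [(45, (-1))]), (194, [(46, 1)]), (195, [(47, (-1))]), (196, [(48, 1)]), (197, [(49, 1)]), (198, [(50, (-1))]), (199, [(51, 1)]), (200, [(52, (-1))]), (201, [(53, 1)]), (202, [(54, (-1))]), (203, [(55, 1)]), (219, [(71, 1)]), (220, [(72, (-1))]), (221, [(73, 1)]), (222, [(74, (-1))]), (223, [(75, 1)]), (224, [(76, (-1))]), (226, [(99, 1)]), (227, [(100, (-1))]), (228, [(101, 1)]), (229, [(102, (-1))]),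 (230, [(103, 1)]), (231, [(104, (-1))]), (234, [(141, (-1))]), (235, [(142, (-1))]), (236, [(143, (-1))]), (237, [(144, (-1))]), (238, [(145, (-1))]), (239, [(146, (-1))])]
def M8 : Tr (List (ℕ × ℤ × ℕ × ℕ)) := (.node [] (.node [] (.node [] (.node [] (.node [] .nil (.node [] .nil (.node [] (.node [(37, 1, 1, 1)] .nil .nil) (.node [(151, 1, 1, 1)] .nil .nil)))) (.node [] (.node [] (.node [] .nil (.node [(61, 1, 1, 1)] .nil .nil)) (.node [] (.node [(24, 1, 1, 1)] .nil .nil) .nil)) (.node [] (.node [] .nil (.node [(72, (-1), 1, 1)] .nil .nil)) (.node [] (.node [(45, (-1), 1, 1)] .nil .nil) .nil)))) (.node [] (.node [] (.node [] (.node [] (.node [(10, (-1), 1, 1)] .nil .nil) (.node [(57, (-1), 1, 1)] .nil .nil)) (.node [] .nil (.node [(106, 1, 1, 1)] .nil .nil))) (.node [] .nil (.node [] (.node [(41, 1, 1, 1)] .nil .nil) .nil))) (.node [] (.node [] (.node [] .nil (.node [(65, 1, 1, 1)] .nil .nil)) (.node [] .nil (.node [(147, 1, 1, 1)] .nil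 .nil))) (.node [] (.node [(3, (-1), 1, 1)] .nil .nil) .nil)))) (.node [] (.node [] (.node [] .nil (.node [] .nil (.node [] (.node [(39, 1, 1, 1)] .nil .nil) .nil))) (.node [] (.node [] (.node [] .nil (.node [(63, 1, 1, 1)] .nil .nil)) (.node [] .nil (.node [(141, (-1), 1, 1)] .nil .nil))) (.node [] (.node [(1, (-1), 1, 1)] .nil (.node [(74, (-1), 1, 1)] .nil .nil)) .nil))) (.node [] (.node [] (.node [] (.node [] (.node [(12, (-1), 1, 1)] .nil .nil) (.node [(59, 1, 1, 1)] .nil .nil)) (.node [] (.node [(22, 1, 1, 1)] .nil .nil) (.node [(108, 1, 1, 1)] .nil .nil))) (.node [] .nil (.node [] (.node [(43, (-1), 1, 1)] .nil .nil) .nil))) (.node [] (.node [] .nil (.node [] .nil (.node [(149, 1, 1, 1)] .nil .nil))) .nil)))) (.node [] (.node [] (.node [] (.node [] (.node [] .nil (.node [] .nil (.node [(77, (-1), 1, 1)] .nil .nil))) (.node [] .nil (.node [] (.node [(38, (-1), 1, 1)] .nil .nil) .nil))) (.node [] (.node [] (.node [] .nil (.node [(62,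 (-1), 1, 1)] .nil .nil)) (.node [(7, 1, 1, 1)] (.node [(25, (-1), 1, 1)] .nil .nil) (.node [(135, (-1), 1, 1)] .nil .nil))) (.node [] (.node [(0, (-1), 1, 1)] .nil (.node [(73, 1, 1, 1)] .nil .nil)) .nil))) (.node [] (.node [] (.node [] (.node [] (.node [(11, 1, 1, 1)] .nil .nil) (.node [(58, 1, 1, 1)] .nil .nil)) (.node [] (.node [(21, (-1), 1, 1)] .nil .nil) (.node [(107, (-1), 1, 1)] .nil .nil))) (.node [] .nil (.node [] (.node [(42, (-1), 1, 1)] .nil .nil) .nil))) (.node [] (.node [] .nil (.node [] .nil (.node [(148, 1, 1, 1)] .nil .nil))) (.node [] (.node [(4, (-1), 1, 1)] .nil .nil) .nil)))) (.node [] (.node [] (.node [] (.node [] (.node [] (.node [(9, 1, 1, 1)] .nil .nil) (.node [(56, 1, 1, 1)] .nil .nil)) (.node [(6, 1, 1, 1)] (.node [(15, 1, 1, 1)] .nil .nil) (.node [(105, (-1), 1, 1)] .nil .nil))) (.node [] .nil (.node [] (.node [(40, (-1), 1, 1)] .nil .nil) .nil))) (.node [] (.node [] (.node [] .nil (.node [(64, (-1), 1, 1)]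 .nil .nil)) .nil) (.node [] (.node [(2, (-1), 1, 1)] .nil (.node [(75, 1, 1, 1)] .nil .nil)) .nil))) (.node [] (.node [] (.node [] (.node [] (.node [(13, 1, 1, 1)] .nil .nil) (.node [(60, (-1), 1, 1)] .nil .nil)) (.node [] (.node [(23, (-1), 1, 1)] .nil .nil) (.node [(109, (-1), 1, 1)] .nil .nil))) (.node [] (.node [] .nil (.node [(71, 1, 1, 1)] .nil .nil)) (.node [] (.node [(44, 1, 1, 1)] .nil .nil) .nil))) (.node [] (.node [] .nil (.node [] (.node [(36, (-1), 1, 1)] .nil .nil) (.node [(150, 1, 1, 1)] .nil .nil))) .nil)))))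
def C8 : List (ℕ × List (ℕ × ℤ)) := [(88, [(0, (-1))]), (89, [(1, (-1))]), (90, [(2, (-1))]), (91, [(3, (-1))]), (92, [(4, (-1))]), (98, [(6, 1)]), (104, [(7, 1)]), (130, [(9, 1)]), (131, [(10, (-1))]), (132, [(11, 1)]), (133, [(12, (-1))]), (134, [(13, 1)]), (162, [(15, 1)]), (164, [(21, (-1))]), (165, [(22, 1)]), (166, [(23, (-1))]), (167, [(24, 1)]), (168, [(25, (-1))]), (174, [(36, (-1))]), (175, [(37, 1)]), (176, [(38, (-1))]), (177, [(39, 1)]), (178, [(40, (-1))]), (179, [(41, 1)]), (180, [(42, (-1))]), (181, [(43, (-1))]), (182, [(44, 1)]), (183, [(45, (-1))]), (194, [(56, 1)]), (195, [(57, (-1))]), (196, [(58, 1)]), (197, [(59, 1)]), (198, [(60, (-1))]), (199, [(61, 1)]), (200, [(62, (-1))]), (201, [(63, 1)]), (202, [(64, (-1))]), (203, [(65, 1)]), (214, [(71, 1)]), (215, [(72, (-1))]), (216, [(73, 1)]), (217, [(74, (-1))]), (218, [(75, 1)]), (224, [(77, (-1))]), (226, [(105, (-1))]), (227, [(106, 1)]), (228, [(107, (-1))]), (229,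 [(108, 1)]), (230, [(109, (-1))]), (232, [(135, (-1))]), (233, [(141, (-1))]), (235, [(147, 1)]), (236, [(148, 1)]), (237, [(149, 1)]), (238, [(150, 1)]), (239, [(151, 1)])]
def M9 : Tr (List (ℕ × ℤ × ℕ × ℕ)) := (.node [] (.node [] (.node [] (.node [] (.node [] (.node [] (.node [] (.node [(11, (-1), 1, 1)] .nil .nil) (.node [(59, 1, 1, 1)] .nil .nil)) (.node [] .nil (.node [(77, (-1), 1, 1)] .nil .nil))) (.node [] .nil (.node [] .nil (.node [(155, (-1), 1, 1)] .nil .nil)))) (.node [] (.node [] .nil (.node [(7, (-1), 1, 1)] (.node [(28, 1, 1, 1)] .nil .nil) (.node [(130, (-1), 1, 1)] .nil .nil))) (.node [] (.node [(3, 1, 1, 1)] .nil .nil) (.node [] (.node [(51, (-1), 1, 1)] .nil .nil) .nil)))) (.node [] (.node [] (.node [] .nil (.node [] (.node [(21, (-1), 1, 1)] .nil .nil) (.node [(111, (-1), 1, 1)] .nil .nil))) (.node [] (.node [] .nil (.node [(72, (-1), 1, 1)] .nil .nil)) (.node [] (.node [(47, 1, 1, 1)] .nil .nil) .nil))) (.node []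 (.node [] (.node [] .nil (.node [(69, 1, 1, 1)] .nil .nil)) (.node [] (.node [(37, 1, 1, 1)] .nil .nil) .nil)) .nil))) (.node [] (.node [] (.node [] (.node [] (.node [] (.node [(13, (-1), 1, 1)] .nil .nil) (.node [(61, 1, 1, 1)] .nil .nil)) (.node [(6, (-1), 1, 1)] .nil .nil)) .nil) (.node [] (.node [] (.node [] .nil (.node [(67, 1, 1, 1)] .nil .nil)) (.node [] .nil (.node [(142, 1, 1, 1)] .nil .nil))) .nil)) (.node [] (.node [] (.node [] .nil (.node [] (.node [(26, 1, 1, 1)] .nil .nil) (.node [(113, (-1), 1, 1)] .nil .nil))) (.node [] (.node [(1, 1, 1, 1)] .nil (.node [(74, (-1), 1, 1)] .nil .nil)) (.node [] (.node [(49, (-1), 1, 1)] .nil .nil) .nil))) (.node [] (.node [] .nil (.node [(8, 1, 1, 1)] (.node [(39, 1, 1, 1)] .nil .nil) (.node [(153, (-1), 1, 1)] .nil .nil))) (.node [] .nil (.node [] (.node [(57, (-1), 1, 1)] .nil .nil) .nil)))))) (.node [] (.node [] (.node [] (.node [] (.node [] (.node [] (.node [(12, 1, 1, 1)] .nil .nil)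 (.node [(60, (-1), 1, 1)] .nil .nil)) .nil) .nil) (.node [] (.node [] (.node [] .nil (.node [(66, (-1), 1, 1)] .nil .nil)) (.node [] (.node [(29, (-1), 1, 1)] .nil .nil) (.node [(136, 1, 1, 1)] .nil .nil))) .nil)) (.node [] (.node [] (.node [] .nil (.node [] .nil (.node [(112, 1, 1, 1)] .nil .nil))) (.node [] (.node [(0, 1, 1, 1)] .nil (.node [(73, 1, 1, 1)] .nil .nil)) (.node [] (.node [(48, (-1), 1, 1)] .nil .nil) .nil))) (.node [] (.node [] .nil (.node [] (.node [(38, (-1), 1, 1)] .nil .nil) (.node [(152, (-1), 1, 1)] .nil .nil))) (.node [] (.node [(5, (-1), 1, 1)] .nil .nil) (.node [] (.node [(56, 1, 1, 1)] .nil .nil) .nil))))) (.node [] (.node [] (.node [] (.node [] .nil (.node [] (.node [(16, 1, 1, 1)] .nil .nil) (.node [(110, 1, 1, 1)] .nil .nil))) (.node [] (.node [] .nil (.node [(71, 1, 1, 1)] .nil .nil)) (.node [] (.node [(46, (-1), 1, 1)] .nil .nil) .nil))) (.node [] (.node [] (.node [] .nil (.node [(68, (-1), 1, 1)] .nil .nil))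 (.node [] (.node [(36, (-1), 1, 1)] .nil .nil) (.node [(147, 1, 1, 1)] .nil .nil))) (.node [] (.node [] .nil (.node [(76, 1, 1, 1)] .nil .nil)) .nil))) (.node [] (.node [] (.node [] .nil (.node [] (.node [(27, (-1), 1, 1)] .nil .nil) .nil)) (.node [] (.node [(2, 1, 1, 1)] .nil .nil) (.node [] (.node [(50, 1, 1, 1)] .nil .nil) .nil))) (.node [] (.node [] .nil (.node [] .nil (.node [(154, (-1), 1, 1)] .nil .nil))) (.node [] .nil (.node [(10, 1, 1, 1)] (.node [(58, 1, 1, 1)] .nil .nil) .nil)))))))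
def C9 : List (ℕ × List (ℕ × ℤ)) := [(84, [(0, 1)]), (85, [(1, 1)]), (86, [(2, 1)]), (87, [(3, 1)]), (92, [(5, (-1))]), (97, [(6, (-1))]), (103, [(7, (-1))]), (109, [(8, 1)]), (126, [(10, 1)]), (127, [(11, (-1))]), (128, [(12, 1)]), (129, [(13, (-1))]), (162, [(16, 1)]), (163, [(21, (-1))]), (165, [(26, 1)]), (166, [(27, (-1))]), (167, [(28, 1)]), (168, [(29, (-1))]), (170, [(36, (-1))]), (171, [(37, 1)]), (172, [(38, (-1))]), (173, [(39, 1)]), (178, [(46, (-1))]), (179, [(47, 1)]), (180, [(48, (-1))]), (181, [(49, (-1))]), (182, [(50, 1)]), (183, [(51, (-1))]), (188, [(56, 1)]), (189, [(57, (-1))]), (190, [(58, 1)]), (191, [(59, 1)]), (192, [(60, (-1))]), (193, [(61, 1)]), (200, [(66, (-1))]), (201, [(67, 1)]), (202, [(68, (-1))]), (203, [(69, 1)]), (210, [(71, 1)]), (211, [(72, (-1))]), (212, [(73, 1)]), (213, [(74, (-1))]), (218, [(76, 1)]), (223, [(77, (-1))]), (226, [(110, 1)]), (227, [(111, (-1))]), (228, [(112, 1)]), (229, [(113,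 (-1))]), (231, [(130, (-1))]), (232, [(136, 1)]), (233, [(142, 1)]), (234, [(147, 1)]), (236, [(152, (-1))]), (237, [(153, (-1))]), (238, [(154, (-1))]), (239, [(155, (-1))])]
def M10 : Tr (List (ℕ × ℤ × ℕ × ℕ)) := (.node [] (.node [] (.node [] (.node [] (.node [] (.node [] (.node [] .nil (.node [(62, 1, 1, 1)] .nil .nil)) .nil) (.node [] (.node [] .nil (.node [(71, 1, 1, 1)] .nil .nil)) (.node [] (.node [(46, (-1), 1, 1)] .nil .nil) (.node [(158, 1, 1, 1)] .nil .nil)))) (.node [] (.node [] (.node [] .nil (.node [(68, (-1), 1, 1)] .nil .nil)) (.node [] (.node [(31, 1, 1, 1)] .nil .nil) (.node [(131, 1, 1, 1)] .nil .nil))) (.node [] (.node [(4, 1, 1, 1)] .nil .nil) (.node [] (.node [(54, (-1), 1, 1)] .nil .nil) .nil)))) (.node [] (.node [] (.node [] .nil (.node [] (.node [(22, (-1), 1, 1)] .nil .nil) (.node [(115, 1, 1, 1)] .nil .nil))) (.node [] (.node [(2, (-1), 1, 1)] .nil .nil) .nil)) (.node [] (.node [] (.node [] .nil (.node [(70,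 1, 1, 1)] .nil .nil)) (.node [] (.node [(40, 1, 1, 1)] .nil .nil) (.node [(152, (-1), 1, 1)] .nil .nil))) (.node [] (.node [(5, 1, 1, 1)] .nil .nil) (.node [(11, 1, 1, 1)] (.node [(58, 1, 1, 1)] .nil .nil) .nil))))) (.node [] (.node [] (.node [] (.node [] (.node [] .nil (.node [(64, 1, 1, 1)] .nil .nil)) .nil) (.node [] (.node [(0, (-1), 1, 1)] .nil (.node [(73, 1, 1, 1)] .nil .nil)) (.node [(9, 1, 1, 1)] (.node [(48, (-1), 1, 1)] .nil .nil) .nil))) (.node [] (.node [] .nil (.node [] (.node [(36, (-1), 1, 1)] .nil .nil) (.node [(143, (-1), 1, 1)] .nil .nil))) (.node [] (.node [] .nil (.node [(76, 1, 1, 1)] .nil .nil)) (.node [] (.node [(56, 1, 1, 1)] .nil .nil) .nil)))) (.node [] (.node [] (.node [] (.node [] .nil (.node [(66, (-1), 1, 1)] .nil .nil)) .nil) (.node [] (.node [] .nil (.node [(75, (-1), 1, 1)] .nil .nil)) (.node [] (.node [(52, (-1), 1, 1)] .nil .nil) .nil))) (.node [] (.node [] .nil (.node [] (.node [(42, 1, 1, 1)] .nil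 .nil) (.node [(156, 1, 1, 1)] .nil .nil))) (.node [] .nil (.node [(13, 1, 1, 1)] .nil .nil)))))) (.node [] (.node [] (.node [] (.node [] (.node [] (.node [] .nil (.node [(63, (-1), 1, 1)] .nil .nil)) (.node [(6, 1, 1, 1)] .nil .nil)) (.node [] (.node [] .nil (.node [(72, (-1), 1, 1)] .nil .nil)) (.node [] (.node [(47, 1, 1, 1)] .nil .nil) .nil))) (.node [] (.node [] .nil (.node [] (.node [(32, (-1), 1, 1)] .nil .nil) (.node [(137, (-1), 1, 1)] .nil .nil))) .nil)) (.node [] (.node [] (.node [] .nil (.node [] (.node [(26, 1, 1, 1)] .nil .nil) (.node [(116, (-1), 1, 1)] .nil .nil))) .nil) (.node [] (.node [] .nil (.node [(8, (-1), 1, 1)] (.node [(41, (-1), 1, 1)] .nil .nil) .nil)) (.node [] .nil (.node [(12, (-1), 1, 1)] .nil .nil))))) (.node [] (.node [] (.node [] (.node [] .nil (.node [] (.node [(17, 1, 1, 1)] .nil .nil) (.node [(114, (-1), 1, 1)] .nil .nil))) (.node [] (.node [(1, (-1), 1, 1)] .nil .nil) .nil)) (.node [] (.node [] .nil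 (.node [] .nil (.node [(148, (-1), 1, 1)] .nil .nil))) (.node [] .nil (.node [] (.node [(57, (-1), 1, 1)] .nil .nil) .nil)))) (.node [] (.node [] (.node [] (.node [] .nil (.node [(67, 1, 1, 1)] .nil .nil)) (.node [(7, 1, 1, 1)] (.node [(30, (-1), 1, 1)] .nil .nil) (.node [(126, (-1), 1, 1)] .nil .nil))) (.node [] .nil (.node [] (.node [(53, 1, 1, 1)] .nil .nil) .nil))) (.node [] (.node [] .nil (.node [] .nil (.node [(157, 1, 1, 1)] .nil .nil))) (.node [] (.node [] .nil (.node [(77, (-1), 1, 1)] .nil .nil)) .nil))))))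
def C10 : List (ℕ × List (ℕ × ℤ)) := [(81, [(0, (-1))]), (82, [(1, (-1))]), (83, [(2, (-1))]), (87, [(4, 1)]), (91, [(5, 1)]), (96, [(6, 1)]), (102, [(7, 1)]), (108, [(8, (-1))]), (113, [(9, 1)]), (123, [(11, 1)]), (124, [(12, (-1))]), (125, [(13, 1)]), (162, [(17, 1)]), (163, [(22, (-1))]), (164, [(26, 1)]), (166, [(30, (-1))]), (167, [(31, 1)]), (168, [(32, (-1))]), (169, [(36, (-1))]), (171, [(40, 1)]), (172, [(41, (-1))]), (173, [(42, 1)]), (175, [(46, (-1))]), (176, [(47, 1)]), (177, [(48, (-1))]), (181, [(52, (-1))]), (182, [(53, 1)]), (183, [(54, (-1))]), (185, [(56, 1)]), (186, [(57, (-1))]), (187, [(58, 1)]), (191, [(62, 1)]), (192, [(63, (-1))]), (193, [(64, 1)]), (197, [(66, (-1))]), (198, [(67, 1)]), (199, [(68, (-1))]), (203, [(70, 1)]), (207, [(71, 1)]), (208, [(72, (-1))]), (209, [(73, 1)]), (213, [(75, (-1))]), (217, [(76, 1)]), (222, [(77, (-1))]), (226, [(114, (-1))]), (227, [(115, 1)]), (228, [(116, (-1))]), (230, [(126,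 (-1))]), (231, [(131, 1)]), (232, [(137, (-1))]), (233, [(143, (-1))]), (234, [(148, (-1))]), (235, [(152, (-1))]), (237, [(156, 1)]), (238, [(157, 1)]), (239, [(158, 1)])]
def M11 : Tr (List (ℕ × ℤ × ℕ × ℕ)) := (.node [] (.node [] (.node [] (.node [] (.node [] (.node [] .nil (.node [(6, (-1), 1, 1)] .nil .nil)) (.node [] (.node [(0, 1, 1, 1)] .nil .nil) (.node [] .nil (.node [(160, (-1), 1, 1)] .nil .nil)))) (.node [] (.node [] (.node [] .nil (.node [(69, (-1), 1, 1)] .nil .nil)) (.node [] (.node [(33, 1, 1, 1)] .nil .nil) (.node [(132, (-1), 1, 1)] .nil .nil))) (.node [] .nil (.node [] (.node [(55, (-1), 1, 1)] .nil .nil) .nil)))) (.node [] (.node [] (.node [] (.node [] .nil (.node [(66, (-1), 1, 1)] .nil .nil)) (.node [] (.node [(23, (-1), 1, 1)] .nil .nil) (.node [(118, (-1), 1, 1)] .nil .nil))) (.node [] (.node [(3, (-1), 1, 1)] .nil .nil) (.node [] (.node [(52, (-1), 1, 1)] .nil .nil) .nil))) (.node [] (.node [] .nil (.node [(8,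 1, 1, 1)] .nil (.node [(153, 1, 1, 1)] .nil .nil))) (.node [] .nil (.node [] (.node [(60, 1, 1, 1)] .nil .nil) .nil))))) (.node [] (.node [] (.node [] (.node [] (.node [] .nil (.node [(65, 1, 1, 1)] .nil .nil)) .nil) (.node [] (.node [] .nil (.node [(74, 1, 1, 1)] .nil .nil)) (.node [] (.node [(50, (-1), 1, 1)] .nil .nil) .nil))) (.node [] (.node [] .nil (.node [] (.node [(37, (-1), 1, 1)] .nil .nil) (.node [(144, 1, 1, 1)] .nil .nil))) (.node [] .nil (.node [(12, 1, 1, 1)] .nil .nil)))) (.node [] (.node [] (.node [] .nil (.node [(7, (-1), 1, 1)] (.node [(30, (-1), 1, 1)] .nil .nil) (.node [(123, (-1), 1, 1)] .nil .nil))) .nil) (.node [] (.node [] (.node [] .nil (.node [(71, 1, 1, 1)] .nil .nil)) (.node [] (.node [(44, 1, 1, 1)] .nil .nil) .nil)) (.node [] (.node [] .nil (.node [(77, (-1), 1, 1)] .nil .nil)) (.node [] (.node [(62, 1, 1, 1)] .nil .nil) .nil)))))) (.node [] (.node [] (.node [] (.node [] .nil (.node [] (.node [(1, 1, 1,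 1)] .nil .nil) (.node [(9, (-1), 1, 1)] (.node [(49, 1, 1, 1)] .nil .nil) .nil))) (.node [] (.node [] .nil (.node [] (.node [(34, (-1), 1, 1)] .nil .nil) (.node [(138, 1, 1, 1)] .nil .nil))) (.node [] (.node [] .nil (.node [(76, 1, 1, 1)] .nil .nil)) (.node [] (.node [(56, 1, 1, 1)] .nil .nil) .nil)))) (.node [] (.node [] (.node [] (.node [] .nil (.node [(67, 1, 1, 1)] .nil .nil)) (.node [] (.node [(27, 1, 1, 1)] .nil .nil) .nil)) (.node [] (.node [] .nil (.node [(75, (-1), 1, 1)] .nil .nil)) (.node [(10, 1, 1, 1)] (.node [(53, 1, 1, 1)] .nil .nil) .nil))) (.node [] (.node [] .nil (.node [] (.node [(43, (-1), 1, 1)] .nil .nil) (.node [(156, 1, 1, 1)] .nil .nil))) .nil))) (.node [] (.node [] (.node [] (.node [] .nil (.node [] (.node [(18, 1, 1, 1)] .nil .nil) (.node [(117, 1, 1, 1)] .nil .nil))) .nil) (.node [] (.node [] (.node [] .nil (.node [(70, 1, 1, 1)] .nil .nil)) (.node [] (.node [(40, 1, 1, 1)] .nil .nil) (.node [(149, 1, 1, 1)]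 .nil .nil))) (.node [] (.node [(5, (-1), 1, 1)] .nil .nil) (.node [(13, (-1), 1, 1)] (.node [(59, (-1), 1, 1)] .nil .nil) .nil)))) (.node [] (.node [] (.node [] .nil (.node [] .nil (.node [(127, 1, 1, 1)] .nil .nil))) (.node [] (.node [(4, (-1), 1, 1)] .nil .nil) .nil)) (.node [] (.node [] (.node [] .nil (.node [(72, (-1), 1, 1)] .nil .nil)) (.node [] (.node [(46, (-1), 1, 1)] .nil .nil) (.node [(159, (-1), 1, 1)] .nil .nil))) (.node [] .nil (.node [] (.node [(63, (-1), 1, 1)] .nil .nil) .nil)))))))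
def C11 : List (ℕ × List (ℕ × ℤ)) := [(79, [(0, 1)]), (80, [(1, 1)]), (83, [(3, (-1))]), (86, [(4, (-1))]), (90, [(5, (-1))]), (95, [(6, (-1))]), (101, [(7, (-1))]), (107, [(8, 1)]), (112, [(9, (-1))]), (116, [(10, 1)]), (121, [(12, 1)]), (122, [(13, (-1))]), (162, [(18, 1)]), (163, [(23, (-1))]), (164, [(27, 1)]), (165, [(30, (-1))]), (167, [(33, 1)]), (168, [(34, (-1))]), (169, [(37, (-1))]), (170, [(40, 1)]), (172, [(43, (-1))]), (173, [(44, 1)]), (174, [(46, (-1))]), (176, [(49, 1)]), (177, [(50, (-1))]), (179, [(52, (-1))]), (180, [(53, 1)]), (183, [(55, (-1))]), (184, [(56, 1)]), (186, [(59, (-1))]), (187, [(60, 1)]), (189, [(62, 1)]), (190, [(63, (-1))]), (193, [(65, 1)]), (195, [(66, (-1))]), (196, [(67, 1)]), (199, [(69, (-1))]), (202, [(70, 1)]), (205, [(71, 1)]), (206, [(72, (-1))]), (209, [(74, 1)]), (212, [(75, (-1))]), (216, [(76, 1)]), (221, [(77, (-1))]), (226, [(117, 1)]), (227, [(118, (-1))]), (229, [(123, (-1))]), (230,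 [(127, 1)]), (231, [(132, (-1))]), (232, [(138, 1)]), (233, [(144, 1)]), (234, [(149, 1)]), (235, [(153, 1)]), (236, [(156, 1)]), (238, [(159, (-1))]), (239, [(160, (-1))])]
def M12 : Tr (List (ℕ × ℤ × ℕ × ℕ)) := (.node [] (.node [] (.node [] (.node [] (.node [] .nil (.node [] .nil (.node [(9, 1, 1, 1)] (.node [(49, 1, 1, 1)] .nil .nil) (.node [(161, 1, 1, 1)] .nil .nil)))) (.node [] (.node [] .nil (.node [] .nil (.node [(133, 1, 1, 1)] .nil .nil))) (.node [] (.node [] .nil (.node [(76, 1, 1, 1)] .nil .nil)) .nil))) (.node [] (.node [] (.node [] .nil (.node [] (.node [(24, (-1), 1, 1)] .nil .nil) .nil)) (.node [] (.node [] .nil (.node [(75, (-1), 1, 1)] .nil .nil)) (.node [(10, (-1), 1, 1)] .nil .nil))) (.node [] (.node [] .nil (.node [] (.node [(43, (-1), 1, 1)] .nil .nil) (.node [(154, (-1), 1, 1)] .nil .nil))) (.node [] .nil (.node [] (.node [(61, 1, 1, 1)] .nil .nil) .nil))))) (.node [] (.node [] (.node [] .nil (.node [] .nil (.node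 [] (.node [(51, (-1), 1, 1)] .nil .nil) .nil))) (.node [] (.node [] (.node [] .nil (.node [(70, 1, 1, 1)] .nil .nil)) (.node [] (.node [(38, (-1), 1, 1)] .nil .nil) (.node [(145, (-1), 1, 1)] .nil .nil))) (.node [] (.node [(5, 1, 1, 1)] .nil .nil) (.node [] (.node [(59, (-1), 1, 1)] .nil .nil) .nil)))) (.node [] (.node [] (.node [] .nil (.node [] (.node [(31, (-1), 1, 1)] .nil .nil) (.node [(124, 1, 1, 1)] .nil .nil))) (.node [] (.node [(4, 1, 1, 1)] .nil .nil) .nil)) (.node [] (.node [] .nil (.node [] (.node [(45, 1, 1, 1)] .nil .nil) (.node [(159, (-1), 1, 1)] .nil .nil))) .nil)))) (.node [] (.node [] (.node [] (.node [] (.node [] (.node [] .nil (.node [(65, 1, 1, 1)] .nil .nil)) .nil) (.node [] (.node [(2, 1, 1, 1)] .nil (.node [(74, 1, 1, 1)] .nil .nil)) .nil)) (.node [] (.node [] .nil (.node [] (.node [(35, (-1), 1, 1)] .nil .nil) (.node [(139, (-1), 1, 1)] .nil .nil))) (.node [] .nil (.node [(13, 1, 1, 1)] (.node [(57, 1, 1, 1)]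 .nil .nil) .nil)))) (.node [] (.node [] (.node [] (.node [] .nil (.node [(68, 1, 1, 1)] .nil .nil)) (.node [(7, 1, 1, 1)] (.node [(28, 1, 1, 1)] .nil .nil) (.node [(121, (-1), 1, 1)] .nil .nil))) (.node [] .nil (.node [] (.node [(54, 1, 1, 1)] .nil .nil) .nil))) (.node [] (.node [] (.node [] .nil (.node [(71, 1, 1, 1)] .nil .nil)) (.node [] .nil (.node [(157, (-1), 1, 1)] .nil .nil))) (.node [] (.node [] .nil (.node [(77, (-1), 1, 1)] .nil .nil)) (.node [] (.node [(62, 1, 1, 1)] .nil .nil) .nil))))) (.node [] (.node [] (.node [] (.node [] (.node [] .nil (.node [(66, (-1), 1, 1)] .nil .nil)) (.node [] (.node [(19, 1, 1, 1)] .nil .nil) (.node [(119, (-1), 1, 1)] .nil .nil))) (.node [] (.node [(3, 1, 1, 1)] .nil .nil) (.node [] (.node [(52, (-1), 1, 1)] .nil .nil) .nil))) (.node [] (.node [] .nil (.node [(8, (-1), 1, 1)] (.node [(41, 1, 1, 1)] .nil .nil) (.node [(150, (-1), 1, 1)] .nil .nil))) .nil)) (.node [] (.node [] (.node [] (.node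 [] .nil (.node [(69, (-1), 1, 1)] .nil .nil)) (.node [] (.node [(33, 1, 1, 1)] .nil .nil) (.node [(128, (-1), 1, 1)] .nil .nil))) (.node [] .nil (.node [(11, 1, 1, 1)] (.node [(55, (-1), 1, 1)] .nil .nil) .nil))) (.node [] (.node [] (.node [(0, (-1), 1, 1)] .nil (.node [(73, (-1), 1, 1)] .nil .nil)) (.node [] (.node [(47, (-1), 1, 1)] .nil .nil) .nil)) (.node [] (.node [(6, 1, 1, 1)] .nil .nil) (.node [] (.node [(64, (-1), 1, 1)] .nil .nil) .nil)))))))
def C12 : List (ℕ × List (ℕ × ℤ)) := [(78, [(0, (-1))]), (80, [(2, 1)]), (82, [(3, 1)]), (85, [(4, 1)]), (89, [(5, 1)]), (94, [(6, 1)]), (100, [(7, 1)]), (106, [(8, (-1))]), (111, [(9, 1)]), (115, [(10, (-1))]), (118, [(11, 1)]), (120, [(13, 1)]), (162, [(19, 1)]), (163, [(24, (-1))]), (164, [(28, 1)]), (165, [(31, (-1))]), (166, [(33, 1)]), (168, [(35, (-1))]), (169, [(38, (-1))]), (170, [(41, 1)]), (171, [(43, (-1))]), (173, [(45, 1)]), (174, [(47, (-1))]), (175, [(49, 1)]), (177, [(51,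 (-1))]), (178, [(52, (-1))]), (180, [(54, 1)]), (182, [(55, (-1))]), (184, [(57, 1)]), (185, [(59, (-1))]), (187, [(61, 1)]), (188, [(62, 1)]), (190, [(64, (-1))]), (192, [(65, 1)]), (194, [(66, (-1))]), (196, [(68, 1)]), (198, [(69, (-1))]), (201, [(70, 1)]), (204, [(71, 1)]), (206, [(73, (-1))]), (208, [(74, 1)]), (211, [(75, (-1))]), (215, [(76, 1)]), (220, [(77, (-1))]), (226, [(119, (-1))]), (228, [(121, (-1))]), (229, [(124, 1)]), (230, [(128, (-1))]), (231, [(133, 1)]), (232, [(139, (-1))]), (233, [(145, (-1))]), (234, [(150, (-1))]), (235, [(154, (-1))]), (236, [(157, (-1))]), (237, [(159, (-1))]), (239, [(161, 1)])]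
def M13 : Tr (List (ℕ × ℤ × ℕ × ℕ)) := (.node [] (.node [] (.node [] (.node [] (.node [] (.node [] (.node [] .nil (.node [(65, 1, 1, 1)] .nil .nil)) .nil) (.node [] (.node [(2, (-1), 1, 1)] .nil (.node [(74, 1, 1, 1)] .nil .nil)) (.node [] (.node [(50, 1, 1, 1)] .nil .nil) .nil))) (.node [] (.node [] .nil (.node [] (.node [(35, (-1), 1, 1)] .nil .nil) (.node [(134, (-1), 1, 1)] .nil .nil))) (.node [] .nil (.node [(12, 1, 1, 1)] .nil .nil)))) (.node [] (.node [] (.node [] (.node [] .nil (.node [(68, 1, 1, 1)] .nil .nil)) (.node [(7, (-1), 1, 1)] (.node [(25, (-1), 1, 1)] .nil .nil) (.node [(120, (-1), 1, 1)] .nil .nil))) (.node [] .nil (.node [] (.node [(54, 1, 1, 1)] .nil .nil) .nil))) (.node [] (.node [] .nil (.node [] (.node [(44, (-1), 1, 1)] .nil .nil) (.node [(155, 1, 1, 1)] .nil .nil))) (.node [] (.node [] .nil (.node [(77, (-1), 1, 1)] .nil .nil)) .nil)))) (.node [] (.node [] (.node [] .nil (.node [] (.node [(3, (-1), 1, 1)] .nil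 .nil) .nil)) (.node [] (.node [] .nil (.node [(8, 1, 1, 1)] (.node [(39, (-1), 1, 1)] .nil .nil) (.node [(146, 1, 1, 1)] .nil .nil))) (.node [] .nil (.node [] (.node [(60, (-1), 1, 1)] .nil .nil) .nil)))) (.node [] (.node [] (.node [] (.node [] .nil (.node [(69, (-1), 1, 1)] .nil .nil)) (.node [] (.node [(32, (-1), 1, 1)] .nil .nil) (.node [(125, (-1), 1, 1)] .nil .nil))) (.node [] .nil (.node [(11, (-1), 1, 1)] (.node [(55, (-1), 1, 1)] .nil .nil) .nil))) (.node [] (.node [] (.node [] .nil (.node [(73, (-1), 1, 1)] .nil .nil)) (.node [] .nil (.node [(160, 1, 1, 1)] .nil .nil))) (.node [] (.node [(6, (-1), 1, 1)] .nil .nil) (.node [] (.node [(64, (-1), 1, 1)] .nil .nil) .nil)))))) (.node [] (.node [] (.node [] (.node [] .nil (.node [] .nil (.node [] (.node [(51, (-1), 1, 1)] .nil .nil) .nil))) (.node [] (.node [] (.node [] .nil (.node [(70, 1, 1, 1)] .nil .nil)) (.node [] .nil (.node [(140, 1, 1, 1)] .nil .nil))) (.node [] (.node [(5,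 (-1), 1, 1)] .nil .nil) (.node [] (.node [(58, 1, 1, 1)] .nil .nil) .nil)))) (.node [] (.node [] (.node [] .nil (.node [] (.node [(29, 1, 1, 1)] .nil .nil) (.node [(122, 1, 1, 1)] .nil .nil))) (.node [] (.node [(4, (-1), 1, 1)] .nil .nil) .nil)) (.node [] (.node [] (.node [] .nil (.node [(72, 1, 1, 1)] .nil .nil)) (.node [] (.node [(45, 1, 1, 1)] .nil .nil) (.node [(158, 1, 1, 1)] .nil .nil))) (.node [] .nil (.node [] (.node [(63, 1, 1, 1)] .nil .nil) .nil))))) (.node [] (.node [] (.node [] (.node [] (.node [] .nil (.node [(67, (-1), 1, 1)] .nil .nil)) (.node [] (.node [(20, 1, 1, 1)] .nil .nil) .nil)) (.node [] (.node [] .nil (.node [(75, (-1), 1, 1)] .nil .nil)) (.node [(10, 1, 1, 1)] (.node [(53, (-1), 1, 1)] .nil .nil) .nil))) (.node [] (.node [] .nil (.node [] (.node [(42, 1, 1, 1)] .nil .nil) (.node [(151, 1, 1, 1)] .nil .nil))) (.node [] .nil (.node [] (.node [(61, 1, 1, 1)] .nil .nil) .nil)))) (.node [] (.node [] (.node [] .nil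 (.node [] (.node [(34, 1, 1, 1)] .nil .nil) (.node [(129, 1, 1, 1)] .nil .nil))) (.node [] (.node [] .nil (.node [(76, 1, 1, 1)] .nil .nil)) .nil)) (.node [] (.node [] (.node [(1, (-1), 1, 1)] .nil .nil) (.node [(9, (-1), 1, 1)] (.node [(48, (-1), 1, 1)] .nil .nil) (.node [(161, 1, 1, 1)] .nil .nil))) .nil)))))
def C13 : List (ℕ × List (ℕ × ℤ)) := [(78, [(1, (-1))]), (79, [(2, (-1))]), (81, [(3, (-1))]), (84, [(4, (-1))]), (88, [(5, (-1))]), (93, [(6, (-1))]), (99, [(7, (-1))]), (105, [(8, 1)]), (110, [(9, (-1))]), (114, [(10, 1)]), (117, [(11, (-1))]), (119, [(12, 1)]), (162, [(20, 1)]), (163, [(25, (-1))]), (164, [(29, 1)]), (165, [(32, (-1))]), (166, [(34, 1)]), (167, [(35, (-1))]), (169, [(39, (-1))]), (170, [(42, 1)]), (171, [(44, (-1))]), (172, [(45, 1)]), (174, [(48, (-1))]), (175, [(50, 1)]), (176, [(51, (-1))]), (178, [(53, (-1))]), (179, [(54, 1)]), (181, [(55, (-1))]), (184, [(58, 1)]), (185, [(60, (-1))]), (186, [(61, 1)]),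 (188, [(63, 1)]), (189, [(64, (-1))]), (191, [(65, 1)]), (194, [(67, (-1))]), (195, [(68, 1)]), (197, [(69, (-1))]), (200, [(70, 1)]), (204, [(72, 1)]), (205, [(73, (-1))]), (207, [(74, 1)]), (210, [(75, (-1))]), (214, [(76, 1)]), (219, [(77, (-1))]), (227, [(120, (-1))]), (228, [(122, 1)]), (229, [(125, (-1))]), (230, [(129, 1)]), (231, [(134, (-1))]), (232, [(140, 1)]), (233, [(146, 1)]), (234, [(151, 1)]), (235, [(155, 1)]), (236, [(158, 1)]), (237, [(160, 1)]), (238, [(161, 1)])]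
def M14 : Tr (List (ℕ × ℤ × ℕ × ℕ)) := (.node [] (.node [] (.node [] (.node [] (.node [] (.node [] .nil (.node [] (.node [(33, 1, 1, 1)] .nil .nil) (.node [(97, 1, 1, 1)] .nil .nil))) (.node [] (.node [] (.node [(17, 1, 1, 1)] .nil .nil) (.node [(81, (-1), 1, 1)] .nil .nil)) (.node [] .nil (.node [(168, (-1), 1, 1)] .nil .nil)))) (.node [] (.node [] (.node [(0, 1, 1, 1)] .nil .nil) .nil) (.node [] (.node [] (.node [(25, 1, 1, 1)] .nil .nil) (.node [(89, 1, 1, 1)] .nil .nil)) .nil))) (.node [] (.node [] .nil (.node [] (.node [] (.node [(21, 1, 1, 1)] .nil .nil) (.node [(85, (-1), 1, 1)] .nil .nil)) .nil)) (.node [] (.node [] (.node [(4, 1, 1, 1)] .nil .nil) (.node [] .nil (.node [(164, (-1), 1, 1)] .nil .nil))) (.node [] (.node [] (.node [(29, (-1), 1, 1)] .nil .nil) (.node [(93, 1, 1, 1)] .nil .nil)) .nil)))) (.node [] (.node [] (.node [] (.node [] .nil (.node [] (.node [(35, 1, 1, 1)] .nil .nil) .nil)) (.node [] (.node [] (.node [(19,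 1, 1, 1)] .nil .nil) (.node [(83, (-1), 1, 1)] .nil .nil)) .nil)) (.node [] (.node [] (.node [(2, 1, 1, 1)] .nil .nil) (.node [] .nil (.node [(162, (-1), 1, 1)] .nil .nil))) (.node [] (.node [] (.node [(27, (-1), 1, 1)] .nil .nil) (.node [(91, 1, 1, 1)] .nil .nil)) .nil))) (.node [] (.node [] .nil (.node [] (.node [] (.node [(23, 1, 1, 1)] .nil .nil) (.node [(87, (-1), 1, 1)] .nil .nil)) .nil)) (.node [] (.node [] (.node [(6, 1, 1, 1)] (.node [(15, 1, 1, 1)] .nil .nil) (.node [(79, 1, 1, 1)] .nil .nil)) (.node [] .nil (.node [(166, (-1), 1, 1)] .nil .nil))) (.node [] (.node [] (.node [(31, (-1), 1, 1)] .nil .nil) (.node [(95, 1, 1, 1)] .nil .nil)) .nil))))) (.node [] (.node [] (.node [] (.node [] (.node [] .nil (.node [] (.node [(34, (-1), 1, 1)] .nil .nil) (.node [(98, (-1), 1, 1)] .nil .nil))) (.node [] (.node [] (.node [(18, (-1), 1, 1)] .nil .nil) (.node [(82, 1, 1, 1)] .nil .nil)) .nil)) (.node [] (.node [] (.node [(1, 1, 1, 1)]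 .nil .nil) .nil) (.node [] (.node [] (.node [(26, 1, 1, 1)] .nil .nil) (.node [(90, (-1), 1, 1)] .nil .nil)) .nil))) (.node [] (.node [] .nil (.node [] (.node [] (.node [(22, (-1), 1, 1)] .nil .nil) (.node [(86, 1, 1, 1)] .nil .nil)) .nil)) (.node [] (.node [] (.node [(5, 1, 1, 1)] .nil (.node [(78, (-1), 1, 1)] .nil .nil)) (.node [] .nil (.node [(165, (-1), 1, 1)] .nil .nil))) (.node [] (.node [] (.node [(30, 1, 1, 1)] .nil .nil) (.node [(94, (-1), 1, 1)] .nil .nil)) .nil)))) (.node [] (.node [] (.node [] .nil (.node [] (.node [] (.node [(20, (-1), 1, 1)] .nil .nil) (.node [(84, 1, 1, 1)] .nil .nil)) .nil)) (.node [] (.node [] (.node [(3, 1, 1, 1)] .nil .nil) (.node [] .nil (.node [(163, (-1), 1, 1)] .nil .nil))) (.node [] (.node [] (.node [(28, 1, 1, 1)] .nil .nil) (.node [(92, (-1), 1, 1)] .nil .nil)) .nil))) (.node [] (.node [] .nil (.node [] (.node [] (.node [(24, (-1), 1, 1)] .nil .nil) (.node [(88, (-1), 1, 1)] .nil .nil)) .nil))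 (.node [] (.node [] (.node [] (.node [(16, (-1), 1, 1)] .nil .nil) (.node [(80, (-1), 1, 1)] .nil .nil)) (.node [] .nil (.node [(167, (-1), 1, 1)] .nil .nil))) (.node [] (.node [] (.node [(32, 1, 1, 1)] .nil .nil) (.node [(96, (-1), 1, 1)] .nil .nil)) .nil))))))
def C14 : List (ℕ × List (ℕ × ℤ)) := [(71, [(0, 1)]), (72, [(1, 1)]), (73, [(2, 1)]), (74, [(3, 1)]), (75, [(4, 1)]), (76, [(5, 1)]), (77, [(6, 1)]), (141, [(15, 1)]), (142, [(16, (-1))]), (143, [(17, 1)]), (144, [(18, (-1))]), (145, [(19, 1)]), (146, [(20, (-1))]), (147, [(21, 1)]), (148, [(22, (-1))]), (149, [(23, 1)]), (150, [(24, (-1))]), (151, [(25, 1)]), (152, [(26, 1)]), (153, [(27, (-1))]), (154, [(28, 1)]), (155, [(29, (-1))]), (156, [(30, 1)]), (157, [(31, (-1))]), (158, [(32, 1)]), (159, [(33, 1)]), (160, [(34, (-1))]), (161, [(35, 1)]), (204, [(78, (-1))]), (205, [(79, 1)]), (206, [(80, (-1))]), (207, [(81, (-1))]), (208, [(82, 1)]), (209, [(83, (-1))]), (210, [(84,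 1)]), (211, [(85, (-1))]), (212, [(86, 1)]), (213, [(87, (-1))]), (214, [(88, (-1))]), (215, [(89, 1)]), (216, [(90, (-1))]), (217, [(91, 1)]), (218, [(92, (-1))]), (219, [(93, 1)]), (220, [(94, (-1))]), (221, [(95, 1)]), (222, [(96, (-1))]), (223, [(97, 1)]), (224, [(98, (-1))]), (233, [(162, (-1))]), (234, [(163, (-1))]), (235, [(164, (-1))]), (236, [(165, (-1))]), (237, [(166, (-1))]), (238, [(167, (-1))]), (239, [(168, (-1))])]
def M15 : Tr (List (ℕ × ℤ × ℕ × ℕ)) := (.node [] (.node [] (.node [] (.node [] (.node [] (.node [] .nil (.node [] (.node [(43, 1, 1, 1)] .nil .nil) (.node [(109, (-1), 1, 1)] .nil .nil))) (.node [] .nil (.node [] .nil (.node [(173, 1, 1, 1)] .nil .nil)))) (.node [] (.node [] (.node [] .nil (.node [(83, (-1), 1, 1)] .nil .nil)) (.node [] .nil (.node [(162, (-1), 1, 1)] .nil .nil))) (.node [] (.node [] .nil (.node [(100, 1, 1, 1)] .nil .nil)) .nil))) (.node [] (.node [] (.node [] (.node [(1, (-1), 1, 1)] (.node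 [(17, (-1), 1, 1)] .nil .nil) (.node [(79, 1, 1, 1)] .nil .nil)) .nil) .nil) (.node [] (.node [] (.node [] (.node [(24, (-1), 1, 1)] .nil .nil) (.node [(87, (-1), 1, 1)] .nil .nil)) (.node [] .nil (.node [(169, 1, 1, 1)] .nil .nil))) (.node [] (.node [] (.node [(39, (-1), 1, 1)] .nil .nil) (.node [(105, (-1), 1, 1)] .nil .nil)) .nil)))) (.node [] (.node [] (.node [] (.node [] .nil (.node [] (.node [(45, 1, 1, 1)] .nil .nil) (.node [(141, (-1), 1, 1)] .nil .nil))) .nil) (.node [] (.node [] (.node [] (.node [(22, (-1), 1, 1)] .nil .nil) (.node [(85, (-1), 1, 1)] .nil .nil)) .nil) (.node [] (.node [] (.node [(37, (-1), 1, 1)] .nil .nil) (.node [(102, 1, 1, 1)] .nil .nil)) .nil))) (.node [] (.node [] (.node [] (.node [(3, (-1), 1, 1)] (.node [(19, (-1), 1, 1)] .nil .nil) (.node [(81, (-1), 1, 1)] .nil .nil)) .nil) .nil) (.node [] (.node [] (.node [(8, 1, 1, 1)] .nil .nil) (.node [] .nil (.node [(171, 1, 1, 1)] .nil .nil))) (.node [] (.node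 [] (.node [(41, (-1), 1, 1)] .nil .nil) (.node [(107, (-1), 1, 1)] .nil .nil)) .nil))))) (.node [] (.node [] (.node [] (.node [] (.node [] .nil (.node [] (.node [(44, (-1), 1, 1)] .nil .nil) .nil)) .nil) (.node [] (.node [] (.node [] (.node [(21, 1, 1, 1)] .nil .nil) (.node [(84, 1, 1, 1)] .nil .nil)) (.node [] .nil (.node [(163, (-1), 1, 1)] .nil .nil))) (.node [] (.node [] (.node [(36, 1, 1, 1)] .nil .nil) (.node [(101, (-1), 1, 1)] .nil .nil)) .nil))) (.node [] (.node [] (.node [] (.node [(2, (-1), 1, 1)] (.node [(18, 1, 1, 1)] .nil .nil) (.node [(80, (-1), 1, 1)] .nil .nil)) .nil) .nil) (.node [] (.node [] (.node [(7, 1, 1, 1)] (.node [(25, 1, 1, 1)] .nil .nil) .nil) (.node [] .nil (.node [(170, 1, 1, 1)] .nil .nil))) (.node [] (.node [] (.node [(40, 1, 1, 1)] .nil .nil) (.node [(106, 1, 1, 1)] .nil .nil)) .nil)))) (.node [] (.node [] (.node [] (.node [] (.node [(0, (-1), 1, 1)] (.node [(16, 1, 1, 1)] .nil .nil) (.node [(78, (-1),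 1, 1)] .nil .nil)) (.node [(14, 1, 1, 1)] .nil .nil)) .nil) (.node [] (.node [] (.node [] (.node [(23, 1, 1, 1)] .nil .nil) (.node [(86, 1, 1, 1)] .nil .nil)) .nil) (.node [] (.node [] (.node [(38, 1, 1, 1)] .nil .nil) (.node [(103, (-1), 1, 1)] .nil .nil)) .nil))) (.node [] (.node [] (.node [] (.node [(4, (-1), 1, 1)] (.node [(20, 1, 1, 1)] .nil .nil) (.node [(82, 1, 1, 1)] .nil .nil)) .nil) (.node [] (.node [] .nil (.node [(99, (-1), 1, 1)] .nil .nil)) .nil)) (.node [] (.node [] .nil (.node [] .nil (.node [(172, 1, 1, 1)] .nil .nil))) (.node [] (.node [] (.node [(42, 1, 1, 1)] .nil .nil) (.node [(108, 1, 1, 1)] .nil .nil)) .nil))))))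
def C15 : List (ℕ × List (ℕ × ℤ)) := [(66, [(0, (-1))]), (67, [(1, (-1))]), (68, [(2, (-1))]), (69, [(3, (-1))]), (70, [(4, (-1))]), (76, [(7, 1)]), (77, [(8, 1)]), (98, [(14, 1)]), (130, [(16, 1)]), (131, [(17, (-1))]), (132, [(18, 1)]), (133, [(19, (-1))]), (134, [(20, 1)]), (136, [(21, 1)]), (137, [(22, (-1))]), (138, [(23, 1)]), (139, [(24, (-1))]), (140, [(25, 1)]), (152, [(36, 1)]), (153, [(37, (-1))]), (154, [(38, 1)]), (155, [(39, (-1))]), (156, [(40, 1)]), (157, [(41, (-1))]), (158, [(42, 1)]), (159, [(43, 1)]), (160, [(44, (-1))]), (161, [(45, 1)]), (194, [(78, (-1))]), (195, [(79, 1)]), (196, [(80, (-1))]), (197, [(81, (-1))]), (198, [(82, 1)]), (199, [(83, (-1))]), (200, [(84, 1)]), (201, [(85, (-1))]), (202, [(86, 1)]), (203, [(87, (-1))]), (214, [(99, (-1))]), (215, [(100, 1)]), (216, [(101, (-1))]), (217, [(102, 1)]), (218, [(103, (-1))]), (219, [(105, (-1))]), (220, [(106, 1)]), (221, [(107, (-1))]), (222, [(108, 1)]),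 (223, [(109, (-1))]), (225, [(141, (-1))]), (231, [(162, (-1))]), (232, [(163, (-1))]), (235, [(169, 1)]), (236, [(170, 1)]), (237, [(171, 1)]), (238, [(172, 1)]), (239, [(173, 1)])]
def M16 : Tr (List (ℕ × ℤ × ℕ × ℕ)) := (.node [] (.node [] (.node [] (.node [] (.node [] (.node [] (.node [(1, 1, 1, 1)] (.node [(18, (-1), 1, 1)] .nil .nil) (.node [(81, (-1), 1, 1)] .nil .nil)) (.node [] (.node [(49, 1, 1, 1)] .nil .nil) .nil)) (.node [] .nil (.node [] .nil (.node [(177, (-1), 1, 1)] .nil .nil)))) (.node [] (.node [] (.node [] (.node [(21, 1, 1, 1)] .nil .nil) .nil) .nil) (.node [] (.node [] (.node [(39, (-1), 1, 1)] .nil .nil) .nil) .nil))) (.node [] (.node [] .nil (.node [] (.node [] .nil (.node [(100, 1, 1, 1)] .nil .nil)) .nil)) (.node [] (.node [] (.node [(7, (-1), 1, 1)] (.node [(28, (-1), 1, 1)] .nil .nil) (.node [(91, (-1), 1, 1)] .nil .nil)) .nil) (.node [] (.node [] .nil (.node [(110, 1, 1, 1)] .nil .nil)) .nil)))) (.node [] (.node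 [] (.node [] (.node [] (.node [(3, 1, 1, 1)] (.node [(20, (-1), 1, 1)] .nil .nil) (.node [(83, (-1), 1, 1)] .nil .nil)) (.node [(14, (-1), 1, 1)] (.node [(51, 1, 1, 1)] .nil .nil) (.node [(142, 1, 1, 1)] .nil .nil))) .nil) (.node [] (.node [] (.node [] (.node [(26, (-1), 1, 1)] .nil .nil) (.node [(89, (-1), 1, 1)] .nil .nil)) .nil) .nil)) (.node [] (.node [] .nil (.node [] (.node [] (.node [(37, (-1), 1, 1)] .nil .nil) (.node [(102, 1, 1, 1)] .nil .nil)) .nil)) (.node [] (.node [] (.node [(9, 1, 1, 1)] .nil .nil) (.node [(15, 1, 1, 1)] .nil (.node [(175, (-1), 1, 1)] .nil .nil))) (.node [] (.node [] (.node [(47, (-1), 1, 1)] .nil .nil) (.node [(112, 1, 1, 1)] .nil .nil)) (.node [] (.node [(79, 1, 1, 1)] .nil .nil) .nil)))))) (.node [] (.node [] (.node [] (.node [] (.node [] (.node [(2, 1, 1, 1)] (.node [(19, 1, 1, 1)] .nil .nil) (.node [(82, 1, 1, 1)] .nil .nil)) (.node [] (.node [(50, (-1), 1, 1)] .nil .nil) (.node [(130, (-1), 1, 1)]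 .nil .nil))) .nil) (.node [] (.node [] (.node [] .nil (.node [(88, 1, 1, 1)] .nil .nil)) (.node [] .nil (.node [(164, 1, 1, 1)] .nil .nil))) .nil)) (.node [] (.node [] .nil (.node [] (.node [] (.node [(36, 1, 1, 1)] .nil .nil) (.node [(101, (-1), 1, 1)] .nil .nil)) .nil)) (.node [] (.node [] (.node [] (.node [(29, 1, 1, 1)] .nil .nil) .nil) (.node [] .nil (.node [(174, (-1), 1, 1)] .nil .nil))) (.node [] (.node [] (.node [(46, 1, 1, 1)] .nil .nil) (.node [(111, (-1), 1, 1)] .nil .nil)) (.node [] (.node [(78, (-1), 1, 1)] .nil .nil) .nil))))) (.node [] (.node [] (.node [] .nil (.node [] (.node [] .nil (.node [(99, (-1), 1, 1)] .nil .nil)) .nil)) (.node [] (.node [] (.node [] (.node [(27, 1, 1, 1)] .nil .nil) (.node [(90, 1, 1, 1)] .nil .nil)) (.node [] .nil (.node [(169, 1, 1, 1)] .nil .nil))) (.node [] (.node [] .nil (.node [(104, (-1), 1, 1)] .nil .nil)) .nil))) (.node [] (.node [] (.node [] (.node [(5, (-1), 1, 1)] .nil .nil) (.node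 [] .nil (.node [(162, (-1), 1, 1)] .nil .nil))) (.node [] (.node [] (.node [(38, 1, 1, 1)] .nil .nil) .nil) .nil)) (.node [] (.node [] .nil (.node [] .nil (.node [(176, (-1), 1, 1)] .nil .nil))) (.node [(0, 1, 1, 1)] (.node [] (.node [(48, 1, 1, 1)] .nil .nil) (.node [(113, (-1), 1, 1)] .nil .nil)) (.node [(17, 1, 1, 1)] (.node [(80, (-1), 1, 1)] .nil .nil) .nil)))))))
def C16 : List (ℕ × List (ℕ × ℤ)) := [(62, [(0, 1)]), (63, [(1, 1)]), (64, [(2, 1)]), (65, [(3, 1)]), (70, [(5, (-1))]), (75, [(7, (-1))]), (77, [(9, 1)]), (97, [(14, (-1))]), (109, [(15, 1)]), (126, [(17, 1)]), (127, [(18, (-1))]), (128, [(19, 1)]), (129, [(20, (-1))]), (135, [(21, 1)]), (137, [(26, (-1))]), (138, [(27, 1)]), (139, [(28, (-1))]), (140, [(29, 1)]), (148, [(36, 1)]), (149, [(37, (-1))]), (150, [(38, 1)]), (151, [(39, (-1))]), (156, [(46, 1)]), (157, [(47, (-1))]), (158, [(48, 1)]), (159, [(49, 1)]), (160, [(50, (-1))]), (161, [(51, 1)]), (188, [(78, (-1))]),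 (189, [(79, 1)]), (190, [(80, (-1))]), (191, [(81, (-1))]), (192, [(82, 1)]), (193, [(83, (-1))]), (200, [(88, 1)]), (201, [(89, (-1))]), (202, [(90, 1)]), (203, [(91, (-1))]), (210, [(99, (-1))]), (211, [(100, 1)]), (212, [(101, (-1))]), (213, [(102, 1)]), (218, [(104, (-1))]), (219, [(110, 1)]), (220, [(111, (-1))]), (221, [(112, 1)]), (222, [(113, (-1))]), (224, [(130, (-1))]), (225, [(142, 1)]), (230, [(162, (-1))]), (232, [(164, 1)]), (234, [(169, 1)]), (236, [(174, (-1))]), (237, [(175, (-1))]), (238, [(176, (-1))]), (239, [(177, (-1))])]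
def M17 : Tr (List (ℕ × ℤ × ℕ × ℕ)) := (.node [] (.node [] (.node [] (.node [] (.node [] (.node [] (.node [] .nil (.node [(84, (-1), 1, 1)] .nil .nil)) (.node [] (.node [(52, 1, 1, 1)] .nil .nil) (.node [(126, (-1), 1, 1)] .nil .nil))) (.node [] (.node [] .nil (.node [(99, (-1), 1, 1)] .nil .nil)) (.node [] .nil (.node [(180, 1, 1, 1)] .nil .nil)))) (.node [] (.node [] (.node [] (.node [(22, 1, 1, 1)] .nil .nil) (.node [(90, 1, 1, 1)] .nil .nil)) .nil) (.node [] (.node [] (.node [(42, (-1), 1, 1)] .nil .nil) .nil) .nil))) (.node [] (.node [] .nil (.node [] (.node [] (.node [(36, 1, 1, 1)] .nil .nil) .nil) .nil)) (.node [] (.node [] (.node [] (.node [(31, (-1), 1, 1)] .nil .nil) (.node [(92, (-1), 1, 1)] .nil .nil)) (.node [] .nil (.node [(174, (-1), 1, 1)] .nil .nil))) (.node [(0, (-1), 1, 1)] (.node [] (.node [(48, 1, 1, 1)] .nil .nil) (.node [(114, (-1), 1, 1)] .nil .nil)) (.node [(18, 1, 1, 1)] (.node [(80, (-1), 1, 1)] .nil .nil)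 .nil))))) (.node [] (.node [] (.node [] (.node [] (.node [(4, 1, 1, 1)] .nil (.node [(86, (-1), 1, 1)] .nil .nil)) (.node [] (.node [(54, 1, 1, 1)] .nil .nil) (.node [(143, (-1), 1, 1)] .nil .nil))) (.node [] (.node [] .nil (.node [(101, (-1), 1, 1)] .nil .nil)) (.node [(16, 1, 1, 1)] .nil .nil))) (.node [] .nil (.node [] (.node [] (.node [(46, 1, 1, 1)] .nil .nil) (.node [(104, (-1), 1, 1)] .nil .nil)) (.node [] (.node [(78, (-1), 1, 1)] .nil .nil) .nil)))) (.node [] (.node [] (.node [] (.node [(5, 1, 1, 1)] .nil (.node [(88, 1, 1, 1)] .nil .nil)) (.node [] .nil (.node [(162, (-1), 1, 1)] .nil .nil))) (.node [] (.node [] (.node [(40, (-1), 1, 1)] .nil .nil) (.node [(103, 1, 1, 1)] .nil .nil)) .nil)) (.node [] (.node [] (.node [(10, 1, 1, 1)] .nil .nil) (.node [] .nil (.node [(178, 1, 1, 1)] .nil .nil))) (.node [(2, (-1), 1, 1)] (.node [] .nil (.node [(116, (-1), 1, 1)] .nil .nil)) (.node [(20, 1, 1, 1)] .nil .nil)))))) (.node [] (.node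 [] (.node [] (.node [] (.node [] (.node [] .nil (.node [(85, 1, 1, 1)] .nil .nil)) (.node [(14, 1, 1, 1)] (.node [(53, (-1), 1, 1)] .nil .nil) (.node [(131, 1, 1, 1)] .nil .nil))) (.node [] (.node [] .nil (.node [(100, 1, 1, 1)] .nil .nil)) .nil)) (.node [] (.node [] (.node [] (.node [(26, (-1), 1, 1)] .nil .nil) .nil) (.node [] .nil (.node [(165, (-1), 1, 1)] .nil .nil))) .nil)) (.node [] .nil (.node [] (.node [] (.node [] (.node [(32, 1, 1, 1)] .nil .nil) .nil) (.node [(15, (-1), 1, 1)] .nil .nil)) (.node [(1, (-1), 1, 1)] (.node [] .nil (.node [(115, 1, 1, 1)] .nil .nil)) (.node [(19, (-1), 1, 1)] .nil .nil))))) (.node [] (.node [] .nil (.node [] (.node [] (.node [(7, 1, 1, 1)] (.node [(30, 1, 1, 1)] .nil .nil) .nil) (.node [] .nil (.node [(170, (-1), 1, 1)] .nil .nil))) (.node [] (.node [] (.node [(47, (-1), 1, 1)] .nil .nil) .nil) (.node [] (.node [(79, 1, 1, 1)] .nil .nil) .nil)))) (.node [] (.node [] (.node [] (.node [] .nil (.node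 [(89, (-1), 1, 1)] .nil .nil)) .nil) (.node [] (.node [] (.node [(41, 1, 1, 1)] .nil .nil) .nil) .nil)) (.node [] (.node [] .nil (.node [] .nil (.node [(179, 1, 1, 1)] .nil .nil))) .nil)))))
def C17 : List (ℕ × List (ℕ × ℤ)) := [(59, [(0, (-1))]), (60, [(1, (-1))]), (61, [(2, (-1))]), (65, [(4, 1)]), (69, [(5, 1)]), (74, [(7, 1)]), (77, [(10, 1)]), (96, [(14, 1)]), (108, [(15, (-1))]), (113, [(16, 1)]), (123, [(18, 1)]), (124, [(19, (-1))]), (125, [(20, 1)]), (135, [(22, 1)]), (136, [(26, (-1))]), (138, [(30, 1)]), (139, [(31, (-1))]), (140, [(32, 1)]), (147, [(36, 1)]), (149, [(40, (-1))]), (150, [(41, 1)]), (151, [(42, (-1))]), (153, [(46, 1)]), (154, [(47, (-1))]), (155, [(48, 1)]), (159, [(52, 1)]), (160, [(53, (-1))]), (161, [(54, 1)]), (185, [(78, (-1))]), (186, [(79, 1)]), (187, [(80, (-1))]), (191, [(84, (-1))]), (192, [(85, 1)]), (193, [(86, (-1))]), (197, [(88, 1)]), (198, [(89, (-1))]), (199, [(90, 1)]), (203, [(92, (-1))]),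 (207, [(99, (-1))]), (208, [(100, 1)]), (209, [(101, (-1))]), (213, [(103, 1)]), (217, [(104, (-1))]), (219, [(114, (-1))]), (220, [(115, 1)]), (221, [(116, (-1))]), (223, [(126, (-1))]), (224, [(131, 1)]), (225, [(143, (-1))]), (229, [(162, (-1))]), (232, [(165, (-1))]), (234, [(170, (-1))]), (235, [(174, (-1))]), (237, [(178, 1)]), (238, [(179, 1)]), (239, [(180, 1)])]
def M18 : Tr (List (ℕ × ℤ × ℕ × ℕ)) := (.node [] (.node [] (.node [] (.node [] (.node [] (.node [] .nil (.node [(14, (-1), 1, 1)] .nil (.node [(127, 1, 1, 1)] .nil .nil))) (.node [] .nil (.node [] .nil (.node [(182, (-1), 1, 1)] .nil .nil)))) (.node [] (.node [] (.node [] (.node [(23, 1, 1, 1)] .nil .nil) (.node [(91, 1, 1, 1)] .nil .nil)) .nil) (.node [] (.node [] (.node [(44, (-1), 1, 1)] .nil .nil) .nil) .nil))) (.node [] (.node [] (.node [] (.node [] .nil (.node [(88, 1, 1, 1)] .nil .nil)) .nil) (.node [] (.node [] (.node [(37, 1, 1, 1)] .nil .nil) .nil) .nil)) (.node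 [] (.node [] (.node [] (.node [(33, (-1), 1, 1)] .nil .nil) .nil) (.node [(15, 1, 1, 1)] .nil (.node [(175, 1, 1, 1)] .nil .nil))) (.node [] (.node [] (.node [(50, 1, 1, 1)] .nil .nil) (.node [(117, 1, 1, 1)] .nil .nil)) (.node [] (.node [(82, (-1), 1, 1)] .nil .nil) .nil))))) (.node [] (.node [] (.node [] (.node [] (.node [] .nil (.node [(87, (-1), 1, 1)] .nil .nil)) (.node [] (.node [(55, 1, 1, 1)] .nil .nil) (.node [(144, 1, 1, 1)] .nil .nil))) (.node [] (.node [] .nil (.node [(102, (-1), 1, 1)] .nil .nil)) .nil)) (.node [] (.node [] (.node [(7, (-1), 1, 1)] (.node [(30, 1, 1, 1)] .nil .nil) .nil) .nil) (.node [(0, 1, 1, 1)] .nil (.node [(19, 1, 1, 1)] .nil .nil)))) (.node [] .nil (.node [] (.node [] (.node [(11, 1, 1, 1)] .nil (.node [(99, (-1), 1, 1)] .nil .nil)) .nil) (.node [(3, (-1), 1, 1)] (.node [] (.node [(52, 1, 1, 1)] .nil .nil) .nil) (.node [] (.node [(84, (-1), 1, 1)] .nil .nil) .nil)))))) (.node [] (.node [] (.node []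 (.node [] (.node [] (.node [(4, (-1), 1, 1)] .nil .nil) (.node [] .nil (.node [(132, (-1), 1, 1)] .nil .nil))) (.node [] .nil (.node [(16, (-1), 1, 1)] .nil .nil))) (.node [] (.node [] (.node [] (.node [(27, (-1), 1, 1)] .nil .nil) .nil) (.node [] .nil (.node [(166, 1, 1, 1)] .nil .nil))) (.node [] (.node [] (.node [(46, 1, 1, 1)] .nil .nil) (.node [(104, (-1), 1, 1)] .nil .nil)) (.node [] (.node [(78, (-1), 1, 1)] .nil .nil) .nil)))) (.node [] (.node [] (.node [] (.node [(5, (-1), 1, 1)] .nil (.node [(89, (-1), 1, 1)] .nil .nil)) (.node [] .nil (.node [(162, (-1), 1, 1)] .nil .nil))) (.node [] (.node [] (.node [(40, (-1), 1, 1)] .nil .nil) (.node [(103, 1, 1, 1)] .nil .nil)) (.node [(17, 1, 1, 1)] .nil .nil))) (.node [] (.node [] (.node [] (.node [(34, 1, 1, 1)] .nil .nil) .nil) (.node [] .nil (.node [(178, 1, 1, 1)] .nil .nil))) (.node [] (.node [] .nil (.node [(118, (-1), 1, 1)] .nil .nil)) .nil)))) (.node [] (.node [] .nil (.node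 [] (.node [] (.node [] .nil (.node [(92, (-1), 1, 1)] .nil .nil)) (.node [] .nil (.node [(171, 1, 1, 1)] .nil .nil))) (.node [(1, 1, 1, 1)] (.node [] (.node [(49, (-1), 1, 1)] .nil .nil) .nil) (.node [(20, (-1), 1, 1)] (.node [(81, 1, 1, 1)] .nil .nil) .nil)))) (.node [] (.node [] .nil (.node [] (.node [] (.node [(43, 1, 1, 1)] .nil .nil) .nil) .nil)) (.node [] (.node [] (.node [] .nil (.node [(100, 1, 1, 1)] .nil .nil)) (.node [] .nil (.node [(181, (-1), 1, 1)] .nil .nil))) (.node [] (.node [] (.node [(53, (-1), 1, 1)] .nil .nil) (.node [(123, (-1), 1, 1)] .nil .nil)) (.node [] (.node [(85, 1, 1, 1)] .nil .nil) .nil)))))))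
def C18 : List (ℕ × List (ℕ × ℤ)) := [(57, [(0, 1)]), (58, [(1, 1)]), (61, [(3, (-1))]), (64, [(4, (-1))]), (68, [(5, (-1))]), (73, [(7, (-1))]), (77, [(11, 1)]), (95, [(14, (-1))]), (107, [(15, 1)]), (112, [(16, (-1))]), (116, [(17, 1)]), (121, [(19, 1)]), (122, [(20, (-1))]), (135, [(23, 1)]), (136, [(27, (-1))]), (137, [(30, 1)]), (139, [(33, (-1))]), (140, [(34, 1)]), (147, [(37, 1)]), (148, [(40, (-1))]), (150, [(43, 1)]), (151, [(44, (-1))]), (152, [(46, 1)]), (154, [(49, (-1))]), (155, [(50, 1)]), (157, [(52, 1)]), (158, [(53, (-1))]), (161, [(55, 1)]), (184, [(78, (-1))]), (186, [(81, 1)]), (187, [(82, (-1))]), (189, [(84, (-1))]), (190, [(85, 1)]), (193, [(87, (-1))]), (195, [(88, 1)]), (196, [(89, (-1))]), (199, [(91, 1)]), (202, [(92, (-1))]), (205, [(99, (-1))]), (206, [(100, 1)]), (209, [(102, (-1))]), (212, [(103, 1)]), (216, [(104, (-1))]), (219, [(117, 1)]), (220, [(118, (-1))]), (222, [(123, (-1))]), (223, [(127, 1)]),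 (224, [(132, (-1))]), (225, [(144, 1)]), (228, [(162, (-1))]), (232, [(166, 1)]), (234, [(171, 1)]), (235, [(175, 1)]), (236, [(178, 1)]), (238, [(181, (-1))]), (239, [(182, (-1))])]
def M19 : Tr (List (ℕ × ℤ × ℕ × ℕ)) := (.node [] (.node [] (.node [] (.node [] (.node [] (.node [] (.node [(4, 1, 1, 1)] .nil .nil) (.node [] .nil (.node [(128, (-1), 1, 1)] .nil .nil))) (.node [] .nil (.node [(16, 1, 1, 1)] .nil (.node [(183, 1, 1, 1)] .nil .nil)))) (.node [] (.node [] (.node [] (.node [(24, 1, 1, 1)] .nil .nil) .nil) .nil) (.node [] (.node [] (.node [(45, (-1), 1, 1)] .nil .nil) (.node [(104, (-1), 1, 1)] .nil .nil)) .nil))) (.node [] (.node [] (.node [] (.node [(5, 1, 1, 1)] .nil .nil) (.node [] .nil (.node [(162, (-1), 1, 1)] .nil .nil))) (.node [] (.node [] (.node [(38, 1, 1, 1)] .nil .nil) (.node [(103, 1, 1, 1)] .nil .nil)) (.node [(17, (-1), 1, 1)] .nil .nil))) (.node [] (.node [] .nil (.node [] .nil (.node [(176, (-1), 1, 1)] .nil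 .nil))) (.node [] (.node [] (.node [(51, 1, 1, 1)] .nil .nil) (.node [(119, (-1), 1, 1)] .nil .nil)) (.node [] (.node [(83, (-1), 1, 1)] .nil .nil) .nil))))) (.node [] (.node [] (.node [] (.node [] .nil (.node [] .nil (.node [(145, (-1), 1, 1)] .nil .nil))) .nil) (.node [] (.node [] (.node [] (.node [(31, 1, 1, 1)] .nil .nil) (.node [(92, (-1), 1, 1)] .nil .nil)) .nil) (.node [] (.node [] (.node [(49, (-1), 1, 1)] .nil .nil) .nil) (.node [] (.node [(81, 1, 1, 1)] .nil .nil) .nil)))) (.node [] (.node [] .nil (.node [] (.node [] (.node [(43, 1, 1, 1)] .nil .nil) .nil) .nil)) (.node [] (.node [] (.node [(12, 1, 1, 1)] .nil .nil) (.node [] .nil (.node [(181, (-1), 1, 1)] .nil .nil))) (.node [] (.node [] .nil (.node [(121, (-1), 1, 1)] .nil .nil)) .nil))))) (.node [] (.node [] (.node [] (.node [] (.node [] (.node [] .nil (.node [(87, (-1), 1, 1)] .nil .nil)) (.node [] (.node [(55, 1, 1, 1)] .nil .nil) (.node [(133, 1, 1, 1)] .nil .nil))) (.node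 [] (.node [] .nil (.node [(102, (-1), 1, 1)] .nil .nil)) .nil)) (.node [] (.node [] (.node [(7, 1, 1, 1)] (.node [(28, (-1), 1, 1)] .nil .nil) .nil) (.node [] .nil (.node [(167, (-1), 1, 1)] .nil .nil))) (.node [(0, (-1), 1, 1)] (.node [] (.node [(47, 1, 1, 1)] .nil .nil) .nil) (.node [(20, 1, 1, 1)] (.node [(79, (-1), 1, 1)] .nil .nil) .nil)))) (.node [] (.node [] (.node [] (.node [] .nil (.node [(90, (-1), 1, 1)] .nil .nil)) .nil) (.node [] (.node [] (.node [(41, (-1), 1, 1)] .nil .nil) .nil) .nil)) (.node [] (.node [] (.node [] (.node [(35, 1, 1, 1)] .nil .nil) (.node [(99, (-1), 1, 1)] .nil .nil)) (.node [] .nil (.node [(179, (-1), 1, 1)] .nil .nil))) (.node [(3, 1, 1, 1)] (.node [] (.node [(52, 1, 1, 1)] .nil .nil) .nil) (.node [] (.node [(84, (-1), 1, 1)] .nil .nil) .nil))))) (.node [] (.node [] (.node [] (.node [] (.node [] .nil (.node [(88, 1, 1, 1)] .nil .nil)) .nil) .nil) (.node [] (.node [] (.node [] (.node [(33, (-1), 1, 1)]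 .nil .nil) .nil) (.node [(15, (-1), 1, 1)] .nil (.node [(172, (-1), 1, 1)] .nil .nil))) (.node [(2, 1, 1, 1)] .nil .nil))) (.node [] (.node [] (.node [] (.node [] .nil (.node [(91, 1, 1, 1)] .nil .nil)) .nil) (.node [] .nil (.node [(18, 1, 1, 1)] .nil .nil))) (.node [] (.node [] (.node [] .nil (.node [(101, 1, 1, 1)] .nil .nil)) .nil) (.node [] (.node [(14, 1, 1, 1)] (.node [(54, (-1), 1, 1)] .nil .nil) (.node [(124, 1, 1, 1)] .nil .nil)) (.node [] (.node [(86, 1, 1, 1)] .nil .nil) .nil)))))))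
def C19 : List (ℕ × List (ℕ × ℤ)) := [(56, [(0, (-1))]), (58, [(2, 1)]), (60, [(3, 1)]), (63, [(4, 1)]), (67, [(5, 1)]), (72, [(7, 1)]), (77, [(12, 1)]), (94, [(14, 1)]), (106, [(15, (-1))]), (111, [(16, 1)]), (115, [(17, (-1))]), (118, [(18, 1)]), (120, [(20, 1)]), (135, [(24, 1)]), (136, [(28, (-1))]), (137, [(31, 1)]), (138, [(33, (-1))]), (140, [(35, 1)]), (147, [(38, 1)]), (148, [(41, (-1))]), (149, [(43, 1)]), (151, [(45, (-1))]), (152, [(47, 1)]), (153, [(49, (-1))]), (155, [(51, 1)]), (156, [(52, 1)]), (158, [(54, (-1))]), (160, [(55, 1)]), (184, [(79, (-1))]), (185, [(81, 1)]), (187, [(83, (-1))]), (188, [(84, (-1))]), (190, [(86, 1)]), (192, [(87, (-1))]), (194, [(88, 1)]), (196, [(90, (-1))]), (198, [(91, 1)]), (201, [(92, (-1))]), (204, [(99, (-1))]), (206, [(101, 1)]), (208, [(102, (-1))]), (211, [(103, 1)]), (215, [(104, (-1))]), (219, [(119, (-1))]), (221, [(121, (-1))]), (222, [(124, 1)]), (223, [(128, (-1))]), (224, [(133,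 1)]), (225, [(145, (-1))]), (227, [(162, (-1))]), (232, [(167, (-1))]), (234, [(172, (-1))]), (235, [(176, (-1))]), (236, [(179, (-1))]), (237, [(181, (-1))]), (239, [(183, 1)])]
def M20 : Tr (List (ℕ × ℤ × ℕ × ℕ)) := (.node [] (.node [] (.node [] (.node [] (.node [] (.node [] (.node [] .nil (.node [(87, (-1), 1, 1)] .nil .nil)) (.node [] (.node [(55, 1, 1, 1)] .nil .nil) (.node [(129, 1, 1, 1)] .nil .nil))) (.node [] (.node [] .nil (.node [(102, (-1), 1, 1)] .nil .nil)) .nil)) (.node [] (.node [] (.node [(7, (-1), 1, 1)] (.node [(25, 1, 1, 1)] .nil .nil) .nil) .nil) (.node [] .nil (.node [(19, 1, 1, 1)] .nil .nil)))) (.node [] (.node [] (.node [] (.node [] .nil (.node [(90, (-1), 1, 1)] .nil .nil)) .nil) (.node [] (.node [] (.node [(39, 1, 1, 1)] .nil .nil) .nil) .nil)) (.node [] (.node [] (.node [] (.node [(35, 1, 1, 1)] .nil .nil) .nil) (.node [] .nil (.node [(177, 1, 1, 1)] .nil .nil))) (.node [(3, (-1), 1, 1)] .nil .nil)))) (.node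 [] (.node [] (.node [] (.node [] .nil (.node [] .nil (.node [(146, 1, 1, 1)] .nil .nil))) .nil) (.node [] (.node [] (.node [] (.node [(32, 1, 1, 1)] .nil .nil) .nil) (.node [(15, 1, 1, 1)] .nil .nil)) (.node [(2, (-1), 1, 1)] (.node [] (.node [(50, (-1), 1, 1)] .nil .nil) .nil) (.node [] (.node [(82, 1, 1, 1)] .nil .nil) .nil)))) (.node [] (.node [] (.node [] (.node [] .nil (.node [(91, 1, 1, 1)] .nil .nil)) .nil) (.node [] (.node [] (.node [(44, 1, 1, 1)] .nil .nil) .nil) (.node [(18, (-1), 1, 1)] .nil .nil))) (.node [] (.node [] (.node [(13, 1, 1, 1)] .nil (.node [(101, 1, 1, 1)] .nil .nil)) (.node [] .nil (.node [(182, 1, 1, 1)] .nil .nil))) (.node [] (.node [(14, (-1), 1, 1)] (.node [(54, (-1), 1, 1)] .nil .nil) (.node [(122, 1, 1, 1)] .nil .nil)) (.node [] (.node [(86, 1, 1, 1)] .nil .nil) .nil)))))) (.node [] (.node [] (.node [] (.node [] (.node [] .nil (.node [] .nil (.node [(134, (-1), 1, 1)] .nil .nil))) .nil) (.node [] (.node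 [] (.node [] (.node [(29, (-1), 1, 1)] .nil .nil) (.node [(92, (-1), 1, 1)] .nil .nil)) (.node [] .nil (.node [(168, 1, 1, 1)] .nil .nil))) (.node [(1, (-1), 1, 1)] (.node [] (.node [(48, 1, 1, 1)] .nil .nil) .nil) (.node [] (.node [(80, (-1), 1, 1)] .nil .nil) .nil)))) (.node [] (.node [] .nil (.node [] (.node [] (.node [(42, (-1), 1, 1)] .nil .nil) .nil) .nil)) (.node [] (.node [] (.node [] .nil (.node [(100, (-1), 1, 1)] .nil .nil)) (.node [] .nil (.node [(180, 1, 1, 1)] .nil .nil))) (.node [] (.node [] (.node [(53, 1, 1, 1)] .nil .nil) (.node [(120, (-1), 1, 1)] .nil .nil)) (.node [] (.node [(85, (-1), 1, 1)] .nil .nil) .nil))))) (.node [] (.node [] (.node [] (.node [] (.node [(5, (-1), 1, 1)] .nil (.node [(89, 1, 1, 1)] .nil .nil)) (.node [] .nil (.node [(162, (-1), 1, 1)] .nil .nil))) (.node [] (.node [] .nil (.node [(103, 1, 1, 1)] .nil .nil)) (.node [(17, 1, 1, 1)] .nil .nil))) (.node [] (.node [] (.node [] (.node [(34, (-1),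 1, 1)] .nil .nil) .nil) (.node [] .nil (.node [(173, 1, 1, 1)] .nil .nil))) (.node [] (.node [] (.node [(51, 1, 1, 1)] .nil .nil) .nil) (.node [] (.node [(83, (-1), 1, 1)] .nil .nil) .nil)))) (.node [] (.node [] .nil (.node [] (.node [] (.node [(45, (-1), 1, 1)] .nil .nil) (.node [(104, (-1), 1, 1)] .nil .nil)) .nil)) (.node [] (.node [] .nil (.node [(16, (-1), 1, 1)] .nil (.node [(183, 1, 1, 1)] .nil .nil))) (.node [(4, (-1), 1, 1)] (.node [] .nil (.node [(125, (-1), 1, 1)] .nil .nil)) .nil))))))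
def C20 : List (ℕ × List (ℕ × ℤ)) := [(56, [(1, (-1))]), (57, [(2, (-1))]), (59, [(3, (-1))]), (62, [(4, (-1))]), (66, [(5, (-1))]), (71, [(7, (-1))]), (77, [(13, 1)]), (93, [(14, (-1))]), (105, [(15, 1)]), (110, [(16, (-1))]), (114, [(17, 1)]), (117, [(18, (-1))]), (119, [(19, 1)]), (135, [(25, 1)]), (136, [(29, (-1))]), (137, [(32, 1)]), (138, [(34, (-1))]), (139, [(35, 1)]), (147, [(39, 1)]), (148, [(42, (-1))]), (149, [(44, 1)]), (150, [(45, (-1))]), (152, [(48, 1)]), (153, [(50, (-1))]), (154, [(51, 1)]), (156, [(53, 1)]), (157, [(54, (-1))]), (159, [(55, 1)]), (184, [(80, (-1))]), (185, [(82, 1)]), (186, [(83, (-1))]), (188, [(85, (-1))]), (189, [(86, 1)]), (191, [(87, (-1))]), (194, [(89, 1)]), (195, [(90, (-1))]), (197, [(91, 1)]), (200, [(92, (-1))]), (204, [(100, (-1))]), (205, [(101, 1)]), (207, [(102, (-1))]), (210, [(103, 1)]), (214, [(104, (-1))]), (220, [(120, (-1))]), (221, [(122, 1)]), (222, [(125, (-1))]), (223, [(129,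 1)]), (224, [(134, (-1))]), (225, [(146, 1)]), (226, [(162, (-1))]), (232, [(168, 1)]), (234, [(173, 1)]), (235, [(177, 1)]), (236, [(180, 1)]), (237, [(182, 1)]), (238, [(183, 1)])]
def M21 : Tr (List (ℕ × ℤ × ℕ × ℕ)) := (.node [] (.node [] (.node [] (.node [] (.node [] (.node [] (.node [] (.node [(23, (-1), 1, 1)] .nil .nil) .nil) (.node [] (.node [(59, 1, 1, 1)] .nil .nil) (.node [(135, (-1), 1, 1)] .nil .nil))) (.node [] (.node [] (.node [(36, 1, 1, 1)] .nil .nil) .nil) (.node [] .nil (.node [(187, 1, 1, 1)] .nil .nil)))) (.node [] (.node [] .nil (.node [(15, 1, 1, 1)] .nil (.node [(164, 1, 1, 1)] .nil .nil))) (.node [(3, (-1), 1, 1)] (.node [] .nil (.node [(111, (-1), 1, 1)] .nil .nil)) (.node [] (.node [(83, (-1), 1, 1)] .nil .nil) .nil)))) (.node [] (.node [] (.node [] (.node [] (.node [(26, 1, 1, 1)] .nil .nil) .nil) .nil) (.node [] (.node [] .nil (.node [(106, (-1), 1, 1)] .nil .nil)) (.node [] (.node [(79, 1, 1, 1)] .nil .nil)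 .nil))) (.node [] (.node [] (.node [(8, (-1), 1, 1)] .nil (.node [(96, (-1), 1, 1)] .nil .nil)) .nil) .nil))) (.node [] (.node [] (.node [] (.node [] (.node [] (.node [(25, (-1), 1, 1)] .nil .nil) .nil) (.node [] (.node [(61, 1, 1, 1)] .nil .nil) (.node [(147, (-1), 1, 1)] .nil .nil))) (.node [] (.node [] (.node [(38, 1, 1, 1)] .nil .nil) .nil) .nil)) (.node [] (.node [] (.node [] .nil (.node [(94, (-1), 1, 1)] .nil .nil)) (.node [] .nil (.node [(169, 1, 1, 1)] .nil .nil))) (.node [] (.node [] .nil (.node [(113, (-1), 1, 1)] .nil .nil)) .nil))) (.node [] (.node [] (.node [] (.node [] (.node [(28, 1, 1, 1)] .nil .nil) .nil) .nil) (.node [(1, (-1), 1, 1)] (.node [] .nil (.node [(108, (-1), 1, 1)] .nil .nil)) (.node [] (.node [(81, (-1), 1, 1)] .nil .nil) .nil))) (.node [] (.node [] .nil (.node [] .nil (.node [(185, 1, 1, 1)] .nil .nil))) (.node [] (.node [] (.node [(57, (-1), 1, 1)] .nil .nil) .nil) .nil))))) (.node [] (.node [] (.node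 [] (.node [] (.node [] (.node [] (.node [(24, 1, 1, 1)] .nil .nil) .nil) (.node [] (.node [(60, (-1), 1, 1)] .nil .nil) (.node [(136, (-1), 1, 1)] .nil .nil))) (.node [] (.node [] (.node [(37, (-1), 1, 1)] .nil .nil) .nil) .nil)) (.node [] (.node [] (.node [] .nil (.node [(93, 1, 1, 1)] .nil .nil)) (.node [(16, 1, 1, 1)] .nil .nil)) (.node [] (.node [] .nil (.node [(112, 1, 1, 1)] .nil .nil)) .nil))) (.node [] (.node [] (.node [] (.node [] (.node [(27, (-1), 1, 1)] .nil .nil) .nil) .nil) (.node [(0, (-1), 1, 1)] (.node [] .nil (.node [(107, 1, 1, 1)] .nil .nil)) (.node [] (.node [(80, (-1), 1, 1)] .nil .nil) .nil))) (.node [] (.node [] (.node [(9, (-1), 1, 1)] .nil .nil) (.node [] .nil (.node [(184, 1, 1, 1)] .nil .nil))) (.node [] (.node [(14, 1, 1, 1)] (.node [(56, 1, 1, 1)] .nil .nil) .nil) .nil)))) (.node [] (.node [] (.node [] .nil (.node [] (.node [] (.node [(39, (-1), 1, 1)] .nil .nil) (.node [(105, 1, 1, 1)] .nil .nil)) (.node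 [] (.node [(78, (-1), 1, 1)] .nil .nil) .nil))) (.node [] (.node [] (.node [] .nil (.node [(95, 1, 1, 1)] .nil .nil)) .nil) .nil)) (.node [] (.node [] (.node [] (.node [(6, (-1), 1, 1)] (.node [(29, (-1), 1, 1)] .nil .nil) .nil) (.node [] .nil (.node [(163, 1, 1, 1)] .nil .nil))) (.node [(2, (-1), 1, 1)] (.node [] .nil (.node [(110, 1, 1, 1)] .nil .nil)) (.node [] (.node [(82, 1, 1, 1)] .nil .nil) .nil))) (.node [] (.node [] .nil (.node [] .nil (.node [(186, 1, 1, 1)] .nil .nil))) (.node [] (.node [] (.node [(58, 1, 1, 1)] .nil .nil) .nil) (.node [(22, 1, 1, 1)] .nil .nil)))))))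
def C21 : List (ℕ × List (ℕ × ℤ)) := [(52, [(0, (-1))]), (53, [(1, (-1))]), (54, [(2, (-1))]), (55, [(3, (-1))]), (70, [(6, (-1))]), (75, [(8, (-1))]), (76, [(9, (-1))]), (92, [(14, 1)]), (103, [(15, 1)]), (104, [(16, 1)]), (126, [(22, 1)]), (127, [(23, (-1))]), (128, [(24, 1)]), (129, [(25, (-1))]), (131, [(26, 1)]), (132, [(27, (-1))]), (133, [(28, 1)]), (134, [(29, (-1))]), (143, [(36, 1)]), (144, [(37, (-1))]), (145, [(38, 1)]), (146, [(39, (-1))]), (156, [(56, 1)]), (157, [(57, (-1))]), (158, [(58, 1)]), (159, [(59, 1)]), (160, [(60, (-1))]), (161, [(61, 1)]), (178, [(78, (-1))]), (179, [(79, 1)]), (180, [(80, (-1))]), (181, [(81, (-1))]), (182, [(82, 1)]), (183, [(83, (-1))]), (200, [(93, 1)]), (201, [(94, (-1))]), (202, [(95, 1)]), (203, [(96, (-1))]), (210, [(105, 1)]), (211, [(106, (-1))]), (212, [(107, 1)]), (213, [(108, (-1))]), (214, [(110, 1)]), (215, [(111, (-1))]), (216, [(112, 1)]), (217, [(113, (-1))]), (223, [(135, (-1))]),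 (224, [(136, (-1))]), (225, [(147, (-1))]), (230, [(163, 1)]), (231, [(164, 1)]), (233, [(169, 1)]), (236, [(184, 1)]), (237, [(185, 1)]), (238, [(186, 1)]), (239, [(187, 1)])]
def M22 : Tr (List (ℕ × ℤ × ℕ × ℕ)) := (.node [] (.node [] (.node [] (.node [] (.node [] (.node [] .nil (.node [] (.node [(62, 1, 1, 1)] .nil .nil) .nil)) (.node [] (.node [] .nil (.node [(105, 1, 1, 1)] .nil .nil)) (.node [] (.node [(78, (-1), 1, 1)] .nil .nil) (.node [(190, (-1), 1, 1)] .nil .nil)))) (.node [] (.node [] (.node [] .nil (.node [(95, 1, 1, 1)] .nil .nil)) (.node [] .nil (.node [(165, (-1), 1, 1)] .nil .nil))) (.node [(4, (-1), 1, 1)] (.node [] .nil (.node [(115, 1, 1, 1)] .nil .nil)) (.node [] (.node [(86, (-1), 1, 1)] .nil .nil) .nil)))) (.node [] (.node [] .nil (.node [(2, 1, 1, 1)] .nil .nil)) (.node [] (.node [] (.node [] .nil (.node [(97, (-1), 1, 1)] .nil .nil)) (.node [] .nil (.node [(184, 1, 1, 1)] .nil .nil))) (.node [] (.node [(14, (-1),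 1, 1)] (.node [(58, 1, 1, 1)] .nil .nil) .nil) (.node [(23, 1, 1, 1)] .nil .nil))))) (.node [] (.node [] (.node [] (.node [] .nil (.node [] (.node [(64, 1, 1, 1)] .nil .nil) (.node [(148, 1, 1, 1)] .nil .nil))) (.node [(0, 1, 1, 1)] (.node [] (.node [(41, 1, 1, 1)] .nil .nil) (.node [(107, 1, 1, 1)] .nil .nil)) (.node [(21, 1, 1, 1)] (.node [(80, (-1), 1, 1)] .nil .nil) .nil))) (.node [] (.node [] .nil (.node [] .nil (.node [(170, (-1), 1, 1)] .nil .nil))) (.node [] (.node [] (.node [(56, 1, 1, 1)] .nil .nil) .nil) .nil))) (.node [] (.node [] (.node [] (.node [(6, 1, 1, 1)] (.node [(31, 1, 1, 1)] .nil .nil) (.node [(93, 1, 1, 1)] .nil .nil)) (.node [] .nil (.node [(163, 1, 1, 1)] .nil .nil))) (.node [] (.node [] .nil (.node [(109, (-1), 1, 1)] .nil .nil)) (.node [] (.node [(84, (-1), 1, 1)] .nil .nil) .nil))) (.node [] (.node [] .nil (.node [] .nil (.node [(188, (-1), 1, 1)] .nil .nil))) (.node [] .nil (.node [(25, 1, 1, 1)] .nil .nil))))))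 (.node [] (.node [] (.node [] (.node [] (.node [] .nil (.node [] (.node [(63, (-1), 1, 1)] .nil .nil) (.node [(137, 1, 1, 1)] .nil .nil))) (.node [] (.node [] (.node [(40, (-1), 1, 1)] .nil .nil) (.node [(106, (-1), 1, 1)] .nil .nil)) (.node [] (.node [(79, 1, 1, 1)] .nil .nil) .nil))) (.node [] (.node [] .nil (.node [(17, 1, 1, 1)] .nil .nil)) (.node [] (.node [] .nil (.node [(116, (-1), 1, 1)] .nil .nil)) .nil))) (.node [] (.node [] (.node [] (.node [] (.node [(30, (-1), 1, 1)] .nil .nil) .nil) .nil) .nil) (.node [] (.node [] (.node [(10, (-1), 1, 1)] .nil .nil) .nil) (.node [] .nil (.node [(24, (-1), 1, 1)] .nil .nil))))) (.node [] (.node [] (.node [] (.node [] (.node [] (.node [(26, 1, 1, 1)] .nil .nil) .nil) .nil) (.node [(1, 1, 1, 1)] (.node [] (.node [(42, (-1), 1, 1)] .nil .nil) .nil) .nil)) (.node [] (.node [] (.node [(8, 1, 1, 1)] .nil .nil) .nil) (.node [] (.node [] (.node [(57, (-1), 1, 1)] .nil .nil) (.node [(126, (-1), 1,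 1)] .nil .nil)) .nil))) (.node [] (.node [] (.node [] (.node [] (.node [(32, (-1), 1, 1)] .nil .nil) (.node [(94, (-1), 1, 1)] .nil .nil)) (.node [(15, (-1), 1, 1)] .nil .nil)) (.node [] (.node [] .nil (.node [(114, (-1), 1, 1)] .nil .nil)) (.node [] (.node [(85, 1, 1, 1)] .nil .nil) .nil))) (.node [] (.node [] (.node [] (.node [(36, 1, 1, 1)] .nil .nil) .nil) (.node [] .nil (.node [(189, (-1), 1, 1)] .nil .nil))) (.node [] (.node [] .nil (.node [(135, (-1), 1, 1)] .nil .nil)) .nil))))))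
def C22 : List (ℕ × List (ℕ × ℤ)) := [(49, [(0, 1)]), (50, [(1, 1)]), (51, [(2, 1)]), (55, [(4, (-1))]), (69, [(6, 1)]), (74, [(8, 1)]), (76, [(10, (-1))]), (91, [(14, (-1))]), (102, [(15, (-1))]), (104, [(17, 1)]), (113, [(21, 1)]), (123, [(23, 1)]), (124, [(24, (-1))]), (125, [(25, 1)]), (130, [(26, 1)]), (132, [(30, (-1))]), (133, [(31, 1)]), (134, [(32, (-1))]), (142, [(36, 1)]), (144, [(40, (-1))]), (145, [(41, 1)]), (146, [(42, (-1))]), (153, [(56, 1)]), (154, [(57, (-1))]), (155, [(58, 1)]), (159, [(62, 1)]), (160, [(63, (-1))]), (161, [(64, 1)]), (175, [(78, (-1))]), (176, [(79, 1)]), (177, [(80, (-1))]), (181, [(84, (-1))]), (182, [(85, 1)]), (183, [(86, (-1))]), (197, [(93, 1)]), (198, [(94, (-1))]), (199, [(95, 1)]), (203, [(97, (-1))]), (207, [(105, 1)]), (208, [(106, (-1))]), (209, [(107, 1)]), (213, [(109, (-1))]), (214, [(114, (-1))]), (215, [(115, 1)]), (216, [(116, (-1))]), (218, [(126, (-1))]), (222, [(135, (-1))]),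 (224, [(137, 1)]), (225, [(148, 1)]), (229, [(163, 1)]), (231, [(165, (-1))]), (233, [(170, (-1))]), (235, [(184, 1)]), (237, [(188, (-1))]), (238, [(189, (-1))]), (239, [(190, (-1))])]
def M23 : Tr (List (ℕ × ℤ × ℕ × ℕ)) := (.node [] (.node [] (.node [] (.node [] (.node [] .nil (.node [(0, (-1), 1, 1)] (.node [] (.node [(40, (-1), 1, 1)] .nil .nil) .nil) (.node [] .nil (.node [(192, 1, 1, 1)] .nil .nil)))) (.node [] (.node [] (.node [] .nil (.node [(96, 1, 1, 1)] .nil .nil)) (.node [] .nil (.node [(166, 1, 1, 1)] .nil .nil))) (.node [] (.node [] .nil (.node [(118, (-1), 1, 1)] .nil .nil)) (.node [] (.node [(87, (-1), 1, 1)] .nil .nil) .nil)))) (.node [] (.node [] (.node [] (.node [] (.node [(30, (-1), 1, 1)] .nil .nil) (.node [(93, 1, 1, 1)] .nil .nil)) .nil) (.node [(3, 1, 1, 1)] .nil (.node [] (.node [(84, (-1), 1, 1)] .nil .nil) .nil))) (.node [] (.node [] .nil (.node [] .nil (.node [(185, (-1), 1, 1)] .nil .nil))) (.node [] (.node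 [] (.node [(60, 1, 1, 1)] .nil .nil) .nil) .nil)))) (.node [] (.node [] (.node [] (.node [] .nil (.node [] (.node [(65, 1, 1, 1)] .nil .nil) (.node [(149, (-1), 1, 1)] .nil .nil))) (.node [] (.node [] (.node [(43, 1, 1, 1)] .nil .nil) (.node [(108, 1, 1, 1)] .nil .nil)) (.node [] (.node [(82, (-1), 1, 1)] .nil .nil) .nil))) (.node [] (.node [] (.node [(8, (-1), 1, 1)] .nil .nil) (.node [] .nil (.node [(171, 1, 1, 1)] .nil .nil))) (.node [] (.node [] .nil (.node [(123, (-1), 1, 1)] .nil .nil)) (.node [(24, 1, 1, 1)] .nil .nil)))) (.node [] (.node [] (.node [] (.node [] (.node [(33, 1, 1, 1)] .nil .nil) .nil) (.node [(15, 1, 1, 1)] .nil .nil)) .nil) (.node [] (.node [] (.node [] .nil (.node [(105, 1, 1, 1)] .nil .nil)) .nil) (.node [] (.node [] (.node [(62, 1, 1, 1)] .nil .nil) (.node [(135, (-1), 1, 1)] .nil .nil)) .nil))))) (.node [] (.node [] (.node [] (.node [] (.node [] .nil (.node [] .nil (.node [(138, (-1), 1, 1)] .nil .nil))) (.node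 [(1, (-1), 1, 1)] .nil (.node [(21, (-1), 1, 1)] (.node [(81, 1, 1, 1)] .nil .nil) .nil))) (.node [] (.node [] .nil (.node [(18, 1, 1, 1)] .nil .nil)) (.node [] (.node [] (.node [(56, 1, 1, 1)] .nil .nil) .nil) .nil))) (.node [] (.node [] (.node [] (.node [(6, (-1), 1, 1)] .nil (.node [(94, (-1), 1, 1)] .nil .nil)) (.node [] .nil (.node [(163, 1, 1, 1)] .nil .nil))) (.node [] (.node [] .nil (.node [(109, (-1), 1, 1)] .nil .nil)) (.node [(22, 1, 1, 1)] (.node [(85, 1, 1, 1)] .nil .nil) .nil))) (.node [] (.node [] (.node [(11, (-1), 1, 1)] .nil .nil) (.node [] .nil (.node [(188, (-1), 1, 1)] .nil .nil))) .nil))) (.node [] (.node [] (.node [] (.node [] (.node [] (.node [(27, 1, 1, 1)] .nil .nil) .nil) .nil) (.node [] (.node [] (.node [(44, (-1), 1, 1)] .nil .nil) .nil) .nil)) (.node [] (.node [] (.node [] .nil (.node [(97, (-1), 1, 1)] .nil .nil)) .nil) (.node [] (.node [(14, 1, 1, 1)] (.node [(59, (-1), 1, 1)] .nil .nil) (.node [(127, 1,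 1, 1)] .nil .nil)) (.node [(25, (-1), 1, 1)] .nil .nil)))) (.node [] (.node [] (.node [] (.node [] (.node [(34, (-1), 1, 1)] .nil .nil) .nil) .nil) (.node [(4, 1, 1, 1)] (.node [] .nil (.node [(117, 1, 1, 1)] .nil .nil)) .nil)) (.node [] (.node [] (.node [] (.node [(37, 1, 1, 1)] .nil .nil) (.node [(106, (-1), 1, 1)] .nil .nil)) (.node [] (.node [(78, (-1), 1, 1)] .nil .nil) (.node [(191, 1, 1, 1)] .nil .nil))) (.node [] (.node [] (.node [(63, (-1), 1, 1)] .nil .nil) .nil) .nil))))))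
def C23 : List (ℕ × List (ℕ × ℤ)) := [(47, [(0, (-1))]), (48, [(1, (-1))]), (51, [(3, 1)]), (54, [(4, 1)]), (68, [(6, (-1))]), (73, [(8, (-1))]), (76, [(11, (-1))]), (90, [(14, 1)]), (101, [(15, 1)]), (104, [(18, 1)]), (112, [(21, (-1))]), (116, [(22, 1)]), (121, [(24, 1)]), (122, [(25, (-1))]), (130, [(27, 1)]), (131, [(30, (-1))]), (133, [(33, 1)]), (134, [(34, (-1))]), (142, [(37, 1)]), (143, [(40, (-1))]), (145, [(43, 1)]), (146, [(44, (-1))]), (152, [(56, 1)]), (154, [(59, (-1))]), (155, [(60, 1)]), (157, [(62, 1)]), (158, [(63, (-1))]), (161, [(65, 1)]), (174, [(78, (-1))]), (176, [(81, 1)]), (177, [(82, (-1))]), (179, [(84, (-1))]), (180, [(85, 1)]), (183, [(87, (-1))]), (195, [(93, 1)]), (196, [(94, (-1))]), (199, [(96, 1)]), (202, [(97, (-1))]), (205, [(105, 1)]), (206, [(106, (-1))]), (209, [(108, 1)]), (212, [(109, (-1))]), (214, [(117, 1)]), (215, [(118, (-1))]), (217, [(123, (-1))]), (218, [(127, 1)]), (221, [(135, (-1))]),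 (224, [(138, (-1))]), (225, [(149, (-1))]), (228, [(163, 1)]), (231, [(166, 1)]), (233, [(171, 1)]), (235, [(185, (-1))]), (236, [(188, (-1))]), (238, [(191, 1)]), (239, [(192, 1)])]
def M24 : Tr (List (ℕ × ℤ × ℕ × ℕ)) := (.node [] (.node [] (.node [] (.node [] (.node [] .nil (.node [] (.node [] (.node [(41, (-1), 1, 1)] .nil .nil) .nil) (.node [(21, 1, 1, 1)] (.node [(81, 1, 1, 1)] .nil .nil) (.node [(193, (-1), 1, 1)] .nil .nil)))) (.node [] (.node [] .nil (.node [] .nil (.node [(167, (-1), 1, 1)] .nil .nil))) .nil)) (.node [] (.node [] (.node [] (.node [(6, 1, 1, 1)] (.node [(31, (-1), 1, 1)] .nil .nil) .nil) (.node [] .nil (.node [(163, 1, 1, 1)] .nil .nil))) (.node [] (.node [] .nil (.node [(109, (-1), 1, 1)] .nil .nil)) (.node [(22, (-1), 1, 1)] .nil .nil))) (.node [] (.node [] .nil (.node [] .nil (.node [(186, 1, 1, 1)] .nil .nil))) (.node [] (.node [] (.node [(61, 1, 1, 1)] .nil .nil) .nil) .nil)))) (.node [] (.node [] (.node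 [] (.node [] .nil (.node [] .nil (.node [(150, 1, 1, 1)] .nil .nil))) (.node [] .nil (.node [] (.node [(83, (-1), 1, 1)] .nil .nil) .nil))) (.node [] (.node [] (.node [] .nil (.node [(97, (-1), 1, 1)] .nil .nil)) (.node [] .nil (.node [(172, (-1), 1, 1)] .nil .nil))) (.node [] (.node [(14, (-1), 1, 1)] (.node [(59, (-1), 1, 1)] .nil .nil) (.node [(124, 1, 1, 1)] .nil .nil)) .nil))) (.node [] (.node [] .nil (.node [(4, (-1), 1, 1)] .nil .nil)) (.node [] (.node [] .nil (.node [] .nil (.node [(191, 1, 1, 1)] .nil .nil))) .nil)))) (.node [] (.node [] (.node [] (.node [] (.node [] .nil (.node [] (.node [(65, 1, 1, 1)] .nil .nil) (.node [(139, 1, 1, 1)] .nil .nil))) (.node [(2, (-1), 1, 1)] (.node [] (.node [(43, 1, 1, 1)] .nil .nil) (.node [(108, 1, 1, 1)] .nil .nil)) .nil)) (.node [] (.node [] (.node [(8, 1, 1, 1)] .nil .nil) (.node [(19, 1, 1, 1)] .nil .nil)) (.node [] (.node [] (.node [(57, 1, 1, 1)] .nil .nil) (.node [(121, (-1), 1, 1)]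 .nil .nil)) (.node [(25, 1, 1, 1)] .nil .nil)))) (.node [] (.node [] (.node [] (.node [] (.node [(33, 1, 1, 1)] .nil .nil) (.node [(95, (-1), 1, 1)] .nil .nil)) (.node [(15, (-1), 1, 1)] .nil .nil)) (.node [] .nil (.node [] (.node [(86, 1, 1, 1)] .nil .nil) .nil))) (.node [] (.node [] (.node [(12, (-1), 1, 1)] .nil (.node [(105, 1, 1, 1)] .nil .nil)) (.node [] .nil (.node [(189, 1, 1, 1)] .nil .nil))) (.node [] (.node [] (.node [(62, 1, 1, 1)] .nil .nil) (.node [(135, (-1), 1, 1)] .nil .nil)) .nil)))) (.node [] (.node [] (.node [] (.node [] (.node [] (.node [(28, 1, 1, 1)] .nil .nil) (.node [(93, 1, 1, 1)] .nil .nil)) .nil) (.node [(3, (-1), 1, 1)] (.node [] (.node [(45, (-1), 1, 1)] .nil .nil) .nil) (.node [] (.node [(84, (-1), 1, 1)] .nil .nil) .nil))) (.node [] .nil (.node [] (.node [] .nil (.node [(128, (-1), 1, 1)] .nil .nil)) .nil))) (.node [] (.node [] (.node [] (.node [] (.node [(35, (-1), 1, 1)] .nil .nil) (.node [(96, 1, 1,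 1)] .nil .nil)) .nil) (.node [] (.node [] .nil (.node [(119, (-1), 1, 1)] .nil .nil)) (.node [(23, 1, 1, 1)] (.node [(87, (-1), 1, 1)] .nil .nil) .nil))) (.node [] (.node [(0, 1, 1, 1)] (.node [] (.node [(38, 1, 1, 1)] .nil .nil) (.node [(107, (-1), 1, 1)] .nil .nil)) (.node [] (.node [(79, (-1), 1, 1)] .nil .nil) .nil)) (.node [] (.node [] (.node [(64, (-1), 1, 1)] .nil .nil) .nil) .nil))))))
def C24 : List (ℕ × List (ℕ × ℤ)) := [(46, [(0, 1)]), (48, [(2, (-1))]), (50, [(3, (-1))]), (53, [(4, (-1))]), (67, [(6, 1)]), (72, [(8, 1)]), (76, [(12, (-1))]), (89, [(14, (-1))]), (100, [(15, (-1))]), (104, [(19, 1)]), (111, [(21, 1)]), (115, [(22, (-1))]), (118, [(23, 1)]), (120, [(25, 1)]), (130, [(28, 1)]), (131, [(31, (-1))]), (132, [(33, 1)]), (134, [(35, (-1))]), (142, [(38, 1)]), (143, [(41, (-1))]), (144, [(43, 1)]), (146, [(45, (-1))]), (152, [(57, 1)]), (153, [(59, (-1))]), (155, [(61, 1)]), (156, [(62, 1)]), (158, [(64, (-1))]), (160,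 [(65, 1)]), (174, [(79, (-1))]), (175, [(81, 1)]), (177, [(83, (-1))]), (178, [(84, (-1))]), (180, [(86, 1)]), (182, [(87, (-1))]), (194, [(93, 1)]), (196, [(95, (-1))]), (198, [(96, 1)]), (201, [(97, (-1))]), (204, [(105, 1)]), (206, [(107, (-1))]), (208, [(108, 1)]), (211, [(109, (-1))]), (214, [(119, (-1))]), (216, [(121, (-1))]), (217, [(124, 1)]), (218, [(128, (-1))]), (220, [(135, (-1))]), (224, [(139, 1)]), (225, [(150, 1)]), (227, [(163, 1)]), (231, [(167, (-1))]), (233, [(172, (-1))]), (235, [(186, 1)]), (236, [(189, 1)]), (237, [(191, 1)]), (239, [(193, (-1))])]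
def M25 : Tr (List (ℕ × ℤ × ℕ × ℕ)) := (.node [] (.node [] (.node [] (.node [] (.node [] (.node [] .nil (.node [] (.node [(65, 1, 1, 1)] .nil .nil) .nil)) (.node [(2, 1, 1, 1)] (.node [] (.node [(42, (-1), 1, 1)] .nil .nil) (.node [(108, 1, 1, 1)] .nil .nil)) (.node [] (.node [(82, 1, 1, 1)] .nil .nil) .nil))) (.node [] (.node [] (.node [(8, (-1), 1, 1)] .nil .nil) (.node [] .nil (.node [(168, 1, 1, 1)] .nil .nil))) (.node [] (.node [] .nil (.node [(120, (-1), 1, 1)] .nil .nil)) (.node [(24, 1, 1, 1)] .nil .nil)))) (.node [] (.node [] (.node [] (.node [] (.node [(32, (-1), 1, 1)] .nil .nil) (.node [(95, (-1), 1, 1)] .nil .nil)) (.node [(15, 1, 1, 1)] .nil .nil)) (.node [] .nil (.node [] (.node [(86, 1, 1, 1)] .nil .nil) .nil))) (.node [] (.node [] .nil (.node [] .nil (.node [(187, (-1), 1, 1)] .nil .nil))) (.node [] (.node [] .nil (.node [(135, (-1), 1, 1)] .nil .nil)) .nil)))) (.node [] (.node [] (.node [] (.node [] .nil (.node [] .nil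 (.node [(151, (-1), 1, 1)] .nil .nil))) (.node [(3, 1, 1, 1)] (.node [] (.node [(45, (-1), 1, 1)] .nil .nil) .nil) .nil)) (.node [] (.node [] .nil (.node [] .nil (.node [(173, 1, 1, 1)] .nil .nil))) (.node [] (.node [] (.node [(60, (-1), 1, 1)] .nil .nil) (.node [(125, (-1), 1, 1)] .nil .nil)) .nil))) (.node [] (.node [] (.node [] (.node [] (.node [(35, (-1), 1, 1)] .nil .nil) (.node [(96, 1, 1, 1)] .nil .nil)) .nil) (.node [] .nil (.node [(23, (-1), 1, 1)] (.node [(87, (-1), 1, 1)] .nil .nil) .nil))) (.node [] (.node [] (.node [] .nil (.node [(107, (-1), 1, 1)] .nil .nil)) (.node [] .nil (.node [(192, (-1), 1, 1)] .nil .nil))) (.node [] (.node [] (.node [(64, (-1), 1, 1)] .nil .nil) .nil) .nil))))) (.node [] (.node [] (.node [] (.node [] (.node [] .nil (.node [] .nil (.node [(140, (-1), 1, 1)] .nil .nil))) (.node [] (.node [] (.node [(44, 1, 1, 1)] .nil .nil) .nil) (.node [] (.node [(83, (-1), 1, 1)] .nil .nil) .nil))) (.node [] (.node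 [] (.node [] .nil (.node [(97, (-1), 1, 1)] .nil .nil)) (.node [(20, 1, 1, 1)] .nil .nil)) (.node [] (.node [(14, 1, 1, 1)] (.node [(58, 1, 1, 1)] .nil .nil) (.node [(122, 1, 1, 1)] .nil .nil)) .nil))) (.node [] (.node [] (.node [] (.node [] (.node [(34, 1, 1, 1)] .nil .nil) .nil) .nil) (.node [(4, 1, 1, 1)] .nil .nil)) (.node [] (.node [] (.node [(13, (-1), 1, 1)] .nil (.node [(106, 1, 1, 1)] .nil .nil)) (.node [] .nil (.node [(190, (-1), 1, 1)] .nil .nil))) (.node [] (.node [] (.node [(63, 1, 1, 1)] .nil .nil) .nil) .nil)))) (.node [] (.node [] (.node [] (.node [] (.node [(6, (-1), 1, 1)] (.node [(29, 1, 1, 1)] .nil .nil) (.node [(94, 1, 1, 1)] .nil .nil)) (.node [] .nil (.node [(163, 1, 1, 1)] .nil .nil))) (.node [] (.node [] .nil (.node [(109, (-1), 1, 1)] .nil .nil)) (.node [(22, 1, 1, 1)] (.node [(85, (-1), 1, 1)] .nil .nil) .nil))) (.node [] .nil (.node [] (.node [] (.node [(61, 1, 1, 1)] .nil .nil) (.node [(129, 1, 1, 1)] .nil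 .nil)) .nil))) (.node [] .nil (.node [] (.node [(1, 1, 1, 1)] (.node [] (.node [(39, 1, 1, 1)] .nil .nil) .nil) (.node [(21, (-1), 1, 1)] (.node [(80, (-1), 1, 1)] .nil .nil) (.node [(193, (-1), 1, 1)] .nil .nil))) .nil)))))
def C25 : List (ℕ × List (ℕ × ℤ)) := [(46, [(1, 1)]), (47, [(2, 1)]), (49, [(3, 1)]), (52, [(4, 1)]), (66, [(6, (-1))]), (71, [(8, (-1))]), (76, [(13, (-1))]), (88, [(14, 1)]), (99, [(15, 1)]), (104, [(20, 1)]), (110, [(21, (-1))]), (114, [(22, 1)]), (117, [(23, (-1))]), (119, [(24, 1)]), (130, [(29, 1)]), (131, [(32, (-1))]), (132, [(34, 1)]), (133, [(35, (-1))]), (142, [(39, 1)]), (143, [(42, (-1))]), (144, [(44, 1)]), (145, [(45, (-1))]), (152, [(58, 1)]), (153, [(60, (-1))]), (154, [(61, 1)]), (156, [(63, 1)]), (157, [(64, (-1))]), (159, [(65, 1)]), (174, [(80, (-1))]), (175, [(82, 1)]), (176, [(83, (-1))]), (178, [(85, (-1))]), (179, [(86, 1)]), (181, [(87, (-1))]), (194, [(94, 1)]), (195, [(95, (-1))]), (197,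 [(96, 1)]), (200, [(97, (-1))]), (204, [(106, 1)]), (205, [(107, (-1))]), (207, [(108, 1)]), (210, [(109, (-1))]), (215, [(120, (-1))]), (216, [(122, 1)]), (217, [(125, (-1))]), (218, [(129, 1)]), (219, [(135, (-1))]), (224, [(140, (-1))]), (225, [(151, (-1))]), (226, [(163, 1)]), (231, [(168, 1)]), (233, [(173, 1)]), (235, [(187, (-1))]), (236, [(190, (-1))]), (237, [(192, (-1))]), (238, [(193, (-1))])]
def M26 : Tr (List (ℕ × ℤ × ℕ × ℕ)) := (.node [] (.node [] (.node [] (.node [] (.node [] (.node [] (.node [] (.node [(30, 1, 1, 1)] .nil .nil) (.node [(93, 1, 1, 1)] .nil .nil)) (.node [] (.node [(66, 1, 1, 1)] .nil .nil) (.node [(137, 1, 1, 1)] .nil .nil))) (.node [] (.node [] .nil (.node [(110, (-1), 1, 1)] .nil .nil)) (.node [] .nil (.node [(196, 1, 1, 1)] .nil .nil)))) (.node [] (.node [] .nil (.node [(17, (-1), 1, 1)] .nil .nil)) (.node [(5, (-1), 1, 1)] (.node [(14, 1, 1, 1)] (.node [(58, 1, 1, 1)] .nil .nil) .nil) (.node [] (.node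 [(90, (-1), 1, 1)] .nil .nil) .nil)))) (.node [] (.node [] .nil (.node [] (.node [] .nil (.node [(115, 1, 1, 1)] .nil .nil)) .nil)) (.node [] (.node [(0, (-1), 1, 1)] (.node [(10, 1, 1, 1)] .nil (.node [(98, (-1), 1, 1)] .nil .nil)) (.node [] (.node [(78, (-1), 1, 1)] .nil .nil) .nil)) (.node [] .nil (.node [(27, 1, 1, 1)] .nil .nil))))) (.node [] (.node [] (.node [] (.node [] (.node [(6, (-1), 1, 1)] (.node [(32, 1, 1, 1)] .nil .nil) (.node [(95, 1, 1, 1)] .nil .nil)) (.node [] (.node [(68, 1, 1, 1)] .nil .nil) (.node [(152, (-1), 1, 1)] .nil .nil))) (.node [] (.node [] (.node [(47, 1, 1, 1)] .nil .nil) (.node [(112, (-1), 1, 1)] .nil .nil)) .nil)) (.node [] (.node [] .nil (.node [] .nil (.node [(174, 1, 1, 1)] .nil .nil))) (.node [] (.node [] .nil (.node [(130, (-1), 1, 1)] .nil .nil)) .nil))) (.node [] (.node [] (.node [] .nil (.node [] .nil (.node [(164, (-1), 1, 1)] .nil .nil))) (.node [] (.node [] (.node [(56, 1, 1, 1)] .nil .nil)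 .nil) (.node [] (.node [(88, (-1), 1, 1)] .nil .nil) .nil))) (.node [] (.node [(2, (-1), 1, 1)] (.node [] (.node [(36, 1, 1, 1)] .nil .nil) .nil) (.node [(22, 1, 1, 1)] (.node [(80, (-1), 1, 1)] .nil .nil) (.node [(194, 1, 1, 1)] .nil .nil))) (.node [] .nil (.node [(29, 1, 1, 1)] .nil .nil)))))) (.node [] (.node [] (.node [] (.node [] (.node [] (.node [] (.node [(31, (-1), 1, 1)] .nil .nil) (.node [(94, (-1), 1, 1)] .nil .nil)) (.node [] (.node [(67, (-1), 1, 1)] .nil .nil) .nil)) (.node [] (.node [] (.node [(46, (-1), 1, 1)] .nil .nil) (.node [(111, 1, 1, 1)] .nil .nil)) .nil)) .nil) (.node [] (.node [] .nil (.node [] (.node [] .nil (.node [(116, (-1), 1, 1)] .nil .nil)) .nil)) (.node [] (.node [(1, (-1), 1, 1)] .nil (.node [(21, 1, 1, 1)] (.node [(79, 1, 1, 1)] .nil .nil) .nil)) (.node [] .nil (.node [(28, (-1), 1, 1)] .nil .nil))))) (.node [] (.node [] (.node [] .nil (.node [] (.node [] (.node [(48, (-1), 1, 1)] .nil .nil) (.node [(114,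 (-1), 1, 1)] .nil .nil)) .nil)) (.node [] (.node [] (.node [(9, 1, 1, 1)] .nil .nil) (.node [] .nil (.node [(184, 1, 1, 1)] .nil .nil))) (.node [] (.node [] .nil (.node [(131, (-1), 1, 1)] .nil .nil)) .nil))) (.node [] (.node [] (.node [] .nil (.node [(16, (-1), 1, 1)] .nil (.node [(165, (-1), 1, 1)] .nil .nil))) (.node [] (.node [] (.node [(57, (-1), 1, 1)] .nil .nil) .nil) (.node [] (.node [(89, 1, 1, 1)] .nil .nil) .nil))) (.node [] (.node [] .nil (.node [] .nil (.node [(195, 1, 1, 1)] .nil .nil))) (.node [] (.node [] .nil (.node [(136, 1, 1, 1)] .nil .nil)) .nil))))))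
def C26 : List (ℕ × List (ℕ × ℤ)) := [(43, [(0, (-1))]), (44, [(1, (-1))]), (45, [(2, (-1))]), (55, [(5, (-1))]), (65, [(6, (-1))]), (74, [(9, 1)]), (75, [(10, 1)]), (87, [(14, 1)]), (102, [(16, (-1))]), (103, [(17, (-1))]), (108, [(21, 1)]), (109, [(22, 1)]), (123, [(27, 1)]), (124, [(28, (-1))]), (125, [(29, 1)]), (127, [(30, 1)]), (128, [(31, (-1))]), (129, [(32, 1)]), (141, [(36, 1)]), (144, [(46, (-1))]), (145, [(47, 1)]), (146, [(48, (-1))]), (149, [(56, 1)]), (150, [(57, (-1))]), (151, [(58, 1)]), (159, [(66, 1)]), (160, [(67, (-1))]), (161, [(68, 1)]), (171, [(78, (-1))]), (172, [(79, 1)]), (173, [(80, (-1))]), (181, [(88, (-1))]), (182, [(89, 1)]), (183, [(90, (-1))]), (191, [(93, 1)]), (192, [(94, (-1))]), (193, [(95, 1)]), (203, [(98, (-1))]), (207, [(110, (-1))]), (208, [(111, 1)]), (209, [(112, (-1))]), (210, [(114, (-1))]), (211, [(115, 1)]), (212, [(116, (-1))]), (217, [(130, (-1))]), (218, [(131, (-1))]), (222, [(136,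 1)]), (223, [(137, 1)]), (225, [(152, (-1))]), (229, [(164, (-1))]), (230, [(165, (-1))]), (233, [(174, 1)]), (234, [(184, 1)]), (237, [(194, 1)]), (238, [(195, 1)]), (239, [(196, 1)])]
def M27 : Tr (List (ℕ × ℤ × ℕ × ℕ)) := (.node [] (.node [] (.node [] (.node [] (.node [] (.node [] .nil (.node [] .nil (.node [(138, (-1), 1, 1)] .nil .nil))) (.node [] (.node [] (.node [(46, (-1), 1, 1)] .nil .nil) .nil) (.node [] .nil (.node [(198, (-1), 1, 1)] .nil .nil)))) (.node [] (.node [] .nil (.node [(18, (-1), 1, 1)] .nil .nil)) (.node [] (.node [] (.node [(60, 1, 1, 1)] .nil .nil) .nil) (.node [] (.node [(91, (-1), 1, 1)] .nil .nil) .nil)))) (.node [] (.node [] .nil (.node [] (.node [] .nil (.node [(118, (-1), 1, 1)] .nil .nil)) (.node [] (.node [(88, (-1), 1, 1)] .nil .nil) .nil))) (.node [] (.node [] (.node [(11, 1, 1, 1)] .nil .nil) (.node [(21, (-1), 1, 1)] .nil .nil)) .nil))) (.node [] (.node [] (.node [] (.node [] (.node [] (.node [(34,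 1, 1, 1)] .nil .nil) (.node [(96, 1, 1, 1)] .nil .nil)) (.node [] (.node [(69, 1, 1, 1)] .nil .nil) (.node [(153, 1, 1, 1)] .nil .nil))) (.node [] (.node [] (.node [(49, 1, 1, 1)] .nil .nil) (.node [(113, (-1), 1, 1)] .nil .nil)) .nil)) (.node [] (.node [(0, 1, 1, 1)] (.node [(9, (-1), 1, 1)] .nil .nil) (.node [] .nil (.node [(175, (-1), 1, 1)] .nil .nil))) (.node [] .nil (.node [(28, 1, 1, 1)] .nil .nil)))) (.node [] (.node [] (.node [] .nil (.node [(16, 1, 1, 1)] .nil .nil)) (.node [] (.node [] .nil (.node [(123, (-1), 1, 1)] .nil .nil)) .nil)) (.node [] (.node [(3, (-1), 1, 1)] (.node [] (.node [(37, 1, 1, 1)] .nil .nil) (.node [(110, (-1), 1, 1)] .nil .nil)) (.node [(23, 1, 1, 1)] (.node [(82, (-1), 1, 1)] .nil .nil) .nil)) (.node [] (.node [] (.node [(66, 1, 1, 1)] .nil .nil) (.node [(136, 1, 1, 1)] .nil .nil)) (.node [] (.node [(93, 1, 1, 1)] .nil .nil) .nil)))))) (.node [] (.node [] (.node [] (.node [] (.node [] (.node [(6, 1,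 1, 1)] (.node [(33, (-1), 1, 1)] .nil .nil) .nil) .nil) .nil) (.node [] .nil (.node [] (.node [] .nil (.node [(130, (-1), 1, 1)] .nil .nil)) .nil))) (.node [] (.node [] (.node [] .nil (.node [] .nil (.node [(164, (-1), 1, 1)] .nil .nil))) (.node [] (.node [] (.node [(56, 1, 1, 1)] .nil .nil) .nil) (.node [(26, 1, 1, 1)] (.node [(89, 1, 1, 1)] .nil .nil) .nil))) (.node [] (.node [] .nil (.node [] (.node [(81, 1, 1, 1)] .nil .nil) (.node [(194, 1, 1, 1)] .nil .nil))) .nil))) (.node [] (.node [] (.node [] .nil (.node [] (.node [] (.node [(50, (-1), 1, 1)] .nil .nil) (.node [(117, 1, 1, 1)] .nil .nil)) .nil)) (.node [] (.node [(1, 1, 1, 1)] (.node [] .nil (.node [(98, (-1), 1, 1)] .nil .nil)) (.node [] (.node [(78, (-1), 1, 1)] .nil .nil) (.node [(185, (-1), 1, 1)] .nil .nil))) (.node [] (.node [] .nil (.node [(132, 1, 1, 1)] .nil .nil)) (.node [(29, (-1), 1, 1)] .nil .nil)))) (.node [] (.node [] (.node [] .nil (.node [] .nil (.node [(166,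 1, 1, 1)] .nil .nil))) (.node [(5, 1, 1, 1)] (.node [(14, (-1), 1, 1)] (.node [(59, (-1), 1, 1)] .nil .nil) .nil) .nil)) (.node [] (.node [] (.node [] .nil (.node [(111, 1, 1, 1)] .nil .nil)) (.node [] .nil (.node [(197, (-1), 1, 1)] .nil .nil))) (.node [] (.node [] (.node [(67, (-1), 1, 1)] .nil .nil) .nil) (.node [(30, 1, 1, 1)] (.node [(94, (-1), 1, 1)] .nil .nil) .nil)))))))
def C27 : List (ℕ × List (ℕ × ℤ)) := [(41, [(0, 1)]), (42, [(1, 1)]), (45, [(3, (-1))]), (54, [(5, 1)]), (64, [(6, 1)]), (73, [(9, (-1))]), (75, [(11, 1)]), (86, [(14, (-1))]), (101, [(16, 1)]), (103, [(18, (-1))]), (107, [(21, (-1))]), (109, [(23, 1)]), (116, [(26, 1)]), (121, [(28, 1)]), (122, [(29, (-1))]), (126, [(30, 1)]), (128, [(33, (-1))]), (129, [(34, 1)]), (141, [(37, 1)]), (143, [(46, (-1))]), (145, [(49, 1)]), (146, [(50, (-1))]), (148, [(56, 1)]), (150, [(59, (-1))]), (151, [(60, 1)]), (157, [(66, 1)]), (158, [(67, (-1))]), (161, [(69, 1)]), (170,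 [(78, (-1))]), (172, [(81, 1)]), (173, [(82, (-1))]), (179, [(88, (-1))]), (180, [(89, 1)]), (183, [(91, (-1))]), (189, [(93, 1)]), (190, [(94, (-1))]), (193, [(96, 1)]), (202, [(98, (-1))]), (205, [(110, (-1))]), (206, [(111, 1)]), (209, [(113, (-1))]), (210, [(117, 1)]), (211, [(118, (-1))]), (213, [(123, (-1))]), (216, [(130, (-1))]), (218, [(132, 1)]), (221, [(136, 1)]), (223, [(138, (-1))]), (225, [(153, 1)]), (228, [(164, (-1))]), (230, [(166, 1)]), (233, [(175, (-1))]), (234, [(185, (-1))]), (236, [(194, 1)]), (238, [(197, (-1))]), (239, [(198, (-1))])]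
def M28 : Tr (List (ℕ × ℤ × ℕ × ℕ)) := (.node [] (.node [] (.node [] (.node [] (.node [] (.node [] (.node [(6, (-1), 1, 1)] (.node [(33, (-1), 1, 1)] .nil .nil) .nil) (.node [] .nil (.node [(139, 1, 1, 1)] .nil .nil))) (.node [] (.node [] (.node [(47, (-1), 1, 1)] .nil .nil) .nil) (.node [] .nil (.node [(199, 1, 1, 1)] .nil .nil)))) (.node [] (.node [] .nil (.node [(19, (-1), 1, 1)] .nil .nil)) (.node [] (.node [] (.node [(61, 1, 1, 1)] .nil .nil) (.node [(130, (-1), 1, 1)] .nil .nil)) .nil))) (.node [] (.node [] (.node [] .nil (.node [] .nil (.node [(164, (-1), 1, 1)] .nil .nil))) (.node [] .nil (.node [(26, (-1), 1, 1)] .nil .nil))) (.node [] (.node [] (.node [(12, 1, 1, 1)] .nil .nil) (.node [] (.node [(81, 1, 1, 1)] .nil .nil) .nil)) .nil))) (.node [] (.node [] (.node [] (.node [] (.node [] (.node [(35, 1, 1, 1)] .nil .nil) .nil) (.node [] .nil (.node [(154, (-1), 1, 1)] .nil .nil))) .nil) (.node [] (.node [] (.node [] .nil (.node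 [(98, (-1), 1, 1)] .nil .nil)) (.node [] .nil (.node [(176, 1, 1, 1)] .nil .nil))) .nil)) (.node [] (.node [] .nil (.node [(5, (-1), 1, 1)] (.node [(14, 1, 1, 1)] (.node [(59, (-1), 1, 1)] .nil .nil) (.node [(124, 1, 1, 1)] .nil .nil)) .nil)) (.node [] (.node [] (.node [] (.node [(38, 1, 1, 1)] .nil .nil) .nil) (.node [(24, 1, 1, 1)] (.node [(83, (-1), 1, 1)] .nil .nil) (.node [(197, (-1), 1, 1)] .nil .nil))) .nil)))) (.node [] (.node [] (.node [] (.node [] (.node [] (.node [] .nil (.node [(96, 1, 1, 1)] .nil .nil)) (.node [] (.node [(69, 1, 1, 1)] .nil .nil) .nil)) (.node [] (.node [] (.node [(49, 1, 1, 1)] .nil .nil) (.node [(113, (-1), 1, 1)] .nil .nil)) .nil)) (.node [] (.node [(0, (-1), 1, 1)] (.node [(9, 1, 1, 1)] .nil .nil) .nil) (.node [] .nil (.node [(29, 1, 1, 1)] .nil .nil)))) (.node [] (.node [] (.node [] .nil (.node [(16, (-1), 1, 1)] .nil .nil)) (.node [] (.node [] (.node [(57, 1, 1, 1)] .nil .nil) (.node [(121, (-1), 1,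 1)] .nil .nil)) (.node [] (.node [(90, 1, 1, 1)] .nil .nil) .nil))) (.node [] (.node [(3, 1, 1, 1)] (.node [] .nil (.node [(110, (-1), 1, 1)] .nil .nil)) (.node [] .nil (.node [(195, (-1), 1, 1)] .nil .nil))) (.node [] (.node [] (.node [(66, 1, 1, 1)] .nil .nil) (.node [(136, 1, 1, 1)] .nil .nil)) (.node [] (.node [(93, 1, 1, 1)] .nil .nil) .nil))))) (.node [] (.node [] (.node [] .nil (.node [] (.node [] (.node [(51, (-1), 1, 1)] .nil .nil) (.node [(119, (-1), 1, 1)] .nil .nil)) (.node [] (.node [(88, (-1), 1, 1)] .nil .nil) .nil))) (.node [] (.node [(2, 1, 1, 1)] .nil (.node [(21, 1, 1, 1)] (.node [(79, (-1), 1, 1)] .nil .nil) (.node [(186, 1, 1, 1)] .nil .nil))) (.node [] (.node [] .nil (.node [(133, (-1), 1, 1)] .nil .nil)) .nil))) (.node [] (.node [] (.node [] .nil (.node [] .nil (.node [(167, (-1), 1, 1)] .nil .nil))) (.node [] .nil (.node [(27, 1, 1, 1)] (.node [(91, (-1), 1, 1)] .nil .nil) .nil))) (.node [] (.node [] (.node []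 .nil (.node [(112, 1, 1, 1)] .nil .nil)) .nil) (.node [] (.node [] (.node [(68, (-1), 1, 1)] .nil .nil) .nil) (.node [(31, 1, 1, 1)] (.node [(95, (-1), 1, 1)] .nil .nil) .nil)))))))
def C28 : List (ℕ × List (ℕ × ℤ)) := [(40, [(0, (-1))]), (42, [(2, 1)]), (44, [(3, 1)]), (53, [(5, (-1))]), (63, [(6, (-1))]), (72, [(9, 1)]), (75, [(12, 1)]), (85, [(14, 1)]), (100, [(16, (-1))]), (103, [(19, (-1))]), (106, [(21, 1)]), (109, [(24, 1)]), (115, [(26, (-1))]), (118, [(27, 1)]), (120, [(29, 1)]), (126, [(31, 1)]), (127, [(33, (-1))]), (129, [(35, 1)]), (141, [(38, 1)]), (143, [(47, (-1))]), (144, [(49, 1)]), (146, [(51, (-1))]), (148, [(57, 1)]), (149, [(59, (-1))]), (151, [(61, 1)]), (156, [(66, 1)]), (158, [(68, (-1))]), (160, [(69, 1)]), (170, [(79, (-1))]), (171, [(81, 1)]), (173, [(83, (-1))]), (178, [(88, (-1))]), (180, [(90, 1)]), (182, [(91, (-1))]), (188, [(93, 1)]), (190, [(95, (-1))]), (192, [(96, 1)]), (201, [(98, (-1))]), (204, [(110,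 (-1))]), (206, [(112, 1)]), (208, [(113, (-1))]), (210, [(119, (-1))]), (212, [(121, (-1))]), (213, [(124, 1)]), (215, [(130, (-1))]), (218, [(133, (-1))]), (220, [(136, 1)]), (223, [(139, 1)]), (225, [(154, (-1))]), (227, [(164, (-1))]), (230, [(167, (-1))]), (233, [(176, 1)]), (234, [(186, 1)]), (236, [(195, (-1))]), (237, [(197, (-1))]), (239, [(199, 1)])]
def M29 : Tr (List (ℕ × ℤ × ℕ × ℕ)) := (.node [] (.node [] (.node [] (.node [] (.node [] (.node [] (.node [] (.node [(34, (-1), 1, 1)] .nil .nil) (.node [(96, 1, 1, 1)] .nil .nil)) (.node [] (.node [(69, 1, 1, 1)] .nil .nil) (.node [(140, (-1), 1, 1)] .nil .nil))) (.node [] (.node [] (.node [(48, (-1), 1, 1)] .nil .nil) (.node [(113, (-1), 1, 1)] .nil .nil)) .nil)) (.node [] (.node [] (.node [(9, (-1), 1, 1)] .nil .nil) (.node [(20, (-1), 1, 1)] .nil .nil)) (.node [] .nil (.node [(28, 1, 1, 1)] .nil .nil)))) (.node [] (.node [] (.node [] .nil (.node [(16, 1, 1, 1)] .nil .nil)) (.node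 [] (.node [] .nil (.node [(120, (-1), 1, 1)] .nil .nil)) (.node [] (.node [(90, 1, 1, 1)] .nil .nil) .nil))) (.node [] (.node [(3, (-1), 1, 1)] (.node [(13, 1, 1, 1)] .nil .nil) (.node [] (.node [(82, 1, 1, 1)] .nil .nil) .nil)) (.node [] (.node [] .nil (.node [(136, 1, 1, 1)] .nil .nil)) .nil)))) (.node [] (.node [] (.node [] (.node [] .nil (.node [] .nil (.node [(155, 1, 1, 1)] .nil .nil))) (.node [] (.node [] (.node [(51, (-1), 1, 1)] .nil .nil) .nil) .nil)) (.node [] (.node [(2, (-1), 1, 1)] .nil (.node [(21, (-1), 1, 1)] .nil (.node [(177, (-1), 1, 1)] .nil .nil))) .nil)) (.node [] (.node [] .nil (.node [] (.node [] (.node [(60, (-1), 1, 1)] .nil .nil) (.node [(125, (-1), 1, 1)] .nil .nil)) (.node [(27, (-1), 1, 1)] (.node [(91, (-1), 1, 1)] .nil .nil) .nil))) (.node [] (.node [] (.node [] (.node [(39, 1, 1, 1)] .nil .nil) (.node [(112, 1, 1, 1)] .nil .nil)) (.node [(25, 1, 1, 1)] .nil (.node [(198, 1, 1, 1)] .nil .nil))) (.node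 [] (.node [] (.node [(68, (-1), 1, 1)] .nil .nil) .nil) (.node [] (.node [(95, (-1), 1, 1)] .nil .nil) .nil)))))) (.node [] (.node [] (.node [] (.node [] (.node [] (.node [] (.node [(35, 1, 1, 1)] .nil .nil) .nil) .nil) (.node [] (.node [] (.node [(50, 1, 1, 1)] .nil .nil) .nil) .nil)) (.node [] (.node [(1, (-1), 1, 1)] (.node [] .nil (.node [(98, (-1), 1, 1)] .nil .nil)) .nil) .nil)) (.node [] (.node [] .nil (.node [(5, 1, 1, 1)] (.node [(14, (-1), 1, 1)] (.node [(58, 1, 1, 1)] .nil .nil) (.node [(122, 1, 1, 1)] .nil .nil)) .nil)) (.node [] (.node [] (.node [] .nil (.node [(111, (-1), 1, 1)] .nil .nil)) (.node [] (.node [(83, (-1), 1, 1)] .nil .nil) (.node [(196, 1, 1, 1)] .nil .nil))) (.node [] (.node [] (.node [(67, 1, 1, 1)] .nil .nil) .nil) (.node [] (.node [(94, 1, 1, 1)] .nil .nil) .nil))))) (.node [] (.node [] (.node [] (.node [] .nil (.node [] .nil (.node [(164, (-1), 1, 1)] .nil .nil))) (.node [] .nil (.node [(26, 1, 1, 1)]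 (.node [(89, (-1), 1, 1)] .nil .nil) .nil))) (.node [] (.node [] .nil (.node [] (.node [(80, (-1), 1, 1)] .nil .nil) (.node [(187, (-1), 1, 1)] .nil .nil))) (.node [] (.node [] .nil (.node [(134, 1, 1, 1)] .nil .nil)) .nil))) (.node [] (.node [] (.node [] .nil (.node [] .nil (.node [(168, 1, 1, 1)] .nil .nil))) (.node [] (.node [] (.node [(61, 1, 1, 1)] .nil .nil) (.node [(130, (-1), 1, 1)] .nil .nil)) .nil)) (.node [] (.node [] .nil (.node [] .nil (.node [(199, 1, 1, 1)] .nil .nil))) (.node [(6, 1, 1, 1)] .nil (.node [(32, 1, 1, 1)] .nil .nil)))))))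
def C29 : List (ℕ × List (ℕ × ℤ)) := [(40, [(1, (-1))]), (41, [(2, (-1))]), (43, [(3, (-1))]), (52, [(5, 1)]), (62, [(6, 1)]), (71, [(9, (-1))]), (75, [(13, 1)]), (84, [(14, (-1))]), (99, [(16, 1)]), (103, [(20, (-1))]), (105, [(21, (-1))]), (109, [(25, 1)]), (114, [(26, 1)]), (117, [(27, (-1))]), (119, [(28, 1)]), (126, [(32, 1)]), (127, [(34, (-1))]), (128, [(35, 1)]), (141, [(39, 1)]), (143, [(48, (-1))]), (144, [(50, 1)]), (145, [(51, (-1))]), (148, [(58, 1)]), (149, [(60, (-1))]), (150, [(61, 1)]), (156, [(67, 1)]), (157, [(68, (-1))]), (159, [(69, 1)]), (170, [(80, (-1))]), (171, [(82, 1)]), (172, [(83, (-1))]), (178, [(89, (-1))]), (179, [(90, 1)]), (181, [(91, (-1))]), (188, [(94, 1)]), (189, [(95, (-1))]), (191, [(96, 1)]), (200, [(98, (-1))]), (204, [(111, (-1))]), (205, [(112, 1)]), (207, [(113, (-1))]), (211, [(120, (-1))]), (212, [(122, 1)]), (213, [(125, (-1))]), (214, [(130, (-1))]), (218, [(134, 1)]), (219, [(136, 1)]),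 (223, [(140, (-1))]), (225, [(155, 1)]), (226, [(164, (-1))]), (230, [(168, 1)]), (233, [(177, (-1))]), (234, [(187, (-1))]), (236, [(196, 1)]), (237, [(198, 1)]), (238, [(199, 1)])]
def M30 : Tr (List (ℕ × ℤ × ℕ × ℕ)) := (.node [] (.node [] (.node [] (.node [] (.node [] .nil (.node [] (.node [] .nil (.node [(117, 1, 1, 1)] .nil .nil)) (.node [] .nil (.node [(201, 1, 1, 1)] .nil .nil)))) (.node [] (.node [(1, (-1), 1, 1)] (.node [] .nil (.node [(98, (-1), 1, 1)] .nil .nil)) .nil) (.node [] (.node [] (.node [(63, 1, 1, 1)] .nil .nil) .nil) (.node [] (.node [(92, (-1), 1, 1)] .nil .nil) .nil)))) (.node [] (.node [] .nil (.node [(5, (-1), 1, 1)] (.node [(14, 1, 1, 1)] (.node [(56, 1, 1, 1)] .nil .nil) .nil) .nil)) (.node [] (.node [] .nil (.node [(22, (-1), 1, 1)] .nil (.node [(194, 1, 1, 1)] .nil .nil))) (.node [] (.node [] (.node [(67, (-1), 1, 1)] .nil .nil) .nil) (.node [] (.node [(94, (-1), 1, 1)] .nil .nil) .nil))))) (.node [] (.node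 [] (.node [] (.node [] (.node [] .nil (.node [(97, 1, 1, 1)] .nil .nil)) (.node [] (.node [(70, 1, 1, 1)] .nil .nil) (.node [(156, (-1), 1, 1)] .nil .nil))) (.node [] (.node [] (.node [(52, 1, 1, 1)] .nil .nil) .nil) (.node [(27, 1, 1, 1)] (.node [(89, 1, 1, 1)] .nil .nil) .nil))) (.node [] (.node [] (.node [(10, (-1), 1, 1)] .nil .nil) (.node [] (.node [(78, (-1), 1, 1)] .nil .nil) (.node [(178, 1, 1, 1)] .nil .nil))) (.node [] (.node [] .nil (.node [(132, 1, 1, 1)] .nil .nil)) (.node [(31, 1, 1, 1)] .nil .nil)))) (.node [] (.node [] (.node [] .nil (.node [(17, 1, 1, 1)] .nil (.node [(166, 1, 1, 1)] .nil .nil))) (.node [] (.node [] .nil (.node [(127, (-1), 1, 1)] .nil .nil)) .nil)) (.node [] (.node [(4, (-1), 1, 1)] (.node [] (.node [(40, 1, 1, 1)] .nil .nil) (.node [(114, 1, 1, 1)] .nil .nil)) (.node [] (.node [(85, (-1), 1, 1)] .nil .nil) .nil)) (.node [(6, (-1), 1, 1)] (.node [] .nil (.node [(137, (-1), 1, 1)] .nil .nil)) (.node [(34,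 (-1), 1, 1)] .nil .nil)))))) (.node [] (.node [] (.node [] (.node [] .nil (.node [] (.node [] .nil (.node [(118, (-1), 1, 1)] .nil .nil)) (.node [(26, 1, 1, 1)] (.node [(88, (-1), 1, 1)] .nil .nil) .nil))) (.node [] .nil (.node [] (.node [] .nil (.node [(131, 1, 1, 1)] .nil .nil)) .nil))) (.node [] (.node [] (.node [] .nil (.node [] .nil (.node [(165, 1, 1, 1)] .nil .nil))) (.node [] (.node [] .nil (.node [(126, (-1), 1, 1)] .nil .nil)) .nil)) (.node [] (.node [] .nil (.node [(23, (-1), 1, 1)] (.node [(84, 1, 1, 1)] .nil .nil) .nil)) (.node [] .nil (.node [(33, 1, 1, 1)] .nil .nil))))) (.node [] (.node [] (.node [] .nil (.node [] (.node [] (.node [(53, (-1), 1, 1)] .nil .nil) .nil) .nil)) (.node [] (.node [] (.node [(11, (-1), 1, 1)] .nil .nil) (.node [] .nil (.node [(188, 1, 1, 1)] .nil .nil))) (.node [] (.node [] (.node [(66, 1, 1, 1)] .nil .nil) .nil) (.node [(32, (-1), 1, 1)] (.node [(93, 1, 1, 1)] .nil .nil) .nil)))) (.node [] (.node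 [] (.node [(0, (-1), 1, 1)] .nil (.node [(18, 1, 1, 1)] .nil .nil)) (.node [] (.node [] (.node [(62, (-1), 1, 1)] .nil .nil) .nil) .nil)) (.node [] (.node [] (.node [] (.node [(46, (-1), 1, 1)] .nil .nil) (.node [(115, (-1), 1, 1)] .nil .nil)) (.node [] .nil (.node [(200, 1, 1, 1)] .nil .nil))) (.node [] (.node [] .nil (.node [(138, (-1), 1, 1)] .nil .nil)) .nil))))))
def C30 : List (ℕ × List (ℕ × ℤ)) := [(38, [(0, (-1))]), (39, [(1, (-1))]), (45, [(4, (-1))]), (51, [(5, (-1))]), (61, [(6, (-1))]), (73, [(10, (-1))]), (74, [(11, (-1))]), (83, [(14, 1)]), (101, [(17, 1)]), (102, [(18, 1)]), (107, [(22, (-1))]), (108, [(23, (-1))]), (112, [(26, 1)]), (113, [(27, 1)]), (121, [(31, 1)]), (122, [(32, (-1))]), (124, [(33, 1)]), (125, [(34, (-1))]), (141, [(40, 1)]), (142, [(46, (-1))]), (145, [(52, 1)]), (146, [(53, (-1))]), (147, [(56, 1)]), (150, [(62, (-1))]), (151, [(63, 1)]), (154, [(66, 1)]), (155, [(67, (-1))]), (161, [(70, 1)]), (169,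 [(78, (-1))]), (172, [(84, 1)]), (173, [(85, (-1))]), (176, [(88, (-1))]), (177, [(89, 1)]), (183, [(92, (-1))]), (186, [(93, 1)]), (187, [(94, (-1))]), (193, [(97, 1)]), (199, [(98, (-1))]), (205, [(114, 1)]), (206, [(115, (-1))]), (207, [(117, 1)]), (208, [(118, (-1))]), (212, [(126, (-1))]), (213, [(127, (-1))]), (216, [(131, 1)]), (217, [(132, 1)]), (221, [(137, (-1))]), (222, [(138, (-1))]), (225, [(156, (-1))]), (228, [(165, 1)]), (229, [(166, 1)]), (233, [(178, 1)]), (234, [(188, 1)]), (235, [(194, 1)]), (238, [(200, 1)]), (239, [(201, 1)])]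
def M31 : Tr (List (ℕ × ℤ × ℕ × ℕ)) := (.node [] (.node [] (.node [] (.node [] (.node [] .nil (.node [] (.node [] .nil (.node [(119, (-1), 1, 1)] .nil .nil)) (.node [(26, (-1), 1, 1)] (.node [(88, (-1), 1, 1)] .nil .nil) (.node [(202, (-1), 1, 1)] .nil .nil)))) (.node [] (.node [(2, (-1), 1, 1)] .nil .nil) (.node [] (.node [] (.node [(64, 1, 1, 1)] .nil .nil) (.node [(131, 1, 1, 1)] .nil .nil)) .nil))) (.node [] (.node [] (.node [] .nil (.node [] .nil (.node [(165, 1, 1, 1)] .nil .nil))) (.node [] (.node [] (.node [(57, 1, 1, 1)] .nil .nil) (.node [(126, (-1), 1, 1)] .nil .nil)) .nil)) (.node [] (.node [] .nil (.node [] (.node [(84, 1, 1, 1)] .nil .nil) (.node [(195, (-1), 1, 1)] .nil .nil))) (.node [] (.node [] (.node [(68, (-1), 1, 1)] .nil .nil) .nil) (.node [(33, 1, 1, 1)] (.node [(95, (-1), 1, 1)] .nil .nil) .nil))))) (.node [] (.node [] (.node [] (.node [] .nil (.node [] .nil (.node [(157, 1, 1, 1)] .nil .nil))) (.node [] (.node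 [] .nil (.node [(121, (-1), 1, 1)] .nil .nil)) (.node [(28, 1, 1, 1)] (.node [(90, 1, 1, 1)] .nil .nil) .nil))) (.node [] (.node [] .nil (.node [] (.node [(79, (-1), 1, 1)] .nil .nil) (.node [(179, (-1), 1, 1)] .nil .nil))) (.node [] (.node [] (.node [(66, 1, 1, 1)] .nil .nil) (.node [(133, (-1), 1, 1)] .nil .nil)) (.node [] (.node [(93, 1, 1, 1)] .nil .nil) .nil)))) (.node [] (.node [] (.node [(0, 1, 1, 1)] .nil (.node [] .nil (.node [(167, (-1), 1, 1)] .nil .nil))) (.node [] (.node [] (.node [(62, (-1), 1, 1)] .nil .nil) (.node [(128, 1, 1, 1)] .nil .nil)) .nil)) (.node [] (.node [] (.node [] (.node [(41, 1, 1, 1)] .nil .nil) .nil) (.node [] (.node [(86, (-1), 1, 1)] .nil .nil) (.node [(200, 1, 1, 1)] .nil .nil))) (.node [] .nil (.node [(35, (-1), 1, 1)] .nil .nil)))))) (.node [] (.node [] (.node [] (.node [] (.node [] (.node [] .nil (.node [(97, 1, 1, 1)] .nil .nil)) (.node [] (.node [(70, 1, 1, 1)] .nil .nil) .nil)) (.node [] (.node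 [] (.node [(52, 1, 1, 1)] .nil .nil) .nil) .nil)) (.node [] (.node [] (.node [(10, 1, 1, 1)] .nil .nil) .nil) (.node [] .nil (.node [(32, 1, 1, 1)] .nil .nil)))) (.node [] (.node [] (.node [] .nil (.node [(17, (-1), 1, 1)] .nil .nil)) .nil) (.node [] (.node [(4, 1, 1, 1)] (.node [] .nil (.node [(114, 1, 1, 1)] .nil .nil)) (.node [(24, (-1), 1, 1)] .nil .nil)) (.node [(6, 1, 1, 1)] (.node [] .nil (.node [(137, (-1), 1, 1)] .nil .nil)) .nil)))) (.node [] (.node [] (.node [] .nil (.node [(5, 1, 1, 1)] (.node [(14, (-1), 1, 1)] (.node [(54, (-1), 1, 1)] .nil .nil) .nil) .nil)) (.node [] (.node [] (.node [(12, (-1), 1, 1)] .nil .nil) (.node [(22, 1, 1, 1)] .nil (.node [(189, (-1), 1, 1)] .nil .nil))) .nil)) (.node [] (.node [] (.node [] (.node [] .nil (.node [(98, (-1), 1, 1)] .nil .nil)) (.node [(19, 1, 1, 1)] .nil .nil)) (.node [] .nil (.node [(30, 1, 1, 1)] (.node [(92, (-1), 1, 1)] .nil .nil) .nil))) (.node [] (.node [] (.node [] (.node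 [(47, (-1), 1, 1)] .nil .nil) (.node [(116, (-1), 1, 1)] .nil .nil)) .nil) (.node [] (.node [] .nil (.node [(139, 1, 1, 1)] .nil .nil)) .nil))))))
def C31 : List (ℕ × List (ℕ × ℤ)) := [(37, [(0, 1)]), (39, [(2, (-1))]), (44, [(4, 1)]), (50, [(5, 1)]), (60, [(6, 1)]), (72, [(10, 1)]), (74, [(12, (-1))]), (82, [(14, (-1))]), (100, [(17, (-1))]), (102, [(19, 1)]), (106, [(22, 1)]), (108, [(24, (-1))]), (111, [(26, (-1))]), (113, [(28, 1)]), (118, [(30, 1)]), (120, [(32, 1)]), (123, [(33, 1)]), (125, [(35, (-1))]), (141, [(41, 1)]), (142, [(47, (-1))]), (144, [(52, 1)]), (146, [(54, (-1))]), (147, [(57, 1)]), (149, [(62, (-1))]), (151, [(64, 1)]), (153, [(66, 1)]), (155, [(68, (-1))]), (160, [(70, 1)]), (169, [(79, (-1))]), (171, [(84, 1)]), (173, [(86, (-1))]), (175, [(88, (-1))]), (177, [(90, 1)]), (182, [(92, (-1))]), (185, [(93, 1)]), (187, [(95, (-1))]), (192, [(97, 1)]), (198, [(98, (-1))]), (204, [(114, 1)]), (206, [(116, (-1))]),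 (207, [(119, (-1))]), (209, [(121, (-1))]), (211, [(126, (-1))]), (213, [(128, 1)]), (215, [(131, 1)]), (217, [(133, (-1))]), (220, [(137, (-1))]), (222, [(139, 1)]), (225, [(157, 1)]), (227, [(165, 1)]), (229, [(167, (-1))]), (233, [(179, (-1))]), (234, [(189, (-1))]), (235, [(195, (-1))]), (237, [(200, 1)]), (239, [(202, (-1))])]
def M32 : Tr (List (ℕ × ℤ × ℕ × ℕ)) := (.node [] (.node [] (.node [] (.node [] (.node [] (.node [] (.node [] .nil (.node [(97, 1, 1, 1)] .nil .nil)) (.node [] (.node [(70, 1, 1, 1)] .nil .nil) .nil)) (.node [] .nil (.node [] (.node [(89, (-1), 1, 1)] .nil .nil) .nil))) (.node [] (.node [] (.node [(10, (-1), 1, 1)] .nil .nil) .nil) (.node [] .nil (.node [(31, 1, 1, 1)] .nil .nil)))) (.node [] (.node [] (.node [] .nil (.node [(17, 1, 1, 1)] .nil .nil)) (.node [] (.node [] (.node [(58, 1, 1, 1)] .nil .nil) .nil) .nil)) (.node [] (.node [(4, (-1), 1, 1)] .nil (.node [] (.node [(85, 1, 1, 1)] .nil .nil) (.node [(196,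 1, 1, 1)] .nil .nil))) (.node [(6, (-1), 1, 1)] (.node [] .nil (.node [(137, (-1), 1, 1)] .nil .nil)) (.node [(34, 1, 1, 1)] .nil .nil))))) (.node [] (.node [] (.node [] (.node [] .nil (.node [] .nil (.node [(158, (-1), 1, 1)] .nil .nil))) (.node [(5, (-1), 1, 1)] (.node [(14, 1, 1, 1)] (.node [(54, (-1), 1, 1)] .nil .nil) (.node [(122, 1, 1, 1)] .nil .nil)) (.node [(29, 1, 1, 1)] .nil .nil))) (.node [] (.node [] .nil (.node [(22, (-1), 1, 1)] (.node [(80, (-1), 1, 1)] .nil .nil) (.node [(180, 1, 1, 1)] .nil .nil))) (.node [] (.node [] (.node [(67, 1, 1, 1)] .nil .nil) (.node [(134, 1, 1, 1)] .nil .nil)) (.node [] (.node [(94, 1, 1, 1)] .nil .nil) .nil)))) (.node [] (.node [] (.node [(1, 1, 1, 1)] (.node [] .nil (.node [(98, (-1), 1, 1)] .nil .nil)) (.node [] .nil (.node [(168, 1, 1, 1)] .nil .nil))) (.node [] (.node [] (.node [(63, (-1), 1, 1)] .nil .nil) (.node [(129, (-1), 1, 1)] .nil .nil)) (.node [(30, (-1), 1, 1)] (.node [(92, (-1),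 1, 1)] .nil .nil) .nil))) (.node [] (.node [] (.node [] (.node [(42, 1, 1, 1)] .nil .nil) (.node [(116, (-1), 1, 1)] .nil .nil)) (.node [] .nil (.node [(201, (-1), 1, 1)] .nil .nil))) .nil)))) (.node [] (.node [] (.node [] (.node [] .nil (.node [] (.node [] (.node [(53, 1, 1, 1)] .nil .nil) (.node [(120, (-1), 1, 1)] .nil .nil)) (.node [] (.node [(90, 1, 1, 1)] .nil .nil) .nil))) .nil) (.node [] .nil (.node [] (.node [] (.node [] .nil (.node [(115, 1, 1, 1)] .nil .nil)) (.node [(25, (-1), 1, 1)] (.node [(86, (-1), 1, 1)] .nil .nil) .nil)) (.node [] .nil (.node [(35, (-1), 1, 1)] .nil .nil))))) (.node [] (.node [] (.node [] (.node [] .nil (.node [] .nil (.node [(165, 1, 1, 1)] .nil .nil))) (.node [] (.node [] .nil (.node [(126, (-1), 1, 1)] .nil .nil)) .nil)) (.node [] (.node [] (.node [(13, (-1), 1, 1)] .nil .nil) (.node [] .nil (.node [(190, 1, 1, 1)] .nil .nil))) (.node [] (.node [] (.node [(68, (-1), 1, 1)] .nil .nil) .nil) (.node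 [] (.node [(95, (-1), 1, 1)] .nil .nil) .nil)))) (.node [] (.node [] (.node [(2, 1, 1, 1)] .nil (.node [(20, 1, 1, 1)] .nil .nil)) (.node [] (.node [] (.node [(64, 1, 1, 1)] .nil .nil) (.node [(131, 1, 1, 1)] .nil .nil)) .nil)) (.node [] (.node [] (.node [] (.node [(48, (-1), 1, 1)] .nil .nil) .nil) (.node [(26, 1, 1, 1)] .nil (.node [(202, (-1), 1, 1)] .nil .nil))) (.node [] (.node [] .nil (.node [(140, (-1), 1, 1)] .nil .nil)) .nil))))))
def C32 : List (ℕ × List (ℕ × ℤ)) := [(37, [(1, 1)]), (38, [(2, 1)]), (43, [(4, (-1))]), (49, [(5, (-1))]), (59, [(6, (-1))]), (71, [(10, (-1))]), (74, [(13, (-1))]), (81, [(14, 1)]), (99, [(17, 1)]), (102, [(20, 1)]), (105, [(22, (-1))]), (108, [(25, (-1))]), (110, [(26, 1)]), (113, [(29, 1)]), (117, [(30, (-1))]), (119, [(31, 1)]), (123, [(34, 1)]), (124, [(35, (-1))]), (141, [(42, 1)]), (142, [(48, (-1))]), (144, [(53, 1)]), (145, [(54, (-1))]), (147, [(58, 1)]), (149, [(63, (-1))]), (150, [(64,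 1)]), (153, [(67, 1)]), (154, [(68, (-1))]), (159, [(70, 1)]), (169, [(80, (-1))]), (171, [(85, 1)]), (172, [(86, (-1))]), (175, [(89, (-1))]), (176, [(90, 1)]), (181, [(92, (-1))]), (185, [(94, 1)]), (186, [(95, (-1))]), (191, [(97, 1)]), (197, [(98, (-1))]), (204, [(115, 1)]), (205, [(116, (-1))]), (208, [(120, (-1))]), (209, [(122, 1)]), (210, [(126, (-1))]), (213, [(129, (-1))]), (214, [(131, 1)]), (217, [(134, 1)]), (219, [(137, (-1))]), (222, [(140, (-1))]), (225, [(158, (-1))]), (226, [(165, 1)]), (229, [(168, 1)]), (233, [(180, 1)]), (234, [(190, 1)]), (235, [(196, 1)]), (237, [(201, (-1))]), (238, [(202, (-1))])]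
def M33 : Tr (List (ℕ × ℤ × ℕ × ℕ)) := (.node [] (.node [] (.node [] (.node [] (.node [] .nil (.node [] (.node [] (.node [(52, 1, 1, 1)] .nil .nil) .nil) (.node [(27, (-1), 1, 1)] .nil (.node [(203, 1, 1, 1)] .nil .nil)))) (.node [] (.node [(3, (-1), 1, 1)] .nil .nil) (.node [] (.node [] (.node [(65, 1, 1, 1)] .nil .nil) (.node [(132, (-1), 1, 1)] .nil .nil)) .nil))) (.node [] (.node [] (.node [] .nil (.node [] .nil (.node [(166, (-1), 1, 1)] .nil .nil))) (.node [] (.node [] (.node [(59, 1, 1, 1)] .nil .nil) (.node [(127, 1, 1, 1)] .nil .nil)) (.node [(30, 1, 1, 1)] .nil .nil))) (.node [] (.node [] .nil (.node [(24, 1, 1, 1)] .nil (.node [(197, 1, 1, 1)] .nil .nil))) (.node [] (.node [] (.node [(69, (-1), 1, 1)] .nil .nil) .nil) (.node [] (.node [(96, (-1), 1, 1)] .nil .nil) .nil))))) (.node [] (.node [] (.node [] (.node [] .nil (.node [] .nil (.node [(159, (-1), 1, 1)] .nil .nil))) (.node [] (.node [] .nil (.node [(124, (-1), 1, 1)]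 .nil .nil)) (.node [] (.node [(91, 1, 1, 1)] .nil .nil) .nil))) (.node [] (.node [] (.node [(12, 1, 1, 1)] .nil .nil) (.node [] (.node [(81, (-1), 1, 1)] .nil .nil) (.node [(181, 1, 1, 1)] .nil .nil))) .nil)) (.node [] (.node [] (.node [] .nil (.node [(19, (-1), 1, 1)] .nil .nil)) .nil) (.node [] (.node [] (.node [] (.node [(43, 1, 1, 1)] .nil .nil) (.node [(119, (-1), 1, 1)] .nil .nil)) (.node [] (.node [(87, (-1), 1, 1)] .nil .nil) .nil)) (.node [] (.node [] .nil (.node [(139, 1, 1, 1)] .nil .nil)) .nil))))) (.node [] (.node [] (.node [] (.node [] .nil (.node [(5, (-1), 1, 1)] (.node [(14, 1, 1, 1)] .nil (.node [(123, (-1), 1, 1)] .nil .nil)) (.node [(28, (-1), 1, 1)] .nil .nil))) (.node [] (.node [] (.node [(11, 1, 1, 1)] .nil .nil) .nil) (.node [] (.node [] (.node [(66, 1, 1, 1)] .nil .nil) (.node [(133, (-1), 1, 1)] .nil .nil)) (.node [(34, 1, 1, 1)] (.node [(93, 1, 1, 1)] .nil .nil) .nil)))) (.node [] (.node [] (.node [(0, (-1),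 1, 1)] (.node [] .nil (.node [(98, (-1), 1, 1)] .nil .nil)) (.node [(18, (-1), 1, 1)] .nil (.node [(167, (-1), 1, 1)] .nil .nil))) (.node [] (.node [] (.node [(62, (-1), 1, 1)] .nil .nil) (.node [(128, 1, 1, 1)] .nil .nil)) (.node [(31, 1, 1, 1)] (.node [(92, (-1), 1, 1)] .nil .nil) .nil))) (.node [] (.node [] (.node [] .nil (.node [(117, (-1), 1, 1)] .nil .nil)) (.node [] .nil (.node [(200, 1, 1, 1)] .nil .nil))) (.node [] (.node [] .nil (.node [(138, 1, 1, 1)] .nil .nil)) .nil)))) (.node [] (.node [] (.node [] .nil (.node [] (.node [] (.node [(55, (-1), 1, 1)] .nil .nil) .nil) .nil)) (.node [] (.node [(4, (-1), 1, 1)] .nil (.node [(23, 1, 1, 1)] (.node [(84, 1, 1, 1)] .nil .nil) (.node [(191, 1, 1, 1)] .nil .nil))) (.node [(6, (-1), 1, 1)] .nil (.node [(35, 1, 1, 1)] .nil .nil)))) (.node [] .nil (.node [] (.node [] (.node [] (.node [(49, (-1), 1, 1)] .nil .nil) .nil) (.node [] (.node [(88, (-1), 1, 1)] .nil .nil) .nil)) (.node [] (.node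 [] (.node [(70, 1, 1, 1)] .nil .nil) .nil) (.node [] (.node [(97, 1, 1, 1)] .nil .nil) .nil)))))))
def C33 : List (ℕ × List (ℕ × ℤ)) := [(36, [(0, (-1))]), (39, [(3, (-1))]), (42, [(4, (-1))]), (48, [(5, (-1))]), (58, [(6, (-1))]), (72, [(11, 1)]), (73, [(12, 1)]), (80, [(14, 1)]), (100, [(18, (-1))]), (101, [(19, (-1))]), (106, [(23, 1)]), (107, [(24, 1)]), (111, [(27, (-1))]), (112, [(28, (-1))]), (115, [(30, 1)]), (116, [(31, 1)]), (120, [(34, 1)]), (122, [(35, 1)]), (141, [(43, 1)]), (142, [(49, (-1))]), (143, [(52, 1)]), (146, [(55, (-1))]), (147, [(59, 1)]), (148, [(62, (-1))]), (151, [(65, 1)]), (152, [(66, 1)]), (155, [(69, (-1))]), (158, [(70, 1)]), (169, [(81, (-1))]), (170, [(84, 1)]), (173, [(87, (-1))]), (174, [(88, (-1))]), (177, [(91, 1)]), (180, [(92, (-1))]), (184, [(93, 1)]), (187, [(96, (-1))]), (190, [(97, 1)]), (196, [(98, (-1))]), (204, [(117, (-1))]), (205, [(119, (-1))]), (208, [(123, (-1))]), (209, [(124, (-1))]),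 (211, [(127, 1)]), (212, [(128, 1)]), (215, [(132, (-1))]), (216, [(133, (-1))]), (220, [(138, 1)]), (221, [(139, 1)]), (225, [(159, (-1))]), (227, [(166, (-1))]), (228, [(167, (-1))]), (233, [(181, 1)]), (234, [(191, 1)]), (235, [(197, 1)]), (236, [(200, 1)]), (239, [(203, 1)])]
def M34 : Tr (List (ℕ × ℤ × ℕ × ℕ)) := (.node [] (.node [] (.node [] (.node [] (.node [] .nil (.node [(5, 1, 1, 1)] (.node [(14, (-1), 1, 1)] (.node [(53, 1, 1, 1)] .nil .nil) (.node [(123, (-1), 1, 1)] .nil .nil)) .nil)) (.node [] (.node [] (.node [(11, (-1), 1, 1)] .nil .nil) .nil) (.node [] .nil (.node [(33, 1, 1, 1)] .nil .nil)))) (.node [] (.node [] (.node [] (.node [] .nil (.node [(98, (-1), 1, 1)] .nil .nil)) (.node [(18, 1, 1, 1)] .nil .nil)) (.node [] (.node [] (.node [(60, 1, 1, 1)] .nil .nil) .nil) (.node [] (.node [(92, (-1), 1, 1)] .nil .nil) .nil))) (.node [] (.node [] .nil (.node [(25, 1, 1, 1)] .nil (.node [(198, (-1), 1, 1)] .nil .nil))) (.node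 [] (.node [] .nil (.node [(138, 1, 1, 1)] .nil .nil)) .nil)))) (.node [] (.node [] (.node [] (.node [] .nil (.node [] .nil (.node [(160, 1, 1, 1)] .nil .nil))) (.node [] (.node [] (.node [(55, (-1), 1, 1)] .nil .nil) (.node [(125, 1, 1, 1)] .nil .nil)) .nil)) (.node [] (.node [(4, 1, 1, 1)] (.node [(13, 1, 1, 1)] .nil .nil) (.node [(23, (-1), 1, 1)] (.node [(82, (-1), 1, 1)] .nil .nil) (.node [(182, (-1), 1, 1)] .nil .nil))) (.node [(6, 1, 1, 1)] .nil (.node [(35, 1, 1, 1)] .nil .nil)))) (.node [] (.node [] (.node [] .nil (.node [(20, (-1), 1, 1)] .nil .nil)) .nil) (.node [] (.node [] (.node [] (.node [(44, 1, 1, 1)] .nil .nil) .nil) .nil) (.node [] (.node [] (.node [(70, 1, 1, 1)] .nil .nil) (.node [(140, (-1), 1, 1)] .nil .nil)) (.node [] (.node [(97, 1, 1, 1)] .nil .nil) .nil)))))) (.node [] (.node [] (.node [] (.node [] .nil (.node [] .nil (.node [(29, (-1), 1, 1)] (.node [(91, 1, 1, 1)] .nil .nil) .nil))) (.node [] .nil (.node []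 (.node [] (.node [(67, 1, 1, 1)] .nil .nil) (.node [(134, 1, 1, 1)] .nil .nil)) (.node [] (.node [(94, 1, 1, 1)] .nil .nil) .nil)))) (.node [] (.node [] (.node [(1, (-1), 1, 1)] .nil (.node [] .nil (.node [(168, 1, 1, 1)] .nil .nil))) (.node [] (.node [] (.node [(63, (-1), 1, 1)] .nil .nil) (.node [(129, (-1), 1, 1)] .nil .nil)) (.node [(32, 1, 1, 1)] .nil .nil))) (.node [] (.node [] (.node [] .nil (.node [(118, (-1), 1, 1)] .nil .nil)) (.node [] (.node [(87, (-1), 1, 1)] .nil .nil) (.node [(201, (-1), 1, 1)] .nil .nil))) .nil))) (.node [] (.node [] (.node [] (.node [] .nil (.node [] .nil (.node [(166, (-1), 1, 1)] .nil .nil))) (.node [] (.node [] .nil (.node [(127, 1, 1, 1)] .nil .nil)) (.node [(30, (-1), 1, 1)] .nil .nil))) (.node [] (.node [] .nil (.node [] (.node [(85, 1, 1, 1)] .nil .nil) (.node [(192, (-1), 1, 1)] .nil .nil))) (.node [] (.node [] (.node [(69, (-1), 1, 1)] .nil .nil) .nil) (.node [] (.node [(96, (-1), 1, 1)] .nil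 .nil) .nil)))) (.node [] (.node [] (.node [(3, 1, 1, 1)] .nil .nil) (.node [] (.node [] (.node [(65, 1, 1, 1)] .nil .nil) (.node [(132, (-1), 1, 1)] .nil .nil)) .nil)) (.node [] (.node [] (.node [] (.node [(50, (-1), 1, 1)] .nil .nil) (.node [(120, (-1), 1, 1)] .nil .nil)) (.node [(27, 1, 1, 1)] (.node [(89, (-1), 1, 1)] .nil .nil) (.node [(203, 1, 1, 1)] .nil .nil))) .nil)))))
def C34 : List (ℕ × List (ℕ × ℤ)) := [(36, [(1, (-1))]), (38, [(3, 1)]), (41, [(4, 1)]), (47, [(5, 1)]), (57, [(6, 1)]), (71, [(11, (-1))]), (73, [(13, 1)]), (79, [(14, (-1))]), (99, [(18, 1)]), (101, [(20, (-1))]), (105, [(23, (-1))]), (107, [(25, 1)]), (110, [(27, 1)]), (112, [(29, (-1))]), (114, [(30, (-1))]), (116, [(32, 1)]), (119, [(33, 1)]), (121, [(35, 1)]), (141, [(44, 1)]), (142, [(50, (-1))]), (143, [(53, 1)]), (145, [(55, (-1))]), (147, [(60, 1)]), (148, [(63, (-1))]), (150, [(65, 1)]), (152, [(67, 1)]), (154, [(69, (-1))]), (157, [(70, 1)]), (169,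 [(82, (-1))]), (170, [(85, 1)]), (172, [(87, (-1))]), (174, [(89, (-1))]), (176, [(91, 1)]), (179, [(92, (-1))]), (184, [(94, 1)]), (186, [(96, (-1))]), (189, [(97, 1)]), (195, [(98, (-1))]), (204, [(118, (-1))]), (206, [(120, (-1))]), (207, [(123, (-1))]), (209, [(125, 1)]), (210, [(127, 1)]), (212, [(129, (-1))]), (214, [(132, (-1))]), (216, [(134, 1)]), (219, [(138, 1)]), (221, [(140, (-1))]), (225, [(160, 1)]), (226, [(166, (-1))]), (228, [(168, 1)]), (233, [(182, (-1))]), (234, [(192, (-1))]), (235, [(198, (-1))]), (236, [(201, (-1))]), (238, [(203, 1)])]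
def M35 : Tr (List (ℕ × ℤ × ℕ × ℕ)) := (.node [] (.node [] (.node [] (.node [] (.node [] .nil (.node [] (.node [] (.node [(54, 1, 1, 1)] .nil .nil) (.node [(124, 1, 1, 1)] .nil .nil)) (.node [(29, 1, 1, 1)] (.node [(91, 1, 1, 1)] .nil .nil) .nil))) (.node [] (.node [] (.node [(12, (-1), 1, 1)] .nil .nil) .nil) (.node [] (.node [] .nil (.node [(134, 1, 1, 1)] .nil .nil)) .nil))) (.node [] (.node [] (.node [] .nil (.node [(19, 1, 1, 1)] .nil (.node [(168, 1, 1, 1)] .nil .nil))) (.node [] (.node [] (.node [(61, 1, 1, 1)] .nil .nil) (.node [(129, (-1), 1, 1)] .nil .nil)) (.node [(32, (-1), 1, 1)] .nil .nil))) (.node [] (.node [] .nil (.node [] (.node [(87, (-1), 1, 1)] .nil .nil) (.node [(199, 1, 1, 1)] .nil .nil))) (.node [] (.node [] .nil (.node [(139, (-1), 1, 1)] .nil .nil)) .nil)))) (.node [] (.node [] (.node [] (.node [] .nil (.node [] .nil (.node [(161, (-1), 1, 1)] .nil .nil))) .nil) (.node [] (.node [] .nil (.node [(24, (-1), 1,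 1)] (.node [(83, (-1), 1, 1)] .nil .nil) (.node [(183, 1, 1, 1)] .nil .nil))) (.node [] (.node [] (.node [(69, (-1), 1, 1)] .nil .nil) .nil) (.node [] (.node [(96, (-1), 1, 1)] .nil .nil) .nil)))) (.node [] (.node [] (.node [(3, (-1), 1, 1)] .nil .nil) (.node [] (.node [] (.node [(65, 1, 1, 1)] .nil .nil) .nil) (.node [(33, 1, 1, 1)] .nil .nil))) (.node [] (.node [] (.node [] (.node [(45, 1, 1, 1)] .nil .nil) (.node [(121, (-1), 1, 1)] .nil .nil)) (.node [] .nil (.node [(203, 1, 1, 1)] .nil .nil))) .nil)))) (.node [] (.node [] (.node [] (.node [] .nil (.node [] (.node [] (.node [(55, (-1), 1, 1)] .nil .nil) (.node [(125, 1, 1, 1)] .nil .nil)) .nil)) (.node [] (.node [(4, (-1), 1, 1)] (.node [(13, (-1), 1, 1)] .nil .nil) .nil) (.node [(6, (-1), 1, 1)] (.node [] (.node [(68, 1, 1, 1)] .nil .nil) .nil) (.node [] (.node [(95, 1, 1, 1)] .nil .nil) .nil)))) (.node [] (.node [] (.node [(2, (-1), 1, 1)] .nil (.node [(20, 1, 1, 1)] .nil .nil))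 (.node [] (.node [] (.node [(64, (-1), 1, 1)] .nil .nil) .nil) .nil)) (.node [] (.node [] .nil (.node [] .nil (.node [(202, 1, 1, 1)] .nil .nil))) (.node [] (.node [] (.node [(70, 1, 1, 1)] .nil .nil) (.node [(140, (-1), 1, 1)] .nil .nil)) (.node [] (.node [(97, 1, 1, 1)] .nil .nil) .nil))))) (.node [] (.node [] (.node [] (.node [] (.node [] .nil (.node [(98, (-1), 1, 1)] .nil .nil)) (.node [] .nil (.node [(167, 1, 1, 1)] .nil .nil))) (.node [] (.node [] .nil (.node [(128, (-1), 1, 1)] .nil .nil)) (.node [(31, (-1), 1, 1)] (.node [(92, (-1), 1, 1)] .nil .nil) .nil))) (.node [] (.node [] .nil (.node [(25, (-1), 1, 1)] (.node [(86, 1, 1, 1)] .nil .nil) (.node [(193, 1, 1, 1)] .nil .nil))) .nil)) (.node [] (.node [] .nil (.node [] (.node [] .nil (.node [(133, 1, 1, 1)] .nil .nil)) (.node [(34, 1, 1, 1)] .nil .nil))) (.node [] (.node [(5, (-1), 1, 1)] (.node [(14, 1, 1, 1)] (.node [(51, (-1), 1, 1)] .nil .nil) (.node [(122, (-1), 1, 1)] .nil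 .nil)) (.node [(28, 1, 1, 1)] (.node [(90, (-1), 1, 1)] .nil .nil) .nil)) .nil)))))
def C35 : List (ℕ × List (ℕ × ℤ)) := [(36, [(2, (-1))]), (37, [(3, (-1))]), (40, [(4, (-1))]), (46, [(5, (-1))]), (56, [(6, (-1))]), (71, [(12, (-1))]), (72, [(13, (-1))]), (78, [(14, 1)]), (99, [(19, 1)]), (100, [(20, 1)]), (105, [(24, (-1))]), (106, [(25, (-1))]), (110, [(28, 1)]), (111, [(29, 1)]), (114, [(31, (-1))]), (115, [(32, (-1))]), (117, [(33, 1)]), (118, [(34, 1)]), (141, [(45, 1)]), (142, [(51, (-1))]), (143, [(54, 1)]), (144, [(55, (-1))]), (147, [(61, 1)]), (148, [(64, (-1))]), (149, [(65, 1)]), (152, [(68, 1)]), (153, [(69, (-1))]), (156, [(70, 1)]), (169, [(83, (-1))]), (170, [(86, 1)]), (171, [(87, (-1))]), (174, [(90, (-1))]), (175, [(91, 1)]), (178, [(92, (-1))]), (184, [(95, 1)]), (185, [(96, (-1))]), (188, [(97, 1)]), (194, [(98, (-1))]), (205, [(121, (-1))]), (206, [(122, (-1))]), (207, [(124, 1)]), (208, [(125, 1)]), (210, [(128,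 (-1))]), (211, [(129, (-1))]), (214, [(133, 1)]), (215, [(134, 1)]), (219, [(139, (-1))]), (220, [(140, (-1))]), (225, [(161, (-1))]), (226, [(167, 1)]), (227, [(168, 1)]), (233, [(183, 1)]), (234, [(193, 1)]), (235, [(199, 1)]), (236, [(202, 1)]), (237, [(203, 1)])]
def M36 : Tr (List (ℕ × ℤ × ℕ × ℕ)) := (.node [] (.node [] (.node [] (.node [] (.node [] (.node [] (.node [] (.node [(40, 1, 1, 1)] .nil .nil) (.node [(105, (-1), 1, 1)] .nil .nil)) (.node [] (.node [(71, 1, 1, 1)] .nil .nil) (.node [(148, (-1), 1, 1)] .nil .nil))) (.node [] .nil (.node [] .nil (.node [(206, (-1), 1, 1)] .nil .nil)))) (.node [] (.node [] (.node [] .nil (.node [(112, (-1), 1, 1)] .nil .nil)) (.node [] (.node [(79, 1, 1, 1)] .nil .nil) (.node [(174, 1, 1, 1)] .nil .nil))) (.node [(7, (-1), 1, 1)] (.node [(15, 1, 1, 1)] .nil .nil) (.node [] (.node [(101, (-1), 1, 1)] .nil .nil) .nil)))) (.node [] (.node [] (.node [(2, 1, 1, 1)] .nil .nil) .nil) (.node [] (.node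 [] (.node [] (.node [(57, (-1), 1, 1)] .nil .nil) .nil) .nil) (.node [] (.node [(16, 1, 1, 1)] .nil .nil) (.node [(37, 1, 1, 1)] .nil .nil))))) (.node [] (.node [] (.node [] (.node [(0, 1, 1, 1)] (.node [(8, (-1), 1, 1)] (.node [(42, 1, 1, 1)] .nil .nil) (.node [(107, (-1), 1, 1)] .nil .nil)) (.node [(22, 1, 1, 1)] (.node [(73, 1, 1, 1)] .nil .nil) .nil)) .nil) (.node [] (.node [] (.node [] .nil (.node [(115, 1, 1, 1)] .nil .nil)) .nil) (.node [] (.node [] .nil (.node [(142, (-1), 1, 1)] .nil .nil)) .nil))) (.node [] (.node [] (.node [] (.node [(9, (-1), 1, 1)] (.node [(47, (-1), 1, 1)] .nil .nil) (.node [(110, (-1), 1, 1)] .nil .nil)) (.node [] .nil (.node [(169, 1, 1, 1)] .nil .nil))) (.node [] (.node [] .nil (.node [(141, (-1), 1, 1)] .nil .nil)) (.node [] (.node [(99, (-1), 1, 1)] .nil .nil) .nil))) (.node [] (.node [] .nil (.node [] .nil (.node [(204, (-1), 1, 1)] .nil .nil))) (.node [] .nil (.node [(39, 1, 1, 1)] .nil .nil))))))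 (.node [] (.node [] (.node [] (.node [] (.node [] (.node [] (.node [(41, (-1), 1, 1)] .nil .nil) (.node [(106, 1, 1, 1)] .nil .nil)) (.node [(21, 1, 1, 1)] (.node [(72, (-1), 1, 1)] .nil .nil) (.node [(152, (-1), 1, 1)] .nil .nil))) .nil) (.node [] (.node [] (.node [] .nil (.node [(114, (-1), 1, 1)] .nil .nil)) (.node [] (.node [(80, (-1), 1, 1)] .nil .nil) (.node [(184, 1, 1, 1)] .nil .nil))) .nil)) (.node [] (.node [] (.node [] (.node [] (.node [(46, 1, 1, 1)] .nil .nil) .nil) .nil) .nil) (.node [] (.node [] (.node [] (.node [(58, 1, 1, 1)] .nil .nil) .nil) .nil) (.node [] (.node [(17, 1, 1, 1)] .nil .nil) (.node [(38, (-1), 1, 1)] .nil .nil))))) (.node [] (.node [] (.node [] (.node [(1, 1, 1, 1)] .nil (.node [(26, 1, 1, 1)] .nil .nil)) .nil) (.node [] (.node [] (.node [] (.node [(56, 1, 1, 1)] .nil .nil) (.node [(116, (-1), 1, 1)] .nil .nil)) .nil) (.node [] (.node [] .nil (.node [(143, (-1), 1, 1)] .nil .nil)) .nil))) (.node [] (.node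 [] (.node [] (.node [(10, (-1), 1, 1)] (.node [(48, 1, 1, 1)] .nil .nil) (.node [(111, 1, 1, 1)] .nil .nil)) (.node [] (.node [(78, (-1), 1, 1)] .nil .nil) (.node [(170, 1, 1, 1)] .nil .nil))) (.node [] .nil (.node [] (.node [(100, 1, 1, 1)] .nil .nil) .nil))) (.node [] (.node [] .nil (.node [] .nil (.node [(205, (-1), 1, 1)] .nil .nil))) (.node [] (.node [] .nil (.node [(147, (-1), 1, 1)] .nil .nil)) .nil))))))
def C36 : List (ℕ × List (ℕ × ℤ)) := [(33, [(0, 1)]), (34, [(1, 1)]), (35, [(2, 1)]), (55, [(7, (-1))]), (65, [(8, (-1))]), (69, [(9, (-1))]), (70, [(10, (-1))]), (87, [(15, 1)]), (91, [(16, 1)]), (92, [(17, 1)]), (96, [(21, 1)]), (97, [(22, 1)]), (98, [(26, 1)]), (123, [(37, 1)]), (124, [(38, (-1))]), (125, [(39, 1)]), (127, [(40, 1)]), (128, [(41, (-1))]), (129, [(42, 1)]), (132, [(46, 1)]), (133, [(47, (-1))]), (134, [(48, 1)]), (138, [(56, 1)]), (139, [(57, (-1))]), (140, [(58, 1)]), (159, [(71, 1)]), (160, [(72, (-1))]),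 (161, [(73, 1)]), (166, [(78, (-1))]), (167, [(79, 1)]), (168, [(80, (-1))]), (181, [(99, (-1))]), (182, [(100, 1)]), (183, [(101, (-1))]), (191, [(105, (-1))]), (192, [(106, 1)]), (193, [(107, (-1))]), (197, [(110, (-1))]), (198, [(111, 1)]), (199, [(112, (-1))]), (200, [(114, (-1))]), (201, [(115, 1)]), (202, [(116, (-1))]), (213, [(141, (-1))]), (217, [(142, (-1))]), (218, [(143, (-1))]), (222, [(147, (-1))]), (223, [(148, (-1))]), (224, [(152, (-1))]), (229, [(169, 1)]), (230, [(170, 1)]), (231, [(174, 1)]), (232, [(184, 1)]), (237, [(204, (-1))]), (238, [(205, (-1))]), (239, [(206, (-1))])]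
def M37 : Tr (List (ℕ × ℤ × ℕ × ℕ)) := (.node [] (.node [] (.node [] (.node [] (.node [] (.node [(0, (-1), 1, 1)] .nil (.node [(21, (-1), 1, 1)] .nil (.node [(149, 1, 1, 1)] .nil .nil))) (.node [] .nil (.node [] .nil (.node [(208, 1, 1, 1)] .nil .nil)))) (.node [] (.node [] (.node [] .nil (.node [(113, (-1), 1, 1)] .nil .nil)) (.node [] (.node [(81, 1, 1, 1)] .nil .nil) (.node [(175, (-1), 1, 1)] .nil .nil))) (.node [] .nil (.node [] (.node [(102, (-1), 1, 1)] .nil .nil) .nil)))) (.node [] (.node [] (.node [(3, 1, 1, 1)] (.node [] (.node [(46, 1, 1, 1)] .nil .nil) (.node [(110, (-1), 1, 1)] .nil .nil)) .nil) (.node [] .nil (.node [] (.node [(99, (-1), 1, 1)] .nil .nil) .nil))) (.node [] (.node [] (.node [] (.node [(59, (-1), 1, 1)] .nil .nil) (.node [(123, (-1), 1, 1)] .nil .nil)) .nil) .nil))) (.node [] (.node [] (.node [] (.node [] (.node [] (.node [(44, 1, 1, 1)] .nil .nil) (.node [(108, (-1), 1, 1)] .nil .nil)) (.node [(23, 1, 1,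 1)] (.node [(74, 1, 1, 1)] .nil .nil) .nil)) .nil) (.node [] (.node [] (.node [] (.node [(56, 1, 1, 1)] .nil .nil) (.node [(118, (-1), 1, 1)] .nil .nil)) .nil) (.node [] .nil (.node [(38, 1, 1, 1)] .nil .nil)))) (.node [] (.node [] (.node [] (.node [] (.node [(49, (-1), 1, 1)] .nil .nil) .nil) (.node [] (.node [(78, (-1), 1, 1)] .nil .nil) .nil)) .nil) (.node [] .nil (.node [] (.node [] (.node [(71, 1, 1, 1)] .nil .nil) (.node [(147, (-1), 1, 1)] .nil .nil)) (.node [] (.node [(105, (-1), 1, 1)] .nil .nil) .nil)))))) (.node [] (.node [] (.node [] (.node [] (.node [(1, (-1), 1, 1)] (.node [(8, 1, 1, 1)] (.node [(43, (-1), 1, 1)] .nil .nil) .nil) (.node [] .nil (.node [(153, 1, 1, 1)] .nil .nil))) .nil) (.node [] (.node [] (.node [] .nil (.node [(117, 1, 1, 1)] .nil .nil)) (.node [] (.node [(82, (-1), 1, 1)] .nil .nil) (.node [(185, (-1), 1, 1)] .nil .nil))) (.node [] (.node [] .nil (.node [(142, (-1), 1, 1)] .nil .nil)) .nil))) (.node []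 (.node [] (.node [] (.node [(9, 1, 1, 1)] .nil (.node [(111, 1, 1, 1)] .nil .nil)) (.node [] .nil (.node [(169, 1, 1, 1)] .nil .nil))) (.node [] (.node [] .nil (.node [(141, (-1), 1, 1)] .nil .nil)) (.node [(36, 1, 1, 1)] (.node [(100, 1, 1, 1)] .nil .nil) .nil))) (.node [] (.node [] (.node [] (.node [(60, 1, 1, 1)] .nil .nil) .nil) (.node [] .nil (.node [(204, (-1), 1, 1)] .nil .nil))) (.node [] (.node [(18, 1, 1, 1)] .nil .nil) .nil)))) (.node [] (.node [] (.node [] (.node [] .nil (.node [(27, 1, 1, 1)] .nil .nil)) .nil) (.node [] .nil (.node [] (.node [(16, (-1), 1, 1)] .nil (.node [(144, 1, 1, 1)] .nil .nil)) (.node [(39, (-1), 1, 1)] .nil .nil)))) (.node [] (.node [] (.node [] (.node [(11, (-1), 1, 1)] (.node [(50, 1, 1, 1)] .nil .nil) .nil) (.node [] .nil (.node [(171, (-1), 1, 1)] .nil .nil))) (.node [(7, 1, 1, 1)] (.node [(15, (-1), 1, 1)] .nil .nil) .nil)) (.node [] (.node [] .nil (.node [] .nil (.node [(207, 1, 1, 1)] .nil .nil)))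 (.node [] (.node [] (.node [(72, (-1), 1, 1)] .nil .nil) .nil) (.node [(40, 1, 1, 1)] (.node [(106, 1, 1, 1)] .nil .nil) .nil)))))))
def C37 : List (ℕ × List (ℕ × ℤ)) := [(31, [(0, (-1))]), (32, [(1, (-1))]), (35, [(3, 1)]), (54, [(7, 1)]), (64, [(8, 1)]), (68, [(9, 1)]), (70, [(11, (-1))]), (86, [(15, (-1))]), (90, [(16, (-1))]), (92, [(18, 1)]), (95, [(21, (-1))]), (97, [(23, 1)]), (98, [(27, 1)]), (116, [(36, 1)]), (121, [(38, 1)]), (122, [(39, (-1))]), (126, [(40, 1)]), (128, [(43, (-1))]), (129, [(44, 1)]), (131, [(46, 1)]), (133, [(49, (-1))]), (134, [(50, 1)]), (137, [(56, 1)]), (139, [(59, (-1))]), (140, [(60, 1)]), (157, [(71, 1)]), (158, [(72, (-1))]), (161, [(74, 1)]), (165, [(78, (-1))]), (167, [(81, 1)]), (168, [(82, (-1))]), (179, [(99, (-1))]), (180, [(100, 1)]), (183, [(102, (-1))]), (189, [(105, (-1))]), (190, [(106, 1)]), (193, [(108, (-1))]), (195, [(110, (-1))]), (196, [(111, 1)]), (199, [(113, (-1))]), (200, [(117,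 1)]), (201, [(118, (-1))]), (203, [(123, (-1))]), (212, [(141, (-1))]), (216, [(142, (-1))]), (218, [(144, 1)]), (221, [(147, (-1))]), (223, [(149, 1)]), (224, [(153, 1)]), (228, [(169, 1)]), (230, [(171, (-1))]), (231, [(175, (-1))]), (232, [(185, (-1))]), (236, [(204, (-1))]), (238, [(207, 1)]), (239, [(208, 1)])]
def M38 : Tr (List (ℕ × ℤ × ℕ × ℕ)) := (.node [] (.node [] (.node [] (.node [] (.node [] (.node [] (.node [(8, (-1), 1, 1)] (.node [(43, (-1), 1, 1)] .nil .nil) .nil) (.node [] .nil (.node [(150, (-1), 1, 1)] .nil .nil))) (.node [] .nil (.node [] .nil (.node [(209, (-1), 1, 1)] .nil .nil)))) (.node [] (.node [] .nil (.node [] .nil (.node [(176, 1, 1, 1)] .nil .nil))) (.node [] (.node [] .nil (.node [(142, (-1), 1, 1)] .nil .nil)) .nil))) (.node [] (.node [] (.node [] (.node [(9, (-1), 1, 1)] (.node [(47, 1, 1, 1)] .nil .nil) .nil) (.node [] .nil (.node [(169, 1, 1, 1)] .nil .nil))) (.node [] (.node [] .nil (.node [(141, (-1),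 1, 1)] .nil .nil)) (.node [(36, (-1), 1, 1)] .nil .nil))) (.node [] (.node [] (.node [] .nil (.node [(124, 1, 1, 1)] .nil .nil)) .nil) .nil))) (.node [] (.node [] (.node [] (.node [] (.node [] (.node [(45, 1, 1, 1)] .nil .nil) .nil) (.node [(24, 1, 1, 1)] .nil .nil)) .nil) (.node [] (.node [] (.node [] (.node [(57, 1, 1, 1)] .nil .nil) .nil) .nil) (.node [] (.node [(16, 1, 1, 1)] .nil .nil) .nil))) (.node [] (.node [] (.node [] .nil (.node [] (.node [(79, (-1), 1, 1)] .nil .nil) .nil)) (.node [(7, (-1), 1, 1)] (.node [(15, 1, 1, 1)] .nil .nil) .nil)) (.node [] (.node [] .nil (.node [] .nil (.node [(207, 1, 1, 1)] .nil .nil))) .nil)))) (.node [] (.node [] (.node [] (.node [] (.node [(2, (-1), 1, 1)] (.node [] .nil (.node [(108, (-1), 1, 1)] .nil .nil)) (.node [] (.node [(74, 1, 1, 1)] .nil .nil) (.node [(154, (-1), 1, 1)] .nil .nil))) .nil) (.node [] (.node [] (.node [] .nil (.node [(119, (-1), 1, 1)] .nil .nil)) (.node [] (.node [(83,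 (-1), 1, 1)] .nil .nil) (.node [(186, 1, 1, 1)] .nil .nil))) (.node [] .nil (.node [(39, 1, 1, 1)] .nil .nil)))) (.node [] (.node [] (.node [] (.node [] (.node [(49, (-1), 1, 1)] .nil .nil) (.node [(112, 1, 1, 1)] .nil .nil)) .nil) (.node [] .nil (.node [] (.node [(101, 1, 1, 1)] .nil .nil) .nil))) (.node [] (.node [] (.node [] (.node [(61, 1, 1, 1)] .nil .nil) .nil) (.node [] .nil (.node [(205, 1, 1, 1)] .nil .nil))) (.node [] (.node [(19, 1, 1, 1)] (.node [(71, 1, 1, 1)] .nil .nil) (.node [(147, (-1), 1, 1)] .nil .nil)) (.node [] (.node [(105, (-1), 1, 1)] .nil .nil) .nil))))) (.node [] (.node [] (.node [] (.node [(3, (-1), 1, 1)] (.node [] .nil (.node [(110, (-1), 1, 1)] .nil .nil)) (.node [(28, 1, 1, 1)] .nil .nil)) (.node [] .nil (.node [] (.node [(99, (-1), 1, 1)] .nil .nil) .nil))) (.node [] (.node [] (.node [] (.node [(59, (-1), 1, 1)] .nil .nil) (.node [(121, (-1), 1, 1)] .nil .nil)) .nil) (.node [] (.node [] .nil (.node [(145,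 (-1), 1, 1)] .nil .nil)) .nil))) (.node [] (.node [] (.node [] (.node [(12, (-1), 1, 1)] (.node [(51, 1, 1, 1)] .nil .nil) (.node [(113, (-1), 1, 1)] .nil .nil)) (.node [] (.node [(81, 1, 1, 1)] .nil .nil) (.node [(172, 1, 1, 1)] .nil .nil))) (.node [] .nil (.node [(37, 1, 1, 1)] (.node [(102, (-1), 1, 1)] .nil .nil) .nil))) (.node [(0, 1, 1, 1)] .nil (.node [] (.node [(21, 1, 1, 1)] (.node [(73, (-1), 1, 1)] .nil .nil) .nil) (.node [(41, 1, 1, 1)] (.node [(107, 1, 1, 1)] .nil .nil) .nil)))))))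
def C38 : List (ℕ × List (ℕ × ℤ)) := [(30, [(0, 1)]), (32, [(2, (-1))]), (34, [(3, (-1))]), (53, [(7, (-1))]), (63, [(8, (-1))]), (67, [(9, (-1))]), (70, [(12, (-1))]), (85, [(15, 1)]), (89, [(16, 1)]), (92, [(19, 1)]), (94, [(21, 1)]), (97, [(24, 1)]), (98, [(28, 1)]), (115, [(36, (-1))]), (118, [(37, 1)]), (120, [(39, 1)]), (126, [(41, 1)]), (127, [(43, (-1))]), (129, [(45, 1)]), (131, [(47, 1)]), (132, [(49, (-1))]), (134, [(51, 1)]), (137, [(57, 1)]), (138, [(59, (-1))]), (140, [(61, 1)]), (156, [(71, 1)]), (158, [(73, (-1))]), (160, [(74, 1)]), (165, [(79, (-1))]), (166, [(81, 1)]), (168, [(83, (-1))]), (178, [(99, (-1))]), (180, [(101, 1)]), (182, [(102, (-1))]), (188, [(105, (-1))]), (190, [(107, 1)]), (192, [(108, (-1))]), (194, [(110, (-1))]), (196, [(112, 1)]), (198, [(113, (-1))]), (200, [(119, (-1))]), (202, [(121, (-1))]), (203, [(124, 1)]), (211, [(141, (-1))]), (215, [(142, (-1))]), (218, [(145, (-1))]), (220, [(147, (-1))]),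 (223, [(150, (-1))]), (224, [(154, (-1))]), (227, [(169, 1)]), (230, [(172, 1)]), (231, [(176, 1)]), (232, [(186, 1)]), (236, [(205, 1)]), (237, [(207, 1)]), (239, [(209, (-1))])]
def M39 : Tr (List (ℕ × ℤ × ℕ × ℕ)) := (.node [] (.node [] (.node [] (.node [] (.node [] (.node [(2, 1, 1, 1)] (.node [] (.node [(44, (-1), 1, 1)] .nil .nil) (.node [(108, (-1), 1, 1)] .nil .nil)) (.node [] (.node [(74, 1, 1, 1)] .nil .nil) (.node [(151, 1, 1, 1)] .nil .nil))) .nil) (.node [] (.node [] .nil (.node [] (.node [(83, (-1), 1, 1)] .nil .nil) (.node [(177, (-1), 1, 1)] .nil .nil))) (.node [] .nil (.node [(38, 1, 1, 1)] .nil .nil)))) (.node [] (.node [] (.node [] (.node [] (.node [(48, 1, 1, 1)] .nil .nil) (.node [(112, 1, 1, 1)] .nil .nil)) .nil) (.node [] .nil (.node [] (.node [(101, 1, 1, 1)] .nil .nil) .nil))) (.node [] (.node [] (.node [] (.node [(61, 1, 1, 1)] .nil .nil) (.node [(125, (-1), 1, 1)] .nil .nil)) .nil) (.node [] (.node [] .nil (.node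 [(147, (-1), 1, 1)] .nil .nil)) .nil)))) (.node [] (.node [] (.node [] (.node [(3, 1, 1, 1)] .nil (.node [(25, 1, 1, 1)] .nil .nil)) .nil) (.node [] (.node [] (.node [] (.node [(58, 1, 1, 1)] .nil .nil) (.node [(120, (-1), 1, 1)] .nil .nil)) .nil) .nil)) (.node [] (.node [] (.node [] (.node [] (.node [(51, 1, 1, 1)] .nil .nil) (.node [(113, (-1), 1, 1)] .nil .nil)) (.node [] (.node [(80, (-1), 1, 1)] .nil .nil) .nil)) (.node [] .nil (.node [(37, (-1), 1, 1)] (.node [(102, (-1), 1, 1)] .nil .nil) .nil))) (.node [] (.node [] .nil (.node [] .nil (.node [(208, (-1), 1, 1)] .nil .nil))) (.node [] (.node [(21, (-1), 1, 1)] (.node [(73, (-1), 1, 1)] .nil .nil) .nil) (.node [] (.node [(107, 1, 1, 1)] .nil .nil) .nil)))))) (.node [] (.node [] (.node [] (.node [] (.node [] (.node [] (.node [(45, 1, 1, 1)] .nil .nil) .nil) (.node [] .nil (.node [(155, 1, 1, 1)] .nil .nil))) .nil) (.node [] (.node [] .nil (.node [] .nil (.node [(187, (-1), 1, 1)]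 .nil .nil))) (.node [] (.node [(16, (-1), 1, 1)] .nil .nil) .nil))) (.node [] (.node [] (.node [] (.node [] (.node [(50, (-1), 1, 1)] .nil .nil) .nil) .nil) (.node [(7, 1, 1, 1)] (.node [(15, (-1), 1, 1)] .nil .nil) .nil)) (.node [] (.node [] .nil (.node [] .nil (.node [(206, (-1), 1, 1)] .nil .nil))) (.node [] (.node [(20, 1, 1, 1)] (.node [(72, 1, 1, 1)] .nil .nil) .nil) (.node [] (.node [(106, (-1), 1, 1)] .nil .nil) .nil))))) (.node [] (.node [] (.node [] (.node [] (.node [(9, 1, 1, 1)] .nil (.node [(111, (-1), 1, 1)] .nil .nil)) (.node [(29, 1, 1, 1)] .nil (.node [(169, 1, 1, 1)] .nil .nil))) (.node [] (.node [] .nil (.node [(141, (-1), 1, 1)] .nil .nil)) (.node [(36, 1, 1, 1)] (.node [(100, (-1), 1, 1)] .nil .nil) .nil))) (.node [] (.node [] (.node [] (.node [(60, (-1), 1, 1)] .nil .nil) (.node [(122, 1, 1, 1)] .nil .nil)) .nil) (.node [] (.node [] .nil (.node [(146, 1, 1, 1)] .nil .nil)) .nil))) (.node [] (.node [] (.node [] (.node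 [(13, (-1), 1, 1)] .nil .nil) (.node [] (.node [(82, 1, 1, 1)] .nil .nil) (.node [(173, (-1), 1, 1)] .nil .nil))) (.node [] (.node [] .nil (.node [(142, (-1), 1, 1)] .nil .nil)) .nil)) (.node [(1, 1, 1, 1)] (.node [] .nil (.node [] .nil (.node [(209, (-1), 1, 1)] .nil .nil))) (.node [(8, 1, 1, 1)] .nil (.node [(42, 1, 1, 1)] .nil .nil)))))))
def C39 : List (ℕ × List (ℕ × ℤ)) := [(30, [(1, 1)]), (31, [(2, 1)]), (33, [(3, 1)]), (52, [(7, 1)]), (62, [(8, 1)]), (66, [(9, 1)]), (70, [(13, (-1))]), (84, [(15, (-1))]), (88, [(16, (-1))]), (92, [(20, 1)]), (93, [(21, (-1))]), (97, [(25, 1)]), (98, [(29, 1)]), (114, [(36, 1)]), (117, [(37, (-1))]), (119, [(38, 1)]), (126, [(42, 1)]), (127, [(44, (-1))]), (128, [(45, 1)]), (131, [(48, 1)]), (132, [(50, (-1))]), (133, [(51, 1)]), (137, [(58, 1)]), (138, [(60, (-1))]), (139, [(61, 1)]), (156, [(72, 1)]), (157, [(73, (-1))]), (159, [(74, 1)]), (165, [(80, (-1))]), (166, [(82, 1)]), (167, [(83, (-1))]),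 (178, [(100, (-1))]), (179, [(101, 1)]), (181, [(102, (-1))]), (188, [(106, (-1))]), (189, [(107, 1)]), (191, [(108, (-1))]), (194, [(111, (-1))]), (195, [(112, 1)]), (197, [(113, (-1))]), (201, [(120, (-1))]), (202, [(122, 1)]), (203, [(125, (-1))]), (210, [(141, (-1))]), (214, [(142, (-1))]), (218, [(146, 1)]), (219, [(147, (-1))]), (223, [(151, 1)]), (224, [(155, 1)]), (226, [(169, 1)]), (230, [(173, (-1))]), (231, [(177, (-1))]), (232, [(187, (-1))]), (236, [(206, (-1))]), (237, [(208, (-1))]), (238, [(209, (-1))])]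
def M40 : Tr (List (ℕ × ℤ × ℕ × ℕ)) := (.node [] (.node [] (.node [] (.node [] (.node [] (.node [] .nil (.node [(22, (-1), 1, 1)] .nil .nil)) (.node [] .nil (.node [] .nil (.node [(211, (-1), 1, 1)] .nil .nil)))) (.node [] (.node [] .nil (.node [] (.node [(84, 1, 1, 1)] .nil .nil) (.node [(178, 1, 1, 1)] .nil .nil))) (.node [] .nil (.node [] (.node [(103, (-1), 1, 1)] .nil .nil) .nil)))) (.node [] (.node [] (.node [(4, 1, 1, 1)] (.node [] .nil (.node [(114, 1, 1, 1)] .nil .nil)) .nil) (.node [(7, (-1), 1, 1)] (.node [(15, 1, 1, 1)] .nil .nil) .nil)) (.node [] (.node [] (.node [] (.node [(62, (-1), 1, 1)] .nil .nil) (.node [(127, (-1), 1, 1)] .nil .nil)) (.node [] .nil (.node [(204, (-1), 1, 1)] .nil .nil))) (.node [] (.node [(18, (-1), 1, 1)] (.node [(72, (-1), 1, 1)] .nil .nil) .nil) (.node [] (.node [(106, 1, 1, 1)] .nil .nil) .nil))))) (.node [] (.node [] (.node [] (.node [] (.node [] .nil (.node [(109, (-1), 1, 1)] .nil .nil)) (.node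 [] (.node [(75, 1, 1, 1)] .nil .nil) .nil)) (.node [] (.node [] .nil (.node [(141, (-1), 1, 1)] .nil .nil)) (.node [(37, 1, 1, 1)] (.node [(100, 1, 1, 1)] .nil .nil) .nil))) (.node [] .nil (.node [] (.node [] .nil (.node [(144, 1, 1, 1)] .nil .nil)) (.node [(41, 1, 1, 1)] .nil .nil)))) (.node [] (.node [] (.node [] (.node [(11, 1, 1, 1)] (.node [(52, (-1), 1, 1)] .nil .nil) (.node [(117, 1, 1, 1)] .nil .nil)) (.node [] .nil (.node [(171, (-1), 1, 1)] .nil .nil))) .nil) (.node [(1, 1, 1, 1)] .nil (.node [(8, (-1), 1, 1)] (.node [] .nil (.node [(148, 1, 1, 1)] .nil .nil)) (.node [(44, (-1), 1, 1)] .nil .nil)))))) (.node [] (.node [] (.node [] (.node [] (.node [] .nil (.node [(23, (-1), 1, 1)] .nil (.node [(156, (-1), 1, 1)] .nil .nil))) (.node [] .nil (.node [(36, 1, 1, 1)] (.node [(99, (-1), 1, 1)] .nil .nil) .nil))) (.node [] (.node [] (.node [] (.node [(56, 1, 1, 1)] .nil .nil) .nil) (.node [] (.node [(85, (-1), 1, 1)] .nil .nil) (.node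 [(188, 1, 1, 1)] .nil .nil))) (.node [] (.node [] .nil (.node [(143, 1, 1, 1)] .nil .nil)) .nil))) (.node [] (.node [] (.node [] (.node [(10, 1, 1, 1)] .nil (.node [(115, (-1), 1, 1)] .nil .nil)) (.node [] (.node [(78, (-1), 1, 1)] .nil .nil) (.node [(170, (-1), 1, 1)] .nil .nil))) .nil) (.node [(0, 1, 1, 1)] (.node [] (.node [] (.node [(63, 1, 1, 1)] .nil .nil) .nil) .nil) (.node [] .nil (.node [(43, 1, 1, 1)] .nil .nil))))) (.node [] (.node [] (.node [] (.node [] (.node [] (.node [(46, 1, 1, 1)] .nil .nil) .nil) (.node [(30, 1, 1, 1)] .nil .nil)) .nil) (.node [] (.node [] (.node [] .nil (.node [(126, (-1), 1, 1)] .nil .nil)) .nil) (.node [] (.node [(17, (-1), 1, 1)] (.node [(71, 1, 1, 1)] .nil .nil) .nil) (.node [(42, (-1), 1, 1)] (.node [(105, (-1), 1, 1)] .nil .nil) .nil)))) (.node [] (.node [] (.node [] (.node [] (.node [(53, 1, 1, 1)] .nil .nil) (.node [(118, (-1), 1, 1)] .nil .nil)) .nil) .nil) (.node [] (.node [] .nil (.node []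 .nil (.node [(210, (-1), 1, 1)] .nil .nil))) (.node [] (.node [] .nil (.node [(149, 1, 1, 1)] .nil .nil)) .nil))))))
def C40 : List (ℕ × List (ℕ × ℤ)) := [(28, [(0, 1)]), (29, [(1, 1)]), (35, [(4, 1)]), (51, [(7, (-1))]), (61, [(8, (-1))]), (68, [(10, 1)]), (69, [(11, 1)]), (83, [(15, 1)]), (90, [(17, (-1))]), (91, [(18, (-1))]), (95, [(22, (-1))]), (96, [(23, (-1))]), (98, [(30, 1)]), (112, [(36, 1)]), (113, [(37, 1)]), (121, [(41, 1)]), (122, [(42, (-1))]), (124, [(43, 1)]), (125, [(44, (-1))]), (130, [(46, 1)]), (133, [(52, (-1))]), (134, [(53, 1)]), (136, [(56, 1)]), (139, [(62, (-1))]), (140, [(63, 1)]), (154, [(71, 1)]), (155, [(72, (-1))]), (161, [(75, 1)]), (164, [(78, (-1))]), (167, [(84, 1)]), (168, [(85, (-1))]), (176, [(99, (-1))]), (177, [(100, 1)]), (183, [(103, (-1))]), (186, [(105, (-1))]), (187, [(106, 1)]), (193, [(109, (-1))]), (195, [(114, 1)]), (196, [(115, (-1))]), (197, [(117, 1)]), (198, [(118, (-1))]), (202, [(126,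 (-1))]), (203, [(127, (-1))]), (209, [(141, (-1))]), (216, [(143, 1)]), (217, [(144, 1)]), (221, [(148, 1)]), (222, [(149, 1)]), (224, [(156, (-1))]), (228, [(170, (-1))]), (229, [(171, (-1))]), (231, [(178, 1)]), (232, [(188, 1)]), (235, [(204, (-1))]), (238, [(210, (-1))]), (239, [(211, (-1))])]
def M41 : Tr (List (ℕ × ℤ × ℕ × ℕ)) := (.node [] (.node [] (.node [] (.node [] (.node [] .nil (.node [] .nil (.node [(36, (-1), 1, 1)] (.node [(99, (-1), 1, 1)] .nil .nil) (.node [(212, 1, 1, 1)] .nil .nil)))) (.node [] (.node [] (.node [] .nil (.node [(121, (-1), 1, 1)] .nil .nil)) (.node [] .nil (.node [(179, (-1), 1, 1)] .nil .nil))) (.node [] (.node [] .nil (.node [(143, 1, 1, 1)] .nil .nil)) .nil))) (.node [] (.node [] (.node [] (.node [(10, (-1), 1, 1)] .nil .nil) (.node [] .nil (.node [(170, (-1), 1, 1)] .nil .nil))) .nil) (.node [(0, (-1), 1, 1)] (.node [] (.node [] .nil (.node [(128, 1, 1, 1)] .nil .nil)) (.node [] .nil (.node [(205,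 1, 1, 1)] .nil .nil))) (.node [] (.node [(19, (-1), 1, 1)] (.node [(73, (-1), 1, 1)] .nil .nil) .nil) (.node [(43, 1, 1, 1)] (.node [(107, 1, 1, 1)] .nil .nil) .nil))))) (.node [] (.node [] (.node [] .nil (.node [] .nil (.node [(38, 1, 1, 1)] (.node [(101, 1, 1, 1)] .nil .nil) .nil))) (.node [] (.node [] (.node [] .nil (.node [(126, (-1), 1, 1)] .nil .nil)) .nil) (.node [] (.node [(17, 1, 1, 1)] (.node [(71, 1, 1, 1)] .nil .nil) (.node [(145, (-1), 1, 1)] .nil .nil)) (.node [] (.node [(105, (-1), 1, 1)] .nil .nil) .nil)))) (.node [] (.node [] (.node [] (.node [(12, 1, 1, 1)] .nil (.node [(119, (-1), 1, 1)] .nil .nil)) (.node [] .nil (.node [(172, 1, 1, 1)] .nil .nil))) .nil) (.node [(2, 1, 1, 1)] (.node [] .nil (.node [] .nil (.node [(210, (-1), 1, 1)] .nil .nil))) (.node [] .nil (.node [(45, (-1), 1, 1)] .nil .nil)))))) (.node [] (.node [] (.node [] (.node [] (.node [] (.node [] .nil (.node [(109, (-1), 1, 1)] .nil .nil)) (.node [(24,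 (-1), 1, 1)] (.node [(75, 1, 1, 1)] .nil .nil) (.node [(157, 1, 1, 1)] .nil .nil))) (.node [] (.node [] .nil (.node [(141, (-1), 1, 1)] .nil .nil)) .nil)) (.node [] (.node [] (.node [] (.node [(57, 1, 1, 1)] .nil .nil) .nil) (.node [] (.node [(86, (-1), 1, 1)] .nil .nil) (.node [(189, (-1), 1, 1)] .nil .nil))) (.node [] .nil (.node [(42, 1, 1, 1)] .nil .nil)))) (.node [] (.node [] (.node [] (.node [] (.node [(52, (-1), 1, 1)] .nil .nil) (.node [(116, (-1), 1, 1)] .nil .nil)) (.node [] (.node [(79, (-1), 1, 1)] .nil .nil) .nil)) .nil) (.node [] (.node [] (.node [] (.node [(64, 1, 1, 1)] .nil .nil) .nil) .nil) (.node [(8, 1, 1, 1)] (.node [] .nil (.node [(148, 1, 1, 1)] .nil .nil)) .nil)))) (.node [] (.node [] (.node [] (.node [(4, (-1), 1, 1)] (.node [] (.node [(47, 1, 1, 1)] .nil .nil) (.node [(114, 1, 1, 1)] .nil .nil)) (.node [(31, 1, 1, 1)] .nil .nil)) (.node [(7, 1, 1, 1)] (.node [(15, (-1), 1, 1)] .nil .nil) .nil)) (.node [] (.node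 [] (.node [] (.node [(62, (-1), 1, 1)] .nil .nil) .nil) .nil) .nil)) (.node [] (.node [] (.node [] (.node [] (.node [(54, 1, 1, 1)] .nil .nil) .nil) (.node [] (.node [(84, 1, 1, 1)] .nil .nil) .nil)) (.node [] .nil (.node [(40, 1, 1, 1)] (.node [(103, (-1), 1, 1)] .nil .nil) .nil))) (.node [] .nil (.node [] (.node [(22, 1, 1, 1)] .nil (.node [(150, (-1), 1, 1)] .nil .nil)) .nil))))))
def C41 : List (ℕ × List (ℕ × ℤ)) := [(27, [(0, (-1))]), (29, [(2, 1)]), (34, [(4, (-1))]), (50, [(7, 1)]), (60, [(8, 1)]), (67, [(10, (-1))]), (69, [(12, 1)]), (82, [(15, (-1))]), (89, [(17, 1)]), (91, [(19, (-1))]), (94, [(22, 1)]), (96, [(24, (-1))]), (98, [(31, 1)]), (111, [(36, (-1))]), (113, [(38, 1)]), (118, [(40, 1)]), (120, [(42, 1)]), (123, [(43, 1)]), (125, [(45, (-1))]), (130, [(47, 1)]), (132, [(52, (-1))]), (134, [(54, 1)]), (136, [(57, 1)]), (138, [(62, (-1))]), (140, [(64, 1)]), (153, [(71, 1)]), (155, [(73, (-1))]), (160, [(75, 1)]), (164,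 [(79, (-1))]), (166, [(84, 1)]), (168, [(86, (-1))]), (175, [(99, (-1))]), (177, [(101, 1)]), (182, [(103, (-1))]), (185, [(105, (-1))]), (187, [(107, 1)]), (192, [(109, (-1))]), (194, [(114, 1)]), (196, [(116, (-1))]), (197, [(119, (-1))]), (199, [(121, (-1))]), (201, [(126, (-1))]), (203, [(128, 1)]), (208, [(141, (-1))]), (215, [(143, 1)]), (217, [(145, (-1))]), (220, [(148, 1)]), (222, [(150, (-1))]), (224, [(157, 1)]), (227, [(170, (-1))]), (229, [(172, 1)]), (231, [(179, (-1))]), (232, [(189, (-1))]), (235, [(205, 1)]), (237, [(210, (-1))]), (239, [(212, 1)])]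
def M42 : Tr (List (ℕ × ℤ × ℕ × ℕ)) := (.node [] (.node [] (.node [] (.node [] (.node [] (.node [] (.node [] .nil (.node [(109, (-1), 1, 1)] .nil .nil)) (.node [] (.node [(75, 1, 1, 1)] .nil .nil) .nil)) (.node [] (.node [] .nil (.node [(141, (-1), 1, 1)] .nil .nil)) (.node [] (.node [(100, (-1), 1, 1)] .nil .nil) .nil))) (.node [] (.node [] (.node [] .nil (.node [(122, 1, 1, 1)] .nil .nil)) (.node [] (.node [(86, (-1), 1, 1)] .nil .nil) (.node [(180, 1, 1, 1)] .nil .nil))) (.node [] .nil (.node [(41, 1, 1, 1)] .nil .nil)))) (.node [] (.node [] (.node [] (.node [] .nil (.node [(116, (-1), 1, 1)] .nil .nil)) .nil) .nil) (.node [(1, (-1), 1, 1)] (.node [] (.node [] (.node [(64, 1, 1, 1)] .nil .nil) (.node [(129, (-1), 1, 1)] .nil .nil)) (.node [] .nil (.node [(206, (-1), 1, 1)] .nil .nil))) (.node [(8, (-1), 1, 1)] (.node [(20, (-1), 1, 1)] .nil (.node [(148, 1, 1, 1)] .nil .nil)) (.node [(44, 1, 1, 1)] .nil .nil))))) (.node [] (.node []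 (.node [] (.node [(4, 1, 1, 1)] .nil .nil) (.node [(7, (-1), 1, 1)] (.node [(15, 1, 1, 1)] .nil .nil) (.node [(39, 1, 1, 1)] .nil .nil))) (.node [] .nil (.node [] (.node [] (.node [(72, 1, 1, 1)] .nil .nil) (.node [(146, 1, 1, 1)] .nil .nil)) (.node [] (.node [(106, (-1), 1, 1)] .nil .nil) .nil)))) (.node [] (.node [] (.node [] (.node [(13, 1, 1, 1)] (.node [(54, 1, 1, 1)] .nil .nil) .nil) (.node [] .nil (.node [(173, (-1), 1, 1)] .nil .nil))) (.node [] .nil (.node [(40, (-1), 1, 1)] (.node [(103, (-1), 1, 1)] .nil .nil) .nil))) (.node [] (.node [] .nil (.node [] .nil (.node [(211, 1, 1, 1)] .nil .nil))) (.node [] (.node [(22, (-1), 1, 1)] .nil .nil) .nil))))) (.node [] (.node [] (.node [] (.node [] (.node [] .nil (.node [(25, (-1), 1, 1)] .nil (.node [(158, (-1), 1, 1)] .nil .nil))) (.node [] .nil (.node [] (.node [(101, 1, 1, 1)] .nil .nil) .nil))) (.node [] (.node [] (.node [] (.node [(58, 1, 1, 1)] .nil .nil) (.node [(126, (-1), 1,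 1)] .nil .nil)) (.node [] .nil (.node [(190, 1, 1, 1)] .nil .nil))) (.node [] (.node [(17, (-1), 1, 1)] .nil .nil) .nil))) (.node [] (.node [] (.node [] (.node [] (.node [(53, (-1), 1, 1)] .nil .nil) .nil) (.node [] (.node [(80, (-1), 1, 1)] .nil .nil) .nil)) .nil) (.node [(2, (-1), 1, 1)] .nil (.node [] .nil (.node [(45, (-1), 1, 1)] .nil .nil))))) (.node [] (.node [] (.node [] (.node [] (.node [(10, 1, 1, 1)] (.node [(48, 1, 1, 1)] .nil .nil) (.node [(115, 1, 1, 1)] .nil .nil)) (.node [(32, 1, 1, 1)] .nil (.node [(170, (-1), 1, 1)] .nil .nil))) .nil) (.node [] (.node [] (.node [] (.node [(63, (-1), 1, 1)] .nil .nil) .nil) .nil) (.node [] (.node [] (.node [(73, (-1), 1, 1)] .nil .nil) .nil) (.node [] (.node [(107, 1, 1, 1)] .nil .nil) .nil)))) (.node [] (.node [] (.node [] (.node [] .nil (.node [(120, (-1), 1, 1)] .nil .nil)) (.node [] (.node [(85, 1, 1, 1)] .nil .nil) .nil)) (.node [] (.node [] .nil (.node [(143, 1, 1, 1)] .nil .nil))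 .nil)) (.node [] (.node [] .nil (.node [(36, 1, 1, 1)] .nil (.node [(212, 1, 1, 1)] .nil .nil))) (.node [] (.node [] .nil (.node [(151, 1, 1, 1)] .nil .nil)) .nil))))))
def C42 : List (ℕ × List (ℕ × ℤ)) := [(27, [(1, (-1))]), (28, [(2, (-1))]), (33, [(4, 1)]), (49, [(7, (-1))]), (59, [(8, (-1))]), (66, [(10, 1)]), (69, [(13, 1)]), (81, [(15, 1)]), (88, [(17, (-1))]), (91, [(20, (-1))]), (93, [(22, (-1))]), (96, [(25, (-1))]), (98, [(32, 1)]), (110, [(36, 1)]), (113, [(39, 1)]), (117, [(40, (-1))]), (119, [(41, 1)]), (123, [(44, 1)]), (124, [(45, (-1))]), (130, [(48, 1)]), (132, [(53, (-1))]), (133, [(54, 1)]), (136, [(58, 1)]), (138, [(63, (-1))]), (139, [(64, 1)]), (153, [(72, 1)]), (154, [(73, (-1))]), (159, [(75, 1)]), (164, [(80, (-1))]), (166, [(85, 1)]), (167, [(86, (-1))]), (175, [(100, (-1))]), (176, [(101, 1)]), (181, [(103, (-1))]), (185, [(106, (-1))]), (186, [(107, 1)]), (191, [(109, (-1))]), (194, [(115, 1)]), (195, [(116,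 (-1))]), (198, [(120, (-1))]), (199, [(122, 1)]), (200, [(126, (-1))]), (203, [(129, (-1))]), (207, [(141, (-1))]), (214, [(143, 1)]), (217, [(146, 1)]), (219, [(148, 1)]), (222, [(151, 1)]), (224, [(158, (-1))]), (226, [(170, (-1))]), (229, [(173, (-1))]), (231, [(180, 1)]), (232, [(190, 1)]), (235, [(206, (-1))]), (237, [(211, 1)]), (238, [(212, 1)])]
def M43 : Tr (List (ℕ × ℤ × ℕ × ℕ)) := (.node [] (.node [] (.node [] (.node [] (.node [] (.node [] .nil (.node [(24, 1, 1, 1)] .nil .nil)) (.node [] .nil (.node [(37, (-1), 1, 1)] .nil (.node [(213, (-1), 1, 1)] .nil .nil)))) (.node [] (.node [] (.node [] .nil (.node [(124, (-1), 1, 1)] .nil .nil)) (.node [] .nil (.node [(181, 1, 1, 1)] .nil .nil))) (.node [] (.node [] .nil (.node [(144, (-1), 1, 1)] .nil .nil)) .nil))) (.node [] (.node [] (.node [] (.node [(11, (-1), 1, 1)] (.node [(52, (-1), 1, 1)] .nil .nil) (.node [(119, (-1), 1, 1)] .nil .nil)) (.node [] .nil (.node [(171, 1, 1, 1)]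 .nil .nil))) (.node [] .nil (.node [(40, 1, 1, 1)] .nil .nil))) (.node [] (.node [] .nil (.node [] .nil (.node [(207, (-1), 1, 1)] .nil .nil))) (.node [] (.node [] (.node [(74, (-1), 1, 1)] .nil .nil) .nil) (.node [] (.node [(108, 1, 1, 1)] .nil .nil) .nil))))) (.node [] (.node [] (.node [] .nil (.node [] .nil (.node [] (.node [(102, 1, 1, 1)] .nil .nil) .nil))) (.node [] (.node [] (.node [] (.node [(62, (-1), 1, 1)] .nil .nil) (.node [(127, 1, 1, 1)] .nil .nil)) .nil) (.node [] (.node [(18, 1, 1, 1)] .nil .nil) .nil))) (.node [] (.node [] (.node [] .nil (.node [] (.node [(84, 1, 1, 1)] .nil .nil) .nil)) .nil) (.node [(3, 1, 1, 1)] .nil (.node [] (.node [] .nil (.node [(150, (-1), 1, 1)] .nil .nil)) .nil))))) (.node [] (.node [] (.node [] (.node [] (.node [(4, 1, 1, 1)] .nil (.node [] .nil (.node [(159, (-1), 1, 1)] .nil .nil))) (.node [(7, (-1), 1, 1)] (.node [(15, 1, 1, 1)] .nil .nil) (.node [(38, (-1), 1, 1)] .nil .nil))) (.node []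 (.node [] (.node [] (.node [(59, 1, 1, 1)] .nil .nil) .nil) (.node [] (.node [(87, (-1), 1, 1)] .nil .nil) (.node [(191, 1, 1, 1)] .nil .nil))) (.node [] (.node [] (.node [(71, 1, 1, 1)] .nil .nil) (.node [(145, (-1), 1, 1)] .nil .nil)) (.node [(44, 1, 1, 1)] (.node [(105, (-1), 1, 1)] .nil .nil) .nil)))) (.node [] (.node [] (.node [] (.node [(12, (-1), 1, 1)] .nil .nil) (.node [] (.node [(81, (-1), 1, 1)] .nil .nil) (.node [(172, 1, 1, 1)] .nil .nil))) (.node [] .nil (.node [(41, 1, 1, 1)] (.node [(103, (-1), 1, 1)] .nil .nil) .nil))) (.node [] (.node [] (.node [] (.node [(65, 1, 1, 1)] .nil .nil) .nil) (.node [] .nil (.node [(210, (-1), 1, 1)] .nil .nil))) (.node [] (.node [] .nil (.node [(149, (-1), 1, 1)] .nil .nil)) .nil)))) (.node [] (.node [] (.node [] (.node [] (.node [] (.node [(49, 1, 1, 1)] .nil .nil) (.node [(117, (-1), 1, 1)] .nil .nil)) (.node [(33, 1, 1, 1)] .nil .nil)) .nil) (.node [(0, 1, 1, 1)] (.node [] (.node [] .nil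 (.node [(128, 1, 1, 1)] .nil .nil)) .nil) (.node [(8, (-1), 1, 1)] (.node [(19, 1, 1, 1)] .nil .nil) (.node [(45, 1, 1, 1)] .nil .nil)))) (.node [] (.node [] (.node [] (.node [] (.node [(55, 1, 1, 1)] .nil .nil) (.node [(123, (-1), 1, 1)] .nil .nil)) .nil) .nil) (.node [] (.node [] (.node [] .nil (.node [(141, (-1), 1, 1)] .nil .nil)) (.node [] (.node [(99, (-1), 1, 1)] .nil .nil) .nil)) (.node [] (.node [(23, 1, 1, 1)] (.node [(75, 1, 1, 1)] .nil .nil) .nil) (.node [] (.node [(109, (-1), 1, 1)] .nil .nil) .nil)))))))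
def C43 : List (ℕ × List (ℕ × ℤ)) := [(26, [(0, 1)]), (29, [(3, 1)]), (32, [(4, 1)]), (48, [(7, (-1))]), (58, [(8, (-1))]), (67, [(11, (-1))]), (68, [(12, (-1))]), (80, [(15, 1)]), (89, [(18, 1)]), (90, [(19, 1)]), (94, [(23, 1)]), (95, [(24, 1)]), (98, [(33, 1)]), (111, [(37, (-1))]), (112, [(38, (-1))]), (115, [(40, 1)]), (116, [(41, 1)]), (120, [(44, 1)]), (122, [(45, 1)]), (130, [(49, 1)]), (131, [(52, (-1))]), (134, [(55, 1)]), (136, [(59, 1)]), (137, [(62, (-1))]), (140, [(65, 1)]), (152, [(71, 1)]), (155, [(74, (-1))]), (158, [(75, 1)]), (164, [(81, (-1))]), (165, [(84, 1)]), (168, [(87, (-1))]), (174, [(99, (-1))]), (177, [(102, 1)]), (180, [(103, (-1))]), (184, [(105, (-1))]), (187, [(108, 1)]), (190, [(109, (-1))]), (194, [(117, (-1))]), (195, [(119, (-1))]), (198, [(123, (-1))]), (199, [(124, (-1))]), (201, [(127, 1)]), (202, [(128, 1)]), (206, [(141, (-1))]), (215, [(144, (-1))]), (216, [(145, (-1))]), (220, [(149, (-1))]),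 (221, [(150, (-1))]), (224, [(159, (-1))]), (227, [(171, 1)]), (228, [(172, 1)]), (231, [(181, 1)]), (232, [(191, 1)]), (235, [(207, (-1))]), (236, [(210, (-1))]), (239, [(213, (-1))])]
def M44 : Tr (List (ℕ × ℤ × ℕ × ℕ)) := (.node [] (.node [] (.node [] (.node [] (.node [] (.node [(4, (-1), 1, 1)] .nil (.node [(25, 1, 1, 1)] .nil .nil)) (.node [(7, 1, 1, 1)] (.node [(15, (-1), 1, 1)] .nil .nil) .nil)) (.node [] (.node [] (.node [] .nil (.node [(125, 1, 1, 1)] .nil .nil)) (.node [] (.node [(87, (-1), 1, 1)] .nil .nil) (.node [(182, (-1), 1, 1)] .nil .nil))) (.node [] .nil (.node [(43, 1, 1, 1)] .nil .nil)))) (.node [] (.node [] (.node [] (.node [] (.node [(53, (-1), 1, 1)] .nil .nil) .nil) .nil) (.node [] .nil (.node [] (.node [(103, (-1), 1, 1)] .nil .nil) .nil))) (.node [] (.node [] (.node [] (.node [(65, 1, 1, 1)] .nil .nil) .nil) (.node [] .nil (.node [(208, 1, 1, 1)] .nil .nil))) (.node [] (.node [] .nil (.node [(149, (-1), 1, 1)]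 .nil .nil)) .nil)))) (.node [] (.node [] .nil (.node [] (.node [] (.node [] (.node [(63, (-1), 1, 1)] .nil .nil) .nil) .nil) (.node [(8, 1, 1, 1)] .nil (.node [(45, 1, 1, 1)] .nil .nil)))) (.node [] (.node [] (.node [] (.node [] (.node [(55, 1, 1, 1)] .nil .nil) (.node [(123, (-1), 1, 1)] .nil .nil)) (.node [] (.node [(85, 1, 1, 1)] .nil .nil) .nil)) .nil) (.node [] (.node [] (.node [] .nil (.node [(141, (-1), 1, 1)] .nil .nil)) .nil) (.node [] (.node [(23, (-1), 1, 1)] (.node [(75, 1, 1, 1)] .nil .nil) (.node [(151, 1, 1, 1)] .nil .nil)) (.node [] (.node [(109, (-1), 1, 1)] .nil .nil) .nil)))))) (.node [] (.node [] (.node [] (.node [] (.node [] .nil (.node [] .nil (.node [(160, 1, 1, 1)] .nil .nil))) (.node [] .nil (.node [(39, (-1), 1, 1)] (.node [(102, 1, 1, 1)] .nil .nil) .nil))) (.node [] (.node [] (.node [] (.node [(60, 1, 1, 1)] .nil .nil) (.node [(127, 1, 1, 1)] .nil .nil)) (.node [] .nil (.node [(192, (-1), 1, 1)] .nil .nil)))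 (.node [] (.node [(18, (-1), 1, 1)] (.node [(72, 1, 1, 1)] .nil .nil) (.node [(146, 1, 1, 1)] .nil .nil)) (.node [] (.node [(106, (-1), 1, 1)] .nil .nil) .nil)))) (.node [] (.node [] (.node [] (.node [(13, (-1), 1, 1)] .nil (.node [(120, (-1), 1, 1)] .nil .nil)) (.node [] (.node [(82, (-1), 1, 1)] .nil .nil) (.node [(173, (-1), 1, 1)] .nil .nil))) (.node [] .nil (.node [(42, 1, 1, 1)] .nil .nil))) (.node [(3, (-1), 1, 1)] (.node [] .nil (.node [] .nil (.node [(211, 1, 1, 1)] .nil .nil))) .nil))) (.node [] (.node [] (.node [] (.node [] (.node [(11, 1, 1, 1)] (.node [(50, 1, 1, 1)] .nil .nil) (.node [(118, (-1), 1, 1)] .nil .nil)) (.node [(34, 1, 1, 1)] .nil (.node [(171, 1, 1, 1)] .nil .nil))) (.node [] .nil (.node [(40, (-1), 1, 1)] .nil .nil))) (.node [(1, 1, 1, 1)] (.node [] (.node [] .nil (.node [(129, (-1), 1, 1)] .nil .nil)) .nil) (.node [] (.node [(20, 1, 1, 1)] (.node [(74, (-1), 1, 1)] .nil .nil) .nil) (.node [] (.node [(108,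 1, 1, 1)] .nil .nil) .nil)))) (.node [] (.node [] .nil (.node [] (.node [] .nil (.node [(144, (-1), 1, 1)] .nil .nil)) .nil)) (.node [] (.node [] .nil (.node [(37, 1, 1, 1)] (.node [(100, (-1), 1, 1)] .nil .nil) (.node [(213, (-1), 1, 1)] .nil .nil))) .nil)))))
def C44 : List (ℕ × List (ℕ × ℤ)) := [(26, [(1, 1)]), (28, [(3, (-1))]), (31, [(4, (-1))]), (47, [(7, 1)]), (57, [(8, 1)]), (66, [(11, 1)]), (68, [(13, (-1))]), (79, [(15, (-1))]), (88, [(18, (-1))]), (90, [(20, 1)]), (93, [(23, (-1))]), (95, [(25, 1)]), (98, [(34, 1)]), (110, [(37, 1)]), (112, [(39, (-1))]), (114, [(40, (-1))]), (116, [(42, 1)]), (119, [(43, 1)]), (121, [(45, 1)]), (130, [(50, 1)]), (131, [(53, (-1))]), (133, [(55, 1)]), (136, [(60, 1)]), (137, [(63, (-1))]), (139, [(65, 1)]), (152, [(72, 1)]), (154, [(74, (-1))]), (157, [(75, 1)]), (164, [(82, (-1))]), (165, [(85, 1)]), (167, [(87, (-1))]), (174, [(100, (-1))]), (176, [(102, 1)]), (179, [(103, (-1))]), (184,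 [(106, (-1))]), (186, [(108, 1)]), (189, [(109, (-1))]), (194, [(118, (-1))]), (196, [(120, (-1))]), (197, [(123, (-1))]), (199, [(125, 1)]), (200, [(127, 1)]), (202, [(129, (-1))]), (205, [(141, (-1))]), (214, [(144, (-1))]), (216, [(146, 1)]), (219, [(149, (-1))]), (221, [(151, 1)]), (224, [(160, 1)]), (226, [(171, 1)]), (228, [(173, (-1))]), (231, [(182, (-1))]), (232, [(192, (-1))]), (235, [(208, 1)]), (236, [(211, 1)]), (238, [(213, (-1))])]
def M45 : Tr (List (ℕ × ℤ × ℕ × ℕ)) := (.node [] (.node [] (.node [] (.node [] (.node [] .nil (.node [] .nil (.node [(39, 1, 1, 1)] (.node [(102, 1, 1, 1)] .nil .nil) .nil))) (.node [] (.node [] .nil (.node [] .nil (.node [(183, 1, 1, 1)] .nil .nil))) (.node [] (.node [] .nil (.node [(146, 1, 1, 1)] .nil .nil)) .nil))) (.node [] (.node [] (.node [] (.node [(13, 1, 1, 1)] (.node [(54, (-1), 1, 1)] .nil .nil) (.node [(121, (-1), 1, 1)] .nil .nil)) (.node [] .nil (.node [(173, (-1), 1, 1)] .nil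 .nil))) (.node [] .nil (.node [(42, (-1), 1, 1)] .nil .nil))) (.node [(3, 1, 1, 1)] (.node [] .nil (.node [] .nil (.node [(209, (-1), 1, 1)] .nil .nil))) (.node [] (.node [] .nil (.node [(150, 1, 1, 1)] .nil .nil)) .nil)))) (.node [] (.node [] .nil (.node [] (.node [] (.node [] (.node [(64, (-1), 1, 1)] .nil .nil) (.node [(129, (-1), 1, 1)] .nil .nil)) .nil) (.node [] (.node [(20, (-1), 1, 1)] (.node [(74, (-1), 1, 1)] .nil .nil) .nil) (.node [] (.node [(108, 1, 1, 1)] .nil .nil) .nil)))) (.node [] (.node [] (.node [] (.node [] .nil (.node [(124, 1, 1, 1)] .nil .nil)) (.node [] (.node [(86, 1, 1, 1)] .nil .nil) .nil)) (.node [] .nil (.node [(43, 1, 1, 1)] .nil .nil))) (.node [] (.node [] .nil (.node [] .nil (.node [(213, (-1), 1, 1)] .nil .nil))) (.node [] (.node [(24, (-1), 1, 1)] .nil .nil) .nil))))) (.node [] (.node [] (.node [] (.node [] (.node [] .nil (.node [] .nil (.node [(161, (-1), 1, 1)] .nil .nil))) .nil) (.node [] (.node []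 (.node [] (.node [(61, 1, 1, 1)] .nil .nil) (.node [(128, (-1), 1, 1)] .nil .nil)) (.node [] .nil (.node [(193, 1, 1, 1)] .nil .nil))) (.node [(8, (-1), 1, 1)] (.node [(19, (-1), 1, 1)] (.node [(73, 1, 1, 1)] .nil .nil) .nil) (.node [] (.node [(107, (-1), 1, 1)] .nil .nil) .nil)))) (.node [] (.node [] (.node [] (.node [] (.node [(55, 1, 1, 1)] .nil .nil) (.node [(122, (-1), 1, 1)] .nil .nil)) (.node [] (.node [(83, (-1), 1, 1)] .nil .nil) .nil)) .nil) (.node [] (.node [] (.node [] .nil (.node [(141, (-1), 1, 1)] .nil .nil)) (.node [] .nil (.node [(212, (-1), 1, 1)] .nil .nil))) (.node [] (.node [] (.node [(75, 1, 1, 1)] .nil .nil) (.node [(151, 1, 1, 1)] .nil .nil)) (.node [] (.node [(109, (-1), 1, 1)] .nil .nil) .nil))))) (.node [] (.node [] (.node [] (.node [] (.node [(12, 1, 1, 1)] (.node [(51, 1, 1, 1)] .nil .nil) .nil) (.node [(35, 1, 1, 1)] .nil (.node [(172, (-1), 1, 1)] .nil .nil))) (.node [] .nil (.node [(41, (-1), 1, 1)] (.node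 [(103, (-1), 1, 1)] .nil .nil) .nil))) (.node [(2, 1, 1, 1)] (.node [] (.node [] (.node [(65, 1, 1, 1)] .nil .nil) .nil) .nil) .nil)) (.node [] (.node [] (.node [] (.node [] .nil (.node [(125, 1, 1, 1)] .nil .nil)) (.node [] (.node [(87, (-1), 1, 1)] .nil .nil) .nil)) (.node [] (.node [] .nil (.node [(145, 1, 1, 1)] .nil .nil)) (.node [(44, 1, 1, 1)] .nil .nil))) (.node [(4, 1, 1, 1)] (.node [(7, (-1), 1, 1)] (.node [(15, 1, 1, 1)] .nil .nil) (.node [(38, 1, 1, 1)] (.node [(101, (-1), 1, 1)] .nil .nil) .nil)) (.node [] (.node [(25, (-1), 1, 1)] .nil .nil) .nil))))))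
def C45 : List (ℕ × List (ℕ × ℤ)) := [(26, [(2, 1)]), (27, [(3, 1)]), (30, [(4, 1)]), (46, [(7, (-1))]), (56, [(8, (-1))]), (66, [(12, 1)]), (67, [(13, 1)]), (78, [(15, 1)]), (88, [(19, (-1))]), (89, [(20, (-1))]), (93, [(24, (-1))]), (94, [(25, (-1))]), (98, [(35, 1)]), (110, [(38, 1)]), (111, [(39, 1)]), (114, [(41, (-1))]), (115, [(42, (-1))]), (117, [(43, 1)]), (118, [(44, 1)]), (130, [(51, 1)]), (131, [(54, (-1))]), (132, [(55, 1)]), (136, [(61, 1)]), (137, [(64, (-1))]), (138, [(65, 1)]), (152, [(73, 1)]), (153, [(74, (-1))]), (156, [(75, 1)]), (164, [(83, (-1))]), (165, [(86, 1)]), (166, [(87, (-1))]), (174, [(101, (-1))]), (175, [(102, 1)]), (178, [(103, (-1))]), (184, [(107, (-1))]), (185, [(108, 1)]), (188, [(109, (-1))]), (195, [(121, (-1))]), (196, [(122, (-1))]), (197, [(124, 1)]), (198, [(125, 1)]), (200, [(128, (-1))]), (201, [(129, (-1))]), (204, [(141, (-1))]), (214, [(145, 1)]), (215, [(146, 1)]), (219, [(150, 1)]),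 (220, [(151, 1)]), (224, [(161, (-1))]), (226, [(172, (-1))]), (227, [(173, (-1))]), (231, [(183, 1)]), (232, [(193, 1)]), (235, [(209, (-1))]), (236, [(212, (-1))]), (237, [(213, (-1))])]
def M46 : Tr (List (ℕ × ℤ × ℕ × ℕ)) := (.node [] (.node [] (.node [] (.node [] (.node [] (.node [] (.node [] .nil (.node [(117, 1, 1, 1)] .nil .nil)) (.node [(26, (-1), 1, 1)] .nil (.node [(156, (-1), 1, 1)] .nil .nil))) (.node [] .nil (.node [] .nil (.node [(215, 1, 1, 1)] .nil .nil)))) (.node [] (.node [] (.node [] (.node [(56, 1, 1, 1)] .nil .nil) (.node [(130, (-1), 1, 1)] .nil .nil)) (.node [] (.node [(88, 1, 1, 1)] .nil .nil) .nil)) (.node [] (.node [(18, 1, 1, 1)] (.node [(72, (-1), 1, 1)] .nil .nil) .nil) (.node [] (.node [(104, (-1), 1, 1)] .nil .nil) .nil)))) (.node [] (.node [] (.node [(5, 1, 1, 1)] .nil (.node [] (.node [(78, (-1), 1, 1)] .nil .nil) .nil)) (.node [] (.node [(16, 1, 1, 1)] .nil .nil) .nil)) (.node [] (.node [] (.node [] (.node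 [(66, (-1), 1, 1)] .nil .nil) (.node [(132, (-1), 1, 1)] .nil .nil)) (.node [(36, 1, 1, 1)] .nil .nil)) (.node [] .nil (.node [] (.node [(111, (-1), 1, 1)] .nil .nil) .nil))))) (.node [] (.node [] (.node [] (.node [] (.node [(11, (-1), 1, 1)] (.node [(53, (-1), 1, 1)] .nil .nil) .nil) (.node [(30, (-1), 1, 1)] (.node [(76, 1, 1, 1)] .nil .nil) .nil)) (.node [] (.node [] .nil (.node [(142, 1, 1, 1)] .nil .nil)) .nil)) (.node [(1, (-1), 1, 1)] .nil (.node [] .nil (.node [(47, 1, 1, 1)] .nil .nil)))) (.node [] (.node [] (.node [] .nil (.node [] .nil (.node [(175, 1, 1, 1)] .nil .nil))) (.node [] (.node [] .nil (.node [(144, 1, 1, 1)] .nil .nil)) .nil)) (.node [] (.node [(7, 1, 1, 1)] .nil (.node [(40, 1, 1, 1)] (.node [(100, 1, 1, 1)] .nil .nil) .nil)) (.node [(9, (-1), 1, 1)] (.node [] .nil (.node [(152, (-1), 1, 1)] .nil .nil)) (.node [(50, (-1), 1, 1)] (.node [(114, 1, 1, 1)] .nil .nil) .nil)))))) (.node [] (.node [] (.node [] (.node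 [] (.node [] (.node [(10, (-1), 1, 1)] (.node [(52, 1, 1, 1)] .nil .nil) (.node [(118, (-1), 1, 1)] .nil .nil)) (.node [(27, (-1), 1, 1)] .nil .nil)) .nil) (.node [(0, (-1), 1, 1)] (.node [] .nil (.node [] (.node [(89, (-1), 1, 1)] .nil .nil) (.node [(194, (-1), 1, 1)] .nil .nil))) .nil)) (.node [] (.node [] (.node [] .nil (.node [] .nil (.node [(174, 1, 1, 1)] .nil .nil))) (.node [] (.node [] .nil (.node [(143, 1, 1, 1)] .nil .nil)) .nil)) (.node [] (.node [] (.node [] (.node [(67, 1, 1, 1)] .nil .nil) .nil) (.node [(37, 1, 1, 1)] (.node [(99, (-1), 1, 1)] .nil .nil) .nil)) (.node [] .nil (.node [(49, 1, 1, 1)] .nil .nil))))) (.node [] (.node [] .nil (.node [] (.node [] (.node [] .nil (.node [(131, (-1), 1, 1)] .nil .nil)) (.node [] .nil (.node [(204, (-1), 1, 1)] .nil .nil))) (.node [] .nil (.node [(48, (-1), 1, 1)] (.node [(110, 1, 1, 1)] .nil .nil) .nil)))) (.node [] (.node [] (.node [] .nil (.node [] .nil (.node [(178, 1, 1, 1)]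 .nil .nil))) (.node [] (.node [(17, 1, 1, 1)] (.node [(71, 1, 1, 1)] .nil .nil) .nil) .nil)) (.node [] (.node [] .nil (.node [] .nil (.node [(214, 1, 1, 1)] .nil .nil))) (.node [] (.node [] .nil (.node [(153, (-1), 1, 1)] .nil .nil)) (.node [] (.node [(115, (-1), 1, 1)] .nil .nil) .nil)))))))
def C46 : List (ℕ × List (ℕ × ℤ)) := [(24, [(0, (-1))]), (25, [(1, (-1))]), (35, [(5, 1)]), (45, [(7, 1)]), (61, [(9, (-1))]), (64, [(10, (-1))]), (65, [(11, (-1))]), (83, [(16, 1)]), (86, [(17, 1)]), (87, [(18, 1)]), (95, [(26, (-1))]), (96, [(27, (-1))]), (97, [(30, (-1))]), (107, [(36, 1)]), (108, [(37, 1)]), (109, [(40, 1)]), (121, [(47, 1)]), (122, [(48, (-1))]), (124, [(49, 1)]), (125, [(50, (-1))]), (128, [(52, 1)]), (129, [(53, (-1))]), (135, [(56, 1)]), (139, [(66, (-1))]), (140, [(67, 1)]), (150, [(71, 1)]), (151, [(72, (-1))]), (161, [(76, 1)]), (163, [(78, (-1))]), (167, [(88, 1)]), (168, [(89, (-1))]), (172, [(99, (-1))]), (173, [(100,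 1)]), (183, [(104, (-1))]), (186, [(110, 1)]), (187, [(111, (-1))]), (189, [(114, 1)]), (190, [(115, (-1))]), (191, [(117, 1)]), (192, [(118, (-1))]), (199, [(130, (-1))]), (202, [(131, (-1))]), (203, [(132, (-1))]), (209, [(142, 1)]), (212, [(143, 1)]), (213, [(144, 1)]), (221, [(152, (-1))]), (222, [(153, (-1))]), (223, [(156, (-1))]), (228, [(174, 1)]), (229, [(175, 1)]), (230, [(178, 1)]), (232, [(194, (-1))]), (234, [(204, (-1))]), (238, [(214, 1)]), (239, [(215, 1)])]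
def M47 : Tr (List (ℕ × ℤ × ℕ × ℕ)) := (.node [] (.node [] (.node [] (.node [] (.node [] (.node [] (.node [(10, 1, 1, 1)] (.node [(52, 1, 1, 1)] .nil .nil) (.node [(119, (-1), 1, 1)] .nil .nil)) (.node [] .nil (.node [(157, 1, 1, 1)] .nil .nil))) (.node [] .nil (.node [] .nil (.node [(216, (-1), 1, 1)] .nil .nil)))) (.node [(0, 1, 1, 1)] (.node [] (.node [] (.node [(57, 1, 1, 1)] .nil .nil) .nil) .nil) (.node [] (.node [(19, 1, 1, 1)] (.node [(73, (-1), 1, 1)] .nil .nil) .nil) .nil))) (.node [] (.node [] (.node [] .nil (.node [] (.node [(79, (-1), 1, 1)] .nil .nil) (.node [(174, 1, 1, 1)] .nil .nil))) (.node [] (.node [] .nil (.node [(143, 1, 1, 1)] .nil .nil)) .nil)) (.node [] (.node [] (.node [] .nil (.node [(133, 1, 1, 1)] .nil .nil)) (.node [] (.node [(99, (-1), 1, 1)] .nil .nil) .nil)) (.node [] .nil (.node [(49, 1, 1, 1)] (.node [(112, (-1), 1, 1)] .nil .nil) .nil))))) (.node [] (.node [] (.node [] (.node [] (.node [(12, (-1), 1,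 1)] (.node [(54, (-1), 1, 1)] .nil .nil) (.node [(121, (-1), 1, 1)] .nil .nil)) (.node [(31, (-1), 1, 1)] .nil .nil)) .nil) (.node [(2, (-1), 1, 1)] (.node [] (.node [] .nil (.node [(131, (-1), 1, 1)] .nil .nil)) .nil) (.node [] .nil (.node [] (.node [(110, 1, 1, 1)] .nil .nil) .nil)))) (.node [] (.node [] (.node [] .nil (.node [] .nil (.node [(176, (-1), 1, 1)] .nil .nil))) (.node [] (.node [(17, (-1), 1, 1)] (.node [(71, 1, 1, 1)] .nil .nil) (.node [(145, (-1), 1, 1)] .nil .nil)) .nil)) (.node [] (.node [] .nil (.node [(41, 1, 1, 1)] (.node [(101, 1, 1, 1)] .nil .nil) (.node [(214, 1, 1, 1)] .nil .nil))) (.node [] .nil (.node [(51, (-1), 1, 1)] .nil .nil)))))) (.node [] (.node [] (.node [] (.node [] (.node [] .nil (.node [(28, (-1), 1, 1)] (.node [(76, 1, 1, 1)] .nil .nil) .nil)) (.node [] (.node [] .nil (.node [(142, 1, 1, 1)] .nil .nil)) .nil)) (.node [] (.node [] .nil (.node [] (.node [(90, (-1), 1, 1)] .nil .nil) (.node [(195, 1,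 1, 1)] .nil .nil))) (.node [] .nil (.node [(48, 1, 1, 1)] .nil .nil)))) (.node [] .nil (.node [] (.node [(7, (-1), 1, 1)] (.node [] (.node [(68, 1, 1, 1)] .nil .nil) .nil) (.node [(38, 1, 1, 1)] .nil .nil)) (.node [(9, 1, 1, 1)] (.node [] .nil (.node [(152, (-1), 1, 1)] .nil .nil)) (.node [] (.node [(114, 1, 1, 1)] .nil .nil) .nil))))) (.node [] (.node [] (.node [] (.node [(5, (-1), 1, 1)] .nil .nil) (.node [] (.node [(16, (-1), 1, 1)] .nil .nil) .nil)) (.node [] (.node [] (.node [] (.node [(66, (-1), 1, 1)] .nil .nil) .nil) (.node [(36, (-1), 1, 1)] .nil (.node [(205, 1, 1, 1)] .nil .nil))) .nil)) (.node [] (.node [] (.node [] (.node [] .nil (.node [(130, (-1), 1, 1)] .nil .nil)) (.node [] (.node [(88, 1, 1, 1)] .nil .nil) (.node [(179, (-1), 1, 1)] .nil .nil))) (.node [] .nil (.node [(46, 1, 1, 1)] (.node [(104, (-1), 1, 1)] .nil .nil) .nil))) (.node [] .nil (.node [] (.node [(26, 1, 1, 1)] .nil (.node [(154, 1, 1, 1)] .nil .nil)) (.node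 [] (.node [(116, (-1), 1, 1)] .nil .nil) .nil)))))))
def C47 : List (ℕ × List (ℕ × ℤ)) := [(23, [(0, 1)]), (25, [(2, (-1))]), (34, [(5, (-1))]), (44, [(7, (-1))]), (60, [(9, 1)]), (63, [(10, 1)]), (65, [(12, (-1))]), (82, [(16, (-1))]), (85, [(17, (-1))]), (87, [(19, 1)]), (94, [(26, 1)]), (96, [(28, (-1))]), (97, [(31, (-1))]), (106, [(36, (-1))]), (108, [(38, 1)]), (109, [(41, 1)]), (118, [(46, 1)]), (120, [(48, 1)]), (123, [(49, 1)]), (125, [(51, (-1))]), (127, [(52, 1)]), (129, [(54, (-1))]), (135, [(57, 1)]), (138, [(66, (-1))]), (140, [(68, 1)]), (149, [(71, 1)]), (151, [(73, (-1))]), (160, [(76, 1)]), (163, [(79, (-1))]), (166, [(88, 1)]), (168, [(90, (-1))]), (171, [(99, (-1))]), (173, [(101, 1)]), (182, [(104, (-1))]), (185, [(110, 1)]), (187, [(112, (-1))]), (188, [(114, 1)]), (190, [(116, (-1))]), (191, [(119, (-1))]), (193, [(121, (-1))]), (198, [(130, (-1))]), (201, [(131, (-1))]), (203, [(133, 1)]), (208, [(142, 1)]), (211,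 [(143, 1)]), (213, [(145, (-1))]), (220, [(152, (-1))]), (222, [(154, 1)]), (223, [(157, 1)]), (227, [(174, 1)]), (229, [(176, (-1))]), (230, [(179, (-1))]), (232, [(195, 1)]), (234, [(205, 1)]), (237, [(214, 1)]), (239, [(216, (-1))])]
def M48 : Tr (List (ℕ × ℤ × ℕ × ℕ)) := (.node [] (.node [] (.node [] (.node [] (.node [] (.node [] (.node [] (.node [(53, 1, 1, 1)] .nil .nil) .nil) (.node [] (.node [(76, 1, 1, 1)] .nil .nil) (.node [(158, (-1), 1, 1)] .nil .nil))) (.node [] (.node [] .nil (.node [(142, 1, 1, 1)] .nil .nil)) .nil)) (.node [(1, 1, 1, 1)] (.node [] (.node [] (.node [(58, 1, 1, 1)] .nil .nil) .nil) (.node [] (.node [(90, (-1), 1, 1)] .nil .nil) .nil)) (.node [] (.node [(20, 1, 1, 1)] .nil .nil) (.node [(47, 1, 1, 1)] .nil .nil)))) (.node [] (.node [] (.node [] .nil (.node [] (.node [(80, (-1), 1, 1)] .nil .nil) .nil)) .nil) (.node [] (.node [(7, 1, 1, 1)] (.node [] (.node [(68, 1, 1, 1)] .nil .nil) (.node [(134, (-1), 1,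 1)] .nil .nil)) (.node [] (.node [(100, (-1), 1, 1)] .nil .nil) .nil)) (.node [(9, (-1), 1, 1)] (.node [] .nil (.node [(152, (-1), 1, 1)] .nil .nil)) (.node [(50, 1, 1, 1)] .nil .nil))))) (.node [] (.node [] (.node [] (.node [(5, 1, 1, 1)] (.node [(13, (-1), 1, 1)] .nil (.node [(122, 1, 1, 1)] .nil .nil)) (.node [(32, (-1), 1, 1)] .nil .nil)) (.node [] (.node [(16, 1, 1, 1)] .nil .nil) .nil)) (.node [] (.node [] .nil (.node [(36, 1, 1, 1)] .nil .nil)) (.node [] .nil (.node [] (.node [(111, 1, 1, 1)] .nil .nil) .nil)))) (.node [] (.node [] (.node [] (.node [] .nil (.node [(130, (-1), 1, 1)] .nil .nil)) (.node [] .nil (.node [(177, 1, 1, 1)] .nil .nil))) (.node [] (.node [] (.node [(72, 1, 1, 1)] .nil .nil) (.node [(146, 1, 1, 1)] .nil .nil)) (.node [(46, (-1), 1, 1)] (.node [(104, (-1), 1, 1)] .nil .nil) .nil))) (.node [] (.node [] .nil (.node [(42, 1, 1, 1)] .nil (.node [(215, (-1), 1, 1)] .nil .nil))) (.node [] (.node [(26, (-1), 1,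 1)] .nil .nil) (.node [] (.node [(116, (-1), 1, 1)] .nil .nil) .nil)))))) (.node [] (.node [] (.node [] (.node [] (.node [] (.node [] (.node [(54, (-1), 1, 1)] .nil .nil) (.node [(120, (-1), 1, 1)] .nil .nil)) (.node [(29, (-1), 1, 1)] .nil .nil)) .nil) (.node [(2, 1, 1, 1)] (.node [] (.node [] .nil (.node [(131, (-1), 1, 1)] .nil .nil)) (.node [] .nil (.node [(196, (-1), 1, 1)] .nil .nil))) .nil)) (.node [] (.node [] .nil (.node [] (.node [(17, 1, 1, 1)] .nil .nil) .nil)) (.node [] (.node [] .nil (.node [(39, 1, 1, 1)] (.node [(101, 1, 1, 1)] .nil .nil) .nil)) (.node [] .nil (.node [(51, (-1), 1, 1)] (.node [(115, 1, 1, 1)] .nil .nil) .nil))))) (.node [] (.node [] (.node [] (.node [] .nil (.node [] .nil (.node [(174, 1, 1, 1)] .nil .nil))) (.node [] (.node [] .nil (.node [(143, 1, 1, 1)] .nil .nil)) .nil)) (.node [] (.node [] (.node [] (.node [(67, (-1), 1, 1)] .nil .nil) .nil) (.node [] .nil (.node [(206, (-1), 1, 1)] .nil .nil))) (.node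 [] .nil (.node [] (.node [(112, (-1), 1, 1)] .nil .nil) .nil)))) (.node [] (.node [] (.node [] .nil (.node [] (.node [(89, 1, 1, 1)] .nil .nil) (.node [(180, 1, 1, 1)] .nil .nil))) (.node [] (.node [] (.node [(73, (-1), 1, 1)] .nil .nil) .nil) .nil)) (.node [] (.node [] .nil (.node [] .nil (.node [(216, (-1), 1, 1)] .nil .nil))) (.node [(10, (-1), 1, 1)] (.node [] .nil (.node [(155, (-1), 1, 1)] .nil .nil)) .nil))))))
def C48 : List (ℕ × List (ℕ × ℤ)) := [(23, [(1, 1)]), (24, [(2, 1)]), (33, [(5, 1)]), (43, [(7, 1)]), (59, [(9, (-1))]), (62, [(10, (-1))]), (65, [(13, (-1))]), (81, [(16, 1)]), (84, [(17, 1)]), (87, [(20, 1)]), (93, [(26, (-1))]), (96, [(29, (-1))]), (97, [(32, (-1))]), (105, [(36, 1)]), (108, [(39, 1)]), (109, [(42, 1)]), (117, [(46, (-1))]), (119, [(47, 1)]), (123, [(50, 1)]), (124, [(51, (-1))]), (127, [(53, 1)]), (128, [(54, (-1))]), (135, [(58, 1)]), (138, [(67, (-1))]), (139, [(68, 1)]), (149, [(72, 1)]), (150, [(73,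 (-1))]), (159, [(76, 1)]), (163, [(80, (-1))]), (166, [(89, 1)]), (167, [(90, (-1))]), (171, [(100, (-1))]), (172, [(101, 1)]), (181, [(104, (-1))]), (185, [(111, 1)]), (186, [(112, (-1))]), (188, [(115, 1)]), (189, [(116, (-1))]), (192, [(120, (-1))]), (193, [(122, 1)]), (197, [(130, (-1))]), (200, [(131, (-1))]), (203, [(134, (-1))]), (207, [(142, 1)]), (210, [(143, 1)]), (213, [(146, 1)]), (219, [(152, (-1))]), (222, [(155, (-1))]), (223, [(158, (-1))]), (226, [(174, 1)]), (229, [(177, 1)]), (230, [(180, 1)]), (232, [(196, (-1))]), (234, [(206, (-1))]), (237, [(215, (-1))]), (238, [(216, (-1))])]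
def M49 : Tr (List (ℕ × ℤ × ℕ × ℕ)) := (.node [] (.node [] (.node [] (.node [] (.node [] (.node [] (.node [(11, 1, 1, 1)] .nil .nil) (.node [(28, 1, 1, 1)] .nil (.node [(159, (-1), 1, 1)] .nil .nil))) (.node [] .nil (.node [] .nil (.node [(217, 1, 1, 1)] .nil .nil)))) (.node [] (.node [] (.node [] (.node [(59, 1, 1, 1)] .nil .nil) .nil) .nil) (.node [] (.node [] (.node [(74, (-1), 1, 1)] .nil .nil) .nil) .nil))) (.node [] (.node [] (.node [] .nil (.node [] (.node [(81, (-1), 1, 1)] .nil .nil) (.node [(175, (-1), 1, 1)] .nil .nil))) (.node [] (.node [] .nil (.node [(144, (-1), 1, 1)] .nil .nil)) (.node [(46, 1, 1, 1)] .nil .nil))) (.node [] (.node [] .nil (.node [(38, (-1), 1, 1)] .nil .nil)) (.node [] .nil (.node [] (.node [(113, (-1), 1, 1)] .nil .nil) .nil))))) (.node [] (.node [] (.node [] (.node [] (.node [] (.node [(55, (-1), 1, 1)] .nil .nil) (.node [(124, (-1), 1, 1)] .nil .nil)) (.node [(33, (-1), 1, 1)] .nil .nil)) .nil) (.node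 [(3, (-1), 1, 1)] (.node [] (.node [] (.node [(66, (-1), 1, 1)] .nil .nil) (.node [(132, 1, 1, 1)] .nil .nil)) .nil) .nil)) (.node [] (.node [] (.node [] .nil (.node [] (.node [(88, 1, 1, 1)] .nil .nil) .nil)) (.node [] (.node [(18, (-1), 1, 1)] .nil .nil) .nil)) (.node [] (.node [] .nil (.node [(43, 1, 1, 1)] (.node [(102, 1, 1, 1)] .nil .nil) .nil)) (.node [] (.node [] .nil (.node [(154, 1, 1, 1)] .nil .nil)) (.node [] (.node [(119, (-1), 1, 1)] .nil .nil) .nil)))))) (.node [] (.node [] (.node [] (.node [] (.node [(5, 1, 1, 1)] (.node [(12, 1, 1, 1)] .nil (.node [(123, (-1), 1, 1)] .nil .nil)) .nil) (.node [] (.node [(16, 1, 1, 1)] .nil .nil) .nil)) (.node [] (.node [] .nil (.node [] (.node [(91, (-1), 1, 1)] .nil .nil) (.node [(197, (-1), 1, 1)] .nil .nil))) (.node [] .nil (.node [(50, 1, 1, 1)] (.node [(110, 1, 1, 1)] .nil .nil) .nil)))) (.node [] (.node [] (.node [] (.node [] .nil (.node [(130, (-1), 1, 1)] .nil .nil)) (.node []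 .nil (.node [(176, (-1), 1, 1)] .nil .nil))) (.node [] (.node [] (.node [(71, 1, 1, 1)] .nil .nil) (.node [(145, (-1), 1, 1)] .nil .nil)) (.node [(47, 1, 1, 1)] (.node [(104, (-1), 1, 1)] .nil .nil) .nil))) (.node [] (.node [] (.node [] (.node [(69, 1, 1, 1)] .nil .nil) .nil) (.node [] .nil (.node [(214, 1, 1, 1)] .nil .nil))) (.node [] (.node [] .nil (.node [(153, 1, 1, 1)] .nil .nil)) (.node [] (.node [(117, (-1), 1, 1)] .nil .nil) .nil))))) (.node [] (.node [] .nil (.node [] (.node [(7, 1, 1, 1)] (.node [] .nil (.node [(133, 1, 1, 1)] .nil .nil)) (.node [(37, (-1), 1, 1)] (.node [(99, (-1), 1, 1)] .nil .nil) (.node [(207, (-1), 1, 1)] .nil .nil))) (.node [(9, (-1), 1, 1)] .nil (.node [(51, 1, 1, 1)] .nil .nil)))) (.node [] (.node [(0, (-1), 1, 1)] (.node [] .nil (.node [] .nil (.node [(181, 1, 1, 1)] .nil .nil))) (.node [] (.node [(19, (-1), 1, 1)] .nil .nil) .nil)) (.node [] (.node [] (.node [] .nil (.node [(142, 1, 1, 1)] .nil .nil))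 .nil) (.node [] (.node [(27, 1, 1, 1)] (.node [(76, 1, 1, 1)] .nil .nil) .nil) (.node [(52, 1, 1, 1)] .nil .nil)))))))
def C49 : List (ℕ × List (ℕ × ℤ)) := [(22, [(0, (-1))]), (25, [(3, (-1))]), (32, [(5, 1)]), (42, [(7, 1)]), (58, [(9, (-1))]), (63, [(11, 1)]), (64, [(12, 1)]), (80, [(16, 1)]), (85, [(18, (-1))]), (86, [(19, (-1))]), (94, [(27, 1)]), (95, [(28, 1)]), (97, [(33, (-1))]), (106, [(37, (-1))]), (107, [(38, (-1))]), (109, [(43, 1)]), (115, [(46, 1)]), (116, [(47, 1)]), (120, [(50, 1)]), (122, [(51, 1)]), (126, [(52, 1)]), (129, [(55, (-1))]), (135, [(59, 1)]), (137, [(66, (-1))]), (140, [(69, 1)]), (148, [(71, 1)]), (151, [(74, (-1))]), (158, [(76, 1)]), (163, [(81, (-1))]), (165, [(88, 1)]), (168, [(91, (-1))]), (170, [(99, (-1))]), (173, [(102, 1)]), (180, [(104, (-1))]), (184, [(110, 1)]), (187, [(113, (-1))]), (188, [(117, (-1))]), (189, [(119, (-1))]), (192, [(123, (-1))]), (193, [(124, (-1))]), (196, [(130, (-1))]),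 (201, [(132, 1)]), (202, [(133, 1)]), (206, [(142, 1)]), (211, [(144, (-1))]), (212, [(145, (-1))]), (220, [(153, 1)]), (221, [(154, 1)]), (223, [(159, (-1))]), (227, [(175, (-1))]), (228, [(176, (-1))]), (230, [(181, 1)]), (232, [(197, (-1))]), (234, [(207, (-1))]), (236, [(214, 1)]), (239, [(217, 1)])]
def M50 : Tr (List (ℕ × ℤ × ℕ × ℕ)) := (.node [] (.node [] (.node [] (.node [] (.node [] (.node [(5, (-1), 1, 1)] (.node [] .nil (.node [(123, (-1), 1, 1)] .nil .nil)) (.node [(29, 1, 1, 1)] .nil (.node [(160, 1, 1, 1)] .nil .nil))) (.node [] (.node [(16, (-1), 1, 1)] .nil .nil) .nil)) (.node [] (.node [] (.node [] (.node [(60, 1, 1, 1)] .nil .nil) .nil) (.node [] (.node [(91, (-1), 1, 1)] .nil .nil) .nil)) (.node [] .nil (.node [(49, 1, 1, 1)] .nil .nil)))) (.node [] (.node [] (.node [] (.node [] .nil (.node [(130, (-1), 1, 1)] .nil .nil)) (.node [] (.node [(82, (-1), 1, 1)] .nil .nil) .nil)) (.node [] .nil (.node [] (.node [(104, (-1),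 1, 1)] .nil .nil) .nil))) (.node [] (.node [] (.node [] (.node [(69, 1, 1, 1)] .nil .nil) .nil) (.node [(39, (-1), 1, 1)] .nil .nil)) (.node [] (.node [] .nil (.node [(153, 1, 1, 1)] .nil .nil)) .nil)))) (.node [] (.node [] (.node [] (.node [] (.node [] .nil (.node [(125, 1, 1, 1)] .nil .nil)) (.node [(34, (-1), 1, 1)] .nil .nil)) .nil) (.node [] (.node [(7, (-1), 1, 1)] (.node [] (.node [(67, (-1), 1, 1)] .nil .nil) .nil) (.node [(37, 1, 1, 1)] .nil .nil)) (.node [(9, 1, 1, 1)] .nil (.node [(51, 1, 1, 1)] .nil .nil)))) (.node [] (.node [] (.node [] .nil (.node [] (.node [(89, 1, 1, 1)] .nil .nil) .nil)) .nil) (.node [] (.node [] (.node [] .nil (.node [(142, 1, 1, 1)] .nil .nil)) (.node [(44, 1, 1, 1)] .nil .nil)) (.node [] (.node [(27, (-1), 1, 1)] (.node [(76, 1, 1, 1)] .nil .nil) (.node [(155, (-1), 1, 1)] .nil .nil)) .nil))))) (.node [] (.node [] (.node [] (.node [] (.node [] (.node [(13, 1, 1, 1)] (.node [(55, (-1), 1, 1)] .nil .nil)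 .nil) .nil) .nil) (.node [(3, 1, 1, 1)] (.node [] (.node [] .nil (.node [(132, 1, 1, 1)] .nil .nil)) (.node [] .nil (.node [(198, 1, 1, 1)] .nil .nil))) (.node [] .nil (.node [] (.node [(111, 1, 1, 1)] .nil .nil) .nil)))) (.node [] (.node [] (.node [] .nil (.node [] .nil (.node [(177, 1, 1, 1)] .nil .nil))) (.node [] (.node [(18, 1, 1, 1)] (.node [(72, 1, 1, 1)] .nil .nil) (.node [(146, 1, 1, 1)] .nil .nil)) (.node [(48, 1, 1, 1)] .nil .nil))) (.node [] (.node [] .nil (.node [] (.node [(102, 1, 1, 1)] .nil .nil) (.node [(215, (-1), 1, 1)] .nil .nil))) (.node [] .nil (.node [] (.node [(118, (-1), 1, 1)] .nil .nil) .nil))))) (.node [] (.node [] (.node [] (.node [] .nil (.node [] .nil (.node [(175, (-1), 1, 1)] .nil .nil))) (.node [] (.node [] .nil (.node [(144, (-1), 1, 1)] .nil .nil)) (.node [(46, (-1), 1, 1)] .nil .nil))) (.node [] (.node [] (.node [] .nil (.node [(134, (-1), 1, 1)] .nil .nil)) (.node [] (.node [(100, (-1), 1, 1)] .nil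 .nil) (.node [(208, 1, 1, 1)] .nil .nil))) (.node [] .nil (.node [] (.node [(113, (-1), 1, 1)] .nil .nil) .nil)))) (.node [] (.node [(1, (-1), 1, 1)] (.node [] .nil (.node [] .nil (.node [(182, (-1), 1, 1)] .nil .nil))) (.node [] (.node [(20, (-1), 1, 1)] (.node [(74, (-1), 1, 1)] .nil .nil) .nil) .nil)) (.node [] (.node [] .nil (.node [] .nil (.node [(217, 1, 1, 1)] .nil .nil))) (.node [(11, (-1), 1, 1)] .nil (.node [(53, 1, 1, 1)] (.node [(120, (-1), 1, 1)] .nil .nil) .nil)))))))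
def C50 : List (ℕ × List (ℕ × ℤ)) := [(22, [(1, (-1))]), (24, [(3, 1)]), (31, [(5, (-1))]), (41, [(7, (-1))]), (57, [(9, 1)]), (62, [(11, (-1))]), (64, [(13, 1)]), (79, [(16, (-1))]), (84, [(18, 1)]), (86, [(20, (-1))]), (93, [(27, (-1))]), (95, [(29, 1)]), (97, [(34, (-1))]), (105, [(37, 1)]), (107, [(39, (-1))]), (109, [(44, 1)]), (114, [(46, (-1))]), (116, [(48, 1)]), (119, [(49, 1)]), (121, [(51, 1)]), (126, [(53, 1)]), (128, [(55, (-1))]), (135, [(60, 1)]), (137, [(67, (-1))]), (139, [(69, 1)]), (148, [(72, 1)]), (150, [(74, (-1))]), (157, [(76, 1)]), (163, [(82, (-1))]), (165, [(89, 1)]), (167, [(91, (-1))]), (170, [(100, (-1))]), (172, [(102, 1)]), (179, [(104, (-1))]), (184, [(111, 1)]), (186, [(113, (-1))]), (188, [(118, (-1))]), (190, [(120, (-1))]), (191, [(123, (-1))]), (193, [(125, 1)]), (195, [(130, (-1))]), (200, [(132, 1)]), (202, [(134, (-1))]), (205, [(142, 1)]), (210, [(144, (-1))]), (212, [(146, 1)]), (219, [(153,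 1)]), (221, [(155, (-1))]), (223, [(160, 1)]), (226, [(175, (-1))]), (228, [(177, 1)]), (230, [(182, (-1))]), (232, [(198, 1)]), (234, [(208, 1)]), (236, [(215, (-1))]), (238, [(217, 1)])]
def M51 : Tr (List (ℕ × ℤ × ℕ × ℕ)) := (.node [] (.node [] (.node [] (.node [] (.node [] (.node [] (.node [(13, (-1), 1, 1)] (.node [(55, (-1), 1, 1)] .nil .nil) (.node [(124, 1, 1, 1)] .nil .nil)) (.node [] .nil (.node [(161, (-1), 1, 1)] .nil .nil))) .nil) (.node [(3, (-1), 1, 1)] (.node [] (.node [] (.node [(61, 1, 1, 1)] .nil .nil) .nil) .nil) .nil)) (.node [] (.node [] (.node [] .nil (.node [] (.node [(83, (-1), 1, 1)] .nil .nil) (.node [(177, 1, 1, 1)] .nil .nil))) (.node [] (.node [] .nil (.node [(146, 1, 1, 1)] .nil .nil)) (.node [(48, (-1), 1, 1)] .nil .nil))) (.node [] (.node [] .nil (.node [] (.node [(102, 1, 1, 1)] .nil .nil) .nil)) (.node [] (.node [] .nil (.node [(154, (-1), 1, 1)] .nil .nil)) .nil)))) (.node [] (.node [] (.node [] (.node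 [] .nil (.node [(35, (-1), 1, 1)] .nil .nil)) .nil) (.node [] (.node [] (.node [] (.node [(68, (-1), 1, 1)] .nil .nil) (.node [(134, (-1), 1, 1)] .nil .nil)) (.node [(38, 1, 1, 1)] .nil .nil)) (.node [] .nil (.node [] (.node [(113, (-1), 1, 1)] .nil .nil) .nil)))) (.node [] (.node [] (.node [] .nil (.node [] (.node [(90, 1, 1, 1)] .nil .nil) .nil)) (.node [] (.node [(20, 1, 1, 1)] (.node [(74, (-1), 1, 1)] .nil .nil) .nil) (.node [(49, 1, 1, 1)] .nil .nil))) (.node [] (.node [] .nil (.node [(45, 1, 1, 1)] .nil (.node [(217, 1, 1, 1)] .nil .nil))) (.node [] (.node [(28, (-1), 1, 1)] .nil .nil) (.node [] (.node [(121, (-1), 1, 1)] .nil .nil) .nil)))))) (.node [] (.node [] (.node [] (.node [] (.node [] (.node [] .nil (.node [(125, 1, 1, 1)] .nil .nil)) .nil) .nil) (.node [] (.node [(7, 1, 1, 1)] (.node [] .nil (.node [(133, (-1), 1, 1)] .nil .nil)) (.node [] .nil (.node [(199, (-1), 1, 1)] .nil .nil))) (.node [(9, (-1), 1, 1)] .nil (.node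 [] (.node [(112, 1, 1, 1)] .nil .nil) .nil)))) (.node [] (.node [] .nil (.node [] (.node [(19, 1, 1, 1)] (.node [(73, 1, 1, 1)] .nil .nil) .nil) .nil)) (.node [] (.node [] (.node [] .nil (.node [(142, 1, 1, 1)] .nil .nil)) (.node [] .nil (.node [(216, 1, 1, 1)] .nil .nil))) (.node [] (.node [] (.node [(76, 1, 1, 1)] .nil .nil) (.node [(155, (-1), 1, 1)] .nil .nil)) .nil)))) (.node [] (.node [] (.node [] (.node [] (.node [] .nil (.node [(130, (-1), 1, 1)] .nil .nil)) (.node [] .nil (.node [(176, 1, 1, 1)] .nil .nil))) (.node [] (.node [] .nil (.node [(145, 1, 1, 1)] .nil .nil)) (.node [(47, (-1), 1, 1)] (.node [(104, (-1), 1, 1)] .nil .nil) .nil))) (.node [] (.node [] (.node [] (.node [(69, 1, 1, 1)] .nil .nil) .nil) (.node [(39, 1, 1, 1)] (.node [(101, (-1), 1, 1)] .nil .nil) (.node [(209, (-1), 1, 1)] .nil .nil))) .nil)) (.node [] (.node [(2, (-1), 1, 1)] (.node [] .nil (.node [] (.node [(91, (-1), 1, 1)] .nil .nil) (.node [(183, 1,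 1, 1)] .nil .nil))) (.node [] .nil (.node [(50, 1, 1, 1)] .nil .nil))) (.node [(5, 1, 1, 1)] (.node [] (.node [(16, 1, 1, 1)] .nil .nil) .nil) (.node [(12, (-1), 1, 1)] (.node [(29, (-1), 1, 1)] .nil .nil) (.node [(54, 1, 1, 1)] (.node [(122, (-1), 1, 1)] .nil .nil) .nil)))))))
def C51 : List (ℕ × List (ℕ × ℤ)) := [(22, [(2, (-1))]), (23, [(3, (-1))]), (30, [(5, 1)]), (40, [(7, 1)]), (56, [(9, (-1))]), (62, [(12, (-1))]), (63, [(13, (-1))]), (78, [(16, 1)]), (84, [(19, 1)]), (85, [(20, 1)]), (93, [(28, (-1))]), (94, [(29, (-1))]), (97, [(35, (-1))]), (105, [(38, 1)]), (106, [(39, 1)]), (109, [(45, 1)]), (114, [(47, (-1))]), (115, [(48, (-1))]), (117, [(49, 1)]), (118, [(50, 1)]), (126, [(54, 1)]), (127, [(55, (-1))]), (135, [(61, 1)]), (137, [(68, (-1))]), (138, [(69, 1)]), (148, [(73, 1)]), (149, [(74, (-1))]), (156, [(76, 1)]), (163, [(83, (-1))]), (165, [(90, 1)]), (166, [(91, (-1))]), (170, [(101, (-1))]), (171, [(102, 1)]), (178,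 [(104, (-1))]), (184, [(112, 1)]), (185, [(113, (-1))]), (189, [(121, (-1))]), (190, [(122, (-1))]), (191, [(124, 1)]), (192, [(125, 1)]), (194, [(130, (-1))]), (200, [(133, (-1))]), (201, [(134, (-1))]), (204, [(142, 1)]), (210, [(145, 1)]), (211, [(146, 1)]), (219, [(154, (-1))]), (220, [(155, (-1))]), (223, [(161, (-1))]), (226, [(176, 1)]), (227, [(177, 1)]), (230, [(183, 1)]), (232, [(199, (-1))]), (234, [(209, (-1))]), (236, [(216, 1)]), (237, [(217, 1)])]
def M52 : Tr (List (ℕ × ℤ × ℕ × ℕ)) := (.node [] (.node [] (.node [] (.node [] (.node [] (.node [] .nil (.node [(31, 1, 1, 1)] .nil .nil)) (.node [] .nil (.node [(46, 1, 1, 1)] .nil (.node [(218, (-1), 1, 1)] .nil .nil)))) (.node [] (.node [(7, (-1), 1, 1)] (.node [] (.node [(62, 1, 1, 1)] .nil .nil) (.node [(133, 1, 1, 1)] .nil .nil)) .nil) (.node [] (.node [] (.node [(75, (-1), 1, 1)] .nil .nil) .nil) .nil))) (.node [] (.node [] (.node [] .nil (.node [] (.node [(84, (-1), 1,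 1)] .nil .nil) (.node [(178, 1, 1, 1)] .nil .nil))) (.node [] (.node [(19, 1, 1, 1)] (.node [(71, 1, 1, 1)] .nil .nil) .nil) .nil)) (.node [] (.node [] .nil (.node [(41, (-1), 1, 1)] .nil (.node [(214, 1, 1, 1)] .nil .nil))) (.node [] (.node [] (.node [(76, 1, 1, 1)] .nil .nil) .nil) .nil)))) (.node [] (.node [] (.node [] (.node [] (.node [] .nil (.node [(128, (-1), 1, 1)] .nil .nil)) .nil) (.node [] (.node [] .nil (.node [(145, (-1), 1, 1)] .nil .nil)) (.node [(49, 1, 1, 1)] (.node [(104, (-1), 1, 1)] .nil .nil) .nil))) (.node [(4, (-1), 1, 1)] (.node [] .nil (.node [] (.node [(99, (-1), 1, 1)] .nil .nil) .nil)) (.node [] .nil (.node [] (.node [(117, (-1), 1, 1)] .nil .nil) .nil)))) (.node [] (.node [(0, 1, 1, 1)] (.node [] .nil (.node [] .nil (.node [(181, 1, 1, 1)] .nil .nil))) .nil) (.node [(5, (-1), 1, 1)] (.node [] .nil (.node [] (.node [(103, 1, 1, 1)] .nil .nil) .nil)) (.node [(12, (-1), 1, 1)] (.node [] .nil (.node [(157, (-1),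 1, 1)] .nil .nil)) (.node [(55, 1, 1, 1)] .nil .nil)))))) (.node [] (.node [] (.node [] (.node [] (.node [] (.node [] .nil (.node [(127, (-1), 1, 1)] .nil .nil)) (.node [(33, 1, 1, 1)] .nil .nil)) (.node [] (.node [(17, 1, 1, 1)] .nil (.node [(144, (-1), 1, 1)] .nil .nil)) (.node [(47, 1, 1, 1)] .nil .nil))) (.node [] (.node [] (.node [] (.node [(66, (-1), 1, 1)] .nil .nil) .nil) (.node [] (.node [(92, (-1), 1, 1)] .nil .nil) (.node [(200, 1, 1, 1)] .nil .nil))) (.node [] .nil (.node [(53, 1, 1, 1)] (.node [(114, (-1), 1, 1)] .nil .nil) .nil)))) (.node [] (.node [] (.node [] (.node [] .nil (.node [(131, 1, 1, 1)] .nil .nil)) (.node [] (.node [(88, 1, 1, 1)] .nil .nil) (.node [(179, 1, 1, 1)] .nil .nil))) .nil) (.node [] (.node [] (.node [] (.node [(70, 1, 1, 1)] .nil .nil) .nil) (.node [(43, (-1), 1, 1)] .nil .nil)) (.node [(11, (-1), 1, 1)] (.node [] .nil (.node [(156, (-1), 1, 1)] .nil .nil)) .nil)))) (.node [] (.node [] (.node [] .nil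 (.node [] (.node [(18, 1, 1, 1)] .nil .nil) .nil)) (.node [] (.node [] .nil (.node [(40, (-1), 1, 1)] .nil (.node [(210, 1, 1, 1)] .nil .nil))) (.node [(10, (-1), 1, 1)] .nil (.node [(54, 1, 1, 1)] (.node [(119, (-1), 1, 1)] .nil .nil) .nil)))) (.node [] (.node [] (.node [] (.node [] .nil (.node [(132, 1, 1, 1)] .nil .nil)) .nil) .nil) (.node [] (.node [] (.node [] .nil (.node [(143, (-1), 1, 1)] .nil .nil)) .nil) (.node [] (.node [(30, 1, 1, 1)] .nil (.node [(159, (-1), 1, 1)] .nil .nil)) (.node [] (.node [(126, (-1), 1, 1)] .nil .nil) .nil)))))))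
def C52 : List (ℕ × List (ℕ × ℤ)) := [(21, [(0, 1)]), (25, [(4, (-1))]), (29, [(5, (-1))]), (39, [(7, (-1))]), (58, [(10, (-1))]), (60, [(11, (-1))]), (61, [(12, (-1))]), (80, [(17, 1)]), (82, [(18, 1)]), (83, [(19, 1)]), (94, [(30, 1)]), (95, [(31, 1)]), (96, [(33, 1)]), (106, [(40, (-1))]), (107, [(41, (-1))]), (108, [(43, (-1))]), (111, [(46, 1)]), (112, [(47, 1)]), (113, [(49, 1)]), (120, [(53, 1)]), (122, [(54, 1)]), (125, [(55, 1)]), (135, [(62, 1)]), (136, [(66, (-1))]), (140, [(70, 1)]), (147, [(71, 1)]), (151, [(75, (-1))]), (155, [(76, 1)]), (163, [(84, (-1))]), (164, [(88, 1)]), (168, [(92, (-1))]), (169, [(99, (-1))]), (173, [(103, 1)]), (177, [(104, (-1))]), (184, [(114, (-1))]), (185, [(117, (-1))]), (186, [(119, (-1))]), (190, [(126, (-1))]), (192, [(127, (-1))]), (193, [(128, (-1))]), (196, [(131, 1)]), (198, [(132, 1)]), (199, [(133, 1)]), (206, [(143, (-1))]), (208, [(144, (-1))]), (209, [(145, (-1))]), (220, [(156,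 (-1))]), (221, [(157, (-1))]), (222, [(159, (-1))]), (227, [(178, 1)]), (228, [(179, 1)]), (229, [(181, 1)]), (232, [(200, 1)]), (234, [(210, 1)]), (235, [(214, 1)]), (239, [(218, (-1))])]
def M53 : Tr (List (ℕ × ℤ × ℕ × ℕ)) := (.node [] (.node [] (.node [] (.node [] (.node [] (.node [] (.node [] .nil (.node [(127, (-1), 1, 1)] .nil .nil)) (.node [(32, 1, 1, 1)] .nil .nil)) (.node [] (.node [(17, (-1), 1, 1)] .nil (.node [(144, (-1), 1, 1)] .nil .nil)) .nil)) (.node [] (.node [] (.node [] (.node [(63, 1, 1, 1)] .nil .nil) (.node [(134, (-1), 1, 1)] .nil .nil)) (.node [] (.node [(92, (-1), 1, 1)] .nil .nil) .nil)) (.node [] .nil (.node [(52, 1, 1, 1)] .nil .nil)))) (.node [] (.node [] (.node [] (.node [] .nil (.node [(131, 1, 1, 1)] .nil .nil)) (.node [] (.node [(85, (-1), 1, 1)] .nil .nil) .nil)) (.node [] (.node [(20, 1, 1, 1)] (.node [(72, 1, 1, 1)] .nil .nil) .nil) .nil)) (.node [] (.node [] (.node [] (.node [(70, 1, 1, 1)] .nil .nil)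 .nil) (.node [(42, (-1), 1, 1)] .nil (.node [(215, (-1), 1, 1)] .nil .nil))) (.node [(11, 1, 1, 1)] (.node [] .nil (.node [(156, (-1), 1, 1)] .nil .nil)) (.node [] (.node [(120, (-1), 1, 1)] .nil .nil) .nil))))) (.node [] (.node [] (.node [] (.node [] (.node [] .nil (.node [(129, 1, 1, 1)] .nil .nil)) .nil) (.node [] (.node [(18, (-1), 1, 1)] .nil (.node [(146, 1, 1, 1)] .nil .nil)) (.node [(50, 1, 1, 1)] .nil .nil))) (.node [] (.node [] .nil (.node [(40, 1, 1, 1)] (.node [(100, (-1), 1, 1)] .nil .nil) .nil)) (.node [(10, 1, 1, 1)] .nil (.node [(54, 1, 1, 1)] (.node [(118, (-1), 1, 1)] .nil .nil) .nil)))) (.node [] (.node [(1, 1, 1, 1)] (.node [] (.node [] .nil (.node [(132, 1, 1, 1)] .nil .nil)) (.node [] .nil (.node [(182, (-1), 1, 1)] .nil .nil))) .nil) (.node [] (.node [] (.node [] .nil (.node [(143, (-1), 1, 1)] .nil .nil)) .nil) (.node [(13, (-1), 1, 1)] (.node [(30, (-1), 1, 1)] .nil (.node [(158, 1, 1, 1)] .nil .nil)) (.node []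 (.node [(126, (-1), 1, 1)] .nil .nil) .nil)))))) (.node [] (.node [] (.node [] (.node [] (.node [] .nil (.node [(34, 1, 1, 1)] .nil .nil)) (.node [] .nil (.node [(48, 1, 1, 1)] (.node [(104, (-1), 1, 1)] .nil .nil) .nil))) (.node [(4, 1, 1, 1)] (.node [] (.node [] (.node [(67, (-1), 1, 1)] .nil .nil) .nil) (.node [] .nil (.node [(201, (-1), 1, 1)] .nil .nil))) (.node [] .nil (.node [] (.node [(115, (-1), 1, 1)] .nil .nil) .nil)))) (.node [] (.node [] (.node [] .nil (.node [] (.node [(89, 1, 1, 1)] .nil .nil) (.node [(180, (-1), 1, 1)] .nil .nil))) .nil) (.node [(5, 1, 1, 1)] (.node [] .nil (.node [(44, (-1), 1, 1)] (.node [(103, 1, 1, 1)] .nil .nil) .nil)) (.node [] .nil (.node [(55, 1, 1, 1)] .nil .nil))))) (.node [] (.node [] (.node [] (.node [] .nil (.node [] .nil (.node [(178, 1, 1, 1)] .nil .nil))) .nil) (.node [] (.node [] .nil (.node [] .nil (.node [(211, (-1), 1, 1)] .nil .nil))) (.node [] (.node [] (.node [(76, 1, 1, 1)] .nil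 .nil) .nil) .nil))) (.node [] (.node [] (.node [(7, 1, 1, 1)] .nil .nil) (.node [] (.node [] (.node [(75, (-1), 1, 1)] .nil .nil) .nil) .nil)) (.node [] (.node [] .nil (.node [(46, (-1), 1, 1)] .nil (.node [(218, (-1), 1, 1)] .nil .nil))) (.node [] (.node [] .nil (.node [(160, 1, 1, 1)] .nil .nil)) .nil))))))
def C53 : List (ℕ × List (ℕ × ℤ)) := [(21, [(1, 1)]), (24, [(4, 1)]), (28, [(5, 1)]), (38, [(7, 1)]), (57, [(10, 1)]), (59, [(11, 1)]), (61, [(13, (-1))]), (79, [(17, (-1))]), (81, [(18, (-1))]), (83, [(20, 1)]), (93, [(30, (-1))]), (95, [(32, 1)]), (96, [(34, 1)]), (105, [(40, 1)]), (107, [(42, (-1))]), (108, [(44, (-1))]), (110, [(46, (-1))]), (112, [(48, 1)]), (113, [(50, 1)]), (119, [(52, 1)]), (121, [(54, 1)]), (124, [(55, 1)]), (135, [(63, 1)]), (136, [(67, (-1))]), (139, [(70, 1)]), (147, [(72, 1)]), (150, [(75, (-1))]), (154, [(76, 1)]), (163, [(85, (-1))]), (164, [(89, 1)]), (167, [(92, (-1))]), (169, [(100, (-1))]), (172,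 [(103, 1)]), (176, [(104, (-1))]), (184, [(115, (-1))]), (185, [(118, (-1))]), (187, [(120, (-1))]), (189, [(126, (-1))]), (191, [(127, (-1))]), (193, [(129, 1)]), (195, [(131, 1)]), (197, [(132, 1)]), (199, [(134, (-1))]), (205, [(143, (-1))]), (207, [(144, (-1))]), (209, [(146, 1)]), (219, [(156, (-1))]), (221, [(158, 1)]), (222, [(160, 1)]), (226, [(178, 1)]), (228, [(180, (-1))]), (229, [(182, (-1))]), (232, [(201, (-1))]), (234, [(211, (-1))]), (235, [(215, (-1))]), (238, [(218, (-1))])]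
def M54 : Tr (List (ℕ × ℤ × ℕ × ℕ)) := (.node [] (.node [] (.node [] (.node [] (.node [] (.node [] (.node [] .nil (.node [(128, 1, 1, 1)] .nil .nil)) .nil) (.node [] (.node [] .nil (.node [(145, 1, 1, 1)] .nil .nil)) (.node [(48, (-1), 1, 1)] (.node [(104, (-1), 1, 1)] .nil .nil) .nil))) (.node [(4, (-1), 1, 1)] (.node [] (.node [] (.node [(64, 1, 1, 1)] .nil .nil) .nil) .nil) .nil)) (.node [] (.node [] (.node [] .nil (.node [] (.node [(86, (-1), 1, 1)] .nil .nil) (.node [(180, (-1), 1, 1)] .nil .nil))) (.node [] (.node [] (.node [(73, 1, 1, 1)] .nil .nil) .nil) .nil)) (.node [(5, (-1), 1, 1)] (.node [] .nil (.node [] (.node [(103, 1, 1, 1)] .nil .nil) (.node [(216, 1, 1, 1)] .nil .nil))) (.node [(12, 1, 1, 1)] (.node [] .nil (.node [(157, 1, 1, 1)] .nil .nil)) (.node [(55, 1, 1, 1)] (.node [(122, (-1), 1, 1)] .nil .nil) .nil))))) (.node [] (.node [] (.node [] .nil (.node [] (.node [(19, (-1), 1, 1)] .nil .nil) (.node [(51, 1, 1, 1)]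 .nil .nil))) (.node [] (.node [] .nil (.node [(41, 1, 1, 1)] (.node [(101, (-1), 1, 1)] .nil .nil) .nil)) (.node [] (.node [] (.node [(76, 1, 1, 1)] .nil .nil) .nil) .nil))) (.node [] (.node [(2, 1, 1, 1)] (.node [(7, (-1), 1, 1)] (.node [] .nil (.node [(133, (-1), 1, 1)] .nil .nil)) (.node [] .nil (.node [(183, 1, 1, 1)] .nil .nil))) (.node [] (.node [] (.node [(75, (-1), 1, 1)] .nil .nil) .nil) (.node [(52, 1, 1, 1)] .nil .nil))) (.node [] (.node [] .nil (.node [] .nil (.node [(218, (-1), 1, 1)] .nil .nil))) (.node [] (.node [(31, (-1), 1, 1)] .nil .nil) .nil))))) (.node [] (.node [] (.node [] (.node [] (.node [] (.node [] .nil (.node [(129, 1, 1, 1)] .nil .nil)) (.node [(35, 1, 1, 1)] .nil .nil)) (.node [] (.node [] .nil (.node [(146, 1, 1, 1)] .nil .nil)) .nil)) (.node [] (.node [] (.node [] (.node [(68, (-1), 1, 1)] .nil .nil) .nil) (.node [] .nil (.node [(202, 1, 1, 1)] .nil .nil))) (.node [(10, (-1), 1, 1)] .nil (.node [] (.node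 [(116, (-1), 1, 1)] .nil .nil) .nil)))) (.node [] (.node [] (.node [] .nil (.node [] (.node [(90, 1, 1, 1)] .nil .nil) .nil)) .nil) (.node [] (.node [] (.node [] .nil (.node [(143, (-1), 1, 1)] .nil .nil)) (.node [(45, (-1), 1, 1)] .nil .nil)) (.node [(13, 1, 1, 1)] (.node [] .nil (.node [(158, 1, 1, 1)] .nil .nil)) (.node [] (.node [(126, (-1), 1, 1)] .nil .nil) .nil))))) (.node [] (.node [] (.node [] (.node [] (.node [] .nil (.node [(131, 1, 1, 1)] .nil .nil)) (.node [] .nil (.node [(179, (-1), 1, 1)] .nil .nil))) (.node [] (.node [(20, (-1), 1, 1)] .nil .nil) .nil)) (.node [] (.node [] (.node [] (.node [(70, 1, 1, 1)] .nil .nil) .nil) (.node [(42, 1, 1, 1)] .nil (.node [(212, 1, 1, 1)] .nil .nil))) (.node [] .nil (.node [] (.node [(121, (-1), 1, 1)] .nil .nil) .nil)))) (.node [] (.node [] (.node [] (.node [] .nil (.node [(134, (-1), 1, 1)] .nil .nil)) (.node [] (.node [(92, (-1), 1, 1)] .nil .nil) .nil)) (.node [] .nil (.node [(53,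 1, 1, 1)] .nil .nil))) (.node [] (.node [] (.node [(17, 1, 1, 1)] .nil .nil) (.node [(47, (-1), 1, 1)] .nil .nil)) (.node [] (.node [(32, (-1), 1, 1)] .nil (.node [(161, (-1), 1, 1)] .nil .nil)) .nil))))))
def C54 : List (ℕ × List (ℕ × ℤ)) := [(21, [(2, 1)]), (23, [(4, (-1))]), (27, [(5, (-1))]), (37, [(7, (-1))]), (56, [(10, (-1))]), (59, [(12, 1)]), (60, [(13, 1)]), (78, [(17, 1)]), (81, [(19, (-1))]), (82, [(20, (-1))]), (93, [(31, (-1))]), (94, [(32, (-1))]), (96, [(35, 1)]), (105, [(41, 1)]), (106, [(42, 1)]), (108, [(45, (-1))]), (110, [(47, (-1))]), (111, [(48, (-1))]), (113, [(51, 1)]), (117, [(52, 1)]), (118, [(53, 1)]), (123, [(55, 1)]), (135, [(64, 1)]), (136, [(68, (-1))]), (138, [(70, 1)]), (147, [(73, 1)]), (149, [(75, (-1))]), (153, [(76, 1)]), (163, [(86, (-1))]), (164, [(90, 1)]), (166, [(92, (-1))]), (169, [(101, (-1))]), (171, [(103, 1)]), (175, [(104, (-1))]), (184, [(116, (-1))]), (186, [(121, (-1))]), (187, [(122,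 (-1))]), (188, [(126, (-1))]), (191, [(128, 1)]), (192, [(129, 1)]), (194, [(131, 1)]), (197, [(133, (-1))]), (198, [(134, (-1))]), (204, [(143, (-1))]), (207, [(145, 1)]), (208, [(146, 1)]), (219, [(157, 1)]), (220, [(158, 1)]), (222, [(161, (-1))]), (226, [(179, (-1))]), (227, [(180, (-1))]), (229, [(183, 1)]), (232, [(202, 1)]), (234, [(212, 1)]), (235, [(216, 1)]), (237, [(218, (-1))])]
def M55 : Tr (List (ℕ × ℤ × ℕ × ℕ)) := (.node [] (.node [] (.node [] (.node [] (.node [] (.node [] .nil (.node [(35, (-1), 1, 1)] .nil .nil)) (.node [] (.node [(19, 1, 1, 1)] .nil .nil) (.node [(50, (-1), 1, 1)] .nil .nil))) (.node [] (.node [] (.node [] (.node [(65, 1, 1, 1)] .nil .nil) .nil) .nil) .nil)) (.node [] (.node [] (.node [] (.node [] .nil (.node [(133, (-1), 1, 1)] .nil .nil)) (.node [] (.node [(87, (-1), 1, 1)] .nil .nil) (.node [(182, 1, 1, 1)] .nil .nil))) (.node [] (.node [] (.node [(74, 1, 1, 1)] .nil .nil) .nil) (.node [(53, 1, 1,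 1)] .nil .nil))) (.node [] (.node [] .nil (.node [(45, 1, 1, 1)] .nil (.node [(217, (-1), 1, 1)] .nil .nil))) (.node [] (.node [] .nil (.node [(159, (-1), 1, 1)] .nil .nil)) (.node [] (.node [(125, (-1), 1, 1)] .nil .nil) .nil))))) (.node [] (.node [] .nil (.node [] (.node [] (.node [] (.node [(70, 1, 1, 1)] .nil .nil) .nil) (.node [(43, 1, 1, 1)] (.node [(102, (-1), 1, 1)] .nil .nil) .nil)) (.node [(12, (-1), 1, 1)] .nil (.node [] (.node [(123, (-1), 1, 1)] .nil .nil) .nil)))) (.node [] (.node [(3, 1, 1, 1)] (.node [] .nil (.node [] (.node [(92, (-1), 1, 1)] .nil .nil) .nil)) .nil) (.node [] (.node [] (.node [] .nil (.node [(145, 1, 1, 1)] .nil .nil)) .nil) (.node [] (.node [(33, (-1), 1, 1)] .nil (.node [(161, (-1), 1, 1)] .nil .nil)) (.node [] (.node [(128, 1, 1, 1)] .nil .nil) .nil)))))) (.node [] (.node [] (.node [] (.node [] .nil (.node [] (.node [(20, 1, 1, 1)] .nil .nil) (.node [(51, (-1), 1, 1)] .nil .nil))) (.node [] (.node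 [] (.node [] (.node [(69, (-1), 1, 1)] .nil .nil) .nil) (.node [] .nil (.node [(203, (-1), 1, 1)] .nil .nil))) (.node [(11, (-1), 1, 1)] (.node [] (.node [(76, 1, 1, 1)] .nil .nil) .nil) .nil))) (.node [] (.node [] (.node [(7, 1, 1, 1)] (.node [] .nil (.node [(134, (-1), 1, 1)] .nil .nil)) (.node [] (.node [(91, 1, 1, 1)] .nil .nil) (.node [(183, 1, 1, 1)] .nil .nil))) (.node [] (.node [] (.node [(75, (-1), 1, 1)] .nil .nil) .nil) (.node [(54, 1, 1, 1)] .nil .nil))) (.node [] (.node [] (.node [] .nil (.node [(144, 1, 1, 1)] .nil .nil)) (.node [] .nil (.node [(218, (-1), 1, 1)] .nil .nil))) (.node [] (.node [] .nil (.node [(160, (-1), 1, 1)] .nil .nil)) (.node [] (.node [(127, 1, 1, 1)] .nil .nil) .nil))))) (.node [] (.node [] (.node [] (.node [] (.node [] .nil (.node [(132, (-1), 1, 1)] .nil .nil)) (.node [] .nil (.node [(181, 1, 1, 1)] .nil .nil))) (.node [] .nil (.node [(52, 1, 1, 1)] .nil .nil))) (.node [(5, 1, 1, 1)] (.node [] .nil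 (.node [(44, 1, 1, 1)] (.node [(103, 1, 1, 1)] .nil .nil) (.node [(213, (-1), 1, 1)] .nil .nil))) (.node [(13, (-1), 1, 1)] .nil (.node [] (.node [(124, (-1), 1, 1)] .nil .nil) .nil)))) (.node [] (.node [(4, 1, 1, 1)] .nil .nil) (.node [] (.node [] (.node [(18, 1, 1, 1)] .nil (.node [(146, 1, 1, 1)] .nil .nil)) (.node [(49, (-1), 1, 1)] (.node [(104, (-1), 1, 1)] .nil .nil) .nil)) (.node [] (.node [(34, (-1), 1, 1)] .nil .nil) (.node [] (.node [(129, 1, 1, 1)] .nil .nil) .nil)))))))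
def C55 : List (ℕ × List (ℕ × ℤ)) := [(21, [(3, 1)]), (22, [(4, 1)]), (26, [(5, 1)]), (36, [(7, 1)]), (56, [(11, (-1))]), (57, [(12, (-1))]), (58, [(13, (-1))]), (78, [(18, 1)]), (79, [(19, 1)]), (80, [(20, 1)]), (93, [(33, (-1))]), (94, [(34, (-1))]), (95, [(35, (-1))]), (105, [(43, 1)]), (106, [(44, 1)]), (107, [(45, 1)]), (110, [(49, (-1))]), (111, [(50, (-1))]), (112, [(51, (-1))]), (114, [(52, 1)]), (115, [(53, 1)]), (116, [(54, 1)]), (135, [(65, 1)]), (136, [(69, (-1))]), (137, [(70, 1)]), (147, [(74, 1)]), (148, [(75, (-1))]), (152, [(76, 1)]), (163, [(87, (-1))]), (164, [(91, 1)]), (165, [(92, (-1))]), (169, [(102, (-1))]), (170, [(103, 1)]), (174, [(104, (-1))]), (185, [(123, (-1))]), (186, [(124, (-1))]), (187, [(125, (-1))]), (188, [(127, 1)]), (189, [(128, 1)]), (190, [(129, 1)]), (194, [(132, (-1))]), (195, [(133, (-1))]), (196, [(134, (-1))]), (204, [(144, 1)]), (205, [(145, 1)]), (206, [(146, 1)]), (219, [(159, (-1))]),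 (220, [(160, (-1))]), (221, [(161, (-1))]), (226, [(181, 1)]), (227, [(182, 1)]), (228, [(183, 1)]), (232, [(203, (-1))]), (234, [(213, (-1))]), (235, [(217, (-1))]), (236, [(218, (-1))])]
def M56 : Tr (List (ℕ × ℤ × ℕ × ℕ)) := (.node [] (.node [] (.node [] (.node [] (.node [] .nil (.node [] .nil (.node [] .nil (.node [(220, (-1), 1, 1)] .nil .nil)))) (.node [] (.node [] (.node [] .nil (.node [(136, (-1), 1, 1)] .nil .nil)) (.node [(40, 1, 1, 1)] (.node [(93, 1, 1, 1)] .nil .nil) (.node [(194, (-1), 1, 1)] .nil .nil))) (.node [(11, 1, 1, 1)] (.node [(23, 1, 1, 1)] .nil .nil) .nil))) (.node [] (.node [(0, 1, 1, 1)] (.node [(6, 1, 1, 1)] .nil .nil) (.node [(9, 1, 1, 1)] (.node [(21, 1, 1, 1)] .nil .nil) (.node [] (.node [(114, 1, 1, 1)] .nil .nil) .nil))) (.node [] (.node [] (.node [] .nil (.node [(138, (-1), 1, 1)] .nil .nil)) .nil) (.node [] (.node [(27, 1, 1, 1)] .nil .nil) .nil)))) (.node [] (.node [] (.node [] (.node [] (.node [] (.node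 [(63, (-1), 1, 1)] .nil .nil) (.node [(135, (-1), 1, 1)] .nil .nil)) (.node [] (.node [(77, 1, 1, 1)] .nil .nil) .nil)) (.node [] (.node [] (.node [(71, 1, 1, 1)] .nil .nil) (.node [(147, (-1), 1, 1)] .nil .nil)) (.node [] (.node [(111, (-1), 1, 1)] .nil .nil) .nil))) (.node [] (.node [] .nil (.node [] .nil (.node [(204, (-1), 1, 1)] .nil .nil))) (.node [] (.node [] .nil (.node [(153, (-1), 1, 1)] .nil .nil)) (.node [(57, 1, 1, 1)] .nil .nil)))) (.node [] (.node [] (.node [] (.node [] (.node [(66, 1, 1, 1)] .nil .nil) .nil) (.node [(36, 1, 1, 1)] .nil (.node [(185, (-1), 1, 1)] .nil .nil))) (.node [] (.node [] .nil (.node [(149, (-1), 1, 1)] .nil .nil)) (.node [] (.node [(117, 1, 1, 1)] .nil .nil) .nil))) (.node [] (.node [(8, 1, 1, 1)] .nil (.node [] (.node [(106, (-1), 1, 1)] .nil .nil) .nil)) (.node [] .nil (.node [(60, (-1), 1, 1)] .nil .nil)))))) (.node [] (.node [] (.node [] (.node [] (.node [] (.node [] (.node [(62, 1, 1, 1)] .nil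 .nil) .nil) .nil) (.node [] .nil (.node [] (.node [(110, 1, 1, 1)] .nil .nil) .nil))) (.node [] (.node [] .nil (.node [(46, 1, 1, 1)] (.node [(94, (-1), 1, 1)] .nil .nil) .nil)) (.node [] (.node [] .nil (.node [(152, (-1), 1, 1)] .nil .nil)) .nil))) (.node [] (.node [(1, 1, 1, 1)] (.node [] .nil (.node [] .nil (.node [(184, (-1), 1, 1)] .nil .nil))) (.node [] (.node [] .nil (.node [(148, (-1), 1, 1)] .nil .nil)) (.node [] (.node [(115, (-1), 1, 1)] .nil .nil) .nil))) (.node [] (.node [] .nil (.node [] (.node [(105, 1, 1, 1)] .nil .nil) .nil)) (.node [] (.node [(30, 1, 1, 1)] .nil .nil) (.node [(59, 1, 1, 1)] .nil .nil))))) (.node [] (.node [] (.node [] (.node [] .nil (.node [] (.node [(78, (-1), 1, 1)] .nil .nil) .nil)) (.node [] (.node [] (.node [(72, (-1), 1, 1)] .nil .nil) .nil) .nil)) (.node [] (.node [] (.node [] .nil (.node [(137, (-1), 1, 1)] .nil .nil)) .nil) (.node [] (.node [(26, 1, 1, 1)] .nil (.node [(156, (-1), 1, 1)] .nil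 .nil)) (.node [(58, (-1), 1, 1)] .nil .nil)))) (.node [] (.node [] (.node [] (.node [] (.node [(67, (-1), 1, 1)] .nil .nil) .nil) (.node [(37, 1, 1, 1)] .nil (.node [(188, (-1), 1, 1)] .nil .nil))) (.node [(10, 1, 1, 1)] (.node [(22, 1, 1, 1)] .nil .nil) (.node [] (.node [(118, (-1), 1, 1)] .nil .nil) .nil))) (.node [] (.node [] .nil (.node [] .nil (.node [(219, (-1), 1, 1)] .nil .nil))) .nil)))))
def C56 : List (ℕ × List (ℕ × ℤ)) := [(19, [(0, 1)]), (20, [(1, 1)]), (35, [(6, 1)]), (45, [(8, 1)]), (51, [(9, 1)]), (54, [(10, 1)]), (55, [(11, 1)]), (83, [(21, 1)]), (86, [(22, 1)]), (87, [(23, 1)]), (90, [(26, 1)]), (91, [(27, 1)]), (92, [(30, 1)]), (101, [(36, 1)]), (102, [(37, 1)]), (103, [(40, 1)]), (104, [(46, 1)]), (121, [(57, 1)]), (122, [(58, (-1))]), (124, [(59, 1)]), (125, [(60, (-1))]), (128, [(62, 1)]), (129, [(63, (-1))]), (133, [(66, 1)]), (134, [(67, (-1))]), (145, [(71, 1)]), (146, [(72, (-1))]), (161, [(77, 1)]), (162, [(78,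 (-1))]), (167, [(93, 1)]), (168, [(94, (-1))]), (172, [(105, 1)]), (173, [(106, (-1))]), (176, [(110, 1)]), (177, [(111, (-1))]), (179, [(114, 1)]), (180, [(115, (-1))]), (181, [(117, 1)]), (182, [(118, (-1))]), (193, [(135, (-1))]), (199, [(136, (-1))]), (202, [(137, (-1))]), (203, [(138, (-1))]), (209, [(147, (-1))]), (212, [(148, (-1))]), (213, [(149, (-1))]), (216, [(152, (-1))]), (217, [(153, (-1))]), (218, [(156, (-1))]), (228, [(184, (-1))]), (229, [(185, (-1))]), (230, [(188, (-1))]), (231, [(194, (-1))]), (233, [(204, (-1))]), (238, [(219, (-1))]), (239, [(220, (-1))])]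
def M57 : Tr (List (ℕ × ℤ × ℕ × ℕ)) := (.node [] (.node [] (.node [] (.node [] (.node [] (.node [] (.node [] (.node [(62, 1, 1, 1)] .nil .nil) .nil) .nil) (.node [] .nil (.node [] (.node [(110, 1, 1, 1)] .nil .nil) (.node [(221, 1, 1, 1)] .nil .nil)))) (.node [] (.node [] .nil (.node [(41, 1, 1, 1)] .nil (.node [(195, 1, 1, 1)] .nil .nil))) (.node [(12, 1, 1, 1)] (.node [(24, 1, 1, 1)] .nil (.node [(152, (-1), 1, 1)] .nil .nil)) (.node [] (.node [(121, (-1), 1, 1)] .nil .nil) .nil)))) (.node [] (.node [] (.node [] .nil (.node [] .nil (.node [(184, (-1), 1, 1)] .nil .nil))) (.node [] (.node [] .nil (.node [(148, (-1), 1, 1)] .nil .nil)) .nil)) (.node [] (.node [] (.node [] .nil (.node [(139, 1, 1, 1)] .nil .nil)) (.node [] (.node [(105, 1, 1, 1)] .nil .nil) .nil)) (.node [] (.node [(28, 1, 1, 1)] .nil .nil) (.node [(59, 1, 1, 1)] .nil .nil))))) (.node [] (.node [] (.node [] (.node [] (.node [] (.node [(64, (-1), 1, 1)] .nil .nil) .nil)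 .nil) (.node [] .nil (.node [] (.node [(112, (-1), 1, 1)] .nil .nil) .nil))) (.node [] (.node [] (.node [] .nil (.node [(137, (-1), 1, 1)] .nil .nil)) (.node [] .nil (.node [(205, 1, 1, 1)] .nil .nil))) (.node [] (.node [(26, (-1), 1, 1)] .nil (.node [(154, 1, 1, 1)] .nil .nil)) .nil))) (.node [] (.node [] (.node [] .nil (.node [] .nil (.node [(186, 1, 1, 1)] .nil .nil))) (.node [(10, (-1), 1, 1)] (.node [(22, (-1), 1, 1)] .nil (.node [(150, 1, 1, 1)] .nil .nil)) (.node [] (.node [(119, (-1), 1, 1)] .nil .nil) .nil))) (.node [] (.node [] .nil (.node [] (.node [(107, (-1), 1, 1)] .nil .nil) (.node [(219, (-1), 1, 1)] .nil .nil))) (.node [] .nil (.node [(61, (-1), 1, 1)] .nil .nil)))))) (.node [] (.node [] (.node [] (.node [] (.node [] (.node [] .nil (.node [(135, (-1), 1, 1)] .nil .nil)) (.node [] (.node [(77, 1, 1, 1)] .nil .nil) .nil)) (.node [] (.node [] (.node [(71, 1, 1, 1)] .nil .nil) (.node [(147, (-1), 1, 1)] .nil .nil)) .nil))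 (.node [] (.node [] .nil (.node [(47, 1, 1, 1)] (.node [(95, (-1), 1, 1)] .nil .nil) .nil)) (.node [] .nil (.node [(58, 1, 1, 1)] .nil .nil)))) (.node [] (.node [(2, 1, 1, 1)] (.node [] (.node [] (.node [(66, 1, 1, 1)] .nil .nil) .nil) (.node [(36, (-1), 1, 1)] .nil .nil)) (.node [] .nil (.node [] (.node [(116, (-1), 1, 1)] .nil .nil) .nil))) (.node [] (.node [(8, (-1), 1, 1)] .nil .nil) (.node [] (.node [(31, 1, 1, 1)] .nil .nil) .nil)))) (.node [] (.node [] (.node [(0, (-1), 1, 1)] (.node [(6, (-1), 1, 1)] .nil (.node [] (.node [(79, (-1), 1, 1)] .nil .nil) .nil)) (.node [(9, (-1), 1, 1)] (.node [(21, (-1), 1, 1)] (.node [(73, (-1), 1, 1)] .nil .nil) .nil) (.node [] (.node [(114, 1, 1, 1)] .nil .nil) .nil))) (.node [] .nil (.node [] (.node [] .nil (.node [(157, 1, 1, 1)] .nil .nil)) .nil))) (.node [] (.node [] (.node [] (.node [] (.node [(68, (-1), 1, 1)] .nil .nil) (.node [(136, (-1), 1, 1)] .nil .nil)) (.node [(38, 1, 1, 1)] (.node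 [(93, 1, 1, 1)] .nil .nil) (.node [(189, 1, 1, 1)] .nil .nil))) (.node [] .nil (.node [(56, 1, 1, 1)] .nil .nil))) .nil))))
def C57 : List (ℕ × List (ℕ × ℤ)) := [(18, [(0, (-1))]), (20, [(2, 1)]), (34, [(6, (-1))]), (44, [(8, (-1))]), (50, [(9, (-1))]), (53, [(10, (-1))]), (55, [(12, 1)]), (82, [(21, (-1))]), (85, [(22, (-1))]), (87, [(24, 1)]), (89, [(26, (-1))]), (91, [(28, 1)]), (92, [(31, 1)]), (100, [(36, (-1))]), (102, [(38, 1)]), (103, [(41, 1)]), (104, [(47, 1)]), (118, [(56, 1)]), (120, [(58, 1)]), (123, [(59, 1)]), (125, [(61, (-1))]), (127, [(62, 1)]), (129, [(64, (-1))]), (132, [(66, 1)]), (134, [(68, (-1))]), (144, [(71, 1)]), (146, [(73, (-1))]), (160, [(77, 1)]), (162, [(79, (-1))]), (166, [(93, 1)]), (168, [(95, (-1))]), (171, [(105, 1)]), (173, [(107, (-1))]), (175, [(110, 1)]), (177, [(112, (-1))]), (178, [(114, 1)]), (180, [(116, (-1))]), (181, [(119, (-1))]), (183, [(121, (-1))]), (192, [(135, (-1))]), (198, [(136,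 (-1))]), (201, [(137, (-1))]), (203, [(139, 1)]), (208, [(147, (-1))]), (211, [(148, (-1))]), (213, [(150, 1)]), (215, [(152, (-1))]), (217, [(154, 1)]), (218, [(157, 1)]), (227, [(184, (-1))]), (229, [(186, 1)]), (230, [(189, 1)]), (231, [(195, 1)]), (233, [(205, 1)]), (237, [(219, (-1))]), (239, [(221, 1)])]
def M58 : Tr (List (ℕ × ℤ × ℕ × ℕ)) := (.node [] (.node [] (.node [] (.node [] (.node [] (.node [] (.node [] (.node [(63, 1, 1, 1)] .nil .nil) (.node [(135, (-1), 1, 1)] .nil .nil)) (.node [] (.node [(77, 1, 1, 1)] .nil .nil) .nil)) (.node [] (.node [] .nil (.node [(147, (-1), 1, 1)] .nil .nil)) (.node [] (.node [(111, 1, 1, 1)] .nil .nil) .nil))) (.node [] (.node [] .nil (.node [(42, 1, 1, 1)] (.node [(95, (-1), 1, 1)] .nil .nil) (.node [(196, (-1), 1, 1)] .nil .nil))) (.node [(13, 1, 1, 1)] (.node [(25, 1, 1, 1)] .nil .nil) (.node [(57, 1, 1, 1)] (.node [(122, 1, 1, 1)] .nil .nil) .nil)))) (.node [] (.node [(2, (-1), 1, 1)] (.node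 [] .nil (.node [(36, 1, 1, 1)] .nil .nil)) (.node [] .nil (.node [] (.node [(116, (-1), 1, 1)] .nil .nil) .nil))) (.node [] (.node [(8, 1, 1, 1)] (.node [] .nil (.node [(140, (-1), 1, 1)] .nil .nil)) (.node [] (.node [(106, 1, 1, 1)] .nil .nil) .nil)) (.node [] (.node [(29, 1, 1, 1)] .nil .nil) (.node [(60, 1, 1, 1)] .nil .nil))))) (.node [] (.node [] (.node [] (.node [(6, 1, 1, 1)] .nil .nil) (.node [(9, 1, 1, 1)] (.node [(21, 1, 1, 1)] (.node [(73, (-1), 1, 1)] .nil .nil) .nil) .nil)) (.node [] (.node [] .nil (.node [] .nil (.node [(206, (-1), 1, 1)] .nil .nil))) (.node [] (.node [] .nil (.node [(155, (-1), 1, 1)] .nil .nil)) .nil))) (.node [] (.node [] (.node [] (.node [] (.node [(68, (-1), 1, 1)] .nil .nil) (.node [(136, (-1), 1, 1)] .nil .nil)) (.node [] .nil (.node [(187, (-1), 1, 1)] .nil .nil))) (.node [] (.node [] .nil (.node [(151, (-1), 1, 1)] .nil .nil)) (.node [(56, (-1), 1, 1)] .nil .nil))) (.node [] (.node [] .nil (.node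 [] .nil (.node [(220, 1, 1, 1)] .nil .nil))) .nil)))) (.node [] (.node [] (.node [] (.node [] (.node [] (.node [] (.node [(64, (-1), 1, 1)] .nil .nil) .nil) .nil) (.node [] (.node [] (.node [(72, 1, 1, 1)] .nil .nil) .nil) (.node [] (.node [(112, (-1), 1, 1)] .nil .nil) .nil))) (.node [] (.node [] (.node [] .nil (.node [(137, (-1), 1, 1)] .nil .nil)) (.node [(48, 1, 1, 1)] .nil .nil)) (.node [] (.node [(26, 1, 1, 1)] .nil .nil) .nil))) (.node [] (.node [] (.node [] (.node [] (.node [(67, 1, 1, 1)] .nil .nil) .nil) .nil) (.node [(10, 1, 1, 1)] (.node [(22, 1, 1, 1)] .nil .nil) .nil)) (.node [] (.node [] .nil (.node [] (.node [(107, (-1), 1, 1)] .nil .nil) .nil)) (.node [] (.node [(32, 1, 1, 1)] .nil .nil) (.node [(61, (-1), 1, 1)] .nil .nil))))) (.node [] (.node [] (.node [(1, (-1), 1, 1)] (.node [] .nil (.node [] (.node [(80, (-1), 1, 1)] .nil .nil) (.node [(184, (-1), 1, 1)] .nil .nil))) (.node [] (.node [] .nil (.node [(148, (-1), 1,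 1)] .nil .nil)) (.node [] (.node [(115, 1, 1, 1)] .nil .nil) .nil))) (.node [] .nil (.node [] (.node [] .nil (.node [(158, (-1), 1, 1)] .nil .nil)) .nil))) (.node [] (.node [] (.node [] .nil (.node [(39, 1, 1, 1)] (.node [(94, 1, 1, 1)] .nil .nil) (.node [(190, (-1), 1, 1)] .nil .nil))) (.node [] (.node [] .nil (.node [(152, (-1), 1, 1)] .nil .nil)) (.node [] (.node [(120, (-1), 1, 1)] .nil .nil) .nil))) (.node [] (.node [] .nil (.node [] .nil (.node [(221, 1, 1, 1)] .nil .nil))) .nil)))))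
def C58 : List (ℕ × List (ℕ × ℤ)) := [(18, [(1, (-1))]), (19, [(2, (-1))]), (33, [(6, 1)]), (43, [(8, 1)]), (49, [(9, 1)]), (52, [(10, 1)]), (55, [(13, 1)]), (81, [(21, 1)]), (84, [(22, 1)]), (87, [(25, 1)]), (88, [(26, 1)]), (91, [(29, 1)]), (92, [(32, 1)]), (99, [(36, 1)]), (102, [(39, 1)]), (103, [(42, 1)]), (104, [(48, 1)]), (117, [(56, (-1))]), (119, [(57, 1)]), (123, [(60, 1)]), (124, [(61, (-1))]), (127, [(63, 1)]), (128, [(64, (-1))]), (132, [(67, 1)]), (133, [(68, (-1))]), (144, [(72, 1)]), (145, [(73, (-1))]), (159, [(77, 1)]), (162, [(80, (-1))]), (166, [(94, 1)]), (167, [(95, (-1))]), (171, [(106, 1)]), (172, [(107, (-1))]), (175, [(111, 1)]), (176, [(112, (-1))]), (178, [(115, 1)]), (179, [(116, (-1))]), (182, [(120, (-1))]), (183, [(122, 1)]), (191, [(135, (-1))]), (197, [(136, (-1))]), (200, [(137, (-1))]), (203, [(140, (-1))]), (207, [(147, (-1))]), (210, [(148, (-1))]), (213, [(151, (-1))]), (214, [(152, (-1))]), (217,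 [(155, (-1))]), (218, [(158, (-1))]), (226, [(184, (-1))]), (229, [(187, (-1))]), (230, [(190, (-1))]), (231, [(196, (-1))]), (233, [(206, (-1))]), (237, [(220, 1)]), (238, [(221, 1)])]
def M59 : Tr (List (ℕ × ℤ × ℕ × ℕ)) := (.node [] (.node [] (.node [] (.node [] (.node [] .nil (.node [] (.node [] (.node [(71, 1, 1, 1)] .nil .nil) .nil) (.node [] .nil (.node [(222, (-1), 1, 1)] .nil .nil)))) (.node [] (.node [] .nil (.node [(43, 1, 1, 1)] .nil (.node [(197, (-1), 1, 1)] .nil .nil))) (.node [] (.node [] .nil (.node [(153, 1, 1, 1)] .nil .nil)) (.node [] (.node [(124, (-1), 1, 1)] .nil .nil) .nil)))) (.node [] (.node [] (.node [] (.node [] (.node [(66, 1, 1, 1)] .nil .nil) .nil) (.node [] .nil (.node [(185, 1, 1, 1)] .nil .nil))) (.node [] (.node [] .nil (.node [(149, 1, 1, 1)] .nil .nil)) (.node [(56, 1, 1, 1)] (.node [(119, (-1), 1, 1)] .nil .nil) .nil))) .nil)) (.node [] (.node [] (.node [(0, 1, 1, 1)] (.node [] (.node [] (.node [(65,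 (-1), 1, 1)] .nil .nil) .nil) .nil) (.node [] .nil (.node [] (.node [(113, (-1), 1, 1)] .nil .nil) .nil))) (.node [] (.node [] (.node [] .nil (.node [(138, 1, 1, 1)] .nil .nil)) (.node [] .nil (.node [(207, (-1), 1, 1)] .nil .nil))) (.node [] (.node [(27, (-1), 1, 1)] .nil .nil) .nil))) (.node [] (.node [] (.node [] .nil (.node [(38, (-1), 1, 1)] (.node [(93, 1, 1, 1)] .nil .nil) .nil)) (.node [(11, (-1), 1, 1)] (.node [(23, (-1), 1, 1)] .nil .nil) .nil)) (.node [] (.node [] .nil (.node [] (.node [(108, (-1), 1, 1)] .nil .nil) .nil)) .nil)))) (.node [] (.node [] (.node [] (.node [] (.node [(6, 1, 1, 1)] .nil .nil) (.node [(9, 1, 1, 1)] (.node [(21, 1, 1, 1)] .nil .nil) .nil)) (.node [] (.node [] .nil (.node [(49, 1, 1, 1)] (.node [(96, (-1), 1, 1)] .nil .nil) .nil)) (.node [] (.node [] .nil (.node [(154, 1, 1, 1)] .nil .nil)) (.node [(60, 1, 1, 1)] .nil .nil)))) (.node [] (.node [(3, 1, 1, 1)] (.node [] (.node [] .nil (.node [(136, (-1),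 1, 1)] .nil .nil)) (.node [(37, (-1), 1, 1)] .nil (.node [(186, 1, 1, 1)] .nil .nil))) (.node [] (.node [] .nil (.node [(150, 1, 1, 1)] .nil .nil)) (.node [(57, 1, 1, 1)] .nil .nil))) (.node [] (.node [] .nil (.node [] .nil (.node [(219, (-1), 1, 1)] .nil .nil))) (.node [] (.node [(33, 1, 1, 1)] .nil .nil) .nil)))) (.node [] (.node [] (.node [] (.node [] .nil (.node [] (.node [(81, (-1), 1, 1)] .nil .nil) .nil)) (.node [] (.node [] (.node [(74, (-1), 1, 1)] .nil .nil) .nil) (.node [] (.node [(117, (-1), 1, 1)] .nil .nil) .nil))) (.node [] (.node [(8, 1, 1, 1)] (.node [] .nil (.node [(139, 1, 1, 1)] .nil .nil)) (.node [] (.node [(105, 1, 1, 1)] .nil .nil) .nil)) (.node [] (.node [(28, (-1), 1, 1)] .nil (.node [(159, (-1), 1, 1)] .nil .nil)) (.node [(61, 1, 1, 1)] .nil .nil)))) (.node [] (.node [] (.node [] (.node [] (.node [(69, (-1), 1, 1)] .nil .nil) .nil) (.node [] .nil (.node [(191, (-1), 1, 1)] .nil .nil))) (.node [(12, (-1), 1, 1)]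 (.node [(24, (-1), 1, 1)] .nil .nil) (.node [] (.node [(123, (-1), 1, 1)] .nil .nil) .nil))) (.node [] (.node [] (.node [] .nil (.node [(147, (-1), 1, 1)] .nil .nil)) (.node [] (.node [(110, 1, 1, 1)] .nil .nil) .nil)) (.node [] (.node [] (.node [(77, 1, 1, 1)] .nil .nil) .nil) (.node [(62, 1, 1, 1)] (.node [(135, (-1), 1, 1)] .nil .nil) .nil)))))))
def C59 : List (ℕ × List (ℕ × ℤ)) := [(17, [(0, 1)]), (20, [(3, 1)]), (32, [(6, 1)]), (42, [(8, 1)]), (48, [(9, 1)]), (53, [(11, (-1))]), (54, [(12, (-1))]), (80, [(21, 1)]), (85, [(23, (-1))]), (86, [(24, (-1))]), (89, [(27, (-1))]), (90, [(28, (-1))]), (92, [(33, 1)]), (100, [(37, (-1))]), (101, [(38, (-1))]), (103, [(43, 1)]), (104, [(49, 1)]), (115, [(56, 1)]), (116, [(57, 1)]), (120, [(60, 1)]), (122, [(61, 1)]), (126, [(62, 1)]), (129, [(65, (-1))]), (131, [(66, 1)]), (134, [(69, (-1))]), (143, [(71, 1)]), (146, [(74, (-1))]), (158, [(77, 1)]), (162, [(81, (-1))]), (165, [(93, 1)]),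 (168, [(96, (-1))]), (170, [(105, 1)]), (173, [(108, (-1))]), (174, [(110, 1)]), (177, [(113, (-1))]), (178, [(117, (-1))]), (179, [(119, (-1))]), (182, [(123, (-1))]), (183, [(124, (-1))]), (190, [(135, (-1))]), (196, [(136, (-1))]), (201, [(138, 1)]), (202, [(139, 1)]), (206, [(147, (-1))]), (211, [(149, 1)]), (212, [(150, 1)]), (215, [(153, 1)]), (216, [(154, 1)]), (218, [(159, (-1))]), (227, [(185, 1)]), (228, [(186, 1)]), (230, [(191, (-1))]), (231, [(197, (-1))]), (233, [(207, (-1))]), (236, [(219, (-1))]), (239, [(222, (-1))])]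
def M60 : Tr (List (ℕ × ℤ × ℕ × ℕ)) := (.node [] (.node [] (.node [] (.node [] (.node [] (.node [(6, (-1), 1, 1)] .nil .nil) (.node [(9, (-1), 1, 1)] (.node [(21, (-1), 1, 1)] (.node [(72, 1, 1, 1)] .nil .nil) .nil) .nil)) (.node [] (.node [] .nil (.node [(44, 1, 1, 1)] (.node [(96, (-1), 1, 1)] .nil .nil) (.node [(198, 1, 1, 1)] .nil .nil))) (.node [] .nil (.node [(59, 1, 1, 1)] (.node [(125, 1, 1, 1)] .nil .nil) .nil)))) (.node [] (.node [(3, (-1), 1, 1)] (.node [] (.node [] (.node [(67, 1, 1, 1)] .nil .nil) (.node [(136, (-1), 1, 1)] .nil .nil)) (.node [(37, 1, 1, 1)] .nil .nil)) .nil) .nil)) (.node [] (.node [] (.node [(1, 1, 1, 1)] .nil (.node [] (.node [] (.node [(74, (-1), 1, 1)] .nil .nil) .nil) .nil)) (.node [] (.node [(8, (-1), 1, 1)] .nil (.node [] .nil (.node [(208, 1, 1, 1)] .nil .nil))) (.node [] .nil (.node [(61, 1, 1, 1)] .nil .nil)))) (.node [] (.node [] (.node [] (.node [] (.node [(69, (-1), 1, 1)] .nil .nil) .nil) (.node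 [(39, (-1), 1, 1)] (.node [(94, 1, 1, 1)] .nil .nil) .nil)) (.node [] .nil (.node [] (.node [(123, (-1), 1, 1)] .nil .nil) .nil))) (.node [] (.node [] (.node [] .nil (.node [(147, (-1), 1, 1)] .nil .nil)) .nil) (.node [] (.node [] (.node [(77, 1, 1, 1)] .nil .nil) .nil) (.node [] (.node [(135, (-1), 1, 1)] .nil .nil) .nil)))))) (.node [] (.node [] (.node [] (.node [] (.node [] (.node [] (.node [(65, (-1), 1, 1)] .nil .nil) .nil) .nil) (.node [] .nil (.node [] (.node [(113, (-1), 1, 1)] .nil .nil) .nil))) (.node [] (.node [] (.node [] .nil (.node [(138, 1, 1, 1)] .nil .nil)) (.node [(50, 1, 1, 1)] .nil .nil)) (.node [] (.node [(27, 1, 1, 1)] .nil (.node [(155, (-1), 1, 1)] .nil .nil)) .nil))) (.node [] (.node [] (.node [] .nil (.node [] .nil (.node [(187, (-1), 1, 1)] .nil .nil))) (.node [(11, 1, 1, 1)] (.node [(23, 1, 1, 1)] .nil (.node [(151, (-1), 1, 1)] .nil .nil)) (.node [(58, 1, 1, 1)] (.node [(120, (-1), 1, 1)] .nil .nil) .nil)))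 (.node [] (.node [] .nil (.node [] (.node [(108, (-1), 1, 1)] .nil .nil) (.node [(220, 1, 1, 1)] .nil .nil))) (.node [] (.node [(34, 1, 1, 1)] .nil .nil) .nil)))) (.node [] (.node [] (.node [] (.node [] .nil (.node [] (.node [(82, (-1), 1, 1)] .nil .nil) (.node [(185, 1, 1, 1)] .nil .nil))) (.node [] (.node [] .nil (.node [(149, 1, 1, 1)] .nil .nil)) (.node [(56, (-1), 1, 1)] (.node [(118, (-1), 1, 1)] .nil .nil) .nil))) (.node [] (.node [] (.node [] .nil (.node [(140, (-1), 1, 1)] .nil .nil)) (.node [] (.node [(106, 1, 1, 1)] .nil .nil) .nil)) (.node [] (.node [(29, (-1), 1, 1)] .nil (.node [(160, 1, 1, 1)] .nil .nil)) .nil))) (.node [] (.node [] (.node [] .nil (.node [] .nil (.node [(192, 1, 1, 1)] .nil .nil))) (.node [(13, (-1), 1, 1)] (.node [(25, (-1), 1, 1)] .nil (.node [(153, 1, 1, 1)] .nil .nil)) .nil)) (.node [] (.node [] .nil (.node [] (.node [(111, 1, 1, 1)] .nil .nil) (.node [(222, (-1), 1, 1)] .nil .nil))) (.node [] .nil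 (.node [(63, 1, 1, 1)] .nil .nil)))))))
def C60 : List (ℕ × List (ℕ × ℤ)) := [(17, [(1, 1)]), (19, [(3, (-1))]), (31, [(6, (-1))]), (41, [(8, (-1))]), (47, [(9, (-1))]), (52, [(11, 1)]), (54, [(13, (-1))]), (79, [(21, (-1))]), (84, [(23, 1)]), (86, [(25, (-1))]), (88, [(27, 1)]), (90, [(29, (-1))]), (92, [(34, 1)]), (99, [(37, 1)]), (101, [(39, (-1))]), (103, [(44, 1)]), (104, [(50, 1)]), (114, [(56, (-1))]), (116, [(58, 1)]), (119, [(59, 1)]), (121, [(61, 1)]), (126, [(63, 1)]), (128, [(65, (-1))]), (131, [(67, 1)]), (133, [(69, (-1))]), (143, [(72, 1)]), (145, [(74, (-1))]), (157, [(77, 1)]), (162, [(82, (-1))]), (165, [(94, 1)]), (167, [(96, (-1))]), (170, [(106, 1)]), (172, [(108, (-1))]), (174, [(111, 1)]), (176, [(113, (-1))]), (178, [(118, (-1))]), (180, [(120, (-1))]), (181, [(123, (-1))]), (183, [(125, 1)]), (189, [(135, (-1))]), (195, [(136, (-1))]), (200, [(138, 1)]), (202, [(140, (-1))]), (205, [(147, (-1))]), (210, [(149,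 1)]), (212, [(151, (-1))]), (214, [(153, 1)]), (216, [(155, (-1))]), (218, [(160, 1)]), (226, [(185, 1)]), (228, [(187, (-1))]), (230, [(192, 1)]), (231, [(198, 1)]), (233, [(208, 1)]), (236, [(220, 1)]), (238, [(222, (-1))])]
def M61 : Tr (List (ℕ × ℤ × ℕ × ℕ)) := (.node [] (.node [] (.node [] (.node [] (.node [] (.node [] (.node [] (.node [(65, (-1), 1, 1)] .nil .nil) .nil) .nil) (.node [] (.node [] (.node [(73, 1, 1, 1)] .nil .nil) .nil) (.node [] (.node [(113, (-1), 1, 1)] .nil .nil) .nil))) (.node [] (.node [] .nil (.node [(45, 1, 1, 1)] .nil (.node [(199, (-1), 1, 1)] .nil .nil))) (.node [] (.node [] .nil (.node [(155, (-1), 1, 1)] .nil .nil)) .nil))) (.node [] (.node [] (.node [] (.node [] (.node [(68, 1, 1, 1)] .nil .nil) .nil) (.node [(38, 1, 1, 1)] .nil (.node [(187, (-1), 1, 1)] .nil .nil))) (.node [] (.node [] .nil (.node [(151, (-1), 1, 1)] .nil .nil)) (.node [(58, (-1), 1, 1)] (.node [(121, (-1), 1, 1)] .nil .nil) .nil)))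 (.node [] (.node [] .nil (.node [] (.node [(108, (-1), 1, 1)] .nil .nil) .nil)) .nil))) (.node [] (.node [] (.node [(2, 1, 1, 1)] .nil .nil) (.node [] (.node [] (.node [] .nil (.node [(140, (-1), 1, 1)] .nil .nil)) (.node [] .nil (.node [(209, (-1), 1, 1)] .nil .nil))) (.node [] (.node [(29, 1, 1, 1)] .nil .nil) .nil))) (.node [] (.node [] (.node [] .nil (.node [] (.node [(95, 1, 1, 1)] .nil .nil) .nil)) (.node [(13, 1, 1, 1)] (.node [(25, 1, 1, 1)] .nil .nil) (.node [(59, 1, 1, 1)] (.node [(124, 1, 1, 1)] .nil .nil) .nil))) (.node [] (.node [] .nil (.node [] .nil (.node [(222, (-1), 1, 1)] .nil .nil))) .nil)))) (.node [] (.node [] (.node [] (.node [] .nil (.node [] (.node [] (.node [(74, (-1), 1, 1)] .nil .nil) .nil) .nil)) (.node [] (.node [(8, 1, 1, 1)] (.node [] .nil (.node [(139, (-1), 1, 1)] .nil .nil)) (.node [(51, 1, 1, 1)] .nil .nil)) (.node [] (.node [(28, 1, 1, 1)] .nil .nil) .nil))) (.node [] (.node [] (.node [] (.node []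 (.node [(69, (-1), 1, 1)] .nil .nil) .nil) (.node [(39, 1, 1, 1)] .nil .nil)) (.node [(12, 1, 1, 1)] (.node [(24, 1, 1, 1)] .nil .nil) (.node [] (.node [(122, (-1), 1, 1)] .nil .nil) .nil))) (.node [] (.node [] (.node [] .nil (.node [(147, (-1), 1, 1)] .nil .nil)) (.node [] .nil (.node [(221, (-1), 1, 1)] .nil .nil))) (.node [] (.node [(35, 1, 1, 1)] (.node [(77, 1, 1, 1)] .nil .nil) .nil) (.node [] (.node [(135, (-1), 1, 1)] .nil .nil) .nil))))) (.node [] (.node [] (.node [(3, 1, 1, 1)] (.node [] (.node [] .nil (.node [(136, (-1), 1, 1)] .nil .nil)) (.node [] (.node [(83, (-1), 1, 1)] .nil .nil) (.node [(186, (-1), 1, 1)] .nil .nil))) (.node [] (.node [] .nil (.node [(150, (-1), 1, 1)] .nil .nil)) (.node [(57, (-1), 1, 1)] .nil .nil))) (.node [] (.node [] .nil (.node [] (.node [(107, 1, 1, 1)] .nil .nil) .nil)) (.node [] (.node [] .nil (.node [(161, (-1), 1, 1)] .nil .nil)) .nil))) (.node [] (.node [] (.node [] .nil (.node [] (.node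 [(96, (-1), 1, 1)] .nil .nil) (.node [(193, (-1), 1, 1)] .nil .nil))) (.node [] (.node [] .nil (.node [(154, (-1), 1, 1)] .nil .nil)) (.node [(60, 1, 1, 1)] (.node [(125, 1, 1, 1)] .nil .nil) .nil))) (.node [(6, 1, 1, 1)] (.node [(9, 1, 1, 1)] (.node [(21, 1, 1, 1)] .nil .nil) (.node [] (.node [(112, 1, 1, 1)] .nil .nil) .nil)) (.node [] .nil (.node [(64, 1, 1, 1)] .nil .nil)))))))
def C61 : List (ℕ × List (ℕ × ℤ)) := [(17, [(2, 1)]), (18, [(3, 1)]), (30, [(6, 1)]), (40, [(8, 1)]), (46, [(9, 1)]), (52, [(12, 1)]), (53, [(13, 1)]), (78, [(21, 1)]), (84, [(24, 1)]), (85, [(25, 1)]), (88, [(28, 1)]), (89, [(29, 1)]), (92, [(35, 1)]), (99, [(38, 1)]), (100, [(39, 1)]), (103, [(45, 1)]), (104, [(51, 1)]), (114, [(57, (-1))]), (115, [(58, (-1))]), (117, [(59, 1)]), (118, [(60, 1)]), (126, [(64, 1)]), (127, [(65, (-1))]), (131, [(68, 1)]), (132, [(69, (-1))]), (143, [(73, 1)]), (144, [(74, (-1))]), (156, [(77, 1)]), (162, [(83, (-1))]), (165,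 [(95, 1)]), (166, [(96, (-1))]), (170, [(107, 1)]), (171, [(108, (-1))]), (174, [(112, 1)]), (175, [(113, (-1))]), (179, [(121, (-1))]), (180, [(122, (-1))]), (181, [(124, 1)]), (182, [(125, 1)]), (188, [(135, (-1))]), (194, [(136, (-1))]), (200, [(139, (-1))]), (201, [(140, (-1))]), (204, [(147, (-1))]), (210, [(150, (-1))]), (211, [(151, (-1))]), (214, [(154, (-1))]), (215, [(155, (-1))]), (218, [(161, (-1))]), (226, [(186, (-1))]), (227, [(187, (-1))]), (230, [(193, (-1))]), (231, [(199, (-1))]), (233, [(209, (-1))]), (236, [(221, (-1))]), (237, [(222, (-1))])]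
def M62 : Tr (List (ℕ × ℤ × ℕ × ℕ)) := (.node [] (.node [] (.node [] (.node [] (.node [] .nil (.node [] .nil (.node [(56, 1, 1, 1)] (.node [(117, (-1), 1, 1)] .nil .nil) (.node [(223, 1, 1, 1)] .nil .nil)))) (.node [] (.node [(8, (-1), 1, 1)] (.node [] .nil (.node [(139, 1, 1, 1)] .nil .nil)) (.node [] .nil (.node [(200, 1, 1, 1)] .nil .nil))) (.node [] (.node [] .nil (.node [(156, (-1), 1, 1)] .nil .nil)) (.node [] (.node [(128, (-1), 1, 1)] .nil .nil) .nil)))) (.node [] (.node [] (.node [] .nil (.node [] .nil (.node [(188, (-1), 1, 1)] .nil .nil))) (.node [(12, 1, 1, 1)] (.node [(24, 1, 1, 1)] .nil .nil) .nil)) (.node [] (.node [] .nil (.node [] .nil (.node [(219, (-1), 1, 1)] .nil .nil))) (.node [] (.node [(33, (-1), 1, 1)] (.node [(77, 1, 1, 1)] .nil .nil) .nil) (.node [] (.node [(135, (-1), 1, 1)] .nil .nil) .nil))))) (.node [] (.node [] (.node [] .nil (.node [] (.node [] .nil (.node [(150, 1, 1, 1)] .nil .nil)) (.node [(59, 1, 1,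 1)] .nil .nil))) (.node [] (.node [] .nil (.node [] (.node [(105, 1, 1, 1)] .nil .nil) (.node [(210, 1, 1, 1)] .nil .nil))) (.node [] (.node [(30, (-1), 1, 1)] .nil (.node [(159, (-1), 1, 1)] .nil .nil)) .nil))) (.node [] (.node [] (.node [] .nil (.node [(41, (-1), 1, 1)] .nil (.node [(191, (-1), 1, 1)] .nil .nil))) .nil) (.node [(6, (-1), 1, 1)] (.node [] .nil (.node [] (.node [(109, (-1), 1, 1)] .nil .nil) .nil)) (.node [] .nil (.node [(65, 1, 1, 1)] .nil .nil)))))) (.node [] (.node [] (.node [] (.node [(0, (-1), 1, 1)] .nil (.node [(10, 1, 1, 1)] (.node [(22, 1, 1, 1)] .nil (.node [(149, 1, 1, 1)] .nil .nil)) (.node [(57, 1, 1, 1)] (.node [(119, (-1), 1, 1)] .nil .nil) .nil))) (.node [] (.node [] .nil (.node [(52, 1, 1, 1)] (.node [(97, (-1), 1, 1)] .nil .nil) .nil)) (.node [] (.node [] .nil (.node [(157, (-1), 1, 1)] .nil .nil)) (.node [(63, 1, 1, 1)] .nil .nil)))) (.node [] (.node [(4, 1, 1, 1)] (.node [] (.node [] .nil (.node [(137,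 1, 1, 1)] .nil .nil)) (.node [(40, (-1), 1, 1)] (.node [(93, 1, 1, 1)] .nil .nil) (.node [(189, (-1), 1, 1)] .nil .nil))) (.node [] .nil (.node [] (.node [(126, (-1), 1, 1)] .nil .nil) .nil))) .nil)) (.node [] (.node [] (.node [] (.node [] (.node [] (.node [(66, 1, 1, 1)] .nil .nil) .nil) (.node [] (.node [(84, (-1), 1, 1)] .nil .nil) .nil)) (.node [(11, 1, 1, 1)] (.node [(23, 1, 1, 1)] (.node [(75, (-1), 1, 1)] .nil .nil) .nil) .nil)) (.node [] .nil (.node [] (.node [(31, (-1), 1, 1)] .nil .nil) (.node [(64, 1, 1, 1)] .nil .nil)))) (.node [] (.node [] (.node [] (.node [] (.node [(70, (-1), 1, 1)] .nil .nil) (.node [(138, 1, 1, 1)] .nil .nil)) (.node [(43, (-1), 1, 1)] .nil .nil)) (.node [] .nil (.node [] (.node [(127, (-1), 1, 1)] .nil .nil) .nil))) (.node [] (.node [] (.node [] (.node [(71, 1, 1, 1)] .nil .nil) (.node [(148, 1, 1, 1)] .nil .nil)) (.node [] (.node [(114, (-1), 1, 1)] .nil .nil) .nil)) .nil)))))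
def C62 : List (ℕ × List (ℕ × ℤ)) := [(16, [(0, (-1))]), (20, [(4, 1)]), (29, [(6, (-1))]), (39, [(8, (-1))]), (48, [(10, 1)]), (50, [(11, 1)]), (51, [(12, 1)]), (80, [(22, 1)]), (82, [(23, 1)]), (83, [(24, 1)]), (89, [(30, (-1))]), (90, [(31, (-1))]), (91, [(33, (-1))]), (100, [(40, (-1))]), (101, [(41, (-1))]), (102, [(43, (-1))]), (104, [(52, 1)]), (111, [(56, 1)]), (112, [(57, 1)]), (113, [(59, 1)]), (120, [(63, 1)]), (122, [(64, 1)]), (125, [(65, 1)]), (130, [(66, 1)]), (134, [(70, (-1))]), (142, [(71, 1)]), (146, [(75, (-1))]), (155, [(77, 1)]), (162, [(84, (-1))]), (164, [(93, 1)]), (168, [(97, (-1))]), (169, [(105, 1)]), (173, [(109, (-1))]), (174, [(114, (-1))]), (175, [(117, (-1))]), (176, [(119, (-1))]), (180, [(126, (-1))]), (182, [(127, (-1))]), (183, [(128, (-1))]), (187, [(135, (-1))]), (196, [(137, 1)]), (198, [(138, 1)]), (199, [(139, 1)]), (206, [(148, 1)]), (208, [(149, 1)]), (209, [(150, 1)]), (215, [(156, (-1))]),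 (216, [(157, (-1))]), (217, [(159, (-1))]), (227, [(188, (-1))]), (228, [(189, (-1))]), (229, [(191, (-1))]), (231, [(200, 1)]), (233, [(210, 1)]), (235, [(219, (-1))]), (239, [(223, 1)])]
def M63 : Tr (List (ℕ × ℤ × ℕ × ℕ)) := (.node [] (.node [] (.node [] (.node [] (.node [] .nil (.node [(10, (-1), 1, 1)] (.node [(22, (-1), 1, 1)] .nil (.node [(149, 1, 1, 1)] .nil .nil)) (.node [] (.node [(118, (-1), 1, 1)] .nil .nil) .nil))) (.node [] (.node [] (.node [] .nil (.node [(140, (-1), 1, 1)] .nil .nil)) (.node [] (.node [(97, (-1), 1, 1)] .nil .nil) (.node [(201, (-1), 1, 1)] .nil .nil))) (.node [] .nil (.node [(62, 1, 1, 1)] (.node [(129, 1, 1, 1)] .nil .nil) .nil)))) (.node [] (.node [(4, (-1), 1, 1)] (.node [] (.node [] .nil (.node [(137, 1, 1, 1)] .nil .nil)) (.node [(40, 1, 1, 1)] .nil .nil)) (.node [(13, 1, 1, 1)] (.node [(25, 1, 1, 1)] .nil .nil) (.node [] (.node [(126, (-1), 1, 1)] .nil .nil) .nil))) (.node [] (.node [] .nil (.node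 [] .nil (.node [(220, 1, 1, 1)] .nil .nil))) (.node [] (.node [(34, (-1), 1, 1)] .nil .nil) .nil)))) (.node [] (.node [] (.node [] .nil (.node [(11, (-1), 1, 1)] (.node [(23, (-1), 1, 1)] (.node [(75, (-1), 1, 1)] .nil .nil) (.node [(151, (-1), 1, 1)] .nil .nil)) (.node [(60, 1, 1, 1)] (.node [(120, (-1), 1, 1)] .nil .nil) .nil))) (.node [] (.node [] .nil (.node [] (.node [(106, 1, 1, 1)] .nil .nil) (.node [(211, (-1), 1, 1)] .nil .nil))) (.node [] (.node [] .nil (.node [(160, 1, 1, 1)] .nil .nil)) (.node [(64, 1, 1, 1)] .nil .nil)))) (.node [] (.node [] (.node [] (.node [] (.node [(70, (-1), 1, 1)] .nil .nil) (.node [(138, 1, 1, 1)] .nil .nil)) (.node [(42, (-1), 1, 1)] .nil (.node [(192, 1, 1, 1)] .nil .nil))) (.node [] .nil (.node [] (.node [(127, (-1), 1, 1)] .nil .nil) .nil))) (.node [] (.node [] (.node [] .nil (.node [(148, 1, 1, 1)] .nil .nil)) .nil) .nil)))) (.node [] (.node [] (.node [] (.node [(1, (-1), 1, 1)] .nil (.node []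 .nil (.node [(58, 1, 1, 1)] .nil .nil))) (.node [] (.node [] .nil (.node [(53, 1, 1, 1)] .nil .nil)) (.node [] (.node [(30, 1, 1, 1)] .nil (.node [(158, 1, 1, 1)] .nil .nil)) .nil))) (.node [] (.node [] (.node [] .nil (.node [] (.node [(94, 1, 1, 1)] .nil .nil) (.node [(190, 1, 1, 1)] .nil .nil))) .nil) (.node [(6, 1, 1, 1)] (.node [] .nil (.node [] (.node [(109, (-1), 1, 1)] .nil .nil) .nil)) (.node [] .nil (.node [(65, 1, 1, 1)] .nil .nil))))) (.node [] (.node [] (.node [] (.node [] (.node [] (.node [(67, 1, 1, 1)] .nil .nil) .nil) (.node [] (.node [(85, (-1), 1, 1)] .nil .nil) (.node [(188, (-1), 1, 1)] .nil .nil))) .nil) (.node [] .nil (.node [] (.node [(32, (-1), 1, 1)] (.node [(77, 1, 1, 1)] .nil .nil) .nil) (.node [] (.node [(135, (-1), 1, 1)] .nil .nil) .nil)))) (.node [] (.node [] (.node [(8, 1, 1, 1)] .nil (.node [(44, (-1), 1, 1)] .nil .nil)) (.node [] (.node [] .nil (.node [(156, (-1), 1, 1)] .nil .nil)) .nil)) (.node [] (.node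 [] (.node [] (.node [(72, 1, 1, 1)] .nil .nil) .nil) (.node [(56, (-1), 1, 1)] (.node [(115, (-1), 1, 1)] .nil .nil) (.node [(223, 1, 1, 1)] .nil .nil))) .nil)))))
def C63 : List (ℕ × List (ℕ × ℤ)) := [(16, [(1, (-1))]), (19, [(4, (-1))]), (28, [(6, 1)]), (38, [(8, 1)]), (47, [(10, (-1))]), (49, [(11, (-1))]), (51, [(13, 1)]), (79, [(22, (-1))]), (81, [(23, (-1))]), (83, [(25, 1)]), (88, [(30, 1)]), (90, [(32, (-1))]), (91, [(34, (-1))]), (99, [(40, 1)]), (101, [(42, (-1))]), (102, [(44, (-1))]), (104, [(53, 1)]), (110, [(56, (-1))]), (112, [(58, 1)]), (113, [(60, 1)]), (119, [(62, 1)]), (121, [(64, 1)]), (124, [(65, 1)]), (130, [(67, 1)]), (133, [(70, (-1))]), (142, [(72, 1)]), (145, [(75, (-1))]), (154, [(77, 1)]), (162, [(85, (-1))]), (164, [(94, 1)]), (167, [(97, (-1))]), (169, [(106, 1)]), (172, [(109, (-1))]), (174, [(115, (-1))]), (175, [(118, (-1))]), (177, [(120, (-1))]), (179, [(126, (-1))]), (181, [(127, (-1))]), (183, [(129,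 1)]), (186, [(135, (-1))]), (195, [(137, 1)]), (197, [(138, 1)]), (199, [(140, (-1))]), (205, [(148, 1)]), (207, [(149, 1)]), (209, [(151, (-1))]), (214, [(156, (-1))]), (216, [(158, 1)]), (217, [(160, 1)]), (226, [(188, (-1))]), (228, [(190, 1)]), (229, [(192, 1)]), (231, [(201, (-1))]), (233, [(211, (-1))]), (235, [(220, 1)]), (238, [(223, 1)])]
def M64 : Tr (List (ℕ × ℤ × ℕ × ℕ)) := (.node [] (.node [] (.node [] (.node [] (.node [] .nil (.node [] (.node [] .nil (.node [(150, (-1), 1, 1)] .nil .nil)) (.node [(58, (-1), 1, 1)] .nil .nil))) (.node [] (.node [] .nil (.node [] .nil (.node [(202, 1, 1, 1)] .nil .nil))) (.node [] (.node [] .nil (.node [(158, 1, 1, 1)] .nil .nil)) .nil))) (.node [] (.node [] (.node [] .nil (.node [(41, 1, 1, 1)] .nil (.node [(190, 1, 1, 1)] .nil .nil))) .nil) (.node [(6, (-1), 1, 1)] (.node [] .nil (.node [] (.node [(109, (-1), 1, 1)] .nil .nil) (.node [(221, (-1), 1, 1)] .nil .nil))) (.node [] (.node [(35,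 (-1), 1, 1)] .nil .nil) (.node [(65, 1, 1, 1)] .nil .nil))))) (.node [] (.node [] (.node [] .nil (.node [(12, (-1), 1, 1)] (.node [(24, (-1), 1, 1)] .nil .nil) (.node [(61, 1, 1, 1)] (.node [(122, (-1), 1, 1)] .nil .nil) .nil))) (.node [] (.node [] .nil (.node [] (.node [(107, 1, 1, 1)] .nil .nil) (.node [(212, 1, 1, 1)] .nil .nil))) (.node [] (.node [(32, 1, 1, 1)] (.node [(77, 1, 1, 1)] .nil .nil) (.node [(161, (-1), 1, 1)] .nil .nil)) (.node [] (.node [(135, (-1), 1, 1)] .nil .nil) .nil)))) (.node [] (.node [] (.node [(8, (-1), 1, 1)] (.node [] .nil (.node [(139, (-1), 1, 1)] .nil .nil)) (.node [] .nil (.node [(193, (-1), 1, 1)] .nil .nil))) (.node [] .nil (.node [(62, 1, 1, 1)] (.node [(128, 1, 1, 1)] .nil .nil) .nil))) (.node [] (.node [] .nil (.node [] .nil (.node [(223, 1, 1, 1)] .nil .nil))) .nil)))) (.node [] (.node [] (.node [] (.node [(2, (-1), 1, 1)] .nil (.node [] (.node [] (.node [(75, (-1), 1, 1)] .nil .nil) (.node [(151,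 (-1), 1, 1)] .nil .nil)) (.node [] (.node [(121, (-1), 1, 1)] .nil .nil) .nil))) (.node [] (.node [] .nil (.node [(54, 1, 1, 1)] .nil .nil)) (.node [] (.node [(31, 1, 1, 1)] .nil .nil) .nil))) (.node [] (.node [] (.node [] (.node [] (.node [(70, (-1), 1, 1)] .nil .nil) .nil) (.node [(42, 1, 1, 1)] (.node [(95, 1, 1, 1)] .nil .nil) .nil)) .nil) (.node [] (.node [] (.node [] .nil (.node [(148, 1, 1, 1)] .nil .nil)) .nil) .nil))) (.node [] (.node [] (.node [(4, 1, 1, 1)] (.node [] (.node [] (.node [(68, 1, 1, 1)] .nil .nil) (.node [(137, 1, 1, 1)] .nil .nil)) (.node [] (.node [(86, (-1), 1, 1)] .nil .nil) (.node [(189, 1, 1, 1)] .nil .nil))) (.node [(13, (-1), 1, 1)] (.node [(25, (-1), 1, 1)] .nil .nil) (.node [] (.node [(126, (-1), 1, 1)] .nil .nil) .nil))) .nil) (.node [] (.node [] (.node [] (.node [] .nil (.node [(140, (-1), 1, 1)] .nil .nil)) (.node [(45, (-1), 1, 1)] (.node [(97, (-1), 1, 1)] .nil .nil) .nil)) (.node [] (.node [] .nil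 (.node [(157, 1, 1, 1)] .nil .nil)) (.node [(63, 1, 1, 1)] (.node [(129, 1, 1, 1)] .nil .nil) .nil))) (.node [] (.node [(10, 1, 1, 1)] (.node [(22, 1, 1, 1)] (.node [(73, 1, 1, 1)] .nil .nil) .nil) (.node [(57, (-1), 1, 1)] (.node [(116, (-1), 1, 1)] .nil .nil) .nil)) .nil)))))
def C64 : List (ℕ × List (ℕ × ℤ)) := [(16, [(2, (-1))]), (18, [(4, 1)]), (27, [(6, (-1))]), (37, [(8, (-1))]), (46, [(10, 1)]), (49, [(12, (-1))]), (50, [(13, (-1))]), (78, [(22, 1)]), (81, [(24, (-1))]), (82, [(25, (-1))]), (88, [(31, 1)]), (89, [(32, 1)]), (91, [(35, (-1))]), (99, [(41, 1)]), (100, [(42, 1)]), (102, [(45, (-1))]), (104, [(54, 1)]), (110, [(57, (-1))]), (111, [(58, (-1))]), (113, [(61, 1)]), (117, [(62, 1)]), (118, [(63, 1)]), (123, [(65, 1)]), (130, [(68, 1)]), (132, [(70, (-1))]), (142, [(73, 1)]), (144, [(75, (-1))]), (153, [(77, 1)]), (162, [(86, (-1))]), (164, [(95, 1)]), (166, [(97, (-1))]), (169, [(107, 1)]), (171, [(109, (-1))]), (174,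 [(116, (-1))]), (176, [(121, (-1))]), (177, [(122, (-1))]), (178, [(126, (-1))]), (181, [(128, 1)]), (182, [(129, 1)]), (185, [(135, (-1))]), (194, [(137, 1)]), (197, [(139, (-1))]), (198, [(140, (-1))]), (204, [(148, 1)]), (207, [(150, (-1))]), (208, [(151, (-1))]), (214, [(157, 1)]), (215, [(158, 1)]), (217, [(161, (-1))]), (226, [(189, 1)]), (227, [(190, 1)]), (229, [(193, (-1))]), (231, [(202, 1)]), (233, [(212, 1)]), (235, [(221, (-1))]), (237, [(223, 1)])]
def M65 : Tr (List (ℕ × ℤ × ℕ × ℕ)) := (.node [] (.node [] (.node [] (.node [] (.node [] .nil (.node [(12, 1, 1, 1)] (.node [(24, 1, 1, 1)] (.node [(75, (-1), 1, 1)] .nil .nil) .nil) (.node [(60, (-1), 1, 1)] (.node [(123, (-1), 1, 1)] .nil .nil) .nil))) (.node [] (.node [] .nil (.node [] .nil (.node [(203, (-1), 1, 1)] .nil .nil))) (.node [] (.node [] .nil (.node [(160, (-1), 1, 1)] .nil .nil)) .nil))) (.node [] (.node [] (.node [] (.node [] (.node [(70, (-1), 1, 1)] .nil .nil)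 (.node [(139, (-1), 1, 1)] .nil .nil)) (.node [(43, 1, 1, 1)] .nil (.node [(192, (-1), 1, 1)] .nil .nil))) (.node [] .nil (.node [(63, 1, 1, 1)] (.node [(128, 1, 1, 1)] .nil .nil) .nil))) (.node [] (.node [] .nil (.node [] .nil (.node [(222, 1, 1, 1)] .nil .nil))) .nil))) (.node [] (.node [] (.node [(4, (-1), 1, 1)] .nil (.node [] .nil (.node [] (.node [(125, (-1), 1, 1)] .nil .nil) .nil))) (.node [] (.node [] .nil (.node [] (.node [(108, 1, 1, 1)] .nil .nil) (.node [(213, (-1), 1, 1)] .nil .nil))) (.node [] (.node [(34, 1, 1, 1)] .nil .nil) .nil))) (.node [] (.node [] (.node [] .nil (.node [(45, 1, 1, 1)] (.node [(97, (-1), 1, 1)] .nil .nil) .nil)) .nil) (.node [] (.node [] (.node [] .nil (.node [(150, (-1), 1, 1)] .nil .nil)) .nil) .nil)))) (.node [] (.node [] (.node [] (.node [(3, (-1), 1, 1)] .nil (.node [(13, 1, 1, 1)] (.node [(25, 1, 1, 1)] .nil .nil) (.node [(61, (-1), 1, 1)] (.node [(124, (-1), 1, 1)] .nil .nil) .nil))) (.node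 [] (.node [] .nil (.node [(55, 1, 1, 1)] .nil .nil)) (.node [] (.node [(33, 1, 1, 1)] (.node [(77, 1, 1, 1)] .nil .nil) (.node [(161, (-1), 1, 1)] .nil .nil)) (.node [] (.node [(135, (-1), 1, 1)] .nil .nil) .nil)))) (.node [] (.node [] (.node [(8, 1, 1, 1)] (.node [] .nil (.node [(140, (-1), 1, 1)] .nil .nil)) (.node [(44, 1, 1, 1)] (.node [(96, 1, 1, 1)] .nil .nil) (.node [(193, (-1), 1, 1)] .nil .nil))) (.node [] .nil (.node [(64, 1, 1, 1)] (.node [(129, 1, 1, 1)] .nil .nil) .nil))) (.node [] (.node [] (.node [] .nil (.node [(149, (-1), 1, 1)] .nil .nil)) (.node [] .nil (.node [(223, 1, 1, 1)] .nil .nil))) .nil))) (.node [] (.node [] (.node [] (.node [] (.node [] (.node [(69, 1, 1, 1)] .nil .nil) (.node [(138, (-1), 1, 1)] .nil .nil)) (.node [] (.node [(87, (-1), 1, 1)] .nil .nil) (.node [(191, (-1), 1, 1)] .nil .nil))) (.node [] .nil (.node [(62, 1, 1, 1)] (.node [(127, 1, 1, 1)] .nil .nil) .nil))) (.node [(6, 1, 1, 1)] (.node [] .nil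 (.node [] (.node [(109, (-1), 1, 1)] .nil .nil) .nil)) (.node [] (.node [(35, 1, 1, 1)] .nil .nil) .nil))) (.node [] (.node [] .nil (.node [] (.node [] .nil (.node [(159, (-1), 1, 1)] .nil .nil)) .nil)) (.node [] (.node [(11, 1, 1, 1)] (.node [(23, 1, 1, 1)] (.node [(74, 1, 1, 1)] .nil .nil) (.node [(151, (-1), 1, 1)] .nil .nil)) (.node [(59, (-1), 1, 1)] .nil .nil)) .nil)))))
def C65 : List (ℕ × List (ℕ × ℤ)) := [(16, [(3, (-1))]), (17, [(4, (-1))]), (26, [(6, 1)]), (36, [(8, 1)]), (46, [(11, 1)]), (47, [(12, 1)]), (48, [(13, 1)]), (78, [(23, 1)]), (79, [(24, 1)]), (80, [(25, 1)]), (88, [(33, 1)]), (89, [(34, 1)]), (90, [(35, 1)]), (99, [(43, 1)]), (100, [(44, 1)]), (101, [(45, 1)]), (104, [(55, 1)]), (110, [(59, (-1))]), (111, [(60, (-1))]), (112, [(61, (-1))]), (114, [(62, 1)]), (115, [(63, 1)]), (116, [(64, 1)]), (130, [(69, 1)]), (131, [(70, (-1))]), (142, [(74, 1)]), (143, [(75, (-1))]), (152, [(77, 1)]), (162, [(87, (-1))]), (164,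 [(96, 1)]), (165, [(97, (-1))]), (169, [(108, 1)]), (170, [(109, (-1))]), (175, [(123, (-1))]), (176, [(124, (-1))]), (177, [(125, (-1))]), (178, [(127, 1)]), (179, [(128, 1)]), (180, [(129, 1)]), (184, [(135, (-1))]), (194, [(138, (-1))]), (195, [(139, (-1))]), (196, [(140, (-1))]), (204, [(149, (-1))]), (205, [(150, (-1))]), (206, [(151, (-1))]), (214, [(159, (-1))]), (215, [(160, (-1))]), (216, [(161, (-1))]), (226, [(191, (-1))]), (227, [(192, (-1))]), (228, [(193, (-1))]), (231, [(203, (-1))]), (233, [(213, (-1))]), (235, [(222, 1)]), (236, [(223, 1)])]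
def M66 : Tr (List (ℕ × ℤ × ℕ × ℕ)) := (.node [] (.node [] (.node [] (.node [] (.node [(0, 1, 1, 1)] .nil (.node [] .nil (.node [] .nil (.node [(224, (-1), 1, 1)] .nil .nil)))) (.node [] (.node [(9, (-1), 1, 1)] .nil (.node [(52, (-1), 1, 1)] .nil .nil)) (.node [] (.node [(33, 1, 1, 1)] (.node [(77, 1, 1, 1)] .nil .nil) .nil) (.node [] (.node [(133, (-1), 1, 1)] .nil .nil) .nil)))) (.node [] (.node [] (.node [] .nil (.node [] (.node [(93, 1, 1, 1)] .nil .nil) (.node [(194, 1, 1, 1)] .nil .nil))) (.node [] (.node [(28, 1, 1, 1)] .nil (.node [(156, (-1), 1, 1)] .nil .nil)) .nil)) (.node [] (.node [] .nil (.node [(57, 1, 1, 1)] (.node [(117, (-1), 1, 1)] .nil .nil) .nil)) (.node [] .nil (.node [] (.node [(136, 1, 1, 1)] .nil .nil) .nil))))) (.node [] (.node [] (.node [] (.node [] (.node [] (.node [(70, 1, 1, 1)] .nil .nil) (.node [(139, 1, 1, 1)] .nil .nil)) .nil) (.node [] (.node [] .nil (.node [(154, (-1), 1, 1)] .nil .nil)) (.node []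 (.node [(130, (-1), 1, 1)] .nil .nil) .nil))) (.node [(6, 1, 1, 1)] (.node [] .nil (.node [] (.node [(110, (-1), 1, 1)] .nil .nil) (.node [(214, (-1), 1, 1)] .nil .nil))) .nil)) (.node [] (.node [] (.node [] .nil (.node [(47, (-1), 1, 1)] .nil (.node [(197, 1, 1, 1)] .nil .nil))) (.node [] (.node [(30, 1, 1, 1)] .nil (.node [(159, (-1), 1, 1)] .nil .nil)) .nil)) (.node [] (.node [(12, (-1), 1, 1)] (.node [] (.node [(71, 1, 1, 1)] .nil .nil) .nil) (.node [(62, 1, 1, 1)] .nil .nil)) (.node [] .nil (.node [(69, 1, 1, 1)] .nil .nil)))))) (.node [] (.node [] (.node [] (.node [] (.node [] (.node [] .nil (.node [(138, 1, 1, 1)] .nil .nil)) .nil) (.node [] (.node [(26, 1, 1, 1)] .nil (.node [(153, (-1), 1, 1)] .nil .nil)) .nil)) (.node [] (.node [] .nil (.node [] (.node [(98, (-1), 1, 1)] .nil .nil) .nil)) (.node [] .nil (.node [(67, 1, 1, 1)] .nil .nil)))) (.node [] (.node [(5, 1, 1, 1)] (.node [] .nil (.node [(46, (-1), 1, 1)] .nil (.node [(195,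 1, 1, 1)] .nil .nil))) (.node [] (.node [] .nil (.node [(157, (-1), 1, 1)] .nil .nil)) (.node [] (.node [(131, (-1), 1, 1)] .nil .nil) .nil))) (.node [] (.node [(11, (-1), 1, 1)] .nil (.node [(59, 1, 1, 1)] (.node [(119, (-1), 1, 1)] .nil .nil) .nil)) .nil))) (.node [] (.node [] (.node [] (.node [] .nil (.node [] (.node [(88, (-1), 1, 1)] .nil .nil) .nil)) (.node [] (.node [(27, 1, 1, 1)] (.node [(76, (-1), 1, 1)] .nil .nil) .nil) .nil)) (.node [] (.node [(10, (-1), 1, 1)] .nil (.node [(56, 1, 1, 1)] (.node [(114, (-1), 1, 1)] .nil .nil) (.node [(219, (-1), 1, 1)] .nil .nil))) (.node [] .nil (.node [(68, 1, 1, 1)] .nil .nil)))) (.node [] (.node [] (.node [] .nil (.node [(49, (-1), 1, 1)] .nil (.node [(200, 1, 1, 1)] .nil .nil))) (.node [] (.node [(31, 1, 1, 1)] .nil .nil) (.node [] (.node [(132, (-1), 1, 1)] .nil .nil) .nil))) (.node [] (.node [] (.node [] .nil (.node [(152, (-1), 1, 1)] .nil .nil)) .nil) (.node [] .nil (.node [] (.node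 [(137, 1, 1, 1)] .nil .nil) .nil)))))))
def C66 : List (ℕ × List (ℕ × ℤ)) := [(15, [(0, 1)]), (20, [(5, 1)]), (25, [(6, 1)]), (39, [(9, (-1))]), (42, [(10, (-1))]), (44, [(11, (-1))]), (45, [(12, (-1))]), (80, [(26, 1)]), (82, [(27, 1)]), (83, [(28, 1)]), (85, [(30, 1)]), (86, [(31, 1)]), (87, [(33, 1)]), (100, [(46, (-1))]), (101, [(47, (-1))]), (102, [(49, (-1))]), (103, [(52, (-1))]), (106, [(56, 1)]), (107, [(57, 1)]), (108, [(59, 1)]), (109, [(62, 1)]), (120, [(67, 1)]), (122, [(68, 1)]), (125, [(69, 1)]), (129, [(70, 1)]), (141, [(71, 1)]), (146, [(76, (-1))]), (151, [(77, 1)]), (162, [(88, (-1))]), (163, [(93, 1)]), (168, [(98, (-1))]), (169, [(110, (-1))]), (170, [(114, (-1))]), (171, [(117, (-1))]), (172, [(119, (-1))]), (177, [(130, (-1))]), (180, [(131, (-1))]), (182, [(132, (-1))]), (183, [(133, (-1))]), (187, [(136, 1)]), (190, [(137, 1)]), (192, [(138, 1)]), (193, [(139, 1)]), (206, [(152, (-1))]), (208, [(153, (-1))]),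 (209, [(154, (-1))]), (211, [(156, (-1))]), (212, [(157, (-1))]), (213, [(159, (-1))]), (227, [(194, 1)]), (228, [(195, 1)]), (229, [(197, 1)]), (230, [(200, 1)]), (233, [(214, (-1))]), (234, [(219, (-1))]), (239, [(224, (-1))])]
def M67 : Tr (List (ℕ × ℤ × ℕ × ℕ)) := (.node [] (.node [] (.node [] (.node [] (.node [(1, 1, 1, 1)] (.node [] (.node [] .nil (.node [(138, 1, 1, 1)] .nil .nil)) .nil) (.node [] (.node [(26, (-1), 1, 1)] .nil (.node [(153, (-1), 1, 1)] .nil .nil)) .nil)) (.node [] (.node [] .nil (.node [(53, (-1), 1, 1)] (.node [(98, (-1), 1, 1)] .nil .nil) .nil)) (.node [] (.node [(34, 1, 1, 1)] .nil .nil) (.node [(66, 1, 1, 1)] (.node [(134, 1, 1, 1)] .nil .nil) .nil)))) (.node [] (.node [(5, (-1), 1, 1)] (.node [] .nil (.node [(46, 1, 1, 1)] (.node [(94, 1, 1, 1)] .nil .nil) .nil)) (.node [] (.node [(29, 1, 1, 1)] .nil .nil) (.node [] (.node [(131, (-1), 1, 1)] .nil .nil) .nil))) (.node [] (.node [(11, 1, 1, 1)] .nil (.node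 [(58, 1, 1, 1)] (.node [(118, (-1), 1, 1)] .nil .nil) .nil)) .nil))) (.node [] (.node [] (.node [] (.node [] (.node [] .nil (.node [(140, (-1), 1, 1)] .nil .nil)) .nil) (.node [] (.node [(27, (-1), 1, 1)] (.node [(76, (-1), 1, 1)] .nil .nil) (.node [(155, 1, 1, 1)] .nil .nil)) .nil)) (.node [] (.node [(10, 1, 1, 1)] .nil (.node [(56, (-1), 1, 1)] (.node [(111, (-1), 1, 1)] .nil .nil) (.node [(215, 1, 1, 1)] .nil .nil))) (.node [] .nil (.node [(68, 1, 1, 1)] .nil .nil)))) (.node [] (.node [] (.node [] .nil (.node [(48, (-1), 1, 1)] .nil (.node [(198, (-1), 1, 1)] .nil .nil))) (.node [] (.node [] .nil (.node [(160, 1, 1, 1)] .nil .nil)) (.node [] (.node [(132, (-1), 1, 1)] .nil .nil) .nil))) (.node [] (.node [(13, (-1), 1, 1)] (.node [] (.node [(72, 1, 1, 1)] .nil .nil) (.node [(152, (-1), 1, 1)] .nil .nil)) (.node [(63, 1, 1, 1)] (.node [(120, (-1), 1, 1)] .nil .nil) .nil)) (.node [] .nil (.node [] (.node [(137, 1, 1, 1)] .nil .nil) .nil))))))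 (.node [] (.node [] (.node [] (.node [] (.node [] (.node [] (.node [(70, 1, 1, 1)] .nil .nil) .nil) .nil) (.node [] .nil (.node [] (.node [(130, (-1), 1, 1)] .nil .nil) .nil))) (.node [(6, (-1), 1, 1)] .nil .nil)) (.node [] (.node [] (.node [] .nil (.node [] .nil (.node [(196, (-1), 1, 1)] .nil .nil))) (.node [] (.node [(30, (-1), 1, 1)] .nil (.node [(158, 1, 1, 1)] .nil .nil)) .nil)) (.node [] (.node [] .nil (.node [(60, 1, 1, 1)] .nil .nil)) (.node [] .nil (.node [(69, 1, 1, 1)] .nil .nil))))) (.node [] (.node [] (.node [] (.node [] .nil (.node [] (.node [(89, (-1), 1, 1)] .nil .nil) (.node [(194, 1, 1, 1)] .nil .nil))) (.node [] (.node [] .nil (.node [(156, (-1), 1, 1)] .nil .nil)) .nil)) (.node [] (.node [] .nil (.node [] (.node [(115, (-1), 1, 1)] .nil .nil) (.node [(220, 1, 1, 1)] .nil .nil))) (.node [] .nil (.node [] (.node [(136, 1, 1, 1)] .nil .nil) .nil)))) (.node [] (.node [] (.node [(9, 1, 1, 1)] .nil (.node [(50, (-1), 1,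 1)] .nil (.node [(201, (-1), 1, 1)] .nil .nil))) (.node [] (.node [(32, 1, 1, 1)] (.node [(77, 1, 1, 1)] .nil .nil) .nil) .nil)) (.node [] (.node [] .nil (.node [] .nil (.node [(224, (-1), 1, 1)] .nil .nil))) .nil)))))
def C67 : List (ℕ × List (ℕ × ℤ)) := [(15, [(1, 1)]), (19, [(5, (-1))]), (24, [(6, (-1))]), (38, [(9, 1)]), (41, [(10, 1)]), (43, [(11, 1)]), (45, [(13, (-1))]), (79, [(26, (-1))]), (81, [(27, (-1))]), (83, [(29, 1)]), (84, [(30, (-1))]), (86, [(32, 1)]), (87, [(34, 1)]), (99, [(46, 1)]), (101, [(48, (-1))]), (102, [(50, (-1))]), (103, [(53, (-1))]), (105, [(56, (-1))]), (107, [(58, 1)]), (108, [(60, 1)]), (109, [(63, 1)]), (119, [(66, 1)]), (121, [(68, 1)]), (124, [(69, 1)]), (128, [(70, 1)]), (141, [(72, 1)]), (145, [(76, (-1))]), (150, [(77, 1)]), (162, [(89, (-1))]), (163, [(94, 1)]), (167, [(98, (-1))]), (169, [(111, (-1))]), (170, [(115, (-1))]), (171, [(118, (-1))]), (173, [(120, (-1))]), (176, [(130, (-1))]), (179,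 [(131, (-1))]), (181, [(132, (-1))]), (183, [(134, 1)]), (186, [(136, 1)]), (189, [(137, 1)]), (191, [(138, 1)]), (193, [(140, (-1))]), (205, [(152, (-1))]), (207, [(153, (-1))]), (209, [(155, 1)]), (210, [(156, (-1))]), (212, [(158, 1)]), (213, [(160, 1)]), (226, [(194, 1)]), (228, [(196, (-1))]), (229, [(198, (-1))]), (230, [(201, (-1))]), (233, [(215, 1)]), (234, [(220, 1)]), (238, [(224, (-1))])]
def M68 : Tr (List (ℕ × ℤ × ℕ × ℕ)) := (.node [] (.node [] (.node [] (.node [] (.node [(2, 1, 1, 1)] (.node [] (.node [] (.node [(70, 1, 1, 1)] .nil .nil) (.node [(139, (-1), 1, 1)] .nil .nil)) .nil) (.node [] (.node [] .nil (.node [(154, 1, 1, 1)] .nil .nil)) (.node [] (.node [(130, (-1), 1, 1)] .nil .nil) .nil))) (.node [(6, 1, 1, 1)] (.node [] .nil (.node [(54, (-1), 1, 1)] .nil .nil)) (.node [] (.node [(35, 1, 1, 1)] .nil .nil) .nil))) (.node [] (.node [] (.node [] .nil (.node [(47, 1, 1, 1)] (.node [(95, 1, 1, 1)] .nil .nil) (.node [(196,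 (-1), 1, 1)] .nil .nil))) (.node [] (.node [] .nil (.node [(158, 1, 1, 1)] .nil .nil)) .nil)) (.node [] (.node [(12, 1, 1, 1)] .nil .nil) (.node [] .nil (.node [(69, 1, 1, 1)] .nil .nil))))) (.node [] (.node [] (.node [] .nil (.node [] (.node [(28, (-1), 1, 1)] .nil .nil) .nil)) (.node [] (.node [] .nil (.node [(57, (-1), 1, 1)] (.node [(112, (-1), 1, 1)] .nil .nil) (.node [(216, (-1), 1, 1)] .nil .nil))) (.node [] .nil (.node [] (.node [(136, 1, 1, 1)] .nil .nil) .nil)))) (.node [] (.node [] (.node [(9, (-1), 1, 1)] .nil (.node [] .nil (.node [(199, 1, 1, 1)] .nil .nil))) (.node [] (.node [(32, (-1), 1, 1)] (.node [(77, 1, 1, 1)] .nil .nil) (.node [(161, (-1), 1, 1)] .nil .nil)) (.node [(66, 1, 1, 1)] (.node [(133, 1, 1, 1)] .nil .nil) .nil))) (.node [] (.node [] (.node [] (.node [(73, 1, 1, 1)] .nil .nil) .nil) (.node [(64, 1, 1, 1)] (.node [(122, (-1), 1, 1)] .nil .nil) (.node [(224, (-1), 1, 1)] .nil .nil))) .nil)))) (.node [] (.node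 [] (.node [] (.node [] (.node [] (.node [] .nil (.node [(140, (-1), 1, 1)] .nil .nil)) .nil) (.node [] (.node [] (.node [(76, (-1), 1, 1)] .nil .nil) (.node [(155, 1, 1, 1)] .nil .nil)) .nil)) (.node [] (.node [(10, (-1), 1, 1)] .nil .nil) .nil)) (.node [] (.node [] (.node [] .nil (.node [(48, 1, 1, 1)] .nil .nil)) (.node [] (.node [(31, (-1), 1, 1)] .nil .nil) .nil)) (.node [] (.node [(13, 1, 1, 1)] (.node [] .nil (.node [(152, (-1), 1, 1)] .nil .nil)) (.node [(61, 1, 1, 1)] (.node [(121, (-1), 1, 1)] .nil .nil) .nil)) (.node [] .nil (.node [] (.node [(137, 1, 1, 1)] .nil .nil) .nil))))) (.node [] (.node [] (.node [(5, 1, 1, 1)] (.node [] .nil (.node [] (.node [(90, (-1), 1, 1)] .nil .nil) (.node [(195, (-1), 1, 1)] .nil .nil))) (.node [] (.node [(29, (-1), 1, 1)] .nil (.node [(157, 1, 1, 1)] .nil .nil)) (.node [] (.node [(131, (-1), 1, 1)] .nil .nil) .nil))) (.node [] (.node [] .nil (.node [(58, (-1), 1, 1)] (.node [(116, (-1), 1, 1)]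 .nil .nil) (.node [(221, (-1), 1, 1)] .nil .nil))) .nil)) (.node [] (.node [] (.node [] .nil (.node [(51, (-1), 1, 1)] (.node [(98, (-1), 1, 1)] .nil .nil) (.node [(202, 1, 1, 1)] .nil .nil))) (.node [] .nil (.node [(67, 1, 1, 1)] (.node [(134, 1, 1, 1)] .nil .nil) .nil))) (.node [] (.node [] (.node [(26, 1, 1, 1)] .nil .nil) .nil) .nil)))))
def C68 : List (ℕ × List (ℕ × ℤ)) := [(15, [(2, 1)]), (18, [(5, 1)]), (23, [(6, 1)]), (37, [(9, (-1))]), (40, [(10, (-1))]), (43, [(12, 1)]), (44, [(13, 1)]), (78, [(26, 1)]), (81, [(28, (-1))]), (82, [(29, (-1))]), (84, [(31, (-1))]), (85, [(32, (-1))]), (87, [(35, 1)]), (99, [(47, 1)]), (100, [(48, 1)]), (102, [(51, (-1))]), (103, [(54, (-1))]), (105, [(57, (-1))]), (106, [(58, (-1))]), (108, [(61, 1)]), (109, [(64, 1)]), (117, [(66, 1)]), (118, [(67, 1)]), (123, [(69, 1)]), (127, [(70, 1)]), (141, [(73, 1)]), (144, [(76, (-1))]), (149, [(77, 1)]), (162, [(90, (-1))]), (163, [(95, 1)]), (166, [(98,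 (-1))]), (169, [(112, (-1))]), (170, [(116, (-1))]), (172, [(121, (-1))]), (173, [(122, (-1))]), (175, [(130, (-1))]), (178, [(131, (-1))]), (181, [(133, 1)]), (182, [(134, 1)]), (185, [(136, 1)]), (188, [(137, 1)]), (191, [(139, (-1))]), (192, [(140, (-1))]), (204, [(152, (-1))]), (207, [(154, 1)]), (208, [(155, 1)]), (210, [(157, 1)]), (211, [(158, 1)]), (213, [(161, (-1))]), (226, [(195, (-1))]), (227, [(196, (-1))]), (229, [(199, 1)]), (230, [(202, 1)]), (233, [(216, (-1))]), (234, [(221, (-1))]), (237, [(224, (-1))])]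
def M69 : Tr (List (ℕ × ℤ × ℕ × ℕ)) := (.node [] (.node [] (.node [] (.node [] (.node [(3, 1, 1, 1)] .nil (.node [] (.node [(28, 1, 1, 1)] (.node [(76, (-1), 1, 1)] .nil .nil) .nil) .nil)) (.node [] (.node [] .nil (.node [(55, (-1), 1, 1)] .nil .nil)) .nil)) (.node [] (.node [] (.node [] .nil (.node [(49, 1, 1, 1)] (.node [(96, 1, 1, 1)] .nil .nil) (.node [(198, 1, 1, 1)] .nil .nil))) (.node [] (.node [] .nil (.node [(160, (-1), 1, 1)] .nil .nil)) (.node [(67, 1, 1, 1)] (.node [(133, 1, 1, 1)] .nil .nil) .nil))) (.node [] (.node [] .nil (.node [(61, (-1), 1, 1)] (.node [(123, (-1), 1, 1)] .nil .nil) .nil)) .nil))) (.node [] (.node [] (.node [(5, (-1), 1, 1)] .nil .nil) (.node [] (.node [(12, (-1), 1, 1)] .nil (.node [(59, (-1), 1, 1)] (.node [(113, (-1), 1, 1)] .nil .nil) (.node [(217, 1, 1, 1)] .nil .nil))) .nil)) (.node [] (.node [] (.node [] .nil (.node [(51, 1, 1, 1)] (.node [(98, (-1), 1, 1)] .nil .nil) .nil)) (.node [] (.node [(34,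 (-1), 1, 1)] .nil .nil) .nil)) (.node [] (.node [] (.node [] (.node [(74, 1, 1, 1)] .nil .nil) (.node [(154, 1, 1, 1)] .nil .nil)) (.node [(65, 1, 1, 1)] (.node [(125, (-1), 1, 1)] .nil .nil) .nil)) (.node [] .nil (.node [] (.node [(139, (-1), 1, 1)] .nil .nil) .nil)))))) (.node [] (.node [] (.node [] (.node [] .nil (.node [] (.node [(29, 1, 1, 1)] .nil .nil) .nil)) (.node [] (.node [(11, (-1), 1, 1)] .nil .nil) (.node [] .nil (.node [] (.node [(136, 1, 1, 1)] .nil .nil) .nil)))) (.node [] (.node [] (.node [(9, 1, 1, 1)] .nil (.node [(50, 1, 1, 1)] .nil (.node [(199, 1, 1, 1)] .nil .nil))) (.node [] (.node [(33, (-1), 1, 1)] (.node [(77, 1, 1, 1)] .nil .nil) (.node [(161, (-1), 1, 1)] .nil .nil)) (.node [(68, 1, 1, 1)] (.node [(134, 1, 1, 1)] .nil .nil) .nil))) (.node [] (.node [] (.node [] .nil (.node [(153, 1, 1, 1)] .nil .nil)) (.node [] (.node [(124, (-1), 1, 1)] .nil .nil) (.node [(224, (-1), 1, 1)] .nil .nil))) (.node [] .nil (.node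 [] (.node [(138, (-1), 1, 1)] .nil .nil) .nil))))) (.node [] (.node [] (.node [] (.node [] .nil (.node [] (.node [(91, (-1), 1, 1)] .nil .nil) (.node [(197, 1, 1, 1)] .nil .nil))) (.node [] (.node [] .nil (.node [(159, (-1), 1, 1)] .nil .nil)) (.node [(66, 1, 1, 1)] (.node [(132, 1, 1, 1)] .nil .nil) .nil))) (.node [] (.node [(13, (-1), 1, 1)] .nil (.node [(60, (-1), 1, 1)] .nil (.node [(222, 1, 1, 1)] .nil .nil))) .nil)) (.node [] (.node [(6, (-1), 1, 1)] (.node [] .nil (.node [] .nil (.node [(203, (-1), 1, 1)] .nil .nil))) (.node [] (.node [(35, (-1), 1, 1)] .nil .nil) .nil)) (.node [] (.node [] (.node [(27, 1, 1, 1)] .nil (.node [(155, 1, 1, 1)] .nil .nil)) (.node [] (.node [(130, (-1), 1, 1)] .nil .nil) .nil)) (.node [] .nil (.node [(70, 1, 1, 1)] (.node [(140, (-1), 1, 1)] .nil .nil) .nil)))))))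
def C69 : List (ℕ × List (ℕ × ℤ)) := [(15, [(3, 1)]), (17, [(5, (-1))]), (22, [(6, (-1))]), (36, [(9, 1)]), (40, [(11, (-1))]), (41, [(12, (-1))]), (42, [(13, (-1))]), (78, [(27, 1)]), (79, [(28, 1)]), (80, [(29, 1)]), (84, [(33, (-1))]), (85, [(34, (-1))]), (86, [(35, (-1))]), (99, [(49, 1)]), (100, [(50, 1)]), (101, [(51, 1)]), (103, [(55, (-1))]), (105, [(59, (-1))]), (106, [(60, (-1))]), (107, [(61, (-1))]), (109, [(65, 1)]), (114, [(66, 1)]), (115, [(67, 1)]), (116, [(68, 1)]), (126, [(70, 1)]), (141, [(74, 1)]), (143, [(76, (-1))]), (148, [(77, 1)]), (162, [(91, (-1))]), (163, [(96, 1)]), (165, [(98, (-1))]), (169, [(113, (-1))]), (171, [(123, (-1))]), (172, [(124, (-1))]), (173, [(125, (-1))]), (174, [(130, (-1))]), (178, [(132, 1)]), (179, [(133, 1)]), (180, [(134, 1)]), (184, [(136, 1)]), (188, [(138, (-1))]), (189, [(139, (-1))]), (190, [(140, (-1))]), (204, [(153, 1)]), (205, [(154, 1)]), (206, [(155, 1)]), (210, [(159, (-1))]),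 (211, [(160, (-1))]), (212, [(161, (-1))]), (226, [(197, 1)]), (227, [(198, 1)]), (228, [(199, 1)]), (230, [(203, (-1))]), (233, [(217, 1)]), (234, [(222, 1)]), (236, [(224, (-1))])]
def M70 : Tr (List (ℕ × ℤ × ℕ × ℕ)) := (.node [] (.node [] (.node [] (.node [] (.node [(4, 1, 1, 1)] .nil (.node [] (.node [(31, 1, 1, 1)] .nil (.node [(159, (-1), 1, 1)] .nil .nil)) (.node [(67, 1, 1, 1)] (.node [(132, 1, 1, 1)] .nil .nil) .nil))) (.node [] (.node [(13, 1, 1, 1)] .nil .nil) .nil)) (.node [] (.node [] (.node [] .nil (.node [(52, 1, 1, 1)] (.node [(97, 1, 1, 1)] .nil .nil) (.node [(201, (-1), 1, 1)] .nil .nil))) (.node [] (.node [(35, 1, 1, 1)] (.node [(77, 1, 1, 1)] .nil .nil) .nil) .nil)) (.node [] (.node [] .nil (.node [(64, (-1), 1, 1)] (.node [(127, (-1), 1, 1)] .nil .nil) (.node [(224, (-1), 1, 1)] .nil .nil))) (.node [] .nil (.node [] (.node [(140, (-1), 1, 1)] .nil .nil) .nil))))) (.node [] (.node [] (.node [] .nil (.node [] (.node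 [(33, 1, 1, 1)] .nil (.node [(161, (-1), 1, 1)] .nil .nil)) (.node [(69, 1, 1, 1)] (.node [(134, 1, 1, 1)] .nil .nil) .nil))) (.node [] (.node [] .nil (.node [(62, (-1), 1, 1)] .nil (.node [(218, (-1), 1, 1)] .nil .nil))) (.node [] .nil (.node [] (.node [(138, (-1), 1, 1)] .nil .nil) .nil)))) (.node [] (.node [(6, 1, 1, 1)] (.node [(11, 1, 1, 1)] .nil (.node [(54, 1, 1, 1)] .nil (.node [(203, (-1), 1, 1)] .nil .nil))) .nil) (.node [] (.node [] (.node [] (.node [(75, 1, 1, 1)] .nil .nil) (.node [(157, (-1), 1, 1)] .nil .nil)) (.node [] (.node [(129, (-1), 1, 1)] .nil .nil) .nil)) .nil)))) (.node [] (.node [] (.node [] (.node [(5, 1, 1, 1)] .nil (.node [] (.node [(32, 1, 1, 1)] .nil (.node [(160, (-1), 1, 1)] .nil .nil)) (.node [(68, 1, 1, 1)] (.node [(133, 1, 1, 1)] .nil .nil) .nil))) (.node [] .nil (.node [] .nil (.node [] (.node [(137, (-1), 1, 1)] .nil .nil) .nil)))) (.node [] (.node [] (.node [(10, 1, 1, 1)] .nil (.node [(53, 1, 1,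 1)] (.node [(98, (-1), 1, 1)] .nil .nil) (.node [(202, (-1), 1, 1)] .nil .nil))) .nil) (.node [] (.node [] (.node [] .nil (.node [(156, (-1), 1, 1)] .nil .nil)) (.node [(65, (-1), 1, 1)] (.node [(128, (-1), 1, 1)] .nil .nil) .nil)) .nil))) (.node [] (.node [] (.node [] (.node [] .nil (.node [] (.node [(92, (-1), 1, 1)] .nil .nil) (.node [(200, (-1), 1, 1)] .nil .nil))) (.node [] (.node [(34, 1, 1, 1)] .nil .nil) .nil)) (.node [] (.node [] .nil (.node [(63, (-1), 1, 1)] (.node [(126, (-1), 1, 1)] .nil .nil) (.node [(223, (-1), 1, 1)] .nil .nil))) (.node [] .nil (.node [] (.node [(139, (-1), 1, 1)] .nil .nil) .nil)))) (.node [] (.node [] (.node [(12, 1, 1, 1)] .nil (.node [(55, 1, 1, 1)] .nil .nil)) .nil) (.node [] (.node [] (.node [(30, 1, 1, 1)] (.node [(76, (-1), 1, 1)] .nil .nil) (.node [(158, (-1), 1, 1)] .nil .nil)) (.node [(66, 1, 1, 1)] (.node [(131, 1, 1, 1)] .nil .nil) .nil)) .nil)))))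
def C70 : List (ℕ × List (ℕ × ℤ)) := [(15, [(4, 1)]), (16, [(5, 1)]), (21, [(6, 1)]), (36, [(10, 1)]), (37, [(11, 1)]), (38, [(12, 1)]), (39, [(13, 1)]), (78, [(30, 1)]), (79, [(31, 1)]), (80, [(32, 1)]), (81, [(33, 1)]), (82, [(34, 1)]), (83, [(35, 1)]), (99, [(52, 1)]), (100, [(53, 1)]), (101, [(54, 1)]), (102, [(55, 1)]), (105, [(62, (-1))]), (106, [(63, (-1))]), (107, [(64, (-1))]), (108, [(65, (-1))]), (110, [(66, 1)]), (111, [(67, 1)]), (112, [(68, 1)]), (113, [(69, 1)]), (141, [(75, 1)]), (142, [(76, (-1))]), (147, [(77, 1)]), (162, [(92, (-1))]), (163, [(97, 1)]), (164, [(98, (-1))]), (170, [(126, (-1))]), (171, [(127, (-1))]), (172, [(128, (-1))]), (173, [(129, (-1))]), (174, [(131, 1)]), (175, [(132, 1)]), (176, [(133, 1)]), (177, [(134, 1)]), (184, [(137, (-1))]), (185, [(138, (-1))]), (186, [(139, (-1))]), (187, [(140, (-1))]), (204, [(156, (-1))]), (205, [(157, (-1))]), (206, [(158, (-1))]), (207, [(159, (-1))]), (208, [(160,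 (-1))]), (209, [(161, (-1))]), (226, [(200, (-1))]), (227, [(201, (-1))]), (228, [(202, (-1))]), (229, [(203, (-1))]), (233, [(218, (-1))]), (234, [(223, (-1))]), (235, [(224, (-1))])]
def M71 : Tr (List (ℕ × ℤ × ℕ × ℕ)) := (.node [] (.node [] (.node [] (.node [] (.node [] (.node [] .nil (.node [(57, 1, 1, 1)] .nil .nil)) (.node [] .nil (.node [] .nil (.node [(225, 1, 1, 1)] .nil .nil)))) (.node [] (.node [] (.node [] .nil (.node [(154, (-1), 1, 1)] .nil .nil)) (.node [] (.node [(119, (-1), 1, 1)] .nil .nil) (.node [(214, (-1), 1, 1)] .nil .nil))) (.node [] (.node [(43, 1, 1, 1)] .nil .nil) (.node [] (.node [(145, (-1), 1, 1)] .nil .nil) .nil)))) (.node [] (.node [] (.node [(12, 1, 1, 1)] .nil (.node [] (.node [(105, (-1), 1, 1)] .nil .nil) (.node [(204, (-1), 1, 1)] .nil .nil))) (.node [] (.node [(38, 1, 1, 1)] .nil .nil) .nil)) (.node [] (.node [] (.node [] .nil (.node [(159, (-1), 1, 1)] .nil .nil)) .nil) (.node [] (.node [(49, 1,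 1, 1)] .nil .nil) (.node [] (.node [(147, (-1), 1, 1)] .nil .nil) .nil))))) (.node [] (.node [] (.node [] (.node [] (.node [] (.node [(75, 1, 1, 1)] .nil .nil) (.node [(150, (-1), 1, 1)] .nil .nil)) (.node [(62, 1, 1, 1)] .nil .nil)) (.node [] .nil (.node [] (.node [(142, (-1), 1, 1)] .nil .nil) .nil))) (.node [(8, 1, 1, 1)] (.node [] (.node [] .nil (.node [(156, (-1), 1, 1)] .nil .nil)) .nil) (.node [] (.node [(46, 1, 1, 1)] .nil .nil) .nil))) (.node [] (.node [] (.node [] .nil (.node [] (.node [(114, (-1), 1, 1)] .nil .nil) (.node [(207, (-1), 1, 1)] .nil .nil))) (.node [] (.node [(40, 1, 1, 1)] .nil .nil) .nil)) (.node [(9, 1, 1, 1)] (.node [] .nil (.node [] (.node [(141, (-1), 1, 1)] .nil .nil) .nil)) (.node [] .nil (.node [(74, 1, 1, 1)] .nil .nil)))))) (.node [] (.node [] (.node [] (.node [] (.node [(10, 1, 1, 1)] (.node [] .nil (.node [(149, (-1), 1, 1)] .nil .nil)) (.node [(59, 1, 1, 1)] .nil .nil)) (.node [] (.node [(36, 1, 1,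 1)] .nil .nil) .nil)) (.node [] (.node [] .nil (.node [] .nil (.node [(219, (-1), 1, 1)] .nil .nil))) (.node [] .nil (.node [(72, 1, 1, 1)] .nil .nil)))) (.node [] (.node [(7, 1, 1, 1)] (.node [] (.node [] .nil (.node [(152, (-1), 1, 1)] .nil .nil)) (.node [] (.node [(110, (-1), 1, 1)] .nil .nil) (.node [(205, (-1), 1, 1)] .nil .nil))) (.node [] .nil (.node [] (.node [(143, (-1), 1, 1)] .nil .nil) .nil))) (.node [] (.node [] (.node [] (.node [(77, 1, 1, 1)] .nil .nil) .nil) .nil) (.node [] (.node [(52, 1, 1, 1)] .nil .nil) .nil)))) (.node [] (.node [] (.node [] (.node [(11, 1, 1, 1)] .nil (.node [(66, 1, 1, 1)] (.node [(99, (-1), 1, 1)] .nil .nil) .nil)) (.node [] (.node [(37, 1, 1, 1)] .nil .nil) .nil)) (.node [] (.node [] (.node [] .nil (.node [(157, (-1), 1, 1)] .nil .nil)) .nil) (.node [] (.node [(47, 1, 1, 1)] .nil .nil) (.node [(73, 1, 1, 1)] .nil .nil)))) (.node [(0, (-1), 1, 1)] (.node [] (.node [] (.node [] (.node [(76, 1, 1,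 1)] .nil .nil) (.node [(153, (-1), 1, 1)] .nil .nil)) (.node [] (.node [(117, (-1), 1, 1)] .nil .nil) (.node [(210, (-1), 1, 1)] .nil .nil))) (.node [] (.node [(41, 1, 1, 1)] .nil .nil) (.node [] (.node [(144, (-1), 1, 1)] .nil .nil) .nil))) (.node [] .nil (.node [] (.node [(56, 1, 1, 1)] .nil .nil) (.node [] (.node [(148, (-1), 1, 1)] .nil .nil) .nil)))))))
def C71 : List (ℕ × List (ℕ × ℤ)) := [(14, [(0, (-1))]), (20, [(7, 1)]), (25, [(8, 1)]), (29, [(9, 1)]), (32, [(10, 1)]), (34, [(11, 1)]), (35, [(12, 1)]), (80, [(36, 1)]), (82, [(37, 1)]), (83, [(38, 1)]), (85, [(40, 1)]), (86, [(41, 1)]), (87, [(43, 1)]), (89, [(46, 1)]), (90, [(47, 1)]), (91, [(49, 1)]), (92, [(52, 1)]), (94, [(56, 1)]), (95, [(57, 1)]), (96, [(59, 1)]), (97, [(62, 1)]), (98, [(66, 1)]), (120, [(72, 1)]), (122, [(73, 1)]), (125, [(74, 1)]), (129, [(75, 1)]), (134, [(76, 1)]), (140, [(77, 1)]), (162, [(99, (-1))]), (163, [(105, (-1))]), (164, [(110, (-1))]), (165,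 [(114, (-1))]), (166, [(117, (-1))]), (167, [(119, (-1))]), (173, [(141, (-1))]), (177, [(142, (-1))]), (180, [(143, (-1))]), (182, [(144, (-1))]), (183, [(145, (-1))]), (187, [(147, (-1))]), (190, [(148, (-1))]), (192, [(149, (-1))]), (193, [(150, (-1))]), (196, [(152, (-1))]), (198, [(153, (-1))]), (199, [(154, (-1))]), (201, [(156, (-1))]), (202, [(157, (-1))]), (203, [(159, (-1))]), (227, [(204, (-1))]), (228, [(205, (-1))]), (229, [(207, (-1))]), (230, [(210, (-1))]), (231, [(214, (-1))]), (232, [(219, (-1))]), (239, [(225, 1)])]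
def M72 : Tr (List (ℕ × ℤ × ℕ × ℕ)) := (.node [] (.node [] (.node [] (.node [] (.node [] (.node [(10, (-1), 1, 1)] (.node [] .nil (.node [(149, (-1), 1, 1)] .nil .nil)) (.node [(58, 1, 1, 1)] .nil .nil)) (.node [] (.node [(36, (-1), 1, 1)] .nil .nil) .nil)) (.node [] (.node [] (.node [] .nil (.node [(155, 1, 1, 1)] .nil .nil)) (.node [] .nil (.node [(215, 1, 1, 1)] .nil .nil))) (.node [] (.node [(44, 1, 1, 1)] .nil .nil) (.node [(71, 1, 1, 1)] (.node [(146, 1, 1, 1)] .nil .nil) .nil)))) (.node [] (.node [(7, (-1), 1, 1)] (.node [(13, 1, 1, 1)] (.node [] .nil (.node [(152, (-1), 1, 1)] .nil .nil)) (.node [] (.node [(106, (-1), 1, 1)] .nil .nil) .nil)) (.node [] (.node [(39, 1, 1, 1)] .nil .nil) (.node [] (.node [(143, (-1), 1, 1)] .nil .nil) .nil))) (.node [] (.node [] (.node [] (.node [(77, 1, 1, 1)] .nil .nil) (.node [(160, 1, 1, 1)] .nil .nil)) .nil) (.node [] (.node [(50, 1, 1, 1)] .nil .nil) .nil)))) (.node [] (.node [] (.node []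 (.node [(11, (-1), 1, 1)] (.node [] .nil (.node [(151, 1, 1, 1)] .nil .nil)) (.node [(63, 1, 1, 1)] .nil .nil)) (.node [] (.node [(37, (-1), 1, 1)] .nil .nil) .nil)) (.node [] .nil (.node [] .nil (.node [(73, 1, 1, 1)] .nil .nil)))) (.node [] (.node [] (.node [] (.node [] (.node [(76, 1, 1, 1)] .nil .nil) (.node [(153, (-1), 1, 1)] .nil .nil)) (.node [] (.node [(115, (-1), 1, 1)] .nil .nil) (.node [(208, 1, 1, 1)] .nil .nil))) (.node [] .nil (.node [] (.node [(144, (-1), 1, 1)] .nil .nil) .nil))) (.node [] .nil (.node [] (.node [(56, (-1), 1, 1)] .nil .nil) (.node [] (.node [(148, (-1), 1, 1)] .nil .nil) .nil)))))) (.node [] (.node [] (.node [] (.node [] (.node [] (.node [] (.node [(75, 1, 1, 1)] .nil .nil) .nil) (.node [(60, 1, 1, 1)] .nil .nil)) (.node [] .nil (.node [] (.node [(142, (-1), 1, 1)] .nil .nil) .nil))) (.node [(8, (-1), 1, 1)] (.node [] (.node [] .nil (.node [(156, (-1), 1, 1)] .nil .nil)) (.node [] (.node [(120, (-1),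 1, 1)] .nil .nil) (.node [(220, 1, 1, 1)] .nil .nil))) (.node [] (.node [(46, (-1), 1, 1)] .nil .nil) .nil))) (.node [] (.node [] (.node [] .nil (.node [] (.node [(111, (-1), 1, 1)] .nil .nil) (.node [(206, 1, 1, 1)] .nil .nil))) (.node [] (.node [(40, (-1), 1, 1)] .nil .nil) .nil)) (.node [(9, (-1), 1, 1)] (.node [] .nil (.node [] (.node [(141, (-1), 1, 1)] .nil .nil) .nil)) (.node [] (.node [(53, 1, 1, 1)] .nil .nil) (.node [(74, 1, 1, 1)] .nil .nil))))) (.node [] (.node [] (.node [] (.node [] .nil (.node [(67, 1, 1, 1)] (.node [(100, (-1), 1, 1)] .nil .nil) (.node [(204, (-1), 1, 1)] .nil .nil))) .nil) (.node [] (.node [] (.node [] .nil (.node [(158, 1, 1, 1)] .nil .nil)) .nil) (.node [] (.node [(48, 1, 1, 1)] .nil .nil) (.node [] (.node [(147, (-1), 1, 1)] .nil .nil) .nil)))) (.node [(1, (-1), 1, 1)] (.node [] (.node [] .nil (.node [] (.node [(118, (-1), 1, 1)] .nil .nil) (.node [(211, 1, 1, 1)] .nil .nil))) (.node [] (.node [(42,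 1, 1, 1)] .nil .nil) .nil)) (.node [] (.node [] .nil (.node [] .nil (.node [(225, 1, 1, 1)] .nil .nil))) .nil)))))
def C72 : List (ℕ × List (ℕ × ℤ)) := [(14, [(1, (-1))]), (19, [(7, (-1))]), (24, [(8, (-1))]), (28, [(9, (-1))]), (31, [(10, (-1))]), (33, [(11, (-1))]), (35, [(13, 1)]), (79, [(36, (-1))]), (81, [(37, (-1))]), (83, [(39, 1)]), (84, [(40, (-1))]), (86, [(42, 1)]), (87, [(44, 1)]), (88, [(46, (-1))]), (90, [(48, 1)]), (91, [(50, 1)]), (92, [(53, 1)]), (93, [(56, (-1))]), (95, [(58, 1)]), (96, [(60, 1)]), (97, [(63, 1)]), (98, [(67, 1)]), (119, [(71, 1)]), (121, [(73, 1)]), (124, [(74, 1)]), (128, [(75, 1)]), (133, [(76, 1)]), (139, [(77, 1)]), (162, [(100, (-1))]), (163, [(106, (-1))]), (164, [(111, (-1))]), (165, [(115, (-1))]), (166, [(118, (-1))]), (168, [(120, (-1))]), (172, [(141, (-1))]), (176, [(142, (-1))]), (179, [(143, (-1))]), (181, [(144, (-1))]), (183, [(146, 1)]), (186, [(147, (-1))]), (189, [(148, (-1))]), (191,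 [(149, (-1))]), (193, [(151, 1)]), (195, [(152, (-1))]), (197, [(153, (-1))]), (199, [(155, 1)]), (200, [(156, (-1))]), (202, [(158, 1)]), (203, [(160, 1)]), (226, [(204, (-1))]), (228, [(206, 1)]), (229, [(208, 1)]), (230, [(211, 1)]), (231, [(215, 1)]), (232, [(220, 1)]), (238, [(225, 1)])]
def M73 : Tr (List (ℕ × ℤ × ℕ × ℕ)) := (.node [] (.node [] (.node [] (.node [] (.node [] (.node [] (.node [] (.node [(75, 1, 1, 1)] .nil .nil) (.node [(150, 1, 1, 1)] .nil .nil)) .nil) (.node [] .nil (.node [] (.node [(142, (-1), 1, 1)] .nil .nil) .nil))) (.node [(8, 1, 1, 1)] (.node [] .nil (.node [] (.node [(121, (-1), 1, 1)] .nil .nil) (.node [(216, (-1), 1, 1)] .nil .nil))) (.node [] (.node [(45, 1, 1, 1)] .nil .nil) .nil))) (.node [] (.node [] (.node [] .nil (.node [] (.node [(107, (-1), 1, 1)] .nil .nil) (.node [(206, 1, 1, 1)] .nil .nil))) .nil) (.node [(9, 1, 1, 1)] (.node [] (.node [] .nil (.node [(161, (-1), 1, 1)] .nil .nil)) (.node []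 (.node [(141, (-1), 1, 1)] .nil .nil) .nil)) (.node [] (.node [(51, 1, 1, 1)] .nil .nil) (.node [(74, 1, 1, 1)] .nil .nil))))) (.node [] (.node [] (.node [] (.node [(12, (-1), 1, 1)] .nil (.node [(64, 1, 1, 1)] .nil .nil)) (.node [] (.node [(38, (-1), 1, 1)] .nil .nil) .nil)) (.node [] (.node [] (.node [] .nil (.node [(158, 1, 1, 1)] .nil .nil)) .nil) (.node [] (.node [(48, (-1), 1, 1)] .nil .nil) (.node [] (.node [(147, (-1), 1, 1)] .nil .nil) .nil)))) (.node [] (.node [] (.node [] (.node [] .nil (.node [(154, 1, 1, 1)] .nil .nil)) (.node [] (.node [(116, (-1), 1, 1)] .nil .nil) (.node [(209, (-1), 1, 1)] .nil .nil))) (.node [] (.node [(42, (-1), 1, 1)] .nil .nil) (.node [(71, 1, 1, 1)] (.node [(145, 1, 1, 1)] .nil .nil) .nil))) (.node [] (.node [] .nil (.node [] .nil (.node [(225, 1, 1, 1)] .nil .nil))) (.node [] (.node [(57, (-1), 1, 1)] .nil .nil) .nil))))) (.node [] (.node [] (.node [] (.node [] (.node [] (.node [] .nil (.node [(151,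 1, 1, 1)] .nil .nil)) (.node [(61, 1, 1, 1)] .nil .nil)) .nil) (.node [] (.node [] (.node [] .nil (.node [(157, 1, 1, 1)] .nil .nil)) (.node [] (.node [(122, (-1), 1, 1)] .nil .nil) (.node [(221, (-1), 1, 1)] .nil .nil))) (.node [] (.node [(47, (-1), 1, 1)] .nil .nil) .nil))) (.node [] (.node [] (.node [] (.node [] (.node [(76, 1, 1, 1)] .nil .nil) .nil) (.node [] (.node [(112, (-1), 1, 1)] .nil .nil) .nil)) (.node [] (.node [(41, (-1), 1, 1)] .nil .nil) .nil)) (.node [] .nil (.node [] (.node [(54, 1, 1, 1)] .nil .nil) (.node [] (.node [(148, (-1), 1, 1)] .nil .nil) .nil))))) (.node [] (.node [] (.node [(7, 1, 1, 1)] (.node [(13, (-1), 1, 1)] (.node [] .nil (.node [(152, (-1), 1, 1)] .nil .nil)) (.node [(68, 1, 1, 1)] (.node [(101, (-1), 1, 1)] .nil .nil) (.node [(205, 1, 1, 1)] .nil .nil))) (.node [] (.node [(39, (-1), 1, 1)] .nil .nil) (.node [] (.node [(143, (-1), 1, 1)] .nil .nil) .nil))) (.node [] (.node [] (.node [] (.node [(77,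 1, 1, 1)] .nil .nil) .nil) .nil) .nil)) (.node [(2, (-1), 1, 1)] (.node [] (.node [] (.node [] .nil (.node [(155, 1, 1, 1)] .nil .nil)) (.node [] .nil (.node [(212, (-1), 1, 1)] .nil .nil))) (.node [] .nil (.node [(72, 1, 1, 1)] (.node [(146, 1, 1, 1)] .nil .nil) .nil))) (.node [(10, 1, 1, 1)] (.node [] (.node [(36, 1, 1, 1)] .nil .nil) .nil) (.node [] (.node [(58, (-1), 1, 1)] .nil .nil) .nil))))))
def C73 : List (ℕ × List (ℕ × ℤ)) := [(14, [(2, (-1))]), (18, [(7, 1)]), (23, [(8, 1)]), (27, [(9, 1)]), (30, [(10, 1)]), (33, [(12, (-1))]), (34, [(13, (-1))]), (78, [(36, 1)]), (81, [(38, (-1))]), (82, [(39, (-1))]), (84, [(41, (-1))]), (85, [(42, (-1))]), (87, [(45, 1)]), (88, [(47, (-1))]), (89, [(48, (-1))]), (91, [(51, 1)]), (92, [(54, 1)]), (93, [(57, (-1))]), (94, [(58, (-1))]), (96, [(61, 1)]), (97, [(64, 1)]), (98, [(68, 1)]), (117, [(71, 1)]), (118, [(72, 1)]), (123, [(74, 1)]), (127, [(75, 1)]), (132, [(76, 1)]), (138, [(77, 1)]),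 (162, [(101, (-1))]), (163, [(107, (-1))]), (164, [(112, (-1))]), (165, [(116, (-1))]), (167, [(121, (-1))]), (168, [(122, (-1))]), (171, [(141, (-1))]), (175, [(142, (-1))]), (178, [(143, (-1))]), (181, [(145, 1)]), (182, [(146, 1)]), (185, [(147, (-1))]), (188, [(148, (-1))]), (191, [(150, 1)]), (192, [(151, 1)]), (194, [(152, (-1))]), (197, [(154, 1)]), (198, [(155, 1)]), (200, [(157, 1)]), (201, [(158, 1)]), (203, [(161, (-1))]), (226, [(205, 1)]), (227, [(206, 1)]), (229, [(209, (-1))]), (230, [(212, (-1))]), (231, [(216, (-1))]), (232, [(221, (-1))]), (237, [(225, 1)])]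
def M74 : Tr (List (ℕ × ℤ × ℕ × ℕ)) := (.node [] (.node [] (.node [] (.node [] (.node [] (.node [(12, 1, 1, 1)] .nil (.node [(61, (-1), 1, 1)] .nil .nil)) (.node [] (.node [(38, 1, 1, 1)] .nil .nil) .nil)) (.node [] (.node [] .nil (.node [] (.node [(124, (-1), 1, 1)] .nil .nil) (.node [(217, 1, 1, 1)] .nil .nil))) .nil)) (.node [] (.node [] (.node [] (.node [] (.node [(76, 1, 1, 1)] .nil .nil) (.node [(154, 1, 1, 1)] .nil .nil)) (.node [] (.node [(108, (-1), 1, 1)] .nil .nil) (.node [(208, (-1), 1, 1)] .nil .nil))) (.node [] .nil (.node [(72, 1, 1, 1)] (.node [(145, 1, 1, 1)] .nil .nil) .nil))) .nil)) (.node [] (.node [] (.node [(7, (-1), 1, 1)] (.node [] .nil (.node [(65, 1, 1, 1)] .nil .nil)) .nil) (.node [] (.node [] (.node [] (.node [(77, 1, 1, 1)] .nil .nil) (.node [(160, (-1), 1, 1)] .nil .nil)) .nil) (.node [] (.node [(50, (-1), 1, 1)] .nil .nil) .nil))) (.node [] (.node [] .nil (.node [] (.node [(44, (-1), 1, 1)] .nil .nil) .nil))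 (.node [] .nil (.node [] (.node [(59, (-1), 1, 1)] .nil .nil) (.node [] (.node [(150, 1, 1, 1)] .nil .nil) .nil)))))) (.node [] (.node [] (.node [] (.node [] (.node [(13, 1, 1, 1)] .nil .nil) (.node [] (.node [(39, 1, 1, 1)] .nil .nil) .nil)) (.node [] (.node [] (.node [] .nil (.node [(159, (-1), 1, 1)] .nil .nil)) (.node [] (.node [(125, (-1), 1, 1)] .nil .nil) (.node [(222, 1, 1, 1)] .nil .nil))) (.node [] (.node [(49, (-1), 1, 1)] .nil .nil) (.node [] (.node [(147, (-1), 1, 1)] .nil .nil) .nil)))) (.node [] (.node [] (.node [] (.node [] .nil (.node [(155, 1, 1, 1)] .nil .nil)) (.node [] (.node [(113, (-1), 1, 1)] .nil .nil) (.node [(209, (-1), 1, 1)] .nil .nil))) (.node [] (.node [(43, (-1), 1, 1)] .nil .nil) (.node [(73, 1, 1, 1)] (.node [(146, 1, 1, 1)] .nil .nil) .nil))) (.node [] (.node [] .nil (.node [] .nil (.node [(225, 1, 1, 1)] .nil .nil))) (.node [] (.node [(55, 1, 1, 1)] .nil .nil) (.node [] (.node [(149, 1, 1, 1)] .nil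 .nil) .nil))))) (.node [] (.node [] (.node [] (.node [] (.node [] .nil (.node [(153, 1, 1, 1)] .nil .nil)) (.node [(69, 1, 1, 1)] (.node [(102, (-1), 1, 1)] .nil .nil) (.node [(207, (-1), 1, 1)] .nil .nil))) (.node [] .nil (.node [(71, 1, 1, 1)] (.node [(144, 1, 1, 1)] .nil .nil) .nil))) (.node [(9, (-1), 1, 1)] (.node [] (.node [] .nil (.node [(161, (-1), 1, 1)] .nil .nil)) (.node [] (.node [(141, (-1), 1, 1)] .nil .nil) .nil)) (.node [] (.node [(51, (-1), 1, 1)] .nil .nil) .nil))) (.node [(3, (-1), 1, 1)] (.node [(8, (-1), 1, 1)] (.node [] .nil (.node [] (.node [(123, (-1), 1, 1)] .nil .nil) (.node [(213, 1, 1, 1)] .nil .nil))) (.node [] (.node [(45, (-1), 1, 1)] .nil .nil) .nil)) (.node [(11, 1, 1, 1)] (.node [] (.node [(37, 1, 1, 1)] .nil .nil) (.node [] (.node [(142, (-1), 1, 1)] .nil .nil) .nil)) (.node [] (.node [(60, (-1), 1, 1)] .nil .nil) (.node [(75, 1, 1, 1)] (.node [(151, 1, 1, 1)] .nil .nil) .nil)))))))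
def C74 : List (ℕ × List (ℕ × ℤ)) := [(14, [(3, (-1))]), (17, [(7, (-1))]), (22, [(8, (-1))]), (26, [(9, (-1))]), (30, [(11, 1)]), (31, [(12, 1)]), (32, [(13, 1)]), (78, [(37, 1)]), (79, [(38, 1)]), (80, [(39, 1)]), (84, [(43, (-1))]), (85, [(44, (-1))]), (86, [(45, (-1))]), (88, [(49, (-1))]), (89, [(50, (-1))]), (90, [(51, (-1))]), (92, [(55, 1)]), (93, [(59, (-1))]), (94, [(60, (-1))]), (95, [(61, (-1))]), (97, [(65, 1)]), (98, [(69, 1)]), (114, [(71, 1)]), (115, [(72, 1)]), (116, [(73, 1)]), (126, [(75, 1)]), (131, [(76, 1)]), (137, [(77, 1)]), (162, [(102, (-1))]), (163, [(108, (-1))]), (164, [(113, (-1))]), (166, [(123, (-1))]), (167, [(124, (-1))]), (168, [(125, (-1))]), (170, [(141, (-1))]), (174, [(142, (-1))]), (178, [(144, 1)]), (179, [(145, 1)]), (180, [(146, 1)]), (184, [(147, (-1))]), (188, [(149, 1)]), (189, [(150, 1)]), (190, [(151, 1)]), (194, [(153, 1)]), (195, [(154, 1)]), (196, [(155, 1)]), (200, [(159, (-1))]), (201,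 [(160, (-1))]), (202, [(161, (-1))]), (226, [(207, (-1))]), (227, [(208, (-1))]), (228, [(209, (-1))]), (230, [(213, 1)]), (231, [(217, 1)]), (232, [(222, 1)]), (236, [(225, 1)])]
def M75 : Tr (List (ℕ × ℤ × ℕ × ℕ)) := (.node [] (.node [] (.node [] (.node [] (.node [] (.node [] .nil (.node [(64, (-1), 1, 1)] .nil .nil)) (.node [] (.node [(41, 1, 1, 1)] .nil .nil) (.node [(72, 1, 1, 1)] (.node [(144, 1, 1, 1)] .nil .nil) .nil))) (.node [] (.node [] (.node [] .nil (.node [(161, (-1), 1, 1)] .nil .nil)) (.node [] (.node [(128, (-1), 1, 1)] .nil .nil) (.node [(218, (-1), 1, 1)] .nil .nil))) .nil)) (.node [] (.node [] (.node [] (.node [] .nil (.node [(157, (-1), 1, 1)] .nil .nil)) (.node [] (.node [(109, (-1), 1, 1)] .nil .nil) (.node [(211, 1, 1, 1)] .nil .nil))) (.node [] (.node [(45, 1, 1, 1)] .nil .nil) .nil)) (.node [(11, (-1), 1, 1)] (.node [] .nil (.node [] .nil (.node [(225, 1, 1, 1)] .nil .nil))) (.node [] (.node [(55, (-1), 1, 1)]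 .nil .nil) (.node [] (.node [(151, 1, 1, 1)] .nil .nil) .nil))))) (.node [] (.node [] (.node [] .nil (.node [] (.node [(43, 1, 1, 1)] .nil .nil) (.node [(74, 1, 1, 1)] (.node [(146, 1, 1, 1)] .nil .nil) .nil))) (.node [] (.node [] .nil (.node [] (.node [(141, (-1), 1, 1)] .nil .nil) .nil)) (.node [] (.node [(53, (-1), 1, 1)] .nil .nil) (.node [] (.node [(149, 1, 1, 1)] .nil .nil) .nil)))) (.node [] (.node [(8, 1, 1, 1)] (.node [] (.node [] .nil (.node [(159, (-1), 1, 1)] .nil .nil)) (.node [] (.node [(126, (-1), 1, 1)] .nil .nil) (.node [(213, 1, 1, 1)] .nil .nil))) .nil) (.node [(13, (-1), 1, 1)] .nil (.node [] (.node [(62, (-1), 1, 1)] .nil .nil) .nil))))) (.node [] (.node [] (.node [] (.node [(7, 1, 1, 1)] (.node [] .nil (.node [(65, (-1), 1, 1)] .nil .nil)) (.node [] (.node [(42, 1, 1, 1)] .nil .nil) (.node [(73, 1, 1, 1)] (.node [(145, 1, 1, 1)] .nil .nil) .nil))) (.node [] (.node [] (.node [] (.node [(77, 1, 1, 1)] .nil .nil) .nil)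 (.node [] (.node [(129, (-1), 1, 1)] .nil .nil) (.node [(223, (-1), 1, 1)] .nil .nil))) (.node [] (.node [(52, (-1), 1, 1)] .nil .nil) (.node [] (.node [(148, 1, 1, 1)] .nil .nil) .nil)))) (.node [] (.node [] (.node [] (.node [] .nil (.node [(158, (-1), 1, 1)] .nil .nil)) (.node [] .nil (.node [(212, 1, 1, 1)] .nil .nil))) .nil) (.node [(12, (-1), 1, 1)] .nil .nil))) (.node [] (.node [] (.node [] (.node [] (.node [] (.node [(76, 1, 1, 1)] .nil .nil) (.node [(156, (-1), 1, 1)] .nil .nil)) (.node [(70, 1, 1, 1)] (.node [(103, (-1), 1, 1)] .nil .nil) (.node [(210, 1, 1, 1)] .nil .nil))) (.node [] (.node [(44, 1, 1, 1)] .nil .nil) .nil)) (.node [(10, (-1), 1, 1)] .nil (.node [] (.node [(54, (-1), 1, 1)] .nil .nil) (.node [] (.node [(150, 1, 1, 1)] .nil .nil) .nil)))) (.node [(4, (-1), 1, 1)] (.node [] (.node [] (.node [] .nil (.node [(160, (-1), 1, 1)] .nil .nil)) (.node [] (.node [(127, (-1), 1, 1)] .nil .nil) .nil)) .nil) (.node [] (.node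 [] (.node [(40, 1, 1, 1)] .nil .nil) (.node [(71, 1, 1, 1)] (.node [(143, 1, 1, 1)] .nil .nil) .nil)) (.node [] (.node [(63, (-1), 1, 1)] .nil .nil) .nil))))))
def C75 : List (ℕ × List (ℕ × ℤ)) := [(14, [(4, (-1))]), (16, [(7, 1)]), (21, [(8, 1)]), (26, [(10, (-1))]), (27, [(11, (-1))]), (28, [(12, (-1))]), (29, [(13, (-1))]), (78, [(40, 1)]), (79, [(41, 1)]), (80, [(42, 1)]), (81, [(43, 1)]), (82, [(44, 1)]), (83, [(45, 1)]), (88, [(52, (-1))]), (89, [(53, (-1))]), (90, [(54, (-1))]), (91, [(55, (-1))]), (93, [(62, (-1))]), (94, [(63, (-1))]), (95, [(64, (-1))]), (96, [(65, (-1))]), (98, [(70, 1)]), (110, [(71, 1)]), (111, [(72, 1)]), (112, [(73, 1)]), (113, [(74, 1)]), (130, [(76, 1)]), (136, [(77, 1)]), (162, [(103, (-1))]), (163, [(109, (-1))]), (165, [(126, (-1))]), (166, [(127, (-1))]), (167, [(128, (-1))]), (168, [(129, (-1))]), (169, [(141, (-1))]), (174, [(143, 1)]), (175, [(144, 1)]), (176, [(145, 1)]), (177, [(146, 1)]), (184,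 [(148, 1)]), (185, [(149, 1)]), (186, [(150, 1)]), (187, [(151, 1)]), (194, [(156, (-1))]), (195, [(157, (-1))]), (196, [(158, (-1))]), (197, [(159, (-1))]), (198, [(160, (-1))]), (199, [(161, (-1))]), (226, [(210, 1)]), (227, [(211, 1)]), (228, [(212, 1)]), (229, [(213, 1)]), (231, [(218, (-1))]), (232, [(223, (-1))]), (235, [(225, 1)])]
def M76 : Tr (List (ℕ × ℤ × ℕ × ℕ)) := (.node [] (.node [] (.node [] (.node [] (.node [(7, (-1), 1, 1)] (.node [] (.node [] .nil (.node [(159, (-1), 1, 1)] .nil .nil)) (.node [(68, (-1), 1, 1)] .nil .nil)) (.node [] (.node [(47, 1, 1, 1)] .nil .nil) .nil)) (.node [(11, 1, 1, 1)] (.node [] (.node [] (.node [(77, 1, 1, 1)] .nil .nil) .nil) (.node [] (.node [(133, (-1), 1, 1)] .nil .nil) .nil)) (.node [] (.node [(55, 1, 1, 1)] .nil .nil) .nil))) (.node [] (.node [] (.node [] .nil (.node [] .nil (.node [(215, (-1), 1, 1)] .nil .nil))) (.node [] (.node [(51, 1, 1, 1)] .nil .nil) .nil)) (.node [] (.node []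 .nil (.node [(73, 1, 1, 1)] (.node [(144, 1, 1, 1)] .nil .nil) .nil)) (.node [] .nil (.node [] (.node [(155, (-1), 1, 1)] .nil .nil) .nil))))) (.node [] (.node [] (.node [] (.node [] (.node [] .nil (.node [(161, (-1), 1, 1)] .nil .nil)) (.node [(70, (-1), 1, 1)] .nil .nil)) (.node [] (.node [(49, 1, 1, 1)] .nil .nil) .nil)) (.node [(13, 1, 1, 1)] (.node [] .nil (.node [(71, 1, 1, 1)] (.node [(142, 1, 1, 1)] .nil .nil) .nil)) (.node [] .nil (.node [] (.node [(153, (-1), 1, 1)] .nil .nil) .nil)))) (.node [] (.node [(9, 1, 1, 1)] (.node [] .nil (.node [] (.node [(131, (-1), 1, 1)] .nil .nil) (.node [(217, (-1), 1, 1)] .nil .nil))) (.node [] (.node [(53, 1, 1, 1)] .nil .nil) .nil)) (.node [] (.node [] .nil (.node [(75, 1, 1, 1)] (.node [(146, 1, 1, 1)] .nil .nil) .nil)) (.node [] (.node [(66, (-1), 1, 1)] .nil .nil) (.node [] (.node [(157, (-1), 1, 1)] .nil .nil) .nil)))))) (.node [] (.node [] (.node [] (.node [] (.node [] (.node [] .nil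 (.node [(160, (-1), 1, 1)] .nil .nil)) (.node [(69, (-1), 1, 1)] .nil .nil)) (.node [] (.node [(48, 1, 1, 1)] .nil .nil) .nil)) (.node [(12, 1, 1, 1)] (.node [] .nil (.node [] (.node [(134, (-1), 1, 1)] .nil .nil) (.node [(224, 1, 1, 1)] .nil .nil))) (.node [] .nil (.node [] (.node [(152, (-1), 1, 1)] .nil .nil) .nil)))) (.node [] (.node [] (.node [] .nil (.node [] (.node [(130, (-1), 1, 1)] .nil .nil) (.node [(216, (-1), 1, 1)] .nil .nil))) (.node [] (.node [(52, 1, 1, 1)] .nil .nil) .nil)) (.node [] (.node [] .nil (.node [(74, 1, 1, 1)] (.node [(145, 1, 1, 1)] .nil .nil) .nil)) (.node [] .nil (.node [] (.node [(156, (-1), 1, 1)] .nil .nil) .nil))))) (.node [] (.node [] (.node [] (.node [] .nil (.node [] (.node [(104, (-1), 1, 1)] .nil .nil) (.node [(214, (-1), 1, 1)] .nil .nil))) (.node [] (.node [(50, 1, 1, 1)] .nil .nil) .nil)) (.node [] (.node [] .nil (.node [(72, 1, 1, 1)] (.node [(143, 1, 1, 1)] .nil .nil) (.node [(225, 1, 1, 1)]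 .nil .nil))) (.node [] .nil (.node [] (.node [(154, (-1), 1, 1)] .nil .nil) .nil)))) (.node [(5, (-1), 1, 1)] (.node [(10, 1, 1, 1)] (.node [] .nil (.node [] (.node [(132, (-1), 1, 1)] .nil .nil) (.node [(218, (-1), 1, 1)] .nil .nil))) (.node [] (.node [(54, 1, 1, 1)] .nil .nil) .nil)) (.node [] (.node [] (.node [(46, 1, 1, 1)] .nil .nil) .nil) (.node [] (.node [(67, (-1), 1, 1)] .nil .nil) (.node [] (.node [(158, (-1), 1, 1)] .nil .nil) .nil)))))))
def C76 : List (ℕ × List (ℕ × ℤ)) := [(14, [(5, (-1))]), (15, [(7, (-1))]), (21, [(9, 1)]), (22, [(10, 1)]), (23, [(11, 1)]), (24, [(12, 1)]), (25, [(13, 1)]), (78, [(46, 1)]), (79, [(47, 1)]), (80, [(48, 1)]), (81, [(49, 1)]), (82, [(50, 1)]), (83, [(51, 1)]), (84, [(52, 1)]), (85, [(53, 1)]), (86, [(54, 1)]), (87, [(55, 1)]), (93, [(66, (-1))]), (94, [(67, (-1))]), (95, [(68, (-1))]), (96, [(69, (-1))]), (97, [(70, (-1))]), (105, [(71, 1)]), (106, [(72, 1)]), (107, [(73, 1)]), (108, [(74,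 1)]), (109, [(75, 1)]), (135, [(77, 1)]), (162, [(104, (-1))]), (164, [(130, (-1))]), (165, [(131, (-1))]), (166, [(132, (-1))]), (167, [(133, (-1))]), (168, [(134, (-1))]), (169, [(142, 1)]), (170, [(143, 1)]), (171, [(144, 1)]), (172, [(145, 1)]), (173, [(146, 1)]), (184, [(152, (-1))]), (185, [(153, (-1))]), (186, [(154, (-1))]), (187, [(155, (-1))]), (188, [(156, (-1))]), (189, [(157, (-1))]), (190, [(158, (-1))]), (191, [(159, (-1))]), (192, [(160, (-1))]), (193, [(161, (-1))]), (226, [(214, (-1))]), (227, [(215, (-1))]), (228, [(216, (-1))]), (229, [(217, (-1))]), (230, [(218, (-1))]), (232, [(224, 1)]), (234, [(225, 1)])]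
def M77 : Tr (List (ℕ × ℤ × ℕ × ℕ)) := (.node [] (.node [] (.node [] (.node [] (.node [(8, (-1), 1, 1)] .nil (.node [] (.node [(57, 1, 1, 1)] .nil .nil) (.node [] (.node [(153, (-1), 1, 1)] .nil .nil) .nil))) (.node [] (.node [] .nil (.node [(75, 1, 1, 1)] (.node [(139, (-1), 1, 1)] .nil .nil) (.node [(224, 1, 1, 1)] .nil .nil))) (.node [] (.node [(65, 1, 1, 1)] .nil .nil) (.node [] (.node [(161, (-1), 1, 1)] .nil .nil) .nil)))) (.node [] (.node [(12, (-1), 1, 1)] (.node [] .nil (.node [(71, 1, 1, 1)] (.node [(135, (-1), 1, 1)] .nil .nil) (.node [(220, 1, 1, 1)] .nil .nil))) (.node [] (.node [(61, 1, 1, 1)] .nil .nil) (.node [] (.node [(157, (-1), 1, 1)] .nil .nil) .nil))) (.node [] (.node [] .nil (.node [] (.node [(149, (-1), 1, 1)] .nil .nil) .nil)) (.node [] (.node [(69, 1, 1, 1)] .nil .nil) .nil)))) (.node [] (.node [] (.node [(10, (-1), 1, 1)] .nil (.node [] (.node [(59, 1, 1, 1)] .nil .nil) (.node [] (.node [(155, (-1), 1, 1)] .nil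 .nil) .nil))) (.node [] (.node [] .nil (.node [] (.node [(147, (-1), 1, 1)] .nil .nil) (.node [(225, 1, 1, 1)] .nil .nil))) (.node [] (.node [(67, 1, 1, 1)] .nil .nil) .nil))) (.node [] (.node [] (.node [] .nil (.node [(73, 1, 1, 1)] (.node [(137, (-1), 1, 1)] .nil .nil) (.node [(222, 1, 1, 1)] .nil .nil))) (.node [] (.node [(63, 1, 1, 1)] .nil .nil) (.node [] (.node [(159, (-1), 1, 1)] .nil .nil) .nil))) (.node [] (.node [] .nil (.node [] (.node [(151, (-1), 1, 1)] .nil .nil) .nil)) .nil)))) (.node [] (.node [] (.node [] (.node [(9, (-1), 1, 1)] .nil (.node [] (.node [(58, 1, 1, 1)] .nil .nil) (.node [] (.node [(154, (-1), 1, 1)] .nil .nil) .nil))) (.node [] (.node [] .nil (.node [(76, 1, 1, 1)] (.node [(140, (-1), 1, 1)] .nil .nil) .nil)) (.node [] (.node [(66, 1, 1, 1)] .nil .nil) .nil))) (.node [] (.node [(13, (-1), 1, 1)] (.node [] .nil (.node [(72, 1, 1, 1)] (.node [(136, (-1), 1, 1)] .nil .nil) (.node [(221, 1, 1, 1)] .nil .nil)))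 (.node [] (.node [(62, 1, 1, 1)] .nil .nil) (.node [] (.node [(158, (-1), 1, 1)] .nil .nil) .nil))) (.node [] (.node [] .nil (.node [] (.node [(150, (-1), 1, 1)] .nil .nil) .nil)) (.node [] (.node [(70, 1, 1, 1)] .nil .nil) .nil)))) (.node [] (.node [] (.node [(11, (-1), 1, 1)] (.node [] .nil (.node [] .nil (.node [(219, 1, 1, 1)] .nil .nil))) (.node [] (.node [(60, 1, 1, 1)] .nil .nil) (.node [] (.node [(156, (-1), 1, 1)] .nil .nil) .nil))) (.node [] (.node [] .nil (.node [] (.node [(148, (-1), 1, 1)] .nil .nil) .nil)) (.node [] (.node [(68, 1, 1, 1)] .nil .nil) .nil))) (.node [(6, (-1), 1, 1)] (.node [] (.node [] .nil (.node [(74, 1, 1, 1)] (.node [(138, (-1), 1, 1)] .nil .nil) (.node [(223, 1, 1, 1)] .nil .nil))) (.node [] (.node [(64, 1, 1, 1)] .nil .nil) (.node [] (.node [(160, (-1), 1, 1)] .nil .nil) .nil))) (.node [] (.node [] (.node [(56, 1, 1, 1)] .nil .nil) (.node [] (.node [(152, (-1), 1, 1)] .nil .nil) .nil)) .nil)))))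
def C77 : List (ℕ × List (ℕ × ℤ)) := [(14, [(6, (-1))]), (15, [(8, (-1))]), (16, [(9, (-1))]), (17, [(10, (-1))]), (18, [(11, (-1))]), (19, [(12, (-1))]), (20, [(13, (-1))]), (78, [(56, 1)]), (79, [(57, 1)]), (80, [(58, 1)]), (81, [(59, 1)]), (82, [(60, 1)]), (83, [(61, 1)]), (84, [(62, 1)]), (85, [(63, 1)]), (86, [(64, 1)]), (87, [(65, 1)]), (88, [(66, 1)]), (89, [(67, 1)]), (90, [(68, 1)]), (91, [(69, 1)]), (92, [(70, 1)]), (99, [(71, 1)]), (100, [(72, 1)]), (101, [(73, 1)]), (102, [(74, 1)]), (103, [(75, 1)]), (104, [(76, 1)]), (163, [(135, (-1))]), (164, [(136, (-1))]), (165, [(137, (-1))]), (166, [(138, (-1))]), (167, [(139, (-1))]), (168, [(140, (-1))]), (169, [(147, (-1))]), (170, [(148, (-1))]), (171, [(149, (-1))]), (172, [(150, (-1))]), (173, [(151, (-1))]), (174, [(152, (-1))]), (175, [(153, (-1))]), (176, [(154, (-1))]), (177, [(155, (-1))]), (178, [(156, (-1))]), (179, [(157, (-1))]), (180, [(158, (-1))]), (181, [(159, (-1))]),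 (182, [(160, (-1))]), (183, [(161, (-1))]), (226, [(219, 1)]), (227, [(220, 1)]), (228, [(221, 1)]), (229, [(222, 1)]), (230, [(223, 1)]), (231, [(224, 1)]), (233, [(225, 1)])]
def M78 : Tr (List (ℕ × ℤ × ℕ × ℕ)) := (.node [] (.node [] (.node [] (.node [] (.node [] (.node [] .nil (.node [] (.node [(117, 1, 1, 1)] .nil .nil) (.node [(188, 1, 1, 1)] .nil .nil))) (.node [] .nil (.node [] .nil (.node [(227, (-1), 1, 1)] .nil .nil)))) (.node [] (.node [] (.node [] .nil (.node [(164, 1, 1, 1)] .nil .nil)) .nil) (.node [(18, (-1), 1, 1)] (.node [] (.node [(106, (-1), 1, 1)] .nil .nil) .nil) (.node [] (.node [(162, 1, 1, 1)] .nil .nil) .nil)))) (.node [] (.node [] (.node [(14, (-1), 1, 1)] .nil .nil) (.node [(16, (-1), 1, 1)] .nil .nil)) (.node [] (.node [] (.node [(40, (-1), 1, 1)] (.node [(93, 1, 1, 1)] .nil .nil) (.node [(166, 1, 1, 1)] .nil .nil)) .nil) (.node [] (.node [] (.node [(111, (-1), 1, 1)] .nil .nil) .nil) .nil)))) (.node [] (.node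 [] (.node [] (.node [] (.node [(23, (-1), 1, 1)] (.node [(85, (-1), 1, 1)] .nil .nil) (.node [(163, 1, 1, 1)] .nil .nil)) (.node [] .nil (.node [(204, 1, 1, 1)] .nil .nil))) (.node [] (.node [] (.node [(99, 1, 1, 1)] .nil .nil) (.node [(169, 1, 1, 1)] .nil .nil)) .nil)) (.node [] (.node [] (.node [(36, (-1), 1, 1)] .nil .nil) .nil) (.node [] (.node [] .nil (.node [(175, 1, 1, 1)] .nil .nil)) (.node [(79, 1, 1, 1)] .nil .nil)))) (.node [(1, 1, 1, 1)] (.node [] (.node [] (.node [(27, (-1), 1, 1)] (.node [(88, 1, 1, 1)] .nil .nil) .nil) .nil) (.node [] (.node [] .nil (.node [(171, 1, 1, 1)] .nil .nil)) .nil)) (.node [] (.node [(15, (-1), 1, 1)] (.node [(56, (-1), 1, 1)] .nil .nil) .nil) (.node [(21, (-1), 1, 1)] (.node [] (.node [(114, 1, 1, 1)] .nil .nil) (.node [(184, 1, 1, 1)] .nil .nil)) (.node [(82, (-1), 1, 1)] .nil .nil)))))) (.node [] (.node [] (.node [] (.node [] (.node [] (.node [(22, (-1), 1, 1)] (.node [(84, 1, 1, 1)] .nil .nil)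 .nil) (.node [] (.node [(118, (-1), 1, 1)] .nil .nil) (.node [(194, 1, 1, 1)] .nil .nil))) .nil) (.node [] .nil (.node [] (.node [] .nil (.node [(174, 1, 1, 1)] .nil .nil)) .nil))) (.node [(0, 1, 1, 1)] (.node [] (.node [] (.node [(26, (-1), 1, 1)] .nil .nil) .nil) (.node [] (.node [] .nil (.node [(170, 1, 1, 1)] .nil .nil)) .nil)) (.node [] (.node [] (.node [(46, (-1), 1, 1)] (.node [(94, (-1), 1, 1)] .nil .nil) .nil) .nil) (.node [] .nil (.node [(81, 1, 1, 1)] .nil .nil))))) (.node [] (.node [] (.node [] .nil (.node [] (.node [] (.node [(100, (-1), 1, 1)] .nil .nil) .nil) .nil)) (.node [] (.node [] (.node [(37, (-1), 1, 1)] .nil (.node [(165, 1, 1, 1)] .nil .nil)) .nil) (.node [] (.node [] (.node [(110, 1, 1, 1)] .nil .nil) (.node [(178, 1, 1, 1)] .nil .nil)) (.node [(80, (-1), 1, 1)] .nil .nil)))) (.node [] (.node [] (.node [] (.node [(30, (-1), 1, 1)] (.node [(89, (-1), 1, 1)] .nil .nil) .nil) .nil) (.node [(17, (-1), 1, 1)] (.node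 [] (.node [(105, 1, 1, 1)] .nil .nil) .nil) .nil)) (.node [] (.node [] .nil (.node [] .nil (.node [(226, (-1), 1, 1)] .nil .nil))) (.node [] (.node [] (.node [(115, (-1), 1, 1)] .nil .nil) (.node [(185, 1, 1, 1)] .nil .nil)) .nil))))))
def C78 : List (ℕ × List (ℕ × ℤ)) := [(12, [(0, 1)]), (13, [(1, 1)]), (35, [(14, (-1))]), (45, [(15, (-1))]), (51, [(16, (-1))]), (54, [(17, (-1))]), (55, [(18, (-1))]), (61, [(21, (-1))]), (64, [(22, (-1))]), (65, [(23, (-1))]), (68, [(26, (-1))]), (69, [(27, (-1))]), (70, [(30, (-1))]), (73, [(36, (-1))]), (74, [(37, (-1))]), (75, [(40, (-1))]), (76, [(46, (-1))]), (77, [(56, (-1))]), (121, [(79, 1)]), (122, [(80, (-1))]), (124, [(81, 1)]), (125, [(82, (-1))]), (128, [(84, 1)]), (129, [(85, (-1))]), (133, [(88, 1)]), (134, [(89, (-1))]), (139, [(93, 1)]), (140, [(94, (-1))]), (145, [(99, 1)]), (146, [(100, (-1))]), (150, [(105, 1)]), (151, [(106, (-1))]), (154, [(110, 1)]), (155, [(111, (-1))]), (157,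 [(114, 1)]), (158, [(115, (-1))]), (159, [(117, 1)]), (160, [(118, (-1))]), (183, [(162, 1)]), (193, [(163, 1)]), (199, [(164, 1)]), (202, [(165, 1)]), (203, [(166, 1)]), (209, [(169, 1)]), (212, [(170, 1)]), (213, [(171, 1)]), (216, [(174, 1)]), (217, [(175, 1)]), (218, [(178, 1)]), (221, [(184, 1)]), (222, [(185, 1)]), (223, [(188, 1)]), (224, [(194, 1)]), (225, [(204, 1)]), (238, [(226, (-1))]), (239, [(227, (-1))])]
def M79 : Tr (List (ℕ × ℤ × ℕ × ℕ)) := (.node [] (.node [] (.node [] (.node [] (.node [] (.node [] (.node [(22, 1, 1, 1)] (.node [(84, 1, 1, 1)] .nil .nil) .nil) (.node [] (.node [(119, (-1), 1, 1)] .nil .nil) (.node [(189, (-1), 1, 1)] .nil .nil))) (.node [] .nil (.node [] .nil (.node [(228, 1, 1, 1)] .nil .nil)))) (.node [] .nil (.node [(19, (-1), 1, 1)] (.node [] (.node [(107, (-1), 1, 1)] .nil .nil) (.node [(174, 1, 1, 1)] .nil .nil)) .nil))) (.node [(0, (-1), 1, 1)] (.node [] (.node [] (.node [(26, 1, 1, 1)] .nil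 .nil) .nil) (.node [] (.node [] .nil (.node [(170, 1, 1, 1)] .nil .nil)) .nil)) (.node [] (.node [] (.node [(41, (-1), 1, 1)] .nil (.node [(167, (-1), 1, 1)] .nil .nil)) .nil) (.node [] (.node [] (.node [(112, (-1), 1, 1)] .nil .nil) .nil) (.node [(81, 1, 1, 1)] .nil .nil))))) (.node [] (.node [] (.node [] (.node [] (.node [(24, (-1), 1, 1)] (.node [(86, (-1), 1, 1)] .nil .nil) .nil) (.node [] (.node [(121, (-1), 1, 1)] .nil .nil) (.node [(205, (-1), 1, 1)] .nil .nil))) .nil) (.node [] (.node [] (.node [] .nil (.node [(165, 1, 1, 1)] .nil .nil)) .nil) (.node [] (.node [] (.node [(110, 1, 1, 1)] .nil .nil) (.node [(176, (-1), 1, 1)] .nil .nil)) .nil))) (.node [(2, 1, 1, 1)] (.node [] (.node [] (.node [(28, (-1), 1, 1)] .nil .nil) .nil) (.node [(17, 1, 1, 1)] (.node [] (.node [(105, 1, 1, 1)] .nil .nil) (.node [(172, (-1), 1, 1)] .nil .nil)) .nil)) (.node [] (.node [] (.node [(57, (-1), 1, 1)] .nil .nil) (.node [] .nil (.node [(226, (-1),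 1, 1)] .nil .nil))) (.node [] .nil (.node [(83, (-1), 1, 1)] .nil .nil)))))) (.node [] (.node [] (.node [] (.node [] (.node [] (.node [] .nil (.node [(163, 1, 1, 1)] .nil .nil)) (.node [] .nil (.node [(195, (-1), 1, 1)] .nil .nil))) (.node [] (.node [] (.node [(99, 1, 1, 1)] .nil .nil) (.node [(169, 1, 1, 1)] .nil .nil)) .nil)) (.node [] (.node [] (.node [(36, 1, 1, 1)] .nil .nil) .nil) (.node [] .nil (.node [(80, 1, 1, 1)] .nil .nil)))) (.node [] (.node [] (.node [] (.node [] (.node [(88, 1, 1, 1)] .nil .nil) .nil) .nil) .nil) (.node [] (.node [(15, 1, 1, 1)] (.node [(47, (-1), 1, 1)] (.node [(95, (-1), 1, 1)] .nil .nil) .nil) .nil) (.node [(21, 1, 1, 1)] (.node [] (.node [(114, 1, 1, 1)] .nil .nil) (.node [(184, 1, 1, 1)] .nil .nil)) .nil)))) (.node [] (.node [] (.node [] (.node [(14, 1, 1, 1)] .nil .nil) (.node [(16, 1, 1, 1)] (.node [] (.node [(101, (-1), 1, 1)] .nil .nil) .nil) .nil)) (.node [] (.node [] (.node [(38, (-1), 1, 1)]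 (.node [(93, 1, 1, 1)] .nil .nil) .nil) .nil) (.node [] (.node [] .nil (.node [(179, (-1), 1, 1)] .nil .nil)) .nil))) (.node [] (.node [] (.node [] (.node [(31, (-1), 1, 1)] (.node [(90, (-1), 1, 1)] .nil .nil) (.node [(164, 1, 1, 1)] .nil .nil)) .nil) (.node [] .nil (.node [(78, 1, 1, 1)] (.node [(162, 1, 1, 1)] .nil .nil) .nil))) (.node [] .nil (.node [] (.node [] (.node [(116, (-1), 1, 1)] .nil .nil) (.node [(186, (-1), 1, 1)] .nil .nil)) .nil))))))
def C79 : List (ℕ × List (ℕ × ℤ)) := [(11, [(0, (-1))]), (13, [(2, 1)]), (34, [(14, 1)]), (44, [(15, 1)]), (50, [(16, 1)]), (53, [(17, 1)]), (55, [(19, (-1))]), (60, [(21, 1)]), (63, [(22, 1)]), (65, [(24, (-1))]), (67, [(26, 1)]), (69, [(28, (-1))]), (70, [(31, (-1))]), (72, [(36, 1)]), (74, [(38, (-1))]), (75, [(41, (-1))]), (76, [(47, (-1))]), (77, [(57, (-1))]), (118, [(78, 1)]), (120, [(80, 1)]), (123, [(81, 1)]), (125, [(83, (-1))]), (127, [(84, 1)]), (129, [(86, (-1))]), (132, [(88,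 1)]), (134, [(90, (-1))]), (138, [(93, 1)]), (140, [(95, (-1))]), (144, [(99, 1)]), (146, [(101, (-1))]), (149, [(105, 1)]), (151, [(107, (-1))]), (153, [(110, 1)]), (155, [(112, (-1))]), (156, [(114, 1)]), (158, [(116, (-1))]), (159, [(119, (-1))]), (161, [(121, (-1))]), (182, [(162, 1)]), (192, [(163, 1)]), (198, [(164, 1)]), (201, [(165, 1)]), (203, [(167, (-1))]), (208, [(169, 1)]), (211, [(170, 1)]), (213, [(172, (-1))]), (215, [(174, 1)]), (217, [(176, (-1))]), (218, [(179, (-1))]), (220, [(184, 1)]), (222, [(186, (-1))]), (223, [(189, (-1))]), (224, [(195, (-1))]), (225, [(205, (-1))]), (237, [(226, (-1))]), (239, [(228, 1)])]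
def M80 : Tr (List (ℕ × ℤ × ℕ × ℕ)) := (.node [] (.node [] (.node [] (.node [] (.node [] (.node [] (.node [] (.node [(85, 1, 1, 1)] .nil .nil) (.node [(163, 1, 1, 1)] .nil .nil)) (.node [] .nil (.node [(190, 1, 1, 1)] .nil .nil))) (.node [] (.node [] .nil (.node [(169, 1, 1, 1)] .nil .nil)) .nil)) (.node [] (.node [] (.node [(36, (-1), 1, 1)] .nil .nil) .nil) (.node [(20, (-1), 1, 1)] .nil (.node [(79, 1, 1, 1)] .nil .nil)))) (.node [(1, (-1), 1, 1)] .nil (.node [] (.node [(15, (-1), 1, 1)] (.node [(42, (-1), 1, 1)] (.node [(95, (-1), 1, 1)] .nil .nil) (.node [(168, 1, 1, 1)] .nil .nil)) .nil) (.node [(21, (-1), 1, 1)] (.node [] .nil (.node [(184, 1, 1, 1)] .nil .nil)) (.node [(82, 1, 1, 1)] .nil .nil))))) (.node [] (.node [] (.node [] (.node [(14, (-1), 1, 1)] (.node [(25, (-1), 1, 1)] .nil .nil) (.node [] (.node [(122, 1, 1, 1)] .nil .nil) (.node [(206, 1, 1, 1)] .nil .nil))) (.node [(16, (-1), 1, 1)] (.node [] (.node [(101, (-1), 1,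 1)] .nil .nil) .nil) .nil)) (.node [] .nil (.node [] (.node [] (.node [(111, 1, 1, 1)] .nil .nil) (.node [(177, 1, 1, 1)] .nil .nil)) .nil))) (.node [] (.node [] (.node [] (.node [(29, (-1), 1, 1)] (.node [(90, (-1), 1, 1)] .nil .nil) (.node [(164, 1, 1, 1)] .nil .nil)) .nil) (.node [] (.node [] (.node [(106, 1, 1, 1)] .nil .nil) (.node [(173, 1, 1, 1)] .nil .nil)) (.node [(78, (-1), 1, 1)] (.node [(162, 1, 1, 1)] .nil .nil) .nil))) (.node [] (.node [] (.node [(58, (-1), 1, 1)] .nil .nil) (.node [] .nil (.node [(227, 1, 1, 1)] .nil .nil))) (.node [] (.node [] (.node [(116, (-1), 1, 1)] .nil .nil) .nil) .nil))))) (.node [] (.node [] (.node [] (.node [] (.node [] (.node [] (.node [(86, (-1), 1, 1)] .nil .nil) .nil) (.node [] (.node [(120, (-1), 1, 1)] .nil .nil) (.node [(196, 1, 1, 1)] .nil .nil))) (.node [] (.node [] (.node [(100, 1, 1, 1)] .nil .nil) .nil) .nil)) (.node [] (.node [] (.node [] .nil (.node [(165, 1, 1, 1)] .nil .nil)) .nil)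 .nil)) (.node [(2, (-1), 1, 1)] (.node [] (.node [] (.node [] (.node [(89, 1, 1, 1)] .nil .nil) .nil) .nil) (.node [(17, (-1), 1, 1)] .nil .nil)) (.node [] (.node [] (.node [(48, (-1), 1, 1)] .nil .nil) .nil) (.node [] (.node [] (.node [(115, 1, 1, 1)] .nil .nil) .nil) (.node [(83, (-1), 1, 1)] .nil .nil))))) (.node [] (.node [] (.node [] (.node [] (.node [(26, (-1), 1, 1)] .nil .nil) .nil) (.node [] (.node [] .nil (.node [(170, 1, 1, 1)] .nil .nil)) .nil)) (.node [] (.node [] (.node [(39, (-1), 1, 1)] (.node [(94, 1, 1, 1)] .nil .nil) .nil) .nil) (.node [] (.node [] (.node [(112, (-1), 1, 1)] .nil .nil) (.node [(180, 1, 1, 1)] .nil .nil)) .nil))) (.node [] (.node [] (.node [] (.node [(32, (-1), 1, 1)] .nil .nil) .nil) (.node [] (.node [] (.node [(107, (-1), 1, 1)] .nil .nil) (.node [(174, 1, 1, 1)] .nil .nil)) .nil)) (.node [] (.node [] .nil (.node [] .nil (.node [(228, 1, 1, 1)] .nil .nil))) (.node [(22, (-1), 1, 1)] (.node [] .nil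 (.node [(187, 1, 1, 1)] .nil .nil)) .nil))))))
def C80 : List (ℕ × List (ℕ × ℤ)) := [(11, [(1, (-1))]), (12, [(2, (-1))]), (33, [(14, (-1))]), (43, [(15, (-1))]), (49, [(16, (-1))]), (52, [(17, (-1))]), (55, [(20, (-1))]), (59, [(21, (-1))]), (62, [(22, (-1))]), (65, [(25, (-1))]), (66, [(26, (-1))]), (69, [(29, (-1))]), (70, [(32, (-1))]), (71, [(36, (-1))]), (74, [(39, (-1))]), (75, [(42, (-1))]), (76, [(48, (-1))]), (77, [(58, (-1))]), (117, [(78, (-1))]), (119, [(79, 1)]), (123, [(82, 1)]), (124, [(83, (-1))]), (127, [(85, 1)]), (128, [(86, (-1))]), (132, [(89, 1)]), (133, [(90, (-1))]), (138, [(94, 1)]), (139, [(95, (-1))]), (144, [(100, 1)]), (145, [(101, (-1))]), (149, [(106, 1)]), (150, [(107, (-1))]), (153, [(111, 1)]), (154, [(112, (-1))]), (156, [(115, 1)]), (157, [(116, (-1))]), (160, [(120, (-1))]), (161, [(122, 1)]), (181, [(162, 1)]), (191, [(163, 1)]), (197, [(164, 1)]), (200, [(165, 1)]), (203, [(168, 1)]), (207, [(169,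 1)]), (210, [(170, 1)]), (213, [(173, 1)]), (214, [(174, 1)]), (217, [(177, 1)]), (218, [(180, 1)]), (219, [(184, 1)]), (222, [(187, 1)]), (223, [(190, 1)]), (224, [(196, 1)]), (225, [(206, 1)]), (237, [(227, 1)]), (238, [(228, 1)])]
def M81 : Tr (List (ℕ × ℤ × ℕ × ℕ)) := (.node [] (.node [] (.node [] (.node [] (.node [] (.node [] (.node [(23, 1, 1, 1)] .nil .nil) (.node [] .nil (.node [(191, 1, 1, 1)] .nil .nil))) (.node [] (.node [] (.node [(99, 1, 1, 1)] .nil .nil) .nil) (.node [] .nil (.node [(229, (-1), 1, 1)] .nil .nil)))) (.node [] .nil (.node [] (.node [] (.node [(108, (-1), 1, 1)] .nil .nil) (.node [(175, (-1), 1, 1)] .nil .nil)) .nil))) (.node [] (.node [] (.node [] (.node [(27, 1, 1, 1)] (.node [(88, 1, 1, 1)] .nil .nil) .nil) .nil) (.node [] (.node [] .nil (.node [(171, (-1), 1, 1)] .nil .nil)) (.node [(78, 1, 1, 1)] .nil .nil))) (.node [] (.node [] (.node [(43, (-1), 1, 1)] .nil .nil) .nil) (.node [] (.node [] (.node [(113,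 (-1), 1, 1)] .nil .nil) .nil) .nil)))) (.node [] (.node [] (.node [] (.node [] (.node [] (.node [(87, (-1), 1, 1)] .nil .nil) .nil) (.node [] (.node [(124, (-1), 1, 1)] .nil .nil) (.node [(207, 1, 1, 1)] .nil .nil))) .nil) (.node [] (.node [] (.node [(38, 1, 1, 1)] (.node [(93, 1, 1, 1)] .nil .nil) (.node [(166, (-1), 1, 1)] .nil .nil)) .nil) .nil)) (.node [(3, 1, 1, 1)] (.node [] .nil (.node [(18, 1, 1, 1)] .nil .nil)) (.node [] (.node [] (.node [(59, (-1), 1, 1)] .nil .nil) .nil) (.node [] (.node [] (.node [(119, (-1), 1, 1)] .nil .nil) (.node [(186, (-1), 1, 1)] .nil .nil)) .nil))))) (.node [] (.node [] (.node [] (.node [] (.node [(14, (-1), 1, 1)] (.node [(24, 1, 1, 1)] .nil .nil) (.node [] (.node [(123, (-1), 1, 1)] .nil .nil) (.node [(197, 1, 1, 1)] .nil .nil))) (.node [(16, (-1), 1, 1)] .nil .nil)) (.node [] (.node [] (.node [(37, 1, 1, 1)] .nil .nil) .nil) (.node [] (.node [] (.node [(110, 1, 1, 1)] .nil .nil) (.node [(176, (-1),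 1, 1)] .nil .nil)) (.node [(82, 1, 1, 1)] .nil .nil)))) (.node [] (.node [] (.node [] (.node [(28, 1, 1, 1)] .nil (.node [(164, 1, 1, 1)] .nil .nil)) .nil) (.node [] (.node [] (.node [(105, 1, 1, 1)] .nil .nil) (.node [(172, (-1), 1, 1)] .nil .nil)) (.node [(79, 1, 1, 1)] (.node [(162, 1, 1, 1)] .nil .nil) .nil))) (.node [] (.node [] (.node [(49, (-1), 1, 1)] (.node [(96, (-1), 1, 1)] .nil .nil) .nil) (.node [] .nil (.node [(226, (-1), 1, 1)] .nil .nil))) (.node [] (.node [] (.node [(117, (-1), 1, 1)] .nil .nil) (.node [(185, (-1), 1, 1)] .nil .nil)) .nil)))) (.node [] (.node [(0, 1, 1, 1)] (.node [] .nil (.node [] (.node [] (.node [(102, (-1), 1, 1)] .nil .nil) .nil) .nil)) (.node [] (.node [(15, (-1), 1, 1)] (.node [] .nil (.node [(167, (-1), 1, 1)] .nil .nil)) .nil) (.node [(21, (-1), 1, 1)] (.node [] .nil (.node [(181, 1, 1, 1)] .nil .nil)) (.node [(83, 1, 1, 1)] .nil .nil)))) (.node [] (.node [] (.node [] (.node [(33, (-1), 1, 1)]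 (.node [(91, (-1), 1, 1)] .nil .nil) .nil) .nil) (.node [(19, 1, 1, 1)] .nil .nil)) (.node [] (.node [] (.node [] .nil (.node [(169, 1, 1, 1)] .nil .nil)) .nil) (.node [] .nil (.node [(84, 1, 1, 1)] (.node [(163, 1, 1, 1)] .nil .nil) .nil)))))))
def C81 : List (ℕ × List (ℕ × ℤ)) := [(10, [(0, 1)]), (13, [(3, 1)]), (32, [(14, (-1))]), (42, [(15, (-1))]), (48, [(16, (-1))]), (53, [(18, 1)]), (54, [(19, 1)]), (58, [(21, (-1))]), (63, [(23, 1)]), (64, [(24, 1)]), (67, [(27, 1)]), (68, [(28, 1)]), (70, [(33, (-1))]), (72, [(37, 1)]), (73, [(38, 1)]), (75, [(43, (-1))]), (76, [(49, (-1))]), (77, [(59, (-1))]), (115, [(78, 1)]), (116, [(79, 1)]), (120, [(82, 1)]), (122, [(83, 1)]), (126, [(84, 1)]), (129, [(87, (-1))]), (131, [(88, 1)]), (134, [(91, (-1))]), (137, [(93, 1)]), (140, [(96, (-1))]), (143, [(99, 1)]), (146, [(102, (-1))]), (148, [(105, 1)]), (151, [(108, (-1))]), (152, [(110, 1)]), (155, [(113, (-1))]), (156, [(117, (-1))]), (157,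 [(119, (-1))]), (160, [(123, (-1))]), (161, [(124, (-1))]), (180, [(162, 1)]), (190, [(163, 1)]), (196, [(164, 1)]), (201, [(166, (-1))]), (202, [(167, (-1))]), (206, [(169, 1)]), (211, [(171, (-1))]), (212, [(172, (-1))]), (215, [(175, (-1))]), (216, [(176, (-1))]), (218, [(181, 1)]), (220, [(185, (-1))]), (221, [(186, (-1))]), (223, [(191, 1)]), (224, [(197, 1)]), (225, [(207, 1)]), (236, [(226, (-1))]), (239, [(229, (-1))])]
def M82 : Tr (List (ℕ × ℤ × ℕ × ℕ)) := (.node [] (.node [] (.node [] (.node [] (.node [] (.node [(14, 1, 1, 1)] .nil (.node [] (.node [(123, (-1), 1, 1)] .nil .nil) (.node [(192, (-1), 1, 1)] .nil .nil))) (.node [(16, 1, 1, 1)] (.node [] (.node [(100, 1, 1, 1)] .nil .nil) .nil) .nil)) (.node [] (.node [] (.node [(37, (-1), 1, 1)] .nil .nil) .nil) (.node [] .nil (.node [(81, 1, 1, 1)] .nil .nil)))) (.node [] (.node [] (.node [] (.node [] (.node [(89, 1, 1, 1)] .nil .nil) (.node [(164, 1, 1, 1)] .nil .nil)) .nil)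 (.node [] .nil (.node [] (.node [(162, 1, 1, 1)] .nil .nil) .nil))) (.node [] (.node [] (.node [(44, (-1), 1, 1)] (.node [(96, (-1), 1, 1)] .nil .nil) .nil) .nil) (.node [] (.node [] .nil (.node [(185, (-1), 1, 1)] .nil .nil)) .nil)))) (.node [] (.node [] (.node [] (.node [] .nil (.node [] (.node [(125, 1, 1, 1)] .nil .nil) (.node [(208, (-1), 1, 1)] .nil .nil))) (.node [] (.node [] (.node [(102, (-1), 1, 1)] .nil .nil) .nil) .nil)) (.node [] (.node [(15, 1, 1, 1)] (.node [(39, 1, 1, 1)] (.node [(94, 1, 1, 1)] .nil .nil) .nil) .nil) (.node [(21, 1, 1, 1)] .nil (.node [(83, 1, 1, 1)] .nil .nil)))) (.node [] (.node [] (.node [] (.node [] (.node [(91, (-1), 1, 1)] .nil .nil) .nil) .nil) .nil) (.node [] (.node [] (.node [(60, (-1), 1, 1)] .nil (.node [(169, 1, 1, 1)] .nil .nil)) .nil) (.node [] (.node [] .nil (.node [(187, 1, 1, 1)] .nil .nil)) (.node [] (.node [(163, 1, 1, 1)] .nil .nil) .nil)))))) (.node [] (.node [] (.node [] (.node []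 (.node [] (.node [(25, 1, 1, 1)] (.node [(87, (-1), 1, 1)] .nil .nil) .nil) (.node [] .nil (.node [(198, (-1), 1, 1)] .nil .nil))) .nil) (.node [] (.node [] (.node [] .nil (.node [(166, (-1), 1, 1)] .nil .nil)) .nil) (.node [] (.node [] (.node [(111, 1, 1, 1)] .nil .nil) (.node [(177, 1, 1, 1)] .nil .nil)) .nil))) (.node [(3, (-1), 1, 1)] (.node [] (.node [] (.node [(29, 1, 1, 1)] .nil .nil) .nil) (.node [(18, (-1), 1, 1)] (.node [] (.node [(106, 1, 1, 1)] .nil .nil) (.node [(173, 1, 1, 1)] .nil .nil)) (.node [(80, 1, 1, 1)] .nil .nil))) (.node [] (.node [] (.node [(50, (-1), 1, 1)] .nil .nil) (.node [] .nil (.node [(227, 1, 1, 1)] .nil .nil))) (.node [] (.node [] (.node [(118, (-1), 1, 1)] .nil .nil) .nil) .nil)))) (.node [] (.node [(1, 1, 1, 1)] (.node [] (.node [] (.node [(27, (-1), 1, 1)] .nil .nil) .nil) (.node [] (.node [] .nil (.node [(171, (-1), 1, 1)] .nil .nil)) (.node [(78, (-1), 1, 1)] .nil .nil))) (.node [] (.node [] (.node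 [] .nil (.node [(168, 1, 1, 1)] .nil .nil)) .nil) (.node [] (.node [] (.node [(113, (-1), 1, 1)] .nil .nil) (.node [(182, (-1), 1, 1)] .nil .nil)) .nil))) (.node [] (.node [] (.node [] (.node [(34, (-1), 1, 1)] .nil .nil) .nil) (.node [(20, 1, 1, 1)] (.node [] (.node [(108, (-1), 1, 1)] .nil .nil) (.node [(175, (-1), 1, 1)] .nil .nil)) .nil)) (.node [] (.node [] .nil (.node [] .nil (.node [(229, (-1), 1, 1)] .nil .nil))) (.node [(23, (-1), 1, 1)] (.node [] (.node [(120, (-1), 1, 1)] .nil .nil) .nil) (.node [(85, 1, 1, 1)] .nil .nil)))))))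
def C82 : List (ℕ × List (ℕ × ℤ)) := [(10, [(1, 1)]), (12, [(3, (-1))]), (31, [(14, 1)]), (41, [(15, 1)]), (47, [(16, 1)]), (52, [(18, (-1))]), (54, [(20, 1)]), (57, [(21, 1)]), (62, [(23, (-1))]), (64, [(25, 1)]), (66, [(27, (-1))]), (68, [(29, 1)]), (70, [(34, (-1))]), (71, [(37, (-1))]), (73, [(39, 1)]), (75, [(44, (-1))]), (76, [(50, (-1))]), (77, [(60, (-1))]), (114, [(78, (-1))]), (116, [(80, 1)]), (119, [(81, 1)]), (121, [(83, 1)]), (126, [(85, 1)]), (128, [(87, (-1))]), (131, [(89, 1)]), (133, [(91, (-1))]), (137, [(94, 1)]), (139, [(96, (-1))]), (143, [(100, 1)]), (145, [(102, (-1))]), (148, [(106, 1)]), (150, [(108, (-1))]), (152, [(111, 1)]), (154, [(113, (-1))]), (156, [(118, (-1))]), (158, [(120, (-1))]), (159, [(123, (-1))]), (161, [(125, 1)]), (179, [(162, 1)]), (189, [(163, 1)]), (195, [(164, 1)]), (200, [(166, (-1))]), (202, [(168, 1)]), (205, [(169, 1)]), (210, [(171, (-1))]), (212, [(173, 1)]), (214, [(175, (-1))]),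 (216, [(177, 1)]), (218, [(182, (-1))]), (219, [(185, (-1))]), (221, [(187, 1)]), (223, [(192, (-1))]), (224, [(198, (-1))]), (225, [(208, (-1))]), (236, [(227, 1)]), (238, [(229, (-1))])]
def M83 : Tr (List (ℕ × ℤ × ℕ × ℕ)) := (.node [] (.node [] (.node [] (.node [] (.node [] (.node [] (.node [(25, (-1), 1, 1)] (.node [(87, (-1), 1, 1)] .nil .nil) .nil) (.node [] (.node [(124, 1, 1, 1)] .nil .nil) (.node [(193, 1, 1, 1)] .nil .nil))) (.node [] (.node [] (.node [(101, 1, 1, 1)] .nil .nil) .nil) .nil)) (.node [] (.node [] (.node [(38, (-1), 1, 1)] .nil .nil) .nil) (.node [] (.node [] .nil (.node [(177, 1, 1, 1)] .nil .nil)) .nil))) (.node [(3, 1, 1, 1)] (.node [] (.node [] (.node [(29, (-1), 1, 1)] (.node [(90, 1, 1, 1)] .nil .nil) .nil) .nil) (.node [] (.node [] .nil (.node [(173, 1, 1, 1)] .nil .nil)) (.node [(80, (-1), 1, 1)] .nil .nil))) (.node [] (.node [] (.node [(45, (-1), 1, 1)] .nil .nil) .nil) (.node [] (.node [] .nil (.node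 [(186, 1, 1, 1)] .nil .nil)) .nil)))) (.node [] (.node [] (.node [] (.node [] .nil (.node [] .nil (.node [(209, 1, 1, 1)] .nil .nil))) .nil) (.node [] (.node [] (.node [] (.node [(95, 1, 1, 1)] .nil .nil) (.node [(168, 1, 1, 1)] .nil .nil)) .nil) (.node [] (.node [] (.node [(113, (-1), 1, 1)] .nil .nil) .nil) .nil))) (.node [] (.node [] .nil (.node [(20, (-1), 1, 1)] (.node [] (.node [(108, (-1), 1, 1)] .nil .nil) .nil) (.node [(81, 1, 1, 1)] .nil .nil))) (.node [] (.node [] (.node [(61, (-1), 1, 1)] .nil .nil) (.node [] .nil (.node [(229, (-1), 1, 1)] .nil .nil))) (.node [] (.node [] (.node [(121, (-1), 1, 1)] .nil .nil) .nil) .nil))))) (.node [] (.node [] (.node [] (.node [] (.node [] .nil (.node [] (.node [(125, 1, 1, 1)] .nil .nil) (.node [(199, 1, 1, 1)] .nil .nil))) (.node [] (.node [] (.node [(102, (-1), 1, 1)] .nil .nil) .nil) .nil)) (.node [] (.node [(15, (-1), 1, 1)] (.node [(39, (-1), 1, 1)] .nil (.node [(167, 1, 1, 1)] .nil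 .nil)) .nil) (.node [(21, (-1), 1, 1)] (.node [] (.node [(112, 1, 1, 1)] .nil .nil) .nil) .nil))) (.node [] (.node [] (.node [] (.node [] (.node [(91, (-1), 1, 1)] .nil .nil) .nil) .nil) (.node [(19, (-1), 1, 1)] (.node [] (.node [(107, 1, 1, 1)] .nil .nil) .nil) .nil)) (.node [] (.node [] (.node [(51, (-1), 1, 1)] .nil (.node [(169, 1, 1, 1)] .nil .nil)) (.node [] .nil (.node [(228, (-1), 1, 1)] .nil .nil))) (.node [] (.node [] .nil (.node [(187, 1, 1, 1)] .nil .nil)) (.node [] (.node [(163, 1, 1, 1)] .nil .nil) .nil))))) (.node [] (.node [(2, 1, 1, 1)] (.node [] (.node [] (.node [(28, (-1), 1, 1)] .nil (.node [(164, 1, 1, 1)] .nil .nil)) .nil) (.node [] (.node [] .nil (.node [(172, 1, 1, 1)] .nil .nil)) (.node [(79, (-1), 1, 1)] (.node [(162, 1, 1, 1)] .nil .nil) .nil))) (.node [] (.node [] (.node [] (.node [(96, (-1), 1, 1)] .nil .nil) .nil) .nil) (.node [] (.node [] .nil (.node [(183, 1, 1, 1)] .nil .nil)) .nil))) (.node [] (.node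 [] (.node [] (.node [(35, (-1), 1, 1)] .nil .nil) .nil) (.node [] (.node [] .nil (.node [(176, 1, 1, 1)] .nil .nil)) (.node [(82, 1, 1, 1)] .nil .nil))) (.node [(14, (-1), 1, 1)] (.node [(16, (-1), 1, 1)] .nil .nil) (.node [(24, (-1), 1, 1)] (.node [] (.node [(122, (-1), 1, 1)] .nil .nil) .nil) (.node [(86, 1, 1, 1)] .nil .nil)))))))
def C83 : List (ℕ × List (ℕ × ℤ)) := [(10, [(2, 1)]), (11, [(3, 1)]), (30, [(14, (-1))]), (40, [(15, (-1))]), (46, [(16, (-1))]), (52, [(19, (-1))]), (53, [(20, (-1))]), (56, [(21, (-1))]), (62, [(24, (-1))]), (63, [(25, (-1))]), (66, [(28, (-1))]), (67, [(29, (-1))]), (70, [(35, (-1))]), (71, [(38, (-1))]), (72, [(39, (-1))]), (75, [(45, (-1))]), (76, [(51, (-1))]), (77, [(61, (-1))]), (114, [(79, (-1))]), (115, [(80, (-1))]), (117, [(81, 1)]), (118, [(82, 1)]), (126, [(86, 1)]), (127, [(87, (-1))]), (131, [(90, 1)]), (132, [(91, (-1))]), (137, [(95, 1)]), (138, [(96, (-1))]), (143, [(101, 1)]), (144, [(102,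 (-1))]), (148, [(107, 1)]), (149, [(108, (-1))]), (152, [(112, 1)]), (153, [(113, (-1))]), (157, [(121, (-1))]), (158, [(122, (-1))]), (159, [(124, 1)]), (160, [(125, 1)]), (178, [(162, 1)]), (188, [(163, 1)]), (194, [(164, 1)]), (200, [(167, 1)]), (201, [(168, 1)]), (204, [(169, 1)]), (210, [(172, 1)]), (211, [(173, 1)]), (214, [(176, 1)]), (215, [(177, 1)]), (218, [(183, 1)]), (219, [(186, 1)]), (220, [(187, 1)]), (223, [(193, 1)]), (224, [(199, 1)]), (225, [(209, 1)]), (236, [(228, (-1))]), (237, [(229, (-1))])]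
def M84 : Tr (List (ℕ × ℤ × ℕ × ℕ)) := (.node [] (.node [] (.node [] (.node [] (.node [] .nil (.node [] .nil (.node [(78, 1, 1, 1)] .nil (.node [(230, 1, 1, 1)] .nil .nil)))) (.node [] (.node [(15, 1, 1, 1)] (.node [] .nil (.node [(167, (-1), 1, 1)] .nil .nil)) .nil) (.node [] (.node [] (.node [(109, (-1), 1, 1)] .nil .nil) (.node [(178, 1, 1, 1)] .nil .nil)) .nil))) (.node [] (.node [] (.node [] (.node [(30, 1, 1, 1)] .nil .nil) .nil) (.node [(19, (-1), 1, 1)] (.node [] (.node [(105, 1, 1, 1)] .nil .nil) .nil) .nil)) (.node [] (.node [] .nil (.node [] .nil (.node [(226, (-1), 1, 1)] .nil .nil))) (.node [] .nil (.node [] (.node [(163, 1, 1, 1)] .nil .nil) .nil))))) (.node [] (.node [(0, (-1), 1, 1)] (.node [] (.node [] .nil (.node [] (.node [(128, (-1), 1, 1)] .nil .nil) (.node [(210, (-1), 1, 1)] .nil .nil))) (.node [] (.node [] .nil (.node [(172, (-1), 1, 1)] .nil .nil)) (.node [(81, 1, 1, 1)] (.node [(162, 1, 1, 1)] .nil .nil) .nil)))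 (.node [] (.node [] (.node [(41, 1, 1, 1)] .nil .nil) .nil) (.node [] (.node [] (.node [(117, (-1), 1, 1)] .nil .nil) (.node [(181, 1, 1, 1)] .nil .nil)) .nil))) (.node [(4, 1, 1, 1)] (.node [] (.node [] (.node [(33, 1, 1, 1)] .nil .nil) .nil) .nil) (.node [(14, 1, 1, 1)] (.node [] (.node [(62, (-1), 1, 1)] .nil .nil) .nil) (.node [(24, (-1), 1, 1)] (.node [] .nil (.node [(189, 1, 1, 1)] .nil .nil)) (.node [(87, 1, 1, 1)] .nil .nil)))))) (.node [] (.node [] (.node [] (.node [] (.node [] .nil (.node [] (.node [(127, (-1), 1, 1)] .nil .nil) (.node [(200, (-1), 1, 1)] .nil .nil))) (.node [(17, (-1), 1, 1)] (.node [] .nil (.node [(171, (-1), 1, 1)] .nil .nil)) (.node [(79, 1, 1, 1)] .nil .nil))) (.node [] (.node [] (.node [(40, 1, 1, 1)] (.node [(93, 1, 1, 1)] .nil .nil) .nil) .nil) (.node [] (.node [] (.node [(114, (-1), 1, 1)] .nil .nil) (.node [(179, 1, 1, 1)] .nil .nil)) (.node [(85, 1, 1, 1)] .nil .nil)))) (.node [] (.node [] (.node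 [] (.node [(31, 1, 1, 1)] .nil (.node [(165, (-1), 1, 1)] .nil .nil)) .nil) .nil) (.node [] (.node [] (.node [(52, (-1), 1, 1)] (.node [(97, (-1), 1, 1)] .nil .nil) .nil) .nil) (.node [(23, (-1), 1, 1)] (.node [] .nil (.node [(188, 1, 1, 1)] .nil .nil)) .nil)))) (.node [] (.node [] (.node [] (.node [] (.node [] (.node [(88, 1, 1, 1)] .nil .nil) .nil) .nil) (.node [(18, (-1), 1, 1)] (.node [] (.node [(103, (-1), 1, 1)] .nil .nil) .nil) .nil)) (.node [] (.node [] (.node [(43, 1, 1, 1)] .nil .nil) .nil) (.node [(22, (-1), 1, 1)] (.node [] (.node [(119, (-1), 1, 1)] .nil .nil) .nil) (.node [(86, 1, 1, 1)] .nil .nil)))) (.node [] (.node [] (.node [] (.node [] (.node [(92, (-1), 1, 1)] .nil .nil) (.node [(166, (-1), 1, 1)] .nil .nil)) .nil) .nil) (.node [] (.node [] (.node [] (.node [(99, 1, 1, 1)] .nil .nil) (.node [(170, (-1), 1, 1)] .nil .nil)) .nil) (.node [] (.node [] (.node [(126, (-1), 1, 1)] .nil .nil) (.node [(191, 1, 1, 1)] .nil .nil))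 .nil))))))
def C84 : List (ℕ × List (ℕ × ℤ)) := [(9, [(0, (-1))]), (13, [(4, 1)]), (29, [(14, 1)]), (39, [(15, 1)]), (48, [(17, (-1))]), (50, [(18, (-1))]), (51, [(19, (-1))]), (58, [(22, (-1))]), (60, [(23, (-1))]), (61, [(24, (-1))]), (67, [(30, 1)]), (68, [(31, 1)]), (69, [(33, 1)]), (72, [(40, 1)]), (73, [(41, 1)]), (74, [(43, 1)]), (76, [(52, (-1))]), (77, [(62, (-1))]), (111, [(78, 1)]), (112, [(79, 1)]), (113, [(81, 1)]), (120, [(85, 1)]), (122, [(86, 1)]), (125, [(87, 1)]), (130, [(88, 1)]), (134, [(92, (-1))]), (136, [(93, 1)]), (140, [(97, (-1))]), (142, [(99, 1)]), (146, [(103, (-1))]), (147, [(105, 1)]), (151, [(109, (-1))]), (152, [(114, (-1))]), (153, [(117, (-1))]), (154, [(119, (-1))]), (158, [(126, (-1))]), (160, [(127, (-1))]), (161, [(128, (-1))]), (177, [(162, 1)]), (187, [(163, 1)]), (196, [(165, (-1))]), (198, [(166, (-1))]), (199, [(167, (-1))]), (206, [(170, (-1))]), (208, [(171, (-1))]), (209, [(172, (-1))]),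 (215, [(178, 1)]), (216, [(179, 1)]), (217, [(181, 1)]), (220, [(188, 1)]), (221, [(189, 1)]), (222, [(191, 1)]), (224, [(200, (-1))]), (225, [(210, (-1))]), (235, [(226, (-1))]), (239, [(230, 1)])]
def M85 : Tr (List (ℕ × ℤ × ℕ × ℕ)) := (.node [] (.node [] (.node [] (.node [] (.node [] (.node [] .nil (.node [] (.node [(127, (-1), 1, 1)] .nil .nil) .nil)) (.node [(17, 1, 1, 1)] (.node [] .nil (.node [(171, (-1), 1, 1)] .nil .nil)) .nil)) (.node [] (.node [] (.node [(40, (-1), 1, 1)] .nil (.node [(168, 1, 1, 1)] .nil .nil)) .nil) (.node [] .nil (.node [(84, 1, 1, 1)] .nil .nil)))) (.node [] (.node [] (.node [] (.node [] .nil (.node [(165, (-1), 1, 1)] .nil .nil)) .nil) (.node [(20, (-1), 1, 1)] (.node [] (.node [(106, 1, 1, 1)] .nil .nil) .nil) .nil)) (.node [] (.node [] (.node [] (.node [(97, (-1), 1, 1)] .nil .nil) .nil) (.node [] .nil (.node [(227, 1, 1, 1)] .nil .nil))) (.node [(23, 1, 1, 1)] (.node [] (.node [(120, (-1), 1, 1)] .nil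 .nil) (.node [(188, 1, 1, 1)] .nil .nil)) .nil)))) (.node [] (.node [(1, (-1), 1, 1)] (.node [] (.node [] .nil (.node [] (.node [(129, 1, 1, 1)] .nil .nil) (.node [(211, 1, 1, 1)] .nil .nil))) (.node [(18, 1, 1, 1)] (.node [] (.node [(103, (-1), 1, 1)] .nil .nil) (.node [(173, 1, 1, 1)] .nil .nil)) (.node [(82, 1, 1, 1)] .nil .nil))) (.node [] (.node [] (.node [(42, 1, 1, 1)] .nil .nil) .nil) (.node [(22, 1, 1, 1)] (.node [] (.node [(118, (-1), 1, 1)] .nil .nil) (.node [(182, (-1), 1, 1)] .nil .nil)) (.node [(86, 1, 1, 1)] .nil .nil)))) (.node [] (.node [] (.node [] (.node [(34, 1, 1, 1)] (.node [(92, (-1), 1, 1)] .nil .nil) (.node [(166, (-1), 1, 1)] .nil .nil)) .nil) .nil) (.node [] (.node [] (.node [(63, (-1), 1, 1)] .nil (.node [(170, (-1), 1, 1)] .nil .nil)) .nil) (.node [(25, (-1), 1, 1)] (.node [] (.node [(126, (-1), 1, 1)] .nil .nil) (.node [(190, (-1), 1, 1)] .nil .nil)) .nil))))) (.node [] (.node [] (.node [] (.node [] (.node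 [] .nil (.node [] .nil (.node [(201, 1, 1, 1)] .nil .nil))) (.node [] .nil (.node [(80, 1, 1, 1)] (.node [(162, 1, 1, 1)] .nil .nil) .nil))) (.node [] (.node [] (.node [] (.node [(94, 1, 1, 1)] .nil .nil) .nil) .nil) (.node [] (.node [] (.node [(115, (-1), 1, 1)] .nil .nil) (.node [(180, (-1), 1, 1)] .nil .nil)) .nil))) (.node [(4, (-1), 1, 1)] (.node [] (.node [] (.node [(32, 1, 1, 1)] .nil .nil) .nil) .nil) (.node [(14, (-1), 1, 1)] (.node [] (.node [(53, (-1), 1, 1)] .nil .nil) .nil) (.node [] .nil (.node [(87, 1, 1, 1)] .nil .nil))))) (.node [] (.node [] (.node [] (.node [] (.node [(30, (-1), 1, 1)] (.node [(89, 1, 1, 1)] .nil .nil) .nil) .nil) .nil) (.node [] (.node [] (.node [(44, 1, 1, 1)] .nil .nil) .nil) (.node [] .nil (.node [] (.node [(163, 1, 1, 1)] .nil .nil) .nil)))) (.node [] (.node [] (.node [(15, (-1), 1, 1)] .nil .nil) (.node [] (.node [] (.node [(109, (-1), 1, 1)] .nil .nil) (.node [(178, 1, 1, 1)] .nil .nil)) .nil))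 (.node [] (.node [] (.node [] (.node [(100, 1, 1, 1)] .nil .nil) .nil) (.node [(78, (-1), 1, 1)] .nil (.node [(230, 1, 1, 1)] .nil .nil))) (.node [] (.node [] .nil (.node [(192, (-1), 1, 1)] .nil .nil)) .nil))))))
def C85 : List (ℕ × List (ℕ × ℤ)) := [(9, [(1, (-1))]), (12, [(4, (-1))]), (28, [(14, (-1))]), (38, [(15, (-1))]), (47, [(17, 1)]), (49, [(18, 1)]), (51, [(20, (-1))]), (57, [(22, 1)]), (59, [(23, 1)]), (61, [(25, (-1))]), (66, [(30, (-1))]), (68, [(32, 1)]), (69, [(34, 1)]), (71, [(40, (-1))]), (73, [(42, 1)]), (74, [(44, 1)]), (76, [(53, (-1))]), (77, [(63, (-1))]), (110, [(78, (-1))]), (112, [(80, 1)]), (113, [(82, 1)]), (119, [(84, 1)]), (121, [(86, 1)]), (124, [(87, 1)]), (130, [(89, 1)]), (133, [(92, (-1))]), (136, [(94, 1)]), (139, [(97, (-1))]), (142, [(100, 1)]), (145, [(103, (-1))]), (147, [(106, 1)]), (150, [(109, (-1))]), (152, [(115, (-1))]), (153, [(118, (-1))]), (155, [(120, (-1))]), (157, [(126, (-1))]), (159,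 [(127, (-1))]), (161, [(129, 1)]), (176, [(162, 1)]), (186, [(163, 1)]), (195, [(165, (-1))]), (197, [(166, (-1))]), (199, [(168, 1)]), (205, [(170, (-1))]), (207, [(171, (-1))]), (209, [(173, 1)]), (214, [(178, 1)]), (216, [(180, (-1))]), (217, [(182, (-1))]), (219, [(188, 1)]), (221, [(190, (-1))]), (222, [(192, (-1))]), (224, [(201, 1)]), (225, [(211, 1)]), (235, [(227, 1)]), (238, [(230, 1)])]
def M86 : Tr (List (ℕ × ℤ × ℕ × ℕ)) := (.node [] (.node [] (.node [] (.node [] (.node [] (.node [] .nil (.node [] (.node [(128, 1, 1, 1)] .nil .nil) .nil)) (.node [] (.node [] .nil (.node [(172, 1, 1, 1)] .nil .nil)) (.node [(80, (-1), 1, 1)] (.node [(162, 1, 1, 1)] .nil .nil) .nil))) (.node [] (.node [] (.node [(41, (-1), 1, 1)] .nil .nil) .nil) (.node [] (.node [] .nil (.node [(180, (-1), 1, 1)] .nil .nil)) .nil))) (.node [(4, 1, 1, 1)] (.node [] (.node [] (.node [(32, (-1), 1, 1)] .nil .nil) .nil) (.node [] (.node [] (.node [(107, 1, 1, 1)]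 .nil .nil) .nil) .nil)) (.node [(14, 1, 1, 1)] (.node [] .nil (.node [] .nil (.node [(228, (-1), 1, 1)] .nil .nil))) (.node [(24, 1, 1, 1)] (.node [] (.node [(122, (-1), 1, 1)] .nil .nil) (.node [(189, (-1), 1, 1)] .nil .nil)) (.node [(87, 1, 1, 1)] .nil .nil))))) (.node [] (.node [(2, (-1), 1, 1)] (.node [] (.node [] .nil (.node [] .nil (.node [(212, (-1), 1, 1)] .nil .nil))) (.node [(19, 1, 1, 1)] .nil (.node [(83, 1, 1, 1)] .nil .nil))) (.node [] .nil (.node [] (.node [] .nil (.node [(183, 1, 1, 1)] .nil .nil)) (.node [] (.node [(163, 1, 1, 1)] .nil .nil) .nil)))) (.node [] (.node [] (.node [(15, 1, 1, 1)] (.node [(35, 1, 1, 1)] .nil (.node [(167, 1, 1, 1)] .nil .nil)) .nil) (.node [] (.node [] (.node [(109, (-1), 1, 1)] .nil .nil) .nil) (.node [(84, 1, 1, 1)] .nil .nil))) (.node [] (.node [] (.node [(64, (-1), 1, 1)] .nil .nil) (.node [] .nil (.node [(230, 1, 1, 1)] .nil .nil))) .nil)))) (.node [] (.node [] (.node [] (.node [] (.node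 [] .nil (.node [] (.node [(129, 1, 1, 1)] .nil .nil) (.node [(202, (-1), 1, 1)] .nil .nil))) (.node [] (.node [] (.node [(103, (-1), 1, 1)] .nil .nil) (.node [(173, 1, 1, 1)] .nil .nil)) .nil)) (.node [] (.node [] (.node [(42, (-1), 1, 1)] (.node [(95, 1, 1, 1)] .nil .nil) .nil) .nil) (.node [(22, (-1), 1, 1)] (.node [] (.node [(116, (-1), 1, 1)] .nil .nil) .nil) .nil))) (.node [] (.node [] (.node [] (.node [] (.node [(92, (-1), 1, 1)] .nil .nil) .nil) .nil) .nil) (.node [] (.node [] (.node [(54, (-1), 1, 1)] .nil (.node [(170, (-1), 1, 1)] .nil .nil)) .nil) (.node [(25, 1, 1, 1)] (.node [] (.node [(126, (-1), 1, 1)] .nil .nil) (.node [(190, (-1), 1, 1)] .nil .nil)) .nil)))) (.node [] (.node [] (.node [] (.node [] (.node [(31, (-1), 1, 1)] (.node [(90, 1, 1, 1)] .nil .nil) (.node [(165, (-1), 1, 1)] .nil .nil)) .nil) (.node [(20, 1, 1, 1)] .nil .nil)) (.node [] (.node [] (.node [(45, 1, 1, 1)] (.node [(97, (-1), 1, 1)] .nil .nil) .nil)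 .nil) (.node [] (.node [] (.node [(121, (-1), 1, 1)] .nil .nil) .nil) .nil))) (.node [] (.node [] (.node [] (.node [] .nil (.node [(168, 1, 1, 1)] .nil .nil)) .nil) (.node [] (.node [] .nil (.node [(179, (-1), 1, 1)] .nil .nil)) (.node [(85, 1, 1, 1)] .nil .nil))) (.node [] (.node [(17, (-1), 1, 1)] (.node [] (.node [(101, 1, 1, 1)] .nil .nil) .nil) (.node [(79, (-1), 1, 1)] .nil .nil)) (.node [] (.node [] .nil (.node [(193, 1, 1, 1)] .nil .nil)) .nil))))))
def C86 : List (ℕ × List (ℕ × ℤ)) := [(9, [(2, (-1))]), (11, [(4, 1)]), (27, [(14, 1)]), (37, [(15, 1)]), (46, [(17, (-1))]), (49, [(19, 1)]), (50, [(20, 1)]), (56, [(22, (-1))]), (59, [(24, 1)]), (60, [(25, 1)]), (66, [(31, (-1))]), (67, [(32, (-1))]), (69, [(35, 1)]), (71, [(41, (-1))]), (72, [(42, (-1))]), (74, [(45, 1)]), (76, [(54, (-1))]), (77, [(64, (-1))]), (110, [(79, (-1))]), (111, [(80, (-1))]), (113, [(83, 1)]), (117, [(84, 1)]), (118, [(85, 1)]), (123, [(87, 1)]), (130,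 [(90, 1)]), (132, [(92, (-1))]), (136, [(95, 1)]), (138, [(97, (-1))]), (142, [(101, 1)]), (144, [(103, (-1))]), (147, [(107, 1)]), (149, [(109, (-1))]), (152, [(116, (-1))]), (154, [(121, (-1))]), (155, [(122, (-1))]), (156, [(126, (-1))]), (159, [(128, 1)]), (160, [(129, 1)]), (175, [(162, 1)]), (185, [(163, 1)]), (194, [(165, (-1))]), (197, [(167, 1)]), (198, [(168, 1)]), (204, [(170, (-1))]), (207, [(172, 1)]), (208, [(173, 1)]), (214, [(179, (-1))]), (215, [(180, (-1))]), (217, [(183, 1)]), (219, [(189, (-1))]), (220, [(190, (-1))]), (222, [(193, 1)]), (224, [(202, (-1))]), (225, [(212, (-1))]), (235, [(228, (-1))]), (237, [(230, 1)])]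
def M87 : Tr (List (ℕ × ℤ × ℕ × ℕ)) := (.node [] (.node [] (.node [] (.node [] (.node [] .nil (.node [(19, (-1), 1, 1)] (.node [] (.node [(103, (-1), 1, 1)] .nil .nil) .nil) (.node [(82, (-1), 1, 1)] .nil .nil))) (.node [] (.node [] (.node [(43, (-1), 1, 1)] .nil .nil) .nil) (.node [] (.node [] .nil (.node [(182, 1, 1, 1)] .nil .nil)) .nil))) (.node [] (.node [] (.node [] (.node [(34, (-1), 1, 1)] (.node [(92, (-1), 1, 1)] .nil .nil) (.node [(167, 1, 1, 1)] .nil .nil)) .nil) (.node [] (.node [] (.node [(108, 1, 1, 1)] .nil .nil) .nil) (.node [(85, 1, 1, 1)] .nil .nil))) (.node [] (.node [] .nil (.node [] .nil (.node [(229, 1, 1, 1)] .nil .nil))) (.node [] (.node [] (.node [(125, (-1), 1, 1)] .nil .nil) (.node [(191, 1, 1, 1)] .nil .nil)) .nil)))) (.node [] (.node [(3, (-1), 1, 1)] (.node [] (.node [] .nil (.node [] .nil (.node [(213, 1, 1, 1)] .nil .nil))) .nil) (.node [] (.node [] (.node [(45, (-1), 1, 1)] (.node [(97, (-1), 1, 1)] .nil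 .nil) .nil) .nil) (.node [(24, (-1), 1, 1)] (.node [] (.node [(123, (-1), 1, 1)] .nil .nil) .nil) .nil))) (.node [] .nil (.node [] (.node [] (.node [(65, (-1), 1, 1)] .nil (.node [(172, 1, 1, 1)] .nil .nil)) .nil) (.node [] (.node [] (.node [(128, 1, 1, 1)] .nil .nil) (.node [(193, 1, 1, 1)] .nil .nil)) .nil))))) (.node [] (.node [] (.node [] (.node [] (.node [] .nil (.node [] .nil (.node [(203, 1, 1, 1)] .nil .nil))) (.node [(20, (-1), 1, 1)] .nil (.node [(83, (-1), 1, 1)] .nil .nil))) (.node [] (.node [] (.node [(44, (-1), 1, 1)] (.node [(96, 1, 1, 1)] .nil .nil) .nil) .nil) (.node [(23, (-1), 1, 1)] (.node [] .nil (.node [(183, 1, 1, 1)] .nil .nil)) (.node [] (.node [(163, 1, 1, 1)] .nil .nil) .nil)))) (.node [] (.node [] (.node [(15, (-1), 1, 1)] (.node [(35, (-1), 1, 1)] .nil (.node [(168, 1, 1, 1)] .nil .nil)) .nil) (.node [] (.node [] (.node [(109, (-1), 1, 1)] .nil .nil) .nil) (.node [(86, 1, 1, 1)] .nil .nil))) (.node [] (.node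 [] (.node [(55, (-1), 1, 1)] .nil (.node [(171, 1, 1, 1)] .nil .nil)) (.node [] .nil (.node [(230, 1, 1, 1)] .nil .nil))) (.node [] (.node [] (.node [(127, 1, 1, 1)] .nil .nil) (.node [(192, 1, 1, 1)] .nil .nil)) .nil)))) (.node [] (.node [(4, (-1), 1, 1)] (.node [] (.node [] (.node [(33, (-1), 1, 1)] (.node [(91, 1, 1, 1)] .nil .nil) (.node [(166, 1, 1, 1)] .nil .nil)) .nil) (.node [] .nil (.node [(84, 1, 1, 1)] .nil .nil))) (.node [(14, (-1), 1, 1)] .nil (.node [(25, (-1), 1, 1)] (.node [] (.node [(124, (-1), 1, 1)] .nil .nil) .nil) .nil))) (.node [] (.node [] .nil (.node [] (.node [] .nil (.node [(181, 1, 1, 1)] .nil .nil)) .nil)) (.node [] (.node [(18, (-1), 1, 1)] (.node [] (.node [(102, 1, 1, 1)] .nil .nil) (.node [(173, 1, 1, 1)] .nil .nil)) (.node [(81, (-1), 1, 1)] (.node [(162, 1, 1, 1)] .nil .nil) .nil)) (.node [] (.node [] (.node [(129, 1, 1, 1)] .nil .nil) .nil) .nil))))))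
def C87 : List (ℕ × List (ℕ × ℤ)) := [(9, [(3, (-1))]), (10, [(4, (-1))]), (26, [(14, (-1))]), (36, [(15, (-1))]), (46, [(18, (-1))]), (47, [(19, (-1))]), (48, [(20, (-1))]), (56, [(23, (-1))]), (57, [(24, (-1))]), (58, [(25, (-1))]), (66, [(33, (-1))]), (67, [(34, (-1))]), (68, [(35, (-1))]), (71, [(43, (-1))]), (72, [(44, (-1))]), (73, [(45, (-1))]), (76, [(55, (-1))]), (77, [(65, (-1))]), (110, [(81, (-1))]), (111, [(82, (-1))]), (112, [(83, (-1))]), (114, [(84, 1)]), (115, [(85, 1)]), (116, [(86, 1)]), (130, [(91, 1)]), (131, [(92, (-1))]), (136, [(96, 1)]), (137, [(97, (-1))]), (142, [(102, 1)]), (143, [(103, (-1))]), (147, [(108, 1)]), (148, [(109, (-1))]), (153, [(123, (-1))]), (154, [(124, (-1))]), (155, [(125, (-1))]), (156, [(127, 1)]), (157, [(128, 1)]), (158, [(129, 1)]), (174, [(162, 1)]), (184, [(163, 1)]), (194, [(166, 1)]), (195, [(167, 1)]), (196, [(168, 1)]), (204, [(171, 1)]), (205, [(172, 1)]), (206, [(173, 1)]), (214,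 [(181, 1)]), (215, [(182, 1)]), (216, [(183, 1)]), (219, [(191, 1)]), (220, [(192, 1)]), (221, [(193, 1)]), (224, [(203, 1)]), (225, [(213, 1)]), (235, [(229, 1)]), (236, [(230, 1)])]
def M88 : Tr (List (ℕ × ℤ × ℕ × ℕ)) := (.node [] (.node [] (.node [] (.node [] (.node [] (.node [] (.node [(30, (-1), 1, 1)] .nil .nil) (.node [] .nil (.node [(200, (-1), 1, 1)] .nil .nil))) (.node [] .nil (.node [] .nil (.node [(231, (-1), 1, 1)] .nil .nil)))) (.node [] (.node [(16, 1, 1, 1)] (.node [] (.node [(93, 1, 1, 1)] .nil .nil) .nil) .nil) .nil)) (.node [] (.node [] .nil (.node [] (.node [] (.node [(110, (-1), 1, 1)] .nil .nil) (.node [(178, 1, 1, 1)] .nil .nil)) .nil)) (.node [] (.node [] (.node [(52, 1, 1, 1)] .nil .nil) (.node [(79, 1, 1, 1)] .nil .nil)) (.node [] (.node [] (.node [(130, (-1), 1, 1)] .nil .nil) .nil) (.node [] (.node [(164, (-1), 1, 1)] .nil .nil) .nil))))) (.node [] (.node [] (.node [] (.node [] (.node [(33, (-1), 1, 1)] (.node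 [(92, 1, 1, 1)] .nil .nil) (.node [(167, (-1), 1, 1)] .nil .nil)) (.node [] (.node [(133, (-1), 1, 1)] .nil .nil) (.node [(214, 1, 1, 1)] .nil .nil))) (.node [] (.node [] .nil (.node [(176, 1, 1, 1)] .nil .nil)) .nil)) (.node [(14, (-1), 1, 1)] (.node [] (.node [(47, 1, 1, 1)] .nil .nil) .nil) .nil)) (.node [(5, 1, 1, 1)] (.node [] .nil (.node [] (.node [] (.node [(117, (-1), 1, 1)] .nil .nil) (.node [(181, 1, 1, 1)] .nil .nil)) .nil)) (.node [] (.node [(19, 1, 1, 1)] (.node [(66, (-1), 1, 1)] (.node [(99, 1, 1, 1)] .nil .nil) .nil) (.node [(84, 1, 1, 1)] (.node [(162, 1, 1, 1)] .nil .nil) .nil)) (.node [(28, (-1), 1, 1)] (.node [] .nil (.node [(195, (-1), 1, 1)] .nil .nil)) (.node [(91, 1, 1, 1)] .nil .nil)))))) (.node [] (.node [] (.node [(0, 1, 1, 1)] (.node [] (.node [] (.node [(31, (-1), 1, 1)] .nil (.node [(166, (-1), 1, 1)] .nil .nil)) (.node [] (.node [(132, (-1), 1, 1)] .nil .nil) .nil)) (.node [] (.node [] .nil (.node [(175,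 1, 1, 1)] .nil .nil)) .nil)) (.node [] (.node [] (.node [(46, 1, 1, 1)] .nil .nil) .nil) (.node [] .nil (.node [(89, 1, 1, 1)] .nil .nil)))) (.node [] (.node [] .nil (.node [] (.node [] (.node [(114, (-1), 1, 1)] .nil .nil) (.node [(179, 1, 1, 1)] .nil .nil)) .nil)) (.node [] (.node [(18, 1, 1, 1)] (.node [] (.node [(98, (-1), 1, 1)] .nil .nil) .nil) (.node [(81, 1, 1, 1)] .nil .nil)) (.node [(27, (-1), 1, 1)] (.node [] .nil (.node [(194, (-1), 1, 1)] .nil .nil)) .nil)))) (.node [] (.node [] (.node [] .nil (.node [] (.node [] (.node [(104, (-1), 1, 1)] .nil .nil) .nil) .nil)) (.node [] (.node [(17, 1, 1, 1)] (.node [(49, 1, 1, 1)] .nil .nil) (.node [(78, 1, 1, 1)] .nil (.node [(226, (-1), 1, 1)] .nil .nil))) (.node [(26, (-1), 1, 1)] .nil (.node [(90, 1, 1, 1)] .nil .nil)))) (.node [] (.node [] .nil (.node [] (.node [] (.node [(119, (-1), 1, 1)] .nil .nil) .nil) .nil)) (.node [] (.node [] (.node [] .nil (.node [(174, 1, 1, 1)] .nil .nil))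 .nil) (.node [] (.node [] (.node [(131, (-1), 1, 1)] .nil .nil) (.node [(197, (-1), 1, 1)] .nil .nil)) (.node [] (.node [(165, (-1), 1, 1)] .nil .nil) .nil)))))))
def C88 : List (ℕ × List (ℕ × ℤ)) := [(8, [(0, 1)]), (13, [(5, 1)]), (25, [(14, (-1))]), (39, [(16, 1)]), (42, [(17, 1)]), (44, [(18, 1)]), (45, [(19, 1)]), (58, [(26, (-1))]), (60, [(27, (-1))]), (61, [(28, (-1))]), (63, [(30, (-1))]), (64, [(31, (-1))]), (65, [(33, (-1))]), (72, [(46, 1)]), (73, [(47, 1)]), (74, [(49, 1)]), (75, [(52, 1)]), (77, [(66, (-1))]), (106, [(78, 1)]), (107, [(79, 1)]), (108, [(81, 1)]), (109, [(84, 1)]), (120, [(89, 1)]), (122, [(90, 1)]), (125, [(91, 1)]), (129, [(92, 1)]), (135, [(93, 1)]), (140, [(98, (-1))]), (141, [(99, 1)]), (146, [(104, (-1))]), (147, [(110, (-1))]), (148, [(114, (-1))]), (149, [(117, (-1))]), (150, [(119, (-1))]), (155, [(130, (-1))]), (158, [(131, (-1))]), (160, [(132, (-1))]), (161, [(133, (-1))]), (173, [(162, 1)]), (187,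 [(164, (-1))]), (190, [(165, (-1))]), (192, [(166, (-1))]), (193, [(167, (-1))]), (206, [(174, 1)]), (208, [(175, 1)]), (209, [(176, 1)]), (211, [(178, 1)]), (212, [(179, 1)]), (213, [(181, 1)]), (220, [(194, (-1))]), (221, [(195, (-1))]), (222, [(197, (-1))]), (223, [(200, (-1))]), (225, [(214, 1)]), (234, [(226, (-1))]), (239, [(231, (-1))])]
def M89 : Tr (List (ℕ × ℤ × ℕ × ℕ)) := (.node [] (.node [] (.node [] (.node [] (.node [] (.node [] (.node [] .nil (.node [(166, (-1), 1, 1)] .nil .nil)) (.node [] (.node [(132, (-1), 1, 1)] .nil .nil) (.node [(201, 1, 1, 1)] .nil .nil))) (.node [] (.node [] .nil (.node [(175, 1, 1, 1)] .nil .nil)) .nil)) (.node [] (.node [] (.node [(46, (-1), 1, 1)] (.node [(94, 1, 1, 1)] .nil .nil) .nil) .nil) (.node [] (.node [] (.node [(120, (-1), 1, 1)] .nil .nil) .nil) (.node [(88, 1, 1, 1)] .nil .nil)))) (.node [] (.node [] .nil (.node [] (.node [] (.node [(111, (-1), 1, 1)] .nil .nil) .nil) .nil)) (.node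 [] (.node [(18, (-1), 1, 1)] (.node [(53, 1, 1, 1)] (.node [(98, (-1), 1, 1)] .nil .nil) .nil) (.node [(80, 1, 1, 1)] .nil .nil)) (.node [(27, 1, 1, 1)] (.node [] .nil (.node [(194, (-1), 1, 1)] .nil .nil)) .nil)))) (.node [] (.node [] (.node [] (.node [] (.node [(34, (-1), 1, 1)] .nil (.node [(168, 1, 1, 1)] .nil .nil)) (.node [] (.node [(134, 1, 1, 1)] .nil .nil) (.node [(215, (-1), 1, 1)] .nil .nil))) (.node [] (.node [] (.node [(104, (-1), 1, 1)] .nil .nil) (.node [(177, (-1), 1, 1)] .nil .nil)) .nil)) (.node [] (.node [(17, (-1), 1, 1)] (.node [(48, 1, 1, 1)] .nil .nil) (.node [(78, (-1), 1, 1)] .nil .nil)) (.node [(26, 1, 1, 1)] .nil (.node [(90, 1, 1, 1)] .nil .nil)))) (.node [] (.node [] .nil (.node [] (.node [] (.node [(118, (-1), 1, 1)] .nil .nil) (.node [(182, (-1), 1, 1)] .nil .nil)) .nil)) (.node [] (.node [(20, 1, 1, 1)] (.node [(67, (-1), 1, 1)] (.node [(100, 1, 1, 1)] .nil .nil) (.node [(174, 1, 1, 1)] .nil .nil)) (.node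 [(85, 1, 1, 1)] .nil .nil)) (.node [(29, (-1), 1, 1)] (.node [] (.node [(131, (-1), 1, 1)] .nil .nil) (.node [(196, 1, 1, 1)] .nil .nil)) (.node [] (.node [(165, (-1), 1, 1)] .nil .nil) .nil)))))) (.node [] (.node [] (.node [(1, 1, 1, 1)] (.node [] (.node [] (.node [(32, (-1), 1, 1)] (.node [(92, 1, 1, 1)] .nil .nil) .nil) .nil) .nil) (.node [(14, 1, 1, 1)] .nil .nil)) (.node [(5, (-1), 1, 1)] (.node [] .nil (.node [] (.node [] (.node [(115, (-1), 1, 1)] .nil .nil) (.node [(180, (-1), 1, 1)] .nil .nil)) .nil)) (.node [] (.node [] .nil (.node [(82, 1, 1, 1)] (.node [(162, 1, 1, 1)] .nil .nil) .nil)) (.node [] .nil (.node [(91, 1, 1, 1)] .nil .nil))))) (.node [] (.node [] (.node [] .nil (.node [] (.node [] .nil (.node [(178, 1, 1, 1)] .nil .nil)) .nil)) (.node [] (.node [] (.node [(50, 1, 1, 1)] .nil .nil) (.node [] .nil (.node [(227, 1, 1, 1)] .nil .nil))) (.node [] (.node [] (.node [(130, (-1), 1, 1)] .nil .nil) .nil) (.node [] (.node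 [(164, (-1), 1, 1)] .nil .nil) .nil)))) (.node [] (.node [] (.node [(16, (-1), 1, 1)] .nil .nil) .nil) (.node [] (.node [] .nil (.node [] .nil (.node [(231, (-1), 1, 1)] .nil .nil))) (.node [(30, 1, 1, 1)] (.node [] .nil (.node [(198, 1, 1, 1)] .nil .nil)) .nil))))))
def C89 : List (ℕ × List (ℕ × ℤ)) := [(8, [(1, 1)]), (12, [(5, (-1))]), (24, [(14, 1)]), (38, [(16, (-1))]), (41, [(17, (-1))]), (43, [(18, (-1))]), (45, [(20, 1)]), (57, [(26, 1)]), (59, [(27, 1)]), (61, [(29, (-1))]), (62, [(30, 1)]), (64, [(32, (-1))]), (65, [(34, (-1))]), (71, [(46, (-1))]), (73, [(48, 1)]), (74, [(50, 1)]), (75, [(53, 1)]), (77, [(67, (-1))]), (105, [(78, (-1))]), (107, [(80, 1)]), (108, [(82, 1)]), (109, [(85, 1)]), (119, [(88, 1)]), (121, [(90, 1)]), (124, [(91, 1)]), (128, [(92, 1)]), (135, [(94, 1)]), (139, [(98, (-1))]), (141, [(100, 1)]), (145, [(104, (-1))]), (147, [(111, (-1))]), (148, [(115, (-1))]), (149, [(118, (-1))]), (151, [(120, (-1))]),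 (154, [(130, (-1))]), (157, [(131, (-1))]), (159, [(132, (-1))]), (161, [(134, 1)]), (172, [(162, 1)]), (186, [(164, (-1))]), (189, [(165, (-1))]), (191, [(166, (-1))]), (193, [(168, 1)]), (205, [(174, 1)]), (207, [(175, 1)]), (209, [(177, (-1))]), (210, [(178, 1)]), (212, [(180, (-1))]), (213, [(182, (-1))]), (219, [(194, (-1))]), (221, [(196, 1)]), (222, [(198, 1)]), (223, [(201, 1)]), (225, [(215, (-1))]), (234, [(227, 1)]), (238, [(231, (-1))])]
def M90 : Tr (List (ℕ × ℤ × ℕ × ℕ)) := (.node [] (.node [] (.node [] (.node [] (.node [] (.node [] (.node [(32, 1, 1, 1)] (.node [(92, 1, 1, 1)] .nil .nil) (.node [(167, 1, 1, 1)] .nil .nil)) (.node [] (.node [(133, 1, 1, 1)] .nil .nil) (.node [(202, (-1), 1, 1)] .nil .nil))) (.node [] (.node [] .nil (.node [(176, (-1), 1, 1)] .nil .nil)) .nil)) (.node [(14, (-1), 1, 1)] (.node [] (.node [(47, (-1), 1, 1)] (.node [(95, 1, 1, 1)] .nil .nil) .nil) .nil) (.node [] (.node [] (.node [(122, (-1),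 1, 1)] .nil .nil) .nil) .nil))) (.node [(5, 1, 1, 1)] (.node [] .nil (.node [] (.node [] (.node [(112, (-1), 1, 1)] .nil .nil) (.node [(180, (-1), 1, 1)] .nil .nil)) .nil)) (.node [] (.node [(19, (-1), 1, 1)] (.node [(54, 1, 1, 1)] .nil .nil) (.node [] (.node [(162, 1, 1, 1)] .nil .nil) .nil)) (.node [(28, 1, 1, 1)] (.node [] .nil (.node [(195, 1, 1, 1)] .nil .nil)) (.node [(91, 1, 1, 1)] .nil .nil))))) (.node [] (.node [] (.node [] (.node [] (.node [(35, (-1), 1, 1)] .nil .nil) (.node [] .nil (.node [(216, 1, 1, 1)] .nil .nil))) .nil) (.node [] (.node [] .nil (.node [(79, (-1), 1, 1)] .nil .nil)) (.node [] (.node [] (.node [(130, (-1), 1, 1)] .nil .nil) .nil) (.node [] (.node [(164, (-1), 1, 1)] .nil .nil) .nil)))) (.node [] (.node [] (.node [(16, 1, 1, 1)] .nil .nil) (.node [] (.node [] .nil (.node [(183, 1, 1, 1)] .nil .nil)) (.node [(88, 1, 1, 1)] .nil .nil))) (.node [] (.node [] (.node [(68, (-1), 1, 1)] (.node [(101, 1, 1, 1)] .nil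 .nil) .nil) (.node [(86, 1, 1, 1)] .nil (.node [(231, (-1), 1, 1)] .nil .nil))) .nil)))) (.node [] (.node [] (.node [(2, 1, 1, 1)] (.node [] (.node [] (.node [] .nil (.node [(168, 1, 1, 1)] .nil .nil)) (.node [] (.node [(134, 1, 1, 1)] .nil .nil) .nil)) (.node [] (.node [] (.node [(104, (-1), 1, 1)] .nil .nil) (.node [(177, (-1), 1, 1)] .nil .nil)) .nil)) (.node [] (.node [(17, 1, 1, 1)] (.node [(48, (-1), 1, 1)] .nil .nil) .nil) (.node [(26, (-1), 1, 1)] .nil .nil))) (.node [] (.node [] .nil (.node [] (.node [] (.node [(116, (-1), 1, 1)] .nil .nil) .nil) .nil)) (.node [] (.node [(20, (-1), 1, 1)] (.node [] .nil (.node [(174, 1, 1, 1)] .nil .nil)) (.node [(83, 1, 1, 1)] .nil .nil)) (.node [(29, 1, 1, 1)] (.node [] (.node [(131, (-1), 1, 1)] .nil .nil) (.node [(196, 1, 1, 1)] .nil .nil)) (.node [] (.node [(165, (-1), 1, 1)] .nil .nil) .nil))))) (.node [] (.node [] (.node [] .nil (.node [] (.node [] .nil (.node [(179, (-1), 1, 1)] .nil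 .nil)) .nil)) (.node [] (.node [] (.node [(51, 1, 1, 1)] (.node [(98, (-1), 1, 1)] .nil .nil) .nil) (.node [(80, (-1), 1, 1)] .nil (.node [(228, (-1), 1, 1)] .nil .nil))) .nil)) (.node [] (.node [] .nil (.node [] (.node [] (.node [(121, (-1), 1, 1)] .nil .nil) .nil) (.node [(89, 1, 1, 1)] .nil .nil))) (.node [] .nil (.node [(31, 1, 1, 1)] (.node [] .nil (.node [(199, (-1), 1, 1)] .nil .nil)) .nil))))))
def C90 : List (ℕ × List (ℕ × ℤ)) := [(8, [(2, 1)]), (11, [(5, 1)]), (23, [(14, (-1))]), (37, [(16, 1)]), (40, [(17, 1)]), (43, [(19, (-1))]), (44, [(20, (-1))]), (56, [(26, (-1))]), (59, [(28, 1)]), (60, [(29, 1)]), (62, [(31, 1)]), (63, [(32, 1)]), (65, [(35, (-1))]), (71, [(47, (-1))]), (72, [(48, (-1))]), (74, [(51, 1)]), (75, [(54, 1)]), (77, [(68, (-1))]), (105, [(79, (-1))]), (106, [(80, (-1))]), (108, [(83, 1)]), (109, [(86, 1)]), (117, [(88, 1)]), (118, [(89, 1)]), (123, [(91, 1)]), (127, [(92, 1)]), (135, [(95, 1)]), (138, [(98,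 (-1))]), (141, [(101, 1)]), (144, [(104, (-1))]), (147, [(112, (-1))]), (148, [(116, (-1))]), (150, [(121, (-1))]), (151, [(122, (-1))]), (153, [(130, (-1))]), (156, [(131, (-1))]), (159, [(133, 1)]), (160, [(134, 1)]), (171, [(162, 1)]), (185, [(164, (-1))]), (188, [(165, (-1))]), (191, [(167, 1)]), (192, [(168, 1)]), (204, [(174, 1)]), (207, [(176, (-1))]), (208, [(177, (-1))]), (210, [(179, (-1))]), (211, [(180, (-1))]), (213, [(183, 1)]), (219, [(195, 1)]), (220, [(196, 1)]), (222, [(199, (-1))]), (223, [(202, (-1))]), (225, [(216, 1)]), (234, [(228, (-1))]), (237, [(231, (-1))])]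
def M91 : Tr (List (ℕ × ℤ × ℕ × ℕ)) := (.node [] (.node [] (.node [] (.node [] (.node [] (.node [] (.node [(34, 1, 1, 1)] .nil .nil) (.node [] .nil (.node [(203, 1, 1, 1)] .nil .nil))) (.node [] (.node [] (.node [(104, (-1), 1, 1)] .nil .nil) .nil) .nil)) (.node [] (.node [] (.node [(49, (-1), 1, 1)] (.node [(96, 1, 1, 1)] .nil .nil) .nil) .nil) (.node [] (.node [] (.node [(125, (-1), 1, 1)] .nil .nil) .nil) .nil))) (.node [] (.node [] .nil (.node [] (.node [] (.node [(113, (-1), 1, 1)] .nil .nil) (.node [(182, 1, 1, 1)] .nil .nil)) (.node [(89, 1, 1, 1)] .nil .nil))) (.node [] (.node [] (.node [(55, 1, 1, 1)] .nil .nil) (.node [(83, (-1), 1, 1)] .nil .nil)) (.node [] (.node [] .nil (.node [(197, (-1), 1, 1)] .nil .nil)) .nil)))) (.node [] (.node [] (.node [] (.node [] .nil (.node [] .nil (.node [(217, (-1), 1, 1)] .nil .nil))) .nil) (.node [] (.node [(19, 1, 1, 1)] (.node [(51, (-1), 1, 1)] (.node [(98, (-1), 1, 1)] .nil .nil) .nil)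 (.node [(81, (-1), 1, 1)] .nil .nil)) (.node [(28, (-1), 1, 1)] .nil .nil))) (.node [] (.node [] .nil (.node [] (.node [] (.node [(123, (-1), 1, 1)] .nil .nil) .nil) .nil)) (.node [] (.node [] (.node [(69, (-1), 1, 1)] (.node [(102, 1, 1, 1)] .nil .nil) (.node [(176, (-1), 1, 1)] .nil .nil)) (.node [(87, 1, 1, 1)] .nil .nil)) (.node [] (.node [] (.node [(133, 1, 1, 1)] .nil .nil) (.node [(199, (-1), 1, 1)] .nil .nil)) (.node [] (.node [(167, 1, 1, 1)] .nil .nil) .nil)))))) (.node [] (.node [] (.node [(3, 1, 1, 1)] (.node [] (.node [] (.node [(35, 1, 1, 1)] .nil .nil) .nil) .nil) (.node [] (.node [(18, 1, 1, 1)] (.node [(50, (-1), 1, 1)] .nil .nil) .nil) (.node [(27, (-1), 1, 1)] (.node [] (.node [(130, (-1), 1, 1)] .nil .nil) .nil) (.node [] (.node [(164, (-1), 1, 1)] .nil .nil) .nil)))) (.node [] (.node [] (.node [(16, (-1), 1, 1)] .nil .nil) (.node [] (.node [] .nil (.node [(183, 1, 1, 1)] .nil .nil)) (.node [(90, 1, 1, 1)] .nil .nil)))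 (.node [] (.node [] (.node [] .nil (.node [(175, (-1), 1, 1)] .nil .nil)) (.node [] .nil (.node [(231, (-1), 1, 1)] .nil .nil))) (.node [] (.node [] (.node [(132, 1, 1, 1)] .nil .nil) (.node [(198, (-1), 1, 1)] .nil .nil)) (.node [] (.node [(166, 1, 1, 1)] .nil .nil) .nil))))) (.node [] (.node [(5, (-1), 1, 1)] (.node [] .nil (.node [] (.node [] .nil (.node [(181, 1, 1, 1)] .nil .nil)) (.node [(88, 1, 1, 1)] .nil .nil))) (.node [] (.node [(20, 1, 1, 1)] .nil (.node [(82, (-1), 1, 1)] (.node [(162, 1, 1, 1)] .nil .nil) (.node [(229, 1, 1, 1)] .nil .nil))) (.node [(29, (-1), 1, 1)] .nil .nil))) (.node [] (.node [(14, 1, 1, 1)] .nil (.node [] (.node [] (.node [(124, (-1), 1, 1)] .nil .nil) .nil) .nil)) (.node [] (.node [] (.node [] .nil (.node [(177, (-1), 1, 1)] .nil .nil)) .nil) (.node [(33, 1, 1, 1)] (.node [] (.node [(134, 1, 1, 1)] .nil .nil) .nil) (.node [(92, 1, 1, 1)] (.node [(168, 1, 1, 1)] .nil .nil) .nil)))))))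
def C91 : List (ℕ × List (ℕ × ℤ)) := [(8, [(3, 1)]), (10, [(5, (-1))]), (22, [(14, 1)]), (36, [(16, (-1))]), (40, [(18, 1)]), (41, [(19, 1)]), (42, [(20, 1)]), (56, [(27, (-1))]), (57, [(28, (-1))]), (58, [(29, (-1))]), (62, [(33, 1)]), (63, [(34, 1)]), (64, [(35, 1)]), (71, [(49, (-1))]), (72, [(50, (-1))]), (73, [(51, (-1))]), (75, [(55, 1)]), (77, [(69, (-1))]), (105, [(81, (-1))]), (106, [(82, (-1))]), (107, [(83, (-1))]), (109, [(87, 1)]), (114, [(88, 1)]), (115, [(89, 1)]), (116, [(90, 1)]), (126, [(92, 1)]), (135, [(96, 1)]), (137, [(98, (-1))]), (141, [(102, 1)]), (143, [(104, (-1))]), (147, [(113, (-1))]), (149, [(123, (-1))]), (150, [(124, (-1))]), (151, [(125, (-1))]), (152, [(130, (-1))]), (156, [(132, 1)]), (157, [(133, 1)]), (158, [(134, 1)]), (170, [(162, 1)]), (184, [(164, (-1))]), (188, [(166, 1)]), (189, [(167, 1)]), (190, [(168, 1)]), (204, [(175, (-1))]), (205, [(176, (-1))]), (206, [(177, (-1))]), (210, [(181, 1)]),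 (211, [(182, 1)]), (212, [(183, 1)]), (219, [(197, (-1))]), (220, [(198, (-1))]), (221, [(199, (-1))]), (223, [(203, 1)]), (225, [(217, (-1))]), (234, [(229, 1)]), (236, [(231, (-1))])]
def M92 : Tr (List (ℕ × ℤ × ℕ × ℕ)) := (.node [] (.node [] (.node [] (.node [] (.node [] .nil (.node [] (.node [] .nil (.node [(181, 1, 1, 1)] .nil .nil)) (.node [(89, 1, 1, 1)] .nil .nil))) (.node [] (.node [(20, (-1), 1, 1)] (.node [(52, (-1), 1, 1)] (.node [(97, 1, 1, 1)] .nil .nil) .nil) .nil) (.node [] (.node [] (.node [(129, (-1), 1, 1)] .nil .nil) .nil) .nil))) (.node [] .nil (.node [] (.node [] .nil (.node [(86, (-1), 1, 1)] .nil (.node [(231, (-1), 1, 1)] .nil .nil))) (.node [(33, (-1), 1, 1)] (.node [] (.node [(134, 1, 1, 1)] .nil .nil) (.node [(200, 1, 1, 1)] .nil .nil)) (.node [] (.node [(168, 1, 1, 1)] .nil .nil) .nil))))) (.node [] (.node [(5, 1, 1, 1)] (.node [] (.node [] .nil (.node [] .nil (.node [(218, 1, 1, 1)] .nil .nil))) (.node []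 (.node [] .nil (.node [(183, 1, 1, 1)] .nil .nil)) (.node [(91, 1, 1, 1)] .nil .nil))) (.node [] (.node [] (.node [(54, (-1), 1, 1)] .nil .nil) (.node [(84, (-1), 1, 1)] (.node [(162, 1, 1, 1)] .nil .nil) .nil)) (.node [(31, (-1), 1, 1)] (.node [] (.node [(132, 1, 1, 1)] .nil .nil) .nil) (.node [] (.node [(166, 1, 1, 1)] .nil .nil) .nil)))) (.node [] (.node [(14, (-1), 1, 1)] (.node [(18, (-1), 1, 1)] .nil .nil) (.node [] (.node [] (.node [(127, (-1), 1, 1)] .nil .nil) .nil) .nil)) (.node [] (.node [] (.node [(70, (-1), 1, 1)] (.node [(103, 1, 1, 1)] .nil .nil) (.node [(179, 1, 1, 1)] .nil .nil)) .nil) (.node [(35, (-1), 1, 1)] (.node [] .nil (.node [(202, 1, 1, 1)] .nil .nil)) .nil))))) (.node [] (.node [] (.node [(4, 1, 1, 1)] (.node [] .nil (.node [] (.node [] .nil (.node [(182, 1, 1, 1)] .nil .nil)) (.node [(90, 1, 1, 1)] .nil .nil))) (.node [] (.node [] (.node [(53, (-1), 1, 1)] (.node [(98, (-1), 1, 1)] .nil .nil) .nil) .nil) (.node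 [(30, (-1), 1, 1)] (.node [] (.node [(131, 1, 1, 1)] .nil .nil) .nil) (.node [] (.node [(165, 1, 1, 1)] .nil .nil) .nil)))) (.node [] (.node [] (.node [(17, (-1), 1, 1)] .nil .nil) (.node [] (.node [] (.node [(126, (-1), 1, 1)] .nil .nil) .nil) .nil)) (.node [] (.node [] (.node [] .nil (.node [(178, 1, 1, 1)] .nil .nil)) (.node [(87, (-1), 1, 1)] .nil .nil)) (.node [(34, (-1), 1, 1)] (.node [] .nil (.node [(201, 1, 1, 1)] .nil .nil)) .nil)))) (.node [] (.node [] .nil (.node [] (.node [] (.node [(55, (-1), 1, 1)] .nil .nil) (.node [(85, (-1), 1, 1)] .nil (.node [(230, (-1), 1, 1)] .nil .nil))) (.node [(32, (-1), 1, 1)] (.node [] (.node [(133, 1, 1, 1)] .nil .nil) .nil) (.node [] (.node [(167, 1, 1, 1)] .nil .nil) .nil)))) (.node [] (.node [] (.node [(19, (-1), 1, 1)] .nil .nil) (.node [] (.node [] (.node [(128, (-1), 1, 1)] .nil .nil) .nil) .nil)) (.node [] (.node [] (.node [] (.node [(104, (-1), 1, 1)] .nil .nil) (.node [(180, 1, 1, 1)]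 .nil .nil)) (.node [(88, 1, 1, 1)] .nil .nil)) (.node [] (.node [] .nil (.node [(203, 1, 1, 1)] .nil .nil)) .nil))))))
def C92 : List (ℕ × List (ℕ × ℤ)) := [(8, [(4, 1)]), (9, [(5, 1)]), (21, [(14, (-1))]), (36, [(17, (-1))]), (37, [(18, (-1))]), (38, [(19, (-1))]), (39, [(20, (-1))]), (56, [(30, (-1))]), (57, [(31, (-1))]), (58, [(32, (-1))]), (59, [(33, (-1))]), (60, [(34, (-1))]), (61, [(35, (-1))]), (71, [(52, (-1))]), (72, [(53, (-1))]), (73, [(54, (-1))]), (74, [(55, (-1))]), (77, [(70, (-1))]), (105, [(84, (-1))]), (106, [(85, (-1))]), (107, [(86, (-1))]), (108, [(87, (-1))]), (110, [(88, 1)]), (111, [(89, 1)]), (112, [(90, 1)]), (113, [(91, 1)]), (135, [(97, 1)]), (136, [(98, (-1))]), (141, [(103, 1)]), (142, [(104, (-1))]), (148, [(126, (-1))]), (149, [(127, (-1))]), (150, [(128, (-1))]), (151, [(129, (-1))]), (152, [(131, 1)]), (153, [(132, 1)]), (154, [(133, 1)]), (155, [(134, 1)]), (169, [(162, 1)]), (184, [(165, 1)]), (185,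 [(166, 1)]), (186, [(167, 1)]), (187, [(168, 1)]), (204, [(178, 1)]), (205, [(179, 1)]), (206, [(180, 1)]), (207, [(181, 1)]), (208, [(182, 1)]), (209, [(183, 1)]), (219, [(200, 1)]), (220, [(201, 1)]), (221, [(202, 1)]), (222, [(203, 1)]), (225, [(218, 1)]), (234, [(230, (-1))]), (235, [(231, (-1))])]
def M93 : Tr (List (ℕ × ℤ × ℕ × ℕ)) := (.node [] (.node [] (.node [] (.node [(0, (-1), 1, 1)] (.node [] .nil (.node [] (.node [] (.node [(114, (-1), 1, 1)] .nil .nil) .nil) (.node [] .nil (.node [(232, 1, 1, 1)] .nil .nil)))) (.node [] (.node [(21, 1, 1, 1)] .nil (.node [(84, 1, 1, 1)] .nil .nil)) (.node [(33, 1, 1, 1)] (.node [] (.node [(135, (-1), 1, 1)] .nil .nil) (.node [(194, (-1), 1, 1)] .nil .nil)) (.node [] (.node [(167, (-1), 1, 1)] .nil .nil) .nil)))) (.node [] (.node [] .nil (.node [(28, 1, 1, 1)] (.node [] .nil (.node [(188, (-1), 1, 1)] .nil .nil)) .nil)) (.node [] (.node [] (.node [(62, 1, 1, 1)] .nil .nil) .nil) (.node []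 (.node [] (.node [(136, (-1), 1, 1)] .nil .nil) .nil) .nil)))) (.node [] (.node [] (.node [] (.node [] (.node [] (.node [(97, 1, 1, 1)] .nil .nil) .nil) (.node [] (.node [(139, (-1), 1, 1)] .nil .nil) (.node [(219, (-1), 1, 1)] .nil .nil))) (.node [] (.node [] (.node [(119, (-1), 1, 1)] .nil .nil) (.node [(186, (-1), 1, 1)] .nil .nil)) (.node [] (.node [(164, (-1), 1, 1)] .nil .nil) .nil))) (.node [] (.node [] (.node [(57, 1, 1, 1)] .nil .nil) (.node [] .nil (.node [(226, (-1), 1, 1)] .nil .nil))) (.node [] (.node [] .nil (.node [(197, (-1), 1, 1)] .nil .nil)) .nil))) (.node [(6, 1, 1, 1)] (.node [] (.node [] .nil (.node [(79, 1, 1, 1)] .nil .nil)) (.node [(30, 1, 1, 1)] (.node [] .nil (.node [(191, (-1), 1, 1)] .nil .nil)) .nil)) (.node [] (.node [(24, 1, 1, 1)] (.node [] (.node [(105, (-1), 1, 1)] .nil .nil) .nil) (.node [] (.node [(163, (-1), 1, 1)] .nil .nil) .nil)) (.node [] .nil (.node [(96, 1, 1, 1)] .nil .nil)))))) (.node [] (.node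 [] (.node [] (.node [] (.node [] .nil (.node [] (.node [(138, (-1), 1, 1)] .nil .nil) .nil)) (.node [(26, 1, 1, 1)] (.node [] (.node [(117, (-1), 1, 1)] .nil .nil) (.node [(185, (-1), 1, 1)] .nil .nil)) .nil)) (.node [] (.node [] (.node [(56, 1, 1, 1)] .nil .nil) (.node [(88, 1, 1, 1)] .nil .nil)) (.node [] (.node [] .nil (.node [(195, (-1), 1, 1)] .nil .nil)) (.node [(94, 1, 1, 1)] .nil .nil)))) (.node [] (.node [(14, 1, 1, 1)] (.node [] .nil (.node [(78, 1, 1, 1)] .nil .nil)) (.node [] (.node [] .nil (.node [(189, (-1), 1, 1)] .nil .nil)) (.node [] (.node [(165, (-1), 1, 1)] .nil .nil) .nil))) (.node [] (.node [(23, 1, 1, 1)] (.node [(66, 1, 1, 1)] .nil .nil) .nil) .nil))) (.node [] (.node [] (.node [] .nil (.node [(27, 1, 1, 1)] .nil .nil)) (.node [] (.node [(22, 1, 1, 1)] (.node [(59, 1, 1, 1)] .nil .nil) .nil) (.node [] (.node [] .nil (.node [(200, (-1), 1, 1)] .nil .nil)) (.node [(95, 1, 1, 1)] .nil .nil)))) (.node [] (.node []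 (.node [] (.node [] (.node [(98, 1, 1, 1)] .nil .nil) .nil) (.node [(81, 1, 1, 1)] .nil .nil)) (.node [(31, 1, 1, 1)] .nil (.node [] (.node [(166, (-1), 1, 1)] .nil .nil) .nil))) (.node [] (.node [] (.node [] (.node [(110, (-1), 1, 1)] .nil .nil) (.node [(184, (-1), 1, 1)] .nil .nil)) .nil) (.node [] (.node [] (.node [(137, (-1), 1, 1)] .nil .nil) .nil) .nil))))))
def C93 : List (ℕ × List (ℕ × ℤ)) := [(7, [(0, (-1))]), (13, [(6, 1)]), (20, [(14, 1)]), (39, [(21, 1)]), (42, [(22, 1)]), (44, [(23, 1)]), (45, [(24, 1)]), (48, [(26, 1)]), (50, [(27, 1)]), (51, [(28, 1)]), (53, [(30, 1)]), (54, [(31, 1)]), (55, [(33, 1)]), (72, [(56, 1)]), (73, [(57, 1)]), (74, [(59, 1)]), (75, [(62, 1)]), (76, [(66, 1)]), (100, [(78, 1)]), (101, [(79, 1)]), (102, [(81, 1)]), (103, [(84, 1)]), (104, [(88, 1)]), (120, [(94, 1)]), (122, [(95, 1)]), (125, [(96, 1)]), (129, [(97, 1)]), (134, [(98, 1)]), (141, [(105, (-1))]), (142, [(110, (-1))]), (143, [(114,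 (-1))]), (144, [(117, (-1))]), (145, [(119, (-1))]), (151, [(135, (-1))]), (155, [(136, (-1))]), (158, [(137, (-1))]), (160, [(138, (-1))]), (161, [(139, (-1))]), (173, [(163, (-1))]), (177, [(164, (-1))]), (180, [(165, (-1))]), (182, [(166, (-1))]), (183, [(167, (-1))]), (206, [(184, (-1))]), (208, [(185, (-1))]), (209, [(186, (-1))]), (211, [(188, (-1))]), (212, [(189, (-1))]), (213, [(191, (-1))]), (215, [(194, (-1))]), (216, [(195, (-1))]), (217, [(197, (-1))]), (218, [(200, (-1))]), (225, [(219, (-1))]), (233, [(226, (-1))]), (239, [(232, 1)])]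
def M94 : Tr (List (ℕ × ℤ × ℕ × ℕ)) := (.node [] (.node [] (.node [] (.node [(1, (-1), 1, 1)] (.node [] (.node [] .nil (.node [] (.node [(138, (-1), 1, 1)] .nil .nil) .nil)) (.node [(26, (-1), 1, 1)] (.node [] (.node [(115, (-1), 1, 1)] .nil .nil) (.node [(185, (-1), 1, 1)] .nil .nil)) .nil)) (.node [] (.node [] (.node [(56, (-1), 1, 1)] .nil .nil) (.node [(85, 1, 1, 1)] .nil .nil)) (.node [(34, 1, 1, 1)] .nil (.node [(93, 1, 1, 1)] (.node [(168, 1, 1, 1)] .nil .nil) .nil)))) (.node [] (.node [(14, (-1), 1, 1)] (.node [] .nil (.node [(78, (-1), 1, 1)] .nil .nil)) (.node [(29, 1, 1, 1)] .nil (.node [] (.node [(165, (-1), 1, 1)] .nil .nil) .nil))) (.node [] (.node [(23, (-1), 1, 1)] (.node [(63, 1, 1, 1)] .nil .nil) .nil) .nil))) (.node [] (.node [] (.node [] (.node [] .nil (.node [] (.node [(140, 1, 1, 1)] .nil .nil) (.node [(220, 1, 1, 1)] .nil .nil))) (.node [(27, (-1), 1, 1)] (.node [] .nil (.node [(187, 1, 1, 1)] .nil .nil)) .nil))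 (.node [] (.node [(22, (-1), 1, 1)] (.node [(58, 1, 1, 1)] .nil .nil) (.node [] .nil (.node [(227, 1, 1, 1)] .nil .nil))) (.node [] (.node [] .nil (.node [(198, 1, 1, 1)] .nil .nil)) (.node [(95, 1, 1, 1)] .nil .nil)))) (.node [] (.node [] (.node [] (.node [] (.node [(98, 1, 1, 1)] .nil .nil) .nil) (.node [(80, 1, 1, 1)] .nil .nil)) (.node [] (.node [] .nil (.node [(192, 1, 1, 1)] .nil .nil)) (.node [] (.node [(166, (-1), 1, 1)] .nil .nil) .nil))) (.node [] (.node [(25, 1, 1, 1)] (.node [] (.node [(106, (-1), 1, 1)] .nil .nil) (.node [(184, (-1), 1, 1)] .nil .nil)) .nil) (.node [] (.node [] (.node [(137, (-1), 1, 1)] .nil .nil) .nil) .nil))))) (.node [] (.node [] (.node [] (.node [] (.node [] (.node [] (.node [(97, 1, 1, 1)] .nil .nil) .nil) .nil) (.node [] (.node [] (.node [(118, (-1), 1, 1)] .nil .nil) .nil) (.node [] (.node [(164, (-1), 1, 1)] .nil .nil) .nil))) (.node [] (.node [] .nil (.node [(89, 1, 1, 1)] .nil .nil)) (.node []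 (.node [] .nil (.node [(196, 1, 1, 1)] .nil .nil)) .nil))) (.node [(6, (-1), 1, 1)] (.node [] .nil (.node [(30, (-1), 1, 1)] (.node [] .nil (.node [(190, 1, 1, 1)] .nil .nil)) .nil)) (.node [] (.node [] (.node [(67, 1, 1, 1)] .nil .nil) (.node [] (.node [(163, (-1), 1, 1)] .nil .nil) .nil)) (.node [] .nil (.node [(96, 1, 1, 1)] .nil .nil))))) (.node [] (.node [] (.node [] .nil (.node [] (.node [] (.node [(120, (-1), 1, 1)] .nil .nil) (.node [(188, (-1), 1, 1)] .nil .nil)) .nil)) (.node [] (.node [] (.node [(60, 1, 1, 1)] .nil .nil) .nil) (.node [] (.node [] (.node [(136, (-1), 1, 1)] .nil .nil) (.node [(201, 1, 1, 1)] .nil .nil)) .nil))) (.node [] (.node [] (.node [(21, (-1), 1, 1)] .nil (.node [(82, 1, 1, 1)] .nil .nil)) (.node [(32, 1, 1, 1)] (.node [] (.node [(135, (-1), 1, 1)] .nil .nil) (.node [(194, (-1), 1, 1)] .nil .nil)) .nil)) (.node [] (.node [] (.node [] (.node [(111, (-1), 1, 1)] .nil .nil) .nil) (.node [] .nil (.node [(232,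 1, 1, 1)] .nil .nil))) .nil)))))
def C94 : List (ℕ × List (ℕ × ℤ)) := [(7, [(1, (-1))]), (12, [(6, (-1))]), (19, [(14, (-1))]), (38, [(21, (-1))]), (41, [(22, (-1))]), (43, [(23, (-1))]), (45, [(25, 1)]), (47, [(26, (-1))]), (49, [(27, (-1))]), (51, [(29, 1)]), (52, [(30, (-1))]), (54, [(32, 1)]), (55, [(34, 1)]), (71, [(56, (-1))]), (73, [(58, 1)]), (74, [(60, 1)]), (75, [(63, 1)]), (76, [(67, 1)]), (99, [(78, (-1))]), (101, [(80, 1)]), (102, [(82, 1)]), (103, [(85, 1)]), (104, [(89, 1)]), (119, [(93, 1)]), (121, [(95, 1)]), (124, [(96, 1)]), (128, [(97, 1)]), (133, [(98, 1)]), (141, [(106, (-1))]), (142, [(111, (-1))]), (143, [(115, (-1))]), (144, [(118, (-1))]), (146, [(120, (-1))]), (150, [(135, (-1))]), (154, [(136, (-1))]), (157, [(137, (-1))]), (159, [(138, (-1))]), (161, [(140, 1)]), (172, [(163, (-1))]), (176, [(164, (-1))]), (179, [(165, (-1))]), (181, [(166, (-1))]), (183, [(168, 1)]), (205, [(184, (-1))]), (207, [(185, (-1))]),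 (209, [(187, 1)]), (210, [(188, (-1))]), (212, [(190, 1)]), (213, [(192, 1)]), (214, [(194, (-1))]), (216, [(196, 1)]), (217, [(198, 1)]), (218, [(201, 1)]), (225, [(220, 1)]), (233, [(227, 1)]), (238, [(232, 1)])]
def M95 : Tr (List (ℕ × ℤ × ℕ × ℕ)) := (.node [] (.node [] (.node [] (.node [(2, (-1), 1, 1)] (.node [] (.node [] (.node [] (.node [(97, 1, 1, 1)] .nil .nil) .nil) (.node [] (.node [(139, 1, 1, 1)] .nil .nil) .nil)) (.node [] (.node [] (.node [(116, (-1), 1, 1)] .nil .nil) (.node [(186, 1, 1, 1)] .nil .nil)) (.node [] (.node [(164, (-1), 1, 1)] .nil .nil) .nil))) (.node [] (.node [] (.node [(57, (-1), 1, 1)] .nil .nil) (.node [(86, 1, 1, 1)] .nil .nil)) (.node [(35, 1, 1, 1)] (.node [] .nil (.node [(196, 1, 1, 1)] .nil .nil)) .nil))) (.node [(6, 1, 1, 1)] (.node [] (.node [] .nil (.node [(79, (-1), 1, 1)] .nil .nil)) (.node [] (.node [] .nil (.node [(190, 1, 1, 1)] .nil .nil)) .nil)) (.node [] (.node [(24, (-1), 1, 1)] (.node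 [(64, 1, 1, 1)] .nil .nil) (.node [] (.node [(163, (-1), 1, 1)] .nil .nil) .nil)) (.node [] .nil (.node [(96, 1, 1, 1)] .nil .nil))))) (.node [] (.node [] (.node [] (.node [] .nil (.node [] .nil (.node [(221, (-1), 1, 1)] .nil .nil))) (.node [(28, (-1), 1, 1)] (.node [] (.node [(121, (-1), 1, 1)] .nil .nil) .nil) .nil)) (.node [] (.node [] .nil (.node [] .nil (.node [(228, (-1), 1, 1)] .nil .nil))) (.node [] (.node [] (.node [(136, (-1), 1, 1)] .nil .nil) (.node [(199, (-1), 1, 1)] .nil .nil)) .nil))) (.node [] (.node [] (.node [(21, 1, 1, 1)] .nil .nil) (.node [(32, (-1), 1, 1)] (.node [] (.node [(135, (-1), 1, 1)] .nil .nil) (.node [(193, (-1), 1, 1)] .nil .nil)) (.node [(93, 1, 1, 1)] (.node [(167, 1, 1, 1)] .nil .nil) .nil))) (.node [] (.node [] (.node [] (.node [(107, (-1), 1, 1)] .nil .nil) .nil) (.node [] .nil (.node [(232, 1, 1, 1)] .nil .nil))) .nil)))) (.node [] (.node [] (.node [] (.node [] (.node [] .nil (.node [] (.node [(140,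 1, 1, 1)] .nil .nil) .nil)) (.node [] (.node [] .nil (.node [(187, 1, 1, 1)] .nil .nil)) .nil)) (.node [] (.node [(22, 1, 1, 1)] (.node [(58, (-1), 1, 1)] .nil .nil) (.node [(90, 1, 1, 1)] .nil .nil)) .nil)) (.node [] (.node [] (.node [] (.node [] (.node [(98, 1, 1, 1)] .nil .nil) .nil) (.node [(80, (-1), 1, 1)] .nil .nil)) (.node [(31, (-1), 1, 1)] .nil .nil)) (.node [] (.node [(25, (-1), 1, 1)] (.node [(68, 1, 1, 1)] .nil (.node [(184, (-1), 1, 1)] .nil .nil)) .nil) (.node [] (.node [] (.node [(137, (-1), 1, 1)] .nil .nil) .nil) .nil)))) (.node [] (.node [] (.node [(14, 1, 1, 1)] .nil (.node [(29, (-1), 1, 1)] (.node [] (.node [(122, (-1), 1, 1)] .nil .nil) (.node [(189, 1, 1, 1)] .nil .nil)) (.node [] (.node [(165, (-1), 1, 1)] .nil .nil) .nil))) (.node [] (.node [] (.node [(61, 1, 1, 1)] .nil .nil) .nil) (.node [] (.node [] .nil (.node [(202, (-1), 1, 1)] .nil .nil)) .nil))) (.node [] (.node [] (.node [] .nil (.node [(83, 1, 1, 1)]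 .nil .nil)) (.node [] (.node [] .nil (.node [(195, 1, 1, 1)] .nil .nil)) (.node [(94, 1, 1, 1)] (.node [(168, 1, 1, 1)] .nil .nil) .nil))) (.node [] (.node [(26, 1, 1, 1)] (.node [] (.node [(112, (-1), 1, 1)] .nil .nil) .nil) .nil) .nil)))))
def C95 : List (ℕ × List (ℕ × ℤ)) := [(7, [(2, (-1))]), (11, [(6, 1)]), (18, [(14, 1)]), (37, [(21, 1)]), (40, [(22, 1)]), (43, [(24, (-1))]), (44, [(25, (-1))]), (46, [(26, 1)]), (49, [(28, (-1))]), (50, [(29, (-1))]), (52, [(31, (-1))]), (53, [(32, (-1))]), (55, [(35, 1)]), (71, [(57, (-1))]), (72, [(58, (-1))]), (74, [(61, 1)]), (75, [(64, 1)]), (76, [(68, 1)]), (99, [(79, (-1))]), (100, [(80, (-1))]), (102, [(83, 1)]), (103, [(86, 1)]), (104, [(90, 1)]), (117, [(93, 1)]), (118, [(94, 1)]), (123, [(96, 1)]), (127, [(97, 1)]), (132, [(98, 1)]), (141, [(107, (-1))]), (142, [(112, (-1))]), (143, [(116, (-1))]), (145, [(121, (-1))]), (146, [(122, (-1))]), (149, [(135, (-1))]), (153, [(136, (-1))]),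 (156, [(137, (-1))]), (159, [(139, 1)]), (160, [(140, 1)]), (171, [(163, (-1))]), (175, [(164, (-1))]), (178, [(165, (-1))]), (181, [(167, 1)]), (182, [(168, 1)]), (204, [(184, (-1))]), (207, [(186, 1)]), (208, [(187, 1)]), (210, [(189, 1)]), (211, [(190, 1)]), (213, [(193, (-1))]), (214, [(195, 1)]), (215, [(196, 1)]), (217, [(199, (-1))]), (218, [(202, (-1))]), (225, [(221, (-1))]), (233, [(228, (-1))]), (237, [(232, 1)])]
def M96 : Tr (List (ℕ × ℤ × ℕ × ℕ)) := (.node [] (.node [] (.node [] (.node [(3, (-1), 1, 1)] (.node [] .nil (.node [(28, 1, 1, 1)] .nil .nil)) (.node [] (.node [] (.node [(59, (-1), 1, 1)] .nil .nil) (.node [(87, 1, 1, 1)] .nil .nil)) (.node [] (.node [] .nil (.node [(198, (-1), 1, 1)] .nil .nil)) .nil))) (.node [] (.node [] (.node [] (.node [] (.node [(98, 1, 1, 1)] .nil .nil) .nil) (.node [(81, (-1), 1, 1)] .nil .nil)) (.node [] (.node [] .nil (.node [(192, (-1), 1, 1)] .nil .nil)) (.node [(94, 1, 1, 1)] (.node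 [(167, 1, 1, 1)] .nil .nil) .nil))) (.node [] (.node [] (.node [(65, 1, 1, 1)] .nil .nil) .nil) .nil))) (.node [] (.node [] (.node [(14, (-1), 1, 1)] (.node [] .nil (.node [] .nil (.node [(222, 1, 1, 1)] .nil .nil))) (.node [] (.node [] (.node [(124, (-1), 1, 1)] .nil .nil) .nil) .nil)) (.node [] (.node [(24, 1, 1, 1)] (.node [(61, (-1), 1, 1)] .nil .nil) (.node [] .nil (.node [(229, 1, 1, 1)] .nil .nil))) .nil)) (.node [] (.node [] (.node [] .nil (.node [(83, (-1), 1, 1)] .nil .nil)) (.node [(34, (-1), 1, 1)] .nil .nil)) (.node [] (.node [] (.node [] (.node [(108, (-1), 1, 1)] .nil .nil) (.node [(186, 1, 1, 1)] .nil .nil)) .nil) (.node [] (.node [] (.node [(139, 1, 1, 1)] .nil .nil) .nil) .nil))))) (.node [] (.node [] (.node [] (.node [] .nil (.node [(29, 1, 1, 1)] (.node [] (.node [(123, (-1), 1, 1)] .nil .nil) .nil) .nil)) (.node [] (.node [(23, 1, 1, 1)] (.node [(60, (-1), 1, 1)] .nil .nil) (.node [(91, 1, 1, 1)] .nil .nil)) (.node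 [] (.node [] (.node [(136, (-1), 1, 1)] .nil .nil) (.node [(199, (-1), 1, 1)] .nil .nil)) .nil))) (.node [] (.node [] (.node [(21, (-1), 1, 1)] .nil (.node [(82, (-1), 1, 1)] .nil .nil)) (.node [(33, (-1), 1, 1)] (.node [] (.node [(135, (-1), 1, 1)] .nil .nil) (.node [(193, (-1), 1, 1)] .nil .nil)) (.node [(95, 1, 1, 1)] (.node [(168, 1, 1, 1)] .nil .nil) .nil))) (.node [] (.node [] (.node [(69, 1, 1, 1)] .nil (.node [(185, 1, 1, 1)] .nil .nil)) (.node [] .nil (.node [(232, 1, 1, 1)] .nil .nil))) (.node [] (.node [] (.node [(138, 1, 1, 1)] .nil .nil) .nil) .nil)))) (.node [] (.node [(6, (-1), 1, 1)] (.node [] .nil (.node [] (.node [] (.node [(125, (-1), 1, 1)] .nil .nil) (.node [(191, (-1), 1, 1)] .nil .nil)) (.node [(93, 1, 1, 1)] (.node [(166, 1, 1, 1)] .nil .nil) .nil))) (.node [] (.node [(25, 1, 1, 1)] .nil (.node [] (.node [(163, (-1), 1, 1)] .nil .nil) .nil)) (.node [] (.node [] .nil (.node [(203, 1, 1, 1)] .nil .nil)) .nil))) (.node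 [] (.node [] .nil (.node [(35, (-1), 1, 1)] (.node [] .nil (.node [(197, (-1), 1, 1)] .nil .nil)) .nil)) (.node [] (.node [(27, 1, 1, 1)] (.node [] (.node [(113, (-1), 1, 1)] .nil .nil) (.node [(187, 1, 1, 1)] .nil .nil)) (.node [] (.node [(164, (-1), 1, 1)] .nil .nil) .nil)) (.node [] (.node [] (.node [(140, 1, 1, 1)] .nil .nil) .nil) (.node [(97, 1, 1, 1)] .nil .nil)))))))
def C96 : List (ℕ × List (ℕ × ℤ)) := [(7, [(3, (-1))]), (10, [(6, (-1))]), (17, [(14, (-1))]), (36, [(21, (-1))]), (40, [(23, 1)]), (41, [(24, 1)]), (42, [(25, 1)]), (46, [(27, 1)]), (47, [(28, 1)]), (48, [(29, 1)]), (52, [(33, (-1))]), (53, [(34, (-1))]), (54, [(35, (-1))]), (71, [(59, (-1))]), (72, [(60, (-1))]), (73, [(61, (-1))]), (75, [(65, 1)]), (76, [(69, 1)]), (99, [(81, (-1))]), (100, [(82, (-1))]), (101, [(83, (-1))]), (103, [(87, 1)]), (104, [(91, 1)]), (114, [(93, 1)]), (115, [(94, 1)]), (116, [(95, 1)]), (126, [(97, 1)]), (131, [(98, 1)]), (141, [(108,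 (-1))]), (142, [(113, (-1))]), (144, [(123, (-1))]), (145, [(124, (-1))]), (146, [(125, (-1))]), (148, [(135, (-1))]), (152, [(136, (-1))]), (156, [(138, 1)]), (157, [(139, 1)]), (158, [(140, 1)]), (170, [(163, (-1))]), (174, [(164, (-1))]), (178, [(166, 1)]), (179, [(167, 1)]), (180, [(168, 1)]), (204, [(185, 1)]), (205, [(186, 1)]), (206, [(187, 1)]), (210, [(191, (-1))]), (211, [(192, (-1))]), (212, [(193, (-1))]), (214, [(197, (-1))]), (215, [(198, (-1))]), (216, [(199, (-1))]), (218, [(203, 1)]), (225, [(222, 1)]), (233, [(229, 1)]), (236, [(232, 1)])]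
def M97 : Tr (List (ℕ × ℤ × ℕ × ℕ)) := (.node [] (.node [] (.node [] (.node [(4, (-1), 1, 1)] (.node [] .nil (.node [(31, 1, 1, 1)] (.node [] (.node [(126, (-1), 1, 1)] .nil .nil) (.node [(191, (-1), 1, 1)] .nil .nil)) (.node [(94, 1, 1, 1)] (.node [(166, 1, 1, 1)] .nil .nil) .nil))) (.node [] (.node [(25, (-1), 1, 1)] (.node [(62, (-1), 1, 1)] .nil .nil) .nil) (.node [] (.node [] .nil (.node [(201, 1, 1, 1)] .nil .nil)) .nil))) (.node [] (.node [] (.node [] .nil (.node [(84, (-1), 1, 1)] .nil .nil)) (.node [(35, 1, 1, 1)] (.node [] (.node [(135, (-1), 1, 1)] .nil .nil) .nil) .nil)) (.node [] (.node [] .nil (.node [] .nil (.node [(232, 1, 1, 1)] .nil .nil))) (.node [] (.node [] (.node [(140, 1, 1, 1)] .nil .nil) .nil) .nil)))) (.node [] (.node [(6, 1, 1, 1)] (.node [] (.node [] .nil (.node [] .nil (.node [(223, (-1), 1, 1)] .nil .nil))) (.node [(33, 1, 1, 1)] (.node [] (.node [(128, (-1), 1, 1)] .nil .nil) (.node [(193, (-1), 1, 1)] .nil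 .nil)) (.node [(96, 1, 1, 1)] (.node [(168, 1, 1, 1)] .nil .nil) .nil))) (.node [] (.node [] (.node [(64, (-1), 1, 1)] .nil .nil) (.node [] (.node [(163, (-1), 1, 1)] .nil .nil) (.node [(230, (-1), 1, 1)] .nil .nil))) (.node [] (.node [] (.node [(138, 1, 1, 1)] .nil .nil) (.node [(203, 1, 1, 1)] .nil .nil)) .nil))) (.node [] (.node [] (.node [(23, (-1), 1, 1)] .nil (.node [(86, (-1), 1, 1)] .nil .nil)) .nil) (.node [] (.node [] (.node [] (.node [(109, (-1), 1, 1)] .nil .nil) (.node [(189, (-1), 1, 1)] .nil .nil)) .nil) .nil)))) (.node [] (.node [] (.node [] (.node [(14, 1, 1, 1)] .nil (.node [(32, 1, 1, 1)] (.node [] (.node [(127, (-1), 1, 1)] .nil .nil) (.node [(192, (-1), 1, 1)] .nil .nil)) (.node [(95, 1, 1, 1)] (.node [(167, 1, 1, 1)] .nil .nil) .nil))) (.node [] (.node [] (.node [(63, (-1), 1, 1)] .nil .nil) (.node [(92, 1, 1, 1)] .nil .nil)) (.node [] (.node [] (.node [(137, 1, 1, 1)] .nil .nil) (.node [(202, 1, 1, 1)] .nil .nil))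 .nil))) (.node [] (.node [] (.node [(22, (-1), 1, 1)] .nil (.node [(85, (-1), 1, 1)] .nil .nil)) .nil) (.node [] (.node [] (.node [(70, 1, 1, 1)] .nil (.node [(188, (-1), 1, 1)] .nil .nil)) .nil) .nil))) (.node [] (.node [] (.node [] (.node [] (.node [] (.node [(98, 1, 1, 1)] .nil .nil) .nil) .nil) (.node [(34, 1, 1, 1)] (.node [] (.node [(129, (-1), 1, 1)] .nil .nil) .nil) .nil)) (.node [] (.node [] (.node [(65, (-1), 1, 1)] .nil .nil) .nil) (.node [] (.node [] (.node [(139, 1, 1, 1)] .nil .nil) .nil) .nil))) (.node [] (.node [] (.node [(24, (-1), 1, 1)] .nil (.node [(87, (-1), 1, 1)] .nil .nil)) (.node [] (.node [] .nil (.node [(200, 1, 1, 1)] .nil .nil)) .nil)) (.node [] (.node [(30, 1, 1, 1)] (.node [] .nil (.node [(190, (-1), 1, 1)] .nil .nil)) (.node [(93, 1, 1, 1)] (.node [(165, 1, 1, 1)] .nil .nil) .nil)) .nil)))))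
def C97 : List (ℕ × List (ℕ × ℤ)) := [(7, [(4, (-1))]), (9, [(6, 1)]), (16, [(14, 1)]), (36, [(22, (-1))]), (37, [(23, (-1))]), (38, [(24, (-1))]), (39, [(25, (-1))]), (46, [(30, 1)]), (47, [(31, 1)]), (48, [(32, 1)]), (49, [(33, 1)]), (50, [(34, 1)]), (51, [(35, 1)]), (71, [(62, (-1))]), (72, [(63, (-1))]), (73, [(64, (-1))]), (74, [(65, (-1))]), (76, [(70, 1)]), (99, [(84, (-1))]), (100, [(85, (-1))]), (101, [(86, (-1))]), (102, [(87, (-1))]), (104, [(92, 1)]), (110, [(93, 1)]), (111, [(94, 1)]), (112, [(95, 1)]), (113, [(96, 1)]), (130, [(98, 1)]), (141, [(109, (-1))]), (143, [(126, (-1))]), (144, [(127, (-1))]), (145, [(128, (-1))]), (146, [(129, (-1))]), (147, [(135, (-1))]), (152, [(137, 1)]), (153, [(138, 1)]), (154, [(139, 1)]), (155, [(140, 1)]), (169, [(163, (-1))]), (174, [(165, 1)]), (175, [(166, 1)]), (176, [(167, 1)]), (177, [(168, 1)]), (204, [(188, (-1))]), (205, [(189, (-1))]), (206, [(190, (-1))]), (207, [(191, (-1))]),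 (208, [(192, (-1))]), (209, [(193, (-1))]), (214, [(200, 1)]), (215, [(201, 1)]), (216, [(202, 1)]), (217, [(203, 1)]), (225, [(223, (-1))]), (233, [(230, (-1))]), (235, [(232, 1)])]
def M98 : Tr (List (ℕ × ℤ × ℕ × ℕ)) := (.node [] (.node [] (.node [] (.node [(5, (-1), 1, 1)] (.node [(14, (-1), 1, 1)] .nil (.node [] (.node [] (.node [(131, (-1), 1, 1)] .nil .nil) (.node [(197, 1, 1, 1)] .nil .nil)) .nil)) (.node [] (.node [(29, (-1), 1, 1)] (.node [(66, (-1), 1, 1)] .nil .nil) (.node [(92, (-1), 1, 1)] .nil .nil)) (.node [] (.node [] (.node [(140, 1, 1, 1)] .nil .nil) .nil) .nil))) (.node [] (.node [] (.node [] .nil (.node [(88, (-1), 1, 1)] .nil .nil)) (.node [] (.node [] (.node [(136, 1, 1, 1)] .nil .nil) (.node [(201, 1, 1, 1)] .nil .nil)) .nil)) (.node [] (.node [(33, (-1), 1, 1)] (.node [(70, (-1), 1, 1)] .nil .nil) (.node [(95, 1, 1, 1)] (.node [(166, 1, 1, 1)] .nil .nil) .nil)) .nil))) (.node [] (.node [] (.node [] (.node [] .nil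 (.node [] .nil (.node [(224, 1, 1, 1)] .nil .nil))) (.node [] (.node [] (.node [(133, (-1), 1, 1)] .nil .nil) (.node [(199, 1, 1, 1)] .nil .nil)) .nil)) (.node [] (.node [(31, (-1), 1, 1)] (.node [(68, (-1), 1, 1)] .nil .nil) (.node [(93, 1, 1, 1)] (.node [(164, 1, 1, 1)] .nil .nil) (.node [(231, 1, 1, 1)] .nil .nil))) .nil)) (.node [] (.node [] (.node [(27, (-1), 1, 1)] .nil (.node [(90, (-1), 1, 1)] .nil .nil)) (.node [] (.node [] (.node [(138, 1, 1, 1)] .nil .nil) (.node [(203, 1, 1, 1)] .nil .nil)) .nil)) (.node [] (.node [(35, (-1), 1, 1)] (.node [] .nil (.node [(195, 1, 1, 1)] .nil .nil)) (.node [(97, 1, 1, 1)] (.node [(168, 1, 1, 1)] .nil .nil) .nil)) .nil)))) (.node [] (.node [] (.node [(6, (-1), 1, 1)] (.node [] .nil (.node [] (.node [] (.node [(132, (-1), 1, 1)] .nil .nil) (.node [(198, 1, 1, 1)] .nil .nil)) .nil)) (.node [] (.node [(30, (-1), 1, 1)] (.node [(67, (-1), 1, 1)] .nil .nil) .nil) .nil)) (.node [] (.node [] (.node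 [(26, (-1), 1, 1)] .nil (.node [(89, (-1), 1, 1)] .nil .nil)) (.node [] (.node [] (.node [(137, 1, 1, 1)] .nil .nil) (.node [(202, 1, 1, 1)] .nil .nil)) .nil)) (.node [] (.node [(34, (-1), 1, 1)] (.node [] .nil (.node [(194, 1, 1, 1)] .nil .nil)) (.node [(96, 1, 1, 1)] (.node [(167, 1, 1, 1)] .nil .nil) .nil)) .nil))) (.node [] (.node [] (.node [] .nil (.node [] (.node [] (.node [(134, (-1), 1, 1)] .nil .nil) (.node [(200, 1, 1, 1)] .nil .nil)) .nil)) (.node [] (.node [(32, (-1), 1, 1)] (.node [(69, (-1), 1, 1)] .nil .nil) (.node [(94, 1, 1, 1)] (.node [(165, 1, 1, 1)] .nil .nil) (.node [(232, 1, 1, 1)] .nil .nil))) .nil)) (.node [] (.node [] (.node [(28, (-1), 1, 1)] .nil (.node [(91, (-1), 1, 1)] .nil .nil)) (.node [] (.node [] (.node [(139, 1, 1, 1)] .nil .nil) .nil) .nil)) (.node [] (.node [] (.node [] (.node [(130, (-1), 1, 1)] .nil .nil) (.node [(196, 1, 1, 1)] .nil .nil)) .nil) .nil)))))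
def C98 : List (ℕ × List (ℕ × ℤ)) := [(7, [(5, (-1))]), (8, [(6, (-1))]), (15, [(14, (-1))]), (36, [(26, (-1))]), (37, [(27, (-1))]), (38, [(28, (-1))]), (39, [(29, (-1))]), (40, [(30, (-1))]), (41, [(31, (-1))]), (42, [(32, (-1))]), (43, [(33, (-1))]), (44, [(34, (-1))]), (45, [(35, (-1))]), (71, [(66, (-1))]), (72, [(67, (-1))]), (73, [(68, (-1))]), (74, [(69, (-1))]), (75, [(70, (-1))]), (99, [(88, (-1))]), (100, [(89, (-1))]), (101, [(90, (-1))]), (102, [(91, (-1))]), (103, [(92, (-1))]), (105, [(93, 1)]), (106, [(94, 1)]), (107, [(95, 1)]), (108, [(96, 1)]), (109, [(97, 1)]), (142, [(130, (-1))]), (143, [(131, (-1))]), (144, [(132, (-1))]), (145, [(133, (-1))]), (146, [(134, (-1))]), (147, [(136, 1)]), (148, [(137, 1)]), (149, [(138, 1)]), (150, [(139, 1)]), (151, [(140, 1)]), (169, [(164, 1)]), (170, [(165, 1)]), (171, [(166, 1)]), (172, [(167, 1)]), (173, [(168, 1)]), (204, [(194, 1)]), (205, [(195, 1)]), (206, [(196, 1)]), (207,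 [(197, 1)]), (208, [(198, 1)]), (209, [(199, 1)]), (210, [(200, 1)]), (211, [(201, 1)]), (212, [(202, 1)]), (213, [(203, 1)]), (225, [(224, 1)]), (233, [(231, 1)]), (234, [(232, 1)])]
def M99 : Tr (List (ℕ × ℤ × ℕ × ℕ)) := (.node [] (.node [] (.node [] (.node [] (.node [] (.node [] (.node [(40, (-1), 1, 1)] .nil .nil) (.node [(79, 1, 1, 1)] .nil (.node [(210, 1, 1, 1)] .nil .nil))) (.node [] .nil (.node [] .nil (.node [(233, 1, 1, 1)] .nil .nil)))) (.node [] (.node [] (.node [] (.node [(105, (-1), 1, 1)] .nil .nil) (.node [(176, 1, 1, 1)] .nil .nil)) .nil) (.node [] (.node [] (.node [(141, (-1), 1, 1)] .nil .nil) .nil) .nil))) (.node [] (.node [] (.node [(19, (-1), 1, 1)] (.node [(46, (-1), 1, 1)] .nil .nil) .nil) .nil) (.node [] (.node [] (.node [] (.node [(119, (-1), 1, 1)] .nil .nil) (.node [(181, 1, 1, 1)] .nil .nil)) .nil) (.node [] (.node [] (.node [(142, (-1), 1, 1)] .nil .nil) .nil) (.node [] (.node [(169, 1, 1, 1)] .nil .nil)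 .nil))))) (.node [] (.node [] (.node [] (.node [] (.node [(43, (-1), 1, 1)] (.node [(103, 1, 1, 1)] .nil .nil) (.node [(172, 1, 1, 1)] .nil .nil)) (.node [(84, 1, 1, 1)] (.node [(145, (-1), 1, 1)] .nil .nil) .nil)) .nil) (.node [(15, (-1), 1, 1)] (.node [] (.node [] (.node [(114, (-1), 1, 1)] .nil .nil) (.node [(178, 1, 1, 1)] .nil .nil)) .nil) .nil)) (.node [(7, 1, 1, 1)] (.node [] (.node [] (.node [(49, (-1), 1, 1)] .nil .nil) .nil) .nil) (.node [(16, (-1), 1, 1)] (.node [] (.node [(71, (-1), 1, 1)] .nil .nil) .nil) (.node [(38, (-1), 1, 1)] (.node [] .nil (.node [(205, 1, 1, 1)] .nil .nil)) (.node [(102, 1, 1, 1)] .nil .nil)))))) (.node [] (.node [] (.node [] (.node [] (.node [(17, (-1), 1, 1)] (.node [(41, (-1), 1, 1)] .nil (.node [(171, 1, 1, 1)] .nil .nil)) (.node [(81, 1, 1, 1)] (.node [(144, (-1), 1, 1)] .nil .nil) (.node [(214, 1, 1, 1)] .nil .nil))) .nil) (.node [] (.node [] (.node [] (.node [(110, (-1), 1, 1)] .nil .nil) .nil)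 (.node [] (.node [(162, 1, 1, 1)] .nil .nil) (.node [(226, (-1), 1, 1)] .nil .nil))) (.node [] .nil (.node [(100, 1, 1, 1)] .nil .nil)))) (.node [] (.node [] (.node [] (.node [(47, (-1), 1, 1)] .nil (.node [(174, 1, 1, 1)] .nil .nil)) .nil) .nil) (.node [] .nil (.node [(37, (-1), 1, 1)] (.node [] .nil (.node [(204, 1, 1, 1)] .nil .nil)) .nil)))) (.node [(0, (-1), 1, 1)] (.node [] (.node [] (.node [(18, (-1), 1, 1)] .nil (.node [(88, 1, 1, 1)] .nil .nil)) .nil) (.node [] (.node [] (.node [] (.node [(117, (-1), 1, 1)] .nil .nil) (.node [(179, 1, 1, 1)] .nil .nil)) .nil) (.node [(36, (-1), 1, 1)] .nil (.node [(101, 1, 1, 1)] .nil .nil)))) (.node [] (.node [] (.node [] (.node [(52, (-1), 1, 1)] (.node [(104, 1, 1, 1)] .nil .nil) (.node [(175, 1, 1, 1)] .nil .nil)) .nil) .nil) (.node [] .nil (.node [] (.node [(78, 1, 1, 1)] (.node [(143, (-1), 1, 1)] .nil .nil) (.node [(207, 1, 1, 1)] .nil .nil)) (.node [] (.node [(170, 1, 1, 1)] .nil .nil)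 .nil)))))))
def C99 : List (ℕ × List (ℕ × ℤ)) := [(6, [(0, (-1))]), (13, [(7, 1)]), (25, [(15, (-1))]), (29, [(16, (-1))]), (32, [(17, (-1))]), (34, [(18, (-1))]), (35, [(19, (-1))]), (58, [(36, (-1))]), (60, [(37, (-1))]), (61, [(38, (-1))]), (63, [(40, (-1))]), (64, [(41, (-1))]), (65, [(43, (-1))]), (67, [(46, (-1))]), (68, [(47, (-1))]), (69, [(49, (-1))]), (70, [(52, (-1))]), (77, [(71, (-1))]), (94, [(78, 1)]), (95, [(79, 1)]), (96, [(81, 1)]), (97, [(84, 1)]), (98, [(88, 1)]), (120, [(100, 1)]), (122, [(101, 1)]), (125, [(102, 1)]), (129, [(103, 1)]), (134, [(104, 1)]), (135, [(105, (-1))]), (136, [(110, (-1))]), (137, [(114, (-1))]), (138, [(117, (-1))]), (139, [(119, (-1))]), (151, [(141, (-1))]), (155, [(142, (-1))]), (158, [(143, (-1))]), (160, [(144, (-1))]), (161, [(145, (-1))]), (168, [(162, 1)]), (187, [(169, 1)]), (190, [(170, 1)]), (192, [(171, 1)]), (193, [(172, 1)]), (196, [(174, 1)]), (198, [(175, 1)]), (199, [(176,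 1)]), (201, [(178, 1)]), (202, [(179, 1)]), (203, [(181, 1)]), (220, [(204, 1)]), (221, [(205, 1)]), (222, [(207, 1)]), (223, [(210, 1)]), (224, [(214, 1)]), (232, [(226, (-1))]), (239, [(233, 1)])]
def M100 : Tr (List (ℕ × ℤ × ℕ × ℕ)) := (.node [] (.node [] (.node [] (.node [] (.node [] (.node [(17, 1, 1, 1)] (.node [] .nil (.node [(171, 1, 1, 1)] .nil .nil)) (.node [(80, 1, 1, 1)] (.node [(144, (-1), 1, 1)] .nil .nil) (.node [(211, (-1), 1, 1)] .nil .nil))) .nil) (.node [] (.node [] (.node [] (.node [(106, (-1), 1, 1)] .nil .nil) (.node [(177, (-1), 1, 1)] .nil .nil)) (.node [] (.node [(162, 1, 1, 1)] .nil .nil) .nil)) (.node [] .nil (.node [(99, 1, 1, 1)] .nil .nil)))) (.node [] (.node [] (.node [(20, (-1), 1, 1)] (.node [] .nil (.node [(174, 1, 1, 1)] .nil .nil)) .nil) .nil) (.node [] (.node [] (.node [] .nil (.node [(182, (-1), 1, 1)] .nil .nil)) .nil) (.node [(37, 1, 1, 1)] (.node [] .nil (.node [(204, 1, 1, 1)] .nil .nil)) .nil))))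 (.node [] (.node [] (.node [] (.node [(18, 1, 1, 1)] (.node [(44, (-1), 1, 1)] .nil (.node [(173, (-1), 1, 1)] .nil .nil)) (.node [(85, 1, 1, 1)] (.node [(146, 1, 1, 1)] .nil .nil) .nil)) .nil) (.node [] (.node [] (.node [] (.node [(115, (-1), 1, 1)] .nil .nil) .nil) .nil) (.node [(36, 1, 1, 1)] .nil (.node [(101, 1, 1, 1)] .nil .nil)))) (.node [] (.node [] (.node [] (.node [(50, (-1), 1, 1)] (.node [(104, 1, 1, 1)] .nil .nil) (.node [(175, 1, 1, 1)] .nil .nil)) .nil) .nil) (.node [] (.node [] (.node [(72, (-1), 1, 1)] .nil .nil) .nil) (.node [(39, (-1), 1, 1)] (.node [(78, (-1), 1, 1)] (.node [(143, (-1), 1, 1)] .nil .nil) (.node [(206, (-1), 1, 1)] .nil .nil)) (.node [] (.node [(170, 1, 1, 1)] .nil .nil) .nil)))))) (.node [] (.node [] (.node [] (.node [] (.node [] (.node [(42, (-1), 1, 1)] (.node [(103, 1, 1, 1)] .nil .nil) .nil) (.node [(82, 1, 1, 1)] .nil (.node [(215, (-1), 1, 1)] .nil .nil))) .nil) (.node [(15, 1, 1, 1)] (.node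 [] (.node [] (.node [(111, (-1), 1, 1)] .nil .nil) (.node [(178, 1, 1, 1)] .nil .nil)) (.node [] .nil (.node [(227, 1, 1, 1)] .nil .nil))) .nil)) (.node [(7, (-1), 1, 1)] (.node [] (.node [] (.node [(48, (-1), 1, 1)] .nil .nil) .nil) .nil) (.node [(16, 1, 1, 1)] (.node [] (.node [] (.node [(120, (-1), 1, 1)] .nil .nil) .nil) .nil) (.node [] .nil (.node [(102, 1, 1, 1)] .nil .nil))))) (.node [(1, (-1), 1, 1)] (.node [] (.node [] (.node [] (.node [(46, 1, 1, 1)] .nil .nil) (.node [(89, 1, 1, 1)] .nil .nil)) .nil) (.node [] (.node [] (.node [] (.node [(118, (-1), 1, 1)] .nil .nil) (.node [(180, (-1), 1, 1)] .nil .nil)) .nil) (.node [] (.node [] (.node [(142, (-1), 1, 1)] .nil .nil) .nil) (.node [] (.node [(169, 1, 1, 1)] .nil .nil) .nil)))) (.node [] (.node [] (.node [] (.node [(53, (-1), 1, 1)] .nil .nil) .nil) (.node [] (.node [] (.node [(141, (-1), 1, 1)] .nil .nil) .nil) .nil)) (.node [] (.node [] .nil (.node [] .nil (.node [(233, 1,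 1, 1)] .nil .nil))) (.node [(40, 1, 1, 1)] (.node [] .nil (.node [(208, (-1), 1, 1)] .nil .nil)) .nil))))))
def C100 : List (ℕ × List (ℕ × ℤ)) := [(6, [(1, (-1))]), (12, [(7, (-1))]), (24, [(15, 1)]), (28, [(16, 1)]), (31, [(17, 1)]), (33, [(18, 1)]), (35, [(20, (-1))]), (57, [(36, 1)]), (59, [(37, 1)]), (61, [(39, (-1))]), (62, [(40, 1)]), (64, [(42, (-1))]), (65, [(44, (-1))]), (66, [(46, 1)]), (68, [(48, (-1))]), (69, [(50, (-1))]), (70, [(53, (-1))]), (77, [(72, (-1))]), (93, [(78, (-1))]), (95, [(80, 1)]), (96, [(82, 1)]), (97, [(85, 1)]), (98, [(89, 1)]), (119, [(99, 1)]), (121, [(101, 1)]), (124, [(102, 1)]), (128, [(103, 1)]), (133, [(104, 1)]), (135, [(106, (-1))]), (136, [(111, (-1))]), (137, [(115, (-1))]), (138, [(118, (-1))]), (140, [(120, (-1))]), (150, [(141, (-1))]), (154, [(142, (-1))]), (157, [(143, (-1))]), (159, [(144, (-1))]), (161, [(146, 1)]), (167, [(162, 1)]), (186, [(169, 1)]), (189, [(170, 1)]), (191, [(171,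 1)]), (193, [(173, (-1))]), (195, [(174, 1)]), (197, [(175, 1)]), (199, [(177, (-1))]), (200, [(178, 1)]), (202, [(180, (-1))]), (203, [(182, (-1))]), (219, [(204, 1)]), (221, [(206, (-1))]), (222, [(208, (-1))]), (223, [(211, (-1))]), (224, [(215, (-1))]), (232, [(227, 1)]), (238, [(233, 1)])]
def M101 : Tr (List (ℕ × ℤ × ℕ × ℕ)) := (.node [] (.node [] (.node [] (.node [] (.node [] (.node [] (.node [(42, 1, 1, 1)] (.node [(103, 1, 1, 1)] .nil .nil) (.node [(172, (-1), 1, 1)] .nil .nil)) (.node [] (.node [(145, 1, 1, 1)] .nil .nil) (.node [(212, 1, 1, 1)] .nil .nil))) .nil) (.node [(15, (-1), 1, 1)] (.node [] (.node [] (.node [(107, (-1), 1, 1)] .nil .nil) .nil) .nil) .nil)) (.node [(7, 1, 1, 1)] (.node [] (.node [] (.node [(48, 1, 1, 1)] .nil .nil) .nil) .nil) (.node [(16, (-1), 1, 1)] (.node [] (.node [] (.node [(121, (-1), 1, 1)] .nil .nil) (.node [(183, 1, 1, 1)] .nil .nil)) .nil) (.node [(38, 1, 1, 1)] (.node [] .nil (.node [(205,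 (-1), 1, 1)] .nil .nil)) (.node [(102, 1, 1, 1)] .nil .nil))))) (.node [] (.node [] (.node [] (.node [(19, 1, 1, 1)] (.node [(45, (-1), 1, 1)] .nil .nil) (.node [(86, 1, 1, 1)] .nil .nil)) .nil) (.node [] (.node [] (.node [] (.node [(116, (-1), 1, 1)] .nil .nil) (.node [(180, (-1), 1, 1)] .nil .nil)) .nil) (.node [] (.node [] (.node [(142, (-1), 1, 1)] .nil .nil) .nil) (.node [] (.node [(169, 1, 1, 1)] .nil .nil) .nil)))) (.node [] (.node [] (.node [] (.node [(51, (-1), 1, 1)] .nil (.node [(176, (-1), 1, 1)] .nil .nil)) .nil) (.node [] (.node [] (.node [(141, (-1), 1, 1)] .nil .nil) .nil) (.node [(99, 1, 1, 1)] .nil .nil))) (.node [] (.node [] (.node [(73, (-1), 1, 1)] .nil .nil) (.node [] .nil (.node [(233, 1, 1, 1)] .nil .nil))) (.node [] (.node [(79, (-1), 1, 1)] .nil .nil) .nil))))) (.node [] (.node [] (.node [] (.node [] (.node [] (.node [] .nil (.node [(173, (-1), 1, 1)] .nil .nil)) (.node [(83, 1, 1, 1)] (.node [(146, 1, 1, 1)]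 .nil .nil) (.node [(216, 1, 1, 1)] .nil .nil))) .nil) (.node [] (.node [] (.node [] (.node [(112, (-1), 1, 1)] .nil .nil) (.node [(179, (-1), 1, 1)] .nil .nil)) (.node [] .nil (.node [(228, (-1), 1, 1)] .nil .nil))) (.node [(36, (-1), 1, 1)] .nil .nil))) (.node [] (.node [] (.node [] (.node [] (.node [(104, 1, 1, 1)] .nil .nil) .nil) .nil) .nil) (.node [] (.node [] (.node [] (.node [(122, (-1), 1, 1)] .nil .nil) .nil) .nil) (.node [(39, 1, 1, 1)] (.node [] (.node [(143, (-1), 1, 1)] .nil .nil) (.node [(206, (-1), 1, 1)] .nil .nil)) (.node [] (.node [(170, 1, 1, 1)] .nil .nil) .nil))))) (.node [(2, (-1), 1, 1)] (.node [] (.node [] (.node [(20, 1, 1, 1)] (.node [(47, 1, 1, 1)] .nil (.node [(174, 1, 1, 1)] .nil .nil)) (.node [(90, 1, 1, 1)] .nil .nil)) .nil) .nil) (.node [] (.node [] (.node [] (.node [(54, (-1), 1, 1)] .nil (.node [(177, (-1), 1, 1)] .nil .nil)) (.node [] (.node [(162, 1, 1, 1)] .nil .nil) .nil)) (.node [] .nil (.node [(100,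 1, 1, 1)] .nil .nil))) (.node [(17, (-1), 1, 1)] .nil (.node [(41, 1, 1, 1)] (.node [(80, (-1), 1, 1)] .nil (.node [(209, 1, 1, 1)] .nil .nil)) .nil))))))
def C101 : List (ℕ × List (ℕ × ℤ)) := [(6, [(2, (-1))]), (11, [(7, 1)]), (23, [(15, (-1))]), (27, [(16, (-1))]), (30, [(17, (-1))]), (33, [(19, 1)]), (34, [(20, 1)]), (56, [(36, (-1))]), (59, [(38, 1)]), (60, [(39, 1)]), (62, [(41, 1)]), (63, [(42, 1)]), (65, [(45, (-1))]), (66, [(47, 1)]), (67, [(48, 1)]), (69, [(51, (-1))]), (70, [(54, (-1))]), (77, [(73, (-1))]), (93, [(79, (-1))]), (94, [(80, (-1))]), (96, [(83, 1)]), (97, [(86, 1)]), (98, [(90, 1)]), (117, [(99, 1)]), (118, [(100, 1)]), (123, [(102, 1)]), (127, [(103, 1)]), (132, [(104, 1)]), (135, [(107, (-1))]), (136, [(112, (-1))]), (137, [(116, (-1))]), (139, [(121, (-1))]), (140, [(122, (-1))]), (149, [(141, (-1))]), (153, [(142, (-1))]), (156, [(143, (-1))]), (159, [(145, 1)]), (160, [(146, 1)]), (166, [(162, 1)]), (185,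 [(169, 1)]), (188, [(170, 1)]), (191, [(172, (-1))]), (192, [(173, (-1))]), (194, [(174, 1)]), (197, [(176, (-1))]), (198, [(177, (-1))]), (200, [(179, (-1))]), (201, [(180, (-1))]), (203, [(183, 1)]), (219, [(205, (-1))]), (220, [(206, (-1))]), (222, [(209, 1)]), (223, [(212, 1)]), (224, [(216, 1)]), (232, [(228, (-1))]), (237, [(233, 1)])]
def M102 : Tr (List (ℕ × ℤ × ℕ × ℕ)) := (.node [] (.node [] (.node [] (.node [] (.node [] (.node [(19, (-1), 1, 1)] (.node [(44, 1, 1, 1)] .nil .nil) (.node [(83, (-1), 1, 1)] .nil (.node [(213, (-1), 1, 1)] .nil .nil))) .nil) (.node [] (.node [] (.node [] (.node [(108, (-1), 1, 1)] .nil .nil) .nil) .nil) .nil)) (.node [] (.node [] (.node [] (.node [(50, 1, 1, 1)] (.node [(104, 1, 1, 1)] .nil .nil) (.node [(176, (-1), 1, 1)] .nil .nil)) .nil) (.node [] .nil (.node [(100, 1, 1, 1)] .nil .nil))) (.node [] (.node [] (.node [] (.node [(124, (-1), 1, 1)] .nil .nil) .nil) .nil) (.node [] (.node [] .nil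 (.node [(207, 1, 1, 1)] .nil .nil)) .nil)))) (.node [] (.node [] (.node [] (.node [] .nil (.node [(87, 1, 1, 1)] .nil .nil)) .nil) (.node [] (.node [] (.node [] .nil (.node [(182, 1, 1, 1)] .nil .nil)) .nil) (.node [(38, (-1), 1, 1)] .nil .nil))) (.node [] (.node [] (.node [] .nil (.node [] (.node [(162, 1, 1, 1)] .nil .nil) .nil)) .nil) (.node [] (.node [] (.node [(74, (-1), 1, 1)] .nil .nil) .nil) (.node [] (.node [(81, (-1), 1, 1)] (.node [(145, 1, 1, 1)] .nil .nil) (.node [(209, 1, 1, 1)] .nil .nil)) (.node [] (.node [(172, (-1), 1, 1)] .nil .nil) .nil)))))) (.node [] (.node [] (.node [] (.node [] (.node [(20, (-1), 1, 1)] (.node [(45, 1, 1, 1)] .nil .nil) (.node [] .nil (.node [(217, (-1), 1, 1)] .nil .nil))) .nil) (.node [] (.node [] (.node [] (.node [(113, (-1), 1, 1)] .nil .nil) (.node [(181, 1, 1, 1)] .nil .nil)) (.node [] .nil (.node [(229, 1, 1, 1)] .nil .nil))) (.node [(37, (-1), 1, 1)] (.node [] (.node [(142, (-1), 1, 1)]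 .nil .nil) .nil) (.node [] (.node [(169, 1, 1, 1)] .nil .nil) .nil)))) (.node [] (.node [] (.node [] (.node [(51, 1, 1, 1)] .nil (.node [(177, (-1), 1, 1)] .nil .nil)) .nil) (.node [] (.node [] (.node [(141, (-1), 1, 1)] .nil .nil) .nil) (.node [(101, 1, 1, 1)] .nil .nil))) (.node [] (.node [] (.node [] (.node [(125, (-1), 1, 1)] .nil .nil) .nil) (.node [] .nil (.node [(233, 1, 1, 1)] .nil .nil))) (.node [] (.node [] (.node [(144, 1, 1, 1)] .nil .nil) (.node [(208, 1, 1, 1)] .nil .nil)) (.node [] (.node [(171, (-1), 1, 1)] .nil .nil) .nil))))) (.node [(3, (-1), 1, 1)] (.node [(7, (-1), 1, 1)] (.node [] (.node [] (.node [(49, 1, 1, 1)] .nil (.node [(175, (-1), 1, 1)] .nil .nil)) (.node [(91, 1, 1, 1)] .nil .nil)) (.node [] .nil (.node [(99, 1, 1, 1)] .nil .nil))) (.node [(16, 1, 1, 1)] (.node [] (.node [] (.node [(123, (-1), 1, 1)] .nil .nil) (.node [(183, 1, 1, 1)] .nil .nil)) .nil) (.node [(39, (-1), 1, 1)] .nil .nil))) (.node [] (.node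 [(15, 1, 1, 1)] (.node [] (.node [(55, (-1), 1, 1)] .nil .nil) .nil) .nil) (.node [(18, (-1), 1, 1)] .nil (.node [(43, 1, 1, 1)] (.node [(82, (-1), 1, 1)] (.node [(146, 1, 1, 1)] .nil .nil) .nil) (.node [(103, 1, 1, 1)] (.node [(173, (-1), 1, 1)] .nil .nil) .nil)))))))
def C102 : List (ℕ × List (ℕ × ℤ)) := [(6, [(3, (-1))]), (10, [(7, (-1))]), (22, [(15, 1)]), (26, [(16, 1)]), (30, [(18, (-1))]), (31, [(19, (-1))]), (32, [(20, (-1))]), (56, [(37, (-1))]), (57, [(38, (-1))]), (58, [(39, (-1))]), (62, [(43, 1)]), (63, [(44, 1)]), (64, [(45, 1)]), (66, [(49, 1)]), (67, [(50, 1)]), (68, [(51, 1)]), (70, [(55, (-1))]), (77, [(74, (-1))]), (93, [(81, (-1))]), (94, [(82, (-1))]), (95, [(83, (-1))]), (97, [(87, 1)]), (98, [(91, 1)]), (114, [(99, 1)]), (115, [(100, 1)]), (116, [(101, 1)]), (126, [(103, 1)]), (131, [(104, 1)]), (135, [(108, (-1))]), (136, [(113, (-1))]), (138, [(123, (-1))]), (139, [(124, (-1))]), (140, [(125, (-1))]), (148, [(141,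 (-1))]), (152, [(142, (-1))]), (156, [(144, 1)]), (157, [(145, 1)]), (158, [(146, 1)]), (165, [(162, 1)]), (184, [(169, 1)]), (188, [(171, (-1))]), (189, [(172, (-1))]), (190, [(173, (-1))]), (194, [(175, (-1))]), (195, [(176, (-1))]), (196, [(177, (-1))]), (200, [(181, 1)]), (201, [(182, 1)]), (202, [(183, 1)]), (219, [(207, 1)]), (220, [(208, 1)]), (221, [(209, 1)]), (223, [(213, (-1))]), (224, [(217, (-1))]), (232, [(229, 1)]), (236, [(233, 1)])]
def M103 : Tr (List (ℕ × ℤ × ℕ × ℕ)) := (.node [] (.node [] (.node [] (.node [] (.node [] (.node [] .nil (.node [(86, (-1), 1, 1)] .nil .nil)) (.node [] .nil (.node [(100, 1, 1, 1)] .nil .nil))) (.node [] (.node [] (.node [] (.node [(109, (-1), 1, 1)] .nil .nil) (.node [(183, 1, 1, 1)] .nil .nil)) .nil) .nil)) (.node [] (.node [] (.node [] (.node [(53, 1, 1, 1)] .nil (.node [(179, 1, 1, 1)] .nil .nil)) .nil) (.node [] (.node [] (.node [(141, (-1), 1, 1)] .nil .nil) .nil) .nil)) (.node [(18,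 1, 1, 1)] (.node [] (.node [] (.node [(128, (-1), 1, 1)] .nil .nil) .nil) (.node [] .nil (.node [(233, 1, 1, 1)] .nil .nil))) (.node [(43, (-1), 1, 1)] (.node [] (.node [(146, 1, 1, 1)] .nil .nil) (.node [(210, (-1), 1, 1)] .nil .nil)) (.node [] (.node [(173, (-1), 1, 1)] .nil .nil) .nil))))) (.node [] (.node [(7, 1, 1, 1)] (.node [] .nil (.node [] .nil (.node [(102, 1, 1, 1)] .nil .nil))) (.node [] (.node [] (.node [] (.node [(126, (-1), 1, 1)] .nil .nil) .nil) .nil) (.node [(41, (-1), 1, 1)] (.node [] (.node [(144, 1, 1, 1)] .nil .nil) .nil) (.node [] (.node [(171, (-1), 1, 1)] .nil .nil) .nil)))) (.node [] (.node [(15, (-1), 1, 1)] (.node [] (.node [(55, 1, 1, 1)] .nil (.node [(181, 1, 1, 1)] .nil .nil)) .nil) .nil) (.node [(20, 1, 1, 1)] (.node [] (.node [(75, (-1), 1, 1)] .nil .nil) .nil) (.node [(45, (-1), 1, 1)] (.node [(84, (-1), 1, 1)] .nil (.node [(212, (-1), 1, 1)] .nil .nil)) .nil))))) (.node [] (.node [] (.node [] (.node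 [] (.node [] .nil (.node [(87, (-1), 1, 1)] .nil (.node [(218, 1, 1, 1)] .nil .nil))) (.node [] .nil (.node [(101, 1, 1, 1)] .nil .nil))) (.node [] (.node [] .nil (.node [] .nil (.node [(230, (-1), 1, 1)] .nil .nil))) (.node [(40, (-1), 1, 1)] (.node [] (.node [(143, 1, 1, 1)] .nil .nil) .nil) (.node [] (.node [(170, (-1), 1, 1)] .nil .nil) .nil)))) (.node [] (.node [] (.node [] (.node [(54, 1, 1, 1)] .nil (.node [(180, 1, 1, 1)] .nil .nil)) (.node [] (.node [(162, 1, 1, 1)] .nil .nil) .nil)) .nil) (.node [(19, 1, 1, 1)] (.node [] (.node [] (.node [(129, (-1), 1, 1)] .nil .nil) .nil) .nil) (.node [(44, (-1), 1, 1)] (.node [] .nil (.node [(211, (-1), 1, 1)] .nil .nil)) .nil)))) (.node [(4, (-1), 1, 1)] (.node [] (.node [] (.node [] (.node [(52, 1, 1, 1)] (.node [(104, 1, 1, 1)] .nil .nil) (.node [(178, 1, 1, 1)] .nil .nil)) (.node [(92, 1, 1, 1)] .nil .nil)) .nil) (.node [(17, 1, 1, 1)] (.node [] (.node [] (.node [(127, (-1), 1, 1)] .nil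 .nil) .nil) .nil) (.node [(42, (-1), 1, 1)] (.node [] (.node [(145, 1, 1, 1)] .nil .nil) .nil) (.node [] (.node [(172, (-1), 1, 1)] .nil .nil) .nil)))) (.node [] (.node [] (.node [] (.node [] .nil (.node [(182, 1, 1, 1)] .nil .nil)) .nil) .nil) (.node [] (.node [] .nil (.node [(99, 1, 1, 1)] .nil .nil)) (.node [] (.node [(85, (-1), 1, 1)] .nil (.node [(213, (-1), 1, 1)] .nil .nil)) .nil))))))
def C103 : List (ℕ × List (ℕ × ℤ)) := [(6, [(4, (-1))]), (9, [(7, 1)]), (21, [(15, (-1))]), (26, [(17, 1)]), (27, [(18, 1)]), (28, [(19, 1)]), (29, [(20, 1)]), (56, [(40, (-1))]), (57, [(41, (-1))]), (58, [(42, (-1))]), (59, [(43, (-1))]), (60, [(44, (-1))]), (61, [(45, (-1))]), (66, [(52, 1)]), (67, [(53, 1)]), (68, [(54, 1)]), (69, [(55, 1)]), (77, [(75, (-1))]), (93, [(84, (-1))]), (94, [(85, (-1))]), (95, [(86, (-1))]), (96, [(87, (-1))]), (98, [(92, 1)]), (110, [(99, 1)]), (111, [(100, 1)]), (112, [(101, 1)]), (113, [(102, 1)]), (130, [(104,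 1)]), (135, [(109, (-1))]), (137, [(126, (-1))]), (138, [(127, (-1))]), (139, [(128, (-1))]), (140, [(129, (-1))]), (147, [(141, (-1))]), (152, [(143, 1)]), (153, [(144, 1)]), (154, [(145, 1)]), (155, [(146, 1)]), (164, [(162, 1)]), (184, [(170, (-1))]), (185, [(171, (-1))]), (186, [(172, (-1))]), (187, [(173, (-1))]), (194, [(178, 1)]), (195, [(179, 1)]), (196, [(180, 1)]), (197, [(181, 1)]), (198, [(182, 1)]), (199, [(183, 1)]), (219, [(210, (-1))]), (220, [(211, (-1))]), (221, [(212, (-1))]), (222, [(213, (-1))]), (224, [(218, 1)]), (232, [(230, (-1))]), (235, [(233, 1)])]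
def M104 : Tr (List (ℕ × ℤ × ℕ × ℕ)) := (.node [] (.node [] (.node [] (.node [] (.node [] (.node [] (.node [(53, (-1), 1, 1)] .nil (.node [(181, 1, 1, 1)] .nil .nil)) (.node [(90, (-1), 1, 1)] .nil (.node [(218, 1, 1, 1)] .nil .nil))) .nil) (.node [(18, (-1), 1, 1)] .nil (.node [] (.node [] (.node [(146, 1, 1, 1)] .nil .nil) .nil) .nil))) (.node [] (.node [] (.node [] .nil (.node [] (.node [(162, 1, 1, 1)] .nil .nil) .nil)) (.node [] (.node [] (.node [(142, 1, 1, 1)] .nil .nil) .nil) .nil)) (.node [] (.node [] (.node [] (.node [(133, (-1), 1, 1)] .nil .nil) .nil) (.node [(101, 1, 1, 1)] .nil .nil)) (.node [(49, (-1), 1, 1)] (.node [] .nil (.node [(214, 1, 1, 1)] .nil .nil)) (.node [] (.node [(177, 1, 1, 1)] .nil .nil) .nil))))) (.node [] (.node [] (.node [] (.node [] (.node [(55, (-1), 1, 1)] .nil (.node [(183, 1, 1, 1)] .nil .nil)) (.node [(92, (-1), 1, 1)] .nil .nil)) .nil) (.node [(20, (-1), 1, 1)] (.node [] (.node [] (.node [(131,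 (-1), 1, 1)] .nil .nil) .nil) (.node [(99, 1, 1, 1)] .nil .nil)) (.node [(47, (-1), 1, 1)] .nil (.node [] (.node [(175, 1, 1, 1)] .nil .nil) .nil)))) (.node [] (.node [(16, (-1), 1, 1)] .nil (.node [] (.node [] (.node [(144, 1, 1, 1)] .nil .nil) .nil) .nil)) (.node [] (.node [] (.node [(76, (-1), 1, 1)] .nil .nil) (.node [(103, 1, 1, 1)] .nil .nil)) (.node [(51, (-1), 1, 1)] (.node [(88, (-1), 1, 1)] .nil (.node [(216, 1, 1, 1)] .nil .nil)) (.node [] (.node [(179, 1, 1, 1)] .nil .nil) .nil)))))) (.node [] (.node [] (.node [(7, (-1), 1, 1)] (.node [] (.node [] (.node [(54, (-1), 1, 1)] .nil (.node [(182, 1, 1, 1)] .nil .nil)) (.node [(91, (-1), 1, 1)] .nil .nil)) .nil) (.node [(19, (-1), 1, 1)] (.node [] (.node [] (.node [(130, (-1), 1, 1)] .nil .nil) .nil) (.node [] .nil (.node [(231, 1, 1, 1)] .nil .nil))) (.node [(46, (-1), 1, 1)] .nil (.node [] (.node [(174, 1, 1, 1)] .nil .nil) .nil)))) (.node [] (.node [] .nil (.node [] (.node []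 (.node [(143, 1, 1, 1)] .nil .nil) .nil) .nil)) (.node [] (.node [] (.node [] (.node [(134, (-1), 1, 1)] .nil .nil) .nil) (.node [(102, 1, 1, 1)] .nil .nil)) (.node [(50, (-1), 1, 1)] (.node [] .nil (.node [(215, 1, 1, 1)] .nil .nil)) (.node [] (.node [(178, 1, 1, 1)] .nil .nil) .nil))))) (.node [(5, (-1), 1, 1)] (.node [] .nil (.node [] (.node [] (.node [] (.node [(132, (-1), 1, 1)] .nil .nil) .nil) (.node [(100, 1, 1, 1)] .nil (.node [(233, 1, 1, 1)] .nil .nil))) (.node [(48, (-1), 1, 1)] .nil (.node [] (.node [(176, 1, 1, 1)] .nil .nil) .nil)))) (.node [] (.node [(17, (-1), 1, 1)] .nil (.node [] (.node [] (.node [(145, 1, 1, 1)] .nil .nil) .nil) .nil)) (.node [] .nil (.node [(52, (-1), 1, 1)] (.node [(89, (-1), 1, 1)] .nil (.node [(217, 1, 1, 1)] .nil .nil)) (.node [] (.node [(180, 1, 1, 1)] .nil .nil) .nil)))))))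
def C104 : List (ℕ × List (ℕ × ℤ)) := [(6, [(5, (-1))]), (8, [(7, (-1))]), (21, [(16, (-1))]), (22, [(17, (-1))]), (23, [(18, (-1))]), (24, [(19, (-1))]), (25, [(20, (-1))]), (56, [(46, (-1))]), (57, [(47, (-1))]), (58, [(48, (-1))]), (59, [(49, (-1))]), (60, [(50, (-1))]), (61, [(51, (-1))]), (62, [(52, (-1))]), (63, [(53, (-1))]), (64, [(54, (-1))]), (65, [(55, (-1))]), (77, [(76, (-1))]), (93, [(88, (-1))]), (94, [(89, (-1))]), (95, [(90, (-1))]), (96, [(91, (-1))]), (97, [(92, (-1))]), (105, [(99, 1)]), (106, [(100, 1)]), (107, [(101, 1)]), (108, [(102, 1)]), (109, [(103, 1)]), (136, [(130, (-1))]), (137, [(131, (-1))]), (138, [(132, (-1))]), (139, [(133, (-1))]), (140, [(134, (-1))]), (147, [(142, 1)]), (148, [(143, 1)]), (149, [(144, 1)]), (150, [(145, 1)]), (151, [(146, 1)]), (163, [(162, 1)]), (184, [(174, 1)]), (185, [(175, 1)]), (186, [(176, 1)]), (187, [(177, 1)]), (188, [(178, 1)]), (189, [(179, 1)]), (190, [(180, 1)]), (191,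 [(181, 1)]), (192, [(182, 1)]), (193, [(183, 1)]), (219, [(214, 1)]), (220, [(215, 1)]), (221, [(216, 1)]), (222, [(217, 1)]), (223, [(218, 1)]), (232, [(231, 1)]), (234, [(233, 1)])]
def M105 : Tr (List (ℕ × ℤ × ℕ × ℕ)) := (.node [] (.node [] (.node [] (.node [] (.node [] .nil (.node [] .nil (.node [] .nil (.node [(234, 1, 1, 1)] .nil .nil)))) (.node [] (.node [] (.node [] .nil (.node [(186, 1, 1, 1)] .nil .nil)) (.node [] .nil (.node [(226, 1, 1, 1)] .nil .nil))) (.node [(43, (-1), 1, 1)] (.node [] .nil (.node [(204, (-1), 1, 1)] .nil .nil)) (.node [] (.node [(172, (-1), 1, 1)] .nil .nil) .nil)))) (.node [] (.node [] (.node [(24, 1, 1, 1)] (.node [(56, 1, 1, 1)] (.node [(114, (-1), 1, 1)] .nil .nil) .nil) .nil) (.node [(38, (-1), 1, 1)] .nil .nil)) (.node [] (.node [] (.node [] .nil (.node [(191, 1, 1, 1)] .nil .nil)) .nil) (.node [] (.node [(81, 1, 1, 1)] (.node [(147, (-1), 1, 1)] .nil .nil) .nil) .nil)))) (.node [(0, (-1), 1, 1)]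 (.node [] (.node [] (.node [] (.node [] (.node [(109, 1, 1, 1)] .nil .nil) .nil) (.node [] (.node [(150, (-1), 1, 1)] .nil .nil) .nil)) (.node [] .nil (.node [] (.node [(169, (-1), 1, 1)] .nil .nil) .nil))) (.node [] (.node [] (.node [] .nil (.node [(188, 1, 1, 1)] .nil .nil)) .nil) (.node [] (.node [(78, 1, 1, 1)] .nil (.node [(207, (-1), 1, 1)] .nil .nil)) .nil))) (.node [(8, (-1), 1, 1)] (.node [] (.node [] (.node [(59, 1, 1, 1)] (.node [(119, (-1), 1, 1)] .nil .nil) .nil) .nil) (.node [(40, (-1), 1, 1)] .nil .nil)) (.node [(21, 1, 1, 1)] .nil (.node [] .nil (.node [(108, 1, 1, 1)] .nil .nil)))))) (.node [] (.node [] (.node [] (.node [] (.node [(22, 1, 1, 1)] .nil (.node [] (.node [(149, (-1), 1, 1)] .nil .nil) (.node [(219, 1, 1, 1)] .nil .nil))) (.node [(36, (-1), 1, 1)] .nil .nil)) (.node [] (.node [] .nil (.node [(99, (-1), 1, 1)] (.node [(163, 1, 1, 1)] .nil .nil) .nil)) (.node [] (.node [] .nil (.node [(205, (-1), 1, 1)] .nil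 .nil)) (.node [(106, 1, 1, 1)] .nil .nil)))) (.node [] (.node [(15, (-1), 1, 1)] (.node [] (.node [(57, 1, 1, 1)] (.node [(117, (-1), 1, 1)] .nil .nil) (.node [(184, 1, 1, 1)] .nil .nil)) .nil) (.node [] .nil (.node [] (.node [(170, (-1), 1, 1)] .nil .nil) .nil))) (.node [] (.node [] (.node [(71, (-1), 1, 1)] (.node [(135, 1, 1, 1)] .nil .nil) .nil) .nil) (.node [] (.node [(84, 1, 1, 1)] .nil .nil) .nil)))) (.node [] (.node [] (.node [] (.node [(23, 1, 1, 1)] (.node [] (.node [(110, (-1), 1, 1)] .nil .nil) .nil) (.node [(93, (-1), 1, 1)] .nil .nil)) (.node [(37, (-1), 1, 1)] (.node [] (.node [(141, 1, 1, 1)] .nil .nil) .nil) .nil)) (.node [] (.node [] (.node [] .nil (.node [(189, 1, 1, 1)] .nil .nil)) .nil) (.node [] (.node [(79, 1, 1, 1)] .nil (.node [(210, (-1), 1, 1)] .nil .nil)) (.node [(107, 1, 1, 1)] .nil .nil)))) (.node [] (.node [] (.node [] (.node [(62, 1, 1, 1)] .nil (.node [(185, 1, 1, 1)] .nil .nil)) .nil) (.node [(41, (-1),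 1, 1)] .nil (.node [] (.node [(171, (-1), 1, 1)] .nil .nil) .nil))) (.node [] .nil (.node [] (.node [] (.node [(148, (-1), 1, 1)] .nil .nil) .nil) .nil))))))
def C105 : List (ℕ × List (ℕ × ℤ)) := [(5, [(0, (-1))]), (13, [(8, (-1))]), (20, [(15, (-1))]), (29, [(21, 1)]), (32, [(22, 1)]), (34, [(23, 1)]), (35, [(24, 1)]), (48, [(36, (-1))]), (50, [(37, (-1))]), (51, [(38, (-1))]), (53, [(40, (-1))]), (54, [(41, (-1))]), (55, [(43, (-1))]), (67, [(56, 1)]), (68, [(57, 1)]), (69, [(59, 1)]), (70, [(62, 1)]), (76, [(71, (-1))]), (89, [(78, 1)]), (90, [(79, 1)]), (91, [(81, 1)]), (92, [(84, 1)]), (98, [(93, (-1))]), (104, [(99, (-1))]), (120, [(106, 1)]), (122, [(107, 1)]), (125, [(108, 1)]), (129, [(109, 1)]), (130, [(110, (-1))]), (131, [(114, (-1))]), (132, [(117, (-1))]), (133, [(119, (-1))]), (140, [(135, 1)]), (146, [(141, 1)]), (155, [(147, (-1))]), (158, [(148, (-1))]), (160, [(149, (-1))]), (161, [(150, (-1))]), (168, [(163, 1)]),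 (177, [(169, (-1))]), (180, [(170, (-1))]), (182, [(171, (-1))]), (183, [(172, (-1))]), (196, [(184, 1)]), (198, [(185, 1)]), (199, [(186, 1)]), (201, [(188, 1)]), (202, [(189, 1)]), (203, [(191, 1)]), (215, [(204, (-1))]), (216, [(205, (-1))]), (217, [(207, (-1))]), (218, [(210, (-1))]), (224, [(219, 1)]), (231, [(226, 1)]), (239, [(234, 1)])]
def M106 : Tr (List (ℕ × ℤ × ℕ × ℕ)) := (.node [] (.node [] (.node [] (.node [] (.node [] (.node [(22, (-1), 1, 1)] .nil (.node [] (.node [(149, (-1), 1, 1)] .nil .nil) .nil)) (.node [(36, 1, 1, 1)] .nil .nil)) (.node [] (.node [] (.node [] .nil (.node [(187, (-1), 1, 1)] .nil .nil)) (.node [] (.node [(163, 1, 1, 1)] .nil .nil) (.node [(227, (-1), 1, 1)] .nil .nil))) (.node [(44, (-1), 1, 1)] .nil (.node [(105, 1, 1, 1)] (.node [(173, 1, 1, 1)] .nil .nil) .nil)))) (.node [] (.node [(15, 1, 1, 1)] (.node [(25, 1, 1, 1)] (.node [] (.node [(115, (-1), 1, 1)] .nil .nil) (.node [(184, 1, 1, 1)] .nil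 .nil)) .nil) (.node [(39, (-1), 1, 1)] .nil (.node [] (.node [(170, (-1), 1, 1)] .nil .nil) .nil))) (.node [] (.node [] (.node [] (.node [(135, 1, 1, 1)] .nil .nil) (.node [(192, (-1), 1, 1)] .nil .nil)) .nil) (.node [] (.node [(82, 1, 1, 1)] .nil .nil) .nil)))) (.node [(1, (-1), 1, 1)] (.node [] (.node [] (.node [(23, (-1), 1, 1)] .nil (.node [] (.node [(151, 1, 1, 1)] .nil .nil) .nil)) (.node [(37, 1, 1, 1)] (.node [] (.node [(141, 1, 1, 1)] .nil .nil) .nil) .nil)) (.node [] .nil (.node [] (.node [] .nil (.node [(208, 1, 1, 1)] .nil .nil)) (.node [(107, 1, 1, 1)] .nil .nil)))) (.node [] (.node [] (.node [] (.node [(60, 1, 1, 1)] .nil (.node [(185, 1, 1, 1)] .nil .nil)) .nil) (.node [] .nil (.node [] (.node [(171, (-1), 1, 1)] .nil .nil) .nil))) (.node [] .nil (.node [] (.node [] (.node [(148, (-1), 1, 1)] .nil .nil) .nil) .nil))))) (.node [] (.node [] (.node [] (.node [] (.node [] (.node [] (.node [(109, 1, 1, 1)] .nil .nil) .nil) (.node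 [] .nil (.node [(220, (-1), 1, 1)] .nil .nil))) (.node [] .nil (.node [] (.node [(169, (-1), 1, 1)] .nil .nil) .nil))) (.node [] (.node [] (.node [] .nil (.node [(188, 1, 1, 1)] .nil .nil)) (.node [(100, (-1), 1, 1)] .nil .nil)) (.node [] (.node [(78, (-1), 1, 1)] .nil (.node [(206, 1, 1, 1)] .nil .nil)) .nil))) (.node [(8, 1, 1, 1)] (.node [] (.node [] (.node [(58, 1, 1, 1)] (.node [(118, (-1), 1, 1)] .nil .nil) .nil) .nil) (.node [(40, 1, 1, 1)] .nil .nil)) (.node [(21, (-1), 1, 1)] (.node [] (.node [(72, (-1), 1, 1)] .nil .nil) .nil) (.node [] (.node [(85, 1, 1, 1)] .nil .nil) (.node [(108, 1, 1, 1)] .nil .nil))))) (.node [] (.node [] (.node [] (.node [] (.node [(56, (-1), 1, 1)] (.node [(111, (-1), 1, 1)] .nil .nil) .nil) (.node [(94, (-1), 1, 1)] .nil .nil)) .nil) (.node [] (.node [] (.node [] .nil (.node [(190, (-1), 1, 1)] .nil .nil)) .nil) (.node [] (.node [(80, 1, 1, 1)] (.node [(147, (-1), 1, 1)] .nil .nil) (.node [(211, 1,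 1, 1)] .nil .nil)) .nil))) (.node [] (.node [] (.node [] (.node [(63, 1, 1, 1)] (.node [(120, (-1), 1, 1)] .nil .nil) .nil) .nil) (.node [(42, (-1), 1, 1)] (.node [] .nil (.node [(204, (-1), 1, 1)] .nil .nil)) .nil)) (.node [] (.node [] .nil (.node [] .nil (.node [(234, 1, 1, 1)] .nil .nil))) .nil)))))
def C106 : List (ℕ × List (ℕ × ℤ)) := [(5, [(1, (-1))]), (12, [(8, 1)]), (19, [(15, 1)]), (28, [(21, (-1))]), (31, [(22, (-1))]), (33, [(23, (-1))]), (35, [(25, 1)]), (47, [(36, 1)]), (49, [(37, 1)]), (51, [(39, (-1))]), (52, [(40, 1)]), (54, [(42, (-1))]), (55, [(44, (-1))]), (66, [(56, (-1))]), (68, [(58, 1)]), (69, [(60, 1)]), (70, [(63, 1)]), (76, [(72, (-1))]), (88, [(78, (-1))]), (90, [(80, 1)]), (91, [(82, 1)]), (92, [(85, 1)]), (98, [(94, (-1))]), (104, [(100, (-1))]), (119, [(105, 1)]), (121, [(107, 1)]), (124, [(108, 1)]), (128, [(109, 1)]), (130, [(111, (-1))]), (131, [(115, (-1))]), (132, [(118, (-1))]), (134, [(120, (-1))]),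 (139, [(135, 1)]), (145, [(141, 1)]), (154, [(147, (-1))]), (157, [(148, (-1))]), (159, [(149, (-1))]), (161, [(151, 1)]), (167, [(163, 1)]), (176, [(169, (-1))]), (179, [(170, (-1))]), (181, [(171, (-1))]), (183, [(173, 1)]), (195, [(184, 1)]), (197, [(185, 1)]), (199, [(187, (-1))]), (200, [(188, 1)]), (202, [(190, (-1))]), (203, [(192, (-1))]), (214, [(204, (-1))]), (216, [(206, 1)]), (217, [(208, 1)]), (218, [(211, 1)]), (224, [(220, (-1))]), (231, [(227, (-1))]), (238, [(234, 1)])]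
def M107 : Tr (List (ℕ × ℤ × ℕ × ℕ)) := (.node [] (.node [] (.node [] (.node [] (.node [] (.node [] (.node [] (.node [(109, 1, 1, 1)] .nil .nil) .nil) (.node [] (.node [(150, 1, 1, 1)] .nil .nil) .nil)) (.node [] .nil (.node [] (.node [(169, (-1), 1, 1)] .nil .nil) .nil))) (.node [] (.node [] .nil (.node [] .nil (.node [(228, 1, 1, 1)] .nil .nil))) (.node [(45, (-1), 1, 1)] (.node [] .nil (.node [(206, 1, 1, 1)] .nil .nil)) .nil))) (.node [(8, (-1), 1, 1)] (.node [] (.node [] (.node [(58, (-1), 1, 1)] (.node [(116, (-1), 1, 1)] .nil .nil) .nil) .nil) .nil) (.node [(21, 1, 1, 1)] (.node [] (.node [] .nil (.node [(193, 1, 1, 1)] .nil .nil)) .nil) (.node [] (.node [(83, 1, 1, 1)] .nil .nil) (.node [(108, 1, 1, 1)] .nil .nil))))) (.node [(2, (-1), 1, 1)] (.node [] (.node [] (.node [(24, (-1), 1, 1)] .nil .nil) (.node [(38, 1, 1, 1)] .nil .nil)) (.node [] (.node [] (.node [] .nil (.node [(190, (-1), 1, 1)] .nil .nil)) .nil) (.node [] (.node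 [(80, (-1), 1, 1)] (.node [(147, (-1), 1, 1)] .nil .nil) (.node [(209, (-1), 1, 1)] .nil .nil)) .nil))) (.node [] (.node [] (.node [] (.node [(61, 1, 1, 1)] (.node [(121, (-1), 1, 1)] .nil .nil) (.node [(186, (-1), 1, 1)] .nil .nil)) .nil) (.node [(42, 1, 1, 1)] .nil (.node [(105, 1, 1, 1)] (.node [(172, 1, 1, 1)] .nil .nil) .nil))) (.node [] (.node [] .nil (.node [] .nil (.node [(234, 1, 1, 1)] .nil .nil))) .nil)))) (.node [] (.node [] (.node [] (.node [] (.node [] .nil (.node [] (.node [(151, 1, 1, 1)] .nil .nil) (.node [(221, 1, 1, 1)] .nil .nil))) (.node [] (.node [] (.node [(141, 1, 1, 1)] .nil .nil) .nil) .nil)) (.node [] (.node [] (.node [] .nil (.node [(189, (-1), 1, 1)] .nil .nil)) (.node [(101, (-1), 1, 1)] .nil .nil)) (.node [] (.node [(79, (-1), 1, 1)] .nil .nil) .nil))) (.node [] (.node [] .nil (.node [(41, 1, 1, 1)] .nil .nil)) (.node [] (.node [] (.node [(73, (-1), 1, 1)] .nil .nil) .nil) (.node [] (.node [(86, 1, 1, 1)]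 (.node [(148, (-1), 1, 1)] .nil .nil) .nil) .nil)))) (.node [] (.node [] (.node [(15, (-1), 1, 1)] (.node [(25, (-1), 1, 1)] (.node [(57, (-1), 1, 1)] (.node [(112, (-1), 1, 1)] .nil .nil) (.node [(184, 1, 1, 1)] .nil .nil)) (.node [(95, (-1), 1, 1)] .nil .nil)) (.node [(39, 1, 1, 1)] .nil (.node [] (.node [(170, (-1), 1, 1)] .nil .nil) .nil))) (.node [] (.node [] (.node [] (.node [(135, 1, 1, 1)] .nil .nil) .nil) .nil) (.node [] (.node [] .nil (.node [(212, (-1), 1, 1)] .nil .nil)) .nil))) (.node [] (.node [] (.node [] (.node [(64, 1, 1, 1)] (.node [(122, (-1), 1, 1)] .nil .nil) (.node [(187, (-1), 1, 1)] .nil .nil)) (.node [] (.node [(163, 1, 1, 1)] .nil .nil) .nil)) (.node [] (.node [] .nil (.node [(205, 1, 1, 1)] .nil .nil)) (.node [(106, 1, 1, 1)] (.node [(173, 1, 1, 1)] .nil .nil) .nil))) (.node [(22, 1, 1, 1)] (.node [(36, (-1), 1, 1)] .nil .nil) .nil)))))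
def C107 : List (ℕ × List (ℕ × ℤ)) := [(5, [(2, (-1))]), (11, [(8, (-1))]), (18, [(15, (-1))]), (27, [(21, 1)]), (30, [(22, 1)]), (33, [(24, (-1))]), (34, [(25, (-1))]), (46, [(36, (-1))]), (49, [(38, 1)]), (50, [(39, 1)]), (52, [(41, 1)]), (53, [(42, 1)]), (55, [(45, (-1))]), (66, [(57, (-1))]), (67, [(58, (-1))]), (69, [(61, 1)]), (70, [(64, 1)]), (76, [(73, (-1))]), (88, [(79, (-1))]), (89, [(80, (-1))]), (91, [(83, 1)]), (92, [(86, 1)]), (98, [(95, (-1))]), (104, [(101, (-1))]), (117, [(105, 1)]), (118, [(106, 1)]), (123, [(108, 1)]), (127, [(109, 1)]), (130, [(112, (-1))]), (131, [(116, (-1))]), (133, [(121, (-1))]), (134, [(122, (-1))]), (138, [(135, 1)]), (144, [(141, 1)]), (153, [(147, (-1))]), (156, [(148, (-1))]), (159, [(150, 1)]), (160, [(151, 1)]), (166, [(163, 1)]), (175, [(169, (-1))]), (178, [(170, (-1))]), (181, [(172, 1)]), (182, [(173, 1)]), (194, [(184, 1)]), (197, [(186, (-1))]), (198, [(187, (-1))]), (200, [(189,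 (-1))]), (201, [(190, (-1))]), (203, [(193, 1)]), (214, [(205, 1)]), (215, [(206, 1)]), (217, [(209, (-1))]), (218, [(212, (-1))]), (224, [(221, 1)]), (231, [(228, 1)]), (237, [(234, 1)])]
def M108 : Tr (List (ℕ × ℤ × ℕ × ℕ)) := (.node [] (.node [] (.node [] (.node [] (.node [] (.node [(24, 1, 1, 1)] .nil .nil) (.node [(38, (-1), 1, 1)] (.node [] (.node [(141, 1, 1, 1)] .nil .nil) .nil) .nil)) (.node [] (.node [] .nil (.node [] .nil (.node [(229, (-1), 1, 1)] .nil .nil))) (.node [] (.node [] .nil (.node [(208, (-1), 1, 1)] .nil .nil)) .nil))) (.node [] (.node [] (.node [] (.node [(60, (-1), 1, 1)] .nil (.node [(186, (-1), 1, 1)] .nil .nil)) .nil) (.node [] .nil (.node [(106, 1, 1, 1)] (.node [(172, 1, 1, 1)] .nil .nil) .nil))) .nil)) (.node [(3, (-1), 1, 1)] (.node [] (.node [(15, 1, 1, 1)] .nil .nil) (.node [] (.node [] (.node [] (.node [(135, 1, 1, 1)] .nil .nil) (.node [(192, 1, 1, 1)] .nil .nil)) .nil) (.node [] (.node [(82, (-1),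 1, 1)] .nil .nil) .nil))) (.node [] (.node [] (.node [] (.node [] (.node [(124, (-1), 1, 1)] .nil .nil) .nil) (.node [] (.node [(163, 1, 1, 1)] .nil .nil) .nil)) (.node [(44, 1, 1, 1)] .nil .nil)) (.node [] .nil (.node [] (.node [] (.node [(150, 1, 1, 1)] .nil .nil) .nil) .nil))))) (.node [] (.node [] (.node [] (.node [] (.node [(25, 1, 1, 1)] .nil (.node [] .nil (.node [(222, (-1), 1, 1)] .nil .nil))) (.node [(39, (-1), 1, 1)] .nil .nil)) (.node [] (.node [] (.node [] .nil (.node [(191, 1, 1, 1)] .nil .nil)) (.node [(102, (-1), 1, 1)] .nil .nil)) (.node [] (.node [(81, (-1), 1, 1)] (.node [(147, (-1), 1, 1)] .nil .nil) (.node [(209, (-1), 1, 1)] .nil .nil)) .nil))) (.node [] (.node [] (.node [] (.node [(61, (-1), 1, 1)] (.node [(123, (-1), 1, 1)] .nil .nil) (.node [(187, (-1), 1, 1)] .nil .nil)) .nil) (.node [(43, 1, 1, 1)] .nil (.node [(107, 1, 1, 1)] (.node [(173, 1, 1, 1)] .nil .nil) .nil))) (.node [] (.node [] (.node [(74, (-1),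 1, 1)] .nil .nil) (.node [] .nil (.node [(234, 1, 1, 1)] .nil .nil))) (.node [] (.node [(87, 1, 1, 1)] (.node [(149, 1, 1, 1)] .nil .nil) .nil) .nil)))) (.node [] (.node [(8, 1, 1, 1)] (.node [] (.node [] (.node [(59, (-1), 1, 1)] (.node [(113, (-1), 1, 1)] .nil .nil) (.node [(185, (-1), 1, 1)] .nil .nil)) (.node [(96, (-1), 1, 1)] .nil .nil)) (.node [] .nil (.node [(105, 1, 1, 1)] (.node [(171, 1, 1, 1)] .nil .nil) .nil))) (.node [(21, (-1), 1, 1)] (.node [] (.node [] .nil (.node [(193, 1, 1, 1)] .nil .nil)) .nil) (.node [] (.node [(83, (-1), 1, 1)] .nil (.node [(213, 1, 1, 1)] .nil .nil)) .nil))) (.node [] (.node [] (.node [] (.node [(65, 1, 1, 1)] (.node [(125, (-1), 1, 1)] .nil .nil) .nil) .nil) (.node [(45, 1, 1, 1)] (.node [] .nil (.node [(207, (-1), 1, 1)] .nil .nil)) .nil)) (.node [(23, 1, 1, 1)] (.node [(37, (-1), 1, 1)] .nil (.node [] (.node [(169, (-1), 1, 1)] .nil .nil) .nil)) (.node [] (.node [] (.node [(151, 1, 1, 1)] .nil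 .nil) .nil) (.node [(109, 1, 1, 1)] .nil .nil)))))))
def C108 : List (ℕ × List (ℕ × ℤ)) := [(5, [(3, (-1))]), (10, [(8, 1)]), (17, [(15, 1)]), (26, [(21, (-1))]), (30, [(23, 1)]), (31, [(24, 1)]), (32, [(25, 1)]), (46, [(37, (-1))]), (47, [(38, (-1))]), (48, [(39, (-1))]), (52, [(43, 1)]), (53, [(44, 1)]), (54, [(45, 1)]), (66, [(59, (-1))]), (67, [(60, (-1))]), (68, [(61, (-1))]), (70, [(65, 1)]), (76, [(74, (-1))]), (88, [(81, (-1))]), (89, [(82, (-1))]), (90, [(83, (-1))]), (92, [(87, 1)]), (98, [(96, (-1))]), (104, [(102, (-1))]), (114, [(105, 1)]), (115, [(106, 1)]), (116, [(107, 1)]), (126, [(109, 1)]), (130, [(113, (-1))]), (132, [(123, (-1))]), (133, [(124, (-1))]), (134, [(125, (-1))]), (137, [(135, 1)]), (143, [(141, 1)]), (152, [(147, (-1))]), (156, [(149, 1)]), (157, [(150, 1)]), (158, [(151, 1)]), (165, [(163, 1)]), (174, [(169, (-1))]), (178, [(171, 1)]), (179, [(172, 1)]), (180, [(173, 1)]), (194, [(185, (-1))]), (195,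 [(186, (-1))]), (196, [(187, (-1))]), (200, [(191, 1)]), (201, [(192, 1)]), (202, [(193, 1)]), (214, [(207, (-1))]), (215, [(208, (-1))]), (216, [(209, (-1))]), (218, [(213, 1)]), (224, [(222, (-1))]), (231, [(229, (-1))]), (236, [(234, 1)])]
def M109 : Tr (List (ℕ × ℤ × ℕ × ℕ)) := (.node [] (.node [] (.node [] (.node [] (.node [] .nil (.node [(41, (-1), 1, 1)] .nil (.node [(106, 1, 1, 1)] (.node [(171, 1, 1, 1)] .nil .nil) .nil))) (.node [] (.node [] (.node [] .nil (.node [(193, 1, 1, 1)] .nil .nil)) (.node [] .nil (.node [(230, 1, 1, 1)] .nil .nil))) (.node [] (.node [] .nil (.node [(211, 1, 1, 1)] .nil .nil)) .nil))) (.node [] (.node [] (.node [] (.node [(63, (-1), 1, 1)] (.node [(126, (-1), 1, 1)] .nil .nil) (.node [(189, 1, 1, 1)] .nil .nil)) .nil) (.node [(45, (-1), 1, 1)] .nil .nil)) (.node [(23, (-1), 1, 1)] (.node [] .nil (.node [] .nil (.node [(234, 1, 1, 1)] .nil .nil))) (.node [] (.node [(87, (-1), 1, 1)] (.node [(151, 1,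 1, 1)] .nil .nil) .nil) .nil)))) (.node [(4, (-1), 1, 1)] (.node [(8, (-1), 1, 1)] (.node [] .nil (.node [(43, (-1), 1, 1)] .nil (.node [(108, 1, 1, 1)] (.node [(173, 1, 1, 1)] .nil .nil) .nil))) (.node [] .nil (.node [] (.node [(85, (-1), 1, 1)] (.node [(149, 1, 1, 1)] .nil .nil) (.node [(213, 1, 1, 1)] .nil .nil)) .nil))) (.node [] (.node [] (.node [] (.node [(65, (-1), 1, 1)] (.node [(128, (-1), 1, 1)] .nil .nil) (.node [(191, 1, 1, 1)] .nil .nil)) .nil) .nil) (.node [(25, (-1), 1, 1)] .nil .nil)))) (.node [] (.node [] (.node [] (.node [(15, (-1), 1, 1)] (.node [] .nil (.node [] .nil (.node [(223, 1, 1, 1)] .nil .nil))) (.node [(42, (-1), 1, 1)] .nil (.node [(107, 1, 1, 1)] (.node [(172, 1, 1, 1)] .nil .nil) .nil))) (.node [] (.node [] (.node [] (.node [(135, 1, 1, 1)] .nil .nil) .nil) (.node [(103, (-1), 1, 1)] .nil .nil)) (.node [] (.node [(84, (-1), 1, 1)] (.node [(148, 1, 1, 1)] .nil .nil) (.node [(212, 1, 1, 1)] .nil .nil)) .nil)))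 (.node [] (.node [] (.node [] (.node [(64, (-1), 1, 1)] (.node [(127, (-1), 1, 1)] .nil .nil) (.node [(190, 1, 1, 1)] .nil .nil)) (.node [] (.node [(163, 1, 1, 1)] .nil .nil) .nil)) .nil) (.node [(24, (-1), 1, 1)] (.node [] (.node [(75, (-1), 1, 1)] .nil .nil) .nil) .nil))) (.node [] (.node [] (.node [] (.node [] (.node [(62, (-1), 1, 1)] .nil (.node [(188, 1, 1, 1)] .nil .nil)) (.node [(97, (-1), 1, 1)] .nil .nil)) (.node [(44, (-1), 1, 1)] .nil .nil)) (.node [(22, (-1), 1, 1)] .nil (.node [] (.node [(86, (-1), 1, 1)] (.node [(150, 1, 1, 1)] .nil .nil) .nil) .nil))) (.node [] (.node [] (.node [] (.node [] (.node [(129, (-1), 1, 1)] .nil .nil) (.node [(192, 1, 1, 1)] .nil .nil)) .nil) (.node [] (.node [] .nil (.node [(210, 1, 1, 1)] .nil .nil)) .nil)) (.node [] (.node [(40, (-1), 1, 1)] (.node [] (.node [(141, 1, 1, 1)] .nil .nil) .nil) (.node [(105, 1, 1, 1)] (.node [(170, 1, 1, 1)] .nil .nil) .nil)) .nil)))))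
def C109 : List (ℕ × List (ℕ × ℤ)) := [(5, [(4, (-1))]), (9, [(8, (-1))]), (16, [(15, (-1))]), (26, [(22, (-1))]), (27, [(23, (-1))]), (28, [(24, (-1))]), (29, [(25, (-1))]), (46, [(40, (-1))]), (47, [(41, (-1))]), (48, [(42, (-1))]), (49, [(43, (-1))]), (50, [(44, (-1))]), (51, [(45, (-1))]), (66, [(62, (-1))]), (67, [(63, (-1))]), (68, [(64, (-1))]), (69, [(65, (-1))]), (76, [(75, (-1))]), (88, [(84, (-1))]), (89, [(85, (-1))]), (90, [(86, (-1))]), (91, [(87, (-1))]), (98, [(97, (-1))]), (104, [(103, (-1))]), (110, [(105, 1)]), (111, [(106, 1)]), (112, [(107, 1)]), (113, [(108, 1)]), (131, [(126, (-1))]), (132, [(127, (-1))]), (133, [(128, (-1))]), (134, [(129, (-1))]), (136, [(135, 1)]), (142, [(141, 1)]), (152, [(148, 1)]), (153, [(149, 1)]), (154, [(150, 1)]), (155, [(151, 1)]), (164, [(163, 1)]), (174, [(170, 1)]), (175, [(171, 1)]), (176, [(172, 1)]), (177, [(173, 1)]), (194, [(188, 1)]), (195, [(189, 1)]), (196, [(190, 1)]), (197,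 [(191, 1)]), (198, [(192, 1)]), (199, [(193, 1)]), (214, [(210, 1)]), (215, [(211, 1)]), (216, [(212, 1)]), (217, [(213, 1)]), (224, [(223, 1)]), (231, [(230, 1)]), (235, [(234, 1)])]
def M110 : Tr (List (ℕ × ℤ × ℕ × ℕ)) := (.node [] (.node [] (.node [] (.node [] (.node [] (.node [] (.node [(56, 1, 1, 1)] (.node [(117, (-1), 1, 1)] .nil .nil) .nil) (.node [] .nil (.node [(219, (-1), 1, 1)] .nil .nil))) (.node [] .nil (.node [] .nil (.node [(235, 1, 1, 1)] .nil .nil)))) (.node [] (.node [] .nil (.node [(99, (-1), 1, 1)] .nil .nil)) (.node [(49, 1, 1, 1)] (.node [(81, 1, 1, 1)] (.node [(147, 1, 1, 1)] .nil .nil) .nil) (.node [] (.node [(176, (-1), 1, 1)] .nil .nil) .nil)))) (.node [] (.node [] (.node [(28, (-1), 1, 1)] .nil .nil) (.node [] (.node [] .nil (.node [(204, 1, 1, 1)] .nil .nil)) .nil)) (.node [] (.node [] (.node [(71, (-1), 1, 1)] .nil (.node [(197, 1, 1, 1)] .nil .nil)) .nil) .nil))) (.node [] (.node [] (.node [] (.node [] (.node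 [(59, 1, 1, 1)] .nil (.node [(186, (-1), 1, 1)] .nil .nil)) (.node [(93, (-1), 1, 1)] (.node [(154, (-1), 1, 1)] .nil .nil) .nil)) .nil) (.node [(21, 1, 1, 1)] (.node [] (.node [] .nil (.node [(194, 1, 1, 1)] .nil .nil)) .nil) .nil)) (.node [(9, 1, 1, 1)] (.node [] .nil (.node [(46, 1, 1, 1)] (.node [(78, 1, 1, 1)] .nil (.node [(207, 1, 1, 1)] .nil .nil)) .nil)) (.node [] (.node [(38, (-1), 1, 1)] .nil (.node [(105, (-1), 1, 1)] (.node [(169, 1, 1, 1)] .nil .nil) .nil)) (.node [] .nil (.node [(113, 1, 1, 1)] .nil .nil)))))) (.node [] (.node [(0, (-1), 1, 1)] (.node [] (.node [] (.node [(26, (-1), 1, 1)] (.node [(57, 1, 1, 1)] (.node [(119, (-1), 1, 1)] .nil .nil) (.node [(185, (-1), 1, 1)] .nil .nil)) (.node [] (.node [(153, (-1), 1, 1)] .nil .nil) .nil)) .nil) (.node [] (.node [] .nil (.node [] (.node [(164, 1, 1, 1)] .nil .nil) .nil)) (.node [] .nil (.node [(111, 1, 1, 1)] .nil .nil)))) (.node [] (.node [(16, 1, 1, 1)] .nil (.node []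 (.node [] .nil (.node [(205, 1, 1, 1)] .nil .nil)) (.node [] (.node [(174, (-1), 1, 1)] .nil .nil) .nil))) (.node [] (.node [(37, (-1), 1, 1)] (.node [] (.node [(136, 1, 1, 1)] .nil .nil) .nil) .nil) (.node [] (.node [(88, (-1), 1, 1)] .nil .nil) .nil)))) (.node [] (.node [] (.node [] (.node [(27, (-1), 1, 1)] .nil .nil) (.node [] (.node [] (.node [(142, 1, 1, 1)] .nil .nil) .nil) .nil)) (.node [] (.node [(36, (-1), 1, 1)] (.node [] .nil (.node [(195, 1, 1, 1)] .nil .nil)) .nil) (.node [] (.node [] .nil (.node [(214, (-1), 1, 1)] .nil .nil)) (.node [(112, 1, 1, 1)] .nil .nil)))) (.node [] (.node [] (.node [] (.node [(66, (-1), 1, 1)] (.node [(130, 1, 1, 1)] .nil .nil) .nil) (.node [] .nil (.node [(226, (-1), 1, 1)] .nil .nil))) (.node [(47, 1, 1, 1)] (.node [(79, 1, 1, 1)] .nil .nil) (.node [] (.node [(175, (-1), 1, 1)] .nil .nil) .nil))) (.node [] .nil (.node [] (.node [] (.node [(152, (-1), 1, 1)] .nil .nil) .nil) (.node [(114, (-1),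 1, 1)] (.node [(184, (-1), 1, 1)] .nil .nil) .nil)))))))
def C110 : List (ℕ × List (ℕ × ℤ)) := [(4, [(0, (-1))]), (13, [(9, 1)]), (20, [(16, 1)]), (25, [(21, 1)]), (32, [(26, (-1))]), (34, [(27, (-1))]), (35, [(28, (-1))]), (42, [(36, (-1))]), (44, [(37, (-1))]), (45, [(38, (-1))]), (53, [(46, 1)]), (54, [(47, 1)]), (55, [(49, 1)]), (63, [(56, 1)]), (64, [(57, 1)]), (65, [(59, 1)]), (70, [(66, (-1))]), (75, [(71, (-1))]), (85, [(78, 1)]), (86, [(79, 1)]), (87, [(81, 1)]), (92, [(88, (-1))]), (97, [(93, (-1))]), (103, [(99, (-1))]), (109, [(105, (-1))]), (120, [(111, 1)]), (122, [(112, 1)]), (125, [(113, 1)]), (126, [(114, (-1))]), (127, [(117, (-1))]), (128, [(119, (-1))]), (134, [(130, 1)]), (140, [(136, 1)]), (146, [(142, 1)]), (151, [(147, 1)]), (158, [(152, (-1))]), (160, [(153, (-1))]), (161, [(154, (-1))]), (168, [(164, 1)]), (173, [(169, 1)]), (180, [(174, (-1))]), (182, [(175, (-1))]), (183, [(176, (-1))]), (190, [(184, (-1))]),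 (192, [(185, (-1))]), (193, [(186, (-1))]), (201, [(194, 1)]), (202, [(195, 1)]), (203, [(197, 1)]), (211, [(204, 1)]), (212, [(205, 1)]), (213, [(207, 1)]), (218, [(214, (-1))]), (223, [(219, (-1))]), (230, [(226, (-1))]), (239, [(235, 1)])]
def M111 : Tr (List (ℕ × ℤ × ℕ × ℕ)) := (.node [] (.node [] (.node [] (.node [] (.node [] (.node [(26, 1, 1, 1)] (.node [] (.node [(118, (-1), 1, 1)] .nil .nil) (.node [(185, (-1), 1, 1)] .nil .nil)) (.node [] (.node [(153, (-1), 1, 1)] .nil .nil) (.node [(220, 1, 1, 1)] .nil .nil))) .nil) (.node [] (.node [] .nil (.node [(100, (-1), 1, 1)] (.node [(164, 1, 1, 1)] .nil .nil) .nil)) (.node [(50, 1, 1, 1)] (.node [(82, 1, 1, 1)] .nil .nil) (.node [(110, 1, 1, 1)] (.node [(177, 1, 1, 1)] .nil .nil) .nil)))) (.node [] (.node [(16, (-1), 1, 1)] (.node [(29, (-1), 1, 1)] .nil .nil) (.node [] .nil (.node [] (.node [(174, (-1), 1, 1)] .nil .nil) .nil))) (.node [] (.node [(37, 1, 1, 1)] (.node [(72, (-1),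 1, 1)] (.node [(136, 1, 1, 1)] .nil .nil) (.node [(198, (-1), 1, 1)] .nil .nil)) .nil) .nil))) (.node [] (.node [] (.node [] (.node [(27, 1, 1, 1)] (.node [(60, 1, 1, 1)] (.node [(120, (-1), 1, 1)] .nil .nil) (.node [(187, 1, 1, 1)] .nil .nil)) (.node [(94, (-1), 1, 1)] (.node [(155, 1, 1, 1)] .nil .nil) .nil)) (.node [] (.node [] (.node [(142, 1, 1, 1)] .nil .nil) .nil) .nil)) (.node [] (.node [(36, 1, 1, 1)] .nil .nil) (.node [] .nil (.node [(112, 1, 1, 1)] .nil .nil)))) (.node [] (.node [] (.node [] (.node [] (.node [(130, 1, 1, 1)] .nil .nil) .nil) .nil) (.node [] (.node [] .nil (.node [(208, (-1), 1, 1)] .nil .nil)) (.node [] (.node [(175, (-1), 1, 1)] .nil .nil) .nil))) (.node [] (.node [(39, (-1), 1, 1)] .nil (.node [(106, (-1), 1, 1)] .nil .nil)) (.node [] (.node [] (.node [(152, (-1), 1, 1)] .nil .nil) .nil) (.node [] (.node [(184, (-1), 1, 1)] .nil .nil) .nil)))))) (.node [] (.node [(1, (-1), 1, 1)] (.node [] (.node [] (.node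 [] (.node [(58, 1, 1, 1)] .nil .nil) .nil) .nil) (.node [(21, (-1), 1, 1)] (.node [] (.node [] .nil (.node [(194, 1, 1, 1)] .nil .nil)) .nil) .nil)) (.node [(9, (-1), 1, 1)] (.node [] .nil (.node [(46, (-1), 1, 1)] (.node [(78, (-1), 1, 1)] .nil (.node [(206, (-1), 1, 1)] .nil .nil)) .nil)) (.node [] (.node [] .nil (.node [] (.node [(169, 1, 1, 1)] .nil .nil) .nil)) (.node [] (.node [(89, (-1), 1, 1)] .nil .nil) (.node [(113, 1, 1, 1)] .nil .nil))))) (.node [] (.node [] (.node [] .nil (.node [] (.node [] .nil (.node [(204, 1, 1, 1)] .nil .nil)) .nil)) (.node [] (.node [] (.node [] .nil (.node [(196, (-1), 1, 1)] .nil .nil)) .nil) (.node [] (.node [] .nil (.node [(215, 1, 1, 1)] .nil .nil)) .nil))) (.node [] (.node [] (.node [] (.node [(67, (-1), 1, 1)] .nil .nil) (.node [] .nil (.node [(227, 1, 1, 1)] .nil .nil))) (.node [(48, 1, 1, 1)] (.node [(80, 1, 1, 1)] (.node [(147, 1, 1, 1)] .nil .nil) .nil) .nil)) (.node [] (.node [] .nil (.node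 [] .nil (.node [(235, 1, 1, 1)] .nil .nil))) (.node [(56, (-1), 1, 1)] .nil (.node [(115, (-1), 1, 1)] .nil .nil)))))))
def C111 : List (ℕ × List (ℕ × ℤ)) := [(4, [(1, (-1))]), (12, [(9, (-1))]), (19, [(16, (-1))]), (24, [(21, (-1))]), (31, [(26, 1)]), (33, [(27, 1)]), (35, [(29, (-1))]), (41, [(36, 1)]), (43, [(37, 1)]), (45, [(39, (-1))]), (52, [(46, (-1))]), (54, [(48, 1)]), (55, [(50, 1)]), (62, [(56, (-1))]), (64, [(58, 1)]), (65, [(60, 1)]), (70, [(67, (-1))]), (75, [(72, (-1))]), (84, [(78, (-1))]), (86, [(80, 1)]), (87, [(82, 1)]), (92, [(89, (-1))]), (97, [(94, (-1))]), (103, [(100, (-1))]), (109, [(106, (-1))]), (119, [(110, 1)]), (121, [(112, 1)]), (124, [(113, 1)]), (126, [(115, (-1))]), (127, [(118, (-1))]), (129, [(120, (-1))]), (133, [(130, 1)]), (139, [(136, 1)]), (145, [(142, 1)]), (150, [(147, 1)]), (157, [(152, (-1))]), (159, [(153, (-1))]), (161, [(155, 1)]), (167, [(164, 1)]), (172, [(169, 1)]), (179, [(174, (-1))]),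 (181, [(175, (-1))]), (183, [(177, 1)]), (189, [(184, (-1))]), (191, [(185, (-1))]), (193, [(187, 1)]), (200, [(194, 1)]), (202, [(196, (-1))]), (203, [(198, (-1))]), (210, [(204, 1)]), (212, [(206, (-1))]), (213, [(208, (-1))]), (218, [(215, 1)]), (223, [(220, 1)]), (230, [(227, 1)]), (238, [(235, 1)])]
def M112 : Tr (List (ℕ × ℤ × ℕ × ℕ)) := (.node [] (.node [] (.node [] (.node [] (.node [] (.node [] (.node [(58, (-1), 1, 1)] .nil (.node [(186, 1, 1, 1)] .nil .nil)) (.node [] (.node [(154, 1, 1, 1)] .nil .nil) (.node [(221, (-1), 1, 1)] .nil .nil))) .nil) (.node [(21, 1, 1, 1)] (.node [] .nil (.node [(101, (-1), 1, 1)] .nil .nil)) (.node [(51, 1, 1, 1)] (.node [(83, 1, 1, 1)] .nil .nil) .nil))) (.node [(9, 1, 1, 1)] (.node [] .nil (.node [] (.node [] .nil (.node [(206, (-1), 1, 1)] .nil .nil)) .nil)) (.node [] (.node [(38, 1, 1, 1)] (.node [(73, (-1), 1, 1)] .nil (.node [(199, 1, 1, 1)] .nil .nil)) (.node [] (.node [(169, 1, 1, 1)]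 .nil .nil) .nil)) (.node [] .nil (.node [(113, 1, 1, 1)] .nil .nil))))) (.node [] (.node [] (.node [] (.node [(28, 1, 1, 1)] (.node [(61, 1, 1, 1)] (.node [(122, (-1), 1, 1)] .nil .nil) .nil) (.node [(95, (-1), 1, 1)] .nil .nil)) .nil) (.node [] (.node [] (.node [] .nil (.node [(196, (-1), 1, 1)] .nil .nil)) .nil) .nil)) (.node [] (.node [] .nil (.node [(48, (-1), 1, 1)] (.node [(80, (-1), 1, 1)] (.node [(147, 1, 1, 1)] .nil .nil) (.node [(209, 1, 1, 1)] .nil .nil)) (.node [(110, 1, 1, 1)] (.node [(176, 1, 1, 1)] .nil .nil) .nil))) (.node [] (.node [] .nil (.node [(107, (-1), 1, 1)] .nil (.node [(235, 1, 1, 1)] .nil .nil))) .nil)))) (.node [] (.node [(2, (-1), 1, 1)] (.node [] (.node [] (.node [] (.node [] (.node [(121, (-1), 1, 1)] .nil .nil) (.node [(187, 1, 1, 1)] .nil .nil)) (.node [] (.node [(155, 1, 1, 1)] .nil .nil) .nil)) (.node [] (.node [] (.node [(142, 1, 1, 1)] .nil .nil) .nil) .nil)) (.node [] (.node [(36, (-1), 1, 1)] (.node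 [] .nil (.node [(195, (-1), 1, 1)] .nil .nil)) .nil) .nil)) (.node [] (.node [] (.node [] (.node [] (.node [(130, 1, 1, 1)] .nil .nil) .nil) .nil) (.node [(47, (-1), 1, 1)] (.node [(79, (-1), 1, 1)] .nil .nil) .nil)) (.node [] (.node [(39, 1, 1, 1)] .nil .nil) (.node [] (.node [(90, (-1), 1, 1)] (.node [(152, (-1), 1, 1)] .nil .nil) .nil) (.node [] (.node [(184, (-1), 1, 1)] .nil .nil) .nil))))) (.node [] (.node [] (.node [(16, 1, 1, 1)] (.node [(29, 1, 1, 1)] .nil .nil) (.node [] (.node [] .nil (.node [(205, (-1), 1, 1)] .nil .nil)) (.node [] (.node [(174, (-1), 1, 1)] .nil .nil) .nil))) (.node [] (.node [] (.node [] (.node [(136, 1, 1, 1)] .nil .nil) .nil) .nil) (.node [] (.node [] .nil (.node [(216, (-1), 1, 1)] .nil .nil)) .nil))) (.node [] (.node [] (.node [] (.node [(68, (-1), 1, 1)] .nil .nil) (.node [] (.node [(164, 1, 1, 1)] .nil .nil) (.node [(228, (-1), 1, 1)] .nil .nil))) (.node [] .nil (.node [(111, 1, 1, 1)] (.node [(177,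 1, 1, 1)] .nil .nil) .nil))) (.node [(26, (-1), 1, 1)] .nil (.node [(57, (-1), 1, 1)] .nil (.node [(116, (-1), 1, 1)] .nil .nil)))))))
def C112 : List (ℕ × List (ℕ × ℤ)) := [(4, [(2, (-1))]), (11, [(9, 1)]), (18, [(16, 1)]), (23, [(21, 1)]), (30, [(26, (-1))]), (33, [(28, 1)]), (34, [(29, 1)]), (40, [(36, (-1))]), (43, [(38, 1)]), (44, [(39, 1)]), (52, [(47, (-1))]), (53, [(48, (-1))]), (55, [(51, 1)]), (62, [(57, (-1))]), (63, [(58, (-1))]), (65, [(61, 1)]), (70, [(68, (-1))]), (75, [(73, (-1))]), (84, [(79, (-1))]), (85, [(80, (-1))]), (87, [(83, 1)]), (92, [(90, (-1))]), (97, [(95, (-1))]), (103, [(101, (-1))]), (109, [(107, (-1))]), (117, [(110, 1)]), (118, [(111, 1)]), (123, [(113, 1)]), (126, [(116, (-1))]), (128, [(121, (-1))]), (129, [(122, (-1))]), (132, [(130, 1)]), (138, [(136, 1)]), (144, [(142, 1)]), (149, [(147, 1)]), (156, [(152, (-1))]), (159, [(154, 1)]), (160, [(155, 1)]), (166, [(164, 1)]), (171, [(169, 1)]), (178,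 [(174, (-1))]), (181, [(176, 1)]), (182, [(177, 1)]), (188, [(184, (-1))]), (191, [(186, 1)]), (192, [(187, 1)]), (200, [(195, (-1))]), (201, [(196, (-1))]), (203, [(199, 1)]), (210, [(205, (-1))]), (211, [(206, (-1))]), (213, [(209, 1)]), (218, [(216, (-1))]), (223, [(221, (-1))]), (230, [(228, (-1))]), (237, [(235, 1)])]
def M113 : Tr (List (ℕ × ℤ × ℕ × ℕ)) := (.node [] (.node [] (.node [] (.node [] (.node [] (.node [(28, (-1), 1, 1)] (.node [(60, (-1), 1, 1)] (.node [(123, (-1), 1, 1)] .nil .nil) .nil) (.node [] .nil (.node [(222, 1, 1, 1)] .nil .nil))) (.node [] (.node [] (.node [(142, 1, 1, 1)] .nil .nil) .nil) .nil)) (.node [] (.node [] .nil (.node [(102, (-1), 1, 1)] .nil .nil)) .nil)) (.node [] (.node [] (.node [] (.node [] (.node [(130, 1, 1, 1)] .nil .nil) .nil) .nil) (.node [] (.node [] .nil (.node [(208, 1, 1, 1)] .nil .nil)) (.node [(111, 1, 1, 1)] (.node [(176, 1, 1, 1)] .nil .nil) .nil))) (.node [] (.node [] (.node [(74,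 (-1), 1, 1)] .nil .nil) .nil) .nil))) (.node [] (.node [] (.node [(16, (-1), 1, 1)] (.node [] (.node [] (.node [(125, (-1), 1, 1)] .nil .nil) .nil) (.node [(96, (-1), 1, 1)] .nil .nil)) .nil) (.node [] (.node [(38, (-1), 1, 1)] (.node [] (.node [(136, 1, 1, 1)] .nil .nil) (.node [(198, 1, 1, 1)] .nil .nil)) .nil) .nil)) (.node [] (.node [] (.node [] .nil (.node [] (.node [(164, 1, 1, 1)] .nil .nil) .nil)) (.node [(50, (-1), 1, 1)] (.node [(82, (-1), 1, 1)] .nil .nil) .nil)) (.node [] (.node [] .nil (.node [(108, (-1), 1, 1)] .nil .nil)) (.node [] (.node [] (.node [(154, 1, 1, 1)] .nil .nil) .nil) (.node [] (.node [(186, 1, 1, 1)] .nil .nil) .nil)))))) (.node [] (.node [(3, (-1), 1, 1)] (.node [] (.node [] (.node [(29, (-1), 1, 1)] (.node [(61, (-1), 1, 1)] (.node [(124, (-1), 1, 1)] .nil .nil) .nil) .nil) .nil) (.node [] (.node [(37, (-1), 1, 1)] (.node [] .nil (.node [(197, 1, 1, 1)] .nil .nil)) .nil) .nil)) (.node [] (.node [] .nil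 (.node [(49, (-1), 1, 1)] (.node [(81, (-1), 1, 1)] (.node [(147, 1, 1, 1)] .nil .nil) (.node [(209, 1, 1, 1)] .nil .nil)) (.node [(112, 1, 1, 1)] (.node [(177, 1, 1, 1)] .nil .nil) .nil))) (.node [] (.node [] .nil (.node [] .nil (.node [(235, 1, 1, 1)] .nil .nil))) (.node [] (.node [(91, (-1), 1, 1)] (.node [(153, 1, 1, 1)] .nil .nil) .nil) (.node [] (.node [(185, 1, 1, 1)] .nil .nil) .nil))))) (.node [] (.node [(9, (-1), 1, 1)] (.node [] .nil (.node [] (.node [] .nil (.node [(207, 1, 1, 1)] .nil .nil)) (.node [(110, 1, 1, 1)] (.node [(175, 1, 1, 1)] .nil .nil) .nil))) (.node [] (.node [(39, (-1), 1, 1)] (.node [] .nil (.node [(199, 1, 1, 1)] .nil .nil)) (.node [] (.node [(169, 1, 1, 1)] .nil .nil) .nil)) (.node [] (.node [] .nil (.node [(217, 1, 1, 1)] .nil .nil)) .nil))) (.node [] (.node [(21, (-1), 1, 1)] (.node [] (.node [(69, (-1), 1, 1)] .nil .nil) (.node [] .nil (.node [(229, 1, 1, 1)] .nil .nil))) (.node [(51, (-1), 1, 1)] (.node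 [(83, (-1), 1, 1)] .nil .nil) .nil)) (.node [(27, (-1), 1, 1)] .nil (.node [(59, (-1), 1, 1)] (.node [] (.node [(155, 1, 1, 1)] .nil .nil) .nil) (.node [] (.node [(187, 1, 1, 1)] .nil .nil) .nil)))))))
def C113 : List (ℕ × List (ℕ × ℤ)) := [(4, [(3, (-1))]), (10, [(9, (-1))]), (17, [(16, (-1))]), (22, [(21, (-1))]), (30, [(27, (-1))]), (31, [(28, (-1))]), (32, [(29, (-1))]), (40, [(37, (-1))]), (41, [(38, (-1))]), (42, [(39, (-1))]), (52, [(49, (-1))]), (53, [(50, (-1))]), (54, [(51, (-1))]), (62, [(59, (-1))]), (63, [(60, (-1))]), (64, [(61, (-1))]), (70, [(69, (-1))]), (75, [(74, (-1))]), (84, [(81, (-1))]), (85, [(82, (-1))]), (86, [(83, (-1))]), (92, [(91, (-1))]), (97, [(96, (-1))]), (103, [(102, (-1))]), (109, [(108, (-1))]), (114, [(110, 1)]), (115, [(111, 1)]), (116, [(112, 1)]), (127, [(123, (-1))]), (128, [(124, (-1))]), (129, [(125, (-1))]), (131, [(130, 1)]), (137, [(136, 1)]), (143, [(142, 1)]), (148, [(147, 1)]), (156, [(153,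 1)]), (157, [(154, 1)]), (158, [(155, 1)]), (165, [(164, 1)]), (170, [(169, 1)]), (178, [(175, 1)]), (179, [(176, 1)]), (180, [(177, 1)]), (188, [(185, 1)]), (189, [(186, 1)]), (190, [(187, 1)]), (200, [(197, 1)]), (201, [(198, 1)]), (202, [(199, 1)]), (210, [(207, 1)]), (211, [(208, 1)]), (212, [(209, 1)]), (218, [(217, 1)]), (223, [(222, 1)]), (230, [(229, 1)]), (236, [(235, 1)])]
def M114 : Tr (List (ℕ × ℤ × ℕ × ℕ)) := (.node [] (.node [] (.node [(0, (-1), 1, 1)] (.node [] (.node [] .nil (.node [] .nil (.node [] .nil (.node [(236, 1, 1, 1)] .nil .nil)))) (.node [] (.node [(36, (-1), 1, 1)] (.node [] .nil (.node [(195, (-1), 1, 1)] .nil .nil)) .nil) (.node [(52, (-1), 1, 1)] (.node [(84, (-1), 1, 1)] (.node [(148, 1, 1, 1)] .nil .nil) .nil) (.node [] (.node [(179, (-1), 1, 1)] .nil .nil) .nil)))) (.node [] (.node [] (.node [(31, 1, 1, 1)] .nil .nil) (.node [(47, 1, 1, 1)] (.node [(79, 1, 1, 1)] .nil .nil) .nil)) (.node [] (.node []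 (.node [] .nil (.node [(200, 1, 1, 1)] .nil .nil)) .nil) (.node [] (.node [(88, (-1), 1, 1)] (.node [(152, 1, 1, 1)] .nil .nil) .nil) (.node [(117, (-1), 1, 1)] (.node [(184, 1, 1, 1)] .nil .nil) .nil))))) (.node [] (.node [] (.node [] (.node [] (.node [(62, (-1), 1, 1)] (.node [(126, 1, 1, 1)] .nil .nil) (.node [(189, (-1), 1, 1)] .nil .nil)) (.node [] (.node [(157, (-1), 1, 1)] .nil .nil) .nil)) (.node [] (.node [] .nil (.node [(205, (-1), 1, 1)] .nil .nil)) (.node [(110, (-1), 1, 1)] (.node [(174, 1, 1, 1)] .nil .nil) .nil))) (.node [(22, (-1), 1, 1)] .nil (.node [] (.node [] .nil (.node [(214, 1, 1, 1)] .nil .nil)) .nil))) (.node [(10, (-1), 1, 1)] (.node [] (.node [] (.node [(66, (-1), 1, 1)] .nil .nil) (.node [] .nil (.node [(226, 1, 1, 1)] .nil .nil))) (.node [] (.node [] .nil (.node [(210, 1, 1, 1)] .nil .nil)) .nil)) (.node [(26, (-1), 1, 1)] (.node [(41, 1, 1, 1)] .nil (.node [] (.node [(170, 1, 1, 1)] .nil .nil) .nil)) (.node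 [(57, 1, 1, 1)] .nil .nil))))) (.node [] (.node [] (.node [] (.node [] (.node [] (.node [] .nil (.node [(188, (-1), 1, 1)] .nil .nil)) (.node [(93, (-1), 1, 1)] (.node [(156, (-1), 1, 1)] .nil .nil) .nil)) (.node [] (.node [] .nil (.node [(204, (-1), 1, 1)] .nil .nil)) .nil)) (.node [] (.node [] .nil (.node [] (.node [(165, 1, 1, 1)] .nil .nil) .nil)) (.node [] .nil (.node [(115, 1, 1, 1)] .nil .nil)))) (.node [] (.node [(17, (-1), 1, 1)] .nil .nil) (.node [] (.node [(40, 1, 1, 1)] (.node [] (.node [(137, 1, 1, 1)] .nil .nil) .nil) (.node [(105, (-1), 1, 1)] .nil .nil)) (.node [(56, 1, 1, 1)] .nil (.node [(119, (-1), 1, 1)] .nil .nil))))) (.node [] (.node [] (.node [] (.node [(30, 1, 1, 1)] .nil .nil) (.node [(46, 1, 1, 1)] (.node [(78, 1, 1, 1)] (.node [(143, 1, 1, 1)] .nil .nil) .nil) .nil)) (.node [] (.node [] (.node [(71, (-1), 1, 1)] .nil .nil) .nil) (.node [] .nil (.node [(116, 1, 1, 1)] .nil .nil)))) (.node [] (.node [] (.node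 [] (.node [] (.node [(131, 1, 1, 1)] .nil .nil) (.node [(194, (-1), 1, 1)] .nil .nil)) (.node [(99, (-1), 1, 1)] .nil .nil)) (.node [] .nil (.node [] (.node [(178, (-1), 1, 1)] .nil .nil) .nil))) (.node [] .nil (.node [] (.node [] .nil (.node [(219, 1, 1, 1)] .nil .nil)) .nil))))))
def C114 : List (ℕ × List (ℕ × ℤ)) := [(3, [(0, (-1))]), (13, [(10, (-1))]), (20, [(17, (-1))]), (25, [(22, (-1))]), (29, [(26, (-1))]), (34, [(30, 1)]), (35, [(31, 1)]), (39, [(36, (-1))]), (44, [(40, 1)]), (45, [(41, 1)]), (50, [(46, 1)]), (51, [(47, 1)]), (55, [(52, (-1))]), (60, [(56, 1)]), (61, [(57, 1)]), (65, [(62, (-1))]), (69, [(66, (-1))]), (74, [(71, (-1))]), (82, [(78, 1)]), (83, [(79, 1)]), (87, [(84, (-1))]), (91, [(88, (-1))]), (96, [(93, (-1))]), (102, [(99, (-1))]), (108, [(105, (-1))]), (113, [(110, (-1))]), (120, [(115, 1)]), (122, [(116, 1)]), (123, [(117, (-1))]), (124, [(119, (-1))]), (129, [(126, 1)]), (134, [(131, 1)]), (140, [(137,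 1)]), (146, [(143, 1)]), (151, [(148, 1)]), (155, [(152, 1)]), (160, [(156, (-1))]), (161, [(157, (-1))]), (168, [(165, 1)]), (173, [(170, 1)]), (177, [(174, 1)]), (182, [(178, (-1))]), (183, [(179, (-1))]), (187, [(184, 1)]), (192, [(188, (-1))]), (193, [(189, (-1))]), (198, [(194, (-1))]), (199, [(195, (-1))]), (203, [(200, 1)]), (208, [(204, (-1))]), (209, [(205, (-1))]), (213, [(210, 1)]), (217, [(214, 1)]), (222, [(219, 1)]), (229, [(226, 1)]), (239, [(236, 1)])]
def M115 : Tr (List (ℕ × ℤ × ℕ × ℕ)) := (.node [] (.node [] (.node [(1, (-1), 1, 1)] (.node [] (.node [] (.node [] (.node [] .nil (.node [(188, (-1), 1, 1)] .nil .nil)) (.node [] (.node [(156, (-1), 1, 1)] .nil .nil) .nil)) (.node [] (.node [] .nil (.node [(204, (-1), 1, 1)] .nil .nil)) .nil)) (.node [] (.node [] (.node [] .nil (.node [(196, 1, 1, 1)] .nil .nil)) (.node [] (.node [(165, 1, 1, 1)] .nil .nil) .nil)) (.node [(53, (-1), 1, 1)] (.node [(85, (-1), 1, 1)] .nil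 .nil) (.node [(114, 1, 1, 1)] (.node [(180, 1, 1, 1)] .nil .nil) .nil)))) (.node [] (.node [(17, 1, 1, 1)] (.node [(32, 1, 1, 1)] .nil .nil) (.node [(48, 1, 1, 1)] (.node [(80, 1, 1, 1)] .nil .nil) .nil)) (.node [] (.node [(40, (-1), 1, 1)] (.node [] (.node [(137, 1, 1, 1)] .nil .nil) (.node [(201, (-1), 1, 1)] .nil .nil)) .nil) (.node [(56, (-1), 1, 1)] (.node [(89, (-1), 1, 1)] .nil .nil) (.node [(118, (-1), 1, 1)] .nil .nil))))) (.node [] (.node [] (.node [] (.node [(30, (-1), 1, 1)] (.node [(63, (-1), 1, 1)] .nil (.node [(190, 1, 1, 1)] .nil .nil)) (.node [] (.node [(158, 1, 1, 1)] .nil .nil) .nil)) (.node [(46, (-1), 1, 1)] (.node [(78, (-1), 1, 1)] (.node [(143, 1, 1, 1)] .nil .nil) (.node [(206, 1, 1, 1)] .nil .nil)) (.node [(111, (-1), 1, 1)] .nil .nil))) (.node [] .nil (.node [] (.node [] .nil (.node [(215, (-1), 1, 1)] .nil .nil)) (.node [(116, 1, 1, 1)] .nil .nil)))) (.node [] (.node [] (.node [] (.node [(67, (-1), 1, 1)] (.node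 [(131, 1, 1, 1)] .nil .nil) (.node [(194, (-1), 1, 1)] .nil .nil)) (.node [] .nil (.node [(227, (-1), 1, 1)] .nil .nil))) (.node [] (.node [] .nil (.node [(211, (-1), 1, 1)] .nil .nil)) (.node [] (.node [(178, (-1), 1, 1)] .nil .nil) .nil))) (.node [] (.node [(42, 1, 1, 1)] .nil .nil) (.node [(58, 1, 1, 1)] .nil (.node [(120, (-1), 1, 1)] .nil .nil)))))) (.node [] (.node [] (.node [] (.node [] (.node [] (.node [] (.node [(126, 1, 1, 1)] .nil .nil) .nil) (.node [(94, (-1), 1, 1)] .nil .nil)) (.node [] .nil (.node [] (.node [(174, 1, 1, 1)] .nil .nil) .nil))) (.node [(22, 1, 1, 1)] .nil .nil)) (.node [(10, 1, 1, 1)] .nil (.node [(26, 1, 1, 1)] (.node [] .nil (.node [(106, (-1), 1, 1)] (.node [(170, 1, 1, 1)] .nil .nil) .nil)) .nil))) (.node [] (.node [] .nil (.node [] (.node [] (.node [(72, (-1), 1, 1)] .nil .nil) .nil) (.node [] (.node [] (.node [(152, 1, 1, 1)] .nil .nil) .nil) (.node [] (.node [(184, 1, 1, 1)] .nil .nil) .nil)))) (.node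 [] (.node [] (.node [(36, 1, 1, 1)] .nil (.node [(100, (-1), 1, 1)] .nil .nil)) (.node [] (.node [] (.node [(148, 1, 1, 1)] .nil .nil) .nil) .nil)) (.node [] (.node [] .nil (.node [] .nil (.node [(236, 1, 1, 1)] .nil .nil))) (.node [] (.node [] .nil (.node [(220, (-1), 1, 1)] .nil .nil)) .nil))))))
def C115 : List (ℕ × List (ℕ × ℤ)) := [(3, [(1, (-1))]), (12, [(10, 1)]), (19, [(17, 1)]), (24, [(22, 1)]), (28, [(26, 1)]), (33, [(30, (-1))]), (35, [(32, 1)]), (38, [(36, 1)]), (43, [(40, (-1))]), (45, [(42, 1)]), (49, [(46, (-1))]), (51, [(48, 1)]), (55, [(53, (-1))]), (59, [(56, (-1))]), (61, [(58, 1)]), (65, [(63, (-1))]), (69, [(67, (-1))]), (74, [(72, (-1))]), (81, [(78, (-1))]), (83, [(80, 1)]), (87, [(85, (-1))]), (91, [(89, (-1))]), (96, [(94, (-1))]), (102, [(100, (-1))]), (108, [(106, (-1))]), (113, [(111, (-1))]), (119, [(114, 1)]), (121, [(116, 1)]), (123, [(118, (-1))]), (125, [(120, (-1))]), (128, [(126, 1)]), (133, [(131, 1)]),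 (139, [(137, 1)]), (145, [(143, 1)]), (150, [(148, 1)]), (154, [(152, 1)]), (159, [(156, (-1))]), (161, [(158, 1)]), (167, [(165, 1)]), (172, [(170, 1)]), (176, [(174, 1)]), (181, [(178, (-1))]), (183, [(180, 1)]), (186, [(184, 1)]), (191, [(188, (-1))]), (193, [(190, 1)]), (197, [(194, (-1))]), (199, [(196, 1)]), (203, [(201, (-1))]), (207, [(204, (-1))]), (209, [(206, 1)]), (213, [(211, (-1))]), (217, [(215, (-1))]), (222, [(220, (-1))]), (229, [(227, (-1))]), (238, [(236, 1)])]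
def M116 : Tr (List (ℕ × ℤ × ℕ × ℕ)) := (.node [] (.node [] (.node [(2, (-1), 1, 1)] (.node [] (.node [] (.node [] (.node [] (.node [(126, 1, 1, 1)] .nil .nil) (.node [(189, 1, 1, 1)] .nil .nil)) (.node [] (.node [(157, 1, 1, 1)] .nil .nil) .nil)) (.node [] (.node [] .nil (.node [(205, 1, 1, 1)] .nil .nil)) (.node [] (.node [(174, 1, 1, 1)] .nil .nil) .nil))) (.node [(22, (-1), 1, 1)] .nil (.node [(54, (-1), 1, 1)] (.node [(86, (-1), 1, 1)] .nil .nil) .nil))) (.node [(10, (-1), 1, 1)] .nil (.node [(26, (-1), 1, 1)] (.node [(41, (-1), 1, 1)] (.node [] .nil (.node [(202, 1, 1, 1)] .nil .nil)) (.node [] (.node [(170, 1, 1, 1)] .nil .nil) .nil)) (.node [(57, (-1), 1, 1)] (.node [(90, (-1), 1, 1)] .nil .nil) .nil)))) (.node [] (.node [] (.node [] (.node [(31, (-1), 1, 1)] (.node [(64, (-1), 1, 1)] .nil .nil) .nil) (.node [(47, (-1), 1, 1)] (.node [(79, (-1), 1, 1)] .nil .nil) (.node [(112, (-1), 1, 1)] .nil .nil))) (.node [] .nil (.node []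 (.node [] (.node [(152, 1, 1, 1)] .nil .nil) (.node [(216, 1, 1, 1)] .nil .nil)) (.node [] (.node [(184, 1, 1, 1)] .nil .nil) .nil)))) (.node [] (.node [] (.node [(36, (-1), 1, 1)] (.node [(68, (-1), 1, 1)] .nil (.node [(195, 1, 1, 1)] .nil .nil)) (.node [] .nil (.node [(228, 1, 1, 1)] .nil .nil))) (.node [] (.node [] (.node [(148, 1, 1, 1)] .nil .nil) (.node [(212, 1, 1, 1)] .nil .nil)) (.node [(114, 1, 1, 1)] (.node [(179, 1, 1, 1)] .nil .nil) .nil))) (.node [] (.node [] .nil (.node [] .nil (.node [(236, 1, 1, 1)] .nil .nil))) (.node [] .nil (.node [(122, (-1), 1, 1)] .nil .nil)))))) (.node [] (.node [] (.node [] (.node [] (.node [] (.node [] .nil (.node [(190, 1, 1, 1)] .nil .nil)) (.node [(95, (-1), 1, 1)] (.node [(158, 1, 1, 1)] .nil .nil) .nil)) (.node [] (.node [] (.node [(143, 1, 1, 1)] .nil .nil) (.node [(206, 1, 1, 1)] .nil .nil)) .nil)) .nil) (.node [] (.node [] (.node [] (.node [] (.node [(131, 1, 1, 1)] .nil .nil) .nil) .nil)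 .nil) (.node [] (.node [(42, (-1), 1, 1)] .nil (.node [(107, (-1), 1, 1)] .nil .nil)) (.node [(58, (-1), 1, 1)] .nil (.node [(121, (-1), 1, 1)] .nil .nil))))) (.node [] (.node [] (.node [(17, (-1), 1, 1)] (.node [(32, (-1), 1, 1)] .nil .nil) (.node [(48, (-1), 1, 1)] (.node [(80, (-1), 1, 1)] .nil .nil) .nil)) (.node [] (.node [] (.node [(73, (-1), 1, 1)] (.node [(137, 1, 1, 1)] .nil .nil) .nil) .nil) .nil)) (.node [] (.node [] (.node [] (.node [] .nil (.node [(196, 1, 1, 1)] .nil .nil)) (.node [(101, (-1), 1, 1)] (.node [(165, 1, 1, 1)] .nil .nil) .nil)) (.node [] .nil (.node [(115, 1, 1, 1)] (.node [(180, 1, 1, 1)] .nil .nil) .nil))) (.node [] .nil (.node [] (.node [] .nil (.node [(221, 1, 1, 1)] .nil .nil)) .nil))))))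
def C116 : List (ℕ × List (ℕ × ℤ)) := [(3, [(2, (-1))]), (11, [(10, (-1))]), (18, [(17, (-1))]), (23, [(22, (-1))]), (27, [(26, (-1))]), (33, [(31, (-1))]), (34, [(32, (-1))]), (37, [(36, (-1))]), (43, [(41, (-1))]), (44, [(42, (-1))]), (49, [(47, (-1))]), (50, [(48, (-1))]), (55, [(54, (-1))]), (59, [(57, (-1))]), (60, [(58, (-1))]), (65, [(64, (-1))]), (69, [(68, (-1))]), (74, [(73, (-1))]), (81, [(79, (-1))]), (82, [(80, (-1))]), (87, [(86, (-1))]), (91, [(90, (-1))]), (96, [(95, (-1))]), (102, [(101, (-1))]), (108, [(107, (-1))]), (113, [(112, (-1))]), (117, [(114, 1)]), (118, [(115, 1)]), (124, [(121, (-1))]), (125, [(122, (-1))]), (127, [(126, 1)]), (132, [(131, 1)]), (138, [(137, 1)]), (144, [(143, 1)]), (149, [(148, 1)]), (153, [(152, 1)]), (159, [(157, 1)]), (160, [(158, 1)]), (166, [(165, 1)]), (171, [(170, 1)]), (175, [(174, 1)]), (181, [(179, 1)]), (182, [(180, 1)]), (185, [(184, 1)]), (191, [(189, 1)]), (192, [(190, 1)]),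 (197, [(195, 1)]), (198, [(196, 1)]), (203, [(202, 1)]), (207, [(205, 1)]), (208, [(206, 1)]), (213, [(212, 1)]), (217, [(216, 1)]), (222, [(221, 1)]), (229, [(228, 1)]), (237, [(236, 1)])]
def M117 : Tr (List (ℕ × ℤ × ℕ × ℕ)) := (.node [] (.node [] (.node [] (.node [] (.node [] (.node [] .nil (.node [(93, (-1), 1, 1)] .nil .nil)) (.node [] .nil (.node [] .nil (.node [(237, 1, 1, 1)] .nil .nil)))) (.node [] (.node [(37, 1, 1, 1)] (.node [] .nil (.node [(197, (-1), 1, 1)] .nil .nil)) .nil) (.node [] (.node [] (.node [(149, 1, 1, 1)] .nil .nil) .nil) (.node [] (.node [(181, (-1), 1, 1)] .nil .nil) .nil)))) (.node [] (.node [] (.node [(33, (-1), 1, 1)] .nil .nil) (.node [(49, (-1), 1, 1)] (.node [(81, (-1), 1, 1)] .nil .nil) .nil)) (.node [] (.node [] .nil (.node [(105, (-1), 1, 1)] .nil .nil)) (.node [] (.node [] (.node [(153, 1, 1, 1)] .nil .nil) .nil) (.node [] (.node [(185, 1, 1, 1)] .nil .nil) .nil))))) (.node [] (.node [] (.node []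 (.node [] (.node [] (.node [(127, 1, 1, 1)] .nil .nil) (.node [(191, (-1), 1, 1)] .nil .nil)) (.node [] (.node [(159, (-1), 1, 1)] .nil .nil) .nil)) (.node [] (.node [] .nil (.node [(207, (-1), 1, 1)] .nil .nil)) (.node [] (.node [(175, 1, 1, 1)] .nil .nil) .nil))) (.node [(23, 1, 1, 1)] (.node [] (.node [(71, (-1), 1, 1)] .nil .nil) .nil) (.node [] .nil (.node [(119, (-1), 1, 1)] .nil .nil)))) (.node [(11, 1, 1, 1)] (.node [] (.node [] .nil (.node [(99, (-1), 1, 1)] .nil .nil)) .nil) (.node [(27, 1, 1, 1)] (.node [(43, (-1), 1, 1)] .nil (.node [] (.node [(171, 1, 1, 1)] .nil .nil) .nil)) (.node [(59, (-1), 1, 1)] (.node [] .nil (.node [(219, (-1), 1, 1)] .nil .nil)) (.node [(123, 1, 1, 1)] .nil .nil)))))) (.node [(0, (-1), 1, 1)] (.node [] (.node [] (.node [] (.node [(30, 1, 1, 1)] (.node [(62, (-1), 1, 1)] .nil .nil) .nil) (.node [(46, 1, 1, 1)] (.node [(78, 1, 1, 1)] .nil .nil) (.node [(110, (-1), 1, 1)] .nil .nil))) (.node [] (.node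 [] .nil (.node [] (.node [(166, 1, 1, 1)] .nil .nil) .nil)) (.node [] (.node [] .nil (.node [(214, (-1), 1, 1)] .nil .nil)) (.node [(118, 1, 1, 1)] .nil .nil)))) (.node [] (.node [(18, 1, 1, 1)] (.node [] (.node [(66, (-1), 1, 1)] .nil (.node [(194, 1, 1, 1)] .nil .nil)) (.node [] .nil (.node [(226, (-1), 1, 1)] .nil .nil))) (.node [] (.node [] .nil (.node [(210, (-1), 1, 1)] .nil .nil)) (.node [(114, (-1), 1, 1)] (.node [(178, 1, 1, 1)] .nil .nil) .nil))) (.node [] (.node [] (.node [] (.node [(138, 1, 1, 1)] .nil .nil) .nil) .nil) .nil))) (.node [] (.node [] (.node [] .nil (.node [] (.node [] (.node [(144, 1, 1, 1)] .nil .nil) .nil) .nil)) (.node [] (.node [(40, 1, 1, 1)] (.node [] .nil (.node [(200, (-1), 1, 1)] .nil .nil)) .nil) (.node [(56, 1, 1, 1)] (.node [(88, (-1), 1, 1)] .nil .nil) .nil))) (.node [] (.node [] (.node [] (.node [] (.node [(132, 1, 1, 1)] .nil .nil) .nil) .nil) (.node [(52, (-1), 1, 1)] (.node [(84, (-1), 1, 1)]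 .nil .nil) .nil)) (.node [] (.node [] (.node [] .nil (.node [(204, 1, 1, 1)] .nil .nil)) .nil) (.node [] (.node [] (.node [(156, 1, 1, 1)] .nil .nil) .nil) (.node [] (.node [(188, 1, 1, 1)] .nil .nil) .nil)))))))
def C117 : List (ℕ × List (ℕ × ℤ)) := [(2, [(0, (-1))]), (13, [(11, 1)]), (20, [(18, 1)]), (25, [(23, 1)]), (29, [(27, 1)]), (32, [(30, 1)]), (35, [(33, (-1))]), (39, [(37, 1)]), (42, [(40, 1)]), (45, [(43, (-1))]), (48, [(46, 1)]), (51, [(49, (-1))]), (54, [(52, (-1))]), (58, [(56, 1)]), (61, [(59, (-1))]), (64, [(62, (-1))]), (68, [(66, (-1))]), (73, [(71, (-1))]), (80, [(78, 1)]), (83, [(81, (-1))]), (86, [(84, (-1))]), (90, [(88, (-1))]), (95, [(93, (-1))]), (101, [(99, (-1))]), (107, [(105, (-1))]), (112, [(110, (-1))]), (116, [(114, (-1))]), (120, [(118, 1)]), (121, [(119, (-1))]), (125, [(123, 1)]), (129, [(127, 1)]), (134, [(132, 1)]), (140, [(138, 1)]), (146, [(144, 1)]), (151, [(149, 1)]), (155, [(153, 1)]), (158, [(156,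 1)]), (161, [(159, (-1))]), (168, [(166, 1)]), (173, [(171, 1)]), (177, [(175, 1)]), (180, [(178, 1)]), (183, [(181, (-1))]), (187, [(185, 1)]), (190, [(188, 1)]), (193, [(191, (-1))]), (196, [(194, 1)]), (199, [(197, (-1))]), (202, [(200, (-1))]), (206, [(204, 1)]), (209, [(207, (-1))]), (212, [(210, (-1))]), (216, [(214, (-1))]), (221, [(219, (-1))]), (228, [(226, (-1))]), (239, [(237, 1)])]
def M118 : Tr (List (ℕ × ℤ × ℕ × ℕ)) := (.node [] (.node [] (.node [] (.node [] (.node [] (.node [(30, (-1), 1, 1)] .nil (.node [(94, (-1), 1, 1)] .nil .nil)) (.node [(46, (-1), 1, 1)] (.node [(78, (-1), 1, 1)] .nil .nil) .nil)) (.node [] (.node [] (.node [] .nil (.node [(198, 1, 1, 1)] .nil .nil)) (.node [] (.node [(166, 1, 1, 1)] .nil .nil) .nil)) (.node [] .nil (.node [(117, 1, 1, 1)] (.node [(182, 1, 1, 1)] .nil .nil) .nil)))) (.node [] (.node [(18, (-1), 1, 1)] (.node [(34, (-1), 1, 1)] (.node [] .nil (.node [(194, 1, 1, 1)] .nil .nil)) .nil)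 (.node [(50, (-1), 1, 1)] (.node [(82, (-1), 1, 1)] .nil .nil) (.node [] (.node [(178, 1, 1, 1)] .nil .nil) .nil))) (.node [] (.node [] (.node [] (.node [(138, 1, 1, 1)] .nil .nil) .nil) (.node [(106, (-1), 1, 1)] .nil .nil)) .nil))) (.node [] (.node [] (.node [] (.node [] (.node [] .nil (.node [(192, 1, 1, 1)] .nil .nil)) (.node [] (.node [(160, 1, 1, 1)] .nil .nil) .nil)) (.node [] (.node [] (.node [(144, 1, 1, 1)] .nil .nil) (.node [(208, 1, 1, 1)] .nil .nil)) .nil)) (.node [] (.node [(40, (-1), 1, 1)] (.node [(72, (-1), 1, 1)] .nil .nil) .nil) (.node [(56, (-1), 1, 1)] .nil .nil))) (.node [] (.node [] (.node [] (.node [] (.node [(132, 1, 1, 1)] .nil .nil) .nil) (.node [(100, (-1), 1, 1)] .nil .nil)) .nil) (.node [] (.node [(44, (-1), 1, 1)] (.node [] .nil (.node [(204, 1, 1, 1)] .nil .nil)) .nil) (.node [(60, (-1), 1, 1)] (.node [] (.node [(156, 1, 1, 1)] .nil .nil) (.node [(220, 1, 1, 1)] .nil .nil)) (.node [] (.node [(188, 1, 1,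 1)] .nil .nil) .nil)))))) (.node [(1, (-1), 1, 1)] (.node [] (.node [] (.node [] (.node [] (.node [(63, (-1), 1, 1)] (.node [(127, 1, 1, 1)] .nil .nil) .nil) .nil) (.node [] .nil (.node [(111, (-1), 1, 1)] (.node [(175, 1, 1, 1)] .nil .nil) .nil))) (.node [(23, (-1), 1, 1)] .nil (.node [] (.node [] .nil (.node [(215, 1, 1, 1)] .nil .nil)) .nil))) (.node [(11, (-1), 1, 1)] (.node [] (.node [] (.node [(67, (-1), 1, 1)] .nil .nil) (.node [] .nil (.node [(227, 1, 1, 1)] .nil .nil))) (.node [] (.node [] .nil (.node [(211, 1, 1, 1)] .nil .nil)) (.node [(115, (-1), 1, 1)] .nil .nil))) (.node [(27, (-1), 1, 1)] (.node [] .nil (.node [] (.node [(171, 1, 1, 1)] .nil .nil) .nil)) (.node [] .nil (.node [(123, 1, 1, 1)] .nil .nil))))) (.node [] (.node [] .nil (.node [] (.node [] (.node [] .nil (.node [(201, 1, 1, 1)] .nil .nil)) .nil) (.node [] (.node [(89, (-1), 1, 1)] (.node [(153, 1, 1, 1)] .nil .nil) .nil) (.node [(120, (-1), 1, 1)] (.node [(185,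 1, 1, 1)] .nil .nil) .nil)))) (.node [] (.node [] (.node [(37, (-1), 1, 1)] .nil .nil) (.node [(53, (-1), 1, 1)] (.node [(85, (-1), 1, 1)] (.node [(149, 1, 1, 1)] .nil .nil) .nil) .nil)) (.node [] (.node [] .nil (.node [] .nil (.node [(237, 1, 1, 1)] .nil .nil))) .nil)))))
def C118 : List (ℕ × List (ℕ × ℤ)) := [(2, [(1, (-1))]), (12, [(11, (-1))]), (19, [(18, (-1))]), (24, [(23, (-1))]), (28, [(27, (-1))]), (31, [(30, (-1))]), (35, [(34, (-1))]), (38, [(37, (-1))]), (41, [(40, (-1))]), (45, [(44, (-1))]), (47, [(46, (-1))]), (51, [(50, (-1))]), (54, [(53, (-1))]), (57, [(56, (-1))]), (61, [(60, (-1))]), (64, [(63, (-1))]), (68, [(67, (-1))]), (73, [(72, (-1))]), (79, [(78, (-1))]), (83, [(82, (-1))]), (86, [(85, (-1))]), (90, [(89, (-1))]), (95, [(94, (-1))]), (101, [(100, (-1))]), (107, [(106, (-1))]), (112, [(111, (-1))]), (116, [(115, (-1))]), (119, [(117, 1)]), (122, [(120, (-1))]), (124, [(123, 1)]), (128, [(127, 1)]), (133, [(132,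 1)]), (139, [(138, 1)]), (145, [(144, 1)]), (150, [(149, 1)]), (154, [(153, 1)]), (157, [(156, 1)]), (161, [(160, 1)]), (167, [(166, 1)]), (172, [(171, 1)]), (176, [(175, 1)]), (179, [(178, 1)]), (183, [(182, 1)]), (186, [(185, 1)]), (189, [(188, 1)]), (193, [(192, 1)]), (195, [(194, 1)]), (199, [(198, 1)]), (202, [(201, 1)]), (205, [(204, 1)]), (209, [(208, 1)]), (212, [(211, 1)]), (216, [(215, 1)]), (221, [(220, 1)]), (228, [(227, 1)]), (238, [(237, 1)])]
def M119 : Tr (List (ℕ × ℤ × ℕ × ℕ)) := (.node [] (.node [(0, (-1), 1, 1)] (.node [] (.node [] (.node [] (.node [] (.node [(62, (-1), 1, 1)] .nil .nil) .nil) (.node [] .nil (.node [(110, (-1), 1, 1)] .nil (.node [(238, 1, 1, 1)] .nil .nil)))) (.node [] (.node [(38, (-1), 1, 1)] .nil .nil) (.node [] (.node [] (.node [(150, 1, 1, 1)] .nil .nil) (.node [(214, 1, 1, 1)] .nil .nil)) .nil))) (.node [] (.node [] (.node [] (.node [(66, (-1), 1, 1)] .nil .nil) (.node [] .nil (.node [(226, 1,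 1, 1)] .nil .nil))) (.node [] (.node [] .nil (.node [(210, 1, 1, 1)] .nil .nil)) (.node [(114, (-1), 1, 1)] .nil .nil))) (.node [] .nil (.node [] (.node [] (.node [(154, 1, 1, 1)] .nil .nil) .nil) (.node [] (.node [(186, 1, 1, 1)] .nil .nil) .nil))))) (.node [] (.node [] (.node [] (.node [] (.node [] (.node [(128, 1, 1, 1)] .nil .nil) .nil) .nil) (.node [] .nil (.node [] (.node [(176, 1, 1, 1)] .nil .nil) .nil))) (.node [(24, (-1), 1, 1)] (.node [] (.node [] .nil (.node [(200, 1, 1, 1)] .nil .nil)) .nil) (.node [] (.node [(88, (-1), 1, 1)] .nil .nil) .nil))) (.node [(12, (-1), 1, 1)] (.node [] .nil (.node [(52, (-1), 1, 1)] (.node [(84, (-1), 1, 1)] .nil .nil) .nil)) (.node [(28, (-1), 1, 1)] (.node [] .nil (.node [] (.node [(172, 1, 1, 1)] .nil .nil) .nil)) (.node [] .nil (.node [(124, 1, 1, 1)] .nil .nil)))))) (.node [] (.node [] (.node [] (.node [] (.node [(31, (-1), 1, 1)] (.node [] .nil (.node [(191, 1, 1, 1)] .nil .nil)) (.node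 [] (.node [(159, 1, 1, 1)] .nil .nil) .nil)) (.node [(47, (-1), 1, 1)] (.node [(79, (-1), 1, 1)] .nil (.node [(207, 1, 1, 1)] .nil .nil)) .nil)) (.node [] (.node [] (.node [(71, (-1), 1, 1)] .nil .nil) (.node [] (.node [(167, 1, 1, 1)] .nil .nil) .nil)) .nil)) (.node [] (.node [(19, (-1), 1, 1)] (.node [] (.node [] .nil (.node [(195, 1, 1, 1)] .nil .nil)) (.node [(99, (-1), 1, 1)] .nil .nil)) (.node [] .nil (.node [] (.node [(179, 1, 1, 1)] .nil .nil) .nil))) (.node [] (.node [(43, (-1), 1, 1)] (.node [] (.node [(139, 1, 1, 1)] .nil .nil) .nil) .nil) (.node [(59, (-1), 1, 1)] (.node [] .nil (.node [(219, 1, 1, 1)] .nil .nil)) .nil)))) (.node [] (.node [] (.node [] (.node [(33, (-1), 1, 1)] .nil .nil) (.node [(49, (-1), 1, 1)] (.node [(81, (-1), 1, 1)] (.node [(145, 1, 1, 1)] .nil .nil) .nil) .nil)) (.node [] (.node [(41, (-1), 1, 1)] .nil (.node [(105, (-1), 1, 1)] .nil .nil)) (.node [(57, (-1), 1, 1)] .nil (.node [(121, 1, 1, 1)] .nil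 .nil)))) (.node [] (.node [] (.node [] (.node [] (.node [(133, 1, 1, 1)] .nil .nil) (.node [(197, 1, 1, 1)] .nil .nil)) .nil) (.node [] .nil (.node [(117, (-1), 1, 1)] (.node [(181, 1, 1, 1)] .nil .nil) .nil))) (.node [] (.node [] (.node [] .nil (.node [(205, 1, 1, 1)] .nil .nil)) .nil) (.node [] (.node [(93, (-1), 1, 1)] (.node [(157, 1, 1, 1)] .nil .nil) .nil) (.node [] (.node [(189, 1, 1, 1)] .nil .nil) .nil)))))))
def C119 : List (ℕ × List (ℕ × ℤ)) := [(1, [(0, (-1))]), (13, [(12, (-1))]), (20, [(19, (-1))]), (25, [(24, (-1))]), (29, [(28, (-1))]), (32, [(31, (-1))]), (34, [(33, (-1))]), (39, [(38, (-1))]), (42, [(41, (-1))]), (44, [(43, (-1))]), (48, [(47, (-1))]), (50, [(49, (-1))]), (53, [(52, (-1))]), (58, [(57, (-1))]), (60, [(59, (-1))]), (63, [(62, (-1))]), (67, [(66, (-1))]), (72, [(71, (-1))]), (80, [(79, (-1))]), (82, [(81, (-1))]), (85, [(84, (-1))]), (89, [(88, (-1))]), (94, [(93, (-1))]), (100, [(99, (-1))]), (106, [(105,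 (-1))]), (111, [(110, (-1))]), (115, [(114, (-1))]), (118, [(117, (-1))]), (122, [(121, 1)]), (125, [(124, 1)]), (129, [(128, 1)]), (134, [(133, 1)]), (140, [(139, 1)]), (146, [(145, 1)]), (151, [(150, 1)]), (155, [(154, 1)]), (158, [(157, 1)]), (160, [(159, 1)]), (168, [(167, 1)]), (173, [(172, 1)]), (177, [(176, 1)]), (180, [(179, 1)]), (182, [(181, 1)]), (187, [(186, 1)]), (190, [(189, 1)]), (192, [(191, 1)]), (196, [(195, 1)]), (198, [(197, 1)]), (201, [(200, 1)]), (206, [(205, 1)]), (208, [(207, 1)]), (211, [(210, 1)]), (215, [(214, 1)]), (220, [(219, 1)]), (227, [(226, 1)]), (239, [(238, 1)])]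
def M120 : Tr (List (ℕ × ℤ × ℕ × ℕ)) := (.node [(1, (-1), 1, 1)] (.node [] (.node [] (.node [] (.node [] (.node [(32, (-1), 1, 1)] (.node [] .nil (.node [(192, 1, 1, 1)] .nil .nil)) (.node [] (.node [(160, 1, 1, 1)] .nil .nil) .nil)) (.node [(48, (-1), 1, 1)] (.node [(80, (-1), 1, 1)] .nil (.node [(208, 1, 1, 1)] .nil .nil)) .nil)) (.node [] (.node [] (.node [(72, (-1), 1, 1)] .nil .nil) (.node [] (.node [(168, 1, 1, 1)] .nil .nil) .nil)) .nil)) (.node [] (.node [(20, (-1), 1, 1)] (.node [] (.node [] .nil (.node [(196, 1, 1, 1)] .nil .nil)) (.node [(100, (-1), 1, 1)] .nil .nil)) (.node [] .nil (.node [] (.node [(180, 1, 1, 1)] .nil .nil) .nil))) (.node [] (.node [(44, (-1), 1, 1)] (.node [] (.node [(140, 1, 1, 1)] .nil .nil) .nil) .nil) (.node [(60, (-1), 1, 1)] (.node [] .nil (.node [(220, 1, 1, 1)] .nil .nil)) .nil)))) (.node [] (.node [] (.node [] (.node [(34, (-1), 1, 1)] .nil .nil) (.node [(50, (-1), 1, 1)] (.node [(82, (-1), 1,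 1)] (.node [(146, 1, 1, 1)] .nil .nil) .nil) .nil)) (.node [] (.node [(42, (-1), 1, 1)] .nil (.node [(106, (-1), 1, 1)] .nil .nil)) (.node [(58, (-1), 1, 1)] .nil (.node [(122, 1, 1, 1)] .nil .nil)))) (.node [] (.node [] (.node [] (.node [] (.node [(134, 1, 1, 1)] .nil .nil) (.node [(198, 1, 1, 1)] .nil .nil)) .nil) (.node [] .nil (.node [(118, (-1), 1, 1)] (.node [(182, 1, 1, 1)] .nil .nil) .nil))) (.node [] (.node [] (.node [] .nil (.node [(206, 1, 1, 1)] .nil .nil)) .nil) (.node [] (.node [(94, (-1), 1, 1)] (.node [(158, 1, 1, 1)] .nil .nil) .nil) (.node [] (.node [(190, 1, 1, 1)] .nil .nil) .nil)))))) (.node [] (.node [] (.node [] (.node [] (.node [] (.node [] (.node [(129, 1, 1, 1)] .nil .nil) .nil) .nil) (.node [] .nil (.node [] (.node [(177, 1, 1, 1)] .nil .nil) .nil))) (.node [(25, (-1), 1, 1)] (.node [] (.node [] .nil (.node [(201, 1, 1, 1)] .nil .nil)) .nil) (.node [] (.node [(89, (-1), 1, 1)] .nil .nil) .nil))) (.node [(13,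 (-1), 1, 1)] (.node [] .nil (.node [(53, (-1), 1, 1)] (.node [(85, (-1), 1, 1)] .nil .nil) .nil)) (.node [(29, (-1), 1, 1)] (.node [] .nil (.node [] (.node [(173, 1, 1, 1)] .nil .nil) .nil)) (.node [] .nil (.node [(125, 1, 1, 1)] .nil .nil))))) (.node [] (.node [] (.node [] (.node [] (.node [(67, (-1), 1, 1)] .nil .nil) (.node [] .nil (.node [(227, 1, 1, 1)] .nil .nil))) (.node [] (.node [] .nil (.node [(211, 1, 1, 1)] .nil .nil)) (.node [(115, (-1), 1, 1)] .nil .nil))) (.node [] .nil (.node [] (.node [] (.node [(155, 1, 1, 1)] .nil .nil) .nil) (.node [] (.node [(187, 1, 1, 1)] .nil .nil) .nil)))) (.node [] (.node [] (.node [(39, (-1), 1, 1)] .nil .nil) (.node [] (.node [] (.node [(151, 1, 1, 1)] .nil .nil) (.node [(215, 1, 1, 1)] .nil .nil)) .nil)) (.node [] (.node [] .nil (.node [(111, (-1), 1, 1)] .nil (.node [(239, 1, 1, 1)] .nil .nil))) (.node [(63, (-1), 1, 1)] .nil .nil))))))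
def C120 : List (ℕ × List (ℕ × ℤ)) := [(0, [(1, (-1))]), (12, [(13, (-1))]), (19, [(20, (-1))]), (24, [(25, (-1))]), (28, [(29, (-1))]), (31, [(32, (-1))]), (33, [(34, (-1))]), (38, [(39, (-1))]), (41, [(42, (-1))]), (43, [(44, (-1))]), (47, [(48, (-1))]), (49, [(50, (-1))]), (52, [(53, (-1))]), (57, [(58, (-1))]), (59, [(60, (-1))]), (62, [(63, (-1))]), (66, [(67, (-1))]), (71, [(72, (-1))]), (79, [(80, (-1))]), (81, [(82, (-1))]), (84, [(85, (-1))]), (88, [(89, (-1))]), (93, [(94, (-1))]), (99, [(100, (-1))]), (105, [(106, (-1))]), (110, [(111, (-1))]), (114, [(115, (-1))]), (117, [(118, (-1))]), (121, [(122, 1)]), (124, [(125, 1)]), (128, [(129, 1)]), (133, [(134, 1)]), (139, [(140, 1)]), (145, [(146, 1)]), (150, [(151, 1)]), (154, [(155, 1)]), (157, [(158, 1)]), (159, [(160, 1)]), (167, [(168, 1)]), (172, [(173, 1)]), (176, [(177, 1)]), (179, [(180, 1)]), (181, [(182, 1)]), (186, [(187, 1)]), (189, [(190, 1)]), (191, [(192, 1)]),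 (195, [(196, 1)]), (197, [(198, 1)]), (200, [(201, 1)]), (205, [(206, 1)]), (207, [(208, 1)]), (210, [(211, 1)]), (214, [(215, 1)]), (219, [(220, 1)]), (226, [(227, 1)]), (238, [(239, 1)])]
def M121 : Tr (List (ℕ × ℤ × ℕ × ℕ)) := (.node [] (.node [(2, (-1), 1, 1)] (.node [] (.node [] (.node [] (.node [] (.node [(64, (-1), 1, 1)] (.node [(128, 1, 1, 1)] .nil .nil) .nil) .nil) (.node [] .nil (.node [(112, (-1), 1, 1)] (.node [(176, 1, 1, 1)] .nil .nil) .nil))) (.node [(24, (-1), 1, 1)] .nil (.node [] (.node [] .nil (.node [(216, 1, 1, 1)] .nil .nil)) .nil))) (.node [(12, (-1), 1, 1)] (.node [] (.node [] (.node [(68, (-1), 1, 1)] .nil .nil) (.node [] .nil (.node [(228, 1, 1, 1)] .nil .nil))) (.node [] (.node [] .nil (.node [(212, 1, 1, 1)] .nil .nil)) (.node [(116, (-1), 1, 1)] .nil .nil))) (.node [(28, (-1), 1, 1)] (.node [] .nil (.node [] (.node [(172, 1, 1, 1)] .nil .nil) .nil)) (.node [] .nil (.node [(124, 1, 1, 1)] .nil .nil))))) (.node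 [] (.node [] .nil (.node [] (.node [] (.node [] .nil (.node [(202, 1, 1, 1)] .nil .nil)) .nil) (.node [] (.node [(90, (-1), 1, 1)] (.node [(154, 1, 1, 1)] .nil .nil) .nil) (.node [] (.node [(186, 1, 1, 1)] .nil .nil) .nil)))) (.node [] (.node [] (.node [(38, (-1), 1, 1)] .nil .nil) (.node [(54, (-1), 1, 1)] (.node [(86, (-1), 1, 1)] (.node [(150, 1, 1, 1)] .nil .nil) .nil) (.node [(119, 1, 1, 1)] .nil .nil))) (.node [] (.node [] .nil (.node [] .nil (.node [(238, 1, 1, 1)] .nil .nil))) .nil)))) (.node [] (.node [] (.node [] (.node [] (.node [] (.node [] .nil (.node [(193, 1, 1, 1)] .nil .nil)) (.node [] (.node [(161, 1, 1, 1)] .nil .nil) .nil)) (.node [] (.node [] (.node [(145, 1, 1, 1)] .nil .nil) (.node [(209, 1, 1, 1)] .nil .nil)) .nil)) (.node [] (.node [(41, (-1), 1, 1)] (.node [(73, (-1), 1, 1)] .nil .nil) .nil) (.node [(57, (-1), 1, 1)] .nil (.node [(122, (-1), 1, 1)] .nil .nil)))) (.node [] (.node [] (.node [] (.node [] (.node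 [(133, 1, 1, 1)] .nil .nil) .nil) (.node [(101, (-1), 1, 1)] .nil .nil)) .nil) (.node [] (.node [(45, (-1), 1, 1)] (.node [] .nil (.node [(205, 1, 1, 1)] .nil .nil)) .nil) (.node [(61, (-1), 1, 1)] (.node [] (.node [(157, 1, 1, 1)] .nil .nil) (.node [(221, 1, 1, 1)] .nil .nil)) (.node [] (.node [(189, 1, 1, 1)] .nil .nil) .nil))))) (.node [] (.node [] (.node [(19, (-1), 1, 1)] (.node [(35, (-1), 1, 1)] (.node [] .nil (.node [(195, 1, 1, 1)] .nil .nil)) .nil) (.node [(51, (-1), 1, 1)] (.node [(83, (-1), 1, 1)] .nil .nil) (.node [] (.node [(179, 1, 1, 1)] .nil .nil) .nil))) (.node [] (.node [] (.node [] (.node [(139, 1, 1, 1)] .nil .nil) .nil) (.node [(107, (-1), 1, 1)] .nil .nil)) .nil)) (.node [] (.node [] (.node [] (.node [] .nil (.node [(199, 1, 1, 1)] .nil .nil)) (.node [] (.node [(167, 1, 1, 1)] .nil .nil) .nil)) (.node [] .nil (.node [] (.node [(183, 1, 1, 1)] .nil .nil) .nil))) (.node [(31, (-1), 1, 1)] (.node [(47, (-1), 1, 1)]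 (.node [(79, (-1), 1, 1)] .nil .nil) .nil) (.node [] (.node [(95, (-1), 1, 1)] .nil .nil) .nil))))))
def C121 : List (ℕ × List (ℕ × ℤ)) := [(1, [(2, (-1))]), (11, [(12, (-1))]), (18, [(19, (-1))]), (23, [(24, (-1))]), (27, [(28, (-1))]), (30, [(31, (-1))]), (34, [(35, (-1))]), (37, [(38, (-1))]), (40, [(41, (-1))]), (44, [(45, (-1))]), (46, [(47, (-1))]), (50, [(51, (-1))]), (53, [(54, (-1))]), (56, [(57, (-1))]), (60, [(61, (-1))]), (63, [(64, (-1))]), (67, [(68, (-1))]), (72, [(73, (-1))]), (78, [(79, (-1))]), (82, [(83, (-1))]), (85, [(86, (-1))]), (89, [(90, (-1))]), (94, [(95, (-1))]), (100, [(101, (-1))]), (106, [(107, (-1))]), (111, [(112, (-1))]), (115, [(116, (-1))]), (117, [(119, 1)]), (120, [(122, (-1))]), (123, [(124, 1)]), (127, [(128, 1)]), (132, [(133, 1)]), (138, [(139, 1)]), (144, [(145, 1)]), (149, [(150, 1)]), (153, [(154, 1)]), (156, [(157, 1)]), (160, [(161, 1)]), (166, [(167, 1)]), (171, [(172, 1)]), (175, [(176,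 1)]), (178, [(179, 1)]), (182, [(183, 1)]), (185, [(186, 1)]), (188, [(189, 1)]), (192, [(193, 1)]), (194, [(195, 1)]), (198, [(199, 1)]), (201, [(202, 1)]), (204, [(205, 1)]), (208, [(209, 1)]), (211, [(212, 1)]), (215, [(216, 1)]), (220, [(221, 1)]), (227, [(228, 1)]), (237, [(238, 1)])]
def M122 : Tr (List (ℕ × ℤ × ℕ × ℕ)) := (.node [(2, (-1), 1, 1)] (.node [] (.node [] (.node [] (.node [] (.node [] (.node [] (.node [(129, 1, 1, 1)] .nil .nil) (.node [(193, (-1), 1, 1)] .nil .nil)) (.node [] (.node [(161, (-1), 1, 1)] .nil .nil) .nil)) (.node [] (.node [] .nil (.node [(209, (-1), 1, 1)] .nil .nil)) (.node [] (.node [(177, 1, 1, 1)] .nil .nil) .nil))) (.node [(25, 1, 1, 1)] (.node [] (.node [(73, (-1), 1, 1)] .nil .nil) .nil) (.node [] .nil (.node [(121, (-1), 1, 1)] .nil .nil)))) (.node [(13, 1, 1, 1)] (.node [] (.node [] .nil (.node [(101, (-1), 1, 1)] .nil .nil)) .nil) (.node [(29, 1, 1, 1)] (.node [(45, (-1), 1, 1)] .nil (.node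 [] (.node [(173, 1, 1, 1)] .nil .nil) .nil)) (.node [(61, (-1), 1, 1)] (.node [] .nil (.node [(221, (-1), 1, 1)] .nil .nil)) (.node [(125, 1, 1, 1)] .nil .nil))))) (.node [] (.node [] (.node [] (.node [(35, (-1), 1, 1)] .nil .nil) (.node [(51, (-1), 1, 1)] (.node [(83, (-1), 1, 1)] .nil .nil) .nil)) (.node [] (.node [] .nil (.node [(107, (-1), 1, 1)] .nil .nil)) (.node [] (.node [] (.node [(155, 1, 1, 1)] .nil .nil) .nil) (.node [] (.node [(187, 1, 1, 1)] .nil .nil) .nil)))) (.node [] (.node [] (.node [(39, 1, 1, 1)] (.node [] .nil (.node [(199, (-1), 1, 1)] .nil .nil)) .nil) (.node [] (.node [] (.node [(151, 1, 1, 1)] .nil .nil) .nil) (.node [] (.node [(183, (-1), 1, 1)] .nil .nil) .nil))) (.node [] (.node [] .nil (.node [] .nil (.node [(239, 1, 1, 1)] .nil .nil))) (.node [] (.node [(95, (-1), 1, 1)] .nil .nil) .nil))))) (.node [] (.node [] (.node [] (.node [] .nil (.node [] (.node [] (.node [(146, 1, 1, 1)] .nil .nil) .nil) .nil)) (.node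 [] (.node [(42, 1, 1, 1)] (.node [] .nil (.node [(202, (-1), 1, 1)] .nil .nil)) .nil) (.node [(58, 1, 1, 1)] (.node [(90, (-1), 1, 1)] .nil .nil) .nil))) (.node [] (.node [] (.node [] (.node [] (.node [(134, 1, 1, 1)] .nil .nil) .nil) .nil) (.node [(54, (-1), 1, 1)] (.node [(86, (-1), 1, 1)] .nil .nil) .nil)) (.node [] (.node [] (.node [] .nil (.node [(206, 1, 1, 1)] .nil .nil)) .nil) (.node [] (.node [] (.node [(158, 1, 1, 1)] .nil .nil) .nil) (.node [] (.node [(190, 1, 1, 1)] .nil .nil) .nil))))) (.node [] (.node [] (.node [(20, 1, 1, 1)] (.node [] (.node [(68, (-1), 1, 1)] .nil (.node [(196, 1, 1, 1)] .nil .nil)) (.node [] .nil (.node [(228, (-1), 1, 1)] .nil .nil))) (.node [] (.node [] .nil (.node [(212, (-1), 1, 1)] .nil .nil)) (.node [(116, (-1), 1, 1)] (.node [(180, 1, 1, 1)] .nil .nil) .nil))) (.node [] (.node [] (.node [] (.node [(140, 1, 1, 1)] .nil .nil) .nil) .nil) .nil)) (.node [] (.node [] (.node [] .nil (.node [] (.node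 [(168, 1, 1, 1)] .nil .nil) .nil)) (.node [] (.node [] .nil (.node [(216, (-1), 1, 1)] .nil .nil)) (.node [(120, 1, 1, 1)] .nil .nil))) (.node [(32, 1, 1, 1)] (.node [(48, 1, 1, 1)] (.node [(80, 1, 1, 1)] .nil .nil) (.node [(112, (-1), 1, 1)] .nil .nil)) (.node [(64, (-1), 1, 1)] .nil .nil))))))
def C122 : List (ℕ × List (ℕ × ℤ)) := [(0, [(2, (-1))]), (11, [(13, 1)]), (18, [(20, 1)]), (23, [(25, 1)]), (27, [(29, 1)]), (30, [(32, 1)]), (33, [(35, (-1))]), (37, [(39, 1)]), (40, [(42, 1)]), (43, [(45, (-1))]), (46, [(48, 1)]), (49, [(51, (-1))]), (52, [(54, (-1))]), (56, [(58, 1)]), (59, [(61, (-1))]), (62, [(64, (-1))]), (66, [(68, (-1))]), (71, [(73, (-1))]), (78, [(80, 1)]), (81, [(83, (-1))]), (84, [(86, (-1))]), (88, [(90, (-1))]), (93, [(95, (-1))]), (99, [(101, (-1))]), (105, [(107, (-1))]), (110, [(112, (-1))]), (114, [(116, (-1))]), (118, [(120, 1)]), (119, [(121, (-1))]), (123, [(125, 1)]), (127, [(129, 1)]), (132, [(134, 1)]),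 (138, [(140, 1)]), (144, [(146, 1)]), (149, [(151, 1)]), (153, [(155, 1)]), (156, [(158, 1)]), (159, [(161, (-1))]), (166, [(168, 1)]), (171, [(173, 1)]), (175, [(177, 1)]), (178, [(180, 1)]), (181, [(183, (-1))]), (185, [(187, 1)]), (188, [(190, 1)]), (191, [(193, (-1))]), (194, [(196, 1)]), (197, [(199, (-1))]), (200, [(202, (-1))]), (204, [(206, 1)]), (207, [(209, (-1))]), (210, [(212, (-1))]), (214, [(216, (-1))]), (219, [(221, (-1))]), (226, [(228, (-1))]), (237, [(239, 1)])]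
def M123 : Tr (List (ℕ × ℤ × ℕ × ℕ)) := (.node [] (.node [] (.node [] (.node [] (.node [] (.node [(33, (-1), 1, 1)] .nil (.node [(96, (-1), 1, 1)] .nil .nil)) (.node [(49, (-1), 1, 1)] (.node [(81, (-1), 1, 1)] (.node [(144, 1, 1, 1)] .nil .nil) .nil) .nil)) .nil) (.node [] (.node [] (.node [] (.node [] (.node [(132, 1, 1, 1)] .nil .nil) (.node [(197, 1, 1, 1)] .nil .nil)) .nil) (.node [] .nil (.node [(118, 1, 1, 1)] (.node [(181, 1, 1, 1)] .nil .nil) .nil))) (.node [] (.node [] .nil (.node [(108, (-1), 1, 1)] .nil .nil)) .nil))) (.node [] (.node [] (.node [(18, (-1), 1, 1)] .nil .nil) (.node [] (.node [(43, (-1), 1, 1)] (.node [(74, (-1), 1, 1)] (.node [(138, 1, 1, 1)] .nil .nil) .nil) .nil) (.node [(59, (-1), 1, 1)] .nil (.node [(124, (-1), 1, 1)] .nil .nil)))) (.node [] (.node [] (.node [] .nil (.node [(102, (-1), 1, 1)] (.node [(166, 1, 1, 1)] .nil .nil) .nil)) .nil) (.node [] (.node [] (.node [] .nil (.node [(207, 1, 1, 1)] .nil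 .nil)) .nil) (.node [] (.node [] (.node [(159, 1, 1, 1)] .nil .nil) (.node [(222, 1, 1, 1)] .nil .nil)) (.node [] (.node [(191, 1, 1, 1)] .nil .nil) .nil)))))) (.node [(3, (-1), 1, 1)] (.node [] (.node [] (.node [] (.node [(34, (-1), 1, 1)] (.node [(65, (-1), 1, 1)] .nil .nil) .nil) (.node [(50, (-1), 1, 1)] (.node [(82, (-1), 1, 1)] .nil .nil) (.node [(113, (-1), 1, 1)] .nil .nil))) (.node [] .nil (.node [] (.node [] (.node [(153, 1, 1, 1)] .nil .nil) (.node [(217, 1, 1, 1)] .nil .nil)) (.node [] (.node [(185, 1, 1, 1)] .nil .nil) .nil)))) (.node [] (.node [] (.node [(37, (-1), 1, 1)] (.node [(69, (-1), 1, 1)] .nil (.node [(198, 1, 1, 1)] .nil .nil)) (.node [] .nil (.node [(229, 1, 1, 1)] .nil .nil))) (.node [] (.node [] (.node [(149, 1, 1, 1)] .nil .nil) (.node [(213, 1, 1, 1)] .nil .nil)) (.node [] (.node [(182, 1, 1, 1)] .nil .nil) .nil))) (.node [] (.node [] .nil (.node [] .nil (.node [(237, 1, 1, 1)] .nil .nil))) .nil))) (.node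 [] (.node [(11, (-1), 1, 1)] (.node [] .nil (.node [] .nil (.node [(117, 1, 1, 1)] .nil .nil))) (.node [(27, (-1), 1, 1)] (.node [(44, (-1), 1, 1)] (.node [] .nil (.node [(203, 1, 1, 1)] .nil .nil)) (.node [] (.node [(171, 1, 1, 1)] .nil .nil) .nil)) (.node [(60, (-1), 1, 1)] (.node [(91, (-1), 1, 1)] .nil .nil) (.node [(125, (-1), 1, 1)] .nil .nil)))) (.node [] (.node [(23, (-1), 1, 1)] .nil (.node [(55, (-1), 1, 1)] (.node [(87, (-1), 1, 1)] .nil .nil) .nil)) (.node [] (.node [] (.node [] .nil (.node [(208, 1, 1, 1)] .nil .nil)) (.node [] (.node [(175, 1, 1, 1)] .nil .nil) .nil)) (.node [] (.node [] (.node [(160, 1, 1, 1)] .nil .nil) .nil) (.node [(127, 1, 1, 1)] (.node [(192, 1, 1, 1)] .nil .nil) .nil)))))))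
def C123 : List (ℕ × List (ℕ × ℤ)) := [(2, [(3, (-1))]), (10, [(11, (-1))]), (17, [(18, (-1))]), (22, [(23, (-1))]), (26, [(27, (-1))]), (31, [(33, (-1))]), (32, [(34, (-1))]), (36, [(37, (-1))]), (41, [(43, (-1))]), (42, [(44, (-1))]), (47, [(49, (-1))]), (48, [(50, (-1))]), (54, [(55, (-1))]), (57, [(59, (-1))]), (58, [(60, (-1))]), (64, [(65, (-1))]), (68, [(69, (-1))]), (73, [(74, (-1))]), (79, [(81, (-1))]), (80, [(82, (-1))]), (86, [(87, (-1))]), (90, [(91, (-1))]), (95, [(96, (-1))]), (101, [(102, (-1))]), (107, [(108, (-1))]), (112, [(113, (-1))]), (114, [(117, 1)]), (115, [(118, 1)]), (121, [(124, (-1))]), (122, [(125, (-1))]), (126, [(127, 1)]), (131, [(132, 1)]), (137, [(138, 1)]), (143, [(144, 1)]), (148, [(149, 1)]), (152, [(153, 1)]), (157, [(159, 1)]), (158, [(160, 1)]), (165, [(166, 1)]), (170, [(171, 1)]), (174, [(175, 1)]), (179, [(181, 1)]), (180, [(182, 1)]), (184, [(185, 1)]), (189, [(191, 1)]), (190, [(192, 1)]),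 (195, [(197, 1)]), (196, [(198, 1)]), (202, [(203, 1)]), (205, [(207, 1)]), (206, [(208, 1)]), (212, [(213, 1)]), (216, [(217, 1)]), (221, [(222, 1)]), (228, [(229, 1)]), (236, [(237, 1)])]
def M124 : Tr (List (ℕ × ℤ × ℕ × ℕ)) := (.node [] (.node [(3, (-1), 1, 1)] (.node [] (.node [] (.node [] (.node [] (.node [(65, (-1), 1, 1)] .nil .nil) .nil) (.node [] (.node [] (.node [(145, 1, 1, 1)] .nil .nil) .nil) (.node [(113, (-1), 1, 1)] .nil .nil))) (.node [] .nil (.node [] (.node [] .nil (.node [(217, (-1), 1, 1)] .nil .nil)) .nil))) (.node [] (.node [] (.node [] (.node [(69, (-1), 1, 1)] (.node [(133, 1, 1, 1)] .nil .nil) .nil) (.node [] .nil (.node [(229, (-1), 1, 1)] .nil .nil))) (.node [] (.node [] .nil (.node [(213, (-1), 1, 1)] .nil .nil)) .nil)) .nil)) (.node [] (.node [] (.node [(19, 1, 1, 1)] .nil .nil) (.node [] (.node [] (.node [] (.node [(139, 1, 1, 1)] .nil .nil) (.node [(203, (-1), 1, 1)] .nil .nil)) .nil) (.node [] (.node [(91,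 (-1), 1, 1)] .nil .nil) .nil))) (.node [] (.node [] (.node [] .nil (.node [] (.node [(167, 1, 1, 1)] .nil .nil) .nil)) (.node [(55, (-1), 1, 1)] (.node [(87, (-1), 1, 1)] .nil .nil) .nil)) .nil))) (.node [] (.node [] (.node [] (.node [] (.node [(35, 1, 1, 1)] .nil .nil) (.node [(51, 1, 1, 1)] (.node [(83, 1, 1, 1)] .nil .nil) .nil)) (.node [] (.node [(43, (-1), 1, 1)] (.node [(74, (-1), 1, 1)] .nil .nil) .nil) (.node [(59, (-1), 1, 1)] (.node [] (.node [(154, 1, 1, 1)] .nil .nil) .nil) (.node [(125, (-1), 1, 1)] (.node [(186, 1, 1, 1)] .nil .nil) .nil)))) (.node [] (.node [] (.node [(38, 1, 1, 1)] (.node [] .nil (.node [(199, 1, 1, 1)] .nil .nil)) (.node [(102, (-1), 1, 1)] .nil .nil)) (.node [] (.node [] (.node [(150, 1, 1, 1)] .nil .nil) .nil) (.node [(121, 1, 1, 1)] (.node [(183, 1, 1, 1)] .nil .nil) .nil))) (.node [] (.node [] (.node [] .nil (.node [(207, (-1), 1, 1)] .nil .nil)) (.node [] .nil (.node [(238, 1, 1, 1)] .nil .nil)))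 (.node [] (.node [] (.node [(159, (-1), 1, 1)] .nil .nil) (.node [(222, (-1), 1, 1)] .nil .nil)) (.node [] (.node [(191, (-1), 1, 1)] .nil .nil) .nil))))) (.node [] (.node [(12, 1, 1, 1)] (.node [] (.node [] (.node [] .nil (.node [(197, (-1), 1, 1)] .nil .nil)) .nil) (.node [] .nil (.node [(119, 1, 1, 1)] (.node [(181, (-1), 1, 1)] .nil .nil) .nil))) (.node [(28, 1, 1, 1)] (.node [(45, 1, 1, 1)] .nil (.node [(108, (-1), 1, 1)] (.node [(172, 1, 1, 1)] .nil .nil) .nil)) (.node [(61, 1, 1, 1)] .nil .nil))) (.node [] (.node [(24, 1, 1, 1)] .nil (.node [] .nil (.node [(123, (-1), 1, 1)] .nil .nil))) (.node [(33, (-1), 1, 1)] (.node [(49, (-1), 1, 1)] (.node [(81, (-1), 1, 1)] .nil (.node [(209, 1, 1, 1)] .nil .nil)) (.node [] (.node [(176, 1, 1, 1)] .nil .nil) .nil)) (.node [] (.node [(96, (-1), 1, 1)] (.node [(161, 1, 1, 1)] .nil .nil) .nil) (.node [(128, 1, 1, 1)] (.node [(193, 1, 1, 1)] .nil .nil) .nil)))))))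
def C124 : List (ℕ × List (ℕ × ℤ)) := [(1, [(3, (-1))]), (10, [(12, 1)]), (17, [(19, 1)]), (22, [(24, 1)]), (26, [(28, 1)]), (30, [(33, (-1))]), (32, [(35, 1)]), (36, [(38, 1)]), (40, [(43, (-1))]), (42, [(45, 1)]), (46, [(49, (-1))]), (48, [(51, 1)]), (53, [(55, (-1))]), (56, [(59, (-1))]), (58, [(61, 1)]), (63, [(65, (-1))]), (67, [(69, (-1))]), (72, [(74, (-1))]), (78, [(81, (-1))]), (80, [(83, 1)]), (85, [(87, (-1))]), (89, [(91, (-1))]), (94, [(96, (-1))]), (100, [(102, (-1))]), (106, [(108, (-1))]), (111, [(113, (-1))]), (114, [(119, 1)]), (116, [(121, 1)]), (118, [(123, (-1))]), (120, [(125, (-1))]), (126, [(128, 1)]), (131, [(133, 1)]), (137, [(139, 1)]), (143, [(145, 1)]), (148, [(150, 1)]), (152, [(154, 1)]), (156, [(159, (-1))]), (158, [(161, 1)]), (165, [(167, 1)]), (170, [(172, 1)]), (174, [(176, 1)]), (178, [(181, (-1))]), (180, [(183, 1)]), (184, [(186, 1)]), (188, [(191, (-1))]), (190, [(193, 1)]), (194, [(197, (-1))]),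 (196, [(199, 1)]), (201, [(203, (-1))]), (204, [(207, (-1))]), (206, [(209, 1)]), (211, [(213, (-1))]), (215, [(217, (-1))]), (220, [(222, (-1))]), (227, [(229, (-1))]), (236, [(238, 1)])]
def M125 : Tr (List (ℕ × ℤ × ℕ × ℕ)) := (.node [(3, (-1), 1, 1)] (.node [] (.node [] (.node [] (.node [] (.node [(35, 1, 1, 1)] .nil .nil) (.node [(51, 1, 1, 1)] (.node [(83, 1, 1, 1)] (.node [(146, 1, 1, 1)] .nil .nil) .nil) .nil)) (.node [] (.node [] (.node [(74, (-1), 1, 1)] .nil .nil) .nil) (.node [] .nil (.node [(124, (-1), 1, 1)] .nil .nil)))) (.node [] (.node [] (.node [] (.node [] (.node [(134, 1, 1, 1)] .nil .nil) (.node [(199, (-1), 1, 1)] .nil .nil)) (.node [(102, (-1), 1, 1)] .nil .nil)) (.node [] .nil (.node [(120, 1, 1, 1)] (.node [(183, (-1), 1, 1)] .nil .nil) .nil))) (.node [] .nil (.node [] (.node [] .nil (.node [(222, 1, 1, 1)] .nil .nil)) .nil)))) (.node [] (.node [] (.node [(20, (-1), 1, 1)] .nil .nil) (.node [] (.node [(45, 1, 1,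 1)] (.node [] (.node [(140, 1, 1, 1)] .nil .nil) .nil) (.node [(108, (-1), 1, 1)] .nil .nil)) (.node [(61, 1, 1, 1)] .nil .nil))) (.node [] (.node [] (.node [] .nil (.node [] (.node [(168, 1, 1, 1)] .nil .nil) .nil)) (.node [] .nil (.node [(123, (-1), 1, 1)] .nil .nil))) (.node [] (.node [] (.node [] .nil (.node [(209, (-1), 1, 1)] .nil .nil)) .nil) (.node [] (.node [(96, (-1), 1, 1)] (.node [(161, (-1), 1, 1)] .nil .nil) .nil) (.node [] (.node [(193, (-1), 1, 1)] .nil .nil) .nil)))))) (.node [] (.node [] (.node [] .nil (.node [] (.node [(44, 1, 1, 1)] (.node [] .nil (.node [(203, 1, 1, 1)] .nil .nil)) .nil) (.node [(60, 1, 1, 1)] (.node [(91, (-1), 1, 1)] (.node [(155, 1, 1, 1)] .nil .nil) .nil) (.node [] (.node [(187, 1, 1, 1)] .nil .nil) .nil)))) (.node [] (.node [] (.node [(39, (-1), 1, 1)] .nil .nil) (.node [(55, (-1), 1, 1)] (.node [(87, (-1), 1, 1)] (.node [(151, 1, 1, 1)] .nil .nil) .nil) (.node [(122, 1, 1, 1)] .nil .nil))) (.node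 [] (.node [] (.node [] .nil (.node [(208, (-1), 1, 1)] .nil .nil)) (.node [] .nil (.node [(239, 1, 1, 1)] .nil .nil))) (.node [] (.node [] (.node [(160, (-1), 1, 1)] .nil .nil) .nil) (.node [] (.node [(192, (-1), 1, 1)] .nil .nil) .nil))))) (.node [] (.node [(13, (-1), 1, 1)] (.node [] (.node [] (.node [(69, (-1), 1, 1)] .nil (.node [(198, (-1), 1, 1)] .nil .nil)) (.node [] .nil (.node [(229, 1, 1, 1)] .nil .nil))) (.node [] (.node [] .nil (.node [(213, 1, 1, 1)] .nil .nil)) (.node [] (.node [(182, (-1), 1, 1)] .nil .nil) .nil))) (.node [(29, (-1), 1, 1)] (.node [] .nil (.node [] (.node [(173, 1, 1, 1)] .nil .nil) .nil)) .nil)) (.node [] (.node [(25, (-1), 1, 1)] .nil (.node [] (.node [] .nil (.node [(217, 1, 1, 1)] .nil .nil)) .nil)) (.node [(34, 1, 1, 1)] (.node [(50, 1, 1, 1)] (.node [(82, 1, 1, 1)] .nil .nil) (.node [(113, (-1), 1, 1)] (.node [(177, 1, 1, 1)] .nil .nil) .nil)) (.node [(65, (-1), 1, 1)] .nil (.node [(129, 1, 1, 1)]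 .nil .nil)))))))
def C125 : List (ℕ × List (ℕ × ℤ)) := [(0, [(3, (-1))]), (10, [(13, (-1))]), (17, [(20, (-1))]), (22, [(25, (-1))]), (26, [(29, (-1))]), (30, [(34, 1)]), (31, [(35, 1)]), (36, [(39, (-1))]), (40, [(44, 1)]), (41, [(45, 1)]), (46, [(50, 1)]), (47, [(51, 1)]), (52, [(55, (-1))]), (56, [(60, 1)]), (57, [(61, 1)]), (62, [(65, (-1))]), (66, [(69, (-1))]), (71, [(74, (-1))]), (78, [(82, 1)]), (79, [(83, 1)]), (84, [(87, (-1))]), (88, [(91, (-1))]), (93, [(96, (-1))]), (99, [(102, (-1))]), (105, [(108, (-1))]), (110, [(113, (-1))]), (115, [(120, 1)]), (116, [(122, 1)]), (117, [(123, (-1))]), (119, [(124, (-1))]), (126, [(129, 1)]), (131, [(134, 1)]), (137, [(140, 1)]), (143, [(146, 1)]), (148, [(151, 1)]), (152, [(155, 1)]), (156, [(160, (-1))]), (157, [(161, (-1))]), (165, [(168, 1)]), (170, [(173, 1)]), (174, [(177, 1)]), (178, [(182, (-1))]), (179, [(183, (-1))]), (184, [(187, 1)]), (188, [(192, (-1))]), (189, [(193, (-1))]),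 (194, [(198, (-1))]), (195, [(199, (-1))]), (200, [(203, 1)]), (204, [(208, (-1))]), (205, [(209, (-1))]), (210, [(213, 1)]), (214, [(217, 1)]), (219, [(222, 1)]), (226, [(229, 1)]), (236, [(239, 1)])]
def M126 : Tr (List (ℕ × ℤ × ℕ × ℕ)) := (.node [] (.node [] (.node [(4, (-1), 1, 1)] (.node [] (.node [] .nil (.node [] (.node [] .nil (.node [(210, 1, 1, 1)] .nil .nil)) (.node [(115, 1, 1, 1)] (.node [(178, 1, 1, 1)] .nil .nil) .nil))) (.node [] (.node [(42, (-1), 1, 1)] (.node [] .nil (.node [(202, 1, 1, 1)] .nil .nil)) .nil) .nil)) (.node [] (.node [] .nil (.node [(54, (-1), 1, 1)] (.node [(86, (-1), 1, 1)] (.node [(148, 1, 1, 1)] .nil .nil) .nil) .nil)) (.node [(30, (-1), 1, 1)] (.node [] .nil (.node [] .nil (.node [(236, 1, 1, 1)] .nil .nil))) (.node [(62, (-1), 1, 1)] (.node [(92, (-1), 1, 1)] (.node [(158, 1, 1, 1)] .nil .nil) .nil) (.node [(127, (-1), 1, 1)] (.node [(190, 1, 1, 1)] .nil .nil) .nil))))) (.node [] (.node [(10, (-1),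 1, 1)] (.node [] .nil (.node [(52, (-1), 1, 1)] (.node [(84, (-1), 1, 1)] .nil (.node [(212, 1, 1, 1)] .nil .nil)) (.node [] (.node [(180, 1, 1, 1)] .nil .nil) .nil))) (.node [] (.node [] .nil (.node [] (.node [(170, 1, 1, 1)] .nil .nil) .nil)) (.node [] (.node [] (.node [(156, 1, 1, 1)] .nil .nil) (.node [(218, 1, 1, 1)] .nil .nil)) (.node [] (.node [(188, 1, 1, 1)] .nil .nil) .nil)))) (.node [] (.node [(22, (-1), 1, 1)] (.node [(40, (-1), 1, 1)] (.node [(70, (-1), 1, 1)] .nil (.node [(200, 1, 1, 1)] .nil .nil)) (.node [] .nil (.node [(230, 1, 1, 1)] .nil .nil))) .nil) (.node [(32, (-1), 1, 1)] .nil (.node [(64, (-1), 1, 1)] .nil (.node [(129, (-1), 1, 1)] .nil .nil)))))) (.node [] (.node [] (.node [] (.node [(17, (-1), 1, 1)] (.node [] .nil (.node [(97, (-1), 1, 1)] .nil .nil)) (.node [] (.node [] .nil (.node [(211, 1, 1, 1)] .nil .nil)) (.node [(116, 1, 1, 1)] (.node [(179, 1, 1, 1)] .nil .nil) .nil))) (.node [] (.node [] (.node []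 (.node [(137, 1, 1, 1)] .nil .nil) .nil) .nil) .nil)) (.node [] (.node [] (.node [] .nil (.node [] (.node [(165, 1, 1, 1)] .nil .nil) .nil)) .nil) (.node [(31, (-1), 1, 1)] (.node [] .nil (.node [(109, (-1), 1, 1)] .nil .nil)) (.node [(63, (-1), 1, 1)] .nil (.node [(128, (-1), 1, 1)] .nil .nil))))) (.node [] (.node [] (.node [] (.node [] (.node [] (.node [(131, 1, 1, 1)] .nil .nil) .nil) .nil) (.node [(53, (-1), 1, 1)] (.node [(85, (-1), 1, 1)] .nil .nil) .nil)) (.node [] (.node [] (.node [(75, (-1), 1, 1)] .nil .nil) .nil) (.node [] (.node [] (.node [(157, 1, 1, 1)] .nil .nil) .nil) (.node [] (.node [(189, 1, 1, 1)] .nil .nil) .nil)))) (.node [] (.node [] (.node [(41, (-1), 1, 1)] (.node [] .nil (.node [(201, 1, 1, 1)] .nil .nil)) (.node [(103, (-1), 1, 1)] .nil .nil)) .nil) (.node [] (.node [] (.node [] (.node [(143, 1, 1, 1)] .nil .nil) .nil) (.node [(114, 1, 1, 1)] .nil .nil)) (.node [] (.node [] .nil (.node [(223, 1, 1, 1)] .nil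 .nil)) .nil))))))
def C126 : List (ℕ × List (ℕ × ℤ)) := [(3, [(4, (-1))]), (9, [(10, (-1))]), (16, [(17, (-1))]), (21, [(22, (-1))]), (27, [(30, (-1))]), (28, [(31, (-1))]), (29, [(32, (-1))]), (37, [(40, (-1))]), (38, [(41, (-1))]), (39, [(42, (-1))]), (49, [(52, (-1))]), (50, [(53, (-1))]), (51, [(54, (-1))]), (59, [(62, (-1))]), (60, [(63, (-1))]), (61, [(64, (-1))]), (69, [(70, (-1))]), (74, [(75, (-1))]), (81, [(84, (-1))]), (82, [(85, (-1))]), (83, [(86, (-1))]), (91, [(92, (-1))]), (96, [(97, (-1))]), (102, [(103, (-1))]), (108, [(109, (-1))]), (110, [(114, 1)]), (111, [(115, 1)]), (112, [(116, 1)]), (123, [(127, (-1))]), (124, [(128, (-1))]), (125, [(129, (-1))]), (130, [(131, 1)]), (136, [(137, 1)]), (142, [(143, 1)]), (147, [(148, 1)]), (153, [(156, 1)]), (154, [(157, 1)]), (155, [(158, 1)]), (164, [(165, 1)]), (169, [(170, 1)]), (175, [(178, 1)]), (176, [(179, 1)]), (177, [(180, 1)]), (185, [(188, 1)]), (186, [(189, 1)]), (187,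 [(190, 1)]), (197, [(200, 1)]), (198, [(201, 1)]), (199, [(202, 1)]), (207, [(210, 1)]), (208, [(211, 1)]), (209, [(212, 1)]), (217, [(218, 1)]), (222, [(223, 1)]), (229, [(230, 1)]), (235, [(236, 1)])]
def M127 : Tr (List (ℕ × ℤ × ℕ × ℕ)) := (.node [] (.node [] (.node [] (.node [] (.node [] (.node [] .nil (.node [(97, (-1), 1, 1)] .nil .nil)) (.node [(52, (-1), 1, 1)] (.node [(84, (-1), 1, 1)] .nil .nil) (.node [(118, 1, 1, 1)] .nil .nil))) (.node [] (.node [(44, 1, 1, 1)] (.node [] .nil (.node [(203, 1, 1, 1)] .nil .nil)) .nil) .nil)) (.node [] (.node [] (.node [] (.node [] .nil (.node [(200, (-1), 1, 1)] .nil .nil)) .nil) (.node [(55, 1, 1, 1)] (.node [(87, 1, 1, 1)] (.node [(149, 1, 1, 1)] .nil .nil) .nil) .nil)) (.node [] (.node [] .nil (.node [(109, (-1), 1, 1)] .nil (.node [(237, 1, 1, 1)] .nil .nil))) (.node [] (.node [] (.node [(160, 1, 1, 1)] .nil .nil) .nil) (.node [] (.node [(192, 1, 1, 1)] .nil .nil) .nil))))) (.node [] (.node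 [(11, 1, 1, 1)] (.node [] .nil (.node [] (.node [] .nil (.node [(213, 1, 1, 1)] .nil .nil)) (.node [(123, 1, 1, 1)] (.node [(182, 1, 1, 1)] .nil .nil) .nil))) (.node [] (.node [] (.node [(75, (-1), 1, 1)] .nil .nil) (.node [] (.node [(171, 1, 1, 1)] .nil .nil) .nil)) (.node [(62, (-1), 1, 1)] .nil (.node [(128, (-1), 1, 1)] .nil .nil)))) (.node [] (.node [(23, 1, 1, 1)] (.node [] .nil (.node [(103, (-1), 1, 1)] .nil .nil)) .nil) (.node [(34, 1, 1, 1)] (.node [] (.node [] .nil (.node [(210, (-1), 1, 1)] .nil .nil)) .nil) (.node [(65, 1, 1, 1)] (.node [] .nil (.node [(223, (-1), 1, 1)] .nil .nil)) .nil))))) (.node [(4, (-1), 1, 1)] (.node [] (.node [] (.node [(18, 1, 1, 1)] .nil (.node [(53, (-1), 1, 1)] (.node [(85, (-1), 1, 1)] .nil .nil) (.node [] (.node [(181, 1, 1, 1)] .nil .nil) .nil))) (.node [] (.node [] (.node [] (.node [(138, 1, 1, 1)] .nil .nil) .nil) .nil) (.node [] (.node [] (.node [(156, (-1), 1, 1)] .nil .nil) (.node [(218,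 (-1), 1, 1)] .nil .nil)) (.node [] (.node [(188, (-1), 1, 1)] .nil .nil) .nil)))) (.node [] (.node [] (.node [(40, (-1), 1, 1)] (.node [(70, (-1), 1, 1)] .nil (.node [(201, (-1), 1, 1)] .nil .nil)) (.node [] (.node [(166, 1, 1, 1)] .nil .nil) (.node [(230, (-1), 1, 1)] .nil .nil))) (.node [] .nil (.node [(126, (-1), 1, 1)] .nil .nil))) (.node [(33, 1, 1, 1)] .nil .nil))) (.node [] (.node [] (.node [] (.node [] (.node [] (.node [(132, 1, 1, 1)] .nil .nil) .nil) .nil) .nil) (.node [(30, (-1), 1, 1)] .nil (.node [(63, (-1), 1, 1)] (.node [(92, (-1), 1, 1)] (.node [(159, 1, 1, 1)] .nil .nil) .nil) (.node [(129, (-1), 1, 1)] (.node [(191, 1, 1, 1)] .nil .nil) .nil)))) (.node [] (.node [] (.node [(43, 1, 1, 1)] .nil .nil) .nil) (.node [] (.node [] (.node [] (.node [(144, 1, 1, 1)] .nil .nil) (.node [(211, (-1), 1, 1)] .nil .nil)) (.node [(117, 1, 1, 1)] (.node [(178, (-1), 1, 1)] .nil .nil) .nil)) .nil)))))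
def C127 : List (ℕ × List (ℕ × ℤ)) := [(2, [(4, (-1))]), (9, [(11, 1)]), (16, [(18, 1)]), (21, [(23, 1)]), (26, [(30, (-1))]), (28, [(33, 1)]), (29, [(34, 1)]), (36, [(40, (-1))]), (38, [(43, 1)]), (39, [(44, 1)]), (47, [(52, (-1))]), (48, [(53, (-1))]), (51, [(55, 1)]), (57, [(62, (-1))]), (58, [(63, (-1))]), (61, [(65, 1)]), (68, [(70, (-1))]), (73, [(75, (-1))]), (79, [(84, (-1))]), (80, [(85, (-1))]), (83, [(87, 1)]), (90, [(92, (-1))]), (95, [(97, (-1))]), (101, [(103, (-1))]), (107, [(109, (-1))]), (110, [(117, 1)]), (111, [(118, 1)]), (113, [(123, 1)]), (116, [(126, (-1))]), (121, [(128, (-1))]), (122, [(129, (-1))]), (130, [(132, 1)]), (136, [(138, 1)]), (142, [(144, 1)]), (147, [(149, 1)]), (152, [(156, (-1))]), (154, [(159, 1)]), (155, [(160, 1)]), (164, [(166, 1)]), (169, [(171, 1)]), (174, [(178, (-1))]), (176, [(181, 1)]), (177, [(182, 1)]), (184, [(188, (-1))]), (186, [(191, 1)]), (187, [(192, 1)]), (195, [(200, (-1))]),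 (196, [(201, (-1))]), (199, [(203, 1)]), (205, [(210, (-1))]), (206, [(211, (-1))]), (209, [(213, 1)]), (216, [(218, (-1))]), (221, [(223, (-1))]), (228, [(230, (-1))]), (235, [(237, 1)])]
def M128 : Tr (List (ℕ × ℤ × ℕ × ℕ)) := (.node [] (.node [(4, (-1), 1, 1)] (.node [] (.node [] (.node [] .nil (.node [] .nil (.node [] (.node [(181, (-1), 1, 1)] .nil .nil) .nil))) (.node [] (.node [(45, (-1), 1, 1)] .nil .nil) (.node [] (.node [] .nil (.node [(218, 1, 1, 1)] .nil .nil)) .nil))) (.node [] (.node [] (.node [] (.node [(70, (-1), 1, 1)] .nil .nil) (.node [] .nil (.node [(230, 1, 1, 1)] .nil .nil))) (.node [] (.node [] (.node [(150, 1, 1, 1)] .nil .nil) .nil) (.node [(126, (-1), 1, 1)] .nil .nil))) (.node [(33, 1, 1, 1)] (.node [] .nil (.node [] .nil (.node [(238, 1, 1, 1)] .nil .nil))) (.node [] (.node [] (.node [(161, 1, 1, 1)] .nil .nil) .nil) (.node [] (.node [(193, 1, 1, 1)] .nil .nil) .nil))))) (.node [] (.node [(12, (-1), 1, 1)]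 (.node [] .nil (.node [] .nil (.node [(124, 1, 1, 1)] (.node [(183, 1, 1, 1)] .nil .nil) .nil))) (.node [] (.node [] .nil (.node [] (.node [(172, 1, 1, 1)] .nil .nil) .nil)) (.node [] (.node [(92, (-1), 1, 1)] (.node [(159, (-1), 1, 1)] .nil .nil) .nil) (.node [] (.node [(191, (-1), 1, 1)] .nil .nil) .nil)))) (.node [] (.node [(24, (-1), 1, 1)] (.node [(43, 1, 1, 1)] .nil .nil) .nil) (.node [(35, (-1), 1, 1)] .nil .nil)))) (.node [] (.node [] (.node [] (.node [(19, (-1), 1, 1)] .nil (.node [(54, 1, 1, 1)] (.node [(86, 1, 1, 1)] .nil (.node [(213, (-1), 1, 1)] .nil .nil)) (.node [(121, 1, 1, 1)] .nil .nil))) (.node [] (.node [] (.node [(75, (-1), 1, 1)] (.node [(139, 1, 1, 1)] .nil .nil) .nil) .nil) (.node [(62, (-1), 1, 1)] (.node [] (.node [(157, (-1), 1, 1)] .nil .nil) .nil) (.node [(129, (-1), 1, 1)] (.node [(189, (-1), 1, 1)] .nil .nil) .nil)))) (.node [] (.node [] (.node [(41, 1, 1, 1)] (.node [] .nil (.node [(202, (-1), 1, 1)] .nil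 .nil)) (.node [(103, (-1), 1, 1)] (.node [(167, 1, 1, 1)] .nil .nil) .nil)) .nil) (.node [] (.node [] (.node [] .nil (.node [(210, 1, 1, 1)] .nil .nil)) .nil) (.node [(65, 1, 1, 1)] (.node [] .nil (.node [(223, 1, 1, 1)] .nil .nil)) .nil)))) (.node [] (.node [] (.node [] (.node [] (.node [] (.node [(133, 1, 1, 1)] .nil .nil) (.node [(200, 1, 1, 1)] .nil .nil)) .nil) (.node [(55, 1, 1, 1)] (.node [(87, 1, 1, 1)] .nil .nil) .nil)) (.node [(31, 1, 1, 1)] (.node [] .nil (.node [(109, (-1), 1, 1)] .nil .nil)) (.node [(64, 1, 1, 1)] .nil .nil))) (.node [] (.node [] (.node [] (.node [] .nil (.node [(203, (-1), 1, 1)] .nil .nil)) .nil) (.node [] .nil (.node [(127, (-1), 1, 1)] .nil .nil))) (.node [] (.node [(52, (-1), 1, 1)] (.node [(84, (-1), 1, 1)] (.node [(145, 1, 1, 1)] .nil .nil) (.node [(212, (-1), 1, 1)] .nil .nil)) (.node [(119, 1, 1, 1)] (.node [(179, (-1), 1, 1)] .nil .nil) .nil)) (.node [] (.node [(97, (-1), 1, 1)] .nil .nil) .nil))))))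
def C128 : List (ℕ × List (ℕ × ℤ)) := [(1, [(4, (-1))]), (9, [(12, (-1))]), (16, [(19, (-1))]), (21, [(24, (-1))]), (26, [(31, 1)]), (27, [(33, 1)]), (29, [(35, (-1))]), (36, [(41, 1)]), (37, [(43, 1)]), (39, [(45, (-1))]), (46, [(52, (-1))]), (48, [(54, 1)]), (50, [(55, 1)]), (56, [(62, (-1))]), (58, [(64, 1)]), (60, [(65, 1)]), (67, [(70, (-1))]), (72, [(75, (-1))]), (78, [(84, (-1))]), (80, [(86, 1)]), (82, [(87, 1)]), (89, [(92, (-1))]), (94, [(97, (-1))]), (100, [(103, (-1))]), (106, [(109, (-1))]), (110, [(119, 1)]), (112, [(121, 1)]), (113, [(124, 1)]), (115, [(126, (-1))]), (118, [(127, (-1))]), (120, [(129, (-1))]), (130, [(133, 1)]), (136, [(139, 1)]), (142, [(145, 1)]), (147, [(150, 1)]), (152, [(157, (-1))]), (153, [(159, (-1))]), (155, [(161, 1)]), (164, [(167, 1)]), (169, [(172, 1)]), (174, [(179, (-1))]), (175, [(181, (-1))]), (177, [(183, 1)]), (184, [(189, (-1))]), (185, [(191, (-1))]), (187, [(193, 1)]), (194, [(200,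 1)]), (196, [(202, (-1))]), (198, [(203, (-1))]), (204, [(210, 1)]), (206, [(212, (-1))]), (208, [(213, (-1))]), (215, [(218, 1)]), (220, [(223, 1)]), (227, [(230, 1)]), (235, [(238, 1)])]
def M129 : Tr (List (ℕ × ℤ × ℕ × ℕ)) := (.node [(4, (-1), 1, 1)] (.node [] (.node [] (.node [] (.node [] .nil (.node [(54, 1, 1, 1)] (.node [(86, 1, 1, 1)] .nil (.node [(213, 1, 1, 1)] .nil .nil)) (.node [(120, 1, 1, 1)] (.node [(182, (-1), 1, 1)] .nil .nil) .nil))) (.node [] (.node [] (.node [(75, (-1), 1, 1)] .nil .nil) .nil) (.node [] .nil (.node [(128, (-1), 1, 1)] .nil .nil)))) (.node [] (.node [] (.node [] (.node [] .nil (.node [(202, 1, 1, 1)] .nil .nil)) (.node [(103, (-1), 1, 1)] .nil .nil)) (.node [] (.node [] (.node [(151, 1, 1, 1)] .nil .nil) .nil) .nil)) (.node [(34, (-1), 1, 1)] (.node [] .nil (.node [] .nil (.node [(239, 1, 1, 1)] .nil .nil))) (.node [(65, 1, 1, 1)] (.node [] .nil (.node [(223, (-1), 1, 1)] .nil .nil)) .nil)))) (.node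 [] (.node [(13, 1, 1, 1)] (.node [] .nil (.node [(55, 1, 1, 1)] (.node [(87, 1, 1, 1)] .nil .nil) (.node [(125, 1, 1, 1)] .nil .nil))) (.node [] (.node [] .nil (.node [(109, (-1), 1, 1)] (.node [(173, 1, 1, 1)] .nil .nil) .nil)) (.node [(64, 1, 1, 1)] (.node [] (.node [(160, (-1), 1, 1)] .nil .nil) .nil) (.node [] (.node [(192, (-1), 1, 1)] .nil .nil) .nil)))) (.node [] (.node [(25, 1, 1, 1)] (.node [(44, (-1), 1, 1)] (.node [] .nil (.node [(203, 1, 1, 1)] .nil .nil)) .nil) (.node [] .nil (.node [(127, (-1), 1, 1)] .nil .nil))) (.node [] (.node [] (.node [] .nil (.node [(212, 1, 1, 1)] .nil .nil)) .nil) (.node [] (.node [(97, (-1), 1, 1)] .nil .nil) .nil))))) (.node [] (.node [] (.node [] (.node [(20, 1, 1, 1)] .nil (.node [] .nil (.node [(122, 1, 1, 1)] (.node [(183, (-1), 1, 1)] .nil .nil) .nil))) (.node [] (.node [] (.node [] (.node [(140, 1, 1, 1)] .nil .nil) .nil) .nil) (.node [(63, 1, 1, 1)] (.node [(92, (-1), 1, 1)] (.node [(158,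 (-1), 1, 1)] .nil .nil) .nil) (.node [] (.node [(190, (-1), 1, 1)] .nil .nil) .nil)))) (.node [] (.node [] (.node [(42, (-1), 1, 1)] .nil (.node [] (.node [(168, 1, 1, 1)] .nil .nil) .nil)) .nil) (.node [(35, (-1), 1, 1)] (.node [] (.node [] .nil (.node [(211, 1, 1, 1)] .nil .nil)) .nil) .nil))) (.node [] (.node [] (.node [] (.node [] (.node [(70, (-1), 1, 1)] (.node [(134, 1, 1, 1)] .nil .nil) (.node [(201, 1, 1, 1)] .nil .nil)) (.node [] .nil (.node [(230, (-1), 1, 1)] .nil .nil))) (.node [] .nil (.node [(126, (-1), 1, 1)] .nil .nil))) (.node [(32, (-1), 1, 1)] .nil (.node [] (.node [] (.node [(161, (-1), 1, 1)] .nil .nil) .nil) (.node [] (.node [(193, (-1), 1, 1)] .nil .nil) .nil)))) (.node [] (.node [] (.node [(45, (-1), 1, 1)] .nil .nil) (.node [] (.node [] .nil (.node [(218, (-1), 1, 1)] .nil .nil)) .nil)) (.node [] (.node [(53, 1, 1, 1)] (.node [(85, 1, 1, 1)] (.node [(146, 1, 1, 1)] .nil .nil) .nil) (.node [] (.node [(180, (-1),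 1, 1)] .nil .nil) .nil)) .nil)))))
def C129 : List (ℕ × List (ℕ × ℤ)) := [(0, [(4, (-1))]), (9, [(13, 1)]), (16, [(20, 1)]), (21, [(25, 1)]), (26, [(32, (-1))]), (27, [(34, (-1))]), (28, [(35, (-1))]), (36, [(42, (-1))]), (37, [(44, (-1))]), (38, [(45, (-1))]), (46, [(53, 1)]), (47, [(54, 1)]), (49, [(55, 1)]), (56, [(63, 1)]), (57, [(64, 1)]), (59, [(65, 1)]), (66, [(70, (-1))]), (71, [(75, (-1))]), (78, [(85, 1)]), (79, [(86, 1)]), (81, [(87, 1)]), (88, [(92, (-1))]), (93, [(97, (-1))]), (99, [(103, (-1))]), (105, [(109, (-1))]), (111, [(120, 1)]), (112, [(122, 1)]), (113, [(125, 1)]), (114, [(126, (-1))]), (117, [(127, (-1))]), (119, [(128, (-1))]), (130, [(134, 1)]), (136, [(140, 1)]), (142, [(146, 1)]), (147, [(151, 1)]), (152, [(158, (-1))]), (153, [(160, (-1))]), (154, [(161, (-1))]), (164, [(168, 1)]), (169, [(173, 1)]), (174, [(180, (-1))]), (175, [(182, (-1))]), (176, [(183, (-1))]), (184, [(190, (-1))]), (185, [(192, (-1))]),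 (186, [(193, (-1))]), (194, [(201, 1)]), (195, [(202, 1)]), (197, [(203, 1)]), (204, [(211, 1)]), (205, [(212, 1)]), (207, [(213, 1)]), (214, [(218, (-1))]), (219, [(223, (-1))]), (226, [(230, (-1))]), (235, [(239, 1)])]
def M130 : Tr (List (ℕ × ℤ × ℕ × ℕ)) := (.node [] (.node [] (.node [] (.node [] (.node [(16, (-1), 1, 1)] (.node [] (.node [(67, (-1), 1, 1)] (.node [(132, (-1), 1, 1)] .nil .nil) (.node [(197, 1, 1, 1)] .nil .nil)) (.node [] .nil (.node [(224, 1, 1, 1)] .nil .nil))) .nil) (.node [(27, (-1), 1, 1)] (.node [] (.node [] (.node [(136, 1, 1, 1)] .nil .nil) .nil) (.node [(104, (-1), 1, 1)] .nil .nil)) (.node [] (.node [(91, (-1), 1, 1)] (.node [(155, 1, 1, 1)] .nil .nil) .nil) .nil))) (.node [] (.node [] (.node [] .nil (.node [] (.node [(164, 1, 1, 1)] .nil .nil) .nil)) (.node [] (.node [] .nil (.node [(215, 1, 1, 1)] .nil .nil)) .nil)) (.node [] (.node [(49, (-1), 1, 1)] (.node [(76, (-1), 1, 1)] .nil .nil) (.node [(112,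 1, 1, 1)] (.node [(175, 1, 1, 1)] .nil .nil) .nil)) .nil))) (.node [] (.node [] (.node [] (.node [] (.node [(69, (-1), 1, 1)] (.node [(134, (-1), 1, 1)] .nil .nil) (.node [(199, 1, 1, 1)] .nil .nil)) (.node [(98, (-1), 1, 1)] .nil .nil)) .nil) (.node [(29, (-1), 1, 1)] (.node [(47, (-1), 1, 1)] .nil (.node [(110, 1, 1, 1)] .nil .nil)) .nil)) (.node [] (.node [] .nil (.node [] (.node [(89, (-1), 1, 1)] (.node [(153, 1, 1, 1)] .nil .nil) (.node [(217, 1, 1, 1)] .nil .nil)) .nil)) (.node [] (.node [(51, (-1), 1, 1)] (.node [] (.node [(142, 1, 1, 1)] .nil .nil) .nil) (.node [] (.node [(177, 1, 1, 1)] .nil .nil) .nil)) (.node [] .nil (.node [] (.node [(195, 1, 1, 1)] .nil .nil) .nil)))))) (.node [] (.node [(5, (-1), 1, 1)] (.node [(9, (-1), 1, 1)] (.node [] (.node [] (.node [(68, (-1), 1, 1)] (.node [(133, (-1), 1, 1)] .nil .nil) (.node [(198, 1, 1, 1)] .nil .nil)) .nil) .nil) (.node [(28, (-1), 1, 1)] (.node [(46, (-1), 1, 1)] .nil .nil)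 .nil)) (.node [] (.node [] .nil (.node [] (.node [(88, (-1), 1, 1)] (.node [(152, 1, 1, 1)] .nil .nil) (.node [(216, 1, 1, 1)] .nil .nil)) .nil)) (.node [] (.node [(50, (-1), 1, 1)] .nil (.node [(113, 1, 1, 1)] (.node [(176, 1, 1, 1)] .nil .nil) .nil)) (.node [] .nil (.node [] (.node [(194, 1, 1, 1)] .nil .nil) .nil))))) (.node [] (.node [] (.node [] .nil (.node [] (.node [] .nil (.node [(214, 1, 1, 1)] .nil .nil)) .nil)) (.node [] (.node [(48, (-1), 1, 1)] .nil (.node [(111, 1, 1, 1)] (.node [(174, 1, 1, 1)] .nil .nil) (.node [(235, 1, 1, 1)] .nil .nil))) .nil)) (.node [] (.node [(26, (-1), 1, 1)] (.node [] .nil (.node [] .nil (.node [(231, 1, 1, 1)] .nil .nil))) (.node [] (.node [(90, (-1), 1, 1)] (.node [(154, 1, 1, 1)] .nil .nil) .nil) .nil)) (.node [] .nil (.node [(66, (-1), 1, 1)] .nil (.node [(131, (-1), 1, 1)] (.node [(196, 1, 1, 1)] .nil .nil) .nil)))))))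
def C130 : List (ℕ × List (ℕ × ℤ)) := [(4, [(5, (-1))]), (8, [(9, (-1))]), (15, [(16, (-1))]), (22, [(26, (-1))]), (23, [(27, (-1))]), (24, [(28, (-1))]), (25, [(29, (-1))]), (40, [(46, (-1))]), (41, [(47, (-1))]), (42, [(48, (-1))]), (43, [(49, (-1))]), (44, [(50, (-1))]), (45, [(51, (-1))]), (62, [(66, (-1))]), (63, [(67, (-1))]), (64, [(68, (-1))]), (65, [(69, (-1))]), (75, [(76, (-1))]), (84, [(88, (-1))]), (85, [(89, (-1))]), (86, [(90, (-1))]), (87, [(91, (-1))]), (97, [(98, (-1))]), (103, [(104, (-1))]), (105, [(110, 1)]), (106, [(111, 1)]), (107, [(112, 1)]), (108, [(113, 1)]), (126, [(131, (-1))]), (127, [(132, (-1))]), (128, [(133, (-1))]), (129, [(134, (-1))]), (135, [(136, 1)]), (141, [(142, 1)]), (148, [(152, 1)]), (149, [(153, 1)]), (150, [(154, 1)]), (151, [(155, 1)]), (163, [(164, 1)]), (170, [(174, 1)]), (171, [(175, 1)]), (172, [(176, 1)]), (173, [(177, 1)]), (188, [(194, 1)]), (189, [(195, 1)]), (190, [(196, 1)]), (191,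 [(197, 1)]), (192, [(198, 1)]), (193, [(199, 1)]), (210, [(214, 1)]), (211, [(215, 1)]), (212, [(216, 1)]), (213, [(217, 1)]), (223, [(224, 1)]), (230, [(231, 1)]), (234, [(235, 1)])]
def M131 : Tr (List (ℕ × ℤ × ℕ × ℕ)) := (.node [] (.node [] (.node [(5, (-1), 1, 1)] (.node [] (.node [(17, 1, 1, 1)] (.node [] (.node [] .nil (.node [(200, 1, 1, 1)] .nil .nil)) .nil) (.node [] (.node [] .nil (.node [(214, (-1), 1, 1)] .nil .nil)) .nil)) (.node [(30, 1, 1, 1)] (.node [(48, (-1), 1, 1)] (.node [] (.node [(137, 1, 1, 1)] .nil .nil) .nil) .nil) (.node [] (.node [(92, 1, 1, 1)] (.node [(158, 1, 1, 1)] .nil .nil) .nil) .nil))) (.node [] (.node [] (.node [] .nil (.node [] (.node [(165, 1, 1, 1)] .nil .nil) .nil)) (.node [] (.node [(90, (-1), 1, 1)] (.node [(152, (-1), 1, 1)] .nil .nil) .nil) .nil)) (.node [] (.node [(52, 1, 1, 1)] .nil (.node [(116, 1, 1, 1)] (.node [(178, 1, 1, 1)] .nil .nil) .nil)) (.node [(66, (-1), 1, 1)] .nil (.node [(132,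 (-1), 1, 1)] (.node [(196, (-1), 1, 1)] .nil .nil) .nil))))) (.node [] (.node [] (.node [] (.node [] (.node [(70, 1, 1, 1)] .nil (.node [(202, 1, 1, 1)] .nil .nil)) .nil) (.node [] (.node [(88, (-1), 1, 1)] .nil (.node [(216, (-1), 1, 1)] .nil .nil)) (.node [(130, (-1), 1, 1)] .nil .nil))) (.node [(32, 1, 1, 1)] (.node [] .nil (.node [(114, 1, 1, 1)] (.node [(174, (-1), 1, 1)] .nil .nil) .nil)) (.node [] .nil (.node [] (.node [(194, (-1), 1, 1)] .nil .nil) .nil)))) (.node [] (.node [(26, (-1), 1, 1)] (.node [(46, (-1), 1, 1)] .nil (.node [] .nil (.node [(231, (-1), 1, 1)] .nil .nil))) (.node [] (.node [] (.node [(156, 1, 1, 1)] .nil .nil) (.node [(218, 1, 1, 1)] .nil .nil)) .nil)) (.node [] (.node [(54, 1, 1, 1)] (.node [] (.node [(143, 1, 1, 1)] .nil .nil) .nil) (.node [(126, 1, 1, 1)] (.node [(180, 1, 1, 1)] .nil .nil) .nil)) (.node [(68, (-1), 1, 1)] .nil (.node [(134, (-1), 1, 1)] .nil .nil)))))) (.node [] (.node [] (.node [(10, 1,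 1, 1)] (.node [] (.node [] (.node [] .nil (.node [(201, 1, 1, 1)] .nil .nil)) (.node [(98, (-1), 1, 1)] .nil .nil)) (.node [] (.node [] .nil (.node [(215, (-1), 1, 1)] .nil .nil)) .nil)) (.node [(31, 1, 1, 1)] .nil .nil)) (.node [] .nil (.node [] (.node [(53, 1, 1, 1)] .nil (.node [] (.node [(179, 1, 1, 1)] .nil .nil) .nil)) (.node [(67, (-1), 1, 1)] .nil (.node [(133, (-1), 1, 1)] .nil .nil))))) (.node [] (.node [] (.node [] .nil (.node [] (.node [(89, (-1), 1, 1)] .nil .nil) .nil)) (.node [] (.node [] (.node [(76, (-1), 1, 1)] .nil .nil) (.node [(115, 1, 1, 1)] .nil (.node [(236, 1, 1, 1)] .nil .nil))) (.node [] .nil (.node [] (.node [(195, (-1), 1, 1)] .nil .nil) .nil)))) (.node [] (.node [] (.node [(47, (-1), 1, 1)] .nil (.node [(104, (-1), 1, 1)] .nil .nil)) (.node [] (.node [] (.node [(157, 1, 1, 1)] .nil .nil) .nil) .nil)) (.node [] .nil (.node [] (.node [] .nil (.node [(224, (-1), 1, 1)] .nil .nil)) .nil))))))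
def C131 : List (ℕ × List (ℕ × ℤ)) := [(3, [(5, (-1))]), (8, [(10, 1)]), (15, [(17, 1)]), (21, [(26, (-1))]), (23, [(30, 1)]), (24, [(31, 1)]), (25, [(32, 1)]), (37, [(46, (-1))]), (38, [(47, (-1))]), (39, [(48, (-1))]), (43, [(52, 1)]), (44, [(53, 1)]), (45, [(54, 1)]), (59, [(66, (-1))]), (60, [(67, (-1))]), (61, [(68, (-1))]), (65, [(70, 1)]), (74, [(76, (-1))]), (81, [(88, (-1))]), (82, [(89, (-1))]), (83, [(90, (-1))]), (87, [(92, 1)]), (96, [(98, (-1))]), (102, [(104, (-1))]), (105, [(114, 1)]), (106, [(115, 1)]), (107, [(116, 1)]), (109, [(126, 1)]), (113, [(130, (-1))]), (123, [(132, (-1))]), (124, [(133, (-1))]), (125, [(134, (-1))]), (135, [(137, 1)]), (141, [(143, 1)]), (147, [(152, (-1))]), (149, [(156, 1)]), (150, [(157, 1)]), (151, [(158, 1)]), (163, [(165, 1)]), (169, [(174, (-1))]), (171, [(178, 1)]), (172, [(179, 1)]), (173, [(180, 1)]), (185, [(194, (-1))]), (186, [(195, (-1))]), (187, [(196, (-1))]), (191, [(200, 1)]),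 (192, [(201, 1)]), (193, [(202, 1)]), (207, [(214, (-1))]), (208, [(215, (-1))]), (209, [(216, (-1))]), (213, [(218, 1)]), (222, [(224, (-1))]), (229, [(231, (-1))]), (234, [(236, 1)])]
def M132 : Tr (List (ℕ × ℤ × ℕ × ℕ)) := (.node [] (.node [] (.node [] (.node [] (.node [(18, (-1), 1, 1)] (.node [] .nil (.node [(98, (-1), 1, 1)] .nil .nil)) (.node [] (.node [(88, (-1), 1, 1)] .nil .nil) .nil)) (.node [] (.node [(50, 1, 1, 1)] (.node [] (.node [(138, 1, 1, 1)] .nil .nil) .nil) .nil) (.node [] (.node [] (.node [(160, 1, 1, 1)] .nil .nil) .nil) .nil))) (.node [] (.node [] (.node [] .nil (.node [] (.node [(166, 1, 1, 1)] .nil .nil) .nil)) (.node [] (.node [(91, 1, 1, 1)] (.node [(153, (-1), 1, 1)] .nil .nil) .nil) .nil)) (.node [] .nil (.node [] .nil (.node [] (.node [(198, (-1), 1, 1)] .nil .nil) .nil))))) (.node [] (.node [] (.node [] (.node [] (.node [] .nil (.node [(203, 1, 1, 1)] .nil .nil)) .nil) (.node [] (.node [] .nil (.node [(217,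 (-1), 1, 1)] .nil .nil)) .nil)) (.node [(34, (-1), 1, 1)] (.node [(52, 1, 1, 1)] (.node [(76, (-1), 1, 1)] .nil .nil) (.node [(117, 1, 1, 1)] (.node [(175, (-1), 1, 1)] .nil .nil) .nil)) (.node [(66, (-1), 1, 1)] .nil (.node [(133, (-1), 1, 1)] .nil .nil)))) (.node [] (.node [(27, 1, 1, 1)] (.node [] .nil (.node [(104, (-1), 1, 1)] .nil .nil)) .nil) (.node [] (.node [(55, (-1), 1, 1)] (.node [] (.node [(144, 1, 1, 1)] .nil .nil) (.node [(214, 1, 1, 1)] .nil .nil)) (.node [(127, 1, 1, 1)] (.node [(182, 1, 1, 1)] .nil .nil) .nil)) (.node [(69, 1, 1, 1)] (.node [] .nil (.node [(224, 1, 1, 1)] .nil .nil)) (.node [] (.node [(200, (-1), 1, 1)] .nil .nil) .nil)))))) (.node [(5, (-1), 1, 1)] (.node [] (.node [(11, (-1), 1, 1)] (.node [] (.node [] (.node [(70, 1, 1, 1)] .nil .nil) .nil) (.node [] (.node [(89, (-1), 1, 1)] .nil .nil) (.node [(130, (-1), 1, 1)] .nil .nil))) (.node [(33, (-1), 1, 1)] .nil (.node [] .nil (.node [] (.node [(194, 1,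 1, 1)] .nil .nil) .nil)))) (.node [] (.node [] (.node [(46, (-1), 1, 1)] .nil (.node [] .nil (.node [(231, 1, 1, 1)] .nil .nil))) (.node [] (.node [] (.node [(156, (-1), 1, 1)] .nil .nil) (.node [(218, (-1), 1, 1)] .nil .nil)) (.node [(131, (-1), 1, 1)] .nil .nil))) (.node [] (.node [] .nil (.node [(123, 1, 1, 1)] (.node [(181, 1, 1, 1)] .nil .nil) .nil)) .nil))) (.node [] (.node [] .nil (.node [] (.node [(53, 1, 1, 1)] .nil (.node [(118, 1, 1, 1)] (.node [(178, (-1), 1, 1)] .nil .nil) (.node [(237, 1, 1, 1)] .nil .nil))) (.node [(67, (-1), 1, 1)] .nil (.node [(134, (-1), 1, 1)] (.node [(197, (-1), 1, 1)] .nil .nil) .nil)))) (.node [] (.node [(30, 1, 1, 1)] (.node [(49, 1, 1, 1)] .nil .nil) (.node [] (.node [(92, 1, 1, 1)] (.node [(159, 1, 1, 1)] .nil .nil) .nil) .nil)) (.node [] (.node [] (.node [] .nil (.node [(215, 1, 1, 1)] .nil .nil)) .nil) (.node [] .nil (.node [] (.node [(201, (-1), 1, 1)] .nil .nil) .nil)))))))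
def C132 : List (ℕ × List (ℕ × ℤ)) := [(2, [(5, (-1))]), (8, [(11, (-1))]), (15, [(18, (-1))]), (21, [(27, 1)]), (22, [(30, 1)]), (24, [(33, (-1))]), (25, [(34, (-1))]), (36, [(46, (-1))]), (38, [(49, 1)]), (39, [(50, 1)]), (41, [(52, 1)]), (42, [(53, 1)]), (45, [(55, (-1))]), (57, [(66, (-1))]), (58, [(67, (-1))]), (61, [(69, 1)]), (64, [(70, 1)]), (73, [(76, (-1))]), (79, [(88, (-1))]), (80, [(89, (-1))]), (83, [(91, 1)]), (86, [(92, 1)]), (95, [(98, (-1))]), (101, [(104, (-1))]), (105, [(117, 1)]), (106, [(118, 1)]), (108, [(123, 1)]), (109, [(127, 1)]), (112, [(130, (-1))]), (116, [(131, (-1))]), (121, [(133, (-1))]), (122, [(134, (-1))]), (135, [(138, 1)]), (141, [(144, 1)]), (147, [(153, (-1))]), (148, [(156, (-1))]), (150, [(159, 1)]), (151, [(160, 1)]), (163, [(166, 1)]), (169, [(175, (-1))]), (170, [(178, (-1))]), (172, [(181, 1)]), (173, [(182, 1)]), (184, [(194, 1)]), (186, [(197, (-1))]), (187, [(198, (-1))]), (189, [(200,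 (-1))]), (190, [(201, (-1))]), (193, [(203, 1)]), (205, [(214, 1)]), (206, [(215, 1)]), (209, [(217, (-1))]), (212, [(218, (-1))]), (221, [(224, 1)]), (228, [(231, 1)]), (234, [(237, 1)])]
def M133 : Tr (List (ℕ × ℤ × ℕ × ℕ)) := (.node [] (.node [(5, (-1), 1, 1)] (.node [] (.node [] (.node [(19, 1, 1, 1)] (.node [] (.node [(70, 1, 1, 1)] .nil .nil) .nil) (.node [] .nil (.node [(130, (-1), 1, 1)] .nil .nil))) (.node [(33, (-1), 1, 1)] (.node [(51, (-1), 1, 1)] (.node [] (.node [(139, 1, 1, 1)] .nil .nil) .nil) .nil) (.node [] (.node [] (.node [(161, 1, 1, 1)] .nil .nil) .nil) .nil))) (.node [] (.node [] (.node [] .nil (.node [] (.node [(167, 1, 1, 1)] .nil .nil) (.node [(231, (-1), 1, 1)] .nil .nil))) (.node [] (.node [] (.node [(154, (-1), 1, 1)] .nil .nil) (.node [(218, 1, 1, 1)] .nil .nil)) (.node [(131, (-1), 1, 1)] .nil .nil))) (.node [] (.node [] .nil (.node [(121, 1, 1, 1)] (.node [(181, (-1), 1, 1)] .nil .nil) .nil)) (.node []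 .nil (.node [] (.node [(199, (-1), 1, 1)] .nil .nil) .nil))))) (.node [] (.node [] .nil (.node [(35, 1, 1, 1)] (.node [] .nil (.node [(119, 1, 1, 1)] (.node [(176, (-1), 1, 1)] .nil .nil) .nil)) (.node [] .nil (.node [] (.node [(197, 1, 1, 1)] .nil .nil) .nil)))) (.node [] (.node [(28, (-1), 1, 1)] (.node [(49, 1, 1, 1)] .nil .nil) (.node [] (.node [(92, 1, 1, 1)] (.node [(159, (-1), 1, 1)] .nil .nil) .nil) .nil)) (.node [] (.node [] (.node [] (.node [(145, 1, 1, 1)] .nil .nil) .nil) (.node [(128, 1, 1, 1)] (.node [(183, 1, 1, 1)] .nil .nil) .nil)) .nil)))) (.node [] (.node [] (.node [(12, 1, 1, 1)] (.node [] (.node [] (.node [] .nil (.node [(203, (-1), 1, 1)] .nil .nil)) .nil) (.node [] (.node [(90, 1, 1, 1)] .nil (.node [(217, 1, 1, 1)] .nil .nil)) .nil)) (.node [] (.node [(52, 1, 1, 1)] (.node [(76, (-1), 1, 1)] .nil .nil) .nil) (.node [(66, (-1), 1, 1)] .nil (.node [(134, (-1), 1, 1)] (.node [(195, 1, 1, 1)] .nil .nil) .nil)))) (.node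 [] (.node [] (.node [(47, 1, 1, 1)] .nil (.node [(104, (-1), 1, 1)] .nil .nil)) (.node [] (.node [] (.node [(157, (-1), 1, 1)] .nil .nil) .nil) .nil)) (.node [] (.node [(55, (-1), 1, 1)] (.node [] .nil (.node [(214, (-1), 1, 1)] .nil .nil)) (.node [(124, 1, 1, 1)] .nil .nil)) (.node [(69, 1, 1, 1)] (.node [] .nil (.node [(224, (-1), 1, 1)] .nil .nil)) (.node [] (.node [(200, 1, 1, 1)] .nil .nil) .nil))))) (.node [] (.node [] (.node [] .nil (.node [] (.node [(91, 1, 1, 1)] .nil .nil) .nil)) (.node [] (.node [(54, (-1), 1, 1)] .nil (.node [] (.node [(179, (-1), 1, 1)] .nil .nil) (.node [(238, 1, 1, 1)] .nil .nil))) (.node [(68, 1, 1, 1)] .nil .nil))) (.node [] (.node [(31, (-1), 1, 1)] .nil (.node [] .nil (.node [(132, (-1), 1, 1)] .nil .nil))) (.node [] (.node [] (.node [(88, (-1), 1, 1)] .nil (.node [(216, 1, 1, 1)] .nil .nil)) .nil) (.node [] (.node [(98, (-1), 1, 1)] .nil .nil) (.node [] (.node [(202, (-1), 1, 1)] .nil .nil) .nil)))))))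
def C133 : List (ℕ × List (ℕ × ℤ)) := [(1, [(5, (-1))]), (8, [(12, 1)]), (15, [(19, 1)]), (21, [(28, (-1))]), (22, [(31, (-1))]), (23, [(33, (-1))]), (25, [(35, 1)]), (36, [(47, 1)]), (37, [(49, 1)]), (39, [(51, (-1))]), (40, [(52, 1)]), (42, [(54, (-1))]), (44, [(55, (-1))]), (56, [(66, (-1))]), (58, [(68, 1)]), (60, [(69, 1)]), (63, [(70, 1)]), (72, [(76, (-1))]), (78, [(88, (-1))]), (80, [(90, 1)]), (82, [(91, 1)]), (85, [(92, 1)]), (94, [(98, (-1))]), (100, [(104, (-1))]), (105, [(119, 1)]), (107, [(121, 1)]), (108, [(124, 1)]), (109, [(128, 1)]), (111, [(130, (-1))]), (115, [(131, (-1))]), (118, [(132, (-1))]), (120, [(134, (-1))]), (135, [(139, 1)]), (141, [(145, 1)]), (147, [(154, (-1))]), (148, [(157, (-1))]), (149, [(159, (-1))]), (151, [(161, 1)]), (163, [(167, 1)]), (169, [(176, (-1))]), (170, [(179, (-1))]), (171, [(181, (-1))]), (173, [(183, 1)]), (184, [(195, 1)]), (185, [(197, 1)]), (187, [(199, (-1))]), (188, [(200, 1)]),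 (190, [(202, (-1))]), (192, [(203, (-1))]), (204, [(214, (-1))]), (206, [(216, 1)]), (208, [(217, 1)]), (211, [(218, 1)]), (220, [(224, (-1))]), (227, [(231, (-1))]), (234, [(238, 1)])]
def M134 : Tr (List (ℕ × ℤ × ℕ × ℕ)) := (.node [(5, (-1), 1, 1)] (.node [] (.node [] (.node [] (.node [(20, (-1), 1, 1)] (.node [] (.node [] .nil (.node [(203, 1, 1, 1)] .nil .nil)) .nil) (.node [] (.node [(90, 1, 1, 1)] .nil (.node [(217, (-1), 1, 1)] .nil .nil)) .nil)) (.node [(34, 1, 1, 1)] (.node [] (.node [(76, (-1), 1, 1)] (.node [(140, 1, 1, 1)] .nil .nil) .nil) .nil) (.node [] .nil (.node [(133, (-1), 1, 1)] .nil .nil)))) (.node [] (.node [] (.node [] .nil (.node [(104, (-1), 1, 1)] (.node [(168, 1, 1, 1)] .nil .nil) .nil)) (.node [] (.node [] (.node [(155, (-1), 1, 1)] .nil .nil) .nil) .nil)) (.node [] (.node [(55, (-1), 1, 1)] .nil (.node [(122, 1, 1, 1)] (.node [(182, (-1), 1, 1)] .nil .nil) .nil)) (.node [(69, 1, 1, 1)] (.node [] .nil (.node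 [(224, 1, 1, 1)] .nil .nil)) .nil)))) (.node [] (.node [] (.node [] .nil (.node [] (.node [(91, 1, 1, 1)] .nil .nil) .nil)) (.node [] (.node [(54, (-1), 1, 1)] .nil (.node [] (.node [(177, (-1), 1, 1)] .nil .nil) .nil)) (.node [(68, 1, 1, 1)] .nil (.node [] (.node [(198, 1, 1, 1)] .nil .nil) .nil)))) (.node [] (.node [(29, 1, 1, 1)] (.node [(50, (-1), 1, 1)] .nil .nil) (.node [] (.node [] (.node [(160, (-1), 1, 1)] .nil .nil) .nil) (.node [(132, (-1), 1, 1)] .nil .nil))) (.node [] (.node [] (.node [] (.node [(146, 1, 1, 1)] .nil .nil) (.node [(216, (-1), 1, 1)] .nil .nil)) (.node [(129, 1, 1, 1)] .nil .nil)) (.node [] (.node [(98, (-1), 1, 1)] .nil .nil) (.node [] (.node [(202, 1, 1, 1)] .nil .nil) .nil)))))) (.node [] (.node [] (.node [(13, (-1), 1, 1)] .nil (.node [(35, 1, 1, 1)] (.node [(53, (-1), 1, 1)] .nil .nil) (.node [(67, 1, 1, 1)] .nil (.node [] (.node [(196, 1, 1, 1)] .nil .nil) .nil)))) (.node [] (.node [] (.node [(48, (-1),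 1, 1)] .nil .nil) (.node [] (.node [(92, 1, 1, 1)] (.node [(158, (-1), 1, 1)] .nil .nil) .nil) .nil)) (.node [] (.node [] (.node [] .nil (.node [(215, (-1), 1, 1)] .nil .nil)) (.node [(125, 1, 1, 1)] (.node [(183, (-1), 1, 1)] .nil .nil) .nil)) (.node [] .nil (.node [] (.node [(201, 1, 1, 1)] .nil .nil) .nil))))) (.node [] (.node [] (.node [] (.node [] .nil (.node [] .nil (.node [(231, 1, 1, 1)] .nil .nil))) (.node [] (.node [] .nil (.node [(218, (-1), 1, 1)] .nil .nil)) (.node [(131, (-1), 1, 1)] .nil .nil))) (.node [] (.node [] .nil (.node [(120, 1, 1, 1)] (.node [(180, (-1), 1, 1)] .nil .nil) (.node [(239, 1, 1, 1)] .nil .nil))) (.node [] .nil (.node [] (.node [(199, 1, 1, 1)] .nil .nil) .nil)))) (.node [] (.node [(32, 1, 1, 1)] (.node [(51, (-1), 1, 1)] .nil .nil) (.node [] (.node [] (.node [(161, (-1), 1, 1)] .nil .nil) .nil) .nil)) (.node [] (.node [] (.node [(89, 1, 1, 1)] .nil .nil) (.node [(130, (-1), 1, 1)] .nil .nil)) (.node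 [(70, 1, 1, 1)] .nil .nil))))))
def C134 : List (ℕ × List (ℕ × ℤ)) := [(0, [(5, (-1))]), (8, [(13, (-1))]), (15, [(20, (-1))]), (21, [(29, 1)]), (22, [(32, 1)]), (23, [(34, 1)]), (24, [(35, 1)]), (36, [(48, (-1))]), (37, [(50, (-1))]), (38, [(51, (-1))]), (40, [(53, (-1))]), (41, [(54, (-1))]), (43, [(55, (-1))]), (56, [(67, 1)]), (57, [(68, 1)]), (59, [(69, 1)]), (62, [(70, 1)]), (71, [(76, (-1))]), (78, [(89, 1)]), (79, [(90, 1)]), (81, [(91, 1)]), (84, [(92, 1)]), (93, [(98, (-1))]), (99, [(104, (-1))]), (106, [(120, 1)]), (107, [(122, 1)]), (108, [(125, 1)]), (109, [(129, 1)]), (110, [(130, (-1))]), (114, [(131, (-1))]), (117, [(132, (-1))]), (119, [(133, (-1))]), (135, [(140, 1)]), (141, [(146, 1)]), (147, [(155, (-1))]), (148, [(158, (-1))]), (149, [(160, (-1))]), (150, [(161, (-1))]), (163, [(168, 1)]), (169, [(177, (-1))]), (170, [(180, (-1))]), (171, [(182, (-1))]), (172, [(183, (-1))]), (184, [(196, 1)]), (185, [(198, 1)]),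 (186, [(199, 1)]), (188, [(201, 1)]), (189, [(202, 1)]), (191, [(203, 1)]), (204, [(215, (-1))]), (205, [(216, (-1))]), (207, [(217, (-1))]), (210, [(218, (-1))]), (219, [(224, 1)]), (226, [(231, 1)]), (234, [(239, 1)])]
def M135 : Tr (List (ℕ × ℤ × ℕ × ℕ)) := (.node [] (.node [] (.node [] (.node [(8, (-1), 1, 1)] (.node [] .nil (.node [(57, (-1), 1, 1)] (.node [] (.node [(148, 1, 1, 1)] .nil .nil) .nil) (.node [] (.node [(185, 1, 1, 1)] .nil .nil) .nil))) (.node [] (.node [] .nil (.node [(109, 1, 1, 1)] .nil (.node [(232, 1, 1, 1)] .nil .nil))) (.node [(65, (-1), 1, 1)] (.node [] .nil (.node [(220, 1, 1, 1)] .nil .nil)) (.node [] (.node [(193, 1, 1, 1)] .nil .nil) .nil)))) (.node [] (.node [(24, (-1), 1, 1)] (.node [] (.node [] (.node [(137, (-1), 1, 1)] .nil .nil) .nil) (.node [(105, 1, 1, 1)] .nil .nil)) (.node [(61, (-1), 1, 1)] .nil (.node [] (.node [(189, 1, 1, 1)] .nil .nil) .nil))) (.node [] .nil (.node [] (.node [(96, (-1), 1,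 1)] .nil .nil) .nil)))) (.node [(6, (-1), 1, 1)] (.node [] (.node [(22, (-1), 1, 1)] .nil (.node [(59, (-1), 1, 1)] (.node [] (.node [(150, 1, 1, 1)] .nil .nil) .nil) (.node [] (.node [(187, 1, 1, 1)] .nil .nil) .nil))) (.node [] (.node [] .nil (.node [] .nil (.node [(234, 1, 1, 1)] .nil .nil))) (.node [] (.node [(94, (-1), 1, 1)] .nil (.node [(222, 1, 1, 1)] .nil .nil)) .nil))) (.node [] (.node [] (.node [] (.node [] (.node [(139, (-1), 1, 1)] .nil .nil) .nil) (.node [(107, 1, 1, 1)] .nil .nil)) (.node [(63, (-1), 1, 1)] .nil (.node [] (.node [(191, 1, 1, 1)] .nil .nil) .nil))) .nil))) (.node [] (.node [] (.node [] (.node [(21, (-1), 1, 1)] .nil (.node [(58, (-1), 1, 1)] (.node [] (.node [(149, 1, 1, 1)] .nil .nil) .nil) (.node [] (.node [(186, 1, 1, 1)] .nil .nil) .nil))) (.node [] .nil (.node [] (.node [(93, (-1), 1, 1)] .nil (.node [(221, 1, 1, 1)] .nil .nil)) .nil))) (.node [] (.node [(25, (-1), 1, 1)] (.node [] (.node [] (.node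 [(138, (-1), 1, 1)] .nil .nil) .nil) (.node [(106, 1, 1, 1)] .nil .nil)) (.node [(62, (-1), 1, 1)] .nil (.node [] (.node [(190, 1, 1, 1)] .nil .nil) .nil))) (.node [] (.node [] (.node [(77, (-1), 1, 1)] .nil .nil) .nil) (.node [] (.node [(97, (-1), 1, 1)] .nil .nil) .nil)))) (.node [] (.node [] (.node [(23, (-1), 1, 1)] (.node [] (.node [] (.node [(136, (-1), 1, 1)] .nil .nil) .nil) (.node [] (.node [(163, 1, 1, 1)] .nil .nil) .nil)) (.node [(60, (-1), 1, 1)] (.node [] (.node [(151, 1, 1, 1)] .nil .nil) .nil) (.node [] (.node [(188, 1, 1, 1)] .nil .nil) .nil))) (.node [] .nil (.node [] (.node [(95, (-1), 1, 1)] .nil (.node [(223, 1, 1, 1)] .nil .nil)) .nil))) (.node [] (.node [] (.node [] (.node [] (.node [(140, (-1), 1, 1)] .nil .nil) .nil) (.node [(108, 1, 1, 1)] .nil .nil)) (.node [(64, (-1), 1, 1)] (.node [] .nil (.node [(219, 1, 1, 1)] .nil .nil)) (.node [] (.node [(192, 1, 1, 1)] .nil .nil) .nil))) (.node [] (.node [(56, (-1), 1,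 1)] (.node [] (.node [(147, 1, 1, 1)] .nil .nil) .nil) (.node [] (.node [(184, 1, 1, 1)] .nil .nil) .nil)) .nil)))))
def C135 : List (ℕ × List (ℕ × ℤ)) := [(5, [(6, (-1))]), (7, [(8, (-1))]), (16, [(21, (-1))]), (17, [(22, (-1))]), (18, [(23, (-1))]), (19, [(24, (-1))]), (20, [(25, (-1))]), (46, [(56, (-1))]), (47, [(57, (-1))]), (48, [(58, (-1))]), (49, [(59, (-1))]), (50, [(60, (-1))]), (51, [(61, (-1))]), (52, [(62, (-1))]), (53, [(63, (-1))]), (54, [(64, (-1))]), (55, [(65, (-1))]), (76, [(77, (-1))]), (88, [(93, (-1))]), (89, [(94, (-1))]), (90, [(95, (-1))]), (91, [(96, (-1))]), (92, [(97, (-1))]), (99, [(105, 1)]), (100, [(106, 1)]), (101, [(107, 1)]), (102, [(108, 1)]), (103, [(109, 1)]), (130, [(136, (-1))]), (131, [(137, (-1))]), (132, [(138, (-1))]), (133, [(139, (-1))]), (134, [(140, (-1))]), (142, [(147, 1)]), (143, [(148, 1)]), (144, [(149, 1)]), (145, [(150, 1)]), (146, [(151, 1)]), (162, [(163, 1)]), (174, [(184, 1)]),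 (175, [(185, 1)]), (176, [(186, 1)]), (177, [(187, 1)]), (178, [(188, 1)]), (179, [(189, 1)]), (180, [(190, 1)]), (181, [(191, 1)]), (182, [(192, 1)]), (183, [(193, 1)]), (214, [(219, 1)]), (215, [(220, 1)]), (216, [(221, 1)]), (217, [(222, 1)]), (218, [(223, 1)]), (231, [(232, 1)]), (233, [(234, 1)])]
def M136 : Tr (List (ℕ × ℤ × ℕ × ℕ)) := (.node [] (.node [] (.node [] (.node [(9, 1, 1, 1)] (.node [(21, (-1), 1, 1)] (.node [] (.node [] (.node [(138, (-1), 1, 1)] .nil .nil) .nil) .nil) (.node [] (.node [] (.node [(152, 1, 1, 1)] .nil .nil) .nil) .nil)) (.node [] .nil (.node [(69, 1, 1, 1)] (.node [(96, (-1), 1, 1)] .nil .nil) (.node [] (.node [(199, 1, 1, 1)] .nil .nil) .nil)))) (.node [] (.node [(28, 1, 1, 1)] (.node [] .nil (.node [(110, 1, 1, 1)] .nil .nil)) (.node [] (.node [] .nil (.node [(220, (-1), 1, 1)] .nil .nil)) (.node [] (.node [(195, 1, 1, 1)] .nil .nil) .nil))) (.node [] (.node [(59, (-1), 1, 1)] (.node [(77, (-1), 1,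 1)] .nil .nil) (.node [] (.node [(185, (-1), 1, 1)] .nil .nil) .nil)) .nil))) (.node [] (.node [] (.node [(26, 1, 1, 1)] (.node [] (.node [] (.node [(140, (-1), 1, 1)] .nil .nil) .nil) .nil) (.node [] (.node [] (.node [(154, 1, 1, 1)] .nil .nil) .nil) .nil)) (.node [] (.node [(57, (-1), 1, 1)] .nil (.node [] .nil (.node [(235, 1, 1, 1)] .nil .nil))) .nil)) (.node [] (.node [] (.node [] .nil (.node [(112, 1, 1, 1)] .nil .nil)) (.node [(67, 1, 1, 1)] (.node [(94, (-1), 1, 1)] .nil (.node [(222, (-1), 1, 1)] .nil .nil)) (.node [] (.node [(197, 1, 1, 1)] .nil .nil) .nil))) (.node [] (.node [(61, (-1), 1, 1)] (.node [] (.node [(147, (-1), 1, 1)] .nil .nil) .nil) (.node [(135, (-1), 1, 1)] (.node [(187, (-1), 1, 1)] .nil .nil) .nil)) .nil)))) (.node [] (.node [(6, (-1), 1, 1)] (.node [] (.node [] (.node [] (.node [] (.node [(139, (-1), 1, 1)] .nil .nil) .nil) .nil) (.node [] (.node [] (.node [(153, 1, 1, 1)] .nil .nil) .nil) .nil)) (.node []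 (.node [(56, (-1), 1, 1)] .nil (.node [(130, 1, 1, 1)] .nil .nil)) .nil)) (.node [] (.node [(29, 1, 1, 1)] (.node [] .nil (.node [(111, 1, 1, 1)] .nil .nil)) (.node [(66, 1, 1, 1)] (.node [(93, (-1), 1, 1)] .nil (.node [(221, (-1), 1, 1)] .nil .nil)) (.node [] (.node [(196, 1, 1, 1)] .nil .nil) .nil))) (.node [] (.node [(60, (-1), 1, 1)] .nil (.node [] (.node [(186, (-1), 1, 1)] .nil .nil) .nil)) (.node [] (.node [(98, 1, 1, 1)] .nil .nil) .nil)))) (.node [] (.node [] (.node [(27, 1, 1, 1)] (.node [] .nil (.node [] (.node [(164, 1, 1, 1)] .nil .nil) .nil)) (.node [] (.node [] (.node [(155, 1, 1, 1)] .nil .nil) (.node [(219, (-1), 1, 1)] .nil .nil)) (.node [] (.node [(194, 1, 1, 1)] .nil .nil) .nil))) (.node [] (.node [(58, (-1), 1, 1)] .nil (.node [] (.node [(184, (-1), 1, 1)] .nil .nil) .nil)) (.node [] (.node [] .nil (.node [(224, 1, 1, 1)] .nil .nil)) .nil))) (.node [] (.node [] (.node [] .nil (.node [(113, 1, 1, 1)] .nil (.node [(232,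 (-1), 1, 1)] .nil .nil))) (.node [(68, 1, 1, 1)] (.node [(95, (-1), 1, 1)] .nil .nil) (.node [] (.node [(198, 1, 1, 1)] .nil .nil) .nil))) (.node [] .nil (.node [] .nil (.node [(137, (-1), 1, 1)] .nil .nil)))))))
def C136 : List (ℕ × List (ℕ × ℤ)) := [(4, [(6, (-1))]), (7, [(9, 1)]), (15, [(21, (-1))]), (17, [(26, 1)]), (18, [(27, 1)]), (19, [(28, 1)]), (20, [(29, 1)]), (40, [(56, (-1))]), (41, [(57, (-1))]), (42, [(58, (-1))]), (43, [(59, (-1))]), (44, [(60, (-1))]), (45, [(61, (-1))]), (52, [(66, 1)]), (53, [(67, 1)]), (54, [(68, 1)]), (55, [(69, 1)]), (75, [(77, (-1))]), (84, [(93, (-1))]), (85, [(94, (-1))]), (86, [(95, (-1))]), (87, [(96, (-1))]), (92, [(98, 1)]), (99, [(110, 1)]), (100, [(111, 1)]), (101, [(112, 1)]), (102, [(113, 1)]), (104, [(130, 1)]), (109, [(135, (-1))]), (126, [(137, (-1))]), (127, [(138, (-1))]), (128, [(139, (-1))]), (129, [(140, (-1))]), (141, [(147, (-1))]), (143, [(152, 1)]), (144, [(153, 1)]), (145,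 [(154, 1)]), (146, [(155, 1)]), (162, [(164, 1)]), (170, [(184, (-1))]), (171, [(185, (-1))]), (172, [(186, (-1))]), (173, [(187, (-1))]), (178, [(194, 1)]), (179, [(195, 1)]), (180, [(196, 1)]), (181, [(197, 1)]), (182, [(198, 1)]), (183, [(199, 1)]), (210, [(219, (-1))]), (211, [(220, (-1))]), (212, [(221, (-1))]), (213, [(222, (-1))]), (218, [(224, 1)]), (230, [(232, (-1))]), (233, [(235, 1)])]
def M137 : Tr (List (ℕ × ℤ × ℕ × ℕ)) := (.node [] (.node [] (.node [(6, (-1), 1, 1)] (.node [(10, (-1), 1, 1)] (.node [(22, 1, 1, 1)] .nil (.node [] (.node [] .nil (.node [(219, 1, 1, 1)] .nil .nil)) (.node [] (.node [(194, (-1), 1, 1)] .nil .nil) .nil))) (.node [] (.node [(58, (-1), 1, 1)] .nil (.node [(126, 1, 1, 1)] .nil .nil)) (.node [(70, (-1), 1, 1)] (.node [(97, 1, 1, 1)] .nil .nil) (.node [] (.node [(202, 1, 1, 1)] .nil .nil) .nil)))) (.node [] (.node [(31, (-1), 1, 1)] (.node [] .nil (.node [(114, 1, 1, 1)] .nil .nil)) (.node [(68,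 1, 1, 1)] (.node [(95, (-1), 1, 1)] .nil .nil) .nil)) (.node [] (.node [(62, 1, 1, 1)] .nil (.node [] (.node [(188, (-1), 1, 1)] .nil .nil) .nil)) (.node [] (.node [(98, 1, 1, 1)] .nil .nil) (.node [(138, (-1), 1, 1)] .nil .nil))))) (.node [] (.node [] (.node [] .nil (.node [(66, 1, 1, 1)] (.node [(93, (-1), 1, 1)] (.node [(157, 1, 1, 1)] .nil .nil) (.node [(221, 1, 1, 1)] .nil .nil)) (.node [(136, (-1), 1, 1)] (.node [(196, (-1), 1, 1)] .nil .nil) .nil))) (.node [] (.node [] .nil (.node [] (.node [(184, 1, 1, 1)] .nil .nil) (.node [(236, 1, 1, 1)] .nil .nil))) (.node [] (.node [] .nil (.node [(224, (-1), 1, 1)] .nil .nil)) .nil))) (.node [] (.node [] (.node [(56, (-1), 1, 1)] .nil (.node [(116, 1, 1, 1)] .nil (.node [(232, 1, 1, 1)] .nil .nil))) (.node [] (.node [] .nil (.node [(223, (-1), 1, 1)] .nil .nil)) (.node [] (.node [(200, 1, 1, 1)] .nil .nil) .nil))) (.node [] (.node [(64, 1, 1, 1)] (.node [] (.node [(148, (-1), 1, 1)] .nil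 .nil) .nil) (.node [] (.node [(190, (-1), 1, 1)] .nil .nil) .nil)) (.node [] .nil (.node [(140, (-1), 1, 1)] .nil .nil)))))) (.node [] (.node [] (.node [] (.node [(26, 1, 1, 1)] .nil (.node [] (.node [] (.node [(156, 1, 1, 1)] .nil .nil) (.node [(220, 1, 1, 1)] .nil .nil)) (.node [] (.node [(195, (-1), 1, 1)] .nil .nil) .nil))) (.node [] (.node [] .nil (.node [(131, 1, 1, 1)] .nil .nil)) .nil)) (.node [] (.node [(32, (-1), 1, 1)] (.node [] .nil (.node [(115, 1, 1, 1)] .nil .nil)) .nil) (.node [] (.node [(63, 1, 1, 1)] .nil (.node [(135, (-1), 1, 1)] (.node [(189, (-1), 1, 1)] .nil .nil) .nil)) (.node [] .nil (.node [(139, (-1), 1, 1)] .nil .nil))))) (.node [] (.node [] (.node [(30, (-1), 1, 1)] (.node [] .nil (.node [] (.node [(165, 1, 1, 1)] .nil .nil) .nil)) (.node [(67, 1, 1, 1)] (.node [(94, (-1), 1, 1)] (.node [(158, 1, 1, 1)] .nil .nil) .nil) .nil)) (.node [] (.node [] (.node [(77, (-1), 1, 1)] .nil .nil) .nil) .nil)) (.node []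 (.node [] (.node [(57, (-1), 1, 1)] .nil .nil) (.node [] .nil (.node [] (.node [(201, 1, 1, 1)] .nil .nil) .nil))) (.node [] (.node [] (.node [] (.node [(152, (-1), 1, 1)] .nil .nil) .nil) .nil) .nil)))))
def C137 : List (ℕ × List (ℕ × ℤ)) := [(3, [(6, (-1))]), (7, [(10, (-1))]), (15, [(22, 1)]), (16, [(26, 1)]), (18, [(30, (-1))]), (19, [(31, (-1))]), (20, [(32, (-1))]), (37, [(56, (-1))]), (38, [(57, (-1))]), (39, [(58, (-1))]), (43, [(62, 1)]), (44, [(63, 1)]), (45, [(64, 1)]), (49, [(66, 1)]), (50, [(67, 1)]), (51, [(68, 1)]), (55, [(70, (-1))]), (74, [(77, (-1))]), (81, [(93, (-1))]), (82, [(94, (-1))]), (83, [(95, (-1))]), (87, [(97, 1)]), (91, [(98, 1)]), (99, [(114, 1)]), (100, [(115, 1)]), (101, [(116, 1)]), (103, [(126, 1)]), (104, [(131, 1)]), (108, [(135, (-1))]), (113, [(136, (-1))]), (123, [(138, (-1))]), (124, [(139, (-1))]), (125, [(140, (-1))]), (141, [(148, (-1))]), (142, [(152, (-1))]), (144, [(156, 1)]), (145, [(157,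 1)]), (146, [(158, 1)]), (162, [(165, 1)]), (169, [(184, 1)]), (171, [(188, (-1))]), (172, [(189, (-1))]), (173, [(190, (-1))]), (175, [(194, (-1))]), (176, [(195, (-1))]), (177, [(196, (-1))]), (181, [(200, 1)]), (182, [(201, 1)]), (183, [(202, 1)]), (207, [(219, 1)]), (208, [(220, 1)]), (209, [(221, 1)]), (213, [(223, (-1))]), (217, [(224, (-1))]), (229, [(232, 1)]), (233, [(236, 1)])]
def M138 : Tr (List (ℕ × ℤ × ℕ × ℕ)) := (.node [] (.node [] (.node [] (.node [(11, 1, 1, 1)] (.node [(23, (-1), 1, 1)] .nil (.node [(66, 1, 1, 1)] (.node [(93, (-1), 1, 1)] (.node [(156, (-1), 1, 1)] .nil .nil) .nil) .nil)) (.node [] (.node [(60, 1, 1, 1)] .nil (.node [(127, 1, 1, 1)] .nil .nil)) (.node [] .nil (.node [] (.node [(203, 1, 1, 1)] .nil .nil) .nil)))) (.node [] (.node [(33, 1, 1, 1)] (.node [] .nil (.node [(117, 1, 1, 1)] .nil .nil)) (.node [(69, (-1), 1, 1)] (.node [(96, 1, 1, 1)] .nil .nil) (.node [] (.node [(200, (-1), 1, 1)] .nil .nil)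 .nil))) (.node [] (.node [] .nil (.node [(135, (-1), 1, 1)] .nil .nil)) .nil))) (.node [] (.node [] (.node [(30, (-1), 1, 1)] .nil (.node [] (.node [] (.node [(159, 1, 1, 1)] .nil .nil) (.node [(222, 1, 1, 1)] .nil .nil)) (.node [] (.node [(198, (-1), 1, 1)] .nil .nil) .nil))) (.node [] (.node [(62, 1, 1, 1)] (.node [(77, (-1), 1, 1)] .nil .nil) (.node [] (.node [(185, 1, 1, 1)] .nil .nil) (.node [(237, 1, 1, 1)] .nil .nil))) (.node [] .nil (.node [(139, (-1), 1, 1)] .nil .nil)))) (.node [] .nil (.node [] (.node [(65, (-1), 1, 1)] (.node [] (.node [(149, (-1), 1, 1)] .nil .nil) (.node [(219, (-1), 1, 1)] .nil .nil)) (.node [] (.node [(192, (-1), 1, 1)] .nil .nil) .nil)) .nil)))) (.node [(6, (-1), 1, 1)] (.node [] (.node [] (.node [(27, (-1), 1, 1)] .nil (.node [(67, 1, 1, 1)] (.node [(94, (-1), 1, 1)] .nil .nil) (.node [(136, (-1), 1, 1)] (.node [(197, (-1), 1, 1)] .nil .nil) .nil))) (.node [] (.node [] .nil (.node [(132, 1, 1, 1)] .nil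 .nil)) (.node [] (.node [] .nil (.node [(224, 1, 1, 1)] .nil .nil)) .nil))) (.node [] (.node [(34, 1, 1, 1)] (.node [(56, (-1), 1, 1)] .nil (.node [(118, 1, 1, 1)] .nil (.node [(232, (-1), 1, 1)] .nil .nil))) (.node [] (.node [] .nil (.node [(223, 1, 1, 1)] .nil .nil)) (.node [(137, (-1), 1, 1)] (.node [(201, (-1), 1, 1)] .nil .nil) .nil))) (.node [] (.node [] .nil (.node [] (.node [(191, (-1), 1, 1)] .nil .nil) .nil)) .nil))) (.node [] (.node [] (.node [] (.node [] .nil (.node [] (.node [(166, 1, 1, 1)] .nil .nil) .nil)) (.node [] (.node [] (.node [(160, 1, 1, 1)] .nil .nil) .nil) .nil)) (.node [] (.node [(63, 1, 1, 1)] .nil (.node [] (.node [(188, 1, 1, 1)] .nil .nil) .nil)) (.node [] (.node [(98, 1, 1, 1)] .nil .nil) (.node [(140, (-1), 1, 1)] .nil .nil)))) (.node [] (.node [] (.node [(59, 1, 1, 1)] .nil (.node [(123, 1, 1, 1)] .nil .nil)) (.node [(70, (-1), 1, 1)] (.node [(97, 1, 1, 1)] .nil .nil) .nil)) (.node [] (.node [] (.node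 [] (.node [(153, (-1), 1, 1)] .nil .nil) (.node [(220, (-1), 1, 1)] .nil .nil)) (.node [] (.node [(194, 1, 1, 1)] .nil .nil) .nil)) .nil)))))
def C138 : List (ℕ × List (ℕ × ℤ)) := [(2, [(6, (-1))]), (7, [(11, 1)]), (15, [(23, (-1))]), (16, [(27, (-1))]), (17, [(30, (-1))]), (19, [(33, 1)]), (20, [(34, 1)]), (36, [(56, (-1))]), (38, [(59, 1)]), (39, [(60, 1)]), (41, [(62, 1)]), (42, [(63, 1)]), (45, [(65, (-1))]), (47, [(66, 1)]), (48, [(67, 1)]), (51, [(69, (-1))]), (54, [(70, (-1))]), (73, [(77, (-1))]), (79, [(93, (-1))]), (80, [(94, (-1))]), (83, [(96, 1)]), (86, [(97, 1)]), (90, [(98, 1)]), (99, [(117, 1)]), (100, [(118, 1)]), (102, [(123, 1)]), (103, [(127, 1)]), (104, [(132, 1)]), (107, [(135, (-1))]), (112, [(136, (-1))]), (116, [(137, (-1))]), (121, [(139, (-1))]), (122, [(140, (-1))]), (141, [(149, (-1))]), (142, [(153, (-1))]), (143, [(156, (-1))]), (145, [(159, 1)]), (146, [(160, 1)]), (162, [(166, 1)]), (169, [(185, 1)]),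 (170, [(188, 1)]), (172, [(191, (-1))]), (173, [(192, (-1))]), (174, [(194, 1)]), (176, [(197, (-1))]), (177, [(198, (-1))]), (179, [(200, (-1))]), (180, [(201, (-1))]), (183, [(203, 1)]), (205, [(219, (-1))]), (206, [(220, (-1))]), (209, [(222, 1)]), (212, [(223, 1)]), (216, [(224, 1)]), (228, [(232, (-1))]), (233, [(237, 1)])]
def M139 : Tr (List (ℕ × ℤ × ℕ × ℕ)) := (.node [] (.node [(6, (-1), 1, 1)] (.node [] (.node [(12, (-1), 1, 1)] (.node [(24, 1, 1, 1)] .nil (.node [] (.node [] (.node [(157, (-1), 1, 1)] .nil .nil) .nil) (.node [(136, (-1), 1, 1)] (.node [(197, 1, 1, 1)] .nil .nil) .nil))) (.node [] (.node [(61, (-1), 1, 1)] .nil (.node [(128, 1, 1, 1)] .nil .nil)) (.node [] (.node [] .nil (.node [(224, (-1), 1, 1)] .nil .nil)) .nil))) (.node [] (.node [] (.node [] .nil (.node [(119, 1, 1, 1)] .nil (.node [(232, 1, 1, 1)] .nil .nil))) (.node [] (.node [] .nil (.node [(223, (-1), 1, 1)] .nil .nil)) (.node [(137, (-1), 1, 1)] .nil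 .nil))) (.node [] (.node [] .nil (.node [] (.node [(191, 1, 1, 1)] .nil .nil) .nil)) .nil))) (.node [] (.node [] (.node [(31, 1, 1, 1)] .nil (.node [] .nil (.node [] (.node [(199, (-1), 1, 1)] .nil .nil) .nil))) (.node [] (.node [] .nil (.node [] (.node [(186, 1, 1, 1)] .nil .nil) (.node [(238, 1, 1, 1)] .nil .nil))) (.node [] (.node [(98, 1, 1, 1)] .nil .nil) .nil))) (.node [] (.node [] (.node [(59, 1, 1, 1)] .nil (.node [(121, 1, 1, 1)] .nil .nil)) (.node [(70, (-1), 1, 1)] (.node [(97, 1, 1, 1)] .nil .nil) .nil)) (.node [] (.node [] (.node [] (.node [(150, (-1), 1, 1)] .nil .nil) .nil) (.node [] (.node [(193, (-1), 1, 1)] .nil .nil) .nil)) .nil)))) (.node [] (.node [] (.node [] (.node [(28, 1, 1, 1)] .nil (.node [(68, (-1), 1, 1)] (.node [(95, 1, 1, 1)] (.node [(159, (-1), 1, 1)] .nil .nil) (.node [(222, (-1), 1, 1)] .nil .nil)) .nil)) (.node [] (.node [(62, 1, 1, 1)] (.node [(77, (-1), 1, 1)] .nil .nil) (.node [(133, 1, 1, 1)] .nil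 .nil)) (.node [] .nil (.node [(140, (-1), 1, 1)] .nil .nil)))) (.node [] (.node [(35, (-1), 1, 1)] (.node [(57, 1, 1, 1)] .nil .nil) (.node [] .nil (.node [] (.node [(202, (-1), 1, 1)] .nil .nil) .nil))) (.node [] (.node [(65, (-1), 1, 1)] (.node [] .nil (.node [(219, 1, 1, 1)] .nil .nil)) .nil) .nil))) (.node [] (.node [] (.node [(33, 1, 1, 1)] (.node [] .nil (.node [] (.node [(167, 1, 1, 1)] .nil .nil) .nil)) (.node [(69, (-1), 1, 1)] (.node [(96, 1, 1, 1)] (.node [(161, 1, 1, 1)] .nil .nil) .nil) (.node [] (.node [(200, 1, 1, 1)] .nil .nil) .nil))) (.node [] (.node [(64, (-1), 1, 1)] .nil (.node [(135, (-1), 1, 1)] (.node [(189, 1, 1, 1)] .nil .nil) .nil)) .nil)) (.node [] (.node [] (.node [] .nil (.node [(124, 1, 1, 1)] .nil .nil)) (.node [] .nil (.node [(138, (-1), 1, 1)] (.node [(203, (-1), 1, 1)] .nil .nil) .nil))) (.node [] (.node [(66, 1, 1, 1)] (.node [(93, (-1), 1, 1)] (.node [(154, (-1), 1, 1)] .nil .nil) (.node [(221, (-1),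 1, 1)] .nil .nil)) (.node [] (.node [(195, 1, 1, 1)] .nil .nil) .nil)) .nil)))))
def C139 : List (ℕ × List (ℕ × ℤ)) := [(1, [(6, (-1))]), (7, [(12, (-1))]), (15, [(24, 1)]), (16, [(28, 1)]), (17, [(31, 1)]), (18, [(33, 1)]), (20, [(35, (-1))]), (36, [(57, 1)]), (37, [(59, 1)]), (39, [(61, (-1))]), (40, [(62, 1)]), (42, [(64, (-1))]), (44, [(65, (-1))]), (46, [(66, 1)]), (48, [(68, (-1))]), (50, [(69, (-1))]), (53, [(70, (-1))]), (72, [(77, (-1))]), (78, [(93, (-1))]), (80, [(95, 1)]), (82, [(96, 1)]), (85, [(97, 1)]), (89, [(98, 1)]), (99, [(119, 1)]), (101, [(121, 1)]), (102, [(124, 1)]), (103, [(128, 1)]), (104, [(133, 1)]), (106, [(135, (-1))]), (111, [(136, (-1))]), (115, [(137, (-1))]), (118, [(138, (-1))]), (120, [(140, (-1))]), (141, [(150, (-1))]), (142, [(154, (-1))]), (143, [(157, (-1))]), (144, [(159, (-1))]), (146, [(161, 1)]), (162, [(167, 1)]), (169, [(186, 1)]), (170, [(189, 1)]), (171, [(191, 1)]), (173, [(193, (-1))]),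 (174, [(195, 1)]), (175, [(197, 1)]), (177, [(199, (-1))]), (178, [(200, 1)]), (180, [(202, (-1))]), (182, [(203, (-1))]), (204, [(219, 1)]), (206, [(221, (-1))]), (208, [(222, (-1))]), (211, [(223, (-1))]), (215, [(224, (-1))]), (227, [(232, 1)]), (233, [(238, 1)])]
def M140 : Tr (List (ℕ × ℤ × ℕ × ℕ)) := (.node [(6, (-1), 1, 1)] (.node [] (.node [] (.node [(13, 1, 1, 1)] (.node [(25, (-1), 1, 1)] .nil (.node [(68, (-1), 1, 1)] (.node [(95, 1, 1, 1)] (.node [(158, (-1), 1, 1)] .nil .nil) (.node [(222, 1, 1, 1)] .nil .nil)) (.node [] (.node [(198, 1, 1, 1)] .nil .nil) .nil))) (.node [] (.node [] (.node [(77, (-1), 1, 1)] .nil .nil) (.node [(129, 1, 1, 1)] .nil .nil)) (.node [] .nil (.node [(139, (-1), 1, 1)] .nil .nil)))) (.node [] (.node [(35, (-1), 1, 1)] .nil (.node [] .nil (.node [] (.node [(202, 1, 1, 1)] .nil .nil) .nil))) (.node [] (.node [(65, (-1), 1, 1)] .nil (.node [] (.node [(192, 1, 1, 1)] .nil .nil) .nil)) .nil))) (.node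 [] (.node [] (.node [(32, (-1), 1, 1)] .nil (.node [(69, (-1), 1, 1)] (.node [(96, 1, 1, 1)] (.node [(161, (-1), 1, 1)] .nil .nil) .nil) .nil)) (.node [] (.node [(64, (-1), 1, 1)] .nil (.node [(135, (-1), 1, 1)] (.node [(187, 1, 1, 1)] .nil .nil) (.node [(239, 1, 1, 1)] .nil .nil))) .nil)) (.node [] (.node [] (.node [(60, (-1), 1, 1)] .nil (.node [(122, 1, 1, 1)] .nil .nil)) (.node [] .nil (.node [(138, (-1), 1, 1)] (.node [(203, 1, 1, 1)] .nil .nil) .nil))) (.node [] (.node [] (.node [] (.node [(151, (-1), 1, 1)] .nil .nil) (.node [(221, 1, 1, 1)] .nil .nil)) .nil) .nil)))) (.node [] (.node [] (.node [] (.node [(29, (-1), 1, 1)] .nil (.node [] (.node [] (.node [(160, (-1), 1, 1)] .nil .nil) .nil) (.node [] (.node [(199, 1, 1, 1)] .nil .nil) .nil))) (.node [] (.node [(63, (-1), 1, 1)] .nil (.node [(134, 1, 1, 1)] .nil .nil)) (.node [] (.node [(98, 1, 1, 1)] .nil .nil) .nil))) (.node [] (.node [] (.node [(58, (-1), 1, 1)] .nil (.node [(120,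 1, 1, 1)] .nil .nil)) (.node [(70, (-1), 1, 1)] (.node [(97, 1, 1, 1)] .nil .nil) .nil)) (.node [] (.node [] (.node [] .nil (.node [(220, 1, 1, 1)] .nil .nil)) (.node [] (.node [(193, 1, 1, 1)] .nil .nil) .nil)) .nil))) (.node [] (.node [] (.node [(34, (-1), 1, 1)] (.node [] .nil (.node [] (.node [(168, 1, 1, 1)] .nil .nil) (.node [(232, (-1), 1, 1)] .nil .nil))) (.node [] (.node [] .nil (.node [(223, 1, 1, 1)] .nil .nil)) (.node [(137, (-1), 1, 1)] (.node [(201, 1, 1, 1)] .nil .nil) .nil))) (.node [] (.node [] .nil (.node [] (.node [(190, 1, 1, 1)] .nil .nil) .nil)) .nil)) (.node [] (.node [] (.node [(61, (-1), 1, 1)] .nil (.node [(125, 1, 1, 1)] .nil .nil)) (.node [] (.node [] .nil (.node [(224, 1, 1, 1)] .nil .nil)) .nil)) (.node [] (.node [(67, (-1), 1, 1)] (.node [(94, 1, 1, 1)] (.node [(155, (-1), 1, 1)] .nil .nil) .nil) (.node [(136, (-1), 1, 1)] (.node [(196, 1, 1, 1)] .nil .nil) .nil)) .nil)))))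
def C140 : List (ℕ × List (ℕ × ℤ)) := [(0, [(6, (-1))]), (7, [(13, 1)]), (15, [(25, (-1))]), (16, [(29, (-1))]), (17, [(32, (-1))]), (18, [(34, (-1))]), (19, [(35, (-1))]), (36, [(58, (-1))]), (37, [(60, (-1))]), (38, [(61, (-1))]), (40, [(63, (-1))]), (41, [(64, (-1))]), (43, [(65, (-1))]), (46, [(67, (-1))]), (47, [(68, (-1))]), (49, [(69, (-1))]), (52, [(70, (-1))]), (71, [(77, (-1))]), (78, [(94, 1)]), (79, [(95, 1)]), (81, [(96, 1)]), (84, [(97, 1)]), (88, [(98, 1)]), (100, [(120, 1)]), (101, [(122, 1)]), (102, [(125, 1)]), (103, [(129, 1)]), (104, [(134, 1)]), (105, [(135, (-1))]), (110, [(136, (-1))]), (114, [(137, (-1))]), (117, [(138, (-1))]), (119, [(139, (-1))]), (141, [(151, (-1))]), (142, [(155, (-1))]), (143, [(158, (-1))]), (144, [(160, (-1))]), (145, [(161, (-1))]), (162, [(168, 1)]), (169, [(187, 1)]), (170, [(190, 1)]), (171, [(192, 1)]), (172, [(193, 1)]), (174, [(196, 1)]), (175, [(198, 1)]), (176, [(199, 1)]), (178,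 [(201, 1)]), (179, [(202, 1)]), (181, [(203, 1)]), (204, [(220, 1)]), (205, [(221, 1)]), (207, [(222, 1)]), (210, [(223, 1)]), (214, [(224, 1)]), (226, [(232, (-1))]), (233, [(239, 1)])]
def M141 : Tr (List (ℕ × ℤ × ℕ × ℕ)) := (.node [] (.node [] (.node [] (.node [] (.node [] (.node [(41, (-1), 1, 1)] .nil (.node [(107, 1, 1, 1)] .nil .nil)) .nil) (.node [] (.node [] (.node [] .nil (.node [(209, 1, 1, 1)] .nil .nil)) (.node [] (.node [(172, 1, 1, 1)] .nil .nil) (.node [(233, 1, 1, 1)] .nil .nil))) .nil)) (.node [] (.node [] (.node [(45, (-1), 1, 1)] (.node [(72, (-1), 1, 1)] (.node [(143, (-1), 1, 1)] .nil .nil) (.node [(205, 1, 1, 1)] .nil .nil)) .nil) .nil) (.node [(37, (-1), 1, 1)] (.node [] (.node [] (.node [(150, 1, 1, 1)] .nil .nil) (.node [(213, 1, 1, 1)] .nil .nil)) .nil) (.node [] (.node [(102, (-1), 1, 1)] .nil .nil) .nil)))) (.node [(7, (-1), 1, 1)] (.node [] (.node [] (.node [(43, (-1), 1, 1)] .nil (.node [(109, 1, 1, 1)]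 .nil .nil)) .nil) (.node [] (.node [] (.node [] (.node [(148, 1, 1, 1)] .nil .nil) (.node [(211, 1, 1, 1)] .nil .nil)) .nil) (.node [] (.node [(100, (-1), 1, 1)] .nil .nil) .nil))) (.node [] (.node [] (.node [] (.node [(74, (-1), 1, 1)] (.node [(145, (-1), 1, 1)] .nil .nil) (.node [(207, 1, 1, 1)] .nil .nil)) (.node [] (.node [(170, 1, 1, 1)] .nil .nil) .nil)) .nil) (.node [(39, (-1), 1, 1)] .nil (.node [] (.node [(105, 1, 1, 1)] .nil .nil) .nil))))) (.node [] (.node [] (.node [] (.node [] (.node [(42, (-1), 1, 1)] .nil (.node [(108, 1, 1, 1)] .nil (.node [(225, 1, 1, 1)] .nil .nil))) .nil) (.node [] (.node [] (.node [] (.node [(147, 1, 1, 1)] .nil .nil) (.node [(210, 1, 1, 1)] .nil .nil)) (.node [] (.node [(173, 1, 1, 1)] .nil .nil) (.node [(234, 1, 1, 1)] .nil .nil))) (.node [] (.node [(99, (-1), 1, 1)] .nil .nil) .nil))) (.node [] (.node [] (.node [] (.node [(73, (-1), 1, 1)] (.node [(144, (-1), 1, 1)] .nil .nil) (.node [(206, 1, 1,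 1)] .nil .nil)) (.node [] (.node [(169, 1, 1, 1)] .nil .nil) .nil)) .nil) (.node [(38, (-1), 1, 1)] (.node [] (.node [] (.node [(151, 1, 1, 1)] .nil .nil) .nil) .nil) (.node [] (.node [(103, (-1), 1, 1)] .nil .nil) .nil)))) (.node [(8, (-1), 1, 1)] (.node [] (.node [] (.node [(44, (-1), 1, 1)] (.node [(71, (-1), 1, 1)] (.node [(142, (-1), 1, 1)] .nil .nil) (.node [(204, 1, 1, 1)] .nil .nil)) .nil) .nil) (.node [(36, (-1), 1, 1)] (.node [] (.node [] (.node [(149, 1, 1, 1)] .nil .nil) (.node [(212, 1, 1, 1)] .nil .nil)) .nil) (.node [] (.node [(101, (-1), 1, 1)] .nil .nil) .nil))) (.node [(15, (-1), 1, 1)] (.node [] (.node [] (.node [(75, (-1), 1, 1)] (.node [(146, (-1), 1, 1)] .nil .nil) (.node [(208, 1, 1, 1)] .nil .nil)) (.node [] (.node [(171, 1, 1, 1)] .nil .nil) .nil)) .nil) (.node [(40, (-1), 1, 1)] .nil (.node [] (.node [(106, 1, 1, 1)] .nil .nil) .nil))))))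
def C141 : List (ℕ × List (ℕ × ℤ)) := [(5, [(7, (-1))]), (6, [(8, (-1))]), (14, [(15, (-1))]), (26, [(36, (-1))]), (27, [(37, (-1))]), (28, [(38, (-1))]), (29, [(39, (-1))]), (30, [(40, (-1))]), (31, [(41, (-1))]), (32, [(42, (-1))]), (33, [(43, (-1))]), (34, [(44, (-1))]), (35, [(45, (-1))]), (66, [(71, (-1))]), (67, [(72, (-1))]), (68, [(73, (-1))]), (69, [(74, (-1))]), (70, [(75, (-1))]), (88, [(99, (-1))]), (89, [(100, (-1))]), (90, [(101, (-1))]), (91, [(102, (-1))]), (92, [(103, (-1))]), (93, [(105, 1)]), (94, [(106, 1)]), (95, [(107, 1)]), (96, [(108, 1)]), (97, [(109, 1)]), (130, [(142, (-1))]), (131, [(143, (-1))]), (132, [(144, (-1))]), (133, [(145, (-1))]), (134, [(146, (-1))]), (136, [(147, 1)]), (137, [(148, 1)]), (138, [(149, 1)]), (139, [(150, 1)]), (140, [(151, 1)]), (164, [(169, 1)]), (165, [(170, 1)]), (166, [(171, 1)]), (167, [(172, 1)]), (168, [(173, 1)]), (194, [(204, 1)]), (195, [(205, 1)]), (196, [(206, 1)]), (197,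 [(207, 1)]), (198, [(208, 1)]), (199, [(209, 1)]), (200, [(210, 1)]), (201, [(211, 1)]), (202, [(212, 1)]), (203, [(213, 1)]), (224, [(225, 1)]), (231, [(233, 1)]), (232, [(234, 1)])]
def M142 : Tr (List (ℕ × ℤ × ℕ × ℕ)) := (.node [] (.node [] (.node [] (.node [] (.node [] (.node [(47, 1, 1, 1)] (.node [(72, (-1), 1, 1)] (.node [(144, (-1), 1, 1)] .nil .nil) (.node [(207, (-1), 1, 1)] .nil .nil)) (.node [(112, 1, 1, 1)] .nil (.node [(225, (-1), 1, 1)] .nil .nil))) .nil) (.node [(37, (-1), 1, 1)] (.node [] (.node [] (.node [(147, (-1), 1, 1)] .nil .nil) .nil) (.node [] (.node [(176, 1, 1, 1)] .nil .nil) .nil)) (.node [] (.node [(102, (-1), 1, 1)] .nil .nil) .nil))) (.node [] (.node [] (.node [(51, 1, 1, 1)] .nil (.node [] (.node [(169, (-1), 1, 1)] .nil .nil) .nil)) .nil) (.node [] (.node [] (.node [] (.node [(154, 1, 1, 1)] .nil .nil) (.node [(217, 1, 1, 1)] .nil .nil)) .nil) .nil))) (.node [] (.node [] (.node [] (.node [(49, 1, 1, 1)]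 (.node [(74, (-1), 1, 1)] (.node [(146, (-1), 1, 1)] .nil .nil) (.node [(209, (-1), 1, 1)] .nil .nil)) .nil) .nil) (.node [(39, (-1), 1, 1)] (.node [] (.node [] (.node [(152, 1, 1, 1)] .nil .nil) (.node [(215, 1, 1, 1)] .nil .nil)) .nil) .nil)) (.node [] (.node [] (.node [] .nil (.node [] (.node [(174, 1, 1, 1)] .nil .nil) .nil)) (.node [] (.node [(100, (-1), 1, 1)] .nil .nil) .nil)) (.node [] (.node [] .nil (.node [(141, (-1), 1, 1)] .nil .nil)) (.node [] (.node [(110, 1, 1, 1)] .nil .nil) (.node [] (.node [(205, (-1), 1, 1)] .nil .nil) .nil)))))) (.node [] (.node [(7, (-1), 1, 1)] (.node [] (.node [] (.node [(48, 1, 1, 1)] (.node [(73, (-1), 1, 1)] (.node [(145, (-1), 1, 1)] .nil .nil) (.node [(208, (-1), 1, 1)] .nil .nil)) (.node [(113, 1, 1, 1)] .nil .nil)) .nil) (.node [(38, (-1), 1, 1)] (.node [] (.node [] .nil (.node [(214, 1, 1, 1)] .nil .nil)) (.node [] (.node [(177, 1, 1, 1)] .nil .nil) (.node [(235, 1, 1, 1)] .nil .nil))) .nil))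 (.node [] (.node [] .nil (.node [] (.node [(99, (-1), 1, 1)] .nil .nil) .nil)) (.node [] (.node [] (.node [] (.node [(155, 1, 1, 1)] .nil .nil) .nil) .nil) (.node [] (.node [(104, 1, 1, 1)] .nil .nil) (.node [] (.node [(204, (-1), 1, 1)] .nil .nil) .nil))))) (.node [(9, 1, 1, 1)] (.node [] (.node [] (.node [(50, 1, 1, 1)] .nil (.node [(130, 1, 1, 1)] .nil .nil)) .nil) (.node [] (.node [] (.node [] (.node [(153, 1, 1, 1)] .nil .nil) (.node [(216, 1, 1, 1)] .nil .nil)) .nil) .nil)) (.node [(16, 1, 1, 1)] (.node [(36, (-1), 1, 1)] (.node [] (.node [(76, 1, 1, 1)] .nil .nil) (.node [] (.node [(175, 1, 1, 1)] .nil .nil) (.node [(233, (-1), 1, 1)] .nil .nil))) (.node [] (.node [(101, (-1), 1, 1)] .nil .nil) .nil)) (.node [(46, 1, 1, 1)] .nil (.node [(71, (-1), 1, 1)] (.node [(111, 1, 1, 1)] .nil .nil) (.node [(143, (-1), 1, 1)] (.node [(206, (-1), 1, 1)] .nil .nil) .nil)))))))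
def C142 : List (ℕ × List (ℕ × ℤ)) := [(4, [(7, (-1))]), (6, [(9, 1)]), (14, [(16, 1)]), (22, [(36, (-1))]), (23, [(37, (-1))]), (24, [(38, (-1))]), (25, [(39, (-1))]), (30, [(46, 1)]), (31, [(47, 1)]), (32, [(48, 1)]), (33, [(49, 1)]), (34, [(50, 1)]), (35, [(51, 1)]), (62, [(71, (-1))]), (63, [(72, (-1))]), (64, [(73, (-1))]), (65, [(74, (-1))]), (70, [(76, 1)]), (84, [(99, (-1))]), (85, [(100, (-1))]), (86, [(101, (-1))]), (87, [(102, (-1))]), (92, [(104, 1)]), (93, [(110, 1)]), (94, [(111, 1)]), (95, [(112, 1)]), (96, [(113, 1)]), (98, [(130, 1)]), (109, [(141, (-1))]), (126, [(143, (-1))]), (127, [(144, (-1))]), (128, [(145, (-1))]), (129, [(146, (-1))]), (135, [(147, (-1))]), (137, [(152, 1)]), (138, [(153, 1)]), (139, [(154, 1)]), (140, [(155, 1)]), (163, [(169, (-1))]), (165, [(174, 1)]), (166, [(175, 1)]), (167, [(176, 1)]), (168, [(177, 1)]), (188, [(204, (-1))]), (189, [(205, (-1))]), (190, [(206, (-1))]), (191, [(207, (-1))]),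 (192, [(208, (-1))]), (193, [(209, (-1))]), (200, [(214, 1)]), (201, [(215, 1)]), (202, [(216, 1)]), (203, [(217, 1)]), (223, [(225, (-1))]), (230, [(233, (-1))]), (232, [(235, 1)])]
def M143 : Tr (List (ℕ × ℤ × ℕ × ℕ)) := (.node [] (.node [] (.node [(7, (-1), 1, 1)] (.node [] (.node [] (.node [] (.node [] .nil (.node [(210, (-1), 1, 1)] .nil .nil)) (.node [(116, 1, 1, 1)] .nil .nil)) .nil) (.node [(40, 1, 1, 1)] (.node [] (.node [] (.node [(148, (-1), 1, 1)] .nil .nil) (.node [(216, (-1), 1, 1)] .nil .nil)) (.node [] (.node [(179, 1, 1, 1)] .nil .nil) .nil)) (.node [] (.node [(103, 1, 1, 1)] .nil .nil) .nil))) (.node [] (.node [] (.node [(54, (-1), 1, 1)] .nil (.node [] (.node [(170, (-1), 1, 1)] .nil .nil) .nil)) (.node [] (.node [(101, (-1), 1, 1)] .nil .nil) .nil)) (.node [(46, 1, 1, 1)] (.node [] (.node [] (.node [(157, 1, 1, 1)] .nil .nil) (.node [(218, 1, 1, 1)] .nil .nil)) .nil) (.node [(71, (-1), 1, 1)] (.node [(104, 1, 1, 1)]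 .nil .nil) (.node [(144, (-1), 1, 1)] (.node [(206, 1, 1, 1)] .nil .nil) .nil))))) (.node [] (.node [] (.node [] (.node [(52, (-1), 1, 1)] (.node [(75, 1, 1, 1)] .nil (.node [(212, (-1), 1, 1)] .nil .nil)) (.node [(126, 1, 1, 1)] .nil .nil)) (.node [] (.node [(99, (-1), 1, 1)] .nil .nil) (.node [(142, (-1), 1, 1)] .nil .nil))) (.node [(42, 1, 1, 1)] .nil (.node [] .nil (.node [] (.node [(204, 1, 1, 1)] .nil .nil) .nil)))) (.node [] (.node [(36, (-1), 1, 1)] (.node [] (.node [(76, 1, 1, 1)] .nil (.node [(214, (-1), 1, 1)] .nil .nil)) (.node [] .nil (.node [(233, 1, 1, 1)] .nil .nil))) .nil) (.node [(48, 1, 1, 1)] .nil (.node [(73, (-1), 1, 1)] (.node [(114, 1, 1, 1)] .nil .nil) (.node [(146, (-1), 1, 1)] .nil .nil)))))) (.node [] (.node [] (.node [] (.node [] (.node [] (.node [] .nil (.node [(211, (-1), 1, 1)] .nil .nil)) .nil) .nil) (.node [(41, 1, 1, 1)] (.node [] (.node [] (.node [(152, (-1), 1, 1)] .nil .nil) .nil) (.node [] (.node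 [(180, 1, 1, 1)] .nil .nil) (.node [(236, 1, 1, 1)] .nil .nil))) .nil)) (.node [] (.node [] (.node [] .nil (.node [] (.node [(174, (-1), 1, 1)] .nil .nil) .nil)) .nil) (.node [(47, 1, 1, 1)] (.node [] (.node [] (.node [(158, 1, 1, 1)] .nil .nil) .nil) (.node [(141, (-1), 1, 1)] .nil .nil)) (.node [(72, (-1), 1, 1)] .nil (.node [(145, (-1), 1, 1)] .nil .nil))))) (.node [(10, (-1), 1, 1)] (.node [] (.node [] (.node [(53, (-1), 1, 1)] .nil (.node [(131, 1, 1, 1)] .nil .nil)) (.node [] (.node [(100, (-1), 1, 1)] .nil .nil) .nil)) (.node [] (.node [] (.node [] (.node [(156, 1, 1, 1)] .nil .nil) .nil) .nil) (.node [] .nil (.node [] (.node [(205, 1, 1, 1)] .nil .nil) .nil)))) (.node [(17, (-1), 1, 1)] (.node [] (.node [] (.node [] .nil (.node [(215, (-1), 1, 1)] .nil .nil)) (.node [] (.node [(178, 1, 1, 1)] .nil .nil) .nil)) .nil) (.node [] .nil (.node [] (.node [(115, 1, 1, 1)] .nil (.node [(225, 1, 1, 1)] .nil .nil)) .nil))))))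
def C143 : List (ℕ × List (ℕ × ℤ)) := [(3, [(7, (-1))]), (6, [(10, (-1))]), (14, [(17, (-1))]), (21, [(36, (-1))]), (23, [(40, 1)]), (24, [(41, 1)]), (25, [(42, 1)]), (27, [(46, 1)]), (28, [(47, 1)]), (29, [(48, 1)]), (33, [(52, (-1))]), (34, [(53, (-1))]), (35, [(54, (-1))]), (59, [(71, (-1))]), (60, [(72, (-1))]), (61, [(73, (-1))]), (65, [(75, 1)]), (69, [(76, 1)]), (81, [(99, (-1))]), (82, [(100, (-1))]), (83, [(101, (-1))]), (87, [(103, 1)]), (91, [(104, 1)]), (93, [(114, 1)]), (94, [(115, 1)]), (95, [(116, 1)]), (97, [(126, 1)]), (98, [(131, 1)]), (108, [(141, (-1))]), (113, [(142, (-1))]), (123, [(144, (-1))]), (124, [(145, (-1))]), (125, [(146, (-1))]), (135, [(148, (-1))]), (136, [(152, (-1))]), (138, [(156, 1)]), (139, [(157, 1)]), (140, [(158, 1)]), (163, [(170, (-1))]), (164, [(174, (-1))]), (166, [(178, 1)]), (167, [(179, 1)]), (168, [(180, 1)]), (185, [(204, 1)]), (186, [(205, 1)]), (187, [(206, 1)]), (191, [(210, (-1))]),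 (192, [(211, (-1))]), (193, [(212, (-1))]), (197, [(214, (-1))]), (198, [(215, (-1))]), (199, [(216, (-1))]), (203, [(218, 1)]), (222, [(225, 1)]), (229, [(233, 1)]), (232, [(236, 1)])]
def M144 : Tr (List (ℕ × ℤ × ℕ × ℕ)) := (.node [] (.node [] (.node [] (.node [] (.node [] (.node [(52, (-1), 1, 1)] .nil .nil) (.node [] (.node [(99, (-1), 1, 1)] .nil .nil) .nil)) (.node [] (.node [] (.node [] (.node [(149, (-1), 1, 1)] .nil .nil) (.node [(217, (-1), 1, 1)] .nil .nil)) (.node [] (.node [(181, 1, 1, 1)] .nil .nil) .nil)) .nil)) (.node [] (.node [] (.node [(55, 1, 1, 1)] (.node [] .nil (.node [(214, 1, 1, 1)] .nil .nil)) (.node [] (.node [(171, (-1), 1, 1)] .nil .nil) .nil)) (.node [] (.node [(102, 1, 1, 1)] .nil .nil) .nil)) (.node [] (.node [] (.node [] (.node [(159, 1, 1, 1)] .nil .nil) .nil) (.node [(141, (-1), 1, 1)] .nil .nil)) (.node [] .nil (.node [] (.node [(208, 1, 1, 1)] .nil .nil) .nil))))) (.node [] (.node [] (.node [] (.node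 [] (.node [] .nil (.node [(213, (-1), 1, 1)] .nil .nil)) (.node [(127, 1, 1, 1)] .nil .nil)) .nil) (.node [(44, (-1), 1, 1)] (.node [] (.node [] (.node [(156, (-1), 1, 1)] .nil .nil) .nil) .nil) (.node [(71, (-1), 1, 1)] .nil (.node [(145, (-1), 1, 1)] .nil .nil)))) (.node [] (.node [(37, 1, 1, 1)] (.node [] .nil (.node [] (.node [(178, (-1), 1, 1)] .nil .nil) .nil)) .nil) (.node [(50, (-1), 1, 1)] .nil (.node [(74, 1, 1, 1)] (.node [(117, 1, 1, 1)] .nil (.node [(225, (-1), 1, 1)] .nil .nil)) (.node [] (.node [(210, 1, 1, 1)] .nil .nil) .nil)))))) (.node [(7, (-1), 1, 1)] (.node [] (.node [] (.node [] (.node [(53, (-1), 1, 1)] (.node [(75, 1, 1, 1)] .nil .nil) (.node [(123, 1, 1, 1)] .nil .nil)) (.node [] (.node [(100, (-1), 1, 1)] .nil .nil) (.node [(142, (-1), 1, 1)] .nil .nil))) (.node [(43, (-1), 1, 1)] (.node [] (.node [] (.node [(153, (-1), 1, 1)] .nil .nil) .nil) (.node [] (.node [(182, 1, 1, 1)] .nil .nil) (.node [(237, 1, 1,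 1)] .nil .nil))) (.node [] .nil (.node [] (.node [(204, (-1), 1, 1)] .nil .nil) .nil)))) (.node [] (.node [] (.node [] (.node [(76, 1, 1, 1)] .nil (.node [(215, 1, 1, 1)] .nil .nil)) (.node [] (.node [(175, (-1), 1, 1)] .nil .nil) (.node [(233, (-1), 1, 1)] .nil .nil))) (.node [] .nil (.node [(143, (-1), 1, 1)] .nil .nil))) (.node [(49, (-1), 1, 1)] (.node [] (.node [] (.node [(160, 1, 1, 1)] .nil .nil) .nil) .nil) .nil))) (.node [(11, 1, 1, 1)] (.node [] (.node [] (.node [] .nil (.node [(132, 1, 1, 1)] .nil .nil)) .nil) (.node [(46, 1, 1, 1)] (.node [] (.node [] .nil (.node [(218, (-1), 1, 1)] .nil .nil)) .nil) (.node [(72, (-1), 1, 1)] (.node [(104, 1, 1, 1)] .nil .nil) (.node [(146, (-1), 1, 1)] (.node [(207, 1, 1, 1)] .nil .nil) .nil)))) (.node [(18, 1, 1, 1)] (.node [(40, 1, 1, 1)] .nil (.node [] (.node [(103, 1, 1, 1)] .nil .nil) .nil)) (.node [] .nil (.node [] (.node [(118, 1, 1, 1)] .nil .nil) (.node [] (.node [(211, 1, 1, 1)]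 .nil .nil) .nil)))))))
def C144 : List (ℕ × List (ℕ × ℤ)) := [(2, [(7, (-1))]), (6, [(11, 1)]), (14, [(18, 1)]), (21, [(37, 1)]), (22, [(40, 1)]), (24, [(43, (-1))]), (25, [(44, (-1))]), (26, [(46, 1)]), (28, [(49, (-1))]), (29, [(50, (-1))]), (31, [(52, (-1))]), (32, [(53, (-1))]), (35, [(55, 1)]), (57, [(71, (-1))]), (58, [(72, (-1))]), (61, [(74, 1)]), (64, [(75, 1)]), (68, [(76, 1)]), (79, [(99, (-1))]), (80, [(100, (-1))]), (83, [(102, 1)]), (86, [(103, 1)]), (90, [(104, 1)]), (93, [(117, 1)]), (94, [(118, 1)]), (96, [(123, 1)]), (97, [(127, 1)]), (98, [(132, 1)]), (107, [(141, (-1))]), (112, [(142, (-1))]), (116, [(143, (-1))]), (121, [(145, (-1))]), (122, [(146, (-1))]), (135, [(149, (-1))]), (136, [(153, (-1))]), (137, [(156, (-1))]), (139, [(159, 1)]), (140, [(160, 1)]), (163, [(171, (-1))]), (164, [(175, (-1))]), (165, [(178, (-1))]), (167, [(181, 1)]), (168, [(182, 1)]), (184, [(204, (-1))]), (186, [(207, 1)]), (187, [(208,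 1)]), (189, [(210, 1)]), (190, [(211, 1)]), (193, [(213, (-1))]), (195, [(214, 1)]), (196, [(215, 1)]), (199, [(217, (-1))]), (202, [(218, (-1))]), (221, [(225, (-1))]), (228, [(233, (-1))]), (232, [(237, 1)])]
def M145 : Tr (List (ℕ × ℤ × ℕ × ℕ)) := (.node [] (.node [(7, (-1), 1, 1)] (.node [] (.node [] (.node [] (.node [] (.node [(75, 1, 1, 1)] .nil .nil) (.node [(121, 1, 1, 1)] .nil .nil)) (.node [] .nil (.node [(142, (-1), 1, 1)] .nil .nil))) (.node [(43, (-1), 1, 1)] (.node [] (.node [] (.node [(150, (-1), 1, 1)] .nil .nil) .nil) .nil) .nil)) (.node [] (.node [] (.node [] (.node [(76, 1, 1, 1)] .nil .nil) (.node [] (.node [(172, (-1), 1, 1)] .nil .nil) (.node [(233, 1, 1, 1)] .nil .nil))) (.node [] .nil (.node [(143, (-1), 1, 1)] .nil .nil))) (.node [(49, (-1), 1, 1)] .nil (.node [] .nil (.node [] (.node [(209, 1, 1, 1)] .nil .nil) .nil))))) (.node [] (.node [] (.node [] (.node [] .nil (.node [(128, 1, 1, 1)] .nil .nil)) .nil) (.node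 [(45, 1, 1, 1)] (.node [] (.node [] (.node [(157, (-1), 1, 1)] .nil .nil) (.node [(218, 1, 1, 1)] .nil .nil)) .nil) (.node [] (.node [(104, 1, 1, 1)] .nil .nil) (.node [] (.node [(207, (-1), 1, 1)] .nil .nil) .nil)))) (.node [] (.node [(38, (-1), 1, 1)] (.node [] .nil (.node [] (.node [(179, (-1), 1, 1)] .nil .nil) .nil)) (.node [] (.node [(103, 1, 1, 1)] .nil .nil) .nil)) (.node [(51, 1, 1, 1)] .nil (.node [] (.node [(119, 1, 1, 1)] .nil .nil) .nil))))) (.node [] (.node [] (.node [] (.node [] (.node [(54, 1, 1, 1)] (.node [] .nil (.node [(213, 1, 1, 1)] .nil .nil)) (.node [(124, 1, 1, 1)] .nil .nil)) (.node [] (.node [(101, 1, 1, 1)] .nil .nil) .nil)) (.node [] (.node [] (.node [] (.node [(154, (-1), 1, 1)] .nil .nil) .nil) (.node [] (.node [(183, 1, 1, 1)] .nil .nil) (.node [(238, 1, 1, 1)] .nil .nil))) (.node [(71, (-1), 1, 1)] .nil (.node [(146, (-1), 1, 1)] (.node [(205, (-1), 1, 1)] .nil .nil) .nil)))) (.node [] (.node [] (.node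 [] (.node [] .nil (.node [(216, 1, 1, 1)] .nil .nil)) (.node [] (.node [(176, (-1), 1, 1)] .nil .nil) .nil)) .nil) (.node [] (.node [] (.node [] (.node [(161, 1, 1, 1)] .nil .nil) .nil) .nil) (.node [(74, 1, 1, 1)] (.node [] .nil (.node [(225, 1, 1, 1)] .nil .nil)) (.node [] (.node [(210, (-1), 1, 1)] .nil .nil) .nil))))) (.node [(12, (-1), 1, 1)] (.node [] (.node [] (.node [(55, 1, 1, 1)] (.node [] .nil (.node [(214, (-1), 1, 1)] .nil .nil)) (.node [(133, 1, 1, 1)] .nil .nil)) (.node [] (.node [(102, 1, 1, 1)] .nil .nil) .nil)) (.node [(47, (-1), 1, 1)] (.node [] (.node [] (.node [(159, (-1), 1, 1)] .nil .nil) .nil) (.node [(141, (-1), 1, 1)] .nil .nil)) (.node [(73, 1, 1, 1)] .nil .nil))) (.node [(19, (-1), 1, 1)] (.node [(41, (-1), 1, 1)] (.node [] (.node [] .nil (.node [(217, 1, 1, 1)] .nil .nil)) (.node [] (.node [(181, (-1), 1, 1)] .nil .nil) .nil)) (.node [] .nil (.node [(144, (-1), 1, 1)] .nil .nil))) (.node [(52, (-1), 1, 1)]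 (.node [] (.node [(99, (-1), 1, 1)] .nil .nil) .nil) (.node [] .nil (.node [] (.node [(212, 1, 1, 1)] .nil .nil) .nil)))))))
def C145 : List (ℕ × List (ℕ × ℤ)) := [(1, [(7, (-1))]), (6, [(12, (-1))]), (14, [(19, (-1))]), (21, [(38, (-1))]), (22, [(41, (-1))]), (23, [(43, (-1))]), (25, [(45, 1)]), (26, [(47, (-1))]), (27, [(49, (-1))]), (29, [(51, 1)]), (30, [(52, (-1))]), (32, [(54, 1)]), (34, [(55, 1)]), (56, [(71, (-1))]), (58, [(73, 1)]), (60, [(74, 1)]), (63, [(75, 1)]), (67, [(76, 1)]), (78, [(99, (-1))]), (80, [(101, 1)]), (82, [(102, 1)]), (85, [(103, 1)]), (89, [(104, 1)]), (93, [(119, 1)]), (95, [(121, 1)]), (96, [(124, 1)]), (97, [(128, 1)]), (98, [(133, 1)]), (106, [(141, (-1))]), (111, [(142, (-1))]), (115, [(143, (-1))]), (118, [(144, (-1))]), (120, [(146, (-1))]), (135, [(150, (-1))]), (136, [(154, (-1))]), (137, [(157, (-1))]), (138, [(159, (-1))]), (140, [(161, 1)]), (163, [(172, (-1))]), (164, [(176, (-1))]), (165, [(179,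 (-1))]), (166, [(181, (-1))]), (168, [(183, 1)]), (184, [(205, (-1))]), (185, [(207, (-1))]), (187, [(209, 1)]), (188, [(210, (-1))]), (190, [(212, 1)]), (192, [(213, 1)]), (194, [(214, (-1))]), (196, [(216, 1)]), (198, [(217, 1)]), (201, [(218, 1)]), (220, [(225, 1)]), (227, [(233, 1)]), (232, [(238, 1)])]
def M146 : Tr (List (ℕ × ℤ × ℕ × ℕ)) := (.node [(7, (-1), 1, 1)] (.node [] (.node [] (.node [] (.node [] (.node [(54, 1, 1, 1)] (.node [] .nil (.node [(213, (-1), 1, 1)] .nil .nil)) (.node [(122, 1, 1, 1)] .nil .nil)) (.node [] (.node [(101, 1, 1, 1)] .nil .nil) .nil)) (.node [(44, 1, 1, 1)] (.node [] (.node [] (.node [(151, (-1), 1, 1)] .nil .nil) .nil) (.node [] (.node [(183, (-1), 1, 1)] .nil .nil) .nil)) (.node [] .nil (.node [(145, (-1), 1, 1)] .nil .nil)))) (.node [] (.node [] (.node [] (.node [] .nil (.node [(216, (-1), 1, 1)] .nil .nil)) (.node [] (.node [(173, (-1), 1, 1)] .nil .nil) .nil)) .nil) (.node [(50, 1, 1, 1)] (.node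 [] (.node [] (.node [(161, (-1), 1, 1)] .nil .nil) .nil) .nil) (.node [(74, 1, 1, 1)] (.node [] .nil (.node [(225, (-1), 1, 1)] .nil .nil)) .nil)))) (.node [] (.node [] (.node [] (.node [(55, 1, 1, 1)] .nil (.node [(129, 1, 1, 1)] .nil .nil)) (.node [] (.node [(102, 1, 1, 1)] .nil .nil) .nil)) (.node [] (.node [] (.node [] (.node [(158, (-1), 1, 1)] .nil .nil) .nil) (.node [(141, (-1), 1, 1)] .nil .nil)) (.node [(73, 1, 1, 1)] .nil (.node [] (.node [(208, (-1), 1, 1)] .nil .nil) .nil)))) (.node [] (.node [(39, 1, 1, 1)] (.node [] (.node [] .nil (.node [(217, (-1), 1, 1)] .nil .nil)) (.node [] (.node [(180, (-1), 1, 1)] .nil .nil) .nil)) (.node [] .nil (.node [(144, (-1), 1, 1)] .nil .nil))) (.node [] .nil (.node [] .nil (.node [] (.node [(212, (-1), 1, 1)] .nil .nil) .nil)))))) (.node [] (.node [] (.node [] (.node [] (.node [] .nil (.node [(125, 1, 1, 1)] .nil .nil)) .nil) (.node [(45, 1, 1, 1)] (.node [] (.node [] (.node [(155, (-1),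 1, 1)] .nil .nil) (.node [(218, (-1), 1, 1)] .nil .nil)) (.node [] .nil (.node [(239, 1, 1, 1)] .nil .nil))) (.node [(72, 1, 1, 1)] (.node [(104, 1, 1, 1)] .nil .nil) (.node [] (.node [(206, (-1), 1, 1)] .nil .nil) .nil)))) (.node [] (.node [] (.node [] .nil (.node [] (.node [(177, (-1), 1, 1)] .nil .nil) .nil)) (.node [] (.node [(103, 1, 1, 1)] .nil .nil) .nil)) (.node [(51, 1, 1, 1)] .nil (.node [] .nil (.node [] (.node [(211, (-1), 1, 1)] .nil .nil) .nil))))) (.node [(13, 1, 1, 1)] (.node [] (.node [] (.node [] (.node [(76, 1, 1, 1)] .nil (.node [(215, (-1), 1, 1)] .nil .nil)) (.node [(134, 1, 1, 1)] .nil (.node [(233, (-1), 1, 1)] .nil .nil))) (.node [] .nil (.node [(143, (-1), 1, 1)] .nil .nil))) (.node [(48, 1, 1, 1)] (.node [] (.node [] (.node [(160, (-1), 1, 1)] .nil .nil) .nil) .nil) (.node [] .nil (.node [] (.node [(209, (-1), 1, 1)] .nil .nil) .nil)))) (.node [(20, 1, 1, 1)] (.node [(42, 1, 1, 1)] (.node [] .nil (.node [] (.node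 [(182, (-1), 1, 1)] .nil .nil) .nil)) .nil) (.node [(53, 1, 1, 1)] (.node [] (.node [(100, 1, 1, 1)] .nil .nil) (.node [(142, (-1), 1, 1)] .nil .nil)) (.node [(75, 1, 1, 1)] (.node [(120, 1, 1, 1)] .nil .nil) .nil))))))
def C146 : List (ℕ × List (ℕ × ℤ)) := [(0, [(7, (-1))]), (6, [(13, 1)]), (14, [(20, 1)]), (21, [(39, 1)]), (22, [(42, 1)]), (23, [(44, 1)]), (24, [(45, 1)]), (26, [(48, 1)]), (27, [(50, 1)]), (28, [(51, 1)]), (30, [(53, 1)]), (31, [(54, 1)]), (33, [(55, 1)]), (56, [(72, 1)]), (57, [(73, 1)]), (59, [(74, 1)]), (62, [(75, 1)]), (66, [(76, 1)]), (78, [(100, 1)]), (79, [(101, 1)]), (81, [(102, 1)]), (84, [(103, 1)]), (88, [(104, 1)]), (94, [(120, 1)]), (95, [(122, 1)]), (96, [(125, 1)]), (97, [(129, 1)]), (98, [(134, 1)]), (105, [(141, (-1))]), (110, [(142, (-1))]), (114, [(143, (-1))]), (117, [(144, (-1))]), (119, [(145, (-1))]), (135, [(151, (-1))]), (136, [(155, (-1))]), (137, [(158, (-1))]), (138, [(160, (-1))]), (139,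 [(161, (-1))]), (163, [(173, (-1))]), (164, [(177, (-1))]), (165, [(180, (-1))]), (166, [(182, (-1))]), (167, [(183, (-1))]), (184, [(206, (-1))]), (185, [(208, (-1))]), (186, [(209, (-1))]), (188, [(211, (-1))]), (189, [(212, (-1))]), (191, [(213, (-1))]), (194, [(215, (-1))]), (195, [(216, (-1))]), (197, [(217, (-1))]), (200, [(218, (-1))]), (219, [(225, (-1))]), (226, [(233, (-1))]), (232, [(239, 1)])]
def M147 : Tr (List (ℕ × ℤ × ℕ × ℕ)) := (.node [] (.node [] (.node [] (.node [] (.node [] (.node [(57, (-1), 1, 1)] (.node [] (.node [(149, (-1), 1, 1)] .nil .nil) .nil) .nil) .nil) (.node [] (.node [] .nil (.node [(141, 1, 1, 1)] (.node [(186, 1, 1, 1)] .nil .nil) (.node [(235, (-1), 1, 1)] .nil .nil))) (.node [(74, (-1), 1, 1)] (.node [(108, (-1), 1, 1)] .nil .nil) (.node [] (.node [(209, 1, 1, 1)] .nil .nil) .nil)))) (.node [] (.node [(38, (-1), 1, 1)] (.node [(61, (-1), 1, 1)] (.node [] (.node [(152, 1, 1, 1)] .nil .nil) .nil) .nil)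 (.node [] .nil (.node [] (.node [(205, 1, 1, 1)] .nil .nil) .nil))) (.node [] (.node [] (.node [] .nil (.node [(222, 1, 1, 1)] .nil .nil)) .nil) (.node [] (.node [(113, 1, 1, 1)] .nil .nil) .nil)))) (.node [(9, 1, 1, 1)] (.node [] (.node [(36, (-1), 1, 1)] (.node [(59, (-1), 1, 1)] (.node [] (.node [(151, (-1), 1, 1)] .nil .nil) .nil) (.node [(135, 1, 1, 1)] .nil .nil)) .nil) (.node [] (.node [] (.node [] .nil (.node [(220, 1, 1, 1)] .nil .nil)) .nil) (.node [] (.node [(111, 1, 1, 1)] .nil .nil) .nil))) (.node [] (.node [] (.node [] (.node [] (.node [(154, 1, 1, 1)] .nil .nil) .nil) (.node [] (.node [(184, 1, 1, 1)] .nil .nil) .nil)) (.node [(72, (-1), 1, 1)] (.node [(106, (-1), 1, 1)] .nil .nil) (.node [] (.node [(207, 1, 1, 1)] .nil .nil) .nil))) .nil))) (.node [] (.node [(8, 1, 1, 1)] (.node [] (.node [] (.node [(58, (-1), 1, 1)] (.node [] (.node [(150, (-1), 1, 1)] .nil .nil) .nil) .nil) .nil) (.node [] (.node [] (.node [] .nil (.node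 [(219, 1, 1, 1)] .nil .nil)) (.node [(142, (-1), 1, 1)] (.node [(187, 1, 1, 1)] .nil .nil) .nil)) (.node [] (.node [(110, 1, 1, 1)] .nil .nil) .nil))) (.node [] (.node [(39, (-1), 1, 1)] (.node [] (.node [] (.node [(153, 1, 1, 1)] .nil .nil) .nil) .nil) (.node [(71, (-1), 1, 1)] (.node [(105, (-1), 1, 1)] .nil .nil) (.node [] (.node [(206, 1, 1, 1)] .nil .nil) .nil))) .nil)) (.node [] (.node [] (.node [(37, (-1), 1, 1)] (.node [(60, (-1), 1, 1)] .nil (.node [(136, (-1), 1, 1)] (.node [(169, 1, 1, 1)] .nil .nil) .nil)) (.node [] .nil (.node [] (.node [(204, 1, 1, 1)] .nil .nil) .nil))) (.node [] (.node [] (.node [] .nil (.node [(221, 1, 1, 1)] .nil .nil)) .nil) (.node [] (.node [(112, 1, 1, 1)] .nil (.node [(225, 1, 1, 1)] .nil .nil)) .nil))) (.node [(21, (-1), 1, 1)] (.node [] (.node [] (.node [(77, (-1), 1, 1)] (.node [(155, 1, 1, 1)] .nil .nil) .nil) (.node [] (.node [(185, 1, 1, 1)] .nil .nil) (.node [(234, (-1), 1, 1)] .nil .nil)))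 (.node [(73, (-1), 1, 1)] (.node [(107, (-1), 1, 1)] .nil .nil) (.node [] (.node [(208, 1, 1, 1)] .nil .nil) .nil))) (.node [(56, (-1), 1, 1)] .nil (.node [] .nil (.node [(148, (-1), 1, 1)] .nil .nil)))))))
def C147 : List (ℕ × List (ℕ × ℤ)) := [(4, [(8, 1)]), (5, [(9, 1)]), (14, [(21, (-1))]), (17, [(36, (-1))]), (18, [(37, (-1))]), (19, [(38, (-1))]), (20, [(39, (-1))]), (30, [(56, (-1))]), (31, [(57, (-1))]), (32, [(58, (-1))]), (33, [(59, (-1))]), (34, [(60, (-1))]), (35, [(61, (-1))]), (52, [(71, (-1))]), (53, [(72, (-1))]), (54, [(73, (-1))]), (55, [(74, (-1))]), (70, [(77, (-1))]), (84, [(105, (-1))]), (85, [(106, (-1))]), (86, [(107, (-1))]), (87, [(108, (-1))]), (88, [(110, 1)]), (89, [(111, 1)]), (90, [(112, 1)]), (91, [(113, 1)]), (97, [(135, 1)]), (98, [(136, (-1))]), (103, [(141, 1)]), (104, [(142, (-1))]), (126, [(148, (-1))]), (127, [(149, (-1))]), (128, [(150, (-1))]), (129, [(151, (-1))]), (131, [(152, 1)]), (132, [(153,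 1)]), (133, [(154, 1)]), (134, [(155, 1)]), (162, [(169, 1)]), (165, [(184, 1)]), (166, [(185, 1)]), (167, [(186, 1)]), (168, [(187, 1)]), (178, [(204, 1)]), (179, [(205, 1)]), (180, [(206, 1)]), (181, [(207, 1)]), (182, [(208, 1)]), (183, [(209, 1)]), (200, [(219, 1)]), (201, [(220, 1)]), (202, [(221, 1)]), (203, [(222, 1)]), (218, [(225, 1)]), (230, [(234, (-1))]), (231, [(235, (-1))])]
def M148 : Tr (List (ℕ × ℤ × ℕ × ℕ)) := (.node [] (.node [] (.node [(8, 1, 1, 1)] (.node [] (.node [] .nil (.node [] .nil (.node [] (.node [(204, (-1), 1, 1)] .nil .nil) .nil))) (.node [] (.node [] (.node [] .nil (.node [(221, (-1), 1, 1)] .nil .nil)) (.node [] (.node [(189, 1, 1, 1)] .nil .nil) (.node [(236, (-1), 1, 1)] .nil .nil))) (.node [(75, 1, 1, 1)] (.node [(109, 1, 1, 1)] .nil .nil) (.node [] (.node [(212, 1, 1, 1)] .nil .nil) .nil)))) (.node [] (.node [(41, 1, 1, 1)] (.node [(64, 1, 1, 1)] .nil .nil) (.node [(73, (-1), 1, 1)] (.node [(107,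 (-1), 1, 1)] .nil .nil) .nil)) (.node [(56, (-1), 1, 1)] (.node [] (.node [] .nil (.node [(223, 1, 1, 1)] .nil .nil)) .nil) (.node [] .nil (.node [(149, (-1), 1, 1)] .nil .nil))))) (.node [(10, (-1), 1, 1)] (.node [] (.node [] (.node [(62, 1, 1, 1)] .nil .nil) (.node [(71, (-1), 1, 1)] (.node [(105, (-1), 1, 1)] .nil .nil) (.node [(147, (-1), 1, 1)] (.node [(206, (-1), 1, 1)] .nil .nil) .nil))) (.node [] .nil (.node [] (.node [(115, 1, 1, 1)] .nil (.node [(225, (-1), 1, 1)] .nil .nil)) .nil))) (.node [] (.node [] (.node [] (.node [(77, (-1), 1, 1)] (.node [(157, 1, 1, 1)] .nil .nil) (.node [(219, (-1), 1, 1)] .nil .nil)) (.node [] .nil (.node [(234, 1, 1, 1)] .nil .nil))) (.node [] .nil (.node [] (.node [(210, 1, 1, 1)] .nil .nil) .nil))) (.node [(58, (-1), 1, 1)] .nil (.node [] .nil (.node [(151, (-1), 1, 1)] .nil .nil)))))) (.node [] (.node [] (.node [] (.node [(36, (-1), 1, 1)] (.node [] .nil (.node [(135, 1, 1, 1)] .nil .nil)) (.node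 [] .nil (.node [] (.node [(205, (-1), 1, 1)] .nil .nil) .nil))) (.node [] (.node [] .nil (.node [(143, (-1), 1, 1)] (.node [(190, 1, 1, 1)] .nil .nil) .nil)) (.node [] (.node [(114, 1, 1, 1)] .nil .nil) .nil))) (.node [] (.node [(42, 1, 1, 1)] (.node [] (.node [] (.node [(156, 1, 1, 1)] .nil .nil) .nil) (.node [] (.node [(184, (-1), 1, 1)] .nil .nil) .nil)) .nil) (.node [(57, (-1), 1, 1)] .nil (.node [] (.node [(126, 1, 1, 1)] .nil .nil) (.node [(150, (-1), 1, 1)] .nil .nil))))) (.node [] (.node [] (.node [(40, 1, 1, 1)] (.node [(63, 1, 1, 1)] (.node [] (.node [(152, (-1), 1, 1)] .nil .nil) .nil) (.node [(137, (-1), 1, 1)] (.node [(170, 1, 1, 1)] .nil .nil) .nil)) (.node [(72, (-1), 1, 1)] (.node [(106, (-1), 1, 1)] .nil .nil) .nil)) (.node [] .nil (.node [] (.node [(116, 1, 1, 1)] .nil .nil) .nil))) (.node [(22, 1, 1, 1)] (.node [] (.node [] (.node [] (.node [(158, 1, 1, 1)] .nil .nil) (.node [(220, (-1), 1, 1)] .nil .nil)) (.node [(141,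 1, 1, 1)] (.node [(188, 1, 1, 1)] .nil .nil) .nil)) (.node [] .nil (.node [] (.node [(211, 1, 1, 1)] .nil .nil) .nil))) .nil))))
def C148 : List (ℕ × List (ℕ × ℤ)) := [(3, [(8, 1)]), (5, [(10, (-1))]), (14, [(22, 1)]), (16, [(36, (-1))]), (18, [(40, 1)]), (19, [(41, 1)]), (20, [(42, 1)]), (27, [(56, (-1))]), (28, [(57, (-1))]), (29, [(58, (-1))]), (33, [(62, 1)]), (34, [(63, 1)]), (35, [(64, 1)]), (49, [(71, (-1))]), (50, [(72, (-1))]), (51, [(73, (-1))]), (55, [(75, 1)]), (69, [(77, (-1))]), (81, [(105, (-1))]), (82, [(106, (-1))]), (83, [(107, (-1))]), (87, [(109, 1)]), (88, [(114, 1)]), (89, [(115, 1)]), (90, [(116, 1)]), (92, [(126, 1)]), (96, [(135, 1)]), (98, [(137, (-1))]), (102, [(141, 1)]), (104, [(143, (-1))]), (113, [(147, (-1))]), (123, [(149, (-1))]), (124, [(150, (-1))]), (125, [(151, (-1))]), (130, [(152, (-1))]), (132, [(156, 1)]), (133, [(157, 1)]), (134, [(158, 1)]), (162, [(170, 1)]), (164, [(184, (-1))]), (166, [(188,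 1)]), (167, [(189, 1)]), (168, [(190, 1)]), (175, [(204, (-1))]), (176, [(205, (-1))]), (177, [(206, (-1))]), (181, [(210, 1)]), (182, [(211, 1)]), (183, [(212, 1)]), (197, [(219, (-1))]), (198, [(220, (-1))]), (199, [(221, (-1))]), (203, [(223, 1)]), (217, [(225, (-1))]), (229, [(234, 1)]), (231, [(236, (-1))])]
def M149 : Tr (List (ℕ × ℤ × ℕ × ℕ)) := (.node [] (.node [] (.node [] (.node [] (.node [] (.node [(62, 1, 1, 1)] .nil (.node [(135, 1, 1, 1)] .nil .nil)) (.node [(71, (-1), 1, 1)] (.node [(105, (-1), 1, 1)] .nil .nil) .nil)) (.node [] (.node [] (.node [] .nil (.node [(222, (-1), 1, 1)] .nil .nil)) (.node [] (.node [(191, 1, 1, 1)] .nil .nil) (.node [(237, (-1), 1, 1)] .nil .nil))) (.node [] .nil (.node [] (.node [(213, 1, 1, 1)] .nil .nil) .nil)))) (.node [] (.node [(43, (-1), 1, 1)] (.node [(65, (-1), 1, 1)] (.node [] (.node [(156, (-1), 1, 1)] .nil .nil) (.node [(219, 1, 1, 1)] .nil .nil)) .nil) (.node [(74, 1, 1, 1)] (.node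 [(108, 1, 1, 1)] .nil .nil) (.node [] (.node [(210, (-1), 1, 1)] .nil .nil) .nil))) (.node [] .nil (.node [] (.node [(123, 1, 1, 1)] .nil .nil) .nil)))) (.node [(11, 1, 1, 1)] (.node [] (.node [(40, 1, 1, 1)] .nil (.node [] .nil (.node [] (.node [(208, (-1), 1, 1)] .nil .nil) .nil))) (.node [] .nil (.node [] (.node [(118, 1, 1, 1)] .nil .nil) (.node [(150, (-1), 1, 1)] .nil .nil)))) (.node [] (.node [] (.node [] (.node [] (.node [(159, 1, 1, 1)] .nil .nil) .nil) (.node [(141, 1, 1, 1)] (.node [(188, (-1), 1, 1)] .nil .nil) .nil)) .nil) (.node [(60, 1, 1, 1)] .nil .nil)))) (.node [(8, 1, 1, 1)] (.node [] (.node [] (.node [(37, 1, 1, 1)] (.node [(63, 1, 1, 1)] .nil .nil) (.node [(72, (-1), 1, 1)] (.node [(106, (-1), 1, 1)] .nil .nil) (.node [(147, (-1), 1, 1)] (.node [(207, (-1), 1, 1)] .nil .nil) .nil))) (.node [] (.node [] .nil (.node [(144, (-1), 1, 1)] (.node [(192, 1, 1, 1)] .nil .nil) .nil)) (.node [] (.node [(117, 1, 1, 1)] .nil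 (.node [(225, 1, 1, 1)] .nil .nil)) .nil))) (.node [] (.node [(44, (-1), 1, 1)] (.node [] (.node [(77, (-1), 1, 1)] .nil (.node [(220, 1, 1, 1)] .nil .nil)) (.node [] (.node [(185, (-1), 1, 1)] .nil .nil) (.node [(234, (-1), 1, 1)] .nil .nil))) (.node [] .nil (.node [(148, (-1), 1, 1)] (.node [(211, (-1), 1, 1)] .nil .nil) .nil))) (.node [(59, 1, 1, 1)] .nil (.node [] (.node [(127, 1, 1, 1)] .nil .nil) .nil)))) (.node [] (.node [] (.node [] (.node [] (.node [] (.node [(153, (-1), 1, 1)] .nil .nil) .nil) (.node [(138, (-1), 1, 1)] (.node [(171, 1, 1, 1)] .nil .nil) .nil)) .nil) (.node [(56, (-1), 1, 1)] (.node [] (.node [] .nil (.node [(223, (-1), 1, 1)] .nil .nil)) .nil) (.node [] .nil (.node [(151, (-1), 1, 1)] .nil .nil)))) (.node [(23, (-1), 1, 1)] (.node [] (.node [] (.node [] (.node [(160, 1, 1, 1)] .nil .nil) .nil) .nil) (.node [(75, 1, 1, 1)] (.node [(109, 1, 1, 1)] .nil .nil) .nil)) (.node [] (.node [] .nil (.node [] (.node [(204,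 1, 1, 1)] .nil .nil) .nil)) .nil)))))
def C149 : List (ℕ × List (ℕ × ℤ)) := [(2, [(8, 1)]), (5, [(11, 1)]), (14, [(23, (-1))]), (16, [(37, 1)]), (17, [(40, 1)]), (19, [(43, (-1))]), (20, [(44, (-1))]), (26, [(56, (-1))]), (28, [(59, 1)]), (29, [(60, 1)]), (31, [(62, 1)]), (32, [(63, 1)]), (35, [(65, (-1))]), (47, [(71, (-1))]), (48, [(72, (-1))]), (51, [(74, 1)]), (54, [(75, 1)]), (68, [(77, (-1))]), (79, [(105, (-1))]), (80, [(106, (-1))]), (83, [(108, 1)]), (86, [(109, 1)]), (88, [(117, 1)]), (89, [(118, 1)]), (91, [(123, 1)]), (92, [(127, 1)]), (95, [(135, 1)]), (98, [(138, (-1))]), (101, [(141, 1)]), (104, [(144, (-1))]), (112, [(147, (-1))]), (116, [(148, (-1))]), (121, [(150, (-1))]), (122, [(151, (-1))]), (130, [(153, (-1))]), (131, [(156, (-1))]), (133, [(159, 1)]), (134, [(160, 1)]), (162, [(171, 1)]), (164, [(185, (-1))]), (165, [(188, (-1))]), (167, [(191, 1)]), (168, [(192, 1)]), (174, [(204, 1)]), (176, [(207, (-1))]), (177,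 [(208, (-1))]), (179, [(210, (-1))]), (180, [(211, (-1))]), (183, [(213, 1)]), (195, [(219, 1)]), (196, [(220, 1)]), (199, [(222, (-1))]), (202, [(223, (-1))]), (216, [(225, 1)]), (228, [(234, (-1))]), (231, [(237, (-1))])]
def M150 : Tr (List (ℕ × ℤ × ℕ × ℕ)) := (.node [] (.node [(8, 1, 1, 1)] (.node [] (.node [] (.node [] .nil (.node [] .nil (.node [(147, (-1), 1, 1)] (.node [(207, 1, 1, 1)] .nil .nil) .nil))) (.node [] (.node [] .nil (.node [] .nil (.node [(238, (-1), 1, 1)] .nil .nil))) (.node [] (.node [] .nil (.node [(225, (-1), 1, 1)] .nil .nil)) .nil))) (.node [] (.node [] (.node [] (.node [(77, (-1), 1, 1)] (.node [(157, (-1), 1, 1)] .nil .nil) .nil) (.node [] .nil (.node [(234, 1, 1, 1)] .nil .nil))) (.node [] .nil (.node [(148, (-1), 1, 1)] .nil .nil))) (.node [(59, 1, 1, 1)] .nil (.node [] (.node [(124, 1, 1, 1)] .nil .nil) .nil)))) (.node [(12, (-1), 1, 1)] (.node [] (.node [(41, (-1), 1, 1)] .nil (.node [] .nil (.node []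 (.node [(209, (-1), 1, 1)] .nil .nil) .nil))) (.node [] (.node [] (.node [] .nil (.node [(223, 1, 1, 1)] .nil .nil)) .nil) .nil)) (.node [] (.node [] (.node [] .nil (.node [] (.node [(189, (-1), 1, 1)] .nil .nil) .nil)) (.node [(75, 1, 1, 1)] (.node [(109, 1, 1, 1)] .nil .nil) .nil)) (.node [(61, (-1), 1, 1)] .nil .nil)))) (.node [] (.node [] (.node [] (.node [(38, (-1), 1, 1)] (.node [(64, (-1), 1, 1)] .nil .nil) (.node [(73, 1, 1, 1)] (.node [(107, 1, 1, 1)] .nil .nil) .nil)) (.node [] (.node [] .nil (.node [(145, (-1), 1, 1)] (.node [(193, 1, 1, 1)] .nil .nil) .nil)) (.node [] (.node [(119, 1, 1, 1)] .nil .nil) (.node [(151, (-1), 1, 1)] .nil .nil)))) (.node [] (.node [(45, 1, 1, 1)] (.node [] (.node [] (.node [(159, (-1), 1, 1)] .nil .nil) (.node [(221, 1, 1, 1)] .nil .nil)) (.node [(141, 1, 1, 1)] (.node [(186, (-1), 1, 1)] .nil .nil) .nil)) (.node [] .nil (.node [] (.node [(212, (-1), 1, 1)] .nil .nil) .nil))) (.node [] .nil (.node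 [] (.node [(128, 1, 1, 1)] .nil .nil) .nil)))) (.node [] (.node [] (.node [(43, (-1), 1, 1)] (.node [(65, (-1), 1, 1)] (.node [] (.node [(154, (-1), 1, 1)] .nil .nil) (.node [(219, (-1), 1, 1)] .nil .nil)) (.node [(139, (-1), 1, 1)] (.node [(172, 1, 1, 1)] .nil .nil) .nil)) (.node [(74, 1, 1, 1)] (.node [(108, 1, 1, 1)] .nil .nil) (.node [] (.node [(210, 1, 1, 1)] .nil .nil) .nil))) (.node [(57, 1, 1, 1)] .nil (.node [] (.node [(121, 1, 1, 1)] .nil .nil) .nil))) (.node [(24, 1, 1, 1)] (.node [] (.node [] (.node [] (.node [(161, 1, 1, 1)] .nil .nil) (.node [(222, 1, 1, 1)] .nil .nil)) (.node [] (.node [(191, (-1), 1, 1)] .nil .nil) .nil)) (.node [] .nil (.node [(149, (-1), 1, 1)] (.node [(213, (-1), 1, 1)] .nil .nil) .nil))) (.node [(62, 1, 1, 1)] (.node [(71, (-1), 1, 1)] (.node [(105, (-1), 1, 1)] .nil .nil) (.node [] (.node [(205, 1, 1, 1)] .nil .nil) .nil)) (.node [] (.node [(135, 1, 1, 1)] .nil .nil) .nil))))))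
def C150 : List (ℕ × List (ℕ × ℤ)) := [(1, [(8, 1)]), (5, [(12, (-1))]), (14, [(24, 1)]), (16, [(38, (-1))]), (17, [(41, (-1))]), (18, [(43, (-1))]), (20, [(45, 1)]), (26, [(57, 1)]), (27, [(59, 1)]), (29, [(61, (-1))]), (30, [(62, 1)]), (32, [(64, (-1))]), (34, [(65, (-1))]), (46, [(71, (-1))]), (48, [(73, 1)]), (50, [(74, 1)]), (53, [(75, 1)]), (67, [(77, (-1))]), (78, [(105, (-1))]), (80, [(107, 1)]), (82, [(108, 1)]), (85, [(109, 1)]), (88, [(119, 1)]), (90, [(121, 1)]), (91, [(124, 1)]), (92, [(128, 1)]), (94, [(135, 1)]), (98, [(139, (-1))]), (100, [(141, 1)]), (104, [(145, (-1))]), (111, [(147, (-1))]), (115, [(148, (-1))]), (118, [(149, (-1))]), (120, [(151, (-1))]), (130, [(154, (-1))]), (131, [(157, (-1))]), (132, [(159, (-1))]), (134, [(161, 1)]), (162, [(172, 1)]), (164, [(186, (-1))]), (165, [(189, (-1))]), (166, [(191, (-1))]), (168, [(193, 1)]), (174, [(205, 1)]), (175, [(207, 1)]), (177, [(209, (-1))]), (178, [(210, 1)]),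 (180, [(212, (-1))]), (182, [(213, (-1))]), (194, [(219, (-1))]), (196, [(221, 1)]), (198, [(222, 1)]), (201, [(223, 1)]), (215, [(225, (-1))]), (227, [(234, 1)]), (231, [(238, (-1))])]
def M151 : Tr (List (ℕ × ℤ × ℕ × ℕ)) := (.node [(8, 1, 1, 1)] (.node [] (.node [] (.node [] (.node [] (.node [(64, (-1), 1, 1)] .nil .nil) (.node [(73, 1, 1, 1)] (.node [(107, 1, 1, 1)] .nil .nil) (.node [] (.node [(208, 1, 1, 1)] .nil .nil) .nil))) (.node [] (.node [] .nil (.node [] (.node [(193, (-1), 1, 1)] .nil .nil) (.node [(239, (-1), 1, 1)] .nil .nil))) (.node [] .nil (.node [(150, (-1), 1, 1)] .nil .nil)))) (.node [] (.node [(45, 1, 1, 1)] (.node [] (.node [] (.node [(158, (-1), 1, 1)] .nil .nil) (.node [(221, (-1), 1, 1)] .nil .nil)) (.node [(141, 1, 1, 1)] .nil .nil)) (.node [] .nil (.node [] (.node [(212, 1, 1, 1)] .nil .nil) .nil))) (.node [(60, (-1), 1, 1)] .nil (.node [] (.node [(125, 1, 1, 1)] .nil .nil) .nil)))) (.node [(13, 1, 1, 1)] (.node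 [] (.node [(42, 1, 1, 1)] (.node [(65, (-1), 1, 1)] .nil .nil) (.node [(74, 1, 1, 1)] (.node [(108, 1, 1, 1)] .nil .nil) .nil)) (.node [] .nil (.node [] (.node [(120, 1, 1, 1)] .nil .nil) .nil))) (.node [] (.node [] (.node [] (.node [] (.node [(161, (-1), 1, 1)] .nil .nil) (.node [(222, (-1), 1, 1)] .nil .nil)) (.node [] (.node [(190, (-1), 1, 1)] .nil .nil) .nil)) (.node [] .nil (.node [(149, (-1), 1, 1)] (.node [(213, 1, 1, 1)] .nil .nil) .nil))) (.node [] .nil (.node [] (.node [(135, 1, 1, 1)] .nil .nil) .nil))))) (.node [] (.node [] (.node [] (.node [(39, 1, 1, 1)] .nil (.node [] .nil (.node [] (.node [(209, 1, 1, 1)] .nil .nil) .nil))) (.node [] (.node [] (.node [] .nil (.node [(223, (-1), 1, 1)] .nil .nil)) (.node [(146, (-1), 1, 1)] .nil .nil)) .nil)) (.node [] (.node [] (.node [] (.node [] (.node [(160, (-1), 1, 1)] .nil .nil) .nil) (.node [] (.node [(187, (-1), 1, 1)] .nil .nil) .nil)) (.node [(75, 1, 1, 1)] (.node [(109, 1,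 1, 1)] .nil .nil) .nil)) (.node [(61, (-1), 1, 1)] .nil (.node [] (.node [(129, 1, 1, 1)] .nil .nil) .nil)))) (.node [] (.node [] (.node [(44, 1, 1, 1)] (.node [] (.node [(77, (-1), 1, 1)] (.node [(155, (-1), 1, 1)] .nil .nil) (.node [(220, (-1), 1, 1)] .nil .nil)) (.node [(140, (-1), 1, 1)] (.node [(173, 1, 1, 1)] .nil .nil) (.node [(234, (-1), 1, 1)] .nil .nil))) (.node [] .nil (.node [(148, (-1), 1, 1)] (.node [(211, 1, 1, 1)] .nil .nil) .nil))) (.node [(58, (-1), 1, 1)] .nil (.node [] (.node [(122, 1, 1, 1)] .nil .nil) .nil))) (.node [(25, (-1), 1, 1)] (.node [] (.node [] .nil (.node [] (.node [(192, (-1), 1, 1)] .nil .nil) .nil)) (.node [] (.node [] .nil (.node [(225, 1, 1, 1)] .nil .nil)) .nil)) (.node [(63, (-1), 1, 1)] (.node [(72, 1, 1, 1)] (.node [(106, 1, 1, 1)] .nil .nil) (.node [(147, (-1), 1, 1)] (.node [(206, 1, 1, 1)] .nil .nil) .nil)) .nil)))))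
def C151 : List (ℕ × List (ℕ × ℤ)) := [(0, [(8, 1)]), (5, [(13, 1)]), (14, [(25, (-1))]), (16, [(39, 1)]), (17, [(42, 1)]), (18, [(44, 1)]), (19, [(45, 1)]), (26, [(58, (-1))]), (27, [(60, (-1))]), (28, [(61, (-1))]), (30, [(63, (-1))]), (31, [(64, (-1))]), (33, [(65, (-1))]), (46, [(72, 1)]), (47, [(73, 1)]), (49, [(74, 1)]), (52, [(75, 1)]), (66, [(77, (-1))]), (78, [(106, 1)]), (79, [(107, 1)]), (81, [(108, 1)]), (84, [(109, 1)]), (89, [(120, 1)]), (90, [(122, 1)]), (91, [(125, 1)]), (92, [(129, 1)]), (93, [(135, 1)]), (98, [(140, (-1))]), (99, [(141, 1)]), (104, [(146, (-1))]), (110, [(147, (-1))]), (114, [(148, (-1))]), (117, [(149, (-1))]), (119, [(150, (-1))]), (130, [(155, (-1))]), (131, [(158, (-1))]), (132, [(160, (-1))]), (133, [(161, (-1))]), (162, [(173, 1)]), (164, [(187, (-1))]), (165, [(190, (-1))]), (166, [(192, (-1))]), (167, [(193, (-1))]), (174, [(206, 1)]), (175, [(208, 1)]), (176, [(209, 1)]), (178, [(211, 1)]),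 (179, [(212, 1)]), (181, [(213, 1)]), (194, [(220, (-1))]), (195, [(221, (-1))]), (197, [(222, (-1))]), (200, [(223, (-1))]), (214, [(225, 1)]), (226, [(234, (-1))]), (231, [(239, (-1))])]
def M152 : Tr (List (ℕ × ℤ × ℕ × ℕ)) := (.node [] (.node [] (.node [(9, (-1), 1, 1)] (.node [] (.node [(36, (-1), 1, 1)] (.node [] (.node [] (.node [(156, 1, 1, 1)] .nil .nil) (.node [(219, 1, 1, 1)] .nil .nil)) .nil) .nil) (.node [(56, (-1), 1, 1)] (.node [] .nil (.node [(143, (-1), 1, 1)] (.node [(195, 1, 1, 1)] .nil .nil) .nil)) (.node [(76, (-1), 1, 1)] .nil (.node [] (.node [(216, 1, 1, 1)] .nil .nil) .nil)))) (.node [] (.node [(47, (-1), 1, 1)] (.node [(68, (-1), 1, 1)] .nil (.node [] (.node [(184, 1, 1, 1)] .nil .nil) .nil)) (.node [] (.node [(112, (-1), 1, 1)] .nil .nil) .nil)) (.node [] (.node [(71, (-1), 1, 1)] (.node [] .nil (.node [(224, 1, 1, 1)] .nil .nil)) (.node [] (.node [(204, 1, 1, 1)] .nil .nil) .nil)) (.node [] (.node [(130, 1,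 1, 1)] .nil .nil) (.node [(153, (-1), 1, 1)] .nil .nil))))) (.node [] (.node [] (.node [] (.node [(66, (-1), 1, 1)] (.node [(77, (-1), 1, 1)] (.node [(158, 1, 1, 1)] .nil .nil) (.node [(221, 1, 1, 1)] .nil .nil)) (.node [(137, (-1), 1, 1)] .nil .nil)) (.node [] (.node [(110, (-1), 1, 1)] .nil .nil) .nil)) (.node [(58, (-1), 1, 1)] .nil .nil)) (.node [] (.node [] (.node [] .nil (.node [] .nil (.node [(235, 1, 1, 1)] .nil .nil))) (.node [] (.node [(115, 1, 1, 1)] .nil (.node [(225, 1, 1, 1)] .nil .nil)) (.node [] (.node [(214, 1, 1, 1)] .nil .nil) .nil))) (.node [] (.node [(73, (-1), 1, 1)] .nil (.node [(148, (-1), 1, 1)] (.node [(206, 1, 1, 1)] .nil .nil) .nil)) (.node [] .nil (.node [(155, (-1), 1, 1)] .nil .nil)))))) (.node [] (.node [(10, (-1), 1, 1)] (.node [] (.node [] (.node [] (.node [] (.node [(157, 1, 1, 1)] .nil .nil) (.node [(220, 1, 1, 1)] .nil .nil)) (.node [(136, 1, 1, 1)] .nil .nil)) .nil) (.node [(57, (-1), 1, 1)] (.node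 [] .nil (.node [] (.node [(196, 1, 1, 1)] .nil .nil) .nil)) .nil)) (.node [] (.node [(48, (-1), 1, 1)] .nil (.node [] (.node [(114, 1, 1, 1)] .nil .nil) .nil)) (.node [] (.node [(72, (-1), 1, 1)] .nil (.node [(147, 1, 1, 1)] (.node [(205, 1, 1, 1)] .nil .nil) .nil)) (.node [] (.node [(131, (-1), 1, 1)] .nil .nil) (.node [(154, (-1), 1, 1)] .nil .nil))))) (.node [] (.node [] (.node [(46, (-1), 1, 1)] (.node [(67, (-1), 1, 1)] .nil (.node [] (.node [(174, 1, 1, 1)] .nil .nil) .nil)) (.node [] (.node [(111, (-1), 1, 1)] .nil .nil) .nil)) .nil) (.node [(26, (-1), 1, 1)] (.node [] (.node [] .nil (.node [(142, 1, 1, 1)] (.node [(194, 1, 1, 1)] .nil .nil) (.node [(236, 1, 1, 1)] .nil .nil))) (.node [] (.node [(116, 1, 1, 1)] .nil .nil) (.node [] (.node [(215, 1, 1, 1)] .nil .nil) .nil))) .nil))))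
def C152 : List (ℕ × List (ℕ × ℤ)) := [(3, [(9, (-1))]), (4, [(10, (-1))]), (14, [(26, (-1))]), (15, [(36, (-1))]), (18, [(46, (-1))]), (19, [(47, (-1))]), (20, [(48, (-1))]), (23, [(56, (-1))]), (24, [(57, (-1))]), (25, [(58, (-1))]), (33, [(66, (-1))]), (34, [(67, (-1))]), (35, [(68, (-1))]), (43, [(71, (-1))]), (44, [(72, (-1))]), (45, [(73, (-1))]), (55, [(76, (-1))]), (65, [(77, (-1))]), (81, [(110, (-1))]), (82, [(111, (-1))]), (83, [(112, (-1))]), (84, [(114, 1)]), (85, [(115, 1)]), (86, [(116, 1)]), (91, [(130, 1)]), (92, [(131, (-1))]), (96, [(136, 1)]), (97, [(137, (-1))]), (102, [(142, 1)]), (103, [(143, (-1))]), (108, [(147, 1)]), (109, [(148, (-1))]), (123, [(153, (-1))]), (124, [(154, (-1))]), (125, [(155, (-1))]), (127, [(156, 1)]), (128, [(157, 1)]), (129, [(158, 1)]), (162, [(174, 1)]), (163, [(184, 1)]), (166, [(194, 1)]), (167, [(195, 1)]), (168, [(196, 1)]), (171, [(204, 1)]), (172, [(205, 1)]), (173, [(206, 1)]),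 (181, [(214, 1)]), (182, [(215, 1)]), (183, [(216, 1)]), (191, [(219, 1)]), (192, [(220, 1)]), (193, [(221, 1)]), (203, [(224, 1)]), (213, [(225, 1)]), (229, [(235, 1)]), (230, [(236, 1)])]
def M153 : Tr (List (ℕ × ℤ × ℕ × ℕ)) := (.node [] (.node [] (.node [] (.node [] (.node [(37, 1, 1, 1)] (.node [(66, (-1), 1, 1)] .nil (.node [(136, 1, 1, 1)] .nil .nil)) (.node [] (.node [(110, (-1), 1, 1)] .nil .nil) .nil)) (.node [] (.node [] .nil (.node [(144, (-1), 1, 1)] (.node [(197, 1, 1, 1)] .nil .nil) .nil)) (.node [] (.node [(123, 1, 1, 1)] .nil .nil) (.node [] (.node [(217, 1, 1, 1)] .nil .nil) .nil)))) (.node [] (.node [(49, 1, 1, 1)] (.node [(69, 1, 1, 1)] .nil (.node [] (.node [(185, 1, 1, 1)] .nil .nil) .nil)) (.node [] (.node [(113, 1, 1, 1)] .nil .nil) (.node [] (.node [(214, (-1), 1, 1)] .nil .nil) .nil))) (.node [] (.node [] .nil (.node [(147, 1, 1, 1)] .nil .nil)) .nil))) (.node [] (.node [] (.node [(46, (-1), 1, 1)] (.node [] (.node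 [] (.node [(160, 1, 1, 1)] .nil .nil) (.node [(222, 1, 1, 1)] .nil .nil)) (.node [(138, (-1), 1, 1)] .nil .nil)) .nil) (.node [(60, 1, 1, 1)] (.node [(71, (-1), 1, 1)] .nil .nil) (.node [] .nil (.node [(154, (-1), 1, 1)] .nil .nil)))) (.node [] (.node [] (.node [] .nil (.node [(142, 1, 1, 1)] (.node [(194, (-1), 1, 1)] .nil .nil) .nil)) (.node [] (.node [(118, 1, 1, 1)] .nil .nil) .nil)) (.node [] (.node [(74, 1, 1, 1)] .nil (.node [(149, (-1), 1, 1)] (.node [(208, 1, 1, 1)] .nil .nil) .nil)) (.node [] .nil (.node [] (.node [(219, (-1), 1, 1)] .nil .nil) .nil)))))) (.node [(9, (-1), 1, 1)] (.node [(11, 1, 1, 1)] (.node [] (.node [] (.node [(67, (-1), 1, 1)] (.node [(77, (-1), 1, 1)] (.node [(159, 1, 1, 1)] .nil .nil) .nil) .nil) (.node [] (.node [(111, (-1), 1, 1)] .nil .nil) .nil)) (.node [(59, 1, 1, 1)] (.node [] .nil (.node [] (.node [(198, 1, 1, 1)] .nil .nil) .nil)) .nil)) (.node [] (.node [(50, 1, 1, 1)] (.node [] .nil (.node []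 .nil (.node [(235, (-1), 1, 1)] .nil .nil))) (.node [] (.node [(117, 1, 1, 1)] .nil (.node [(225, (-1), 1, 1)] .nil .nil)) (.node [(152, (-1), 1, 1)] (.node [(215, (-1), 1, 1)] .nil .nil) .nil))) (.node [] (.node [] .nil (.node [] (.node [(207, 1, 1, 1)] .nil .nil) .nil)) (.node [] (.node [(132, (-1), 1, 1)] .nil .nil) .nil)))) (.node [] (.node [] (.node [] (.node [] .nil (.node [] (.node [(175, 1, 1, 1)] .nil .nil) .nil)) .nil) (.node [] (.node [(72, (-1), 1, 1)] (.node [] .nil (.node [(224, (-1), 1, 1)] .nil .nil)) (.node [] (.node [(204, (-1), 1, 1)] .nil .nil) .nil)) (.node [] (.node [(130, 1, 1, 1)] .nil .nil) (.node [(155, (-1), 1, 1)] .nil .nil)))) (.node [(27, 1, 1, 1)] (.node [(56, (-1), 1, 1)] (.node [] .nil (.node [] .nil (.node [(237, 1, 1, 1)] .nil .nil))) (.node [(76, (-1), 1, 1)] .nil .nil)) (.node [] .nil (.node [] .nil (.node [(156, (-1), 1, 1)] (.node [(220, (-1), 1, 1)] .nil .nil) .nil)))))))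
def C153 : List (ℕ × List (ℕ × ℤ)) := [(2, [(9, (-1))]), (4, [(11, 1)]), (14, [(27, 1)]), (15, [(37, 1)]), (17, [(46, (-1))]), (19, [(49, 1)]), (20, [(50, 1)]), (22, [(56, (-1))]), (24, [(59, 1)]), (25, [(60, 1)]), (31, [(66, (-1))]), (32, [(67, (-1))]), (35, [(69, 1)]), (41, [(71, (-1))]), (42, [(72, (-1))]), (45, [(74, 1)]), (54, [(76, (-1))]), (64, [(77, (-1))]), (79, [(110, (-1))]), (80, [(111, (-1))]), (83, [(113, 1)]), (84, [(117, 1)]), (85, [(118, 1)]), (87, [(123, 1)]), (90, [(130, 1)]), (92, [(132, (-1))]), (95, [(136, 1)]), (97, [(138, (-1))]), (101, [(142, 1)]), (103, [(144, (-1))]), (107, [(147, 1)]), (109, [(149, (-1))]), (116, [(152, (-1))]), (121, [(154, (-1))]), (122, [(155, (-1))]), (126, [(156, (-1))]), (128, [(159, 1)]), (129, [(160, 1)]), (162, [(175, 1)]), (163, [(185, 1)]), (165, [(194, (-1))]), (167, [(197, 1)]), (168, [(198, 1)]), (170, [(204, (-1))]), (172, [(207, 1)]), (173, [(208, 1)]), (179, [(214, (-1))]),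 (180, [(215, (-1))]), (183, [(217, 1)]), (189, [(219, (-1))]), (190, [(220, (-1))]), (193, [(222, 1)]), (202, [(224, (-1))]), (212, [(225, (-1))]), (228, [(235, (-1))]), (230, [(237, 1)])]
def M154 : Tr (List (ℕ × ℤ × ℕ × ℕ)) := (.node [] (.node [(9, (-1), 1, 1)] (.node [] (.node [] (.node [(38, (-1), 1, 1)] (.node [] (.node [(77, (-1), 1, 1)] (.node [(159, (-1), 1, 1)] .nil .nil) .nil) .nil) .nil) (.node [(59, 1, 1, 1)] (.node [] .nil (.node [(145, (-1), 1, 1)] .nil .nil)) (.node [] (.node [(124, 1, 1, 1)] .nil .nil) .nil))) (.node [] (.node [] (.node [] .nil (.node [] (.node [(186, 1, 1, 1)] .nil .nil) (.node [(235, 1, 1, 1)] .nil .nil))) (.node [] (.node [] .nil (.node [(225, 1, 1, 1)] .nil .nil)) (.node [(152, (-1), 1, 1)] .nil .nil))) (.node [] (.node [] .nil (.node [] (.node [(207, (-1), 1, 1)] .nil .nil) .nil)) .nil))) (.node [] (.node [] (.node [(47, 1, 1, 1)] (.node [] (.node [] (.node [(161, 1, 1, 1)] .nil .nil) .nil) (.node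 [(139, (-1), 1, 1)] .nil .nil)) .nil) (.node [(61, (-1), 1, 1)] (.node [] (.node [] .nil (.node [(224, 1, 1, 1)] .nil .nil)) .nil) (.node [] (.node [(130, 1, 1, 1)] .nil .nil) .nil))) (.node [] (.node [] (.node [] .nil (.node [] (.node [(195, (-1), 1, 1)] .nil .nil) .nil)) (.node [(76, (-1), 1, 1)] .nil .nil)) (.node [] (.node [] .nil (.node [(150, (-1), 1, 1)] (.node [(209, 1, 1, 1)] .nil .nil) .nil)) .nil)))) (.node [] (.node [(12, (-1), 1, 1)] (.node [] (.node [] (.node [(68, 1, 1, 1)] (.node [] .nil (.node [(222, (-1), 1, 1)] .nil .nil)) .nil) (.node [] (.node [(112, 1, 1, 1)] .nil .nil) .nil)) (.node [] (.node [(71, (-1), 1, 1)] .nil (.node [] (.node [(199, 1, 1, 1)] .nil .nil) .nil)) (.node [] .nil (.node [(155, (-1), 1, 1)] .nil .nil)))) (.node [] (.node [(51, (-1), 1, 1)] (.node [] .nil (.node [(142, 1, 1, 1)] .nil .nil)) (.node [] (.node [(119, 1, 1, 1)] .nil .nil) (.node [] (.node [(216, (-1), 1, 1)] .nil .nil) .nil))) (.node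 [] (.node [(74, 1, 1, 1)] .nil .nil) (.node [] (.node [(133, (-1), 1, 1)] .nil .nil) (.node [] (.node [(219, 1, 1, 1)] .nil .nil) .nil))))) (.node [] (.node [] (.node [(49, 1, 1, 1)] (.node [(69, 1, 1, 1)] .nil (.node [] (.node [(176, 1, 1, 1)] .nil .nil) .nil)) (.node [] (.node [(113, 1, 1, 1)] .nil .nil) (.node [] (.node [(214, 1, 1, 1)] .nil .nil) .nil))) (.node [] (.node [(73, 1, 1, 1)] .nil (.node [(147, 1, 1, 1)] (.node [(205, (-1), 1, 1)] .nil .nil) .nil)) .nil)) (.node [(28, (-1), 1, 1)] (.node [(57, 1, 1, 1)] (.node [] .nil (.node [] (.node [(197, (-1), 1, 1)] .nil .nil) (.node [(238, 1, 1, 1)] .nil .nil))) (.node [] (.node [(121, 1, 1, 1)] .nil .nil) (.node [(153, (-1), 1, 1)] (.node [(217, (-1), 1, 1)] .nil .nil) .nil))) (.node [(66, (-1), 1, 1)] (.node [] (.node [(110, (-1), 1, 1)] .nil .nil) .nil) (.node [] (.node [(136, 1, 1, 1)] .nil .nil) (.node [(157, (-1), 1, 1)] (.node [(221, (-1), 1, 1)] .nil .nil) .nil)))))))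
def C154 : List (ℕ × List (ℕ × ℤ)) := [(1, [(9, (-1))]), (4, [(12, (-1))]), (14, [(28, (-1))]), (15, [(38, (-1))]), (17, [(47, 1)]), (18, [(49, 1)]), (20, [(51, (-1))]), (22, [(57, 1)]), (23, [(59, 1)]), (25, [(61, (-1))]), (30, [(66, (-1))]), (32, [(68, 1)]), (34, [(69, 1)]), (40, [(71, (-1))]), (42, [(73, 1)]), (44, [(74, 1)]), (53, [(76, (-1))]), (63, [(77, (-1))]), (78, [(110, (-1))]), (80, [(112, 1)]), (82, [(113, 1)]), (84, [(119, 1)]), (86, [(121, 1)]), (87, [(124, 1)]), (89, [(130, 1)]), (92, [(133, (-1))]), (94, [(136, 1)]), (97, [(139, (-1))]), (100, [(142, 1)]), (103, [(145, (-1))]), (106, [(147, 1)]), (109, [(150, (-1))]), (115, [(152, (-1))]), (118, [(153, (-1))]), (120, [(155, (-1))]), (126, [(157, (-1))]), (127, [(159, (-1))]), (129, [(161, 1)]), (162, [(176, 1)]), (163, [(186, 1)]), (165, [(195, (-1))]), (166, [(197, (-1))]), (168, [(199, 1)]), (170, [(205, (-1))]), (171, [(207, (-1))]), (173, [(209, 1)]), (178, [(214,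 1)]), (180, [(216, (-1))]), (182, [(217, (-1))]), (188, [(219, 1)]), (190, [(221, (-1))]), (192, [(222, (-1))]), (201, [(224, 1)]), (211, [(225, 1)]), (227, [(235, 1)]), (230, [(238, 1)])]
def M155 : Tr (List (ℕ × ℤ × ℕ × ℕ)) := (.node [(9, (-1), 1, 1)] (.node [] (.node [] (.node [] (.node [(39, 1, 1, 1)] (.node [(68, 1, 1, 1)] (.node [] (.node [(160, (-1), 1, 1)] .nil .nil) (.node [(222, 1, 1, 1)] .nil .nil)) .nil) (.node [] (.node [(112, 1, 1, 1)] .nil .nil) .nil)) (.node [(60, (-1), 1, 1)] (.node [] .nil (.node [(146, (-1), 1, 1)] (.node [(199, (-1), 1, 1)] .nil .nil) .nil)) (.node [] (.node [(125, 1, 1, 1)] .nil .nil) (.node [(154, (-1), 1, 1)] .nil .nil)))) (.node [] (.node [(51, (-1), 1, 1)] (.node [] .nil (.node [(142, 1, 1, 1)] (.node [(187, 1, 1, 1)] .nil .nil) .nil)) (.node [] .nil (.node [] (.node [(216, 1, 1, 1)] .nil .nil) .nil))) (.node [] (.node [(74, 1, 1, 1)] .nil (.node [] (.node [(208, (-1), 1, 1)] .nil .nil) .nil))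 .nil))) (.node [] (.node [] (.node [(48, (-1), 1, 1)] (.node [(69, 1, 1, 1)] .nil (.node [(140, (-1), 1, 1)] .nil .nil)) (.node [] (.node [(113, 1, 1, 1)] .nil .nil) .nil)) (.node [] (.node [(73, 1, 1, 1)] .nil (.node [(147, 1, 1, 1)] .nil .nil)) .nil)) (.node [] (.node [] (.node [] .nil (.node [] (.node [(196, (-1), 1, 1)] .nil .nil) .nil)) (.node [] (.node [(120, 1, 1, 1)] .nil .nil) (.node [(153, (-1), 1, 1)] (.node [(217, 1, 1, 1)] .nil .nil) .nil))) (.node [] (.node [] .nil (.node [(151, (-1), 1, 1)] .nil .nil)) (.node [] (.node [(136, 1, 1, 1)] .nil .nil) (.node [] (.node [(221, 1, 1, 1)] .nil .nil) .nil)))))) (.node [] (.node [(13, 1, 1, 1)] (.node [] (.node [] (.node [] (.node [] (.node [(161, (-1), 1, 1)] .nil .nil) .nil) .nil) .nil) (.node [(61, (-1), 1, 1)] (.node [(72, 1, 1, 1)] (.node [] .nil (.node [(224, (-1), 1, 1)] .nil .nil)) .nil) (.node [] (.node [(130, 1, 1, 1)] .nil .nil) .nil))) (.node [] (.node [] .nil (.node [(76,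 (-1), 1, 1)] .nil .nil)) (.node [] (.node [] .nil (.node [] (.node [(209, (-1), 1, 1)] .nil .nil) .nil)) (.node [] (.node [(134, (-1), 1, 1)] .nil .nil) (.node [] (.node [(220, 1, 1, 1)] .nil .nil) .nil))))) (.node [] (.node [] (.node [(50, (-1), 1, 1)] (.node [] .nil (.node [] (.node [(177, 1, 1, 1)] .nil .nil) (.node [(235, (-1), 1, 1)] .nil .nil))) (.node [] (.node [] .nil (.node [(225, (-1), 1, 1)] .nil .nil)) (.node [(152, (-1), 1, 1)] (.node [(215, 1, 1, 1)] .nil .nil) .nil))) (.node [] (.node [] .nil (.node [] (.node [(206, (-1), 1, 1)] .nil .nil) .nil)) .nil)) (.node [(29, 1, 1, 1)] (.node [(58, (-1), 1, 1)] (.node [] .nil (.node [] (.node [(198, (-1), 1, 1)] .nil .nil) (.node [(239, 1, 1, 1)] .nil .nil))) (.node [] (.node [(122, 1, 1, 1)] .nil .nil) .nil)) (.node [(67, 1, 1, 1)] (.node [] (.node [(111, 1, 1, 1)] .nil .nil) .nil) (.node [(77, (-1), 1, 1)] .nil (.node [(158, (-1), 1, 1)] .nil .nil)))))))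
def C155 : List (ℕ × List (ℕ × ℤ)) := [(0, [(9, (-1))]), (4, [(13, 1)]), (14, [(29, 1)]), (15, [(39, 1)]), (17, [(48, (-1))]), (18, [(50, (-1))]), (19, [(51, (-1))]), (22, [(58, (-1))]), (23, [(60, (-1))]), (24, [(61, (-1))]), (30, [(67, 1)]), (31, [(68, 1)]), (33, [(69, 1)]), (40, [(72, 1)]), (41, [(73, 1)]), (43, [(74, 1)]), (52, [(76, (-1))]), (62, [(77, (-1))]), (78, [(111, 1)]), (79, [(112, 1)]), (81, [(113, 1)]), (85, [(120, 1)]), (86, [(122, 1)]), (87, [(125, 1)]), (88, [(130, 1)]), (92, [(134, (-1))]), (93, [(136, 1)]), (97, [(140, (-1))]), (99, [(142, 1)]), (103, [(146, (-1))]), (105, [(147, 1)]), (109, [(151, (-1))]), (114, [(152, (-1))]), (117, [(153, (-1))]), (119, [(154, (-1))]), (126, [(158, (-1))]), (127, [(160, (-1))]), (128, [(161, (-1))]), (162, [(177, 1)]), (163, [(187, 1)]), (165, [(196, (-1))]), (166, [(198, (-1))]), (167, [(199, (-1))]), (170, [(206, (-1))]), (171, [(208, (-1))]), (172, [(209, (-1))]), (178, [(215,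 1)]), (179, [(216, 1)]), (181, [(217, 1)]), (188, [(220, 1)]), (189, [(221, 1)]), (191, [(222, 1)]), (200, [(224, (-1))]), (210, [(225, (-1))]), (226, [(235, (-1))]), (230, [(239, 1)])]
def M156 : Tr (List (ℕ × ℤ × ℕ × ℕ)) := (.node [] (.node [] (.node [(11, 1, 1, 1)] (.node [] (.node [(40, (-1), 1, 1)] (.node [] .nil (.node [(137, 1, 1, 1)] .nil .nil)) (.node [] (.node [(114, (-1), 1, 1)] .nil .nil) .nil)) (.node [] (.node [(72, (-1), 1, 1)] (.node [] .nil (.node [(224, 1, 1, 1)] .nil .nil)) (.node [] (.node [(200, 1, 1, 1)] .nil .nil) .nil)) (.node [] (.node [(127, (-1), 1, 1)] .nil .nil) (.node [] (.node [(218, 1, 1, 1)] .nil .nil) .nil)))) (.node [] (.node [(52, (-1), 1, 1)] (.node [(70, (-1), 1, 1)] .nil (.node [] (.node [(188, 1, 1, 1)] .nil .nil) .nil)) (.node [(76, (-1), 1, 1)] .nil .nil)) (.node [] (.node [] .nil (.node [(148, 1, 1, 1)] .nil .nil)) (.node [] (.node [(132, (-1), 1, 1)] .nil .nil) (.node [] (.node [(220, 1, 1,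 1)] .nil .nil) .nil))))) (.node [] (.node [] (.node [] (.node [] (.node [] .nil (.node [(223, 1, 1, 1)] .nil .nil)) .nil) (.node [] (.node [(117, 1, 1, 1)] .nil (.node [(225, 1, 1, 1)] .nil .nil)) (.node [(153, (-1), 1, 1)] (.node [(215, 1, 1, 1)] .nil .nil) .nil))) (.node [(63, (-1), 1, 1)] (.node [] .nil (.node [] (.node [(204, 1, 1, 1)] .nil .nil) .nil)) (.node [] .nil (.node [(157, (-1), 1, 1)] .nil .nil)))) (.node [] (.node [(56, (-1), 1, 1)] (.node [] .nil (.node [(143, 1, 1, 1)] .nil (.node [(237, (-1), 1, 1)] .nil .nil))) .nil) (.node [(67, (-1), 1, 1)] (.node [(75, (-1), 1, 1)] .nil (.node [] (.node [(211, 1, 1, 1)] .nil .nil) .nil)) (.node [(77, (-1), 1, 1)] .nil (.node [(160, 1, 1, 1)] .nil .nil)))))) (.node [(10, 1, 1, 1)] (.node [] (.node [] (.node [(46, (-1), 1, 1)] (.node [] .nil (.node [(138, (-1), 1, 1)] .nil .nil)) (.node [] (.node [(115, (-1), 1, 1)] .nil .nil) (.node [(152, 1, 1, 1)] (.node [(214, 1, 1, 1)] .nil .nil)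 .nil))) (.node [(62, (-1), 1, 1)] (.node [] .nil (.node [] (.node [(201, 1, 1, 1)] .nil .nil) .nil)) .nil)) (.node [] (.node [(53, (-1), 1, 1)] (.node [] .nil (.node [] (.node [(194, 1, 1, 1)] .nil .nil) (.node [(236, (-1), 1, 1)] .nil .nil))) .nil) (.node [(66, (-1), 1, 1)] (.node [] .nil (.node [(149, (-1), 1, 1)] (.node [(210, 1, 1, 1)] .nil .nil) .nil)) (.node [] .nil (.node [(159, 1, 1, 1)] .nil .nil))))) (.node [] (.node [] (.node [] (.node [] .nil (.node [] (.node [(178, 1, 1, 1)] .nil .nil) .nil)) (.node [] (.node [(118, 1, 1, 1)] .nil .nil) .nil)) (.node [] .nil (.node [] (.node [(131, 1, 1, 1)] .nil .nil) (.node [(158, (-1), 1, 1)] (.node [(219, 1, 1, 1)] .nil .nil) .nil)))) (.node [(30, (-1), 1, 1)] (.node [] (.node [(71, (-1), 1, 1)] .nil (.node [(144, (-1), 1, 1)] .nil .nil)) (.node [] (.node [(126, 1, 1, 1)] .nil .nil) .nil)) .nil))))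
def C156 : List (ℕ × List (ℕ × ℤ)) := [(2, [(10, 1)]), (3, [(11, 1)]), (14, [(30, (-1))]), (15, [(40, (-1))]), (16, [(46, (-1))]), (19, [(52, (-1))]), (20, [(53, (-1))]), (21, [(56, (-1))]), (24, [(62, (-1))]), (25, [(63, (-1))]), (28, [(66, (-1))]), (29, [(67, (-1))]), (35, [(70, (-1))]), (38, [(71, (-1))]), (39, [(72, (-1))]), (45, [(75, (-1))]), (51, [(76, (-1))]), (61, [(77, (-1))]), (79, [(114, (-1))]), (80, [(115, (-1))]), (81, [(117, 1)]), (82, [(118, 1)]), (86, [(126, 1)]), (87, [(127, (-1))]), (90, [(131, 1)]), (91, [(132, (-1))]), (95, [(137, 1)]), (96, [(138, (-1))]), (101, [(143, 1)]), (102, [(144, (-1))]), (107, [(148, 1)]), (108, [(149, (-1))]), (112, [(152, 1)]), (113, [(153, (-1))]), (121, [(157, (-1))]), (122, [(158, (-1))]), (124, [(159, 1)]), (125, [(160, 1)]), (162, [(178, 1)]), (163, [(188, 1)]), (164, [(194, 1)]), (167, [(200, 1)]), (168, [(201, 1)]), (169, [(204, 1)]), (172, [(210, 1)]), (173, [(211, 1)]), (176,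 [(214, 1)]), (177, [(215, 1)]), (183, [(218, 1)]), (186, [(219, 1)]), (187, [(220, 1)]), (193, [(223, 1)]), (199, [(224, 1)]), (209, [(225, 1)]), (228, [(236, (-1))]), (229, [(237, (-1))])]
def M157 : Tr (List (ℕ × ℤ × ℕ × ℕ)) := (.node [] (.node [(10, 1, 1, 1)] (.node [(12, (-1), 1, 1)] (.node [] (.node [(41, 1, 1, 1)] .nil (.node [] .nil (.node [(152, 1, 1, 1)] (.node [(214, (-1), 1, 1)] .nil .nil) .nil))) (.node [(62, (-1), 1, 1)] (.node [(73, 1, 1, 1)] .nil .nil) (.node [] (.node [(128, (-1), 1, 1)] .nil .nil) .nil))) (.node [] (.node [] (.node [] .nil (.node [] (.node [(189, 1, 1, 1)] .nil .nil) (.node [(236, 1, 1, 1)] .nil .nil))) (.node [] (.node [(121, 1, 1, 1)] .nil .nil) .nil)) (.node [(66, (-1), 1, 1)] (.node [] .nil (.node [] (.node [(210, (-1), 1, 1)] .nil .nil) .nil)) (.node [] (.node [(133, (-1), 1, 1)] .nil .nil) (.node [(159, (-1), 1, 1)] (.node [(221, 1, 1, 1)] .nil .nil) .nil))))) (.node [] (.node [] (.node [] .nil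 (.node [] (.node [(119, 1, 1, 1)] .nil .nil) (.node [(154, (-1), 1, 1)] (.node [(216, 1, 1, 1)] .nil .nil) .nil))) (.node [(64, 1, 1, 1)] (.node [] .nil (.node [] (.node [(205, 1, 1, 1)] .nil .nil) .nil)) (.node [] (.node [(131, 1, 1, 1)] .nil .nil) (.node [] (.node [(219, (-1), 1, 1)] .nil .nil) .nil)))) (.node [] (.node [(57, 1, 1, 1)] (.node [(71, (-1), 1, 1)] .nil (.node [] .nil (.node [(238, (-1), 1, 1)] .nil .nil))) (.node [] (.node [(126, 1, 1, 1)] .nil .nil) .nil)) (.node [(68, 1, 1, 1)] (.node [] .nil (.node [] (.node [(212, 1, 1, 1)] .nil .nil) .nil)) (.node [] .nil (.node [(161, 1, 1, 1)] .nil .nil)))))) (.node [] (.node [] (.node [] (.node [(47, 1, 1, 1)] (.node [] (.node [] .nil (.node [(223, (-1), 1, 1)] .nil .nil)) (.node [(139, (-1), 1, 1)] .nil .nil)) (.node [] (.node [(116, 1, 1, 1)] .nil (.node [(225, (-1), 1, 1)] .nil .nil)) .nil)) (.node [] (.node [] .nil (.node [] (.node [(202, 1, 1, 1)] .nil .nil) .nil)) (.node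 [] .nil (.node [(158, (-1), 1, 1)] .nil .nil)))) (.node [] (.node [(54, 1, 1, 1)] (.node [] .nil (.node [(143, 1, 1, 1)] (.node [(195, 1, 1, 1)] .nil .nil) .nil)) .nil) (.node [] (.node [(75, (-1), 1, 1)] .nil (.node [(150, (-1), 1, 1)] .nil .nil)) (.node [(77, (-1), 1, 1)] .nil .nil)))) (.node [] (.node [] (.node [(52, (-1), 1, 1)] (.node [(70, (-1), 1, 1)] .nil (.node [] (.node [(179, 1, 1, 1)] .nil .nil) .nil)) (.node [(76, (-1), 1, 1)] .nil .nil)) (.node [] (.node [] .nil (.node [(148, 1, 1, 1)] .nil .nil)) .nil)) (.node [(31, 1, 1, 1)] (.node [] (.node [] (.node [] .nil (.node [(224, (-1), 1, 1)] .nil .nil)) (.node [(145, (-1), 1, 1)] (.node [(200, (-1), 1, 1)] .nil .nil) .nil)) (.node [] .nil (.node [(156, (-1), 1, 1)] (.node [(218, (-1), 1, 1)] .nil .nil) .nil))) (.node [] (.node [] (.node [(114, (-1), 1, 1)] .nil .nil) .nil) (.node [] (.node [(137, 1, 1, 1)] .nil .nil) .nil))))))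
def C157 : List (ℕ × List (ℕ × ℤ)) := [(1, [(10, 1)]), (3, [(12, (-1))]), (14, [(31, 1)]), (15, [(41, 1)]), (16, [(47, 1)]), (18, [(52, (-1))]), (20, [(54, 1)]), (21, [(57, 1)]), (23, [(62, (-1))]), (25, [(64, 1)]), (27, [(66, (-1))]), (29, [(68, 1)]), (34, [(70, (-1))]), (37, [(71, (-1))]), (39, [(73, 1)]), (44, [(75, (-1))]), (50, [(76, (-1))]), (60, [(77, (-1))]), (78, [(114, (-1))]), (80, [(116, 1)]), (81, [(119, 1)]), (83, [(121, 1)]), (85, [(126, 1)]), (87, [(128, (-1))]), (89, [(131, 1)]), (91, [(133, (-1))]), (94, [(137, 1)]), (96, [(139, (-1))]), (100, [(143, 1)]), (102, [(145, (-1))]), (106, [(148, 1)]), (108, [(150, (-1))]), (111, [(152, 1)]), (113, [(154, (-1))]), (118, [(156, (-1))]), (120, [(158, (-1))]), (123, [(159, (-1))]), (125, [(161, 1)]), (162, [(179, 1)]), (163, [(189, 1)]), (164, [(195, 1)]), (166, [(200, (-1))]), (168, [(202, 1)]), (169, [(205, 1)]), (171, [(210, (-1))]), (173, [(212, 1)]), (175, [(214, (-1))]),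 (177, [(216, 1)]), (182, [(218, (-1))]), (185, [(219, (-1))]), (187, [(221, 1)]), (192, [(223, (-1))]), (198, [(224, (-1))]), (208, [(225, (-1))]), (227, [(236, 1)]), (229, [(238, (-1))])]
def M158 : Tr (List (ℕ × ℤ × ℕ × ℕ)) := (.node [(10, 1, 1, 1)] (.node [] (.node [(13, 1, 1, 1)] (.node [] (.node [(42, (-1), 1, 1)] (.node [] (.node [] .nil (.node [(223, 1, 1, 1)] .nil .nil)) .nil) (.node [] (.node [(116, 1, 1, 1)] .nil (.node [(225, 1, 1, 1)] .nil .nil)) (.node [] (.node [(215, (-1), 1, 1)] .nil .nil) .nil))) (.node [(63, 1, 1, 1)] (.node [] .nil (.node [] (.node [(202, (-1), 1, 1)] .nil .nil) .nil)) (.node [] (.node [(129, (-1), 1, 1)] .nil .nil) (.node [(157, (-1), 1, 1)] .nil .nil)))) (.node [] (.node [(54, 1, 1, 1)] (.node [] .nil (.node [(143, 1, 1, 1)] (.node [(190, 1, 1, 1)] .nil .nil) .nil)) (.node [] (.node [(122, 1, 1, 1)] .nil .nil) .nil)) (.node [(67, 1, 1, 1)] (.node [(75, (-1), 1, 1)] .nil (.node [] (.node [(211, (-1),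 1, 1)] .nil .nil) .nil)) (.node [(77, (-1), 1, 1)] (.node [(134, (-1), 1, 1)] .nil .nil) (.node [(160, (-1), 1, 1)] .nil .nil))))) (.node [] (.node [] (.node [] (.node [(70, (-1), 1, 1)] .nil .nil) (.node [(76, (-1), 1, 1)] .nil (.node [(155, (-1), 1, 1)] .nil .nil))) (.node [] (.node [] .nil (.node [(148, 1, 1, 1)] (.node [(206, 1, 1, 1)] .nil .nil) .nil)) (.node [] .nil (.node [] (.node [(220, (-1), 1, 1)] .nil .nil) .nil)))) (.node [] (.node [(58, (-1), 1, 1)] (.node [(72, 1, 1, 1)] (.node [] .nil (.node [(224, 1, 1, 1)] .nil .nil)) (.node [] .nil (.node [(239, (-1), 1, 1)] .nil .nil))) (.node [] .nil (.node [(156, (-1), 1, 1)] (.node [(218, 1, 1, 1)] .nil .nil) .nil))) (.node [] .nil (.node [] (.node [(137, 1, 1, 1)] .nil .nil) .nil))))) (.node [] (.node [] (.node [] (.node [(48, (-1), 1, 1)] (.node [] .nil (.node [(140, (-1), 1, 1)] .nil .nil)) (.node [] .nil (.node [] (.node [(216, (-1), 1, 1)] .nil .nil) .nil))) (.node [(64, 1,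 1, 1)] .nil (.node [] (.node [(131, 1, 1, 1)] .nil .nil) .nil))) (.node [] (.node [] (.node [] .nil (.node [] (.node [(196, 1, 1, 1)] .nil .nil) .nil)) (.node [] (.node [(126, 1, 1, 1)] .nil .nil) .nil)) (.node [(68, 1, 1, 1)] (.node [] .nil (.node [(151, (-1), 1, 1)] (.node [(212, (-1), 1, 1)] .nil .nil) .nil)) (.node [] .nil (.node [(161, (-1), 1, 1)] .nil .nil))))) (.node [] (.node [] (.node [(53, 1, 1, 1)] (.node [] .nil (.node [] (.node [(180, 1, 1, 1)] .nil .nil) (.node [(236, (-1), 1, 1)] .nil .nil))) (.node [] (.node [(120, 1, 1, 1)] .nil .nil) .nil)) (.node [] .nil (.node [] .nil (.node [] (.node [(221, (-1), 1, 1)] .nil .nil) .nil)))) (.node [(32, (-1), 1, 1)] (.node [] (.node [(73, 1, 1, 1)] .nil (.node [(146, (-1), 1, 1)] (.node [(201, (-1), 1, 1)] .nil .nil) .nil)) .nil) (.node [] (.node [] (.node [(115, 1, 1, 1)] .nil .nil) (.node [(152, 1, 1, 1)] .nil .nil)) .nil)))))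
def C158 : List (ℕ × List (ℕ × ℤ)) := [(0, [(10, 1)]), (3, [(13, 1)]), (14, [(32, (-1))]), (15, [(42, (-1))]), (16, [(48, (-1))]), (18, [(53, 1)]), (19, [(54, 1)]), (21, [(58, (-1))]), (23, [(63, 1)]), (24, [(64, 1)]), (27, [(67, 1)]), (28, [(68, 1)]), (33, [(70, (-1))]), (37, [(72, 1)]), (38, [(73, 1)]), (43, [(75, (-1))]), (49, [(76, (-1))]), (59, [(77, (-1))]), (78, [(115, 1)]), (79, [(116, 1)]), (82, [(120, 1)]), (83, [(122, 1)]), (84, [(126, 1)]), (87, [(129, (-1))]), (88, [(131, 1)]), (91, [(134, (-1))]), (93, [(137, 1)]), (96, [(140, (-1))]), (99, [(143, 1)]), (102, [(146, (-1))]), (105, [(148, 1)]), (108, [(151, (-1))]), (110, [(152, 1)]), (113, [(155, (-1))]), (117, [(156, (-1))]), (119, [(157, (-1))]), (123, [(160, (-1))]), (124, [(161, (-1))]), (162, [(180, 1)]), (163, [(190, 1)]), (164, [(196, 1)]), (166, [(201, (-1))]), (167, [(202, (-1))]), (169, [(206, 1)]), (171, [(211, (-1))]), (172, [(212, (-1))]), (175, [(215, (-1))]),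 (176, [(216, (-1))]), (181, [(218, 1)]), (185, [(220, (-1))]), (186, [(221, (-1))]), (191, [(223, 1)]), (197, [(224, 1)]), (207, [(225, 1)]), (226, [(236, (-1))]), (229, [(239, (-1))])]
def M159 : Tr (List (ℕ × ℤ × ℕ × ℕ)) := (.node [] (.node [(11, (-1), 1, 1)] (.node [] (.node [] (.node [(43, (-1), 1, 1)] (.node [] .nil (.node [(139, (-1), 1, 1)] .nil .nil)) (.node [] (.node [(119, 1, 1, 1)] .nil .nil) (.node [(153, 1, 1, 1)] .nil .nil))) (.node [] (.node [(74, (-1), 1, 1)] .nil .nil) .nil)) (.node [] (.node [] (.node [] .nil (.node [] (.node [(191, 1, 1, 1)] .nil .nil) (.node [(237, 1, 1, 1)] .nil .nil))) (.node [] (.node [(124, (-1), 1, 1)] .nil .nil) (.node [(156, 1, 1, 1)] .nil .nil))) (.node [] (.node [] .nil (.node [(150, (-1), 1, 1)] .nil .nil)) (.node [] .nil (.node [] (.node [(222, 1, 1, 1)] .nil .nil) .nil))))) (.node [] (.node [] (.node [(52, (-1), 1, 1)] .nil (.node [] .nil (.node [] (.node [(217, 1, 1, 1)] .nil .nil) .nil)))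 (.node [(65, (-1), 1, 1)] (.node [] .nil (.node [] (.node [(207, 1, 1, 1)] .nil .nil) .nil)) (.node [] (.node [(132, 1, 1, 1)] .nil .nil) .nil))) (.node [] (.node [(59, (-1), 1, 1)] (.node [] .nil (.node [(145, (-1), 1, 1)] (.node [(200, 1, 1, 1)] .nil .nil) .nil)) (.node [] (.node [(127, 1, 1, 1)] .nil .nil) .nil)) (.node [(69, (-1), 1, 1)] (.node [] .nil (.node [] (.node [(213, 1, 1, 1)] .nil .nil) .nil)) .nil)))) (.node [(12, (-1), 1, 1)] (.node [] (.node [] (.node [(49, (-1), 1, 1)] (.node [(70, (-1), 1, 1)] .nil .nil) (.node [(76, (-1), 1, 1)] .nil (.node [(154, (-1), 1, 1)] .nil .nil))) (.node [] (.node [] .nil (.node [] (.node [(203, 1, 1, 1)] .nil .nil) .nil)) (.node [] .nil (.node [(160, (-1), 1, 1)] (.node [(219, 1, 1, 1)] .nil .nil) .nil)))) (.node [] (.node [(55, (-1), 1, 1)] (.node [(71, (-1), 1, 1)] (.node [] .nil (.node [(224, 1, 1, 1)] .nil .nil)) (.node [(144, 1, 1, 1)] (.node [(197, 1, 1, 1)] .nil .nil) (.node [(238,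 1, 1, 1)] .nil .nil))) (.node [] .nil (.node [(157, (-1), 1, 1)] (.node [(218, 1, 1, 1)] .nil .nil) .nil))) .nil)) (.node [] (.node [] (.node [] (.node [] .nil (.node [] (.node [(181, 1, 1, 1)] .nil .nil) .nil)) (.node [] (.node [(123, 1, 1, 1)] .nil .nil) .nil)) (.node [(66, (-1), 1, 1)] (.node [(75, (-1), 1, 1)] .nil (.node [(149, 1, 1, 1)] (.node [(210, 1, 1, 1)] .nil .nil) .nil)) (.node [(77, (-1), 1, 1)] (.node [(133, (-1), 1, 1)] .nil .nil) (.node [(161, 1, 1, 1)] .nil .nil)))) (.node [(33, (-1), 1, 1)] (.node [(62, (-1), 1, 1)] .nil (.node [] (.node [(128, (-1), 1, 1)] .nil .nil) .nil)) (.node [] (.node [] (.node [(117, (-1), 1, 1)] .nil (.node [(225, 1, 1, 1)] .nil .nil)) (.node [] (.node [(214, 1, 1, 1)] .nil .nil) .nil)) (.node [] (.node [(138, 1, 1, 1)] .nil .nil) (.node [] (.node [(223, 1, 1, 1)] .nil .nil) .nil)))))))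
def C159 : List (ℕ × List (ℕ × ℤ)) := [(1, [(11, (-1))]), (2, [(12, (-1))]), (14, [(33, (-1))]), (15, [(43, (-1))]), (16, [(49, (-1))]), (17, [(52, (-1))]), (20, [(55, (-1))]), (21, [(59, (-1))]), (22, [(62, (-1))]), (25, [(65, (-1))]), (26, [(66, (-1))]), (29, [(69, (-1))]), (32, [(70, (-1))]), (36, [(71, (-1))]), (39, [(74, (-1))]), (42, [(75, (-1))]), (48, [(76, (-1))]), (58, [(77, (-1))]), (78, [(117, (-1))]), (79, [(119, 1)]), (82, [(123, 1)]), (83, [(124, (-1))]), (85, [(127, 1)]), (86, [(128, (-1))]), (89, [(132, 1)]), (90, [(133, (-1))]), (94, [(138, 1)]), (95, [(139, (-1))]), (100, [(144, 1)]), (101, [(145, (-1))]), (106, [(149, 1)]), (107, [(150, (-1))]), (111, [(153, 1)]), (112, [(154, (-1))]), (115, [(156, 1)]), (116, [(157, (-1))]), (120, [(160, (-1))]), (122, [(161, 1)]), (162, [(181, 1)]), (163, [(191, 1)]), (164, [(197, 1)]), (165, [(200, 1)]), (168, [(203, 1)]), (169, [(207, 1)]), (170, [(210, 1)]), (173, [(213, 1)]),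 (174, [(214, 1)]), (177, [(217, 1)]), (180, [(218, 1)]), (184, [(219, 1)]), (187, [(222, 1)]), (190, [(223, 1)]), (196, [(224, 1)]), (206, [(225, 1)]), (227, [(237, 1)]), (228, [(238, 1)])]
def M160 : Tr (List (ℕ × ℤ × ℕ × ℕ)) := (.node [(11, (-1), 1, 1)] (.node [] (.node [] (.node [] (.node [(44, 1, 1, 1)] (.node [(70, (-1), 1, 1)] .nil (.node [(140, (-1), 1, 1)] .nil .nil)) (.node [(76, (-1), 1, 1)] .nil .nil)) (.node [] (.node [] .nil (.node [] (.node [(203, (-1), 1, 1)] .nil .nil) .nil)) (.node [] .nil (.node [(159, (-1), 1, 1)] .nil .nil)))) (.node [] (.node [(55, (-1), 1, 1)] (.node [] (.node [] .nil (.node [(224, (-1), 1, 1)] .nil .nil)) (.node [(144, 1, 1, 1)] (.node [(192, 1, 1, 1)] .nil .nil) .nil)) (.node [] (.node [(125, (-1), 1, 1)] .nil .nil) (.node [] (.node [(218, (-1), 1, 1)] .nil .nil) .nil))) (.node [] (.node [] .nil (.node [(151, (-1), 1, 1)] .nil .nil)) .nil))) (.node [] (.node [] (.node [(53, 1, 1, 1)] .nil (.node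 [] (.node [(123, 1, 1, 1)] .nil .nil) .nil)) (.node [] (.node [(75, (-1), 1, 1)] .nil (.node [(149, 1, 1, 1)] (.node [(208, 1, 1, 1)] .nil .nil) .nil)) (.node [(77, (-1), 1, 1)] .nil (.node [(161, (-1), 1, 1)] .nil .nil)))) (.node [] (.node [(60, 1, 1, 1)] (.node [] .nil (.node [(146, (-1), 1, 1)] (.node [(201, 1, 1, 1)] .nil .nil) .nil)) .nil) (.node [] (.node [] (.node [] .nil (.node [(225, (-1), 1, 1)] .nil .nil)) .nil) (.node [] (.node [(138, 1, 1, 1)] .nil .nil) (.node [] (.node [(223, (-1), 1, 1)] .nil .nil) .nil)))))) (.node [(13, 1, 1, 1)] (.node [] (.node [] (.node [(50, 1, 1, 1)] .nil (.node [] (.node [(120, 1, 1, 1)] .nil .nil) (.node [(155, (-1), 1, 1)] (.node [(217, (-1), 1, 1)] .nil .nil) .nil))) (.node [(65, (-1), 1, 1)] .nil (.node [] (.node [(132, 1, 1, 1)] .nil .nil) (.node [] (.node [(220, 1, 1, 1)] .nil .nil) .nil)))) (.node [] (.node [] (.node [(72, 1, 1, 1)] .nil (.node [] (.node [(198, 1, 1, 1)] .nil .nil) (.node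 [(239, 1, 1, 1)] .nil .nil))) (.node [] (.node [(127, 1, 1, 1)] .nil .nil) (.node [(158, (-1), 1, 1)] .nil .nil))) (.node [(69, (-1), 1, 1)] (.node [] .nil (.node [] (.node [(213, (-1), 1, 1)] .nil .nil) .nil)) .nil))) (.node [] (.node [] (.node [] (.node [] .nil (.node [] (.node [(182, 1, 1, 1)] .nil .nil) (.node [(237, (-1), 1, 1)] .nil .nil))) (.node [] .nil (.node [(156, 1, 1, 1)] .nil .nil))) (.node [(67, 1, 1, 1)] (.node [] .nil (.node [] (.node [(211, 1, 1, 1)] .nil .nil) .nil)) (.node [] (.node [(134, (-1), 1, 1)] .nil .nil) (.node [] (.node [(222, (-1), 1, 1)] .nil .nil) .nil)))) (.node [(34, 1, 1, 1)] (.node [(63, 1, 1, 1)] (.node [(74, (-1), 1, 1)] .nil .nil) (.node [] (.node [(129, (-1), 1, 1)] .nil .nil) .nil)) (.node [] (.node [] (.node [(118, 1, 1, 1)] .nil .nil) (.node [(153, 1, 1, 1)] (.node [(215, 1, 1, 1)] .nil .nil) .nil)) .nil)))))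
def C160 : List (ℕ × List (ℕ × ℤ)) := [(0, [(11, (-1))]), (2, [(13, 1)]), (14, [(34, 1)]), (15, [(44, 1)]), (16, [(50, 1)]), (17, [(53, 1)]), (19, [(55, (-1))]), (21, [(60, 1)]), (22, [(63, 1)]), (24, [(65, (-1))]), (26, [(67, 1)]), (28, [(69, (-1))]), (31, [(70, (-1))]), (36, [(72, 1)]), (38, [(74, (-1))]), (41, [(75, (-1))]), (47, [(76, (-1))]), (57, [(77, (-1))]), (78, [(118, 1)]), (80, [(120, 1)]), (81, [(123, 1)]), (83, [(125, (-1))]), (84, [(127, 1)]), (86, [(129, (-1))]), (88, [(132, 1)]), (90, [(134, (-1))]), (93, [(138, 1)]), (95, [(140, (-1))]), (99, [(144, 1)]), (101, [(146, (-1))]), (105, [(149, 1)]), (107, [(151, (-1))]), (110, [(153, 1)]), (112, [(155, (-1))]), (114, [(156, 1)]), (116, [(158, (-1))]), (119, [(159, (-1))]), (121, [(161, (-1))]), (162, [(182, 1)]), (163, [(192, 1)]), (164, [(198, 1)]), (165, [(201, 1)]), (167, [(203, (-1))]), (169, [(208, 1)]), (170, [(211, 1)]), (172, [(213, (-1))]), (174, [(215, 1)]), (176,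 [(217, (-1))]), (179, [(218, (-1))]), (184, [(220, 1)]), (186, [(222, (-1))]), (189, [(223, (-1))]), (195, [(224, (-1))]), (205, [(225, (-1))]), (226, [(237, (-1))]), (228, [(239, 1)])]
def M161 : Tr (List (ℕ × ℤ × ℕ × ℕ)) := (.node [(12, 1, 1, 1)] (.node [(13, 1, 1, 1)] (.node [] (.node [] (.node [(45, (-1), 1, 1)] .nil (.node [] (.node [(121, 1, 1, 1)] .nil .nil) (.node [(155, (-1), 1, 1)] (.node [(217, 1, 1, 1)] .nil .nil) .nil))) (.node [(65, (-1), 1, 1)] .nil .nil)) (.node [] (.node [] (.node [] .nil (.node [(145, 1, 1, 1)] (.node [(193, 1, 1, 1)] .nil .nil) (.node [(239, (-1), 1, 1)] .nil .nil))) (.node [] .nil (.node [(158, (-1), 1, 1)] .nil .nil))) (.node [(69, (-1), 1, 1)] (.node [] .nil (.node [] (.node [(213, 1, 1, 1)] .nil .nil) .nil)) .nil))) (.node [] (.node [] (.node [(54, (-1), 1, 1)] .nil (.node [] (.node [(124, 1, 1, 1)] .nil .nil) .nil)) (.node [] (.node [] .nil (.node [(150, 1, 1, 1)] (.node [(209, 1, 1, 1)] .nil .nil)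 .nil)) (.node [] (.node [(134, (-1), 1, 1)] .nil .nil) (.node [] (.node [(222, 1, 1, 1)] .nil .nil) .nil)))) (.node [] (.node [(61, (-1), 1, 1)] (.node [(74, (-1), 1, 1)] .nil (.node [] (.node [(202, 1, 1, 1)] .nil .nil) .nil)) (.node [] (.node [(129, (-1), 1, 1)] .nil .nil) (.node [(159, 1, 1, 1)] .nil .nil))) (.node [] .nil (.node [] (.node [(139, 1, 1, 1)] .nil .nil) .nil))))) (.node [] (.node [] (.node [] (.node [(51, (-1), 1, 1)] .nil (.node [] (.node [(122, (-1), 1, 1)] .nil .nil) .nil)) (.node [] (.node [(75, (-1), 1, 1)] .nil .nil) (.node [(77, (-1), 1, 1)] (.node [(133, 1, 1, 1)] .nil .nil) (.node [] (.node [(221, 1, 1, 1)] .nil .nil) .nil)))) (.node [] (.node [] (.node [(73, (-1), 1, 1)] .nil (.node [(146, (-1), 1, 1)] (.node [(199, 1, 1, 1)] .nil .nil) .nil)) (.node [] (.node [(128, 1, 1, 1)] .nil .nil) .nil)) (.node [] (.node [] (.node [] .nil (.node [(225, 1, 1, 1)] .nil .nil)) .nil) (.node [] .nil (.node [] (.node [(223,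 1, 1, 1)] .nil .nil) .nil))))) (.node [] (.node [] (.node [(55, (-1), 1, 1)] (.node [] (.node [] .nil (.node [(224, 1, 1, 1)] .nil .nil)) (.node [] (.node [(183, 1, 1, 1)] .nil .nil) (.node [(238, (-1), 1, 1)] .nil .nil))) (.node [] (.node [(125, (-1), 1, 1)] .nil .nil) (.node [(157, 1, 1, 1)] (.node [(218, 1, 1, 1)] .nil .nil) .nil))) (.node [(68, (-1), 1, 1)] (.node [] .nil (.node [(151, (-1), 1, 1)] (.node [(212, 1, 1, 1)] .nil .nil) .nil)) .nil)) (.node [(35, (-1), 1, 1)] (.node [(64, (-1), 1, 1)] (.node [] .nil (.node [] (.node [(203, 1, 1, 1)] .nil .nil) .nil)) (.node [] .nil (.node [(160, (-1), 1, 1)] .nil .nil))) (.node [(70, (-1), 1, 1)] (.node [(76, (-1), 1, 1)] .nil (.node [(154, 1, 1, 1)] (.node [(216, 1, 1, 1)] .nil .nil) .nil)) (.node [] (.node [(140, (-1), 1, 1)] .nil .nil) .nil))))))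
def C161 : List (ℕ × List (ℕ × ℤ)) := [(0, [(12, 1)]), (1, [(13, 1)]), (14, [(35, (-1))]), (15, [(45, (-1))]), (16, [(51, (-1))]), (17, [(54, (-1))]), (18, [(55, (-1))]), (21, [(61, (-1))]), (22, [(64, (-1))]), (23, [(65, (-1))]), (26, [(68, (-1))]), (27, [(69, (-1))]), (30, [(70, (-1))]), (36, [(73, (-1))]), (37, [(74, (-1))]), (40, [(75, (-1))]), (46, [(76, (-1))]), (56, [(77, (-1))]), (79, [(121, 1)]), (80, [(122, (-1))]), (81, [(124, 1)]), (82, [(125, (-1))]), (84, [(128, 1)]), (85, [(129, (-1))]), (88, [(133, 1)]), (89, [(134, (-1))]), (93, [(139, 1)]), (94, [(140, (-1))]), (99, [(145, 1)]), (100, [(146, (-1))]), (105, [(150, 1)]), (106, [(151, (-1))]), (110, [(154, 1)]), (111, [(155, (-1))]), (114, [(157, 1)]), (115, [(158, (-1))]), (117, [(159, 1)]), (118, [(160, (-1))]), (162, [(183, 1)]), (163, [(193, 1)]), (164, [(199, 1)]), (165, [(202, 1)]), (166, [(203, 1)]), (169, [(209, 1)]), (170, [(212, 1)]), (171, [(213, 1)]), (174,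 [(216, 1)]), (175, [(217, 1)]), (178, [(218, 1)]), (184, [(221, 1)]), (185, [(222, 1)]), (188, [(223, 1)]), (194, [(224, 1)]), (204, [(225, 1)]), (226, [(238, (-1))]), (227, [(239, (-1))])]
def M162 : Tr (List (ℕ × ℤ × ℕ × ℕ)) := (.node [] (.node [] (.node [] (.node [] (.node [] (.node [] (.node [(85, 1, 1, 1)] .nil .nil) (.node [] (.node [(181, (-1), 1, 1)] .nil .nil) (.node [(230, 1, 1, 1)] .nil .nil))) .nil) (.node [] (.node [] (.node [(99, 1, 1, 1)] (.node [(163, (-1), 1, 1)] .nil .nil) .nil) .nil) (.node [] (.node [] (.node [(173, (-1), 1, 1)] .nil .nil) .nil) .nil))) (.node [(18, (-1), 1, 1)] (.node [] (.node [] (.node [(89, 1, 1, 1)] .nil .nil) .nil) (.node [] (.node [] (.node [(169, (-1), 1, 1)] .nil .nil) .nil) .nil)) (.node [] (.node [] (.node [(103, 1, 1, 1)] (.node [(167, (-1), 1, 1)] .nil .nil) .nil) .nil) (.node [(81, 1, 1, 1)] (.node [] (.node [(177, (-1), 1, 1)] .nil .nil) (.node [(226, 1, 1, 1)] .nil .nil)) .nil)))) (.node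 [] (.node [(16, (-1), 1, 1)] (.node [] (.node [] (.node [(87, 1, 1, 1)] .nil .nil) (.node [] (.node [(183, (-1), 1, 1)] .nil .nil) (.node [(233, 1, 1, 1)] .nil .nil))) .nil) (.node [] (.node [] (.node [(101, 1, 1, 1)] (.node [(165, (-1), 1, 1)] .nil .nil) .nil) .nil) (.node [(79, 1, 1, 1)] (.node [] (.node [(175, (-1), 1, 1)] .nil .nil) .nil) .nil))) (.node [(20, (-1), 1, 1)] (.node [] (.node [] (.node [(91, 1, 1, 1)] .nil .nil) .nil) (.node [] (.node [] (.node [(171, (-1), 1, 1)] .nil .nil) .nil) .nil)) (.node [] .nil (.node [(83, 1, 1, 1)] (.node [] (.node [(179, (-1), 1, 1)] .nil .nil) (.node [(228, 1, 1, 1)] .nil .nil)) .nil))))) (.node [] (.node [] (.node [(15, (-1), 1, 1)] (.node [] (.node [] (.node [(86, 1, 1, 1)] .nil .nil) (.node [] (.node [(182, (-1), 1, 1)] .nil .nil) (.node [(231, 1, 1, 1)] .nil .nil))) .nil) (.node [] (.node [] (.node [(100, 1, 1, 1)] (.node [(164, (-1), 1, 1)] .nil .nil) .nil) .nil) (.node [(78, 1, 1, 1)]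 (.node [] (.node [(174, (-1), 1, 1)] .nil .nil) .nil) .nil))) (.node [(19, (-1), 1, 1)] (.node [] (.node [] (.node [(90, 1, 1, 1)] .nil .nil) .nil) (.node [] (.node [] (.node [(170, (-1), 1, 1)] .nil .nil) .nil) .nil)) (.node [] (.node [] (.node [(104, 1, 1, 1)] (.node [(168, (-1), 1, 1)] .nil .nil) .nil) .nil) (.node [(82, 1, 1, 1)] (.node [] (.node [(178, (-1), 1, 1)] .nil .nil) (.node [(227, 1, 1, 1)] .nil .nil)) .nil)))) (.node [(14, (-1), 1, 1)] (.node [(17, (-1), 1, 1)] (.node [] (.node [] (.node [(88, 1, 1, 1)] .nil .nil) .nil) .nil) (.node [] (.node [] (.node [(102, 1, 1, 1)] (.node [(166, (-1), 1, 1)] .nil .nil) .nil) .nil) (.node [(80, 1, 1, 1)] (.node [] (.node [(176, (-1), 1, 1)] .nil .nil) .nil) .nil))) (.node [] (.node [] (.node [] (.node [(92, 1, 1, 1)] .nil .nil) .nil) (.node [] (.node [] (.node [(172, (-1), 1, 1)] .nil .nil) .nil) .nil)) (.node [] .nil (.node [(84, 1, 1, 1)] (.node [] (.node [(180, (-1), 1, 1)] .nil .nil)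 (.node [(229, 1, 1, 1)] .nil .nil)) .nil))))))
def C162 : List (ℕ × List (ℕ × ℤ)) := [(6, [(14, (-1))]), (8, [(15, (-1))]), (9, [(16, (-1))]), (10, [(17, (-1))]), (11, [(18, (-1))]), (12, [(19, (-1))]), (13, [(20, (-1))]), (56, [(78, 1)]), (57, [(79, 1)]), (58, [(80, 1)]), (59, [(81, 1)]), (60, [(82, 1)]), (61, [(83, 1)]), (62, [(84, 1)]), (63, [(85, 1)]), (64, [(86, 1)]), (65, [(87, 1)]), (66, [(88, 1)]), (67, [(89, 1)]), (68, [(90, 1)]), (69, [(91, 1)]), (70, [(92, 1)]), (71, [(99, 1)]), (72, [(100, 1)]), (73, [(101, 1)]), (74, [(102, 1)]), (75, [(103, 1)]), (76, [(104, 1)]), (135, [(163, (-1))]), (136, [(164, (-1))]), (137, [(165, (-1))]), (138, [(166, (-1))]), (139, [(167, (-1))]), (140, [(168, (-1))]), (147, [(169, (-1))]), (148, [(170, (-1))]), (149, [(171, (-1))]), (150, [(172, (-1))]), (151, [(173, (-1))]), (152, [(174, (-1))]), (153, [(175, (-1))]), (154, [(176, (-1))]), (155, [(177, (-1))]), (156, [(178, (-1))]), (157, [(179,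 (-1))]), (158, [(180, (-1))]), (159, [(181, (-1))]), (160, [(182, (-1))]), (161, [(183, (-1))]), (219, [(226, 1)]), (220, [(227, 1)]), (221, [(228, 1)]), (222, [(229, 1)]), (223, [(230, 1)]), (224, [(231, 1)]), (225, [(233, 1)])]
def M163 : Tr (List (ℕ × ℤ × ℕ × ℕ)) := (.node [] (.node [] (.node [] (.node [(15, (-1), 1, 1)] (.node [] (.node [] .nil (.node [] (.node [(191, (-1), 1, 1)] .nil .nil) .nil)) (.node [(79, 1, 1, 1)] (.node [] (.node [(170, 1, 1, 1)] .nil .nil) .nil) .nil)) (.node [] (.node [] (.node [(105, 1, 1, 1)] .nil .nil) .nil) (.node [(87, 1, 1, 1)] (.node [] .nil (.node [(227, (-1), 1, 1)] .nil .nil)) .nil))) (.node [(23, 1, 1, 1)] (.node [] (.node [] (.node [(94, (-1), 1, 1)] (.node [(165, (-1), 1, 1)] .nil .nil) .nil) .nil) (.node [(83, 1, 1, 1)] .nil .nil)) (.node [] (.node [] (.node [(109, 1, 1, 1)] .nil .nil) .nil) (.node [] (.node [] (.node [(187, (-1), 1, 1)] .nil .nil) .nil) .nil)))) (.node [(14, (-1), 1, 1)] (.node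 [(21, 1, 1, 1)] (.node [] (.node [] .nil (.node [] (.node [(193, (-1), 1, 1)] .nil .nil) (.node [(234, 1, 1, 1)] .nil .nil))) (.node [(81, 1, 1, 1)] (.node [] (.node [(172, 1, 1, 1)] .nil .nil) .nil) .nil)) (.node [] (.node [] (.node [(107, 1, 1, 1)] .nil .nil) .nil) (.node [] (.node [] (.node [(185, (-1), 1, 1)] .nil .nil) (.node [(229, (-1), 1, 1)] .nil .nil)) .nil))) (.node [(25, 1, 1, 1)] (.node [] (.node [] (.node [(96, (-1), 1, 1)] (.node [(167, (-1), 1, 1)] .nil .nil) .nil) .nil) (.node [(85, 1, 1, 1)] .nil .nil)) (.node [] (.node [] (.node [(135, 1, 1, 1)] .nil .nil) .nil) (.node [] (.node [] (.node [(189, (-1), 1, 1)] .nil .nil) .nil) .nil))))) (.node [] (.node [] (.node [] (.node [] (.node [] .nil (.node [] (.node [(192, (-1), 1, 1)] .nil .nil) (.node [(232, 1, 1, 1)] .nil .nil))) (.node [(80, 1, 1, 1)] (.node [] (.node [(171, 1, 1, 1)] .nil .nil) .nil) .nil)) (.node [] (.node [] (.node [(106, 1, 1, 1)] .nil .nil) (.node [(162,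 (-1), 1, 1)] .nil .nil)) (.node [] (.node [] (.node [(184, (-1), 1, 1)] .nil .nil) (.node [(228, (-1), 1, 1)] .nil .nil)) .nil))) (.node [(24, 1, 1, 1)] (.node [] (.node [] (.node [(95, (-1), 1, 1)] (.node [(166, (-1), 1, 1)] .nil .nil) .nil) .nil) (.node [(84, 1, 1, 1)] .nil .nil)) (.node [] .nil (.node [] (.node [] (.node [(188, (-1), 1, 1)] .nil .nil) .nil) .nil)))) (.node [] (.node [(22, 1, 1, 1)] (.node [] (.node [] (.node [(93, (-1), 1, 1)] (.node [(164, (-1), 1, 1)] .nil .nil) .nil) .nil) (.node [(82, 1, 1, 1)] (.node [] (.node [(173, 1, 1, 1)] .nil .nil) .nil) .nil)) (.node [] (.node [] (.node [(108, 1, 1, 1)] .nil .nil) .nil) (.node [] (.node [] (.node [(186, (-1), 1, 1)] .nil .nil) (.node [(230, (-1), 1, 1)] .nil .nil)) .nil))) (.node [] (.node [] (.node [] (.node [(97, (-1), 1, 1)] (.node [(168, (-1), 1, 1)] .nil .nil) .nil) .nil) (.node [(86, 1, 1, 1)] (.node [] .nil (.node [(226, (-1), 1, 1)] .nil .nil)) .nil)) (.node []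 (.node [(78, 1, 1, 1)] (.node [] (.node [(169, 1, 1, 1)] .nil .nil) .nil) .nil) (.node [] (.node [] (.node [(190, (-1), 1, 1)] .nil .nil) .nil) .nil))))))
def C163 : List (ℕ × List (ℕ × ℤ)) := [(5, [(14, (-1))]), (7, [(15, (-1))]), (9, [(21, 1)]), (10, [(22, 1)]), (11, [(23, 1)]), (12, [(24, 1)]), (13, [(25, 1)]), (46, [(78, 1)]), (47, [(79, 1)]), (48, [(80, 1)]), (49, [(81, 1)]), (50, [(82, 1)]), (51, [(83, 1)]), (52, [(84, 1)]), (53, [(85, 1)]), (54, [(86, 1)]), (55, [(87, 1)]), (66, [(93, (-1))]), (67, [(94, (-1))]), (68, [(95, (-1))]), (69, [(96, (-1))]), (70, [(97, (-1))]), (71, [(105, 1)]), (72, [(106, 1)]), (73, [(107, 1)]), (74, [(108, 1)]), (75, [(109, 1)]), (77, [(135, 1)]), (104, [(162, (-1))]), (130, [(164, (-1))]), (131, [(165, (-1))]), (132, [(166, (-1))]), (133, [(167, (-1))]), (134, [(168, (-1))]), (142, [(169, 1)]), (143, [(170, 1)]), (144, [(171, 1)]), (145, [(172, 1)]), (146, [(173, 1)]), (152, [(184, (-1))]), (153,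 [(185, (-1))]), (154, [(186, (-1))]), (155, [(187, (-1))]), (156, [(188, (-1))]), (157, [(189, (-1))]), (158, [(190, (-1))]), (159, [(191, (-1))]), (160, [(192, (-1))]), (161, [(193, (-1))]), (214, [(226, (-1))]), (215, [(227, (-1))]), (216, [(228, (-1))]), (217, [(229, (-1))]), (218, [(230, (-1))]), (224, [(232, 1)]), (225, [(234, 1)])]
def M164 : Tr (List (ℕ × ℤ × ℕ × ℕ)) := (.node [] (.node [] (.node [] (.node [(16, 1, 1, 1)] (.node [] (.node [] (.node [(94, (-1), 1, 1)] (.node [(166, (-1), 1, 1)] .nil .nil) .nil) (.node [] (.node [(197, (-1), 1, 1)] .nil .nil) (.node [(232, (-1), 1, 1)] .nil .nil))) (.node [] (.node [] (.node [(174, 1, 1, 1)] .nil .nil) .nil) .nil)) (.node [] (.node [] (.node [(110, 1, 1, 1)] .nil .nil) (.node [(162, (-1), 1, 1)] .nil .nil)) (.node [(91, (-1), 1, 1)] (.node [] (.node [(187, 1, 1, 1)] .nil .nil) .nil) .nil))) (.node [(27, (-1), 1, 1)] (.node [] .nil (.node [] (.node [] .nil (.node [(227, 1, 1, 1)]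 .nil .nil)) .nil)) (.node [] (.node [(81, 1, 1, 1)] .nil .nil) .nil))) (.node [] (.node [] (.node [] (.node [] (.node [(96, (-1), 1, 1)] (.node [(168, (-1), 1, 1)] .nil .nil) .nil) (.node [] (.node [(199, (-1), 1, 1)] .nil .nil) (.node [(235, 1, 1, 1)] .nil .nil))) (.node [] (.node [] (.node [(176, 1, 1, 1)] .nil .nil) .nil) .nil)) (.node [] (.node [(79, 1, 1, 1)] (.node [(112, 1, 1, 1)] .nil .nil) .nil) .nil)) (.node [(29, (-1), 1, 1)] (.node [] .nil (.node [(89, (-1), 1, 1)] (.node [] (.node [(185, 1, 1, 1)] .nil .nil) (.node [(229, 1, 1, 1)] .nil .nil)) .nil)) (.node [] (.node [(83, 1, 1, 1)] (.node [(136, 1, 1, 1)] (.node [(169, (-1), 1, 1)] .nil .nil) .nil) (.node [(163, (-1), 1, 1)] .nil .nil)) (.node [] (.node [] (.node [(195, (-1), 1, 1)] .nil .nil) .nil) .nil))))) (.node [] (.node [(14, (-1), 1, 1)] (.node [(21, 1, 1, 1)] (.node [] (.node [] (.node [(95, (-1), 1, 1)] (.node [(167, (-1), 1, 1)] .nil .nil) .nil) (.node [] (.node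 [(198, (-1), 1, 1)] .nil .nil) .nil)) (.node [] (.node [] (.node [(175, 1, 1, 1)] .nil .nil) .nil) .nil)) (.node [] (.node [(78, 1, 1, 1)] (.node [(111, 1, 1, 1)] .nil .nil) .nil) .nil)) (.node [(28, (-1), 1, 1)] (.node [] .nil (.node [(88, (-1), 1, 1)] (.node [] (.node [(184, 1, 1, 1)] .nil .nil) (.node [(228, 1, 1, 1)] .nil .nil)) .nil)) (.node [] (.node [(82, 1, 1, 1)] (.node [(130, 1, 1, 1)] .nil .nil) .nil) (.node [] (.node [] (.node [(194, (-1), 1, 1)] .nil .nil) .nil) .nil)))) (.node [] (.node [(26, (-1), 1, 1)] (.node [] .nil (.node [] (.node [] (.node [(177, 1, 1, 1)] .nil .nil) (.node [(226, 1, 1, 1)] .nil .nil)) .nil)) (.node [] (.node [(80, 1, 1, 1)] (.node [(113, 1, 1, 1)] .nil .nil) .nil) (.node [] (.node [] .nil (.node [(231, (-1), 1, 1)] .nil .nil)) .nil))) (.node [] (.node [] (.node [] (.node [(98, 1, 1, 1)] .nil .nil) .nil) (.node [(90, (-1), 1, 1)] (.node [] (.node [(186, 1, 1, 1)] .nil .nil) .nil) .nil)) (.node []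 .nil (.node [(93, (-1), 1, 1)] (.node [] (.node [(196, (-1), 1, 1)] .nil .nil) .nil) (.node [(165, (-1), 1, 1)] .nil .nil)))))))
def C164 : List (ℕ × List (ℕ × ℤ)) := [(4, [(14, (-1))]), (7, [(16, 1)]), (8, [(21, 1)]), (10, [(26, (-1))]), (11, [(27, (-1))]), (12, [(28, (-1))]), (13, [(29, (-1))]), (40, [(78, 1)]), (41, [(79, 1)]), (42, [(80, 1)]), (43, [(81, 1)]), (44, [(82, 1)]), (45, [(83, 1)]), (52, [(88, (-1))]), (53, [(89, (-1))]), (54, [(90, (-1))]), (55, [(91, (-1))]), (62, [(93, (-1))]), (63, [(94, (-1))]), (64, [(95, (-1))]), (65, [(96, (-1))]), (70, [(98, 1)]), (71, [(110, 1)]), (72, [(111, 1)]), (73, [(112, 1)]), (74, [(113, 1)]), (76, [(130, 1)]), (77, [(136, 1)]), (103, [(162, (-1))]), (109, [(163, (-1))]), (126, [(165, (-1))]), (127, [(166, (-1))]), (128, [(167, (-1))]), (129, [(168, (-1))]), (141, [(169, (-1))]), (143, [(174, 1)]), (144, [(175, 1)]), (145, [(176, 1)]), (146, [(177, 1)]), (148, [(184, 1)]), (149, [(185,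 1)]), (150, [(186, 1)]), (151, [(187, 1)]), (156, [(194, (-1))]), (157, [(195, (-1))]), (158, [(196, (-1))]), (159, [(197, (-1))]), (160, [(198, (-1))]), (161, [(199, (-1))]), (210, [(226, 1)]), (211, [(227, 1)]), (212, [(228, 1)]), (213, [(229, 1)]), (218, [(231, (-1))]), (223, [(232, (-1))]), (225, [(235, 1)])]
def M165 : Tr (List (ℕ × ℤ × ℕ × ℕ)) := (.node [] (.node [] (.node [(14, (-1), 1, 1)] (.node [(17, (-1), 1, 1)] (.node [] (.node [] .nil (.node [] (.node [(200, (-1), 1, 1)] .nil .nil) .nil)) (.node [] (.node [] .nil (.node [(226, (-1), 1, 1)] .nil .nil)) .nil)) (.node [] (.node [(80, 1, 1, 1)] (.node [(114, 1, 1, 1)] .nil .nil) .nil) (.node [(92, 1, 1, 1)] (.node [] (.node [(190, 1, 1, 1)] .nil .nil) .nil) .nil))) (.node [(30, 1, 1, 1)] (.node [] .nil (.node [(90, (-1), 1, 1)] (.node [] (.node [(184, (-1), 1, 1)] .nil .nil) .nil) .nil)) (.node [] (.node [(84, (-1), 1, 1)] (.node [(126, 1, 1, 1)] .nil .nil) .nil) (.node [(93,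 (-1), 1, 1)] (.node [] (.node [(196, 1, 1, 1)] .nil .nil) .nil) (.node [(166, (-1), 1, 1)] .nil .nil))))) (.node [] (.node [(26, (-1), 1, 1)] (.node [] (.node [] (.node [(97, 1, 1, 1)] .nil .nil) (.node [] (.node [(202, (-1), 1, 1)] .nil .nil) (.node [(236, 1, 1, 1)] .nil .nil))) (.node [(88, (-1), 1, 1)] (.node [] (.node [(179, 1, 1, 1)] .nil .nil) (.node [(228, (-1), 1, 1)] .nil .nil)) (.node [(164, (-1), 1, 1)] .nil .nil))) (.node [] (.node [] (.node [(116, 1, 1, 1)] .nil .nil) .nil) (.node [] (.node [] (.node [(194, 1, 1, 1)] .nil .nil) (.node [(231, 1, 1, 1)] .nil .nil)) .nil))) (.node [(32, 1, 1, 1)] (.node [] (.node [(78, 1, 1, 1)] (.node [(98, 1, 1, 1)] .nil .nil) .nil) (.node [] (.node [] (.node [(188, 1, 1, 1)] .nil .nil) (.node [(230, 1, 1, 1)] .nil .nil)) .nil)) (.node [] (.node [(86, (-1), 1, 1)] (.node [(137, 1, 1, 1)] (.node [(170, (-1), 1, 1)] .nil .nil) .nil) .nil) (.node [(95, (-1), 1, 1)] .nil (.node [(168, (-1), 1,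 1)] .nil .nil)))))) (.node [] (.node [] (.node [(22, (-1), 1, 1)] (.node [] (.node [] .nil (.node [] (.node [(201, (-1), 1, 1)] .nil .nil) .nil)) (.node [] (.node [] (.node [(178, 1, 1, 1)] .nil .nil) (.node [(227, (-1), 1, 1)] .nil .nil)) .nil)) (.node [] (.node [] (.node [(115, 1, 1, 1)] .nil .nil) .nil) .nil)) (.node [(31, 1, 1, 1)] .nil (.node [] (.node [(85, (-1), 1, 1)] (.node [(131, 1, 1, 1)] .nil .nil) (.node [(163, (-1), 1, 1)] .nil .nil)) (.node [(94, (-1), 1, 1)] .nil (.node [(167, (-1), 1, 1)] .nil .nil))))) (.node [] (.node [] (.node [] .nil (.node [(89, (-1), 1, 1)] (.node [] (.node [(180, 1, 1, 1)] .nil .nil) .nil) .nil)) (.node [] .nil (.node [] (.node [] (.node [(195, 1, 1, 1)] .nil .nil) .nil) .nil))) (.node [] (.node [] (.node [(79, 1, 1, 1)] .nil (.node [(162, (-1), 1, 1)] .nil .nil)) (.node [] (.node [] (.node [(189, 1, 1, 1)] .nil .nil) .nil) .nil)) (.node [] (.node [] (.node [] (.node [(174, (-1), 1, 1)] .nil .nil)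 .nil) .nil) (.node [] (.node [] .nil (.node [(232, 1, 1, 1)] .nil .nil)) .nil))))))
def C165 : List (ℕ × List (ℕ × ℤ)) := [(3, [(14, (-1))]), (7, [(17, (-1))]), (8, [(22, (-1))]), (9, [(26, (-1))]), (11, [(30, 1)]), (12, [(31, 1)]), (13, [(32, 1)]), (37, [(78, 1)]), (38, [(79, 1)]), (39, [(80, 1)]), (43, [(84, (-1))]), (44, [(85, (-1))]), (45, [(86, (-1))]), (49, [(88, (-1))]), (50, [(89, (-1))]), (51, [(90, (-1))]), (55, [(92, 1)]), (59, [(93, (-1))]), (60, [(94, (-1))]), (61, [(95, (-1))]), (65, [(97, 1)]), (69, [(98, 1)]), (71, [(114, 1)]), (72, [(115, 1)]), (73, [(116, 1)]), (75, [(126, 1)]), (76, [(131, 1)]), (77, [(137, 1)]), (102, [(162, (-1))]), (108, [(163, (-1))]), (113, [(164, (-1))]), (123, [(166, (-1))]), (124, [(167, (-1))]), (125, [(168, (-1))]), (141, [(170, (-1))]), (142, [(174, (-1))]), (144, [(178, 1)]), (145, [(179, 1)]), (146, [(180, 1)]), (147, [(184, (-1))]), (149, [(188, 1)]), (150, [(189, 1)]), (151, [(190, 1)]),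 (153, [(194, 1)]), (154, [(195, 1)]), (155, [(196, 1)]), (159, [(200, (-1))]), (160, [(201, (-1))]), (161, [(202, (-1))]), (207, [(226, (-1))]), (208, [(227, (-1))]), (209, [(228, (-1))]), (213, [(230, 1)]), (217, [(231, 1)]), (222, [(232, 1)]), (225, [(236, 1)])]
def M166 : Tr (List (ℕ × ℤ × ℕ × ℕ)) := (.node [] (.node [] (.node [] (.node [(18, 1, 1, 1)] (.node [] .nil (.node [(88, (-1), 1, 1)] (.node [] (.node [(178, (-1), 1, 1)] .nil .nil) .nil) .nil)) (.node [] (.node [(82, (-1), 1, 1)] (.node [(117, 1, 1, 1)] .nil .nil) .nil) (.node [] (.node [] (.node [(192, 1, 1, 1)] .nil .nil) .nil) .nil))) (.node [] (.node [] .nil (.node [(91, 1, 1, 1)] (.node [] (.node [(185, (-1), 1, 1)] .nil .nil) .nil) .nil)) (.node [] (.node [] (.node [(127, 1, 1, 1)] .nil .nil) (.node [(163, (-1), 1, 1)] .nil .nil)) (.node [] (.node [] (.node [(198, 1, 1, 1)] .nil .nil) .nil) .nil)))) (.node [] (.node [(27, 1, 1, 1)] (.node [] (.node [] .nil (.node [] (.node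 [(203, (-1), 1, 1)] .nil .nil) (.node [(237, 1, 1, 1)] .nil .nil))) (.node [] (.node [] (.node [(181, 1, 1, 1)] .nil .nil) (.node [(229, (-1), 1, 1)] .nil .nil)) .nil)) (.node [] (.node [(84, (-1), 1, 1)] .nil .nil) (.node [(93, (-1), 1, 1)] .nil (.node [(167, (-1), 1, 1)] .nil .nil)))) (.node [(34, (-1), 1, 1)] (.node [] (.node [] .nil (.node [(162, (-1), 1, 1)] .nil .nil)) .nil) (.node [] (.node [(87, 1, 1, 1)] (.node [(138, 1, 1, 1)] (.node [(171, (-1), 1, 1)] .nil .nil) (.node [(226, 1, 1, 1)] .nil .nil)) .nil) (.node [(96, 1, 1, 1)] (.node [] (.node [(200, 1, 1, 1)] .nil .nil) (.node [(232, (-1), 1, 1)] .nil .nil)) .nil))))) (.node [(14, (-1), 1, 1)] (.node [] (.node [(23, 1, 1, 1)] (.node [] (.node [] (.node [(97, 1, 1, 1)] .nil .nil) .nil) (.node [(89, (-1), 1, 1)] .nil (.node [(164, (-1), 1, 1)] .nil .nil))) (.node [] (.node [] (.node [(118, 1, 1, 1)] .nil .nil) .nil) (.node [] (.node [] (.node [(194, (-1), 1, 1)] .nil .nil) (.node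 [(231, (-1), 1, 1)] .nil .nil)) .nil))) (.node [(33, (-1), 1, 1)] (.node [] (.node [(78, 1, 1, 1)] (.node [(98, 1, 1, 1)] .nil .nil) .nil) (.node [] (.node [] (.node [(188, (-1), 1, 1)] .nil .nil) (.node [(230, (-1), 1, 1)] .nil .nil)) (.node [(165, (-1), 1, 1)] .nil .nil))) (.node [] (.node [] (.node [(132, 1, 1, 1)] .nil .nil) .nil) .nil))) (.node [] (.node [(30, 1, 1, 1)] (.node [] .nil (.node [] (.node [] (.node [(182, 1, 1, 1)] .nil .nil) .nil) .nil)) (.node [] (.node [(85, (-1), 1, 1)] (.node [(123, 1, 1, 1)] .nil .nil) .nil) (.node [(94, (-1), 1, 1)] (.node [] (.node [(197, 1, 1, 1)] .nil .nil) .nil) (.node [(168, (-1), 1, 1)] .nil .nil)))) (.node [] (.node [] (.node [(81, (-1), 1, 1)] .nil .nil) (.node [(92, 1, 1, 1)] (.node [] (.node [(191, 1, 1, 1)] .nil .nil) .nil) .nil)) (.node [] (.node [] (.node [] (.node [(175, (-1), 1, 1)] .nil .nil) (.node [(227, 1, 1, 1)] .nil .nil)) .nil) (.node [] (.node [] (.node [(201, 1, 1, 1)]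 .nil .nil) .nil) .nil))))))
def C166 : List (ℕ × List (ℕ × ℤ)) := [(2, [(14, (-1))]), (7, [(18, 1)]), (8, [(23, 1)]), (9, [(27, 1)]), (10, [(30, 1)]), (12, [(33, (-1))]), (13, [(34, (-1))]), (36, [(78, 1)]), (38, [(81, (-1))]), (39, [(82, (-1))]), (41, [(84, (-1))]), (42, [(85, (-1))]), (45, [(87, 1)]), (47, [(88, (-1))]), (48, [(89, (-1))]), (51, [(91, 1)]), (54, [(92, 1)]), (57, [(93, (-1))]), (58, [(94, (-1))]), (61, [(96, 1)]), (64, [(97, 1)]), (68, [(98, 1)]), (71, [(117, 1)]), (72, [(118, 1)]), (74, [(123, 1)]), (75, [(127, 1)]), (76, [(132, 1)]), (77, [(138, 1)]), (101, [(162, (-1))]), (107, [(163, (-1))]), (112, [(164, (-1))]), (116, [(165, (-1))]), (121, [(167, (-1))]), (122, [(168, (-1))]), (141, [(171, (-1))]), (142, [(175, (-1))]), (143, [(178, (-1))]), (145, [(181, 1)]), (146, [(182, 1)]), (147, [(185, (-1))]), (148, [(188, (-1))]), (150, [(191, 1)]), (151, [(192, 1)]), (152, [(194, (-1))]), (154, [(197, 1)]), (155, [(198,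 1)]), (157, [(200, 1)]), (158, [(201, 1)]), (161, [(203, (-1))]), (205, [(226, 1)]), (206, [(227, 1)]), (209, [(229, (-1))]), (212, [(230, (-1))]), (216, [(231, (-1))]), (221, [(232, (-1))]), (225, [(237, 1)])]
def M167 : Tr (List (ℕ × ℤ × ℕ × ℕ)) := (.node [] (.node [(14, (-1), 1, 1)] (.node [] (.node [(19, (-1), 1, 1)] (.node [] (.node [] (.node [(97, 1, 1, 1)] .nil .nil) .nil) (.node [] (.node [] (.node [(179, (-1), 1, 1)] .nil .nil) .nil) (.node [(164, (-1), 1, 1)] .nil .nil))) (.node [] (.node [(83, 1, 1, 1)] (.node [(119, 1, 1, 1)] .nil .nil) .nil) (.node [] (.node [] (.node [(193, 1, 1, 1)] .nil .nil) (.node [(231, 1, 1, 1)] .nil .nil)) .nil))) (.node [(33, (-1), 1, 1)] (.node [] (.node [] (.node [(98, 1, 1, 1)] .nil .nil) .nil) (.node [] (.node [] (.node [(186, (-1), 1, 1)] .nil .nil) (.node [(230, 1, 1, 1)] .nil .nil)) (.node [(165, (-1), 1, 1)] .nil .nil))) (.node [] (.node [] (.node [(128, 1, 1, 1)] .nil .nil) .nil) (.node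 [] (.node [] (.node [(199, 1, 1, 1)] .nil .nil) .nil) .nil)))) (.node [] (.node [(28, (-1), 1, 1)] (.node [] (.node [] .nil (.node [] .nil (.node [(238, 1, 1, 1)] .nil .nil))) .nil) (.node [] (.node [] (.node [(121, 1, 1, 1)] .nil .nil) .nil) (.node [] (.node [] (.node [(197, (-1), 1, 1)] .nil .nil) .nil) .nil))) (.node [(35, 1, 1, 1)] (.node [] (.node [(81, (-1), 1, 1)] .nil .nil) (.node [(92, 1, 1, 1)] (.node [] (.node [(191, (-1), 1, 1)] .nil .nil) .nil) .nil)) (.node [] (.node [] (.node [(139, 1, 1, 1)] (.node [(172, (-1), 1, 1)] .nil .nil) .nil) .nil) .nil)))) (.node [] (.node [] (.node [(24, (-1), 1, 1)] (.node [] (.node [] .nil (.node [] (.node [(203, 1, 1, 1)] .nil .nil) .nil)) (.node [(90, 1, 1, 1)] (.node [] (.node [(181, (-1), 1, 1)] .nil .nil) (.node [(229, 1, 1, 1)] .nil .nil)) .nil)) (.node [] (.node [(84, (-1), 1, 1)] .nil .nil) (.node [(93, (-1), 1, 1)] (.node [] (.node [(195, (-1), 1, 1)] .nil .nil) .nil) (.node [(168,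 (-1), 1, 1)] .nil .nil)))) (.node [] (.node [] (.node [(79, (-1), 1, 1)] .nil (.node [(162, (-1), 1, 1)] .nil .nil)) (.node [] (.node [] (.node [(189, (-1), 1, 1)] .nil .nil) .nil) .nil)) (.node [] (.node [(87, 1, 1, 1)] (.node [(133, 1, 1, 1)] .nil (.node [(226, (-1), 1, 1)] .nil .nil)) .nil) (.node [(96, 1, 1, 1)] (.node [] (.node [(200, (-1), 1, 1)] .nil .nil) (.node [(232, 1, 1, 1)] .nil .nil)) .nil)))) (.node [] (.node [(31, (-1), 1, 1)] (.node [] .nil (.node [(91, 1, 1, 1)] (.node [] (.node [(183, 1, 1, 1)] .nil .nil) .nil) .nil)) (.node [] (.node [(86, 1, 1, 1)] (.node [(124, 1, 1, 1)] .nil .nil) (.node [(163, (-1), 1, 1)] .nil .nil)) (.node [(95, 1, 1, 1)] .nil .nil))) (.node [] (.node [] .nil (.node [] .nil (.node [(166, (-1), 1, 1)] .nil .nil))) (.node [] (.node [(88, (-1), 1, 1)] (.node [] (.node [(176, (-1), 1, 1)] .nil .nil) (.node [(228, 1, 1, 1)] .nil .nil)) .nil) (.node [] (.node [] (.node [(202, 1, 1, 1)] .nil .nil) .nil)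 .nil))))))
def C167 : List (ℕ × List (ℕ × ℤ)) := [(1, [(14, (-1))]), (7, [(19, (-1))]), (8, [(24, (-1))]), (9, [(28, (-1))]), (10, [(31, (-1))]), (11, [(33, (-1))]), (13, [(35, 1)]), (36, [(79, (-1))]), (37, [(81, (-1))]), (39, [(83, 1)]), (40, [(84, (-1))]), (42, [(86, 1)]), (44, [(87, 1)]), (46, [(88, (-1))]), (48, [(90, 1)]), (50, [(91, 1)]), (53, [(92, 1)]), (56, [(93, (-1))]), (58, [(95, 1)]), (60, [(96, 1)]), (63, [(97, 1)]), (67, [(98, 1)]), (71, [(119, 1)]), (73, [(121, 1)]), (74, [(124, 1)]), (75, [(128, 1)]), (76, [(133, 1)]), (77, [(139, 1)]), (100, [(162, (-1))]), (106, [(163, (-1))]), (111, [(164, (-1))]), (115, [(165, (-1))]), (118, [(166, (-1))]), (120, [(168, (-1))]), (141, [(172, (-1))]), (142, [(176, (-1))]), (143, [(179, (-1))]), (144, [(181, (-1))]), (146, [(183, 1)]), (147, [(186, (-1))]), (148, [(189, (-1))]), (149, [(191, (-1))]), (151, [(193, 1)]), (152, [(195, (-1))]), (153, [(197, (-1))]), (155, [(199, 1)]),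 (156, [(200, (-1))]), (158, [(202, 1)]), (160, [(203, 1)]), (204, [(226, (-1))]), (206, [(228, 1)]), (208, [(229, 1)]), (211, [(230, 1)]), (215, [(231, 1)]), (220, [(232, 1)]), (225, [(238, 1)])]
def M168 : Tr (List (ℕ × ℤ × ℕ × ℕ)) := (.node [(14, (-1), 1, 1)] (.node [] (.node [] (.node [(20, 1, 1, 1)] (.node [] (.node [] .nil (.node [] (.node [(203, (-1), 1, 1)] .nil .nil) .nil)) (.node [(90, 1, 1, 1)] (.node [] (.node [(180, (-1), 1, 1)] .nil .nil) (.node [(229, (-1), 1, 1)] .nil .nil)) .nil)) (.node [] .nil (.node [] .nil (.node [(167, (-1), 1, 1)] .nil .nil)))) (.node [(34, 1, 1, 1)] (.node [] (.node [] .nil (.node [(162, (-1), 1, 1)] .nil .nil)) (.node [] (.node [] (.node [(187, (-1), 1, 1)] .nil .nil) .nil) .nil)) (.node [] (.node [(87, 1, 1, 1)] (.node [(129, 1, 1, 1)] .nil .nil) .nil) (.node [(96, 1, 1, 1)] (.node [] .nil (.node [(232, (-1), 1, 1)] .nil .nil)) .nil)))) (.node [] (.node [(29, 1, 1, 1)] (.node [] (.node [] .nil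 (.node [] .nil (.node [(239, 1, 1, 1)] .nil .nil))) (.node [(91, 1, 1, 1)] (.node [] (.node [(183, (-1), 1, 1)] .nil .nil) .nil) .nil)) (.node [] (.node [(86, 1, 1, 1)] (.node [(122, 1, 1, 1)] .nil .nil) (.node [(163, (-1), 1, 1)] .nil .nil)) (.node [(95, 1, 1, 1)] (.node [] (.node [(198, (-1), 1, 1)] .nil .nil) .nil) .nil))) (.node [] (.node [] (.node [(82, 1, 1, 1)] .nil .nil) (.node [] (.node [] (.node [(192, (-1), 1, 1)] .nil .nil) .nil) (.node [(166, (-1), 1, 1)] .nil .nil))) (.node [] (.node [] (.node [(140, 1, 1, 1)] (.node [(173, (-1), 1, 1)] .nil .nil) (.node [(228, (-1), 1, 1)] .nil .nil)) .nil) (.node [] (.node [] (.node [(202, (-1), 1, 1)] .nil .nil) .nil) .nil))))) (.node [] (.node [] (.node [(25, 1, 1, 1)] (.node [] .nil (.node [] (.node [] (.node [(182, (-1), 1, 1)] .nil .nil) .nil) .nil)) (.node [] (.node [(85, 1, 1, 1)] (.node [(120, 1, 1, 1)] .nil .nil) .nil) (.node [(94, 1, 1, 1)] (.node [] (.node [(196, (-1), 1, 1)]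 .nil .nil) .nil) .nil))) (.node [(35, 1, 1, 1)] (.node [] (.node [(80, 1, 1, 1)] .nil .nil) (.node [(92, 1, 1, 1)] (.node [] (.node [(190, (-1), 1, 1)] .nil .nil) .nil) .nil)) (.node [] (.node [] (.node [(134, 1, 1, 1)] .nil (.node [(227, (-1), 1, 1)] .nil .nil)) .nil) (.node [] (.node [] (.node [(201, (-1), 1, 1)] .nil .nil) .nil) .nil)))) (.node [] (.node [(32, 1, 1, 1)] (.node [] (.node [] (.node [(98, 1, 1, 1)] .nil .nil) .nil) (.node [] (.node [] .nil (.node [(230, (-1), 1, 1)] .nil .nil)) (.node [(165, (-1), 1, 1)] .nil .nil))) (.node [] (.node [] (.node [(125, 1, 1, 1)] .nil .nil) .nil) (.node [] (.node [] (.node [(199, (-1), 1, 1)] .nil .nil) .nil) .nil))) (.node [] (.node [] (.node [(83, 1, 1, 1)] .nil .nil) (.node [] (.node [] (.node [(193, (-1), 1, 1)] .nil .nil) (.node [(231, (-1), 1, 1)] .nil .nil)) .nil)) (.node [] (.node [(89, 1, 1, 1)] (.node [] (.node [(177, (-1), 1, 1)] .nil .nil) .nil) (.node [(164, (-1), 1, 1)] .nil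 .nil)) (.node [(97, 1, 1, 1)] .nil .nil))))))
def C168 : List (ℕ × List (ℕ × ℤ)) := [(0, [(14, (-1))]), (7, [(20, 1)]), (8, [(25, 1)]), (9, [(29, 1)]), (10, [(32, 1)]), (11, [(34, 1)]), (12, [(35, 1)]), (36, [(80, 1)]), (37, [(82, 1)]), (38, [(83, 1)]), (40, [(85, 1)]), (41, [(86, 1)]), (43, [(87, 1)]), (46, [(89, 1)]), (47, [(90, 1)]), (49, [(91, 1)]), (52, [(92, 1)]), (56, [(94, 1)]), (57, [(95, 1)]), (59, [(96, 1)]), (62, [(97, 1)]), (66, [(98, 1)]), (72, [(120, 1)]), (73, [(122, 1)]), (74, [(125, 1)]), (75, [(129, 1)]), (76, [(134, 1)]), (77, [(140, 1)]), (99, [(162, (-1))]), (105, [(163, (-1))]), (110, [(164, (-1))]), (114, [(165, (-1))]), (117, [(166, (-1))]), (119, [(167, (-1))]), (141, [(173, (-1))]), (142, [(177, (-1))]), (143, [(180, (-1))]), (144, [(182, (-1))]), (145, [(183, (-1))]), (147, [(187, (-1))]), (148, [(190, (-1))]), (149, [(192, (-1))]), (150, [(193, (-1))]), (152, [(196, (-1))]), (153, [(198, (-1))]), (154, [(199,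 (-1))]), (156, [(201, (-1))]), (157, [(202, (-1))]), (159, [(203, (-1))]), (204, [(227, (-1))]), (205, [(228, (-1))]), (207, [(229, (-1))]), (210, [(230, (-1))]), (214, [(231, (-1))]), (219, [(232, (-1))]), (225, [(239, 1)])]
def M169 : Tr (List (ℕ × ℤ × ℕ × ℕ)) := (.node [] (.node [] (.node [] (.node [] (.node [] (.node [(79, 1, 1, 1)] (.node [(106, (-1), 1, 1)] (.node [(171, (-1), 1, 1)] .nil .nil) .nil) (.node [] (.node [(207, (-1), 1, 1)] .nil .nil) (.node [(234, (-1), 1, 1)] .nil .nil))) .nil) (.node [] .nil (.node [(102, 1, 1, 1)] .nil .nil))) (.node [(37, 1, 1, 1)] (.node [] (.node [(83, 1, 1, 1)] (.node [(111, 1, 1, 1)] (.node [(174, 1, 1, 1)] .nil .nil) .nil) .nil) .nil) (.node [] (.node [] (.node [(141, 1, 1, 1)] (.node [(186, (-1), 1, 1)] .nil .nil) (.node [(229, (-1), 1, 1)] .nil .nil)) .nil) .nil))) (.node [(16, 1, 1, 1)] (.node [] (.node [] (.node [(81, 1, 1, 1)] (.node [(108, (-1), 1, 1)] (.node [(173, (-1), 1, 1)] .nil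 .nil) .nil) (.node [(163, 1, 1, 1)] (.node [(209, (-1), 1, 1)] .nil .nil) .nil)) .nil) (.node [] (.node [] (.node [] (.node [(184, (-1), 1, 1)] .nil .nil) (.node [(227, (-1), 1, 1)] .nil .nil)) .nil) .nil)) (.node [(39, 1, 1, 1)] (.node [] (.node [] (.node [(113, 1, 1, 1)] (.node [(176, 1, 1, 1)] .nil .nil) .nil) .nil) (.node [(100, 1, 1, 1)] .nil .nil)) (.node [] (.node [] (.node [(147, 1, 1, 1)] .nil .nil) .nil) (.node [] (.node [] (.node [(205, (-1), 1, 1)] .nil .nil) .nil) .nil))))) (.node [] (.node [(15, 1, 1, 1)] (.node [] (.node [] (.node [(80, 1, 1, 1)] (.node [(107, (-1), 1, 1)] (.node [(172, (-1), 1, 1)] .nil .nil) .nil) (.node [] (.node [(208, (-1), 1, 1)] .nil .nil) (.node [(235, (-1), 1, 1)] .nil .nil))) .nil) (.node [] (.node [] (.node [] .nil (.node [(226, (-1), 1, 1)] .nil .nil)) .nil) .nil)) (.node [(38, 1, 1, 1)] (.node [] (.node [] (.node [(112, 1, 1, 1)] (.node [(175, 1, 1, 1)] .nil .nil) .nil) .nil) (.node [(99, 1,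 1, 1)] .nil .nil)) (.node [] (.node [] (.node [(142, (-1), 1, 1)] (.node [(187, (-1), 1, 1)] .nil .nil) .nil) .nil) (.node [] (.node [(162, (-1), 1, 1)] (.node [(204, (-1), 1, 1)] .nil .nil) .nil) .nil)))) (.node [(21, 1, 1, 1)] (.node [(36, 1, 1, 1)] (.node [] (.node [(82, 1, 1, 1)] (.node [(110, 1, 1, 1)] .nil .nil) (.node [(164, (-1), 1, 1)] .nil .nil)) .nil) (.node [] (.node [] (.node [] (.node [(185, (-1), 1, 1)] .nil .nil) (.node [(228, (-1), 1, 1)] .nil .nil)) .nil) (.node [] (.node [] .nil (.node [(233, (-1), 1, 1)] .nil .nil)) .nil))) (.node [] (.node [] (.node [] (.node [] (.node [(177, 1, 1, 1)] .nil .nil) .nil) .nil) (.node [(101, 1, 1, 1)] .nil .nil)) (.node [(78, 1, 1, 1)] .nil (.node [(105, (-1), 1, 1)] (.node [] (.node [(206, (-1), 1, 1)] .nil .nil) .nil) (.node [(170, (-1), 1, 1)] .nil .nil)))))))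
def C169 : List (ℕ × List (ℕ × ℤ)) := [(4, [(15, 1)]), (5, [(16, 1)]), (6, [(21, 1)]), (10, [(36, 1)]), (11, [(37, 1)]), (12, [(38, 1)]), (13, [(39, 1)]), (30, [(78, 1)]), (31, [(79, 1)]), (32, [(80, 1)]), (33, [(81, 1)]), (34, [(82, 1)]), (35, [(83, 1)]), (52, [(99, 1)]), (53, [(100, 1)]), (54, [(101, 1)]), (55, [(102, 1)]), (62, [(105, (-1))]), (63, [(106, (-1))]), (64, [(107, (-1))]), (65, [(108, (-1))]), (66, [(110, 1)]), (67, [(111, 1)]), (68, [(112, 1)]), (69, [(113, 1)]), (75, [(141, 1)]), (76, [(142, (-1))]), (77, [(147, 1)]), (92, [(162, (-1))]), (97, [(163, 1)]), (98, [(164, (-1))]), (126, [(170, (-1))]), (127, [(171, (-1))]), (128, [(172, (-1))]), (129, [(173, (-1))]), (131, [(174, 1)]), (132, [(175, 1)]), (133, [(176, 1)]), (134, [(177, 1)]), (137, [(184, (-1))]), (138, [(185, (-1))]), (139, [(186, (-1))]), (140, [(187, (-1))]), (156, [(204, (-1))]), (157, [(205, (-1))]), (158, [(206, (-1))]), (159, [(207, (-1))]), (160, [(208,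 (-1))]), (161, [(209, (-1))]), (200, [(226, (-1))]), (201, [(227, (-1))]), (202, [(228, (-1))]), (203, [(229, (-1))]), (218, [(233, (-1))]), (223, [(234, (-1))]), (224, [(235, (-1))])]
def M170 : Tr (List (ℕ × ℤ × ℕ × ℕ)) := (.node [] (.node [] (.node [(15, 1, 1, 1)] (.node [] (.node [] (.node [] .nil (.node [] (.node [(210, (-1), 1, 1)] .nil .nil) .nil)) .nil) (.node [] (.node [] (.node [] .nil (.node [(228, 1, 1, 1)] .nil .nil)) .nil) (.node [(103, (-1), 1, 1)] .nil .nil))) (.node [(40, (-1), 1, 1)] (.node [] (.node [(86, (-1), 1, 1)] (.node [(115, 1, 1, 1)] .nil .nil) .nil) (.node [(101, 1, 1, 1)] .nil .nil)) (.node [(78, 1, 1, 1)] (.node [] (.node [] (.node [(189, (-1), 1, 1)] .nil .nil) (.node [(230, (-1), 1, 1)] .nil .nil)) .nil) (.node [(105, (-1), 1, 1)] (.node [(162, (-1), 1, 1)] (.node [(206, 1, 1, 1)] .nil .nil) .nil) (.node [(171, (-1), 1, 1)] .nil .nil))))) (.node [(17, (-1), 1, 1)] (.node [(36, 1, 1, 1)] (.node [] (.node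 [(84, (-1), 1, 1)] (.node [(109, 1, 1, 1)] .nil .nil) (.node [] (.node [(212, (-1), 1, 1)] .nil .nil) .nil)) (.node [(99, 1, 1, 1)] .nil (.node [(169, (-1), 1, 1)] .nil .nil))) (.node [] .nil (.node [] (.node [] (.node [(204, 1, 1, 1)] .nil .nil) (.node [(233, 1, 1, 1)] .nil .nil)) .nil))) (.node [(42, (-1), 1, 1)] (.node [] (.node [] (.node [] (.node [(179, 1, 1, 1)] .nil .nil) (.node [(226, 1, 1, 1)] .nil .nil)) .nil) .nil) (.node [(80, 1, 1, 1)] (.node [] (.node [(148, 1, 1, 1)] .nil .nil) .nil) (.node [(107, (-1), 1, 1)] .nil (.node [(173, (-1), 1, 1)] .nil .nil)))))) (.node [] (.node [] (.node [] (.node [] (.node [] .nil (.node [(163, 1, 1, 1)] (.node [(211, (-1), 1, 1)] .nil .nil) (.node [(236, (-1), 1, 1)] .nil .nil))) .nil) (.node [] (.node [] (.node [] (.node [(184, 1, 1, 1)] .nil .nil) .nil) .nil) .nil)) (.node [(41, (-1), 1, 1)] (.node [] (.node [] (.node [(116, 1, 1, 1)] (.node [(178, 1, 1, 1)] .nil .nil) .nil) .nil) .nil)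 (.node [(79, 1, 1, 1)] (.node [] (.node [(143, (-1), 1, 1)] (.node [(190, (-1), 1, 1)] .nil .nil) .nil) .nil) (.node [(106, (-1), 1, 1)] .nil (.node [(172, (-1), 1, 1)] .nil .nil))))) (.node [(22, (-1), 1, 1)] (.node [] (.node [] (.node [(85, (-1), 1, 1)] (.node [(114, 1, 1, 1)] (.node [(174, (-1), 1, 1)] .nil .nil) .nil) (.node [(165, (-1), 1, 1)] .nil .nil)) (.node [(100, 1, 1, 1)] .nil .nil)) (.node [] (.node [] (.node [(141, 1, 1, 1)] (.node [(188, (-1), 1, 1)] .nil .nil) .nil) .nil) (.node [] (.node [] (.node [(205, 1, 1, 1)] .nil .nil) .nil) .nil))) (.node [] (.node [] (.node [] (.node [(126, 1, 1, 1)] (.node [(180, 1, 1, 1)] .nil .nil) (.node [(227, 1, 1, 1)] .nil .nil)) .nil) .nil) (.node [] .nil (.node [] (.node [] .nil (.node [(234, 1, 1, 1)] .nil .nil)) .nil))))))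
def C170 : List (ℕ × List (ℕ × ℤ)) := [(3, [(15, 1)]), (5, [(17, (-1))]), (6, [(22, (-1))]), (9, [(36, 1)]), (11, [(40, (-1))]), (12, [(41, (-1))]), (13, [(42, (-1))]), (27, [(78, 1)]), (28, [(79, 1)]), (29, [(80, 1)]), (33, [(84, (-1))]), (34, [(85, (-1))]), (35, [(86, (-1))]), (49, [(99, 1)]), (50, [(100, 1)]), (51, [(101, 1)]), (55, [(103, (-1))]), (59, [(105, (-1))]), (60, [(106, (-1))]), (61, [(107, (-1))]), (65, [(109, 1)]), (66, [(114, 1)]), (67, [(115, 1)]), (68, [(116, 1)]), (70, [(126, 1)]), (74, [(141, 1)]), (76, [(143, (-1))]), (77, [(148, 1)]), (91, [(162, (-1))]), (96, [(163, 1)]), (98, [(165, (-1))]), (113, [(169, (-1))]), (123, [(171, (-1))]), (124, [(172, (-1))]), (125, [(173, (-1))]), (130, [(174, (-1))]), (132, [(178, 1)]), (133, [(179, 1)]), (134, [(180, 1)]), (136, [(184, 1)]), (138, [(188, (-1))]), (139, [(189, (-1))]), (140, [(190, (-1))]), (153, [(204, 1)]), (154, [(205, 1)]), (155, [(206, 1)]), (159, [(210, (-1))]),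 (160, [(211, (-1))]), (161, [(212, (-1))]), (197, [(226, 1)]), (198, [(227, 1)]), (199, [(228, 1)]), (203, [(230, (-1))]), (217, [(233, 1)]), (222, [(234, 1)]), (224, [(236, (-1))])]
def M171 : Tr (List (ℕ × ℤ × ℕ × ℕ)) := (.node [] (.node [] (.node [] (.node [] (.node [] (.node [(84, (-1), 1, 1)] .nil (.node [(163, 1, 1, 1)] .nil .nil)) (.node [(99, 1, 1, 1)] .nil .nil)) (.node [] (.node [] (.node [] .nil (.node [(229, 1, 1, 1)] .nil .nil)) .nil) .nil)) (.node [] (.node [] (.node [(87, 1, 1, 1)] (.node [(118, 1, 1, 1)] (.node [(178, (-1), 1, 1)] .nil .nil) (.node [(226, (-1), 1, 1)] .nil .nil)) .nil) (.node [(102, (-1), 1, 1)] .nil .nil)) (.node [] (.node [] (.node [] (.node [(191, (-1), 1, 1)] .nil .nil) .nil) .nil) (.node [] (.node [] (.node [(208, 1, 1, 1)] .nil .nil) .nil) .nil)))) (.node [(18, 1, 1, 1)] (.node [(37, (-1), 1, 1)] (.node [] (.node [] .nil (.node [] (.node [(213, (-1), 1, 1)] .nil .nil) .nil)) .nil) (.node [] (.node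 [] (.node [(141, 1, 1, 1)] (.node [(188, 1, 1, 1)] .nil .nil) .nil) .nil) (.node [(105, (-1), 1, 1)] .nil (.node [(172, (-1), 1, 1)] .nil .nil)))) (.node [(44, 1, 1, 1)] (.node [] (.node [] (.node [(123, 1, 1, 1)] (.node [(181, 1, 1, 1)] .nil .nil) .nil) .nil) .nil) (.node [(82, (-1), 1, 1)] (.node [] (.node [(149, 1, 1, 1)] .nil .nil) .nil) (.node [(108, 1, 1, 1)] (.node [] (.node [(210, 1, 1, 1)] .nil .nil) (.node [(234, (-1), 1, 1)] .nil .nil)) .nil))))) (.node [(15, 1, 1, 1)] (.node [] (.node [] (.node [] (.node [(85, (-1), 1, 1)] (.node [(109, 1, 1, 1)] .nil .nil) (.node [] .nil (.node [(237, (-1), 1, 1)] .nil .nil))) (.node [(100, 1, 1, 1)] .nil (.node [(169, (-1), 1, 1)] .nil .nil))) (.node [] (.node [] (.node [] (.node [(185, 1, 1, 1)] .nil .nil) .nil) .nil) (.node [] (.node [] (.node [(204, (-1), 1, 1)] .nil .nil) (.node [(233, (-1), 1, 1)] .nil .nil)) .nil))) (.node [(43, 1, 1, 1)] (.node [] (.node [] (.node [] .nil (.node [(227,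 (-1), 1, 1)] .nil .nil)) .nil) (.node [] .nil (.node [(170, (-1), 1, 1)] .nil .nil))) (.node [(81, (-1), 1, 1)] (.node [] (.node [(144, (-1), 1, 1)] (.node [(192, (-1), 1, 1)] .nil .nil) .nil) .nil) .nil))) (.node [(23, 1, 1, 1)] (.node [(40, (-1), 1, 1)] (.node [] (.node [] (.node [(117, 1, 1, 1)] (.node [(175, (-1), 1, 1)] .nil .nil) .nil) (.node [(166, (-1), 1, 1)] .nil .nil)) .nil) (.node [(78, 1, 1, 1)] (.node [] (.node [] .nil (.node [(230, 1, 1, 1)] .nil .nil)) .nil) (.node [(106, (-1), 1, 1)] (.node [(162, (-1), 1, 1)] (.node [(207, 1, 1, 1)] .nil .nil) .nil) (.node [(173, (-1), 1, 1)] .nil .nil)))) (.node [] (.node [] (.node [] (.node [(127, 1, 1, 1)] (.node [(182, 1, 1, 1)] .nil .nil) .nil) .nil) (.node [(103, (-1), 1, 1)] .nil .nil)) (.node [] .nil (.node [] (.node [] (.node [(211, 1, 1, 1)] .nil .nil) .nil) .nil))))))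
def C171 : List (ℕ × List (ℕ × ℤ)) := [(2, [(15, 1)]), (5, [(18, 1)]), (6, [(23, 1)]), (9, [(37, (-1))]), (10, [(40, (-1))]), (12, [(43, 1)]), (13, [(44, 1)]), (26, [(78, 1)]), (28, [(81, (-1))]), (29, [(82, (-1))]), (31, [(84, (-1))]), (32, [(85, (-1))]), (35, [(87, 1)]), (47, [(99, 1)]), (48, [(100, 1)]), (51, [(102, (-1))]), (54, [(103, (-1))]), (57, [(105, (-1))]), (58, [(106, (-1))]), (61, [(108, 1)]), (64, [(109, 1)]), (66, [(117, 1)]), (67, [(118, 1)]), (69, [(123, 1)]), (70, [(127, 1)]), (73, [(141, 1)]), (76, [(144, (-1))]), (77, [(149, 1)]), (90, [(162, (-1))]), (95, [(163, 1)]), (98, [(166, (-1))]), (112, [(169, (-1))]), (116, [(170, (-1))]), (121, [(172, (-1))]), (122, [(173, (-1))]), (130, [(175, (-1))]), (131, [(178, (-1))]), (133, [(181, 1)]), (134, [(182, 1)]), (136, [(185, 1)]), (137, [(188, 1)]), (139, [(191, (-1))]), (140, [(192, (-1))]), (152, [(204, (-1))]), (154, [(207, 1)]), (155, [(208, 1)]), (157, [(210, 1)]),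 (158, [(211, 1)]), (161, [(213, (-1))]), (195, [(226, (-1))]), (196, [(227, (-1))]), (199, [(229, 1)]), (202, [(230, 1)]), (216, [(233, (-1))]), (221, [(234, (-1))]), (224, [(237, (-1))])]
def M172 : Tr (List (ℕ × ℤ × ℕ × ℕ)) := (.node [] (.node [(15, 1, 1, 1)] (.node [] (.node [] (.node [] (.node [] (.node [(109, 1, 1, 1)] .nil .nil) .nil) (.node [] .nil (.node [(169, (-1), 1, 1)] .nil .nil))) (.node [] .nil (.node [] (.node [] .nil (.node [(233, 1, 1, 1)] .nil .nil)) .nil))) (.node [(43, 1, 1, 1)] (.node [] (.node [] (.node [] (.node [(179, (-1), 1, 1)] .nil .nil) .nil) .nil) (.node [] .nil (.node [(170, (-1), 1, 1)] .nil .nil))) (.node [(81, (-1), 1, 1)] .nil (.node [] (.node [] (.node [(209, 1, 1, 1)] .nil .nil) .nil) .nil)))) (.node [(19, (-1), 1, 1)] (.node [(38, 1, 1, 1)] .nil (.node [] (.node [] (.node [] (.node [(189, 1, 1, 1)] .nil .nil) (.node [(230, (-1), 1, 1)] .nil .nil)) .nil) (.node [] (.node [(162, (-1), 1, 1)] (.node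 [(207, (-1), 1, 1)] .nil .nil) .nil) .nil))) (.node [(45, (-1), 1, 1)] (.node [] (.node [] (.node [(124, 1, 1, 1)] .nil .nil) .nil) (.node [(103, (-1), 1, 1)] .nil .nil)) (.node [(83, 1, 1, 1)] (.node [] (.node [(150, 1, 1, 1)] .nil .nil) .nil) .nil)))) (.node [] (.node [] (.node [] (.node [] (.node [(86, 1, 1, 1)] .nil (.node [] (.node [(213, 1, 1, 1)] .nil .nil) (.node [(238, (-1), 1, 1)] .nil .nil))) (.node [(101, (-1), 1, 1)] .nil .nil)) (.node [] (.node [] (.node [(141, 1, 1, 1)] (.node [(186, 1, 1, 1)] .nil .nil) .nil) .nil) (.node [(105, (-1), 1, 1)] (.node [] (.node [(205, (-1), 1, 1)] .nil .nil) .nil) (.node [(173, (-1), 1, 1)] .nil .nil)))) (.node [] (.node [] (.node [] (.node [(121, 1, 1, 1)] (.node [(181, (-1), 1, 1)] .nil .nil) (.node [(228, (-1), 1, 1)] .nil .nil)) .nil) .nil) (.node [] (.node [] (.node [(145, (-1), 1, 1)] (.node [(193, (-1), 1, 1)] .nil .nil) .nil) .nil) (.node [(108, 1, 1, 1)] (.node [] (.node [(210, (-1),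 1, 1)] .nil .nil) (.node [(234, 1, 1, 1)] .nil .nil)) .nil)))) (.node [(24, (-1), 1, 1)] (.node [(41, 1, 1, 1)] (.node [] (.node [(87, 1, 1, 1)] (.node [(119, 1, 1, 1)] (.node [(176, (-1), 1, 1)] .nil .nil) (.node [(226, 1, 1, 1)] .nil .nil)) (.node [(167, (-1), 1, 1)] .nil .nil)) (.node [(102, (-1), 1, 1)] .nil .nil)) (.node [(79, (-1), 1, 1)] (.node [] (.node [] (.node [(191, 1, 1, 1)] .nil .nil) .nil) .nil) (.node [(107, 1, 1, 1)] .nil .nil))) (.node [] (.node [] (.node [] (.node [(128, 1, 1, 1)] (.node [(183, 1, 1, 1)] .nil .nil) (.node [(229, (-1), 1, 1)] .nil .nil)) .nil) (.node [] .nil (.node [(171, (-1), 1, 1)] .nil .nil))) (.node [(84, (-1), 1, 1)] (.node [(99, 1, 1, 1)] .nil .nil) (.node [] (.node [(163, 1, 1, 1)] (.node [(212, 1, 1, 1)] .nil .nil) .nil) .nil))))))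
def C172 : List (ℕ × List (ℕ × ℤ)) := [(1, [(15, 1)]), (5, [(19, (-1))]), (6, [(24, (-1))]), (9, [(38, 1)]), (10, [(41, 1)]), (11, [(43, 1)]), (13, [(45, (-1))]), (26, [(79, (-1))]), (27, [(81, (-1))]), (29, [(83, 1)]), (30, [(84, (-1))]), (32, [(86, 1)]), (34, [(87, 1)]), (46, [(99, 1)]), (48, [(101, (-1))]), (50, [(102, (-1))]), (53, [(103, (-1))]), (56, [(105, (-1))]), (58, [(107, 1)]), (60, [(108, 1)]), (63, [(109, 1)]), (66, [(119, 1)]), (68, [(121, 1)]), (69, [(124, 1)]), (70, [(128, 1)]), (72, [(141, 1)]), (76, [(145, (-1))]), (77, [(150, 1)]), (89, [(162, (-1))]), (94, [(163, 1)]), (98, [(167, (-1))]), (111, [(169, (-1))]), (115, [(170, (-1))]), (118, [(171, (-1))]), (120, [(173, (-1))]), (130, [(176, (-1))]), (131, [(179, (-1))]), (132, [(181, (-1))]), (134, [(183, 1)]), (136, [(186, 1)]), (137, [(189, 1)]), (138, [(191, 1)]), (140, [(193, (-1))]), (152, [(205, (-1))]), (153, [(207, (-1))]), (155, [(209, 1)]), (156, [(210, (-1))]),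 (158, [(212, 1)]), (160, [(213, 1)]), (194, [(226, 1)]), (196, [(228, (-1))]), (198, [(229, (-1))]), (201, [(230, (-1))]), (215, [(233, 1)]), (220, [(234, 1)]), (224, [(238, (-1))])]
def M173 : Tr (List (ℕ × ℤ × ℕ × ℕ)) := (.node [(15, 1, 1, 1)] (.node [] (.node [] (.node [] (.node [] (.node [(86, 1, 1, 1)] .nil (.node [] (.node [(213, (-1), 1, 1)] .nil .nil) .nil)) (.node [(101, (-1), 1, 1)] .nil .nil)) (.node [] (.node [] (.node [(141, 1, 1, 1)] .nil .nil) .nil) (.node [] .nil (.node [(172, (-1), 1, 1)] .nil .nil)))) (.node [(44, (-1), 1, 1)] (.node [] (.node [] (.node [(120, 1, 1, 1)] (.node [(180, (-1), 1, 1)] .nil .nil) (.node [(228, 1, 1, 1)] .nil .nil)) .nil) .nil) (.node [(82, 1, 1, 1)] (.node [] (.node [] (.node [(193, 1, 1, 1)] .nil .nil) .nil) .nil) (.node [(108, 1, 1, 1)] (.node [] .nil (.node [(234, (-1), 1, 1)] .nil .nil)) .nil)))) (.node [(20, 1, 1, 1)] (.node [(39, (-1), 1, 1)] (.node [] (.node [(87, 1, 1, 1)] .nil .nil)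 (.node [(102, (-1), 1, 1)] .nil .nil)) (.node [] (.node [] (.node [] (.node [(190, 1, 1, 1)] .nil .nil) .nil) .nil) (.node [(107, 1, 1, 1)] (.node [] (.node [(208, (-1), 1, 1)] .nil .nil) .nil) .nil))) (.node [] (.node [] (.node [] (.node [(125, 1, 1, 1)] (.node [(183, (-1), 1, 1)] .nil .nil) (.node [(229, 1, 1, 1)] .nil .nil)) .nil) (.node [] .nil (.node [(171, (-1), 1, 1)] .nil .nil))) (.node [] (.node [] (.node [(151, 1, 1, 1)] .nil .nil) .nil) (.node [] (.node [(163, 1, 1, 1)] (.node [(212, (-1), 1, 1)] .nil .nil) .nil) .nil))))) (.node [] (.node [] (.node [] (.node [] (.node [] .nil (.node [] .nil (.node [(239, (-1), 1, 1)] .nil .nil))) .nil) (.node [] (.node [] (.node [] (.node [(187, 1, 1, 1)] .nil .nil) (.node [(230, 1, 1, 1)] .nil .nil)) .nil) (.node [(106, 1, 1, 1)] (.node [(162, (-1), 1, 1)] (.node [(206, (-1), 1, 1)] .nil .nil) .nil) .nil))) (.node [(45, (-1), 1, 1)] (.node [] (.node [] (.node [(122, 1, 1, 1)] (.node [(182,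 (-1), 1, 1)] .nil .nil) .nil) .nil) (.node [(103, (-1), 1, 1)] .nil .nil)) (.node [(83, 1, 1, 1)] (.node [] (.node [(146, (-1), 1, 1)] .nil .nil) .nil) (.node [] (.node [] (.node [(211, (-1), 1, 1)] .nil .nil) .nil) .nil)))) (.node [(25, 1, 1, 1)] (.node [(42, (-1), 1, 1)] (.node [] (.node [] (.node [] (.node [(177, (-1), 1, 1)] .nil .nil) (.node [(227, 1, 1, 1)] .nil .nil)) (.node [(168, (-1), 1, 1)] .nil .nil)) (.node [] .nil (.node [(170, (-1), 1, 1)] .nil .nil))) (.node [(80, 1, 1, 1)] (.node [] (.node [] (.node [(192, 1, 1, 1)] .nil .nil) .nil) .nil) (.node [] (.node [] (.node [(209, (-1), 1, 1)] .nil .nil) .nil) .nil))) (.node [] (.node [] (.node [] (.node [(129, 1, 1, 1)] .nil .nil) .nil) (.node [] (.node [] .nil (.node [(233, (-1), 1, 1)] .nil .nil)) .nil)) (.node [(85, 1, 1, 1)] (.node [(100, (-1), 1, 1)] .nil (.node [(169, (-1), 1, 1)] .nil .nil)) (.node [(109, 1, 1, 1)] .nil .nil))))))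
def C173 : List (ℕ × List (ℕ × ℤ)) := [(0, [(15, 1)]), (5, [(20, 1)]), (6, [(25, 1)]), (9, [(39, (-1))]), (10, [(42, (-1))]), (11, [(44, (-1))]), (12, [(45, (-1))]), (26, [(80, 1)]), (27, [(82, 1)]), (28, [(83, 1)]), (30, [(85, 1)]), (31, [(86, 1)]), (33, [(87, 1)]), (46, [(100, (-1))]), (47, [(101, (-1))]), (49, [(102, (-1))]), (52, [(103, (-1))]), (56, [(106, 1)]), (57, [(107, 1)]), (59, [(108, 1)]), (62, [(109, 1)]), (67, [(120, 1)]), (68, [(122, 1)]), (69, [(125, 1)]), (70, [(129, 1)]), (71, [(141, 1)]), (76, [(146, (-1))]), (77, [(151, 1)]), (88, [(162, (-1))]), (93, [(163, 1)]), (98, [(168, (-1))]), (110, [(169, (-1))]), (114, [(170, (-1))]), (117, [(171, (-1))]), (119, [(172, (-1))]), (130, [(177, (-1))]), (131, [(180, (-1))]), (132, [(182, (-1))]), (133, [(183, (-1))]), (136, [(187, 1)]), (137, [(190, 1)]), (138, [(192, 1)]), (139, [(193, 1)]), (152, [(206, (-1))]), (153, [(208, (-1))]), (154, [(209, (-1))]), (156, [(211, (-1))]),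 (157, [(212, (-1))]), (159, [(213, (-1))]), (194, [(227, 1)]), (195, [(228, 1)]), (197, [(229, 1)]), (200, [(230, 1)]), (214, [(233, (-1))]), (219, [(234, (-1))]), (224, [(239, (-1))])]
def M174 : Tr (List (ℕ × ℤ × ℕ × ℕ)) := (.node [] (.node [] (.node [(16, (-1), 1, 1)] (.node [] (.node [] (.node [] (.node [(115, 1, 1, 1)] (.node [(178, 1, 1, 1)] .nil .nil) (.node [(226, (-1), 1, 1)] .nil .nil)) (.node [] (.node [(214, (-1), 1, 1)] .nil .nil) (.node [(236, 1, 1, 1)] .nil .nil))) .nil) (.node [(78, 1, 1, 1)] (.node [] (.node [] (.node [(184, (-1), 1, 1)] .nil .nil) .nil) .nil) (.node [(104, 1, 1, 1)] (.node [(162, (-1), 1, 1)] (.node [(206, (-1), 1, 1)] .nil .nil) .nil) .nil))) (.node [(46, 1, 1, 1)] (.node [] (.node [(90, 1, 1, 1)] .nil .nil) .nil) (.node [] (.node [(99, 1, 1, 1)] (.node [(143, (-1), 1, 1)] (.node [(195, (-1), 1, 1)] .nil .nil) (.node [(231, (-1), 1, 1)] .nil .nil)) .nil) (.node [(110, (-1), 1, 1)] .nil (.node [(175,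 (-1), 1, 1)] .nil .nil))))) (.node [] (.node [] (.node [] (.node [(88, 1, 1, 1)] (.node [] (.node [(180, 1, 1, 1)] .nil .nil) (.node [(228, (-1), 1, 1)] .nil .nil)) (.node [(165, (-1), 1, 1)] (.node [(216, (-1), 1, 1)] .nil .nil) .nil)) .nil) (.node [(80, 1, 1, 1)] .nil .nil)) (.node [(48, 1, 1, 1)] (.node [] (.node [] (.node [(130, 1, 1, 1)] .nil .nil) .nil) (.node [] (.node [] (.node [(204, (-1), 1, 1)] .nil .nil) (.node [(233, (-1), 1, 1)] .nil .nil)) .nil)) (.node [] (.node [(101, 1, 1, 1)] (.node [(152, 1, 1, 1)] .nil .nil) (.node [(170, (-1), 1, 1)] .nil .nil)) (.node [(112, (-1), 1, 1)] .nil (.node [(177, (-1), 1, 1)] .nil .nil)))))) (.node [] (.node [(17, (-1), 1, 1)] (.node [(36, 1, 1, 1)] (.node [] (.node [] (.node [(116, 1, 1, 1)] (.node [(179, 1, 1, 1)] .nil .nil) (.node [(227, (-1), 1, 1)] .nil .nil)) (.node [(164, 1, 1, 1)] (.node [(215, (-1), 1, 1)] .nil .nil) .nil)) .nil) (.node [(79, 1, 1, 1)] .nil .nil)) (.node [(47,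 1, 1, 1)] .nil (.node [] (.node [(100, 1, 1, 1)] (.node [] (.node [(196, (-1), 1, 1)] .nil .nil) .nil) (.node [(169, 1, 1, 1)] .nil .nil)) (.node [(111, (-1), 1, 1)] .nil (.node [(176, (-1), 1, 1)] .nil .nil))))) (.node [(26, 1, 1, 1)] (.node [] (.node [] (.node [(89, 1, 1, 1)] .nil .nil) .nil) (.node [] (.node [] (.node [(142, 1, 1, 1)] (.node [(194, (-1), 1, 1)] .nil .nil) .nil) .nil) .nil)) (.node [] (.node [] (.node [] (.node [(131, (-1), 1, 1)] .nil .nil) .nil) (.node [] (.node [] (.node [(205, (-1), 1, 1)] .nil .nil) .nil) .nil)) (.node [] .nil (.node [(114, 1, 1, 1)] (.node [] .nil (.node [(235, 1, 1, 1)] .nil .nil)) .nil))))))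
def C174 : List (ℕ × List (ℕ × ℤ)) := [(3, [(16, (-1))]), (4, [(17, (-1))]), (6, [(26, 1)]), (8, [(36, 1)]), (11, [(46, 1)]), (12, [(47, 1)]), (13, [(48, 1)]), (23, [(78, 1)]), (24, [(79, 1)]), (25, [(80, 1)]), (33, [(88, 1)]), (34, [(89, 1)]), (35, [(90, 1)]), (43, [(99, 1)]), (44, [(100, 1)]), (45, [(101, 1)]), (55, [(104, 1)]), (59, [(110, (-1))]), (60, [(111, (-1))]), (61, [(112, (-1))]), (62, [(114, 1)]), (63, [(115, 1)]), (64, [(116, 1)]), (69, [(130, 1)]), (70, [(131, (-1))]), (74, [(142, 1)]), (75, [(143, (-1))]), (77, [(152, 1)]), (87, [(162, (-1))]), (96, [(164, 1)]), (97, [(165, (-1))]), (108, [(169, 1)]), (109, [(170, (-1))]), (123, [(175, (-1))]), (124, [(176, (-1))]), (125, [(177, (-1))]), (127, [(178, 1)]), (128, [(179, 1)]), (129, [(180, 1)]), (135, [(184, (-1))]), (138, [(194, (-1))]), (139, [(195, (-1))]), (140, [(196, (-1))]), (149, [(204, (-1))]), (150, [(205, (-1))]), (151, [(206, (-1))]), (159, [(214, (-1))]), (160,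 [(215, (-1))]), (161, [(216, (-1))]), (191, [(226, (-1))]), (192, [(227, (-1))]), (193, [(228, (-1))]), (203, [(231, (-1))]), (213, [(233, (-1))]), (222, [(235, 1)]), (223, [(236, 1)])]
def M175 : Tr (List (ℕ × ℤ × ℕ × ℕ)) := (.node [] (.node [] (.node [] (.node [] (.node [] (.node [(88, 1, 1, 1)] (.node [(118, 1, 1, 1)] .nil .nil) (.node [(164, 1, 1, 1)] .nil (.node [(237, 1, 1, 1)] .nil .nil))) .nil) (.node [] (.node [] (.node [] (.node [(185, (-1), 1, 1)] .nil .nil) .nil) .nil) (.node [] (.node [] (.node [(208, (-1), 1, 1)] .nil .nil) .nil) .nil))) (.node [] (.node [] (.node [(91, (-1), 1, 1)] .nil .nil) .nil) (.node [] (.node [] (.node [(144, (-1), 1, 1)] (.node [(197, (-1), 1, 1)] .nil .nil) .nil) (.node [(169, 1, 1, 1)] .nil .nil)) .nil))) (.node [] (.node [] (.node [] (.node [] (.node [(123, 1, 1, 1)] (.node [(182, 1, 1, 1)] .nil .nil) (.node [(229, (-1), 1, 1)] .nil .nil)) (.node [(166, (-1), 1, 1)] (.node [(217, (-1), 1, 1)]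 .nil .nil) .nil)) .nil) (.node [(82, (-1), 1, 1)] (.node [(99, 1, 1, 1)] (.node [(142, 1, 1, 1)] (.node [(194, 1, 1, 1)] .nil .nil) .nil) .nil) (.node [(110, (-1), 1, 1)] .nil (.node [(176, (-1), 1, 1)] .nil .nil)))) (.node [(50, (-1), 1, 1)] .nil (.node [] (.node [(102, (-1), 1, 1)] (.node [(153, 1, 1, 1)] .nil .nil) (.node [(171, (-1), 1, 1)] .nil .nil)) (.node [(113, 1, 1, 1)] (.node [] (.node [(214, 1, 1, 1)] .nil .nil) (.node [(235, (-1), 1, 1)] .nil .nil)) (.node [] (.node [(226, 1, 1, 1)] .nil .nil) .nil)))))) (.node [(16, (-1), 1, 1)] (.node [(18, 1, 1, 1)] (.node [(37, (-1), 1, 1)] (.node [] (.node [(89, 1, 1, 1)] (.node [] (.node [(181, 1, 1, 1)] .nil .nil) .nil) .nil) .nil) (.node [(81, (-1), 1, 1)] .nil .nil)) (.node [(49, (-1), 1, 1)] (.node [] (.node [] (.node [(130, 1, 1, 1)] .nil .nil) .nil) (.node [] (.node [] (.node [(204, 1, 1, 1)] .nil .nil) (.node [(233, 1, 1, 1)] .nil .nil)) (.node [(174, (-1), 1, 1)] .nil .nil)))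 (.node [] (.node [] (.node [] (.node [(198, (-1), 1, 1)] .nil .nil) .nil) .nil) .nil))) (.node [(27, (-1), 1, 1)] (.node [(46, 1, 1, 1)] .nil (.node [] (.node [(100, 1, 1, 1)] (.node [] .nil (.node [(231, 1, 1, 1)] .nil .nil)) .nil) (.node [(111, (-1), 1, 1)] .nil (.node [(177, (-1), 1, 1)] .nil .nil)))) (.node [] (.node [(78, 1, 1, 1)] (.node [] (.node [(132, (-1), 1, 1)] .nil .nil) .nil) (.node [(104, 1, 1, 1)] (.node [(162, (-1), 1, 1)] (.node [(207, (-1), 1, 1)] .nil .nil) .nil) .nil)) (.node [] .nil (.node [(117, 1, 1, 1)] (.node [] (.node [(215, 1, 1, 1)] .nil .nil) .nil) (.node [(178, (-1), 1, 1)] (.node [(227, 1, 1, 1)] .nil .nil) .nil)))))))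
def C175 : List (ℕ × List (ℕ × ℤ)) := [(2, [(16, (-1))]), (4, [(18, 1)]), (6, [(27, (-1))]), (8, [(37, (-1))]), (10, [(46, 1)]), (12, [(49, (-1))]), (13, [(50, (-1))]), (22, [(78, 1)]), (24, [(81, (-1))]), (25, [(82, (-1))]), (31, [(88, 1)]), (32, [(89, 1)]), (35, [(91, (-1))]), (41, [(99, 1)]), (42, [(100, 1)]), (45, [(102, (-1))]), (54, [(104, 1)]), (57, [(110, (-1))]), (58, [(111, (-1))]), (61, [(113, 1)]), (62, [(117, 1)]), (63, [(118, 1)]), (65, [(123, 1)]), (68, [(130, 1)]), (70, [(132, (-1))]), (73, [(142, 1)]), (75, [(144, (-1))]), (77, [(153, 1)]), (86, [(162, (-1))]), (95, [(164, 1)]), (97, [(166, (-1))]), (107, [(169, 1)]), (109, [(171, (-1))]), (116, [(174, (-1))]), (121, [(176, (-1))]), (122, [(177, (-1))]), (126, [(178, (-1))]), (128, [(181, 1)]), (129, [(182, 1)]), (135, [(185, (-1))]), (137, [(194, 1)]), (139, [(197, (-1))]), (140, [(198, (-1))]), (148, [(204, 1)]), (150, [(207, (-1))]), (151, [(208, (-1))]), (157, [(214,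 1)]), (158, [(215, 1)]), (161, [(217, (-1))]), (189, [(226, 1)]), (190, [(227, 1)]), (193, [(229, (-1))]), (202, [(231, 1)]), (212, [(233, 1)]), (221, [(235, (-1))]), (223, [(237, 1)])]
def M176 : Tr (List (ℕ × ℤ × ℕ × ℕ)) := (.node [] (.node [(16, (-1), 1, 1)] (.node [] (.node [] (.node [] (.node [] (.node [] (.node [(181, (-1), 1, 1)] .nil .nil) .nil) (.node [] .nil (.node [(238, 1, 1, 1)] .nil .nil))) .nil) (.node [(81, (-1), 1, 1)] (.node [] (.node [] (.node [(186, (-1), 1, 1)] .nil .nil) .nil) .nil) (.node [] (.node [] (.node [(209, (-1), 1, 1)] .nil .nil) .nil) .nil))) (.node [(49, (-1), 1, 1)] (.node [] (.node [] (.node [(130, 1, 1, 1)] .nil .nil) .nil) (.node [] (.node [] .nil (.node [(233, (-1), 1, 1)] .nil .nil)) (.node [(174, (-1), 1, 1)] .nil .nil))) (.node [] (.node [] (.node [(145, (-1), 1, 1)] .nil .nil) .nil) .nil))) (.node [] (.node [] (.node [] (.node [] (.node [(124, 1, 1, 1)] (.node [(183, 1, 1, 1)] .nil .nil) .nil)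 (.node [(167, (-1), 1, 1)] .nil .nil)) .nil) (.node [(83, 1, 1, 1)] (.node [] (.node [] (.node [(195, 1, 1, 1)] .nil .nil) (.node [(231, (-1), 1, 1)] .nil .nil)) .nil) .nil)) (.node [(51, 1, 1, 1)] (.node [] .nil (.node [(104, 1, 1, 1)] (.node [(162, (-1), 1, 1)] (.node [(207, 1, 1, 1)] .nil .nil) .nil) .nil)) (.node [] (.node [] (.node [(154, 1, 1, 1)] .nil .nil) (.node [(172, (-1), 1, 1)] .nil .nil)) .nil)))) (.node [] (.node [(19, (-1), 1, 1)] (.node [(38, 1, 1, 1)] (.node [] (.node [(90, (-1), 1, 1)] (.node [(121, 1, 1, 1)] .nil (.node [(229, 1, 1, 1)] .nil .nil)) (.node [] (.node [(217, 1, 1, 1)] .nil .nil) .nil)) .nil) (.node [] (.node [(99, 1, 1, 1)] (.node [(142, 1, 1, 1)] .nil .nil) .nil) (.node [(110, (-1), 1, 1)] .nil (.node [(177, (-1), 1, 1)] .nil .nil)))) (.node [] (.node [] .nil (.node [] (.node [] (.node [(205, 1, 1, 1)] .nil .nil) .nil) .nil)) (.node [] (.node [(102, (-1), 1, 1)] (.node [] (.node [(199, (-1), 1, 1)] .nil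 .nil) .nil) .nil) (.node [(113, 1, 1, 1)] (.node [] (.node [(214, (-1), 1, 1)] .nil .nil) (.node [(235, 1, 1, 1)] .nil .nil)) (.node [] (.node [(226, (-1), 1, 1)] .nil .nil) .nil))))) (.node [(28, 1, 1, 1)] (.node [(47, (-1), 1, 1)] (.node [] (.node [(91, (-1), 1, 1)] .nil .nil) .nil) (.node [] (.node [(101, (-1), 1, 1)] (.node [] (.node [(197, 1, 1, 1)] .nil .nil) .nil) (.node [(169, 1, 1, 1)] .nil .nil)) (.node [(112, 1, 1, 1)] .nil .nil))) (.node [] (.node [(79, (-1), 1, 1)] (.node [] (.node [(133, (-1), 1, 1)] .nil .nil) .nil) (.node [] .nil (.node [(175, (-1), 1, 1)] .nil .nil))) (.node [(88, 1, 1, 1)] .nil (.node [(119, 1, 1, 1)] (.node [(164, 1, 1, 1)] (.node [(216, 1, 1, 1)] .nil .nil) .nil) (.node [(179, (-1), 1, 1)] (.node [(228, 1, 1, 1)] .nil .nil) .nil)))))))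
def C176 : List (ℕ × List (ℕ × ℤ)) := [(1, [(16, (-1))]), (4, [(19, (-1))]), (6, [(28, 1)]), (8, [(38, 1)]), (10, [(47, (-1))]), (11, [(49, (-1))]), (13, [(51, 1)]), (22, [(79, (-1))]), (23, [(81, (-1))]), (25, [(83, 1)]), (30, [(88, 1)]), (32, [(90, (-1))]), (34, [(91, (-1))]), (40, [(99, 1)]), (42, [(101, (-1))]), (44, [(102, (-1))]), (53, [(104, 1)]), (56, [(110, (-1))]), (58, [(112, 1)]), (60, [(113, 1)]), (62, [(119, 1)]), (64, [(121, 1)]), (65, [(124, 1)]), (67, [(130, 1)]), (70, [(133, (-1))]), (72, [(142, 1)]), (75, [(145, (-1))]), (77, [(154, 1)]), (85, [(162, (-1))]), (94, [(164, 1)]), (97, [(167, (-1))]), (106, [(169, 1)]), (109, [(172, (-1))]), (115, [(174, (-1))]), (118, [(175, (-1))]), (120, [(177, (-1))]), (126, [(179, (-1))]), (127, [(181, (-1))]), (129, [(183, 1)]), (135, [(186, (-1))]), (137, [(195, 1)]), (138, [(197, 1)]), (140, [(199, (-1))]), (148, [(205, 1)]), (149, [(207, 1)]), (151, [(209, (-1))]), (156, [(214,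 (-1))]), (158, [(216, 1)]), (160, [(217, 1)]), (188, [(226, (-1))]), (190, [(228, 1)]), (192, [(229, 1)]), (201, [(231, (-1))]), (211, [(233, (-1))]), (220, [(235, 1)]), (223, [(238, 1)])]
def M177 : Tr (List (ℕ × ℤ × ℕ × ℕ)) := (.node [(16, (-1), 1, 1)] (.node [] (.node [] (.node [] (.node [] (.node [(90, (-1), 1, 1)] (.node [(120, 1, 1, 1)] (.node [(182, (-1), 1, 1)] .nil .nil) (.node [(229, (-1), 1, 1)] .nil .nil)) (.node [] (.node [(217, (-1), 1, 1)] .nil .nil) (.node [(239, 1, 1, 1)] .nil .nil))) .nil) (.node [(82, 1, 1, 1)] (.node [] (.node [(142, 1, 1, 1)] (.node [(187, (-1), 1, 1)] .nil .nil) .nil) .nil) (.node [] .nil (.node [(176, (-1), 1, 1)] .nil .nil)))) (.node [(50, 1, 1, 1)] .nil (.node [] (.node [(102, (-1), 1, 1)] (.node [(146, (-1), 1, 1)] (.node [(199, 1, 1, 1)] .nil .nil) .nil) .nil) (.node [(113, 1, 1, 1)] (.node [] .nil (.node [(235, (-1), 1, 1)] .nil .nil)) .nil)))) (.node [] (.node [] (.node [] (.node [(91, (-1),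 1, 1)] (.node [(125, 1, 1, 1)] .nil .nil) (.node [(168, (-1), 1, 1)] .nil .nil)) .nil) (.node [] (.node [(101, (-1), 1, 1)] (.node [] (.node [(196, 1, 1, 1)] .nil .nil) .nil) (.node [(169, 1, 1, 1)] .nil .nil)) (.node [(112, 1, 1, 1)] .nil .nil))) (.node [] (.node [] .nil (.node [] (.node [] (.node [(208, 1, 1, 1)] .nil .nil) .nil) (.node [(175, (-1), 1, 1)] .nil .nil))) (.node [] (.node [] (.node [(155, 1, 1, 1)] .nil .nil) (.node [(173, (-1), 1, 1)] .nil .nil)) (.node [] (.node [(164, 1, 1, 1)] (.node [(216, (-1), 1, 1)] .nil .nil) .nil) (.node [] (.node [(228, (-1), 1, 1)] .nil .nil) .nil)))))) (.node [] (.node [(20, 1, 1, 1)] (.node [(39, (-1), 1, 1)] (.node [] (.node [] (.node [(122, 1, 1, 1)] (.node [(183, (-1), 1, 1)] .nil .nil) .nil) .nil) .nil) (.node [(83, 1, 1, 1)] (.node [(100, (-1), 1, 1)] (.node [] .nil (.node [(231, 1, 1, 1)] .nil .nil)) .nil) (.node [(111, 1, 1, 1)] .nil .nil))) (.node [(51, 1, 1, 1)] (.node [] .nil (.node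 [(104, 1, 1, 1)] (.node [(162, (-1), 1, 1)] (.node [(206, 1, 1, 1)] .nil .nil) .nil) .nil)) (.node [] .nil (.node [] (.node [] (.node [(215, (-1), 1, 1)] .nil .nil) .nil) (.node [] (.node [(227, (-1), 1, 1)] .nil .nil) .nil))))) (.node [(29, (-1), 1, 1)] (.node [(48, 1, 1, 1)] (.node [] (.node [] (.node [(130, 1, 1, 1)] .nil .nil) .nil) (.node [] (.node [] .nil (.node [(233, 1, 1, 1)] .nil .nil)) (.node [(174, (-1), 1, 1)] .nil .nil))) (.node [] (.node [] (.node [] (.node [(198, 1, 1, 1)] .nil .nil) .nil) .nil) .nil)) (.node [] (.node [(80, 1, 1, 1)] (.node [] (.node [(134, (-1), 1, 1)] .nil .nil) .nil) (.node [] (.node [] (.node [(209, 1, 1, 1)] .nil .nil) .nil) .nil)) (.node [(89, (-1), 1, 1)] .nil (.node [] .nil (.node [(180, (-1), 1, 1)] .nil .nil)))))))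
def C177 : List (ℕ × List (ℕ × ℤ)) := [(0, [(16, (-1))]), (4, [(20, 1)]), (6, [(29, (-1))]), (8, [(39, (-1))]), (10, [(48, 1)]), (11, [(50, 1)]), (12, [(51, 1)]), (22, [(80, 1)]), (23, [(82, 1)]), (24, [(83, 1)]), (30, [(89, (-1))]), (31, [(90, (-1))]), (33, [(91, (-1))]), (40, [(100, (-1))]), (41, [(101, (-1))]), (43, [(102, (-1))]), (52, [(104, 1)]), (56, [(111, 1)]), (57, [(112, 1)]), (59, [(113, 1)]), (63, [(120, 1)]), (64, [(122, 1)]), (65, [(125, 1)]), (66, [(130, 1)]), (70, [(134, (-1))]), (71, [(142, 1)]), (75, [(146, (-1))]), (77, [(155, 1)]), (84, [(162, (-1))]), (93, [(164, 1)]), (97, [(168, (-1))]), (105, [(169, 1)]), (109, [(173, (-1))]), (114, [(174, (-1))]), (117, [(175, (-1))]), (119, [(176, (-1))]), (126, [(180, (-1))]), (127, [(182, (-1))]), (128, [(183, (-1))]), (135, [(187, (-1))]), (137, [(196, 1)]), (138, [(198, 1)]), (139, [(199, 1)]), (148, [(206, 1)]), (149, [(208, 1)]), (150, [(209, 1)]), (156, [(215, (-1))]),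 (157, [(216, (-1))]), (159, [(217, (-1))]), (188, [(227, (-1))]), (189, [(228, (-1))]), (191, [(229, (-1))]), (200, [(231, 1)]), (210, [(233, 1)]), (219, [(235, (-1))]), (223, [(239, 1)])]
def M178 : Tr (List (ℕ × ℤ × ℕ × ℕ)) := (.node [] (.node [] (.node [(18, 1, 1, 1)] (.node [] (.node [] (.node [] .nil (.node [(165, 1, 1, 1)] .nil .nil)) .nil) (.node [] (.node [(100, 1, 1, 1)] (.node [] (.node [(188, (-1), 1, 1)] .nil .nil) (.node [(231, (-1), 1, 1)] .nil .nil)) .nil) (.node [] (.node [] (.node [(211, (-1), 1, 1)] .nil .nil) .nil) .nil))) (.node [] (.node [] (.node [(92, 1, 1, 1)] .nil .nil) (.node [(104, 1, 1, 1)] (.node [(162, (-1), 1, 1)] (.node [(204, (-1), 1, 1)] .nil .nil) .nil) .nil)) (.node [] (.node [] (.node [] (.node [(200, (-1), 1, 1)] .nil .nil) .nil) (.node [(170, 1, 1, 1)] .nil .nil)) (.node [(117, 1, 1, 1)] (.node [] (.node [(215, (-1), 1, 1)] .nil .nil) .nil) (.node [] (.node [(227, (-1), 1, 1)] .nil .nil) .nil)))))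 (.node [] (.node [(46, 1, 1, 1)] (.node [] (.node [] (.node [(127, (-1), 1, 1)] .nil (.node [(230, (-1), 1, 1)] .nil .nil)) (.node [] (.node [(218, (-1), 1, 1)] .nil .nil) .nil)) (.node [] (.node [] .nil (.node [(233, (-1), 1, 1)] .nil .nil)) (.node [(175, (-1), 1, 1)] .nil .nil))) (.node [(85, 1, 1, 1)] (.node [] (.node [(143, 1, 1, 1)] .nil .nil) .nil) (.node [(114, (-1), 1, 1)] .nil (.node [(179, (-1), 1, 1)] .nil .nil)))) (.node [(53, 1, 1, 1)] (.node [(78, 1, 1, 1)] (.node [] (.node [(132, (-1), 1, 1)] .nil .nil) .nil) .nil) (.node [(89, 1, 1, 1)] (.node [(103, 1, 1, 1)] (.node [(156, 1, 1, 1)] .nil .nil) .nil) (.node [] (.node [] .nil (.node [(236, (-1), 1, 1)] .nil .nil)) (.node [(182, 1, 1, 1)] .nil .nil)))))) (.node [(17, 1, 1, 1)] (.node [] (.node [(40, 1, 1, 1)] (.node [] (.node [] (.node [(126, 1, 1, 1)] .nil .nil) (.node [(166, (-1), 1, 1)] .nil .nil)) (.node [] .nil (.node [(174, 1, 1, 1)] .nil .nil))) (.node [(84, 1, 1,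 1)] (.node [] (.node [] (.node [(194, (-1), 1, 1)] .nil .nil) .nil) .nil) .nil)) (.node [(52, 1, 1, 1)] (.node [] (.node [] (.node [(131, 1, 1, 1)] .nil .nil) .nil) .nil) (.node [(88, 1, 1, 1)] (.node [] (.node [] (.node [(201, (-1), 1, 1)] .nil .nil) .nil) (.node [(171, (-1), 1, 1)] .nil .nil)) (.node [(118, 1, 1, 1)] .nil (.node [(181, 1, 1, 1)] .nil .nil))))) (.node [(30, 1, 1, 1)] (.node [] .nil (.node [] (.node [] (.node [(144, (-1), 1, 1)] .nil .nil) .nil) (.node [(115, (-1), 1, 1)] (.node [] (.node [(214, (-1), 1, 1)] .nil .nil) .nil) (.node [(180, (-1), 1, 1)] (.node [(226, (-1), 1, 1)] .nil .nil) .nil)))) (.node [] (.node [] (.node [(99, 1, 1, 1)] .nil .nil) (.node [] (.node [] (.node [(210, (-1), 1, 1)] .nil .nil) .nil) .nil)) (.node [] .nil (.node [] (.node [] .nil (.node [(237, (-1), 1, 1)] .nil .nil)) .nil))))))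
def C178 : List (ℕ × List (ℕ × ℤ)) := [(2, [(17, 1)]), (3, [(18, 1)]), (6, [(30, 1)]), (8, [(40, 1)]), (9, [(46, 1)]), (12, [(52, 1)]), (13, [(53, 1)]), (21, [(78, 1)]), (24, [(84, 1)]), (25, [(85, 1)]), (28, [(88, 1)]), (29, [(89, 1)]), (35, [(92, 1)]), (38, [(99, 1)]), (39, [(100, 1)]), (45, [(103, 1)]), (51, [(104, 1)]), (57, [(114, (-1))]), (58, [(115, (-1))]), (59, [(117, 1)]), (60, [(118, 1)]), (64, [(126, 1)]), (65, [(127, (-1))]), (68, [(131, 1)]), (69, [(132, (-1))]), (73, [(143, 1)]), (74, [(144, (-1))]), (77, [(156, 1)]), (83, [(162, (-1))]), (95, [(165, 1)]), (96, [(166, (-1))]), (107, [(170, 1)]), (108, [(171, (-1))]), (112, [(174, 1)]), (113, [(175, (-1))]), (121, [(179, (-1))]), (122, [(180, (-1))]), (124, [(181, 1)]), (125, [(182, 1)]), (135, [(188, (-1))]), (136, [(194, (-1))]), (139, [(200, (-1))]), (140, [(201, (-1))]), (147, [(204, (-1))]), (150, [(210, (-1))]), (151, [(211, (-1))]), (154, [(214, (-1))]), (155, [(215,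 (-1))]), (161, [(218, (-1))]), (186, [(226, (-1))]), (187, [(227, (-1))]), (193, [(230, (-1))]), (199, [(231, (-1))]), (209, [(233, (-1))]), (221, [(236, (-1))]), (222, [(237, (-1))])]
def M179 : Tr (List (ℕ × ℤ × ℕ × ℕ)) := (.node [] (.node [(17, 1, 1, 1)] (.node [(19, (-1), 1, 1)] (.node [] (.node [] (.node [] (.node [(126, 1, 1, 1)] .nil .nil) .nil) (.node [] .nil (.node [(174, 1, 1, 1)] .nil .nil))) (.node [(84, 1, 1, 1)] (.node [(101, (-1), 1, 1)] (.node [] (.node [(189, (-1), 1, 1)] .nil .nil) .nil) .nil) (.node [] (.node [] (.node [(212, (-1), 1, 1)] .nil .nil) .nil) .nil))) (.node [(52, 1, 1, 1)] (.node [] (.node [] (.node [(131, 1, 1, 1)] .nil .nil) .nil) (.node [] (.node [] (.node [(205, (-1), 1, 1)] .nil .nil) .nil) .nil)) (.node [(88, 1, 1, 1)] .nil (.node [(119, 1, 1, 1)] (.node [] (.node [(216, (-1), 1, 1)] .nil .nil) .nil) (.node [(181, (-1), 1, 1)] (.node [(228, (-1), 1, 1)] .nil .nil) .nil))))) (.node [] (.node [(47,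 (-1), 1, 1)] (.node [] (.node [] (.node [(128, (-1), 1, 1)] .nil .nil) .nil) (.node [] .nil (.node [(176, (-1), 1, 1)] .nil .nil))) (.node [(86, (-1), 1, 1)] .nil (.node [] (.node [] (.node [(214, 1, 1, 1)] .nil .nil) .nil) (.node [] (.node [(226, 1, 1, 1)] .nil .nil) .nil)))) (.node [(54, (-1), 1, 1)] (.node [(79, (-1), 1, 1)] (.node [(99, 1, 1, 1)] (.node [(133, (-1), 1, 1)] .nil .nil) .nil) (.node [] (.node [] (.node [(210, 1, 1, 1)] .nil .nil) .nil) .nil)) (.node [(90, (-1), 1, 1)] (.node [] (.node [(157, 1, 1, 1)] .nil .nil) .nil) (.node [(121, 1, 1, 1)] .nil (.node [(183, 1, 1, 1)] .nil .nil)))))) (.node [] (.node [] (.node [(41, (-1), 1, 1)] (.node [] (.node [] (.node [] .nil (.node [(230, 1, 1, 1)] .nil .nil)) (.node [(167, (-1), 1, 1)] (.node [(218, 1, 1, 1)] .nil .nil) .nil)) (.node [] (.node [] .nil (.node [(233, 1, 1, 1)] .nil .nil)) .nil)) (.node [] (.node [] (.node [(143, 1, 1, 1)] (.node [(195, (-1), 1, 1)] .nil .nil) .nil)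 .nil) (.node [(114, (-1), 1, 1)] .nil (.node [(180, (-1), 1, 1)] .nil .nil)))) (.node [] .nil (.node [] (.node [(103, 1, 1, 1)] (.node [] (.node [(202, (-1), 1, 1)] .nil .nil) .nil) (.node [(172, (-1), 1, 1)] .nil .nil)) (.node [] (.node [] .nil (.node [(236, 1, 1, 1)] .nil .nil)) .nil)))) (.node [(31, (-1), 1, 1)] (.node [] (.node [] (.node [(92, 1, 1, 1)] .nil .nil) (.node [(104, 1, 1, 1)] (.node [(162, (-1), 1, 1)] .nil .nil) .nil)) (.node [] (.node [] (.node [(145, (-1), 1, 1)] (.node [(200, 1, 1, 1)] .nil .nil) .nil) (.node [(170, 1, 1, 1)] .nil .nil)) (.node [(116, 1, 1, 1)] .nil .nil))) (.node [] (.node [] (.node [] (.node [] .nil (.node [(231, 1, 1, 1)] .nil .nil)) .nil) (.node [] .nil (.node [(178, (-1), 1, 1)] .nil .nil))) (.node [] .nil (.node [] (.node [(165, 1, 1, 1)] .nil (.node [(238, (-1), 1, 1)] .nil .nil)) .nil))))))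
def C179 : List (ℕ × List (ℕ × ℤ)) := [(1, [(17, 1)]), (3, [(19, (-1))]), (6, [(31, (-1))]), (8, [(41, (-1))]), (9, [(47, (-1))]), (11, [(52, 1)]), (13, [(54, (-1))]), (21, [(79, (-1))]), (23, [(84, 1)]), (25, [(86, (-1))]), (27, [(88, 1)]), (29, [(90, (-1))]), (34, [(92, 1)]), (37, [(99, 1)]), (39, [(101, (-1))]), (44, [(103, 1)]), (50, [(104, 1)]), (56, [(114, (-1))]), (58, [(116, 1)]), (59, [(119, 1)]), (61, [(121, 1)]), (63, [(126, 1)]), (65, [(128, (-1))]), (67, [(131, 1)]), (69, [(133, (-1))]), (72, [(143, 1)]), (74, [(145, (-1))]), (77, [(157, 1)]), (82, [(162, (-1))]), (94, [(165, 1)]), (96, [(167, (-1))]), (106, [(170, 1)]), (108, [(172, (-1))]), (111, [(174, 1)]), (113, [(176, (-1))]), (118, [(178, (-1))]), (120, [(180, (-1))]), (123, [(181, (-1))]), (125, [(183, 1)]), (135, [(189, (-1))]), (136, [(195, (-1))]), (138, [(200, 1)]), (140, [(202, (-1))]), (147, [(205, (-1))]), (149, [(210, 1)]), (151, [(212, (-1))]), (153, [(214,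 1)]), (155, [(216, (-1))]), (160, [(218, 1)]), (185, [(226, 1)]), (187, [(228, (-1))]), (192, [(230, 1)]), (198, [(231, 1)]), (208, [(233, 1)]), (220, [(236, 1)]), (222, [(238, (-1))])]
def M180 : Tr (List (ℕ × ℤ × ℕ × ℕ)) := (.node [(17, 1, 1, 1)] (.node [] (.node [(20, 1, 1, 1)] (.node [] (.node [] (.node [] (.node [] .nil (.node [(230, (-1), 1, 1)] .nil .nil)) (.node [] (.node [(218, (-1), 1, 1)] .nil .nil) .nil)) (.node [] (.node [] .nil (.node [(233, (-1), 1, 1)] .nil .nil)) .nil)) (.node [(85, (-1), 1, 1)] (.node [] (.node [(143, 1, 1, 1)] (.node [(190, (-1), 1, 1)] .nil .nil) .nil) .nil) (.node [] .nil (.node [(179, (-1), 1, 1)] .nil .nil)))) (.node [(53, (-1), 1, 1)] (.node [] .nil (.node [] (.node [] (.node [(206, (-1), 1, 1)] .nil .nil) .nil) .nil)) (.node [(89, (-1), 1, 1)] (.node [(103, 1, 1, 1)] (.node [] (.node [(202, 1, 1, 1)] .nil .nil) .nil) .nil) (.node [] (.node [] .nil (.node [(236, (-1), 1, 1)] .nil .nil)) (.node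 [(182, (-1), 1, 1)] .nil .nil))))) (.node [] (.node [(48, 1, 1, 1)] (.node [] (.node [(92, 1, 1, 1)] (.node [(129, (-1), 1, 1)] .nil .nil) .nil) (.node [(104, 1, 1, 1)] (.node [(162, (-1), 1, 1)] .nil .nil) (.node [(177, (-1), 1, 1)] .nil .nil))) (.node [] (.node [] .nil (.node [(170, 1, 1, 1)] .nil .nil)) (.node [(116, 1, 1, 1)] (.node [] (.node [(215, 1, 1, 1)] .nil .nil) .nil) (.node [] (.node [(227, 1, 1, 1)] .nil .nil) .nil)))) (.node [] (.node [(80, 1, 1, 1)] (.node [(100, (-1), 1, 1)] (.node [(134, (-1), 1, 1)] .nil (.node [(231, (-1), 1, 1)] .nil .nil)) .nil) (.node [] (.node [] (.node [(211, 1, 1, 1)] .nil .nil) .nil) (.node [(178, (-1), 1, 1)] .nil .nil))) (.node [] (.node [] (.node [(158, 1, 1, 1)] .nil .nil) .nil) (.node [(122, 1, 1, 1)] (.node [(165, 1, 1, 1)] .nil .nil) .nil))))) (.node [] (.node [] (.node [(42, 1, 1, 1)] (.node [] (.node [] .nil (.node [(168, (-1), 1, 1)] .nil .nil)) .nil) (.node [(86, (-1), 1, 1)] (.node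 [] (.node [] (.node [(196, (-1), 1, 1)] .nil .nil) .nil) .nil) (.node [(115, 1, 1, 1)] .nil .nil))) (.node [(54, (-1), 1, 1)] .nil (.node [(90, (-1), 1, 1)] (.node [] .nil (.node [(173, (-1), 1, 1)] .nil .nil)) (.node [(120, 1, 1, 1)] .nil (.node [(183, (-1), 1, 1)] .nil .nil))))) (.node [(32, 1, 1, 1)] (.node [] (.node [] (.node [] (.node [(131, 1, 1, 1)] .nil .nil) .nil) .nil) (.node [] (.node [] (.node [(146, (-1), 1, 1)] (.node [(201, 1, 1, 1)] .nil .nil) .nil) .nil) (.node [] (.node [] (.node [(216, 1, 1, 1)] .nil .nil) .nil) (.node [] (.node [(228, 1, 1, 1)] .nil .nil) .nil)))) (.node [] (.node [] (.node [(101, (-1), 1, 1)] .nil .nil) (.node [] (.node [] (.node [(212, 1, 1, 1)] .nil .nil) .nil) .nil)) (.node [] (.node [] .nil (.node [(174, 1, 1, 1)] .nil .nil)) (.node [(126, 1, 1, 1)] (.node [] .nil (.node [(239, (-1), 1, 1)] .nil .nil)) .nil))))))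
def C180 : List (ℕ × List (ℕ × ℤ)) := [(0, [(17, 1)]), (3, [(20, 1)]), (6, [(32, 1)]), (8, [(42, 1)]), (9, [(48, 1)]), (11, [(53, (-1))]), (12, [(54, (-1))]), (21, [(80, 1)]), (23, [(85, (-1))]), (24, [(86, (-1))]), (27, [(89, (-1))]), (28, [(90, (-1))]), (33, [(92, 1)]), (37, [(100, (-1))]), (38, [(101, (-1))]), (43, [(103, 1)]), (49, [(104, 1)]), (56, [(115, 1)]), (57, [(116, 1)]), (60, [(120, 1)]), (61, [(122, 1)]), (62, [(126, 1)]), (65, [(129, (-1))]), (66, [(131, 1)]), (69, [(134, (-1))]), (71, [(143, 1)]), (74, [(146, (-1))]), (77, [(158, 1)]), (81, [(162, (-1))]), (93, [(165, 1)]), (96, [(168, (-1))]), (105, [(170, 1)]), (108, [(173, (-1))]), (110, [(174, 1)]), (113, [(177, (-1))]), (117, [(178, (-1))]), (119, [(179, (-1))]), (123, [(182, (-1))]), (124, [(183, (-1))]), (135, [(190, (-1))]), (136, [(196, (-1))]), (138, [(201, 1)]), (139, [(202, 1)]), (147, [(206, (-1))]), (149, [(211, 1)]), (150, [(212, 1)]), (153, [(215, 1)]),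 (154, [(216, 1)]), (159, [(218, (-1))]), (185, [(227, 1)]), (186, [(228, 1)]), (191, [(230, (-1))]), (197, [(231, (-1))]), (207, [(233, (-1))]), (219, [(236, (-1))]), (222, [(239, (-1))])]
def M181 : Tr (List (ℕ × ℤ × ℕ × ℕ)) := (.node [] (.node [(18, (-1), 1, 1)] (.node [] (.node [] (.node [] (.node [] (.node [(127, 1, 1, 1)] .nil .nil) (.node [(167, (-1), 1, 1)] .nil .nil)) (.node [] .nil (.node [(175, 1, 1, 1)] .nil .nil))) (.node [] (.node [(102, 1, 1, 1)] (.node [] (.node [(191, (-1), 1, 1)] .nil .nil) .nil) .nil) (.node [] (.node [] (.node [(213, (-1), 1, 1)] .nil .nil) .nil) .nil))) (.node [] (.node [] (.node [] (.node [(132, 1, 1, 1)] .nil .nil) .nil) (.node [] (.node [] (.node [(207, (-1), 1, 1)] .nil .nil) .nil) (.node [(178, 1, 1, 1)] .nil .nil))) (.node [] (.node [] .nil (.node [(172, (-1), 1, 1)] .nil .nil)) (.node [] (.node [] (.node [(217, (-1), 1, 1)] .nil .nil) .nil) (.node [] (.node [(229, (-1), 1, 1)] .nil .nil) .nil)))))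 (.node [] (.node [(49, 1, 1, 1)] .nil (.node [(87, 1, 1, 1)] (.node [] (.node [(145, (-1), 1, 1)] (.node [(200, (-1), 1, 1)] .nil .nil) .nil) .nil) (.node [(119, 1, 1, 1)] .nil .nil))) (.node [(55, 1, 1, 1)] (.node [(81, 1, 1, 1)] .nil .nil) (.node [(91, 1, 1, 1)] (.node [] (.node [(159, 1, 1, 1)] .nil .nil) .nil) (.node [(124, (-1), 1, 1)] (.node [] .nil (.node [(238, 1, 1, 1)] .nil .nil)) .nil))))) (.node [(19, (-1), 1, 1)] (.node [] (.node [(43, 1, 1, 1)] (.node [] (.node [(92, 1, 1, 1)] (.node [(128, (-1), 1, 1)] .nil .nil) .nil) (.node [(104, 1, 1, 1)] (.node [(162, (-1), 1, 1)] .nil .nil) (.node [(176, (-1), 1, 1)] .nil .nil))) (.node [] (.node [] (.node [(144, 1, 1, 1)] (.node [(197, (-1), 1, 1)] .nil .nil) .nil) .nil) (.node [(117, (-1), 1, 1)] (.node [] (.node [(214, (-1), 1, 1)] .nil .nil) .nil) (.node [(182, (-1), 1, 1)] (.node [(226, (-1), 1, 1)] .nil .nil) .nil)))) (.node [] (.node [] (.node [(99, 1, 1, 1)] (.node [(133,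 (-1), 1, 1)] .nil (.node [(231, (-1), 1, 1)] .nil .nil)) .nil) (.node [] (.node [] (.node [(210, (-1), 1, 1)] .nil .nil) .nil) (.node [(179, (-1), 1, 1)] .nil .nil))) (.node [] (.node [] (.node [] (.node [(203, (-1), 1, 1)] .nil .nil) .nil) .nil) (.node [(123, 1, 1, 1)] (.node [] .nil (.node [(237, 1, 1, 1)] .nil .nil)) .nil)))) (.node [(33, 1, 1, 1)] (.node [(52, 1, 1, 1)] .nil (.node [(88, 1, 1, 1)] (.node [(103, 1, 1, 1)] .nil (.node [(171, 1, 1, 1)] .nil .nil)) (.node [] .nil (.node [(183, 1, 1, 1)] .nil .nil)))) (.node [] (.node [(84, 1, 1, 1)] .nil .nil) (.node [] (.node [] (.node [] .nil (.node [(233, (-1), 1, 1)] .nil .nil)) .nil) (.node [] (.node [(166, 1, 1, 1)] (.node [(218, (-1), 1, 1)] .nil .nil) .nil) (.node [] (.node [(230, (-1), 1, 1)] .nil .nil) .nil)))))))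
def C181 : List (ℕ × List (ℕ × ℤ)) := [(1, [(18, (-1))]), (2, [(19, (-1))]), (6, [(33, 1)]), (8, [(43, 1)]), (9, [(49, 1)]), (10, [(52, 1)]), (13, [(55, 1)]), (21, [(81, 1)]), (22, [(84, 1)]), (25, [(87, 1)]), (26, [(88, 1)]), (29, [(91, 1)]), (32, [(92, 1)]), (36, [(99, 1)]), (39, [(102, 1)]), (42, [(103, 1)]), (48, [(104, 1)]), (56, [(117, (-1))]), (57, [(119, 1)]), (60, [(123, 1)]), (61, [(124, (-1))]), (63, [(127, 1)]), (64, [(128, (-1))]), (67, [(132, 1)]), (68, [(133, (-1))]), (72, [(144, 1)]), (73, [(145, (-1))]), (77, [(159, 1)]), (80, [(162, (-1))]), (94, [(166, 1)]), (95, [(167, (-1))]), (106, [(171, 1)]), (107, [(172, (-1))]), (111, [(175, 1)]), (112, [(176, (-1))]), (115, [(178, 1)]), (116, [(179, (-1))]), (120, [(182, (-1))]), (122, [(183, 1)]), (135, [(191, (-1))]), (136, [(197, (-1))]), (137, [(200, (-1))]), (140, [(203, (-1))]), (147, [(207, (-1))]), (148, [(210, (-1))]), (151, [(213, (-1))]), (152, [(214, (-1))]), (155,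 [(217, (-1))]), (158, [(218, (-1))]), (184, [(226, (-1))]), (187, [(229, (-1))]), (190, [(230, (-1))]), (196, [(231, (-1))]), (206, [(233, (-1))]), (220, [(237, 1)]), (221, [(238, 1)])]
def M182 : Tr (List (ℕ × ℤ × ℕ × ℕ)) := (.node [(18, (-1), 1, 1)] (.node [] (.node [] (.node [] (.node [] (.node [(92, 1, 1, 1)] .nil (.node [(168, (-1), 1, 1)] .nil .nil)) (.node [(104, 1, 1, 1)] (.node [(162, (-1), 1, 1)] .nil .nil) .nil)) (.node [] (.node [] (.node [(144, 1, 1, 1)] (.node [(192, (-1), 1, 1)] .nil .nil) .nil) .nil) (.node [] .nil (.node [(181, (-1), 1, 1)] .nil .nil)))) (.node [] (.node [] (.node [] (.node [] .nil (.node [(231, 1, 1, 1)] .nil .nil)) .nil) (.node [] (.node [] (.node [(208, (-1), 1, 1)] .nil .nil) .nil) .nil)) (.node [] (.node [] (.node [] (.node [(203, 1, 1, 1)] .nil .nil) .nil) (.node [(173, (-1), 1, 1)] .nil .nil)) (.node [(123, 1, 1, 1)] (.node [] .nil (.node [(237, (-1), 1, 1)] .nil .nil)) .nil)))) (.node [] (.node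 [(50, (-1), 1, 1)] .nil (.node [] (.node [(103, 1, 1, 1)] (.node [(146, (-1), 1, 1)] (.node [(201, (-1), 1, 1)] .nil .nil) .nil) (.node [(171, 1, 1, 1)] .nil .nil)) (.node [] .nil (.node [(183, (-1), 1, 1)] .nil .nil)))) (.node [] (.node [(82, (-1), 1, 1)] .nil .nil) (.node [] (.node [] (.node [(160, 1, 1, 1)] .nil (.node [(233, 1, 1, 1)] .nil .nil)) .nil) (.node [(125, (-1), 1, 1)] (.node [(166, 1, 1, 1)] (.node [(218, 1, 1, 1)] .nil .nil) (.node [(239, 1, 1, 1)] .nil .nil)) (.node [] (.node [(230, 1, 1, 1)] .nil .nil) .nil)))))) (.node [(20, 1, 1, 1)] (.node [] (.node [(44, (-1), 1, 1)] (.node [] (.node [] (.node [(129, (-1), 1, 1)] .nil .nil) .nil) (.node [] .nil (.node [(177, (-1), 1, 1)] .nil .nil))) (.node [(87, 1, 1, 1)] (.node [] (.node [] (.node [(198, (-1), 1, 1)] .nil .nil) .nil) .nil) (.node [(118, 1, 1, 1)] (.node [] (.node [(215, (-1), 1, 1)] .nil .nil) .nil) (.node [] (.node [(227, (-1), 1, 1)] .nil .nil) .nil)))) (.node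 [(55, 1, 1, 1)] (.node [] (.node [(100, (-1), 1, 1)] (.node [(134, (-1), 1, 1)] .nil .nil) .nil) (.node [] (.node [] (.node [(211, (-1), 1, 1)] .nil .nil) .nil) (.node [(180, (-1), 1, 1)] .nil .nil))) (.node [(91, 1, 1, 1)] .nil .nil))) (.node [(34, (-1), 1, 1)] (.node [(53, (-1), 1, 1)] (.node [] (.node [] (.node [(132, 1, 1, 1)] .nil .nil) .nil) (.node [] .nil (.node [(178, 1, 1, 1)] .nil .nil))) (.node [(89, (-1), 1, 1)] .nil (.node [(120, 1, 1, 1)] (.node [] (.node [(217, 1, 1, 1)] .nil .nil) .nil) (.node [] (.node [(229, 1, 1, 1)] .nil .nil) .nil)))) (.node [] (.node [(85, (-1), 1, 1)] (.node [(102, 1, 1, 1)] .nil .nil) (.node [] (.node [] (.node [(213, 1, 1, 1)] .nil .nil) .nil) .nil)) (.node [] (.node [] .nil (.node [(175, 1, 1, 1)] .nil .nil)) (.node [(127, 1, 1, 1)] .nil .nil))))))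
def C182 : List (ℕ × List (ℕ × ℤ)) := [(0, [(18, (-1))]), (2, [(20, 1)]), (6, [(34, (-1))]), (8, [(44, (-1))]), (9, [(50, (-1))]), (10, [(53, (-1))]), (12, [(55, 1)]), (21, [(82, (-1))]), (22, [(85, (-1))]), (24, [(87, 1)]), (26, [(89, (-1))]), (28, [(91, 1)]), (31, [(92, 1)]), (36, [(100, (-1))]), (38, [(102, 1)]), (41, [(103, 1)]), (47, [(104, 1)]), (56, [(118, 1)]), (58, [(120, 1)]), (59, [(123, 1)]), (61, [(125, (-1))]), (62, [(127, 1)]), (64, [(129, (-1))]), (66, [(132, 1)]), (68, [(134, (-1))]), (71, [(144, 1)]), (73, [(146, (-1))]), (77, [(160, 1)]), (79, [(162, (-1))]), (93, [(166, 1)]), (95, [(168, (-1))]), (105, [(171, 1)]), (107, [(173, (-1))]), (110, [(175, 1)]), (112, [(177, (-1))]), (114, [(178, 1)]), (116, [(180, (-1))]), (119, [(181, (-1))]), (121, [(183, (-1))]), (135, [(192, (-1))]), (136, [(198, (-1))]), (137, [(201, (-1))]), (139, [(203, 1)]), (147, [(208, (-1))]), (148, [(211, (-1))]), (150, [(213, 1)]), (152, [(215,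 (-1))]), (154, [(217, 1)]), (157, [(218, 1)]), (184, [(227, (-1))]), (186, [(229, 1)]), (189, [(230, 1)]), (195, [(231, 1)]), (205, [(233, 1)]), (219, [(237, (-1))]), (221, [(239, 1)])]
def M183 : Tr (List (ℕ × ℤ × ℕ × ℕ)) := (.node [(19, 1, 1, 1)] (.node [(20, 1, 1, 1)] (.node [] (.node [] (.node [] (.node [] (.node [(129, (-1), 1, 1)] .nil .nil) .nil) (.node [] .nil (.node [(177, (-1), 1, 1)] .nil .nil))) (.node [(87, 1, 1, 1)] (.node [] (.node [(145, 1, 1, 1)] (.node [(193, (-1), 1, 1)] .nil .nil) .nil) .nil) .nil)) (.node [(55, 1, 1, 1)] (.node [] (.node [] (.node [(134, (-1), 1, 1)] .nil .nil) .nil) (.node [] (.node [] (.node [(209, (-1), 1, 1)] .nil .nil) .nil) (.node [(180, (-1), 1, 1)] .nil .nil))) (.node [(91, 1, 1, 1)] .nil (.node [(124, 1, 1, 1)] (.node [] .nil (.node [(238, (-1), 1, 1)] .nil .nil)) .nil)))) (.node [] (.node [(51, 1, 1, 1)] .nil (.node [] (.node [] (.node [] (.node [(202, (-1), 1, 1)] .nil .nil) .nil) (.node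 [(172, 1, 1, 1)] .nil .nil)) (.node [(121, 1, 1, 1)] (.node [] (.node [(217, (-1), 1, 1)] .nil .nil) .nil) (.node [] (.node [(229, (-1), 1, 1)] .nil .nil) .nil)))) (.node [] (.node [(83, 1, 1, 1)] (.node [(102, 1, 1, 1)] .nil .nil) (.node [] (.node [] (.node [(213, (-1), 1, 1)] .nil .nil) .nil) (.node [(181, 1, 1, 1)] .nil .nil))) (.node [] (.node [] (.node [(161, 1, 1, 1)] .nil .nil) .nil) (.node [] (.node [(167, 1, 1, 1)] .nil .nil) .nil))))) (.node [] (.node [] (.node [(45, 1, 1, 1)] .nil (.node [] (.node [(103, 1, 1, 1)] (.node [(146, (-1), 1, 1)] (.node [(199, (-1), 1, 1)] .nil .nil) .nil) .nil) (.node [] (.node [] (.node [(216, (-1), 1, 1)] .nil .nil) .nil) (.node [] (.node [(228, (-1), 1, 1)] .nil .nil) .nil)))) (.node [] (.node [] (.node [(101, 1, 1, 1)] .nil .nil) (.node [] (.node [] (.node [(212, (-1), 1, 1)] .nil .nil) .nil) .nil)) (.node [] (.node [] (.node [] .nil (.node [(233, (-1), 1, 1)] .nil .nil)) .nil) (.node [(125,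 (-1), 1, 1)] (.node [] (.node [(218, (-1), 1, 1)] .nil .nil) (.node [(239, (-1), 1, 1)] .nil .nil)) (.node [] (.node [(230, (-1), 1, 1)] .nil .nil) .nil))))) (.node [(35, 1, 1, 1)] (.node [(54, 1, 1, 1)] (.node [] (.node [] (.node [(133, 1, 1, 1)] .nil (.node [(231, (-1), 1, 1)] .nil .nil)) .nil) (.node [] .nil (.node [(179, 1, 1, 1)] .nil .nil))) (.node [(90, 1, 1, 1)] (.node [] (.node [] (.node [(203, (-1), 1, 1)] .nil .nil) .nil) (.node [(173, (-1), 1, 1)] .nil .nil)) (.node [(122, (-1), 1, 1)] .nil .nil))) (.node [] (.node [(86, 1, 1, 1)] .nil (.node [] .nil (.node [(182, (-1), 1, 1)] .nil .nil))) (.node [(92, 1, 1, 1)] (.node [(104, 1, 1, 1)] (.node [(162, (-1), 1, 1)] .nil .nil) (.node [(176, 1, 1, 1)] .nil .nil)) (.node [(128, 1, 1, 1)] (.node [(168, (-1), 1, 1)] .nil .nil) .nil))))))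
def C183 : List (ℕ × List (ℕ × ℤ)) := [(0, [(19, 1)]), (1, [(20, 1)]), (6, [(35, 1)]), (8, [(45, 1)]), (9, [(51, 1)]), (10, [(54, 1)]), (11, [(55, 1)]), (21, [(83, 1)]), (22, [(86, 1)]), (23, [(87, 1)]), (26, [(90, 1)]), (27, [(91, 1)]), (30, [(92, 1)]), (36, [(101, 1)]), (37, [(102, 1)]), (40, [(103, 1)]), (46, [(104, 1)]), (57, [(121, 1)]), (58, [(122, (-1))]), (59, [(124, 1)]), (60, [(125, (-1))]), (62, [(128, 1)]), (63, [(129, (-1))]), (66, [(133, 1)]), (67, [(134, (-1))]), (71, [(145, 1)]), (72, [(146, (-1))]), (77, [(161, 1)]), (78, [(162, (-1))]), (93, [(167, 1)]), (94, [(168, (-1))]), (105, [(172, 1)]), (106, [(173, (-1))]), (110, [(176, 1)]), (111, [(177, (-1))]), (114, [(179, 1)]), (115, [(180, (-1))]), (117, [(181, 1)]), (118, [(182, (-1))]), (135, [(193, (-1))]), (136, [(199, (-1))]), (137, [(202, (-1))]), (138, [(203, (-1))]), (147, [(209, (-1))]), (148, [(212, (-1))]), (149, [(213, (-1))]), (152, [(216, (-1))]), (153, [(217,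 (-1))]), (156, [(218, (-1))]), (184, [(228, (-1))]), (185, [(229, (-1))]), (188, [(230, (-1))]), (194, [(231, (-1))]), (204, [(233, (-1))]), (219, [(238, (-1))]), (220, [(239, (-1))])]
def M184 : Tr (List (ℕ × ℤ × ℕ × ℕ)) := (.node [] (.node [] (.node [(21, 1, 1, 1)] (.node [(36, 1, 1, 1)] (.node [] (.node [] (.node [] (.node [(188, 1, 1, 1)] .nil .nil) .nil) (.node [] (.node [(219, (-1), 1, 1)] .nil .nil) .nil)) .nil) (.node [] (.node [] .nil (.node [(170, 1, 1, 1)] .nil .nil)) (.node [] (.node [(163, (-1), 1, 1)] .nil .nil) (.node [] (.node [(228, 1, 1, 1)] .nil .nil) .nil)))) (.node [(56, (-1), 1, 1)] (.node [(79, 1, 1, 1)] (.node [(95, (-1), 1, 1)] .nil .nil) (.node [(112, (-1), 1, 1)] .nil .nil)) (.node [] (.node [(105, 1, 1, 1)] (.node [(148, (-1), 1, 1)] .nil (.node [(232, (-1), 1, 1)] .nil .nil)) .nil) (.node [] (.node [(164, 1, 1, 1)] .nil .nil) (.node [(185, (-1), 1, 1)] .nil .nil))))) (.node [(26, 1, 1, 1)] (.node [] (.node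 [] (.node [(93, (-1), 1, 1)] (.node [(135, 1, 1, 1)] (.node [(190, 1, 1, 1)] .nil .nil) .nil) (.node [] (.node [(221, (-1), 1, 1)] .nil .nil) .nil)) (.node [(110, (-1), 1, 1)] (.node [] (.node [(205, 1, 1, 1)] .nil .nil) .nil) .nil)) (.node [] .nil (.node [] (.node [] .nil (.node [(235, (-1), 1, 1)] .nil .nil)) .nil))) (.node [(58, (-1), 1, 1)] (.node [] (.node [] (.node [(136, (-1), 1, 1)] (.node [(195, (-1), 1, 1)] .nil .nil) .nil) .nil) (.node [(115, 1, 1, 1)] (.node [] .nil (.node [(234, (-1), 1, 1)] .nil .nil)) (.node [] (.node [(226, 1, 1, 1)] .nil .nil) .nil))) (.node [] (.node [(107, 1, 1, 1)] .nil .nil) (.node [] .nil (.node [(187, (-1), 1, 1)] .nil .nil)))))) (.node [] (.node [(22, 1, 1, 1)] (.node [] (.node [] (.node [] (.node [] (.node [(189, 1, 1, 1)] .nil .nil) .nil) (.node [] (.node [(220, (-1), 1, 1)] .nil .nil) .nil)) (.node [] (.node [] (.node [(204, 1, 1, 1)] .nil .nil) .nil) .nil)) (.node [] (.node [] .nil (.node [(174,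 (-1), 1, 1)] .nil .nil)) .nil)) (.node [(57, (-1), 1, 1)] (.node [(80, 1, 1, 1)] (.node [] (.node [] (.node [(194, (-1), 1, 1)] .nil .nil) .nil) .nil) (.node [(114, 1, 1, 1)] .nil .nil)) (.node [] (.node [(106, 1, 1, 1)] (.node [(152, 1, 1, 1)] .nil .nil) .nil) (.node [] (.node [(165, (-1), 1, 1)] .nil .nil) (.node [(186, (-1), 1, 1)] .nil .nil))))) (.node [] (.node [] (.node [(78, 1, 1, 1)] (.node [(94, (-1), 1, 1)] .nil .nil) (.node [(111, (-1), 1, 1)] (.node [] (.node [(206, 1, 1, 1)] .nil .nil) .nil) .nil)) (.node [] (.node [] (.node [(147, 1, 1, 1)] .nil .nil) .nil) (.node [] (.node [] .nil (.node [(236, (-1), 1, 1)] .nil .nil)) .nil))) (.node [] (.node [] (.node [] (.node [(137, 1, 1, 1)] (.node [(196, (-1), 1, 1)] .nil .nil) .nil) (.node [(169, (-1), 1, 1)] .nil .nil)) (.node [(116, 1, 1, 1)] .nil (.node [] (.node [(227, 1, 1, 1)] .nil .nil) .nil))) .nil))))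
def C184 : List (ℕ × List (ℕ × ℤ)) := [(3, [(21, 1)]), (4, [(22, 1)]), (5, [(26, 1)]), (7, [(36, 1)]), (11, [(56, (-1))]), (12, [(57, (-1))]), (13, [(58, (-1))]), (18, [(78, 1)]), (19, [(79, 1)]), (20, [(80, 1)]), (33, [(93, (-1))]), (34, [(94, (-1))]), (35, [(95, (-1))]), (43, [(105, 1)]), (44, [(106, 1)]), (45, [(107, 1)]), (49, [(110, (-1))]), (50, [(111, (-1))]), (51, [(112, (-1))]), (52, [(114, 1)]), (53, [(115, 1)]), (54, [(116, 1)]), (65, [(135, 1)]), (69, [(136, (-1))]), (70, [(137, 1)]), (74, [(147, 1)]), (75, [(148, (-1))]), (76, [(152, 1)]), (87, [(163, (-1))]), (91, [(164, 1)]), (92, [(165, (-1))]), (102, [(169, (-1))]), (103, [(170, 1)]), (104, [(174, (-1))]), (123, [(185, (-1))]), (124, [(186, (-1))]), (125, [(187, (-1))]), (127, [(188, 1)]), (128, [(189, 1)]), (129, [(190, 1)]), (132, [(194, (-1))]), (133, [(195, (-1))]), (134, [(196, (-1))]), (144, [(204, 1)]), (145, [(205, 1)]), (146, [(206, 1)]), (159, [(219, (-1))]),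 (160, [(220, (-1))]), (161, [(221, (-1))]), (181, [(226, 1)]), (182, [(227, 1)]), (183, [(228, 1)]), (203, [(232, (-1))]), (213, [(234, (-1))]), (217, [(235, (-1))]), (218, [(236, (-1))])]
def M185 : Tr (List (ℕ × ℤ × ℕ × ℕ)) := (.node [] (.node [] (.node [] (.node [(37, (-1), 1, 1)] (.node [] (.node [(93, (-1), 1, 1)] .nil .nil) (.node [(110, (-1), 1, 1)] (.node [] (.node [(204, (-1), 1, 1)] .nil .nil) .nil) .nil)) (.node [] (.node [] .nil (.node [(171, 1, 1, 1)] .nil .nil)) (.node [(123, 1, 1, 1)] .nil (.node [] (.node [(229, 1, 1, 1)] .nil .nil) .nil)))) (.node [] (.node [(81, (-1), 1, 1)] (.node [(96, 1, 1, 1)] (.node [] (.node [(194, 1, 1, 1)] .nil .nil) .nil) .nil) (.node [(113, 1, 1, 1)] .nil (.node [] (.node [(226, (-1), 1, 1)] .nil .nil) .nil))) (.node [] (.node [] (.node [(149, (-1), 1, 1)] .nil .nil) .nil) .nil))) (.node [(27, (-1), 1, 1)] (.node [] (.node [(78, 1, 1, 1)] (.node [] (.node [] (.node [(192, 1, 1, 1)] .nil .nil)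 .nil) (.node [] (.node [(222, (-1), 1, 1)] .nil .nil) .nil)) (.node [] (.node [] (.node [(207, 1, 1, 1)] .nil .nil) .nil) .nil)) (.node [] (.node [(105, 1, 1, 1)] (.node [(147, 1, 1, 1)] .nil .nil) .nil) (.node [] .nil (.node [(186, (-1), 1, 1)] .nil .nil)))) (.node [(60, 1, 1, 1)] (.node [] (.node [] (.node [] (.node [(197, (-1), 1, 1)] .nil .nil) .nil) (.node [(169, (-1), 1, 1)] .nil .nil)) (.node [(118, 1, 1, 1)] .nil .nil)) (.node [] (.node [(108, (-1), 1, 1)] .nil .nil) (.node [] (.node [] (.node [(219, 1, 1, 1)] .nil .nil) .nil) .nil))))) (.node [(21, 1, 1, 1)] (.node [(23, (-1), 1, 1)] (.node [] (.node [] (.node [(94, (-1), 1, 1)] (.node [(135, 1, 1, 1)] (.node [(191, 1, 1, 1)] .nil .nil) .nil) .nil) (.node [(111, (-1), 1, 1)] .nil .nil)) (.node [] (.node [] .nil (.node [(175, (-1), 1, 1)] .nil .nil)) (.node [] (.node [] .nil (.node [(235, 1, 1, 1)] .nil .nil)) .nil))) (.node [(59, 1, 1, 1)] (.node [(82, (-1), 1, 1)] (.node []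 (.node [(136, (-1), 1, 1)] .nil .nil) .nil) (.node [(117, 1, 1, 1)] (.node [] .nil (.node [(234, 1, 1, 1)] .nil .nil)) (.node [(184, (-1), 1, 1)] (.node [(227, (-1), 1, 1)] .nil .nil) .nil))) (.node [] (.node [] (.node [(153, 1, 1, 1)] .nil .nil) .nil) (.node [] (.node [(166, (-1), 1, 1)] .nil .nil) .nil)))) (.node [] (.node [(56, (-1), 1, 1)] (.node [] .nil (.node [] (.node [] (.node [(208, 1, 1, 1)] .nil .nil) .nil) .nil)) (.node [] (.node [(106, 1, 1, 1)] (.node [] .nil (.node [(232, 1, 1, 1)] .nil .nil)) .nil) (.node [] (.node [(164, 1, 1, 1)] .nil (.node [(237, (-1), 1, 1)] .nil .nil)) (.node [(187, (-1), 1, 1)] .nil .nil)))) (.node [] (.node [] (.node [] (.node [(138, 1, 1, 1)] (.node [(198, (-1), 1, 1)] .nil .nil) .nil) .nil) (.node [] (.node [(163, (-1), 1, 1)] .nil .nil) .nil)) (.node [] .nil (.node [] (.node [] (.node [(220, 1, 1, 1)] .nil .nil) .nil) (.node [(188, (-1), 1, 1)] .nil .nil)))))))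
def C185 : List (ℕ × List (ℕ × ℤ)) := [(2, [(21, 1)]), (4, [(23, (-1))]), (5, [(27, (-1))]), (7, [(37, (-1))]), (10, [(56, (-1))]), (12, [(59, 1)]), (13, [(60, 1)]), (17, [(78, 1)]), (19, [(81, (-1))]), (20, [(82, (-1))]), (31, [(93, (-1))]), (32, [(94, (-1))]), (35, [(96, 1)]), (41, [(105, 1)]), (42, [(106, 1)]), (45, [(108, (-1))]), (47, [(110, (-1))]), (48, [(111, (-1))]), (51, [(113, 1)]), (52, [(117, 1)]), (53, [(118, 1)]), (55, [(123, 1)]), (64, [(135, 1)]), (68, [(136, (-1))]), (70, [(138, 1)]), (73, [(147, 1)]), (75, [(149, (-1))]), (76, [(153, 1)]), (86, [(163, (-1))]), (90, [(164, 1)]), (92, [(166, (-1))]), (101, [(169, (-1))]), (103, [(171, 1)]), (104, [(175, (-1))]), (116, [(184, (-1))]), (121, [(186, (-1))]), (122, [(187, (-1))]), (126, [(188, (-1))]), (128, [(191, 1)]), (129, [(192, 1)]), (131, [(194, 1)]), (133, [(197, (-1))]), (134, [(198, (-1))]), (143, [(204, (-1))]), (145, [(207, 1)]), (146, [(208, 1)]), (157, [(219,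 1)]), (158, [(220, 1)]), (161, [(222, (-1))]), (179, [(226, (-1))]), (180, [(227, (-1))]), (183, [(229, 1)]), (202, [(232, 1)]), (212, [(234, 1)]), (216, [(235, 1)]), (218, [(237, (-1))])]
def M186 : Tr (List (ℕ × ℤ × ℕ × ℕ)) := (.node [] (.node [(21, 1, 1, 1)] (.node [] (.node [(38, 1, 1, 1)] (.node [] (.node [] (.node [(135, 1, 1, 1)] (.node [(191, (-1), 1, 1)] .nil .nil) .nil) .nil) (.node [] (.node [] (.node [(205, (-1), 1, 1)] .nil .nil) .nil) .nil)) (.node [] (.node [] .nil (.node [(172, 1, 1, 1)] .nil .nil)) (.node [(124, 1, 1, 1)] (.node [] .nil (.node [(235, (-1), 1, 1)] .nil .nil)) .nil))) (.node [(59, 1, 1, 1)] (.node [] (.node [] (.node [(136, (-1), 1, 1)] (.node [(195, 1, 1, 1)] .nil .nil) .nil) .nil) (.node [] (.node [] .nil (.node [(234, (-1), 1, 1)] .nil .nil)) (.node [(184, (-1), 1, 1)] .nil .nil))) (.node [] (.node [] (.node [(150, (-1), 1, 1)] .nil .nil) .nil) .nil))) (.node [(28, 1, 1, 1)] (.node [] (.node [(79, (-1),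 1, 1)] (.node [] (.node [] (.node [(193, 1, 1, 1)] .nil .nil) .nil) .nil) .nil) (.node [] (.node [] (.node [] .nil (.node [(232, (-1), 1, 1)] .nil .nil)) .nil) (.node [] (.node [(164, 1, 1, 1)] .nil .nil) .nil))) (.node [(61, (-1), 1, 1)] (.node [] .nil (.node [] (.node [(163, (-1), 1, 1)] .nil .nil) .nil)) .nil))) (.node [] (.node [(24, 1, 1, 1)] (.node [] (.node [] (.node [(95, 1, 1, 1)] .nil (.node [] (.node [(222, 1, 1, 1)] .nil .nil) .nil)) (.node [(112, 1, 1, 1)] (.node [] (.node [(207, (-1), 1, 1)] .nil .nil) .nil) .nil)) (.node [] (.node [(105, 1, 1, 1)] (.node [(147, 1, 1, 1)] .nil .nil) (.node [(176, (-1), 1, 1)] .nil .nil)) (.node [] .nil (.node [(187, (-1), 1, 1)] .nil .nil)))) (.node [] (.node [(83, 1, 1, 1)] (.node [] (.node [] (.node [(197, 1, 1, 1)] .nil .nil) .nil) (.node [(169, (-1), 1, 1)] .nil .nil)) (.node [(119, 1, 1, 1)] .nil (.node [] (.node [(228, (-1), 1, 1)] .nil .nil) .nil))) (.node [] (.node [(108, (-1), 1,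 1)] (.node [(154, 1, 1, 1)] .nil .nil) .nil) (.node [] (.node [(167, (-1), 1, 1)] (.node [(219, (-1), 1, 1)] .nil .nil) .nil) .nil)))) (.node [] (.node [(57, 1, 1, 1)] (.node [(81, (-1), 1, 1)] (.node [(96, 1, 1, 1)] .nil .nil) (.node [(113, 1, 1, 1)] (.node [] (.node [(209, 1, 1, 1)] .nil .nil) .nil) (.node [] (.node [(226, 1, 1, 1)] .nil .nil) .nil))) (.node [] (.node [(107, (-1), 1, 1)] .nil .nil) (.node [] (.node [] .nil (.node [(238, (-1), 1, 1)] .nil .nil)) .nil))) (.node [] (.node [] (.node [] (.node [(139, 1, 1, 1)] (.node [(199, (-1), 1, 1)] .nil .nil) .nil) .nil) (.node [(121, 1, 1, 1)] .nil (.node [(185, (-1), 1, 1)] (.node [(229, (-1), 1, 1)] .nil .nil) .nil))) (.node [(93, (-1), 1, 1)] (.node [(110, (-1), 1, 1)] .nil .nil) (.node [] (.node [] (.node [(221, 1, 1, 1)] .nil .nil) .nil) (.node [(189, (-1), 1, 1)] .nil .nil)))))))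
def C186 : List (ℕ × List (ℕ × ℤ)) := [(1, [(21, 1)]), (4, [(24, 1)]), (5, [(28, 1)]), (7, [(38, 1)]), (10, [(57, 1)]), (11, [(59, 1)]), (13, [(61, (-1))]), (17, [(79, (-1))]), (18, [(81, (-1))]), (20, [(83, 1)]), (30, [(93, (-1))]), (32, [(95, 1)]), (34, [(96, 1)]), (40, [(105, 1)]), (42, [(107, (-1))]), (44, [(108, (-1))]), (46, [(110, (-1))]), (48, [(112, 1)]), (50, [(113, 1)]), (52, [(119, 1)]), (54, [(121, 1)]), (55, [(124, 1)]), (63, [(135, 1)]), (67, [(136, (-1))]), (70, [(139, 1)]), (72, [(147, 1)]), (75, [(150, (-1))]), (76, [(154, 1)]), (85, [(163, (-1))]), (89, [(164, 1)]), (92, [(167, (-1))]), (100, [(169, (-1))]), (103, [(172, 1)]), (104, [(176, (-1))]), (115, [(184, (-1))]), (118, [(185, (-1))]), (120, [(187, (-1))]), (126, [(189, (-1))]), (127, [(191, (-1))]), (129, [(193, 1)]), (131, [(195, 1)]), (132, [(197, 1)]), (134, [(199, (-1))]), (143, [(205, (-1))]), (144, [(207, (-1))]), (146, [(209, 1)]), (156, [(219, (-1))]),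 (158, [(221, 1)]), (160, [(222, 1)]), (178, [(226, 1)]), (180, [(228, (-1))]), (182, [(229, (-1))]), (201, [(232, (-1))]), (211, [(234, (-1))]), (215, [(235, (-1))]), (218, [(238, (-1))])]
def M187 : Tr (List (ℕ × ℤ × ℕ × ℕ)) := (.node [(21, 1, 1, 1)] (.node [] (.node [] (.node [(39, (-1), 1, 1)] (.node [] (.node [(95, 1, 1, 1)] (.node [] (.node [(192, (-1), 1, 1)] .nil .nil) .nil) (.node [] (.node [(222, (-1), 1, 1)] .nil .nil) .nil)) (.node [(112, 1, 1, 1)] (.node [] (.node [(206, (-1), 1, 1)] .nil .nil) .nil) .nil)) (.node [] (.node [] (.node [(147, 1, 1, 1)] .nil .nil) (.node [(173, 1, 1, 1)] .nil .nil)) (.node [(125, 1, 1, 1)] .nil (.node [(186, (-1), 1, 1)] .nil .nil)))) (.node [(60, (-1), 1, 1)] (.node [(83, 1, 1, 1)] (.node [] (.node [] (.node [(196, 1, 1, 1)] .nil .nil) .nil) (.node [(169, (-1), 1, 1)] .nil .nil)) (.node [] .nil (.node [] (.node [(228, 1, 1, 1)] .nil .nil) .nil))) (.node [] (.node [(108, (-1), 1, 1)] (.node [(151,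 (-1), 1, 1)] .nil .nil) .nil) .nil))) (.node [(29, (-1), 1, 1)] (.node [] (.node [(80, 1, 1, 1)] (.node [(96, 1, 1, 1)] .nil .nil) (.node [(113, 1, 1, 1)] (.node [] (.node [(209, (-1), 1, 1)] .nil .nil) .nil) .nil)) (.node [] (.node [(107, (-1), 1, 1)] .nil .nil) .nil)) (.node [] (.node [] (.node [] (.node [] (.node [(199, 1, 1, 1)] .nil .nil) .nil) .nil) (.node [(120, 1, 1, 1)] .nil (.node [(185, (-1), 1, 1)] (.node [(229, 1, 1, 1)] .nil .nil) .nil))) (.node [] .nil (.node [] (.node [] (.node [(221, (-1), 1, 1)] .nil .nil) .nil) .nil))))) (.node [] (.node [(25, (-1), 1, 1)] (.node [] (.node [] (.node [] (.node [] (.node [(193, (-1), 1, 1)] .nil .nil) .nil) .nil) (.node [] (.node [] (.node [(208, (-1), 1, 1)] .nil .nil) .nil) .nil)) (.node [] (.node [(106, (-1), 1, 1)] (.node [] .nil (.node [(232, 1, 1, 1)] .nil .nil)) (.node [(177, (-1), 1, 1)] .nil .nil)) (.node [] (.node [(164, 1, 1, 1)] .nil .nil) .nil))) (.node [(61, (-1), 1, 1)]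 (.node [] (.node [] (.node [] (.node [(198, 1, 1, 1)] .nil .nil) .nil) .nil) (.node [] (.node [(163, (-1), 1, 1)] .nil .nil) .nil)) (.node [] (.node [] (.node [(155, 1, 1, 1)] .nil .nil) .nil) (.node [] (.node [(168, (-1), 1, 1)] (.node [(220, (-1), 1, 1)] .nil .nil) .nil) .nil)))) (.node [] (.node [(58, (-1), 1, 1)] (.node [(82, 1, 1, 1)] (.node [] (.node [(136, (-1), 1, 1)] .nil .nil) .nil) (.node [] (.node [] .nil (.node [(234, 1, 1, 1)] .nil .nil)) (.node [(184, (-1), 1, 1)] (.node [(227, 1, 1, 1)] .nil .nil) .nil))) (.node [] .nil (.node [] (.node [] .nil (.node [(239, (-1), 1, 1)] .nil .nil)) .nil))) (.node [] (.node [] (.node [] (.node [(140, 1, 1, 1)] .nil .nil) .nil) (.node [(122, 1, 1, 1)] (.node [] .nil (.node [(235, 1, 1, 1)] .nil .nil)) .nil)) (.node [(94, 1, 1, 1)] (.node [(111, 1, 1, 1)] .nil .nil) (.node [(135, 1, 1, 1)] .nil (.node [(190, (-1), 1, 1)] .nil .nil)))))))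
def C187 : List (ℕ × List (ℕ × ℤ)) := [(0, [(21, 1)]), (4, [(25, (-1))]), (5, [(29, (-1))]), (7, [(39, (-1))]), (10, [(58, (-1))]), (11, [(60, (-1))]), (12, [(61, (-1))]), (17, [(80, 1)]), (18, [(82, 1)]), (19, [(83, 1)]), (30, [(94, 1)]), (31, [(95, 1)]), (33, [(96, 1)]), (40, [(106, (-1))]), (41, [(107, (-1))]), (43, [(108, (-1))]), (46, [(111, 1)]), (47, [(112, 1)]), (49, [(113, 1)]), (53, [(120, 1)]), (54, [(122, 1)]), (55, [(125, 1)]), (62, [(135, 1)]), (66, [(136, (-1))]), (70, [(140, 1)]), (71, [(147, 1)]), (75, [(151, (-1))]), (76, [(155, 1)]), (84, [(163, (-1))]), (88, [(164, 1)]), (92, [(168, (-1))]), (99, [(169, (-1))]), (103, [(173, 1)]), (104, [(177, (-1))]), (114, [(184, (-1))]), (117, [(185, (-1))]), (119, [(186, (-1))]), (126, [(190, (-1))]), (127, [(192, (-1))]), (128, [(193, (-1))]), (131, [(196, 1)]), (132, [(198, 1)]), (133, [(199, 1)]), (143, [(206, (-1))]), (144, [(208, (-1))]), (145, [(209, (-1))]), (156, [(220,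 (-1))]), (157, [(221, (-1))]), (159, [(222, (-1))]), (178, [(227, 1)]), (179, [(228, 1)]), (181, [(229, 1)]), (200, [(232, 1)]), (210, [(234, 1)]), (214, [(235, 1)]), (218, [(239, (-1))])]
def M188 : Tr (List (ℕ × ℤ × ℕ × ℕ)) := (.node [] (.node [] (.node [(23, (-1), 1, 1)] (.node [(40, 1, 1, 1)] (.node [] .nil (.node [(114, (-1), 1, 1)] .nil .nil)) (.node [] (.node [(106, 1, 1, 1)] (.node [] .nil (.node [(232, (-1), 1, 1)] .nil .nil)) .nil) (.node [(127, (-1), 1, 1)] .nil (.node [] (.node [(230, 1, 1, 1)] .nil .nil) .nil)))) (.node [] (.node [(84, 1, 1, 1)] (.node [(97, (-1), 1, 1)] .nil .nil) (.node [] (.node [(163, (-1), 1, 1)] .nil .nil) .nil)) (.node [] .nil (.node [] (.node [(166, (-1), 1, 1)] (.node [(220, (-1), 1, 1)] .nil .nil) .nil) .nil)))) (.node [(30, 1, 1, 1)] (.node [(56, (-1), 1, 1)] (.node [] (.node [] .nil (.node [] (.node [(223, (-1), 1, 1)] .nil .nil) .nil)) (.node [(117, 1, 1, 1)] (.node [] (.node [(210, 1, 1, 1)]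 .nil .nil) (.node [(234, (-1), 1, 1)] .nil .nil)) (.node [(185, (-1), 1, 1)] (.node [(227, 1, 1, 1)] .nil .nil) .nil))) (.node [] (.node [] (.node [(148, 1, 1, 1)] .nil .nil) .nil) (.node [] (.node [] .nil (.node [(237, 1, 1, 1)] .nil .nil)) (.node [(189, (-1), 1, 1)] .nil .nil)))) (.node [(63, (-1), 1, 1)] (.node [] (.node [] (.node [(138, 1, 1, 1)] (.node [(200, (-1), 1, 1)] .nil .nil) .nil) (.node [(170, (-1), 1, 1)] .nil .nil)) .nil) (.node [(94, (-1), 1, 1)] (.node [(109, 1, 1, 1)] .nil .nil) (.node [(135, 1, 1, 1)] .nil (.node [(192, 1, 1, 1)] .nil .nil)))))) (.node [(22, (-1), 1, 1)] (.node [] (.node [] (.node [(78, 1, 1, 1)] .nil (.node [(115, (-1), 1, 1)] .nil (.node [(184, 1, 1, 1)] (.node [(226, 1, 1, 1)] .nil .nil) .nil))) (.node [] (.node [] .nil (.node [(178, (-1), 1, 1)] .nil .nil)) (.node [] (.node [] .nil (.node [(236, 1, 1, 1)] .nil .nil)) .nil))) (.node [(62, (-1), 1, 1)] (.node [(85, 1, 1, 1)] (.node [] (.node [(137,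 (-1), 1, 1)] .nil .nil) .nil) .nil) (.node [(93, (-1), 1, 1)] (.node [] (.node [(156, 1, 1, 1)] .nil .nil) .nil) (.node [] .nil (.node [(191, 1, 1, 1)] .nil .nil))))) (.node [] (.node [] (.node [] (.node [] (.node [] (.node [(194, (-1), 1, 1)] .nil .nil) .nil) .nil) (.node [(118, 1, 1, 1)] (.node [] (.node [(211, 1, 1, 1)] .nil .nil) .nil) .nil)) (.node [] (.node [] (.node [(149, (-1), 1, 1)] .nil .nil) .nil) (.node [] (.node [(165, 1, 1, 1)] (.node [(219, (-1), 1, 1)] .nil .nil) .nil) (.node [(190, (-1), 1, 1)] .nil .nil)))) (.node [] (.node [] (.node [(105, 1, 1, 1)] (.node [] (.node [(201, (-1), 1, 1)] .nil .nil) .nil) (.node [(171, 1, 1, 1)] .nil .nil)) (.node [(126, 1, 1, 1)] .nil .nil)) (.node [] (.node [] (.node [] (.node [(204, 1, 1, 1)] .nil .nil) .nil) .nil) .nil)))))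
def C188 : List (ℕ × List (ℕ × ℤ)) := [(2, [(22, (-1))]), (3, [(23, (-1))]), (5, [(30, 1)]), (7, [(40, 1)]), (9, [(56, (-1))]), (12, [(62, (-1))]), (13, [(63, (-1))]), (16, [(78, 1)]), (19, [(84, 1)]), (20, [(85, 1)]), (28, [(93, (-1))]), (29, [(94, (-1))]), (35, [(97, (-1))]), (38, [(105, 1)]), (39, [(106, 1)]), (45, [(109, 1)]), (47, [(114, (-1))]), (48, [(115, (-1))]), (49, [(117, 1)]), (50, [(118, 1)]), (54, [(126, 1)]), (55, [(127, (-1))]), (61, [(135, 1)]), (68, [(137, (-1))]), (69, [(138, 1)]), (73, [(148, 1)]), (74, [(149, (-1))]), (76, [(156, 1)]), (83, [(163, (-1))]), (90, [(165, 1)]), (91, [(166, (-1))]), (101, [(170, (-1))]), (102, [(171, 1)]), (104, [(178, (-1))]), (112, [(184, 1)]), (113, [(185, (-1))]), (121, [(189, (-1))]), (122, [(190, (-1))]), (124, [(191, 1)]), (125, [(192, 1)]), (130, [(194, (-1))]), (133, [(200, (-1))]), (134, [(201, (-1))]), (142, [(204, 1)]), (145, [(210, 1)]), (146, [(211, 1)]), (154, [(219, (-1))]),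 (155, [(220, (-1))]), (161, [(223, (-1))]), (176, [(226, 1)]), (177, [(227, 1)]), (183, [(230, 1)]), (199, [(232, (-1))]), (209, [(234, (-1))]), (216, [(236, 1)]), (217, [(237, 1)])]
def M189 : Tr (List (ℕ × ℤ × ℕ × ℕ)) := (.node [] (.node [(22, (-1), 1, 1)] (.node [(24, 1, 1, 1)] (.node [(41, (-1), 1, 1)] (.node [] .nil (.node [] .nil (.node [(184, 1, 1, 1)] (.node [(226, (-1), 1, 1)] .nil .nil) .nil))) (.node [] (.node [(107, (-1), 1, 1)] .nil .nil) (.node [(128, (-1), 1, 1)] (.node [] .nil (.node [(236, (-1), 1, 1)] .nil .nil)) .nil))) (.node [(62, (-1), 1, 1)] (.node [] (.node [] (.node [(137, (-1), 1, 1)] .nil .nil) .nil) (.node [(121, 1, 1, 1)] .nil .nil)) (.node [(93, (-1), 1, 1)] .nil (.node [] (.node [(167, (-1), 1, 1)] (.node [(221, (-1), 1, 1)] .nil .nil) .nil) (.node [(191, (-1), 1, 1)] .nil .nil))))) (.node [(31, (-1), 1, 1)] (.node [(57, 1, 1, 1)] (.node [] .nil (.node [(119, 1, 1, 1)] .nil (.node [(186, (-1), 1, 1)] (.node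 [(228, 1, 1, 1)] .nil .nil) .nil))) (.node [] .nil (.node [] (.node [(165, 1, 1, 1)] (.node [(219, 1, 1, 1)] .nil .nil) (.node [(238, 1, 1, 1)] .nil .nil)) .nil))) (.node [(64, 1, 1, 1)] (.node [] (.node [(105, 1, 1, 1)] (.node [(139, 1, 1, 1)] .nil .nil) .nil) (.node [(126, 1, 1, 1)] .nil .nil)) (.node [(95, 1, 1, 1)] .nil (.node [] .nil (.node [(193, 1, 1, 1)] .nil .nil)))))) (.node [] (.node [] (.node [] (.node [(79, (-1), 1, 1)] (.node [] .nil (.node [] (.node [(223, 1, 1, 1)] .nil .nil) .nil)) (.node [(116, 1, 1, 1)] (.node [] (.node [(210, (-1), 1, 1)] .nil .nil) (.node [(234, 1, 1, 1)] .nil .nil)) .nil)) (.node [] (.node [] (.node [(148, 1, 1, 1)] .nil .nil) (.node [(179, (-1), 1, 1)] .nil .nil)) (.node [] .nil (.node [(190, (-1), 1, 1)] .nil .nil)))) (.node [] (.node [(86, (-1), 1, 1)] (.node [] (.node [] (.node [(200, 1, 1, 1)] .nil .nil) .nil) (.node [(170, (-1), 1, 1)] .nil .nil)) .nil) (.node [] (.node [(109, 1, 1, 1)] (.node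 [(157, 1, 1, 1)] .nil .nil) .nil) (.node [(135, 1, 1, 1)] .nil .nil)))) (.node [] (.node [] (.node [(84, 1, 1, 1)] (.node [(97, (-1), 1, 1)] (.node [] (.node [(195, (-1), 1, 1)] .nil .nil) .nil) .nil) (.node [] (.node [(163, (-1), 1, 1)] (.node [(212, 1, 1, 1)] .nil .nil) .nil) .nil)) (.node [] (.node [] (.node [(150, (-1), 1, 1)] .nil .nil) .nil) .nil)) (.node [] (.node [] (.node [] (.node [] (.node [(202, (-1), 1, 1)] .nil .nil) (.node [(232, 1, 1, 1)] .nil .nil)) (.node [(172, 1, 1, 1)] .nil .nil)) (.node [] .nil (.node [(188, (-1), 1, 1)] (.node [(230, (-1), 1, 1)] .nil .nil) .nil))) (.node [] (.node [(114, (-1), 1, 1)] (.node [] (.node [(205, 1, 1, 1)] .nil .nil) .nil) .nil) .nil)))))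
def C189 : List (ℕ × List (ℕ × ℤ)) := [(1, [(22, (-1))]), (3, [(24, 1)]), (5, [(31, (-1))]), (7, [(41, (-1))]), (9, [(57, 1)]), (11, [(62, (-1))]), (13, [(64, 1)]), (16, [(79, (-1))]), (18, [(84, 1)]), (20, [(86, (-1))]), (27, [(93, (-1))]), (29, [(95, 1)]), (34, [(97, (-1))]), (37, [(105, 1)]), (39, [(107, (-1))]), (44, [(109, 1)]), (46, [(114, (-1))]), (48, [(116, 1)]), (49, [(119, 1)]), (51, [(121, 1)]), (53, [(126, 1)]), (55, [(128, (-1))]), (60, [(135, 1)]), (67, [(137, (-1))]), (69, [(139, 1)]), (72, [(148, 1)]), (74, [(150, (-1))]), (76, [(157, 1)]), (82, [(163, (-1))]), (89, [(165, 1)]), (91, [(167, (-1))]), (100, [(170, (-1))]), (102, [(172, 1)]), (104, [(179, (-1))]), (111, [(184, 1)]), (113, [(186, (-1))]), (118, [(188, (-1))]), (120, [(190, (-1))]), (123, [(191, (-1))]), (125, [(193, 1)]), (130, [(195, (-1))]), (132, [(200, 1)]), (134, [(202, (-1))]), (142, [(205, 1)]), (144, [(210, (-1))]), (146, [(212, 1)]), (153, [(219,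 1)]), (155, [(221, (-1))]), (160, [(223, 1)]), (175, [(226, (-1))]), (177, [(228, 1)]), (182, [(230, (-1))]), (198, [(232, 1)]), (208, [(234, 1)]), (215, [(236, (-1))]), (217, [(238, 1)])]
def M190 : Tr (List (ℕ × ℤ × ℕ × ℕ)) := (.node [(22, (-1), 1, 1)] (.node [] (.node [(25, (-1), 1, 1)] (.node [(42, 1, 1, 1)] (.node [] (.node [] .nil (.node [] (.node [(223, (-1), 1, 1)] .nil .nil) .nil)) (.node [(116, 1, 1, 1)] (.node [] .nil (.node [(234, (-1), 1, 1)] .nil .nil)) (.node [] (.node [(227, (-1), 1, 1)] .nil .nil) .nil))) (.node [] (.node [] (.node [(148, 1, 1, 1)] .nil .nil) .nil) (.node [(129, (-1), 1, 1)] .nil (.node [(189, (-1), 1, 1)] .nil .nil)))) (.node [(63, 1, 1, 1)] (.node [(86, (-1), 1, 1)] (.node [] .nil (.node [(170, (-1), 1, 1)] .nil .nil)) (.node [(122, 1, 1, 1)] .nil .nil)) (.node [(94, 1, 1, 1)] (.node [(109, 1, 1, 1)] .nil .nil) (.node [(135, 1, 1, 1)] (.node [(168, (-1), 1, 1)] .nil .nil) (.node [(192, (-1), 1, 1)]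 .nil .nil))))) (.node [(32, 1, 1, 1)] (.node [(58, (-1), 1, 1)] (.node [] (.node [(97, (-1), 1, 1)] .nil .nil) (.node [] (.node [(163, (-1), 1, 1)] (.node [(212, (-1), 1, 1)] .nil .nil) .nil) (.node [(187, (-1), 1, 1)] .nil .nil))) (.node [] .nil (.node [] (.node [] (.node [(220, 1, 1, 1)] .nil .nil) (.node [(239, 1, 1, 1)] .nil .nil)) .nil))) (.node [] (.node [] (.node [(106, (-1), 1, 1)] (.node [(140, 1, 1, 1)] (.node [(202, 1, 1, 1)] .nil .nil) (.node [(232, (-1), 1, 1)] .nil .nil)) .nil) (.node [] .nil (.node [(188, (-1), 1, 1)] (.node [(230, 1, 1, 1)] .nil .nil) .nil))) .nil))) (.node [] (.node [] (.node [] (.node [(80, 1, 1, 1)] .nil (.node [] (.node [] (.node [(211, (-1), 1, 1)] .nil .nil) .nil) (.node [] (.node [(228, (-1), 1, 1)] .nil .nil) .nil))) (.node [] (.node [] .nil (.node [(180, (-1), 1, 1)] .nil .nil)) (.node [] (.node [(165, 1, 1, 1)] .nil .nil) .nil))) (.node [(64, 1, 1, 1)] (.node [] (.node [] (.node [] (.node [(201,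 1, 1, 1)] .nil .nil) .nil) .nil) (.node [(126, 1, 1, 1)] .nil .nil)) (.node [(95, 1, 1, 1)] (.node [] (.node [(158, 1, 1, 1)] .nil .nil) .nil) (.node [] .nil (.node [(193, (-1), 1, 1)] .nil .nil))))) (.node [] (.node [] (.node [(85, (-1), 1, 1)] (.node [] (.node [(137, (-1), 1, 1)] (.node [(196, (-1), 1, 1)] .nil .nil) .nil) .nil) (.node [(120, 1, 1, 1)] .nil .nil)) (.node [] (.node [] (.node [(151, (-1), 1, 1)] .nil .nil) .nil) (.node [] (.node [] (.node [(221, 1, 1, 1)] .nil .nil) .nil) .nil))) (.node [] (.node [] (.node [(107, (-1), 1, 1)] .nil (.node [(173, 1, 1, 1)] .nil .nil)) (.node [] (.node [] .nil (.node [(236, 1, 1, 1)] .nil .nil)) .nil)) (.node [] (.node [(115, 1, 1, 1)] (.node [] (.node [(206, 1, 1, 1)] .nil .nil) .nil) (.node [(184, 1, 1, 1)] .nil .nil)) .nil)))))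
def C190 : List (ℕ × List (ℕ × ℤ)) := [(0, [(22, (-1))]), (3, [(25, (-1))]), (5, [(32, 1)]), (7, [(42, 1)]), (9, [(58, (-1))]), (11, [(63, 1)]), (12, [(64, 1)]), (16, [(80, 1)]), (18, [(85, (-1))]), (19, [(86, (-1))]), (27, [(94, 1)]), (28, [(95, 1)]), (33, [(97, (-1))]), (37, [(106, (-1))]), (38, [(107, (-1))]), (43, [(109, 1)]), (46, [(115, 1)]), (47, [(116, 1)]), (50, [(120, 1)]), (51, [(122, 1)]), (52, [(126, 1)]), (55, [(129, (-1))]), (59, [(135, 1)]), (66, [(137, (-1))]), (69, [(140, 1)]), (71, [(148, 1)]), (74, [(151, (-1))]), (76, [(158, 1)]), (81, [(163, (-1))]), (88, [(165, 1)]), (91, [(168, (-1))]), (99, [(170, (-1))]), (102, [(173, 1)]), (104, [(180, (-1))]), (110, [(184, 1)]), (113, [(187, (-1))]), (117, [(188, (-1))]), (119, [(189, (-1))]), (123, [(192, (-1))]), (124, [(193, (-1))]), (130, [(196, (-1))]), (132, [(201, 1)]), (133, [(202, 1)]), (142, [(206, 1)]), (144, [(211, (-1))]), (145, [(212, (-1))]), (153, [(220, 1)]),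 (154, [(221, 1)]), (159, [(223, (-1))]), (175, [(227, (-1))]), (176, [(228, (-1))]), (181, [(230, 1)]), (197, [(232, (-1))]), (207, [(234, (-1))]), (214, [(236, 1)]), (217, [(239, 1)])]
def M191 : Tr (List (ℕ × ℤ × ℕ × ℕ)) := (.node [] (.node [(23, 1, 1, 1)] (.node [] (.node [(43, 1, 1, 1)] (.node [] .nil (.node [(119, 1, 1, 1)] (.node [] (.node [(210, 1, 1, 1)] .nil .nil) .nil) (.node [(185, 1, 1, 1)] .nil .nil))) (.node [] (.node [(108, 1, 1, 1)] .nil .nil) (.node [] (.node [] .nil (.node [(237, (-1), 1, 1)] .nil .nil)) .nil))) (.node [] (.node [] (.node [] (.node [(138, (-1), 1, 1)] (.node [(200, (-1), 1, 1)] .nil .nil) .nil) .nil) (.node [(124, (-1), 1, 1)] .nil (.node [(188, 1, 1, 1)] .nil .nil))) (.node [] .nil (.node [] (.node [] (.node [(222, (-1), 1, 1)] .nil .nil) .nil) .nil)))) (.node [(33, 1, 1, 1)] (.node [(59, (-1), 1, 1)] (.node [(84, 1, 1, 1)] .nil (.node [] .nil (.node [] (.node [(229, 1, 1, 1)] .nil .nil) .nil))) (.node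 [] (.node [] (.node [(150, (-1), 1, 1)] .nil .nil) .nil) (.node [] (.node [(166, 1, 1, 1)] .nil .nil) .nil))) (.node [(65, (-1), 1, 1)] (.node [] (.node [] .nil (.node [(172, 1, 1, 1)] .nil .nil)) (.node [(127, 1, 1, 1)] .nil .nil)) (.node [(96, (-1), 1, 1)] .nil .nil)))) (.node [(24, 1, 1, 1)] (.node [] (.node [] (.node [(81, 1, 1, 1)] (.node [(97, (-1), 1, 1)] .nil .nil) (.node [] (.node [(163, (-1), 1, 1)] .nil .nil) (.node [(186, (-1), 1, 1)] .nil .nil))) (.node [] (.node [] (.node [(149, 1, 1, 1)] .nil .nil) (.node [(181, (-1), 1, 1)] .nil .nil)) (.node [] (.node [] (.node [(219, (-1), 1, 1)] .nil .nil) (.node [(238, (-1), 1, 1)] .nil .nil)) (.node [(192, (-1), 1, 1)] .nil .nil)))) (.node [] (.node [(87, 1, 1, 1)] (.node [(105, 1, 1, 1)] (.node [(139, 1, 1, 1)] .nil (.node [(232, (-1), 1, 1)] .nil .nil)) (.node [(171, (-1), 1, 1)] .nil .nil)) (.node [] .nil (.node [(189, (-1), 1, 1)] (.node [(230, 1, 1, 1)] .nil .nil) .nil))) (.node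 [] (.node [] (.node [(159, 1, 1, 1)] .nil .nil) .nil) .nil))) (.node [] (.node [(62, (-1), 1, 1)] (.node [] (.node [] (.node [] (.node [(197, (-1), 1, 1)] .nil .nil) .nil) .nil) (.node [(123, 1, 1, 1)] (.node [] (.node [(213, 1, 1, 1)] .nil .nil) .nil) .nil)) (.node [(93, (-1), 1, 1)] (.node [(109, 1, 1, 1)] .nil .nil) (.node [(135, 1, 1, 1)] (.node [(167, (-1), 1, 1)] .nil .nil) (.node [(193, 1, 1, 1)] .nil .nil)))) (.node [] (.node [] (.node [] (.node [] (.node [(203, (-1), 1, 1)] .nil .nil) .nil) .nil) (.node [(128, (-1), 1, 1)] .nil .nil)) (.node [] (.node [(117, (-1), 1, 1)] (.node [] (.node [(207, 1, 1, 1)] .nil .nil) (.node [(234, (-1), 1, 1)] .nil .nil)) (.node [] (.node [(226, 1, 1, 1)] .nil .nil) .nil)) (.node [] (.node [] (.node [(223, (-1), 1, 1)] .nil .nil) .nil) .nil))))))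
def C191 : List (ℕ × List (ℕ × ℤ)) := [(1, [(23, 1)]), (2, [(24, 1)]), (5, [(33, 1)]), (7, [(43, 1)]), (9, [(59, (-1))]), (10, [(62, (-1))]), (13, [(65, (-1))]), (16, [(81, 1)]), (17, [(84, 1)]), (20, [(87, 1)]), (26, [(93, (-1))]), (29, [(96, (-1))]), (32, [(97, (-1))]), (36, [(105, 1)]), (39, [(108, 1)]), (42, [(109, 1)]), (46, [(117, (-1))]), (47, [(119, 1)]), (50, [(123, 1)]), (51, [(124, (-1))]), (53, [(127, 1)]), (54, [(128, (-1))]), (58, [(135, 1)]), (67, [(138, (-1))]), (68, [(139, 1)]), (72, [(149, 1)]), (73, [(150, (-1))]), (76, [(159, 1)]), (80, [(163, (-1))]), (89, [(166, 1)]), (90, [(167, (-1))]), (100, [(171, (-1))]), (101, [(172, 1)]), (104, [(181, (-1))]), (111, [(185, 1)]), (112, [(186, (-1))]), (115, [(188, 1)]), (116, [(189, (-1))]), (120, [(192, (-1))]), (122, [(193, 1)]), (130, [(197, (-1))]), (131, [(200, (-1))]), (134, [(203, (-1))]), (142, [(207, 1)]), (143, [(210, 1)]), (146, [(213, 1)]), (152, [(219, (-1))]),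 (155, [(222, (-1))]), (158, [(223, (-1))]), (174, [(226, 1)]), (177, [(229, 1)]), (180, [(230, 1)]), (196, [(232, (-1))]), (206, [(234, (-1))]), (215, [(237, (-1))]), (216, [(238, (-1))])]
def M192 : Tr (List (ℕ × ℤ × ℕ × ℕ)) := (.node [(23, 1, 1, 1)] (.node [] (.node [] (.node [(44, (-1), 1, 1)] (.node [] (.node [(97, (-1), 1, 1)] .nil .nil) (.node [] (.node [(163, (-1), 1, 1)] (.node [(211, 1, 1, 1)] .nil .nil) .nil) .nil)) (.node [] (.node [] (.node [(149, 1, 1, 1)] .nil .nil) .nil) (.node [] .nil (.node [(191, (-1), 1, 1)] .nil .nil)))) (.node [] (.node [(87, 1, 1, 1)] (.node [] (.node [] (.node [(201, (-1), 1, 1)] .nil .nil) (.node [(232, 1, 1, 1)] .nil .nil)) (.node [(171, (-1), 1, 1)] .nil .nil)) (.node [(125, (-1), 1, 1)] .nil (.node [] (.node [(230, (-1), 1, 1)] .nil .nil) .nil))) .nil)) (.node [(34, (-1), 1, 1)] (.node [(60, 1, 1, 1)] (.node [(85, (-1), 1, 1)] .nil (.node [(123, 1, 1, 1)] (.node [] (.node [(213, (-1), 1, 1)]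 .nil .nil) .nil) .nil)) (.node [] (.node [(109, 1, 1, 1)] (.node [(151, (-1), 1, 1)] .nil .nil) .nil) (.node [(135, 1, 1, 1)] .nil (.node [(193, (-1), 1, 1)] .nil .nil)))) (.node [] (.node [] (.node [] (.node [] (.node [(203, 1, 1, 1)] .nil .nil) .nil) (.node [(173, 1, 1, 1)] .nil .nil)) .nil) (.node [] (.node [] (.node [] .nil (.node [(234, 1, 1, 1)] .nil .nil)) .nil) (.node [] (.node [] (.node [(223, 1, 1, 1)] .nil .nil) .nil) .nil))))) (.node [(25, (-1), 1, 1)] (.node [] (.node [] (.node [(82, (-1), 1, 1)] .nil (.node [(120, 1, 1, 1)] .nil (.node [(187, (-1), 1, 1)] (.node [(229, (-1), 1, 1)] .nil .nil) .nil))) (.node [] (.node [] .nil (.node [(182, (-1), 1, 1)] .nil .nil)) (.node [] (.node [(166, 1, 1, 1)] (.node [(220, (-1), 1, 1)] .nil .nil) (.node [(239, (-1), 1, 1)] .nil .nil)) .nil))) (.node [(65, (-1), 1, 1)] (.node [] (.node [(106, (-1), 1, 1)] (.node [(140, 1, 1, 1)] .nil .nil) .nil) (.node [(127, 1, 1, 1)] .nil (.node [(190,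 (-1), 1, 1)] .nil .nil))) (.node [(96, (-1), 1, 1)] (.node [] (.node [(160, 1, 1, 1)] .nil .nil) .nil) .nil))) (.node [] (.node [(63, 1, 1, 1)] (.node [] (.node [] (.node [(138, (-1), 1, 1)] (.node [(198, (-1), 1, 1)] .nil .nil) .nil) .nil) (.node [] .nil (.node [(188, 1, 1, 1)] .nil .nil))) (.node [(94, 1, 1, 1)] .nil (.node [] (.node [(168, (-1), 1, 1)] (.node [(222, 1, 1, 1)] .nil .nil) .nil) .nil))) (.node [] (.node [] (.node [(108, 1, 1, 1)] .nil .nil) (.node [(129, (-1), 1, 1)] (.node [] .nil (.node [(237, 1, 1, 1)] .nil .nil)) .nil)) (.node [] (.node [(118, 1, 1, 1)] (.node [] (.node [(208, 1, 1, 1)] .nil .nil) .nil) (.node [(185, 1, 1, 1)] (.node [(227, 1, 1, 1)] .nil .nil) .nil)) .nil)))))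
def C192 : List (ℕ × List (ℕ × ℤ)) := [(0, [(23, 1)]), (2, [(25, (-1))]), (5, [(34, (-1))]), (7, [(44, (-1))]), (9, [(60, 1)]), (10, [(63, 1)]), (12, [(65, (-1))]), (16, [(82, (-1))]), (17, [(85, (-1))]), (19, [(87, 1)]), (26, [(94, 1)]), (28, [(96, (-1))]), (31, [(97, (-1))]), (36, [(106, (-1))]), (38, [(108, 1)]), (41, [(109, 1)]), (46, [(118, 1)]), (48, [(120, 1)]), (49, [(123, 1)]), (51, [(125, (-1))]), (52, [(127, 1)]), (54, [(129, (-1))]), (57, [(135, 1)]), (66, [(138, (-1))]), (68, [(140, 1)]), (71, [(149, 1)]), (73, [(151, (-1))]), (76, [(160, 1)]), (79, [(163, (-1))]), (88, [(166, 1)]), (90, [(168, (-1))]), (99, [(171, (-1))]), (101, [(173, 1)]), (104, [(182, (-1))]), (110, [(185, 1)]), (112, [(187, (-1))]), (114, [(188, 1)]), (116, [(190, (-1))]), (119, [(191, (-1))]), (121, [(193, (-1))]), (130, [(198, (-1))]), (131, [(201, (-1))]), (133, [(203, 1)]), (142, [(208, 1)]), (143, [(211, 1)]), (145, [(213, (-1))]), (152, [(220,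 (-1))]), (154, [(222, 1)]), (157, [(223, 1)]), (174, [(227, 1)]), (176, [(229, (-1))]), (179, [(230, (-1))]), (195, [(232, 1)]), (205, [(234, 1)]), (214, [(237, 1)]), (216, [(239, (-1))])]
def M193 : Tr (List (ℕ × ℤ × ℕ × ℕ)) := (.node [(24, (-1), 1, 1)] (.node [(25, (-1), 1, 1)] (.node [] (.node [(45, 1, 1, 1)] (.node [] .nil (.node [(121, 1, 1, 1)] (.node [] (.node [(212, 1, 1, 1)] .nil .nil) .nil) (.node [(187, (-1), 1, 1)] (.node [(229, 1, 1, 1)] .nil .nil) .nil))) (.node [] (.node [] (.node [(150, 1, 1, 1)] .nil .nil) .nil) (.node [] (.node [] .nil (.node [(239, 1, 1, 1)] .nil .nil)) .nil))) (.node [(65, (-1), 1, 1)] (.node [] (.node [] (.node [(140, 1, 1, 1)] (.node [(202, (-1), 1, 1)] .nil .nil) .nil) (.node [(172, (-1), 1, 1)] .nil .nil)) (.node [] .nil (.node [(190, (-1), 1, 1)] .nil .nil))) (.node [(96, (-1), 1, 1)] .nil .nil))) (.node [(35, 1, 1, 1)] (.node [(61, (-1), 1, 1)] (.node [(86, 1, 1, 1)] .nil (.node [(124, 1, 1,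 1)] .nil .nil)) (.node [] .nil (.node [] (.node [(168, (-1), 1, 1)] (.node [(222, (-1), 1, 1)] .nil .nil) .nil) .nil))) (.node [] (.node [] (.node [(108, 1, 1, 1)] .nil .nil) (.node [(129, (-1), 1, 1)] .nil (.node [(191, 1, 1, 1)] .nil .nil))) .nil))) (.node [] (.node [] (.node [] (.node [(83, 1, 1, 1)] .nil (.node [(122, (-1), 1, 1)] (.node [] (.node [(213, 1, 1, 1)] .nil .nil) .nil) .nil)) (.node [] (.node [(109, 1, 1, 1)] (.node [(151, (-1), 1, 1)] .nil .nil) (.node [(183, (-1), 1, 1)] .nil .nil)) (.node [(135, 1, 1, 1)] (.node [(167, 1, 1, 1)] (.node [(221, (-1), 1, 1)] .nil .nil) .nil) .nil))) (.node [] (.node [] (.node [(107, 1, 1, 1)] (.node [] (.node [(203, (-1), 1, 1)] .nil .nil) .nil) (.node [(173, 1, 1, 1)] .nil .nil)) (.node [(128, 1, 1, 1)] .nil .nil)) (.node [] (.node [] (.node [(161, 1, 1, 1)] .nil (.node [(234, (-1), 1, 1)] .nil .nil)) .nil) (.node [] (.node [] (.node [(223, (-1), 1, 1)] .nil .nil) .nil) .nil)))) (.node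 [] (.node [(64, (-1), 1, 1)] (.node [(87, 1, 1, 1)] (.node [] (.node [(139, (-1), 1, 1)] (.node [(199, (-1), 1, 1)] .nil .nil) (.node [(232, (-1), 1, 1)] .nil .nil)) .nil) (.node [(125, (-1), 1, 1)] .nil (.node [(189, 1, 1, 1)] (.node [(230, 1, 1, 1)] .nil .nil) .nil))) (.node [(95, (-1), 1, 1)] .nil .nil)) (.node [] (.node [] .nil (.node [] (.node [] .nil (.node [(238, 1, 1, 1)] .nil .nil)) (.node [(192, (-1), 1, 1)] .nil .nil))) (.node [(97, (-1), 1, 1)] (.node [] (.node [(163, (-1), 1, 1)] (.node [(209, 1, 1, 1)] .nil .nil) .nil) (.node [(186, 1, 1, 1)] (.node [(228, 1, 1, 1)] .nil .nil) .nil)) .nil)))))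
def C193 : List (ℕ × List (ℕ × ℤ)) := [(0, [(24, (-1))]), (1, [(25, (-1))]), (5, [(35, 1)]), (7, [(45, 1)]), (9, [(61, (-1))]), (10, [(64, (-1))]), (11, [(65, (-1))]), (16, [(83, 1)]), (17, [(86, 1)]), (18, [(87, 1)]), (26, [(95, (-1))]), (27, [(96, (-1))]), (30, [(97, (-1))]), (36, [(107, 1)]), (37, [(108, 1)]), (40, [(109, 1)]), (47, [(121, 1)]), (48, [(122, (-1))]), (49, [(124, 1)]), (50, [(125, (-1))]), (52, [(128, 1)]), (53, [(129, (-1))]), (56, [(135, 1)]), (66, [(139, (-1))]), (67, [(140, 1)]), (71, [(150, 1)]), (72, [(151, (-1))]), (76, [(161, 1)]), (78, [(163, (-1))]), (88, [(167, 1)]), (89, [(168, (-1))]), (99, [(172, (-1))]), (100, [(173, 1)]), (104, [(183, (-1))]), (110, [(186, 1)]), (111, [(187, (-1))]), (114, [(189, 1)]), (115, [(190, (-1))]), (117, [(191, 1)]), (118, [(192, (-1))]), (130, [(199, (-1))]), (131, [(202, (-1))]), (132, [(203, (-1))]), (142, [(209, 1)]), (143, [(212, 1)]), (144, [(213, 1)]), (152, [(221, (-1))]),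 (153, [(222, (-1))]), (156, [(223, (-1))]), (174, [(228, 1)]), (175, [(229, 1)]), (178, [(230, 1)]), (194, [(232, (-1))]), (204, [(234, (-1))]), (214, [(238, 1)]), (215, [(239, 1)])]
def M194 : Tr (List (ℕ × ℤ × ℕ × ℕ)) := (.node [] (.node [] (.node [(27, 1, 1, 1)] (.node [(46, (-1), 1, 1)] (.node [(78, 1, 1, 1)] .nil .nil) (.node [] (.node [(111, 1, 1, 1)] .nil (.node [(178, (-1), 1, 1)] .nil .nil)) (.node [(132, 1, 1, 1)] (.node [(166, (-1), 1, 1)] (.node [(220, 1, 1, 1)] .nil .nil) .nil) (.node [] (.node [(231, 1, 1, 1)] .nil .nil) .nil)))) (.node [] (.node [(88, (-1), 1, 1)] (.node [(98, 1, 1, 1)] .nil .nil) (.node [(130, 1, 1, 1)] (.node [(164, (-1), 1, 1)] .nil .nil) .nil)) (.node [] (.node [(117, 1, 1, 1)] (.node [(156, 1, 1, 1)] .nil .nil) (.node [(184, (-1), 1, 1)] .nil .nil)) .nil))) (.node [] (.node [] (.node [] (.node [] (.node [(138, 1, 1, 1)] (.node [(201, (-1), 1, 1)] .nil .nil) (.node [(232, 1, 1, 1)] .nil .nil)) (.node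 [] (.node [(224, (-1), 1, 1)] .nil .nil) .nil)) (.node [] (.node [] (.node [(214, 1, 1, 1)] .nil .nil) (.node [(235, (-1), 1, 1)] .nil .nil)) .nil)) (.node [(94, (-1), 1, 1)] (.node [(114, (-1), 1, 1)] (.node [(152, 1, 1, 1)] .nil .nil) .nil) (.node [] .nil (.node [(195, (-1), 1, 1)] .nil .nil)))) (.node [(67, 1, 1, 1)] (.node [] (.node [] .nil (.node [(174, (-1), 1, 1)] .nil .nil)) (.node [] (.node [] .nil (.node [(237, (-1), 1, 1)] .nil .nil)) .nil)) (.node [] (.node [] (.node [] (.node [(204, (-1), 1, 1)] .nil .nil) .nil) (.node [(188, (-1), 1, 1)] (.node [(227, (-1), 1, 1)] .nil .nil) .nil)) (.node [(136, 1, 1, 1)] .nil (.node [(198, 1, 1, 1)] .nil .nil)))))) (.node [(26, 1, 1, 1)] (.node [(30, 1, 1, 1)] (.node [(56, (-1), 1, 1)] (.node [] (.node [] (.node [(137, (-1), 1, 1)] (.node [(200, (-1), 1, 1)] .nil .nil) .nil) .nil) .nil) (.node [(93, (-1), 1, 1)] .nil .nil)) (.node [(66, 1, 1, 1)] (.node [(89, (-1), 1, 1)] .nil (.node []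 (.node [] .nil (.node [(236, (-1), 1, 1)] .nil .nil)) .nil)) (.node [] (.node [(118, 1, 1, 1)] .nil (.node [(185, 1, 1, 1)] (.node [(226, (-1), 1, 1)] .nil .nil) .nil)) (.node [] .nil (.node [(197, 1, 1, 1)] .nil .nil))))) (.node [] (.node [] (.node [] .nil (.node [] (.node [] (.node [(215, 1, 1, 1)] .nil .nil) .nil) .nil)) (.node [] (.node [(115, (-1), 1, 1)] (.node [(153, (-1), 1, 1)] .nil .nil) .nil) (.node [] .nil (.node [(196, (-1), 1, 1)] .nil .nil)))) (.node [] (.node [] (.node [(110, 1, 1, 1)] .nil (.node [(175, 1, 1, 1)] .nil .nil)) (.node [(131, (-1), 1, 1)] (.node [(165, 1, 1, 1)] (.node [(219, 1, 1, 1)] .nil .nil) .nil) .nil)) .nil))))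
def C194 : List (ℕ × List (ℕ × ℤ)) := [(2, [(26, 1)]), (3, [(27, 1)]), (4, [(30, 1)]), (7, [(46, (-1))]), (8, [(56, (-1))]), (12, [(66, 1)]), (13, [(67, 1)]), (15, [(78, 1)]), (19, [(88, (-1))]), (20, [(89, (-1))]), (24, [(93, (-1))]), (25, [(94, (-1))]), (35, [(98, 1)]), (38, [(110, 1)]), (39, [(111, 1)]), (41, [(114, (-1))]), (42, [(115, (-1))]), (43, [(117, 1)]), (44, [(118, 1)]), (51, [(130, 1)]), (54, [(131, (-1))]), (55, [(132, 1)]), (61, [(136, 1)]), (64, [(137, (-1))]), (65, [(138, 1)]), (73, [(152, 1)]), (74, [(153, (-1))]), (75, [(156, 1)]), (83, [(164, (-1))]), (86, [(165, 1)]), (87, [(166, (-1))]), (101, [(174, (-1))]), (102, [(175, 1)]), (103, [(178, (-1))]), (107, [(184, (-1))]), (108, [(185, 1)]), (109, [(188, (-1))]), (121, [(195, (-1))]), (122, [(196, (-1))]), (124, [(197, 1)]), (125, [(198, 1)]), (128, [(200, (-1))]), (129, [(201, (-1))]), (141, [(204, (-1))]), (145, [(214, 1)]), (146, [(215, 1)]), (150, [(219, 1)]),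 (151, [(220, 1)]), (161, [(224, (-1))]), (172, [(226, (-1))]), (173, [(227, (-1))]), (183, [(231, 1)]), (193, [(232, 1)]), (209, [(235, (-1))]), (212, [(236, (-1))]), (213, [(237, (-1))])]
def M195 : Tr (List (ℕ × ℤ × ℕ × ℕ)) := (.node [] (.node [(26, 1, 1, 1)] (.node [(28, (-1), 1, 1)] (.node [(47, 1, 1, 1)] (.node [(79, (-1), 1, 1)] (.node [] (.node [(137, (-1), 1, 1)] (.node [(200, 1, 1, 1)] .nil .nil) .nil) .nil) .nil) (.node [(93, (-1), 1, 1)] (.node [(112, (-1), 1, 1)] .nil (.node [(179, (-1), 1, 1)] .nil .nil)) (.node [(133, 1, 1, 1)] (.node [(167, (-1), 1, 1)] (.node [(221, 1, 1, 1)] .nil .nil) .nil) .nil))) (.node [(66, 1, 1, 1)] (.node [] .nil (.node [] (.node [] .nil (.node [(236, 1, 1, 1)] .nil .nil)) .nil)) (.node [] (.node [(119, 1, 1, 1)] (.node [(157, 1, 1, 1)] .nil .nil) (.node [] (.node [(226, 1, 1, 1)] .nil .nil) .nil)) (.node [] .nil (.node [(197, (-1), 1, 1)] .nil .nil))))) (.node [] (.node [] (.node [] (.node []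 (.node [(139, 1, 1, 1)] (.node [(202, (-1), 1, 1)] .nil .nil) .nil) .nil) .nil) (.node [(95, 1, 1, 1)] .nil .nil)) (.node [(68, (-1), 1, 1)] (.node [] (.node [(110, 1, 1, 1)] .nil .nil) (.node [(131, (-1), 1, 1)] (.node [(165, 1, 1, 1)] (.node [(219, (-1), 1, 1)] .nil .nil) (.node [(238, (-1), 1, 1)] .nil .nil)) .nil)) (.node [] (.node [(121, 1, 1, 1)] (.node [] (.node [(205, (-1), 1, 1)] .nil .nil) .nil) (.node [(189, (-1), 1, 1)] (.node [(228, (-1), 1, 1)] .nil .nil) .nil)) (.node [] .nil (.node [(199, 1, 1, 1)] .nil .nil)))))) (.node [] (.node [(31, (-1), 1, 1)] (.node [(57, 1, 1, 1)] (.node [] (.node [] (.node [] .nil (.node [(232, (-1), 1, 1)] .nil .nil)) (.node [] (.node [(224, 1, 1, 1)] .nil .nil) .nil)) (.node [] (.node [] (.node [(214, (-1), 1, 1)] .nil .nil) (.node [(235, 1, 1, 1)] .nil .nil)) .nil)) (.node [] (.node [(114, (-1), 1, 1)] (.node [(152, 1, 1, 1)] .nil .nil) .nil) (.node [] .nil (.node [(196, (-1), 1, 1)] .nil .nil))))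 (.node [] (.node [(90, 1, 1, 1)] (.node [] .nil (.node [(174, (-1), 1, 1)] .nil .nil)) .nil) (.node [] (.node [] .nil (.node [(186, 1, 1, 1)] .nil .nil)) (.node [(136, 1, 1, 1)] .nil .nil)))) (.node [] (.node [] (.node [(88, (-1), 1, 1)] (.node [(98, 1, 1, 1)] .nil .nil) (.node [(130, 1, 1, 1)] (.node [(164, (-1), 1, 1)] (.node [(216, 1, 1, 1)] .nil .nil) .nil) .nil)) (.node [] (.node [(116, 1, 1, 1)] (.node [(154, (-1), 1, 1)] .nil .nil) (.node [(184, (-1), 1, 1)] .nil .nil)) .nil)) (.node [] (.node [] (.node [] .nil (.node [(176, 1, 1, 1)] .nil .nil)) (.node [] .nil (.node [(194, (-1), 1, 1)] (.node [(231, (-1), 1, 1)] .nil .nil) .nil))) .nil))))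
def C195 : List (ℕ × List (ℕ × ℤ)) := [(1, [(26, 1)]), (3, [(28, (-1))]), (4, [(31, (-1))]), (7, [(47, 1)]), (8, [(57, 1)]), (11, [(66, 1)]), (13, [(68, (-1))]), (15, [(79, (-1))]), (18, [(88, (-1))]), (20, [(90, 1)]), (23, [(93, (-1))]), (25, [(95, 1)]), (34, [(98, 1)]), (37, [(110, 1)]), (39, [(112, (-1))]), (40, [(114, (-1))]), (42, [(116, 1)]), (43, [(119, 1)]), (45, [(121, 1)]), (50, [(130, 1)]), (53, [(131, (-1))]), (55, [(133, 1)]), (60, [(136, 1)]), (63, [(137, (-1))]), (65, [(139, 1)]), (72, [(152, 1)]), (74, [(154, (-1))]), (75, [(157, 1)]), (82, [(164, (-1))]), (85, [(165, 1)]), (87, [(167, (-1))]), (100, [(174, (-1))]), (102, [(176, 1)]), (103, [(179, (-1))]), (106, [(184, (-1))]), (108, [(186, 1)]), (109, [(189, (-1))]), (118, [(194, (-1))]), (120, [(196, (-1))]), (123, [(197, (-1))]), (125, [(199, 1)]), (127, [(200, 1)]), (129, [(202, (-1))]), (141, [(205, (-1))]), (144, [(214, (-1))]), (146, [(216, 1)]), (149, [(219, (-1))]),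 (151, [(221, 1)]), (160, [(224, 1)]), (171, [(226, 1)]), (173, [(228, (-1))]), (182, [(231, (-1))]), (192, [(232, (-1))]), (208, [(235, 1)]), (211, [(236, 1)]), (213, [(238, (-1))])]
def M196 : Tr (List (ℕ × ℤ × ℕ × ℕ)) := (.node [(26, 1, 1, 1)] (.node [] (.node [(29, 1, 1, 1)] (.node [(48, (-1), 1, 1)] (.node [(80, 1, 1, 1)] (.node [] (.node [] (.node [(201, 1, 1, 1)] .nil .nil) (.node [(232, 1, 1, 1)] .nil .nil)) (.node [] (.node [(224, (-1), 1, 1)] .nil .nil) .nil)) (.node [] (.node [] .nil (.node [(235, (-1), 1, 1)] .nil .nil)) .nil)) (.node [(94, 1, 1, 1)] (.node [] (.node [(152, 1, 1, 1)] .nil .nil) (.node [(180, (-1), 1, 1)] .nil .nil)) (.node [(134, 1, 1, 1)] (.node [(168, (-1), 1, 1)] .nil .nil) (.node [(195, (-1), 1, 1)] .nil .nil)))) (.node [(67, (-1), 1, 1)] (.node [(90, 1, 1, 1)] (.node [] .nil (.node [(174, (-1), 1, 1)] .nil .nil)) .nil) (.node [] (.node [] (.node [(158, 1, 1, 1)] .nil .nil) (.node [] (.node [(227, 1, 1,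 1)] .nil .nil) .nil)) (.node [(136, 1, 1, 1)] .nil (.node [(198, (-1), 1, 1)] .nil .nil))))) (.node [] (.node [] (.node [] (.node [(98, 1, 1, 1)] (.node [(140, 1, 1, 1)] .nil .nil) .nil) (.node [(130, 1, 1, 1)] (.node [(164, (-1), 1, 1)] (.node [(216, (-1), 1, 1)] .nil .nil) .nil) .nil)) (.node [] (.node [(116, 1, 1, 1)] .nil (.node [(184, (-1), 1, 1)] .nil .nil)) .nil)) (.node [] (.node [] (.node [(111, (-1), 1, 1)] .nil .nil) (.node [] (.node [] (.node [(220, (-1), 1, 1)] .nil .nil) (.node [(239, (-1), 1, 1)] .nil .nil)) (.node [(194, (-1), 1, 1)] (.node [(231, 1, 1, 1)] .nil .nil) .nil))) (.node [] (.node [(122, 1, 1, 1)] (.node [] (.node [(206, (-1), 1, 1)] .nil .nil) .nil) (.node [(190, (-1), 1, 1)] .nil .nil)) .nil)))) (.node [] (.node [(32, 1, 1, 1)] (.node [(58, (-1), 1, 1)] (.node [] (.node [] (.node [] (.node [(202, 1, 1, 1)] .nil .nil) .nil) .nil) (.node [] (.node [] (.node [(215, (-1), 1, 1)] .nil .nil) .nil) .nil)) (.node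 [(95, 1, 1, 1)] (.node [(115, 1, 1, 1)] .nil .nil) .nil)) (.node [(68, (-1), 1, 1)] (.node [] .nil (.node [(131, (-1), 1, 1)] (.node [(165, 1, 1, 1)] .nil .nil) .nil)) (.node [] (.node [(120, 1, 1, 1)] .nil (.node [(187, 1, 1, 1)] (.node [(228, 1, 1, 1)] .nil .nil) .nil)) (.node [] .nil (.node [(199, (-1), 1, 1)] .nil .nil))))) (.node [] (.node [] (.node [(89, 1, 1, 1)] .nil (.node [] (.node [] .nil (.node [(236, (-1), 1, 1)] .nil .nil)) .nil)) (.node [] (.node [] (.node [(155, (-1), 1, 1)] .nil .nil) .nil) .nil)) (.node [] (.node [] (.node [(112, (-1), 1, 1)] .nil (.node [(177, 1, 1, 1)] .nil .nil)) (.node [] (.node [] (.node [(221, (-1), 1, 1)] .nil .nil) .nil) .nil)) (.node [] .nil (.node [(137, (-1), 1, 1)] .nil .nil))))))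
def C196 : List (ℕ × List (ℕ × ℤ)) := [(0, [(26, 1)]), (3, [(29, 1)]), (4, [(32, 1)]), (7, [(48, (-1))]), (8, [(58, (-1))]), (11, [(67, (-1))]), (12, [(68, (-1))]), (15, [(80, 1)]), (18, [(89, 1)]), (19, [(90, 1)]), (23, [(94, 1)]), (24, [(95, 1)]), (33, [(98, 1)]), (37, [(111, (-1))]), (38, [(112, (-1))]), (40, [(115, 1)]), (41, [(116, 1)]), (44, [(120, 1)]), (45, [(122, 1)]), (49, [(130, 1)]), (52, [(131, (-1))]), (55, [(134, 1)]), (59, [(136, 1)]), (62, [(137, (-1))]), (65, [(140, 1)]), (71, [(152, 1)]), (74, [(155, (-1))]), (75, [(158, 1)]), (81, [(164, (-1))]), (84, [(165, 1)]), (87, [(168, (-1))]), (99, [(174, (-1))]), (102, [(177, 1)]), (103, [(180, (-1))]), (105, [(184, (-1))]), (108, [(187, 1)]), (109, [(190, (-1))]), (117, [(194, (-1))]), (119, [(195, (-1))]), (123, [(198, (-1))]), (124, [(199, (-1))]), (127, [(201, 1)]), (128, [(202, 1)]), (141, [(206, (-1))]), (144, [(215, (-1))]), (145, [(216, (-1))]), (149, [(220, (-1))]),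 (150, [(221, (-1))]), (159, [(224, (-1))]), (171, [(227, 1)]), (172, [(228, 1)]), (181, [(231, 1)]), (191, [(232, 1)]), (207, [(235, (-1))]), (210, [(236, (-1))]), (213, [(239, (-1))])]
def M197 : Tr (List (ℕ × ℤ × ℕ × ℕ)) := (.node [] (.node [(27, (-1), 1, 1)] (.node [] (.node [(49, (-1), 1, 1)] (.node [(81, 1, 1, 1)] (.node [] (.node [(138, (-1), 1, 1)] .nil .nil) .nil) (.node [] (.node [] (.node [(214, 1, 1, 1)] .nil .nil) .nil) .nil)) (.node [] (.node [(113, 1, 1, 1)] .nil (.node [(181, (-1), 1, 1)] .nil .nil)) (.node [] (.node [] (.node [(222, 1, 1, 1)] .nil .nil) .nil) .nil))) (.node [] (.node [] .nil (.node [] (.node [] .nil (.node [(237, 1, 1, 1)] .nil .nil)) (.node [(194, 1, 1, 1)] .nil .nil))) (.node [] (.node [] (.node [(159, 1, 1, 1)] .nil .nil) (.node [(186, 1, 1, 1)] .nil .nil)) .nil))) (.node [] (.node [] (.node [(88, (-1), 1, 1)] (.node [] (.node [] (.node [(203, (-1), 1, 1)] .nil .nil) .nil) .nil) .nil) (.node [(96, (-1),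 1, 1)] (.node [(119, 1, 1, 1)] (.node [(154, (-1), 1, 1)] .nil .nil) .nil) .nil)) (.node [(69, 1, 1, 1)] (.node [] (.node [] .nil (.node [(176, 1, 1, 1)] .nil .nil)) (.node [(132, (-1), 1, 1)] (.node [(166, 1, 1, 1)] .nil .nil) .nil)) (.node [] (.node [(124, (-1), 1, 1)] (.node [] (.node [(207, (-1), 1, 1)] .nil .nil) .nil) (.node [(191, (-1), 1, 1)] (.node [(229, (-1), 1, 1)] .nil .nil) .nil)) .nil)))) (.node [(28, (-1), 1, 1)] (.node [(33, 1, 1, 1)] (.node [(59, (-1), 1, 1)] (.node [] (.node [(98, 1, 1, 1)] (.node [(139, 1, 1, 1)] .nil .nil) .nil) (.node [(130, 1, 1, 1)] (.node [(164, (-1), 1, 1)] .nil .nil) .nil)) (.node [] (.node [(117, (-1), 1, 1)] (.node [(153, 1, 1, 1)] .nil .nil) .nil) (.node [] .nil (.node [(198, (-1), 1, 1)] .nil .nil)))) (.node [] (.node [(91, (-1), 1, 1)] (.node [(110, 1, 1, 1)] .nil (.node [(175, (-1), 1, 1)] .nil .nil)) (.node [] (.node [] (.node [(219, 1, 1, 1)] .nil .nil) (.node [(238, 1, 1, 1)] .nil .nil))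 (.node [(195, (-1), 1, 1)] (.node [(231, 1, 1, 1)] .nil .nil) .nil))) (.node [] (.node [(123, 1, 1, 1)] .nil .nil) .nil))) (.node [] (.node [(66, 1, 1, 1)] (.node [] .nil (.node [] (.node [] (.node [(217, 1, 1, 1)] .nil .nil) .nil) .nil)) (.node [] (.node [] .nil (.node [(185, (-1), 1, 1)] (.node [(226, (-1), 1, 1)] .nil .nil) .nil)) (.node [(136, 1, 1, 1)] .nil (.node [(199, 1, 1, 1)] .nil .nil)))) (.node [] (.node [(93, (-1), 1, 1)] .nil (.node [(133, 1, 1, 1)] (.node [(167, (-1), 1, 1)] .nil .nil) .nil)) (.node [] (.node [] (.node [] .nil (.node [(235, (-1), 1, 1)] .nil .nil)) .nil) (.node [] (.node [] (.node [(224, (-1), 1, 1)] .nil .nil) .nil) (.node [(200, (-1), 1, 1)] (.node [(232, 1, 1, 1)] .nil .nil) .nil)))))))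
def C197 : List (ℕ × List (ℕ × ℤ)) := [(1, [(27, (-1))]), (2, [(28, (-1))]), (4, [(33, 1)]), (7, [(49, (-1))]), (8, [(59, (-1))]), (10, [(66, 1)]), (13, [(69, 1)]), (15, [(81, 1)]), (17, [(88, (-1))]), (20, [(91, (-1))]), (22, [(93, (-1))]), (25, [(96, (-1))]), (32, [(98, 1)]), (36, [(110, 1)]), (39, [(113, 1)]), (40, [(117, (-1))]), (41, [(119, 1)]), (44, [(123, 1)]), (45, [(124, (-1))]), (48, [(130, 1)]), (53, [(132, (-1))]), (54, [(133, 1)]), (58, [(136, 1)]), (63, [(138, (-1))]), (64, [(139, 1)]), (72, [(153, 1)]), (73, [(154, (-1))]), (75, [(159, 1)]), (80, [(164, (-1))]), (85, [(166, 1)]), (86, [(167, (-1))]), (100, [(175, (-1))]), (101, [(176, 1)]), (103, [(181, (-1))]), (106, [(185, (-1))]), (107, [(186, 1)]), (109, [(191, (-1))]), (115, [(194, 1)]), (116, [(195, (-1))]), (120, [(198, (-1))]), (122, [(199, 1)]), (126, [(200, (-1))]), (129, [(203, (-1))]), (141, [(207, (-1))]), (143, [(214, 1)]), (146, [(217, 1)]), (148, [(219,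 1)]), (151, [(222, 1)]), (158, [(224, (-1))]), (170, [(226, (-1))]), (173, [(229, (-1))]), (180, [(231, 1)]), (190, [(232, 1)]), (206, [(235, (-1))]), (211, [(237, 1)]), (212, [(238, 1)])]
def M198 : Tr (List (ℕ × ℤ × ℕ × ℕ)) := (.node [(27, (-1), 1, 1)] (.node [] (.node [] (.node [(50, 1, 1, 1)] (.node [(82, (-1), 1, 1)] (.node [(98, 1, 1, 1)] .nil .nil) (.node [(130, 1, 1, 1)] (.node [(164, (-1), 1, 1)] (.node [(215, 1, 1, 1)] .nil .nil) .nil) .nil)) (.node [] (.node [] (.node [(153, 1, 1, 1)] .nil .nil) (.node [(182, (-1), 1, 1)] .nil .nil)) (.node [] .nil (.node [(197, (-1), 1, 1)] .nil .nil)))) (.node [] (.node [(91, (-1), 1, 1)] (.node [] .nil (.node [(175, (-1), 1, 1)] .nil .nil)) (.node [] .nil (.node [] (.node [(231, (-1), 1, 1)] .nil .nil) .nil))) (.node [] (.node [(123, 1, 1, 1)] (.node [(160, 1, 1, 1)] .nil .nil) (.node [(187, 1, 1, 1)] .nil .nil)) .nil))) (.node [] (.node [] (.node [(89, 1, 1, 1)] .nil (.node [] (.node []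 (.node [(217, (-1), 1, 1)] .nil .nil) .nil) .nil)) (.node [] (.node [] (.node [(155, (-1), 1, 1)] .nil .nil) (.node [(185, (-1), 1, 1)] .nil .nil)) (.node [(136, 1, 1, 1)] .nil (.node [(199, (-1), 1, 1)] .nil .nil)))) (.node [] (.node [] (.node [] .nil (.node [(177, 1, 1, 1)] .nil .nil)) .nil) (.node [] (.node [(125, (-1), 1, 1)] (.node [] (.node [(208, (-1), 1, 1)] .nil .nil) (.node [(235, 1, 1, 1)] .nil .nil)) (.node [(192, (-1), 1, 1)] .nil .nil)) (.node [] (.node [] (.node [(224, 1, 1, 1)] .nil .nil) .nil) (.node [] (.node [(232, (-1), 1, 1)] .nil .nil) .nil)))))) (.node [(29, 1, 1, 1)] (.node [(34, (-1), 1, 1)] (.node [(60, 1, 1, 1)] (.node [] (.node [] (.node [(140, 1, 1, 1)] (.node [(203, 1, 1, 1)] .nil .nil) .nil) .nil) .nil) (.node [(96, (-1), 1, 1)] (.node [(118, 1, 1, 1)] .nil .nil) .nil)) (.node [(69, 1, 1, 1)] (.node [] (.node [(111, (-1), 1, 1)] .nil .nil) (.node [(132, (-1), 1, 1)] (.node [(166, 1, 1, 1)] (.node [(220,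 1, 1, 1)] .nil .nil) (.node [(239, 1, 1, 1)] .nil .nil)) (.node [(196, (-1), 1, 1)] .nil .nil))) (.node [] (.node [] .nil (.node [] (.node [(229, 1, 1, 1)] .nil .nil) .nil)) .nil))) (.node [] (.node [(67, (-1), 1, 1)] (.node [] .nil (.node [] (.node [] .nil (.node [(237, (-1), 1, 1)] .nil .nil)) (.node [(194, 1, 1, 1)] .nil .nil))) (.node [] (.node [(120, 1, 1, 1)] .nil (.node [] (.node [(227, (-1), 1, 1)] .nil .nil) .nil)) .nil)) (.node [] (.node [(94, 1, 1, 1)] (.node [(113, 1, 1, 1)] .nil .nil) (.node [(134, 1, 1, 1)] (.node [(168, (-1), 1, 1)] (.node [(222, (-1), 1, 1)] .nil .nil) .nil) .nil)) (.node [] .nil (.node [(138, (-1), 1, 1)] .nil (.node [(201, (-1), 1, 1)] .nil .nil)))))))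
def C198 : List (ℕ × List (ℕ × ℤ)) := [(0, [(27, (-1))]), (2, [(29, 1)]), (4, [(34, (-1))]), (7, [(50, 1)]), (8, [(60, 1)]), (10, [(67, (-1))]), (12, [(69, 1)]), (15, [(82, (-1))]), (17, [(89, 1)]), (19, [(91, (-1))]), (22, [(94, 1)]), (24, [(96, (-1))]), (31, [(98, 1)]), (36, [(111, (-1))]), (38, [(113, 1)]), (40, [(118, 1)]), (42, [(120, 1)]), (43, [(123, 1)]), (45, [(125, (-1))]), (47, [(130, 1)]), (52, [(132, (-1))]), (54, [(134, 1)]), (57, [(136, 1)]), (62, [(138, (-1))]), (64, [(140, 1)]), (71, [(153, 1)]), (73, [(155, (-1))]), (75, [(160, 1)]), (79, [(164, (-1))]), (84, [(166, 1)]), (86, [(168, (-1))]), (99, [(175, (-1))]), (101, [(177, 1)]), (103, [(182, (-1))]), (105, [(185, (-1))]), (107, [(187, 1)]), (109, [(192, (-1))]), (114, [(194, 1)]), (116, [(196, (-1))]), (119, [(197, (-1))]), (121, [(199, (-1))]), (126, [(201, (-1))]), (128, [(203, 1)]), (141, [(208, (-1))]), (143, [(215, 1)]), (145, [(217, (-1))]), (148, [(220, 1)]),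 (150, [(222, (-1))]), (157, [(224, 1)]), (170, [(227, (-1))]), (172, [(229, 1)]), (179, [(231, (-1))]), (189, [(232, (-1))]), (205, [(235, 1)]), (210, [(237, (-1))]), (212, [(239, 1)])]
def M199 : Tr (List (ℕ × ℤ × ℕ × ℕ)) := (.node [(28, 1, 1, 1)] (.node [(29, 1, 1, 1)] (.node [] (.node [(51, (-1), 1, 1)] (.node [(83, 1, 1, 1)] (.node [] (.node [(140, 1, 1, 1)] (.node [(203, (-1), 1, 1)] .nil .nil) .nil) .nil) (.node [] (.node [] (.node [(216, 1, 1, 1)] .nil .nil) .nil) .nil)) (.node [(96, (-1), 1, 1)] (.node [] (.node [(154, 1, 1, 1)] .nil .nil) (.node [(183, (-1), 1, 1)] .nil .nil)) .nil)) (.node [(69, 1, 1, 1)] (.node [] (.node [] .nil (.node [(176, (-1), 1, 1)] .nil .nil)) (.node [] (.node [] .nil (.node [(239, (-1), 1, 1)] .nil .nil)) (.node [(196, (-1), 1, 1)] .nil .nil))) (.node [] (.node [(124, 1, 1, 1)] (.node [(161, 1, 1, 1)] .nil .nil) (.node [] (.node [(229, (-1), 1, 1)] .nil .nil) .nil)) .nil))) (.node [] (.node [] (.node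 [(90, (-1), 1, 1)] .nil .nil) (.node [] (.node [(121, 1, 1, 1)] .nil (.node [(186, (-1), 1, 1)] .nil .nil)) .nil)) (.node [] (.node [] (.node [(113, 1, 1, 1)] .nil .nil) (.node [(134, 1, 1, 1)] (.node [(168, (-1), 1, 1)] (.node [(222, 1, 1, 1)] .nil .nil) .nil) (.node [(197, 1, 1, 1)] .nil .nil))) (.node [] (.node [] (.node [] (.node [(209, (-1), 1, 1)] .nil .nil) .nil) (.node [(193, (-1), 1, 1)] .nil .nil)) .nil)))) (.node [] (.node [(35, 1, 1, 1)] (.node [(61, (-1), 1, 1)] (.node [] .nil (.node [] (.node [] (.node [(217, 1, 1, 1)] .nil .nil) .nil) .nil)) (.node [] (.node [] (.node [(155, (-1), 1, 1)] .nil .nil) .nil) (.node [(136, 1, 1, 1)] .nil .nil))) (.node [] (.node [] (.node [(112, 1, 1, 1)] .nil (.node [(177, 1, 1, 1)] .nil .nil)) (.node [(133, (-1), 1, 1)] (.node [(167, 1, 1, 1)] (.node [(221, 1, 1, 1)] .nil .nil) .nil) .nil)) (.node [] (.node [(125, (-1), 1, 1)] (.node [] .nil (.node [(235, (-1), 1, 1)] .nil .nil)) .nil) (.node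 [] (.node [] (.node [(224, (-1), 1, 1)] .nil .nil) .nil) (.node [] (.node [(232, 1, 1, 1)] .nil .nil) .nil))))) (.node [] (.node [(68, 1, 1, 1)] (.node [(91, (-1), 1, 1)] .nil (.node [] (.node [] .nil (.node [(238, (-1), 1, 1)] .nil .nil)) (.node [(195, 1, 1, 1)] (.node [(231, 1, 1, 1)] .nil .nil) .nil))) (.node [] (.node [(122, (-1), 1, 1)] .nil (.node [(187, 1, 1, 1)] (.node [(228, (-1), 1, 1)] .nil .nil) .nil)) .nil)) (.node [] (.node [(95, (-1), 1, 1)] .nil (.node [] .nil (.node [(198, (-1), 1, 1)] .nil .nil))) (.node [(98, 1, 1, 1)] (.node [(130, 1, 1, 1)] (.node [(164, (-1), 1, 1)] .nil .nil) .nil) (.node [(139, (-1), 1, 1)] .nil (.node [(202, (-1), 1, 1)] .nil .nil)))))))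
def C199 : List (ℕ × List (ℕ × ℤ)) := [(0, [(28, 1)]), (1, [(29, 1)]), (4, [(35, 1)]), (7, [(51, (-1))]), (8, [(61, (-1))]), (10, [(68, 1)]), (11, [(69, 1)]), (15, [(83, 1)]), (17, [(90, (-1))]), (18, [(91, (-1))]), (22, [(95, (-1))]), (23, [(96, (-1))]), (30, [(98, 1)]), (36, [(112, 1)]), (37, [(113, 1)]), (41, [(121, 1)]), (42, [(122, (-1))]), (43, [(124, 1)]), (44, [(125, (-1))]), (46, [(130, 1)]), (52, [(133, (-1))]), (53, [(134, 1)]), (56, [(136, 1)]), (62, [(139, (-1))]), (63, [(140, 1)]), (71, [(154, 1)]), (72, [(155, (-1))]), (75, [(161, 1)]), (78, [(164, (-1))]), (84, [(167, 1)]), (85, [(168, (-1))]), (99, [(176, (-1))]), (100, [(177, 1)]), (103, [(183, (-1))]), (105, [(186, (-1))]), (106, [(187, 1)]), (109, [(193, (-1))]), (114, [(195, 1)]), (115, [(196, (-1))]), (117, [(197, 1)]), (118, [(198, (-1))]), (126, [(202, (-1))]), (127, [(203, (-1))]), (141, [(209, (-1))]), (143, [(216, 1)]), (144, [(217, 1)]), (148, [(221, 1)]),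 (149, [(222, 1)]), (156, [(224, (-1))]), (170, [(228, (-1))]), (171, [(229, (-1))]), (178, [(231, 1)]), (188, [(232, 1)]), (204, [(235, (-1))]), (210, [(238, (-1))]), (211, [(239, (-1))])]
def M200 : Tr (List (ℕ × ℤ × ℕ × ℕ)) := (.node [] (.node [(30, 1, 1, 1)] (.node [(33, 1, 1, 1)] (.node [(52, 1, 1, 1)] (.node [(84, (-1), 1, 1)] .nil (.node [] .nil (.node [(194, (-1), 1, 1)] .nil .nil))) (.node [] .nil (.node [] (.node [] (.node [(223, 1, 1, 1)] .nil .nil) .nil) .nil))) (.node [] (.node [] .nil (.node [(133, 1, 1, 1)] (.node [(167, (-1), 1, 1)] (.node [(219, (-1), 1, 1)] .nil .nil) .nil) .nil)) (.node [] (.node [] .nil (.node [(189, 1, 1, 1)] .nil .nil)) (.node [] (.node [] (.node [(224, 1, 1, 1)] .nil .nil) .nil) (.node [] (.node [(232, (-1), 1, 1)] .nil .nil) .nil))))) (.node [] (.node [(66, 1, 1, 1)] (.node [] .nil (.node [] (.node [] .nil (.node [(238, (-1), 1, 1)] .nil .nil)) (.node [(197, (-1), 1, 1)] (.node [(231, (-1), 1, 1)]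 .nil .nil) .nil))) (.node [(97, 1, 1, 1)] (.node [] (.node [(157, (-1), 1, 1)] .nil .nil) (.node [] (.node [(226, 1, 1, 1)] .nil .nil) .nil)) .nil)) (.node [(70, (-1), 1, 1)] (.node [(93, (-1), 1, 1)] (.node [(117, (-1), 1, 1)] .nil (.node [(179, 1, 1, 1)] .nil .nil)) .nil) (.node [(98, 1, 1, 1)] (.node [(128, 1, 1, 1)] (.node [] (.node [(210, (-1), 1, 1)] .nil .nil) .nil) (.node [] (.node [(230, (-1), 1, 1)] .nil .nil) .nil)) (.node [(139, 1, 1, 1)] .nil (.node [(203, (-1), 1, 1)] .nil .nil)))))) (.node [(31, 1, 1, 1)] (.node [] (.node [(62, 1, 1, 1)] (.node [(88, (-1), 1, 1)] .nil (.node [(131, 1, 1, 1)] (.node [(165, (-1), 1, 1)] .nil (.node [(237, (-1), 1, 1)] .nil .nil)) (.node [(195, 1, 1, 1)] .nil .nil))) (.node [] (.node [] (.node [(156, 1, 1, 1)] .nil .nil) .nil) (.node [] .nil (.node [(201, (-1), 1, 1)] .nil .nil)))) (.node [] (.node [(92, 1, 1, 1)] (.node [(114, 1, 1, 1)] .nil (.node [(178, (-1), 1, 1)] .nil .nil)) .nil) (.node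 [] (.node [(127, (-1), 1, 1)] .nil (.node [(191, (-1), 1, 1)] .nil .nil)) (.node [(138, (-1), 1, 1)] .nil .nil)))) (.node [] (.node [] (.node [] .nil (.node [(132, (-1), 1, 1)] (.node [(166, 1, 1, 1)] (.node [(218, 1, 1, 1)] .nil .nil) .nil) .nil)) (.node [] (.node [(126, 1, 1, 1)] (.node [(159, 1, 1, 1)] .nil .nil) (.node [(188, (-1), 1, 1)] .nil .nil)) (.node [(137, 1, 1, 1)] .nil (.node [(202, 1, 1, 1)] .nil .nil)))) (.node [] (.node [] (.node [(119, 1, 1, 1)] .nil (.node [(181, (-1), 1, 1)] .nil .nil)) .nil) (.node [] (.node [] (.node [] (.node [(214, (-1), 1, 1)] .nil .nil) (.node [(236, (-1), 1, 1)] .nil .nil)) .nil) .nil)))))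
def C200 : List (ℕ × List (ℕ × ℤ)) := [(1, [(30, 1)]), (2, [(31, 1)]), (3, [(33, 1)]), (7, [(52, 1)]), (8, [(62, 1)]), (9, [(66, 1)]), (13, [(70, (-1))]), (15, [(84, (-1))]), (16, [(88, (-1))]), (20, [(92, 1)]), (21, [(93, (-1))]), (25, [(97, 1)]), (29, [(98, 1)]), (36, [(114, 1)]), (37, [(117, (-1))]), (38, [(119, 1)]), (42, [(126, 1)]), (44, [(127, (-1))]), (45, [(128, 1)]), (48, [(131, 1)]), (50, [(132, (-1))]), (51, [(133, 1)]), (58, [(137, 1)]), (60, [(138, (-1))]), (61, [(139, 1)]), (72, [(156, 1)]), (73, [(157, (-1))]), (74, [(159, 1)]), (80, [(165, (-1))]), (82, [(166, 1)]), (83, [(167, (-1))]), (100, [(178, (-1))]), (101, [(179, 1)]), (102, [(181, (-1))]), (106, [(188, (-1))]), (107, [(189, 1)]), (108, [(191, (-1))]), (111, [(194, (-1))]), (112, [(195, 1)]), (113, [(197, (-1))]), (120, [(201, (-1))]), (122, [(202, 1)]), (125, [(203, (-1))]), (141, [(210, (-1))]), (142, [(214, (-1))]), (146, [(218, 1)]), (147, [(219, (-1))]),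 (151, [(223, 1)]), (155, [(224, 1)]), (169, [(226, 1)]), (173, [(230, (-1))]), (177, [(231, (-1))]), (187, [(232, (-1))]), (206, [(236, (-1))]), (208, [(237, (-1))]), (209, [(238, (-1))])]
def M201 : Tr (List (ℕ × ℤ × ℕ × ℕ)) := (.node [(30, 1, 1, 1)] (.node [] (.node [(34, (-1), 1, 1)] (.node [(53, (-1), 1, 1)] (.node [(85, 1, 1, 1)] .nil (.node [(131, 1, 1, 1)] (.node [(165, (-1), 1, 1)] .nil (.node [(237, 1, 1, 1)] .nil .nil)) .nil)) (.node [] (.node [(120, 1, 1, 1)] (.node [(156, 1, 1, 1)] .nil .nil) .nil) (.node [] .nil (.node [(200, (-1), 1, 1)] .nil .nil)))) (.node [] (.node [(92, 1, 1, 1)] (.node [] .nil (.node [(178, (-1), 1, 1)] .nil .nil)) (.node [(134, 1, 1, 1)] (.node [(168, (-1), 1, 1)] (.node [(220, (-1), 1, 1)] .nil .nil) .nil) .nil)) (.node [] (.node [(127, (-1), 1, 1)] .nil (.node [(190, 1, 1, 1)] .nil .nil)) (.node [(138, (-1), 1, 1)] .nil .nil)))) (.node [] (.node [(67, (-1), 1, 1)] (.node [] .nil (.node [(132, (-1),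 1, 1)] (.node [(166, 1, 1, 1)] (.node [(218, (-1), 1, 1)] .nil .nil) (.node [(239, (-1), 1, 1)] .nil .nil)) (.node [(198, (-1), 1, 1)] .nil .nil))) (.node [] (.node [(126, 1, 1, 1)] (.node [(158, (-1), 1, 1)] .nil .nil) (.node [(188, (-1), 1, 1)] (.node [(227, 1, 1, 1)] .nil .nil) .nil)) (.node [(137, 1, 1, 1)] .nil (.node [(202, (-1), 1, 1)] .nil .nil)))) (.node [] (.node [(94, 1, 1, 1)] (.node [(118, 1, 1, 1)] .nil (.node [(180, 1, 1, 1)] .nil .nil)) .nil) (.node [] (.node [(129, 1, 1, 1)] (.node [] (.node [(211, (-1), 1, 1)] .nil .nil) (.node [(236, 1, 1, 1)] .nil .nil)) .nil) (.node [(140, 1, 1, 1)] .nil .nil))))) (.node [(32, (-1), 1, 1)] (.node [] (.node [(63, (-1), 1, 1)] (.node [(89, 1, 1, 1)] .nil (.node [] .nil (.node [(196, 1, 1, 1)] (.node [(231, 1, 1, 1)] .nil .nil) .nil))) (.node [(97, 1, 1, 1)] .nil .nil)) (.node [(70, (-1), 1, 1)] (.node [] (.node [(115, (-1), 1, 1)] .nil .nil) .nil) (.node [(98, 1, 1, 1)] (.node [] .nil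 (.node [(192, (-1), 1, 1)] (.node [(230, 1, 1, 1)] .nil .nil) .nil)) (.node [] .nil (.node [(203, 1, 1, 1)] .nil .nil))))) (.node [] (.node [] .nil (.node [] (.node [] (.node [(160, 1, 1, 1)] .nil .nil) .nil) (.node [] (.node [] (.node [(224, (-1), 1, 1)] .nil .nil) .nil) (.node [] (.node [(232, 1, 1, 1)] .nil .nil) .nil)))) (.node [] (.node [] (.node [] .nil (.node [(182, (-1), 1, 1)] .nil .nil)) (.node [] (.node [] (.node [(223, (-1), 1, 1)] .nil .nil) .nil) .nil)) (.node [] (.node [] (.node [] (.node [(215, (-1), 1, 1)] .nil .nil) .nil) (.node [(194, (-1), 1, 1)] .nil .nil)) .nil)))))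
def C201 : List (ℕ × List (ℕ × ℤ)) := [(0, [(30, 1)]), (2, [(32, (-1))]), (3, [(34, (-1))]), (7, [(53, (-1))]), (8, [(63, (-1))]), (9, [(67, (-1))]), (12, [(70, (-1))]), (15, [(85, 1)]), (16, [(89, 1)]), (19, [(92, 1)]), (21, [(94, 1)]), (24, [(97, 1)]), (28, [(98, 1)]), (36, [(115, (-1))]), (37, [(118, 1)]), (39, [(120, 1)]), (41, [(126, 1)]), (43, [(127, (-1))]), (45, [(129, 1)]), (47, [(131, 1)]), (49, [(132, (-1))]), (51, [(134, 1)]), (57, [(137, 1)]), (59, [(138, (-1))]), (61, [(140, 1)]), (71, [(156, 1)]), (73, [(158, (-1))]), (74, [(160, 1)]), (79, [(165, (-1))]), (81, [(166, 1)]), (83, [(168, (-1))]), (99, [(178, (-1))]), (101, [(180, 1)]), (102, [(182, (-1))]), (105, [(188, (-1))]), (107, [(190, 1)]), (108, [(192, (-1))]), (110, [(194, (-1))]), (112, [(196, 1)]), (113, [(198, (-1))]), (119, [(200, (-1))]), (121, [(202, (-1))]), (124, [(203, 1)]), (141, [(211, (-1))]), (142, [(215, (-1))]), (145, [(218, (-1))]), (147, [(220, (-1))]),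 (150, [(223, (-1))]), (154, [(224, (-1))]), (169, [(227, 1)]), (172, [(230, 1)]), (176, [(231, 1)]), (186, [(232, 1)]), (205, [(236, 1)]), (207, [(237, 1)]), (209, [(239, (-1))])]
def M202 : Tr (List (ℕ × ℤ × ℕ × ℕ)) := (.node [(31, (-1), 1, 1)] (.node [(32, (-1), 1, 1)] (.node [(35, 1, 1, 1)] (.node [(54, 1, 1, 1)] (.node [(86, (-1), 1, 1)] .nil (.node [] (.node [] .nil (.node [(238, 1, 1, 1)] .nil .nil)) (.node [(196, 1, 1, 1)] (.node [(231, (-1), 1, 1)] .nil .nil) .nil))) (.node [(97, 1, 1, 1)] (.node [(122, (-1), 1, 1)] (.node [(157, 1, 1, 1)] .nil .nil) .nil) .nil)) (.node [(70, (-1), 1, 1)] (.node [] (.node [] .nil (.node [(179, (-1), 1, 1)] .nil .nil)) (.node [] (.node [] (.node [(221, (-1), 1, 1)] .nil .nil) .nil) .nil)) (.node [(98, 1, 1, 1)] (.node [(128, (-1), 1, 1)] .nil (.node [] (.node [(230, (-1), 1, 1)] .nil .nil) .nil)) (.node [(139, (-1), 1, 1)] .nil (.node [(203, (-1), 1, 1)] .nil .nil))))) (.node [] (.node [(68, 1,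 1, 1)] (.node [] .nil (.node [(133, (-1), 1, 1)] (.node [(167, 1, 1, 1)] .nil .nil) (.node [(199, (-1), 1, 1)] .nil .nil))) (.node [] (.node [] .nil (.node [(189, (-1), 1, 1)] (.node [(228, 1, 1, 1)] .nil .nil) .nil)) (.node [] (.node [] (.node [(224, 1, 1, 1)] .nil .nil) .nil) (.node [] (.node [(232, (-1), 1, 1)] .nil .nil) .nil)))) (.node [] (.node [(95, (-1), 1, 1)] .nil (.node [] (.node [] (.node [(223, 1, 1, 1)] .nil .nil) .nil) (.node [(200, 1, 1, 1)] .nil .nil))) (.node [] (.node [] (.node [] (.node [(212, (-1), 1, 1)] .nil .nil) .nil) .nil) .nil)))) (.node [] (.node [] (.node [(64, 1, 1, 1)] (.node [(90, (-1), 1, 1)] .nil (.node [] (.node [] (.node [(218, 1, 1, 1)] .nil .nil) (.node [(239, 1, 1, 1)] .nil .nil)) .nil)) (.node [] (.node [(126, 1, 1, 1)] (.node [(158, (-1), 1, 1)] .nil .nil) .nil) (.node [(137, 1, 1, 1)] .nil .nil))) (.node [] (.node [] (.node [(116, 1, 1, 1)] .nil (.node [(180, 1, 1, 1)] .nil .nil)) .nil) (.node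 [] (.node [(129, 1, 1, 1)] (.node [] .nil (.node [(236, (-1), 1, 1)] .nil .nil)) (.node [(193, (-1), 1, 1)] .nil .nil)) (.node [(140, 1, 1, 1)] .nil .nil)))) (.node [] (.node [] (.node [(92, 1, 1, 1)] .nil (.node [(134, 1, 1, 1)] (.node [(168, (-1), 1, 1)] .nil .nil) .nil)) (.node [] (.node [] (.node [(161, 1, 1, 1)] .nil .nil) (.node [(190, 1, 1, 1)] .nil .nil)) .nil)) (.node [] (.node [] (.node [(121, 1, 1, 1)] .nil (.node [(183, (-1), 1, 1)] .nil .nil)) (.node [] .nil (.node [(201, (-1), 1, 1)] .nil .nil))) (.node [] (.node [(131, 1, 1, 1)] (.node [(165, (-1), 1, 1)] (.node [(216, (-1), 1, 1)] .nil .nil) .nil) (.node [(195, (-1), 1, 1)] .nil .nil)) .nil)))))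
def C202 : List (ℕ × List (ℕ × ℤ)) := [(0, [(31, (-1))]), (1, [(32, (-1))]), (3, [(35, 1)]), (7, [(54, 1)]), (8, [(64, 1)]), (9, [(68, 1)]), (11, [(70, (-1))]), (15, [(86, (-1))]), (16, [(90, (-1))]), (18, [(92, 1)]), (21, [(95, (-1))]), (23, [(97, 1)]), (27, [(98, 1)]), (36, [(116, 1)]), (38, [(121, 1)]), (39, [(122, (-1))]), (40, [(126, 1)]), (43, [(128, (-1))]), (44, [(129, 1)]), (46, [(131, 1)]), (49, [(133, (-1))]), (50, [(134, 1)]), (56, [(137, 1)]), (59, [(139, (-1))]), (60, [(140, 1)]), (71, [(157, 1)]), (72, [(158, (-1))]), (74, [(161, 1)]), (78, [(165, (-1))]), (81, [(167, 1)]), (82, [(168, (-1))]), (99, [(179, (-1))]), (100, [(180, 1)]), (102, [(183, (-1))]), (105, [(189, (-1))]), (106, [(190, 1)]), (108, [(193, (-1))]), (110, [(195, (-1))]), (111, [(196, 1)]), (113, [(199, (-1))]), (117, [(200, 1)]), (118, [(201, (-1))]), (123, [(203, (-1))]), (141, [(212, (-1))]), (142, [(216, (-1))]), (144, [(218, 1)]), (147, [(221, (-1))]),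 (149, [(223, 1)]), (153, [(224, 1)]), (169, [(228, 1)]), (171, [(230, (-1))]), (175, [(231, (-1))]), (185, [(232, (-1))]), (204, [(236, (-1))]), (207, [(238, 1)]), (208, [(239, 1)])]
def M203 : Tr (List (ℕ × ℤ × ℕ × ℕ)) := (.node [(33, 1, 1, 1)] (.node [(34, 1, 1, 1)] (.node [] (.node [(55, (-1), 1, 1)] (.node [(87, 1, 1, 1)] .nil (.node [(133, (-1), 1, 1)] (.node [(167, 1, 1, 1)] (.node [(218, (-1), 1, 1)] .nil .nil) .nil) (.node [(198, 1, 1, 1)] .nil .nil))) (.node [] (.node [(125, 1, 1, 1)] (.node [(159, 1, 1, 1)] .nil .nil) .nil) .nil)) (.node [] (.node [] (.node [] .nil (.node [(181, (-1), 1, 1)] .nil .nil)) (.node [] (.node [] (.node [(222, (-1), 1, 1)] .nil .nil) .nil) (.node [(201, 1, 1, 1)] .nil .nil))) (.node [] (.node [] .nil (.node [(193, (-1), 1, 1)] .nil .nil)) .nil))) (.node [] (.node [(69, (-1), 1, 1)] (.node [(92, 1, 1, 1)] .nil .nil) (.node [] (.node [(128, (-1), 1, 1)] (.node [(161, 1, 1, 1)] .nil .nil) (.node [(191,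 (-1), 1, 1)] (.node [(229, 1, 1, 1)] .nil .nil) .nil)) (.node [(139, (-1), 1, 1)] .nil .nil))) (.node [] (.node [(96, 1, 1, 1)] (.node [(123, 1, 1, 1)] .nil (.node [(183, (-1), 1, 1)] .nil .nil)) .nil) (.node [] (.node [] (.node [] (.node [(213, (-1), 1, 1)] .nil .nil) (.node [(238, (-1), 1, 1)] .nil .nil)) .nil) .nil)))) (.node [(35, 1, 1, 1)] (.node [] (.node [(65, (-1), 1, 1)] (.node [(91, 1, 1, 1)] .nil (.node [(134, 1, 1, 1)] (.node [(168, (-1), 1, 1)] .nil .nil) (.node [(199, (-1), 1, 1)] .nil .nil))) (.node [] (.node [(127, 1, 1, 1)] (.node [(160, (-1), 1, 1)] .nil .nil) .nil) (.node [(138, 1, 1, 1)] (.node [] (.node [(224, (-1), 1, 1)] .nil .nil) .nil) (.node [] (.node [(232, 1, 1, 1)] .nil .nil) .nil)))) (.node [] (.node [] (.node [] .nil (.node [(182, 1, 1, 1)] .nil .nil)) (.node [] (.node [] (.node [(223, (-1), 1, 1)] .nil .nil) .nil) (.node [(202, (-1), 1, 1)] .nil .nil))) (.node [] (.node [] (.node [] .nil (.node [(237, (-1),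 1, 1)] .nil .nil)) .nil) .nil))) (.node [] (.node [(70, (-1), 1, 1)] (.node [] .nil (.node [] .nil (.node [(200, (-1), 1, 1)] .nil .nil))) (.node [(98, 1, 1, 1)] (.node [(129, 1, 1, 1)] .nil (.node [(192, 1, 1, 1)] (.node [(230, 1, 1, 1)] .nil .nil) .nil)) (.node [(140, 1, 1, 1)] .nil .nil))) (.node [] (.node [(97, 1, 1, 1)] (.node [(124, (-1), 1, 1)] .nil .nil) .nil) (.node [] (.node [(132, 1, 1, 1)] (.node [(166, (-1), 1, 1)] (.node [(217, (-1), 1, 1)] .nil .nil) (.node [(239, (-1), 1, 1)] .nil .nil)) (.node [(197, (-1), 1, 1)] (.node [(231, 1, 1, 1)] .nil .nil) .nil)) .nil)))))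
def C203 : List (ℕ × List (ℕ × ℤ)) := [(0, [(33, 1)]), (1, [(34, 1)]), (2, [(35, 1)]), (7, [(55, (-1))]), (8, [(65, (-1))]), (9, [(69, (-1))]), (10, [(70, (-1))]), (15, [(87, 1)]), (16, [(91, 1)]), (17, [(92, 1)]), (21, [(96, 1)]), (22, [(97, 1)]), (26, [(98, 1)]), (37, [(123, 1)]), (38, [(124, (-1))]), (39, [(125, 1)]), (40, [(127, 1)]), (41, [(128, (-1))]), (42, [(129, 1)]), (46, [(132, 1)]), (47, [(133, (-1))]), (48, [(134, 1)]), (56, [(138, 1)]), (57, [(139, (-1))]), (58, [(140, 1)]), (71, [(159, 1)]), (72, [(160, (-1))]), (73, [(161, 1)]), (78, [(166, (-1))]), (79, [(167, 1)]), (80, [(168, (-1))]), (99, [(181, (-1))]), (100, [(182, 1)]), (101, [(183, (-1))]), (105, [(191, (-1))]), (106, [(192, 1)]), (107, [(193, (-1))]), (110, [(197, (-1))]), (111, [(198, 1)]), (112, [(199, (-1))]), (114, [(200, (-1))]), (115, [(201, 1)]), (116, [(202, (-1))]), (141, [(213, (-1))]), (142, [(217, (-1))]), (143, [(218, (-1))]), (147, [(222, (-1))]),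 (148, [(223, (-1))]), (152, [(224, (-1))]), (169, [(229, 1)]), (170, [(230, 1)]), (174, [(231, 1)]), (184, [(232, 1)]), (204, [(237, (-1))]), (205, [(238, (-1))]), (206, [(239, (-1))])]
def M204 : Tr (List (ℕ × ℤ × ℕ × ℕ)) := (.node [] (.node [] (.node [(37, (-1), 1, 1)] (.node [] (.node [] (.node [(114, (-1), 1, 1)] .nil (.node [(184, 1, 1, 1)] .nil .nil)) .nil) (.node [] (.node [] (.node [] .nil (.node [(235, 1, 1, 1)] .nil .nil)) (.node [] (.node [(226, 1, 1, 1)] .nil .nil) .nil)) (.node [(144, (-1), 1, 1)] (.node [(171, (-1), 1, 1)] .nil .nil) (.node [] (.node [(233, 1, 1, 1)] .nil .nil) .nil)))) (.node [] (.node [(99, 1, 1, 1)] .nil (.node [(142, (-1), 1, 1)] (.node [(169, (-1), 1, 1)] .nil .nil) .nil)) (.node [] (.node [] (.node [] (.node [(219, (-1), 1, 1)] .nil .nil) (.node [(237, 1, 1, 1)] .nil .nil)) .nil) (.node [] (.node [(175, 1, 1, 1)] .nil .nil) .nil)))) (.node [(46, (-1), 1, 1)] (.node [] (.node [] (.node [(117, 1, 1,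 1)] (.node [(149, 1, 1, 1)] (.node [(211, (-1), 1, 1)] .nil .nil) (.node [(234, 1, 1, 1)] .nil .nil)) (.node [(188, 1, 1, 1)] (.node [(225, (-1), 1, 1)] .nil .nil) .nil)) .nil) (.node [(106, (-1), 1, 1)] .nil (.node [] .nil (.node [(205, (-1), 1, 1)] .nil .nil)))) (.node [(72, (-1), 1, 1)] (.node [] (.node [] (.node [(153, (-1), 1, 1)] (.node [(214, 1, 1, 1)] .nil .nil) .nil) .nil) .nil) (.node [(111, 1, 1, 1)] (.node [(141, 1, 1, 1)] .nil .nil) (.node [(147, 1, 1, 1)] .nil (.node [(208, 1, 1, 1)] .nil .nil)))))) (.node [(36, (-1), 1, 1)] (.node [(40, (-1), 1, 1)] (.node [] (.node [] (.node [(115, (-1), 1, 1)] (.node [(148, (-1), 1, 1)] (.node [(210, (-1), 1, 1)] .nil .nil) .nil) (.node [(185, (-1), 1, 1)] .nil .nil)) .nil) (.node [(105, (-1), 1, 1)] (.node [] .nil (.node [] (.node [(227, 1, 1, 1)] .nil .nil) .nil)) .nil)) (.node [(71, (-1), 1, 1)] (.node [(100, 1, 1, 1)] (.node [] (.node [(152, 1, 1, 1)] .nil .nil) .nil) .nil) (.node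 [(110, 1, 1, 1)] (.node [] (.node [] (.node [(220, (-1), 1, 1)] .nil .nil) .nil) .nil) (.node [] (.node [(178, (-1), 1, 1)] .nil .nil) (.node [(207, 1, 1, 1)] .nil .nil))))) (.node [(56, (-1), 1, 1)] (.node [] (.node [] (.node [(118, 1, 1, 1)] .nil (.node [(194, (-1), 1, 1)] .nil .nil)) .nil) (.node [] (.node [] (.node [] .nil (.node [(236, 1, 1, 1)] .nil .nil)) .nil) (.node [] (.node [(174, (-1), 1, 1)] .nil .nil) (.node [(206, (-1), 1, 1)] .nil .nil)))) (.node [(78, 1, 1, 1)] (.node [] (.node [] (.node [(156, 1, 1, 1)] (.node [(215, 1, 1, 1)] .nil .nil) .nil) .nil) (.node [(143, 1, 1, 1)] (.node [(170, 1, 1, 1)] .nil .nil) .nil)) .nil))))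
def C204 : List (ℕ × List (ℕ × ℤ)) := [(2, [(36, (-1))]), (3, [(37, (-1))]), (4, [(40, (-1))]), (5, [(46, (-1))]), (6, [(56, (-1))]), (12, [(71, (-1))]), (13, [(72, (-1))]), (14, [(78, 1)]), (19, [(99, 1)]), (20, [(100, 1)]), (24, [(105, (-1))]), (25, [(106, (-1))]), (28, [(110, 1)]), (29, [(111, 1)]), (31, [(114, (-1))]), (32, [(115, (-1))]), (33, [(117, 1)]), (34, [(118, 1)]), (45, [(141, 1)]), (51, [(142, (-1))]), (54, [(143, 1)]), (55, [(144, (-1))]), (61, [(147, 1)]), (64, [(148, (-1))]), (65, [(149, 1)]), (68, [(152, 1)]), (69, [(153, (-1))]), (70, [(156, 1)]), (83, [(169, (-1))]), (86, [(170, 1)]), (87, [(171, (-1))]), (90, [(174, (-1))]), (91, [(175, 1)]), (92, [(178, (-1))]), (95, [(184, 1)]), (96, [(185, (-1))]), (97, [(188, 1)]), (98, [(194, (-1))]), (121, [(205, (-1))]), (122, [(206, (-1))]), (124, [(207, 1)]), (125, [(208, 1)]), (128, [(210, (-1))]), (129, [(211, (-1))]), (133, [(214, 1)]), (134, [(215, 1)]), (139, [(219,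 (-1))]), (140, [(220, (-1))]), (161, [(225, (-1))]), (167, [(226, 1)]), (168, [(227, 1)]), (183, [(233, 1)]), (193, [(234, 1)]), (199, [(235, 1)]), (202, [(236, 1)]), (203, [(237, 1)])]
def M205 : Tr (List (ℕ × ℤ × ℕ × ℕ)) := (.node [] (.node [(36, (-1), 1, 1)] (.node [(38, 1, 1, 1)] (.node [] (.node [] (.node [] (.node [(148, (-1), 1, 1)] (.node [(210, 1, 1, 1)] .nil .nil) .nil) .nil) .nil) (.node [(105, (-1), 1, 1)] .nil (.node [(145, (-1), 1, 1)] (.node [(172, (-1), 1, 1)] .nil .nil) .nil))) (.node [(71, (-1), 1, 1)] (.node [] (.node [(121, 1, 1, 1)] (.node [(152, 1, 1, 1)] .nil .nil) .nil) .nil) (.node [(110, 1, 1, 1)] (.node [] (.node [] .nil (.node [(238, 1, 1, 1)] .nil .nil)) .nil) (.node [] (.node [(176, 1, 1, 1)] .nil .nil) (.node [(207, (-1), 1, 1)] .nil .nil))))) (.node [(47, 1, 1, 1)] (.node [] (.node [] (.node [(119, 1, 1, 1)] (.node [(150, 1, 1, 1)] (.node [(212, (-1), 1, 1)] .nil .nil) .nil) (.node [(189, 1, 1, 1)] .nil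 .nil)) .nil) (.node [(107, 1, 1, 1)] (.node [] (.node [] .nil (.node [(236, (-1), 1, 1)] .nil .nil)) .nil) (.node [] (.node [(174, (-1), 1, 1)] .nil .nil) .nil))) (.node [(73, 1, 1, 1)] (.node [] (.node [] (.node [(154, (-1), 1, 1)] .nil .nil) .nil) (.node [(143, 1, 1, 1)] (.node [(170, 1, 1, 1)] .nil .nil) .nil)) (.node [(112, (-1), 1, 1)] .nil (.node [] .nil (.node [(209, 1, 1, 1)] .nil .nil)))))) (.node [] (.node [(41, 1, 1, 1)] (.node [] (.node [] (.node [(116, 1, 1, 1)] (.node [] .nil (.node [(234, (-1), 1, 1)] .nil .nil)) (.node [(186, (-1), 1, 1)] (.node [(225, 1, 1, 1)] .nil .nil) .nil)) .nil) (.node [] (.node [] .nil (.node [] (.node [(228, 1, 1, 1)] .nil .nil) .nil)) (.node [] .nil (.node [(206, (-1), 1, 1)] .nil .nil)))) (.node [] (.node [(101, (-1), 1, 1)] (.node [] (.node [] (.node [(214, (-1), 1, 1)] .nil .nil) .nil) .nil) .nil) (.node [] (.node [(141, 1, 1, 1)] (.node [] (.node [(221, (-1), 1, 1)] .nil .nil) .nil) .nil)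 (.node [(147, 1, 1, 1)] (.node [(179, (-1), 1, 1)] .nil .nil) .nil)))) (.node [(57, 1, 1, 1)] (.node [] (.node [(99, 1, 1, 1)] (.node [] .nil (.node [(195, (-1), 1, 1)] .nil .nil)) (.node [(142, (-1), 1, 1)] (.node [(169, (-1), 1, 1)] .nil .nil) .nil)) (.node [] (.node [] (.node [] (.node [(219, 1, 1, 1)] .nil .nil) .nil) .nil) .nil)) (.node [(79, (-1), 1, 1)] (.node [] (.node [] (.node [(157, 1, 1, 1)] (.node [(216, 1, 1, 1)] .nil .nil) (.node [(235, (-1), 1, 1)] .nil .nil)) (.node [] (.node [(226, (-1), 1, 1)] .nil .nil) .nil)) (.node [] .nil (.node [(204, (-1), 1, 1)] (.node [(233, (-1), 1, 1)] .nil .nil) .nil))) (.node [(114, (-1), 1, 1)] .nil (.node [] (.node [(184, 1, 1, 1)] .nil .nil) .nil))))))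
def C205 : List (ℕ × List (ℕ × ℤ)) := [(1, [(36, (-1))]), (3, [(38, 1)]), (4, [(41, 1)]), (5, [(47, 1)]), (6, [(57, 1)]), (11, [(71, (-1))]), (13, [(73, 1)]), (14, [(79, (-1))]), (18, [(99, 1)]), (20, [(101, (-1))]), (23, [(105, (-1))]), (25, [(107, 1)]), (27, [(110, 1)]), (29, [(112, (-1))]), (30, [(114, (-1))]), (32, [(116, 1)]), (33, [(119, 1)]), (35, [(121, 1)]), (44, [(141, 1)]), (50, [(142, (-1))]), (53, [(143, 1)]), (55, [(145, (-1))]), (60, [(147, 1)]), (63, [(148, (-1))]), (65, [(150, 1)]), (67, [(152, 1)]), (69, [(154, (-1))]), (70, [(157, 1)]), (82, [(169, (-1))]), (85, [(170, 1)]), (87, [(172, (-1))]), (89, [(174, (-1))]), (91, [(176, 1)]), (92, [(179, (-1))]), (94, [(184, 1)]), (96, [(186, (-1))]), (97, [(189, 1)]), (98, [(195, (-1))]), (118, [(204, (-1))]), (120, [(206, (-1))]), (123, [(207, (-1))]), (125, [(209, 1)]), (127, [(210, 1)]), (129, [(212, (-1))]), (132, [(214, (-1))]), (134, [(216, 1)]), (138, [(219, 1)]), (140,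 [(221, (-1))]), (160, [(225, 1)]), (166, [(226, (-1))]), (168, [(228, 1)]), (182, [(233, (-1))]), (192, [(234, (-1))]), (198, [(235, (-1))]), (201, [(236, (-1))]), (203, [(238, 1)])]
def M206 : Tr (List (ℕ × ℤ × ℕ × ℕ)) := (.node [(36, (-1), 1, 1)] (.node [] (.node [(39, (-1), 1, 1)] (.node [] (.node [] (.node [(116, 1, 1, 1)] (.node [] (.node [(211, 1, 1, 1)] .nil .nil) (.node [(234, 1, 1, 1)] .nil .nil)) (.node [] (.node [(225, (-1), 1, 1)] .nil .nil) .nil)) .nil) (.node [(106, 1, 1, 1)] (.node [] .nil (.node [] (.node [(228, (-1), 1, 1)] .nil .nil) .nil)) (.node [(146, (-1), 1, 1)] (.node [(173, (-1), 1, 1)] .nil .nil) (.node [(205, (-1), 1, 1)] .nil .nil)))) (.node [(72, 1, 1, 1)] (.node [(101, (-1), 1, 1)] (.node [(122, 1, 1, 1)] .nil .nil) .nil) (.node [(111, (-1), 1, 1)] (.node [(141, 1, 1, 1)] (.node [] (.node [(221, 1, 1, 1)] .nil .nil) (.node [(239, 1, 1, 1)] .nil .nil)) .nil) (.node [(147, 1, 1, 1)] (.node [(177, 1, 1, 1)]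 .nil .nil) (.node [(208, (-1), 1, 1)] .nil .nil))))) (.node [(48, (-1), 1, 1)] (.node [] (.node [] (.node [] (.node [(151, 1, 1, 1)] .nil .nil) (.node [(190, 1, 1, 1)] .nil .nil)) (.node [(142, (-1), 1, 1)] (.node [(169, (-1), 1, 1)] .nil .nil) .nil)) .nil) (.node [] (.node [] (.node [] (.node [(155, (-1), 1, 1)] (.node [(216, (-1), 1, 1)] .nil .nil) (.node [(235, 1, 1, 1)] .nil .nil)) .nil) (.node [] .nil (.node [(204, (-1), 1, 1)] (.node [(233, 1, 1, 1)] .nil .nil) .nil))) (.node [] .nil (.node [] (.node [(184, 1, 1, 1)] .nil .nil) .nil))))) (.node [] (.node [(42, (-1), 1, 1)] (.node [] (.node [] (.node [] (.node [] (.node [(212, 1, 1, 1)] .nil .nil) .nil) (.node [(187, (-1), 1, 1)] .nil .nil)) .nil) (.node [(107, 1, 1, 1)] (.node [] (.node [] .nil (.node [(236, 1, 1, 1)] .nil .nil)) .nil) (.node [] (.node [(174, (-1), 1, 1)] .nil .nil) .nil))) (.node [(73, 1, 1, 1)] (.node [] (.node [] (.node [] (.node [(215, (-1), 1, 1)] .nil .nil)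 .nil) .nil) (.node [(143, 1, 1, 1)] (.node [(170, 1, 1, 1)] .nil .nil) .nil)) (.node [(112, (-1), 1, 1)] .nil (.node [] (.node [(180, (-1), 1, 1)] .nil .nil) (.node [(209, (-1), 1, 1)] .nil .nil))))) (.node [(58, (-1), 1, 1)] (.node [] (.node [(100, (-1), 1, 1)] (.node [(120, 1, 1, 1)] (.node [(152, 1, 1, 1)] .nil .nil) (.node [(196, (-1), 1, 1)] .nil .nil)) .nil) (.node [] (.node [] (.node [] (.node [(220, 1, 1, 1)] .nil .nil) .nil) .nil) .nil)) (.node [(80, 1, 1, 1)] (.node [] (.node [] (.node [(158, 1, 1, 1)] .nil .nil) (.node [] (.node [(227, (-1), 1, 1)] .nil .nil) .nil)) .nil) (.node [(115, 1, 1, 1)] .nil (.node [(148, (-1), 1, 1)] .nil .nil))))))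
def C206 : List (ℕ × List (ℕ × ℤ)) := [(0, [(36, (-1))]), (3, [(39, (-1))]), (4, [(42, (-1))]), (5, [(48, (-1))]), (6, [(58, (-1))]), (11, [(72, 1)]), (12, [(73, 1)]), (14, [(80, 1)]), (18, [(100, (-1))]), (19, [(101, (-1))]), (23, [(106, 1)]), (24, [(107, 1)]), (27, [(111, (-1))]), (28, [(112, (-1))]), (30, [(115, 1)]), (31, [(116, 1)]), (34, [(120, 1)]), (35, [(122, 1)]), (43, [(141, 1)]), (49, [(142, (-1))]), (52, [(143, 1)]), (55, [(146, (-1))]), (59, [(147, 1)]), (62, [(148, (-1))]), (65, [(151, 1)]), (66, [(152, 1)]), (69, [(155, (-1))]), (70, [(158, 1)]), (81, [(169, (-1))]), (84, [(170, 1)]), (87, [(173, (-1))]), (88, [(174, (-1))]), (91, [(177, 1)]), (92, [(180, (-1))]), (93, [(184, 1)]), (96, [(187, (-1))]), (97, [(190, 1)]), (98, [(196, (-1))]), (117, [(204, (-1))]), (119, [(205, (-1))]), (123, [(208, (-1))]), (124, [(209, (-1))]), (127, [(211, 1)]), (128, [(212, 1)]), (132, [(215, (-1))]), (133, [(216, (-1))]), (138, [(220,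 1)]), (139, [(221, 1)]), (159, [(225, (-1))]), (166, [(227, (-1))]), (167, [(228, (-1))]), (181, [(233, 1)]), (191, [(234, 1)]), (197, [(235, 1)]), (200, [(236, 1)]), (203, [(239, 1)])]
def M207 : Tr (List (ℕ × ℤ × ℕ × ℕ)) := (.node [] (.node [(37, 1, 1, 1)] (.node [] (.node [] (.node [] (.node [(119, 1, 1, 1)] (.node [(149, (-1), 1, 1)] .nil .nil) (.node [(186, (-1), 1, 1)] .nil .nil)) .nil) .nil) (.node [] (.node [] (.node [(124, (-1), 1, 1)] (.node [(153, 1, 1, 1)] (.node [(214, 1, 1, 1)] .nil .nil) .nil) .nil) (.node [] .nil (.node [(204, 1, 1, 1)] .nil .nil))) .nil)) (.node [(49, (-1), 1, 1)] (.node [] (.node [(99, 1, 1, 1)] (.node [] (.node [] (.node [(213, (-1), 1, 1)] .nil .nil) .nil) (.node [(191, 1, 1, 1)] .nil .nil)) .nil) (.node [(108, (-1), 1, 1)] (.node [] (.node [] (.node [(219, (-1), 1, 1)] .nil .nil) (.node [(237, (-1), 1, 1)] .nil .nil)) .nil) (.node [] (.node [(175, (-1), 1, 1)] .nil .nil) .nil))) (.node [(74, (-1),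 1, 1)] (.node [] (.node [] .nil (.node [] (.node [(226, 1, 1, 1)] .nil .nil) .nil)) (.node [(144, 1, 1, 1)] (.node [(171, 1, 1, 1)] .nil .nil) .nil)) (.node [(113, 1, 1, 1)] .nil .nil)))) (.node [(38, 1, 1, 1)] (.node [(43, (-1), 1, 1)] (.node [] (.node [] (.node [] (.node [(150, 1, 1, 1)] .nil .nil) .nil) (.node [(142, (-1), 1, 1)] (.node [(169, (-1), 1, 1)] .nil .nil) .nil)) (.node [] (.node [] .nil (.node [] (.node [(229, 1, 1, 1)] .nil .nil) .nil)) (.node [] .nil (.node [(208, (-1), 1, 1)] .nil .nil)))) (.node [] (.node [(102, 1, 1, 1)] (.node [] (.node [(154, (-1), 1, 1)] .nil (.node [(235, 1, 1, 1)] .nil .nil)) .nil) (.node [] .nil (.node [(205, (-1), 1, 1)] (.node [(233, 1, 1, 1)] .nil .nil) .nil))) (.node [] (.node [] (.node [] (.node [(222, (-1), 1, 1)] .nil .nil) .nil) .nil) (.node [] (.node [(181, (-1), 1, 1)] .nil .nil) .nil)))) (.node [(59, (-1), 1, 1)] (.node [(71, (-1), 1, 1)] (.node [] (.node [(123, 1, 1, 1)] .nil (.node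 [(197, (-1), 1, 1)] .nil .nil)) .nil) (.node [(110, 1, 1, 1)] (.node [(141, 1, 1, 1)] (.node [] .nil (.node [(238, (-1), 1, 1)] .nil .nil)) .nil) (.node [(147, 1, 1, 1)] (.node [(176, 1, 1, 1)] .nil .nil) (.node [(209, 1, 1, 1)] .nil .nil)))) (.node [(81, 1, 1, 1)] (.node [(105, (-1), 1, 1)] (.node [] (.node [(159, 1, 1, 1)] (.node [(217, 1, 1, 1)] .nil .nil) .nil) .nil) (.node [(145, (-1), 1, 1)] (.node [(172, (-1), 1, 1)] .nil .nil) .nil)) (.node [(117, (-1), 1, 1)] .nil (.node [] (.node [(185, 1, 1, 1)] (.node [(225, (-1), 1, 1)] .nil .nil) .nil) (.node [(210, (-1), 1, 1)] (.node [(234, 1, 1, 1)] .nil .nil) .nil)))))))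
def C207 : List (ℕ × List (ℕ × ℤ)) := [(1, [(37, 1)]), (2, [(38, 1)]), (4, [(43, (-1))]), (5, [(49, (-1))]), (6, [(59, (-1))]), (10, [(71, (-1))]), (13, [(74, (-1))]), (14, [(81, 1)]), (17, [(99, 1)]), (20, [(102, 1)]), (22, [(105, (-1))]), (25, [(108, (-1))]), (26, [(110, 1)]), (29, [(113, 1)]), (30, [(117, (-1))]), (31, [(119, 1)]), (34, [(123, 1)]), (35, [(124, (-1))]), (42, [(141, 1)]), (48, [(142, (-1))]), (53, [(144, 1)]), (54, [(145, (-1))]), (58, [(147, 1)]), (63, [(149, (-1))]), (64, [(150, 1)]), (67, [(153, 1)]), (68, [(154, (-1))]), (70, [(159, 1)]), (80, [(169, (-1))]), (85, [(171, 1)]), (86, [(172, (-1))]), (89, [(175, (-1))]), (90, [(176, 1)]), (92, [(181, (-1))]), (94, [(185, 1)]), (95, [(186, (-1))]), (97, [(191, 1)]), (98, [(197, (-1))]), (115, [(204, 1)]), (116, [(205, (-1))]), (120, [(208, (-1))]), (122, [(209, 1)]), (126, [(210, (-1))]), (129, [(213, (-1))]), (131, [(214, 1)]), (134, [(217, 1)]), (137, [(219, (-1))]),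 (140, [(222, (-1))]), (158, [(225, (-1))]), (165, [(226, 1)]), (168, [(229, 1)]), (180, [(233, 1)]), (190, [(234, 1)]), (196, [(235, 1)]), (201, [(237, (-1))]), (202, [(238, (-1))])]
def M208 : Tr (List (ℕ × ℤ × ℕ × ℕ)) := (.node [(37, 1, 1, 1)] (.node [] (.node [] (.node [] (.node [] (.node [] .nil (.node [(187, (-1), 1, 1)] .nil .nil)) (.node [(142, (-1), 1, 1)] (.node [(169, (-1), 1, 1)] .nil .nil) .nil)) (.node [] (.node [] .nil (.node [] (.node [(229, (-1), 1, 1)] .nil .nil) .nil)) (.node [] .nil (.node [(207, (-1), 1, 1)] .nil .nil)))) (.node [] (.node [(102, 1, 1, 1)] (.node [(125, (-1), 1, 1)] (.node [] (.node [(215, 1, 1, 1)] .nil .nil) (.node [(235, (-1), 1, 1)] .nil .nil)) .nil) (.node [] .nil (.node [] (.node [(233, (-1), 1, 1)] .nil .nil) .nil))) (.node [] (.node [] (.node [] (.node [(222, 1, 1, 1)] .nil .nil) .nil) .nil) .nil))) (.node [(50, 1, 1, 1)] (.node [] (.node [(100, (-1), 1, 1)] (.node [(123, 1, 1, 1)] .nil (.node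 [(192, 1, 1, 1)] .nil .nil)) .nil) (.node [] (.node [(141, 1, 1, 1)] (.node [] (.node [(220, (-1), 1, 1)] .nil .nil) .nil) .nil) (.node [(147, 1, 1, 1)] .nil (.node [(209, (-1), 1, 1)] .nil .nil)))) (.node [] (.node [] (.node [] (.node [] (.node [(217, (-1), 1, 1)] .nil .nil) .nil) (.node [] (.node [(227, 1, 1, 1)] .nil .nil) .nil)) .nil) (.node [] .nil (.node [] (.node [(185, 1, 1, 1)] (.node [(225, 1, 1, 1)] .nil .nil) .nil) (.node [] (.node [(234, (-1), 1, 1)] .nil .nil) .nil)))))) (.node [(39, (-1), 1, 1)] (.node [(44, 1, 1, 1)] (.node [] (.node [] (.node [(120, 1, 1, 1)] (.node [(151, 1, 1, 1)] (.node [(213, 1, 1, 1)] .nil .nil) .nil) .nil) .nil) (.node [(108, (-1), 1, 1)] (.node [] (.node [] .nil (.node [(237, 1, 1, 1)] .nil .nil)) .nil) (.node [] (.node [(175, (-1), 1, 1)] .nil .nil) .nil))) (.node [(74, (-1), 1, 1)] (.node [] (.node [] (.node [(155, (-1), 1, 1)] .nil .nil) .nil) (.node [(144, 1, 1, 1)] (.node [(171, 1, 1, 1)]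 .nil .nil) (.node [(206, (-1), 1, 1)] .nil .nil))) (.node [(113, 1, 1, 1)] .nil (.node [] (.node [(182, (-1), 1, 1)] .nil .nil) .nil)))) (.node [(60, 1, 1, 1)] (.node [(72, 1, 1, 1)] (.node [] (.node [] (.node [(153, 1, 1, 1)] .nil .nil) (.node [(198, (-1), 1, 1)] .nil .nil)) (.node [] .nil (.node [(204, 1, 1, 1)] .nil .nil))) (.node [(111, (-1), 1, 1)] (.node [] (.node [] .nil (.node [(239, (-1), 1, 1)] .nil .nil)) .nil) (.node [] (.node [(177, 1, 1, 1)] .nil .nil) .nil))) (.node [(82, (-1), 1, 1)] (.node [(106, 1, 1, 1)] (.node [] (.node [(160, 1, 1, 1)] .nil .nil) .nil) (.node [(146, (-1), 1, 1)] (.node [(173, (-1), 1, 1)] .nil .nil) .nil)) (.node [(118, 1, 1, 1)] .nil (.node [(149, (-1), 1, 1)] .nil (.node [(211, (-1), 1, 1)] .nil .nil)))))))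
def C208 : List (ℕ × List (ℕ × ℤ)) := [(0, [(37, 1)]), (2, [(39, (-1))]), (4, [(44, 1)]), (5, [(50, 1)]), (6, [(60, 1)]), (10, [(72, 1)]), (12, [(74, (-1))]), (14, [(82, (-1))]), (17, [(100, (-1))]), (19, [(102, 1)]), (22, [(106, 1)]), (24, [(108, (-1))]), (26, [(111, (-1))]), (28, [(113, 1)]), (30, [(118, 1)]), (32, [(120, 1)]), (33, [(123, 1)]), (35, [(125, (-1))]), (41, [(141, 1)]), (47, [(142, (-1))]), (52, [(144, 1)]), (54, [(146, (-1))]), (57, [(147, 1)]), (62, [(149, (-1))]), (64, [(151, 1)]), (66, [(153, 1)]), (68, [(155, (-1))]), (70, [(160, 1)]), (79, [(169, (-1))]), (84, [(171, 1)]), (86, [(173, (-1))]), (88, [(175, (-1))]), (90, [(177, 1)]), (92, [(182, (-1))]), (93, [(185, 1)]), (95, [(187, (-1))]), (97, [(192, 1)]), (98, [(198, (-1))]), (114, [(204, 1)]), (116, [(206, (-1))]), (119, [(207, (-1))]), (121, [(209, (-1))]), (126, [(211, (-1))]), (128, [(213, 1)]), (131, [(215, 1)]), (133, [(217, (-1))]), (137, [(220, (-1))]),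 (139, [(222, 1)]), (157, [(225, 1)]), (165, [(227, 1)]), (167, [(229, (-1))]), (179, [(233, (-1))]), (189, [(234, (-1))]), (195, [(235, (-1))]), (200, [(237, 1)]), (202, [(239, (-1))])]
def M209 : Tr (List (ℕ × ℤ × ℕ × ℕ)) := (.node [(38, (-1), 1, 1)] (.node [(39, (-1), 1, 1)] (.node [] (.node [] (.node [] (.node [(121, 1, 1, 1)] (.node [(151, 1, 1, 1)] (.node [(213, (-1), 1, 1)] .nil .nil) .nil) .nil) .nil) (.node [(108, (-1), 1, 1)] .nil .nil)) (.node [(74, (-1), 1, 1)] (.node [] (.node [] (.node [(155, (-1), 1, 1)] (.node [(216, 1, 1, 1)] .nil .nil) .nil) .nil) (.node [] .nil (.node [(206, (-1), 1, 1)] .nil .nil))) (.node [(113, 1, 1, 1)] .nil .nil))) (.node [(51, (-1), 1, 1)] (.node [] (.node [(101, 1, 1, 1)] (.node [(124, 1, 1, 1)] .nil (.node [(193, 1, 1, 1)] .nil .nil)) .nil) (.node [] (.node [] (.node [] (.node [(221, (-1), 1, 1)] .nil .nil) (.node [(239, 1, 1, 1)] .nil .nil)) .nil) (.node [] (.node [(177, 1, 1, 1)] .nil .nil)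 .nil))) (.node [] (.node [] (.node [] .nil (.node [] (.node [(228, 1, 1, 1)] .nil .nil) .nil)) (.node [(146, (-1), 1, 1)] (.node [(173, (-1), 1, 1)] .nil .nil) (.node [(207, 1, 1, 1)] .nil .nil))) (.node [] .nil (.node [] (.node [(186, 1, 1, 1)] .nil .nil) .nil))))) (.node [] (.node [(45, (-1), 1, 1)] (.node [] (.node [] (.node [(122, (-1), 1, 1)] .nil .nil) .nil) (.node [] (.node [(141, 1, 1, 1)] (.node [] .nil (.node [(238, 1, 1, 1)] .nil .nil)) .nil) (.node [(147, 1, 1, 1)] (.node [(176, (-1), 1, 1)] .nil .nil) .nil))) (.node [] (.node [] (.node [] (.node [] (.node [(217, 1, 1, 1)] .nil .nil) .nil) .nil) (.node [(145, 1, 1, 1)] (.node [(172, 1, 1, 1)] .nil .nil) .nil)) (.node [] .nil (.node [] (.node [(183, (-1), 1, 1)] (.node [(225, (-1), 1, 1)] .nil .nil) .nil) (.node [] (.node [(234, 1, 1, 1)] .nil .nil) .nil))))) (.node [(61, (-1), 1, 1)] (.node [(73, (-1), 1, 1)] (.node [(102, 1, 1, 1)] (.node [(125, (-1), 1, 1)] (.node [(154,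 1, 1, 1)] .nil (.node [(235, 1, 1, 1)] .nil .nil)) (.node [(199, (-1), 1, 1)] .nil .nil)) (.node [] .nil (.node [(205, 1, 1, 1)] (.node [(233, 1, 1, 1)] .nil .nil) .nil))) (.node [(112, 1, 1, 1)] (.node [] (.node [] (.node [(222, (-1), 1, 1)] .nil .nil) .nil) .nil) .nil)) (.node [(83, 1, 1, 1)] (.node [(107, (-1), 1, 1)] (.node [] (.node [(161, 1, 1, 1)] .nil .nil) (.node [] (.node [(229, 1, 1, 1)] .nil .nil) .nil)) (.node [] .nil (.node [(208, (-1), 1, 1)] .nil .nil))) (.node [] (.node [(142, (-1), 1, 1)] (.node [(169, (-1), 1, 1)] .nil .nil) .nil) (.node [(150, (-1), 1, 1)] (.node [(187, (-1), 1, 1)] .nil .nil) (.node [(212, (-1), 1, 1)] .nil .nil)))))))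
def C209 : List (ℕ × List (ℕ × ℤ)) := [(0, [(38, (-1))]), (1, [(39, (-1))]), (4, [(45, (-1))]), (5, [(51, (-1))]), (6, [(61, (-1))]), (10, [(73, (-1))]), (11, [(74, (-1))]), (14, [(83, 1)]), (17, [(101, 1)]), (18, [(102, 1)]), (22, [(107, (-1))]), (23, [(108, (-1))]), (26, [(112, 1)]), (27, [(113, 1)]), (31, [(121, 1)]), (32, [(122, (-1))]), (33, [(124, 1)]), (34, [(125, (-1))]), (40, [(141, 1)]), (46, [(142, (-1))]), (52, [(145, 1)]), (53, [(146, (-1))]), (56, [(147, 1)]), (62, [(150, (-1))]), (63, [(151, 1)]), (66, [(154, 1)]), (67, [(155, (-1))]), (70, [(161, 1)]), (78, [(169, (-1))]), (84, [(172, 1)]), (85, [(173, (-1))]), (88, [(176, (-1))]), (89, [(177, 1)]), (92, [(183, (-1))]), (93, [(186, 1)]), (94, [(187, (-1))]), (97, [(193, 1)]), (98, [(199, (-1))]), (114, [(205, 1)]), (115, [(206, (-1))]), (117, [(207, 1)]), (118, [(208, (-1))]), (126, [(212, (-1))]), (127, [(213, (-1))]), (131, [(216, 1)]), (132, [(217, 1)]), (137, [(221,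 (-1))]), (138, [(222, (-1))]), (156, [(225, (-1))]), (165, [(228, 1)]), (166, [(229, 1)]), (178, [(233, 1)]), (188, [(234, 1)]), (194, [(235, 1)]), (200, [(238, 1)]), (201, [(239, 1)])]
def M210 : Tr (List (ℕ × ℤ × ℕ × ℕ)) := (.node [] (.node [(40, (-1), 1, 1)] (.node [(43, (-1), 1, 1)] (.node [] (.node [] (.node [] .nil (.node [(189, (-1), 1, 1)] .nil .nil)) (.node [] .nil (.node [(204, (-1), 1, 1)] .nil .nil))) (.node [] (.node [(141, 1, 1, 1)] (.node [] .nil (.node [(238, 1, 1, 1)] .nil .nil)) .nil) .nil)) (.node [] (.node [] (.node [(128, 1, 1, 1)] (.node [(156, 1, 1, 1)] .nil .nil) .nil) (.node [(145, (-1), 1, 1)] (.node [(172, (-1), 1, 1)] .nil .nil) .nil)) (.node [(117, (-1), 1, 1)] .nil (.node [] (.node [(181, (-1), 1, 1)] (.node [(225, 1, 1, 1)] .nil .nil) .nil) (.node [] (.node [(234, (-1), 1, 1)] .nil .nil) .nil))))) (.node [(52, 1, 1, 1)] (.node [(71, (-1), 1, 1)] (.node [] .nil (.node [] .nil (.node [(207, (-1), 1, 1)] (.node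 [(233, (-1), 1, 1)] .nil .nil) .nil))) (.node [(109, 1, 1, 1)] .nil (.node [] (.node [(178, (-1), 1, 1)] .nil .nil) .nil))) (.node [(75, 1, 1, 1)] (.node [(105, (-1), 1, 1)] (.node [] (.node [(159, 1, 1, 1)] .nil .nil) .nil) .nil) (.node [] .nil (.node [(150, 1, 1, 1)] .nil (.node [(213, (-1), 1, 1)] .nil .nil)))))) (.node [(41, (-1), 1, 1)] (.node [] (.node [] (.node [(99, 1, 1, 1)] (.node [(126, 1, 1, 1)] .nil (.node [(191, 1, 1, 1)] .nil .nil)) (.node [(143, (-1), 1, 1)] (.node [(170, (-1), 1, 1)] .nil .nil) (.node [(205, 1, 1, 1)] .nil .nil))) (.node [] (.node [] (.node [] (.node [(219, 1, 1, 1)] .nil .nil) .nil) (.node [] (.node [(230, 1, 1, 1)] .nil .nil) .nil)) (.node [] .nil (.node [(211, (-1), 1, 1)] .nil .nil)))) (.node [] (.node [(103, (-1), 1, 1)] (.node [] (.node [(157, (-1), 1, 1)] .nil (.node [(236, 1, 1, 1)] .nil .nil)) (.node [] (.node [(226, (-1), 1, 1)] .nil .nil) .nil)) .nil) (.node [(119, 1, 1, 1)] (.node [] (.node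 [] (.node [(223, (-1), 1, 1)] .nil .nil) .nil) .nil) (.node [(149, (-1), 1, 1)] .nil .nil)))) (.node [(62, 1, 1, 1)] (.node [] (.node [] (.node [(127, (-1), 1, 1)] (.node [] (.node [(214, (-1), 1, 1)] .nil .nil) .nil) (.node [(200, (-1), 1, 1)] .nil .nil)) (.node [(144, 1, 1, 1)] (.node [(171, 1, 1, 1)] .nil .nil) .nil)) (.node [(114, 1, 1, 1)] .nil (.node [(148, 1, 1, 1)] (.node [(179, 1, 1, 1)] .nil .nil) (.node [(212, 1, 1, 1)] .nil .nil)))) (.node [(84, (-1), 1, 1)] (.node [] (.node [] (.node [] (.node [(218, 1, 1, 1)] .nil .nil) (.node [(237, 1, 1, 1)] .nil .nil)) .nil) .nil) (.node [] .nil (.node [] (.node [(188, 1, 1, 1)] .nil .nil) .nil))))))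
def C210 : List (ℕ × List (ℕ × ℤ)) := [(1, [(40, (-1))]), (2, [(41, (-1))]), (3, [(43, (-1))]), (5, [(52, 1)]), (6, [(62, 1)]), (9, [(71, (-1))]), (13, [(75, 1)]), (14, [(84, (-1))]), (16, [(99, 1)]), (20, [(103, (-1))]), (21, [(105, (-1))]), (25, [(109, 1)]), (26, [(114, 1)]), (27, [(117, (-1))]), (28, [(119, 1)]), (32, [(126, 1)]), (34, [(127, (-1))]), (35, [(128, 1)]), (39, [(141, 1)]), (48, [(143, (-1))]), (50, [(144, 1)]), (51, [(145, (-1))]), (58, [(148, 1)]), (60, [(149, (-1))]), (61, [(150, 1)]), (67, [(156, 1)]), (68, [(157, (-1))]), (69, [(159, 1)]), (80, [(170, (-1))]), (82, [(171, 1)]), (83, [(172, (-1))]), (89, [(178, (-1))]), (90, [(179, 1)]), (91, [(181, (-1))]), (94, [(188, 1)]), (95, [(189, (-1))]), (96, [(191, 1)]), (98, [(200, (-1))]), (111, [(204, (-1))]), (112, [(205, 1)]), (113, [(207, (-1))]), (120, [(211, (-1))]), (122, [(212, 1)]), (125, [(213, (-1))]), (130, [(214, (-1))]), (134, [(218, 1)]), (136, [(219, 1)]),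 (140, [(223, (-1))]), (155, [(225, 1)]), (164, [(226, (-1))]), (168, [(230, 1)]), (177, [(233, (-1))]), (187, [(234, (-1))]), (196, [(236, 1)]), (198, [(237, 1)]), (199, [(238, 1)])]
def M211 : Tr (List (ℕ × ℤ × ℕ × ℕ)) := (.node [(40, (-1), 1, 1)] (.node [] (.node [(44, 1, 1, 1)] (.node [] (.node [] (.node [(126, 1, 1, 1)] .nil (.node [(190, (-1), 1, 1)] .nil .nil)) (.node [(143, (-1), 1, 1)] (.node [(170, (-1), 1, 1)] .nil .nil) .nil)) (.node [] (.node [] (.node [] .nil (.node [(239, 1, 1, 1)] .nil .nil)) (.node [] (.node [(230, (-1), 1, 1)] .nil .nil) .nil)) (.node [] .nil (.node [(210, (-1), 1, 1)] .nil .nil)))) (.node [] (.node [(103, (-1), 1, 1)] (.node [(129, 1, 1, 1)] (.node [] .nil (.node [(236, (-1), 1, 1)] .nil .nil)) .nil) (.node [(146, (-1), 1, 1)] (.node [(173, (-1), 1, 1)] .nil .nil) .nil)) (.node [(118, 1, 1, 1)] (.node [] (.node [] (.node [(223, 1, 1, 1)] .nil .nil) .nil) .nil) (.node [(149, (-1), 1, 1)] (.node [(182,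 (-1), 1, 1)] .nil .nil) .nil)))) (.node [(53, (-1), 1, 1)] (.node [(72, 1, 1, 1)] (.node [] (.node [(127, (-1), 1, 1)] .nil .nil) (.node [(144, 1, 1, 1)] (.node [(171, 1, 1, 1)] .nil .nil) (.node [(208, (-1), 1, 1)] .nil .nil))) (.node [] .nil (.node [(148, 1, 1, 1)] .nil (.node [(212, (-1), 1, 1)] .nil .nil)))) (.node [] (.node [(106, 1, 1, 1)] (.node [] (.node [(160, 1, 1, 1)] (.node [(218, (-1), 1, 1)] .nil .nil) (.node [(237, (-1), 1, 1)] .nil .nil)) .nil) .nil) (.node [(120, 1, 1, 1)] .nil (.node [(151, 1, 1, 1)] (.node [(188, 1, 1, 1)] .nil .nil) .nil))))) (.node [(42, 1, 1, 1)] (.node [] (.node [] (.node [(100, (-1), 1, 1)] (.node [] .nil (.node [(192, 1, 1, 1)] .nil .nil)) (.node [] .nil (.node [(206, 1, 1, 1)] (.node [(233, 1, 1, 1)] .nil .nil) .nil))) (.node [(109, 1, 1, 1)] (.node [] (.node [] (.node [(220, 1, 1, 1)] .nil .nil) .nil) .nil) (.node [] (.node [(178, (-1), 1, 1)] .nil .nil) .nil))) (.node [(75, 1, 1, 1)] (.node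 [] (.node [] (.node [(158, (-1), 1, 1)] .nil .nil) (.node [] (.node [(227, (-1), 1, 1)] .nil .nil) .nil)) .nil) (.node [] .nil (.node [] .nil (.node [(213, 1, 1, 1)] .nil .nil))))) (.node [(63, (-1), 1, 1)] (.node [] (.node [] (.node [] (.node [(156, 1, 1, 1)] (.node [(215, (-1), 1, 1)] .nil .nil) .nil) (.node [(201, (-1), 1, 1)] .nil .nil)) .nil) (.node [(115, (-1), 1, 1)] .nil (.node [] (.node [(180, 1, 1, 1)] (.node [(225, (-1), 1, 1)] .nil .nil) .nil) (.node [] (.node [(234, 1, 1, 1)] .nil .nil) .nil)))) (.node [(85, 1, 1, 1)] (.node [] (.node [(141, 1, 1, 1)] .nil .nil) .nil) (.node [] (.node [] .nil (.node [(204, (-1), 1, 1)] .nil .nil)) .nil)))))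
def C211 : List (ℕ × List (ℕ × ℤ)) := [(0, [(40, (-1))]), (2, [(42, 1)]), (3, [(44, 1)]), (5, [(53, (-1))]), (6, [(63, (-1))]), (9, [(72, 1)]), (12, [(75, 1)]), (14, [(85, 1)]), (16, [(100, (-1))]), (19, [(103, (-1))]), (21, [(106, 1)]), (24, [(109, 1)]), (26, [(115, (-1))]), (27, [(118, 1)]), (29, [(120, 1)]), (31, [(126, 1)]), (33, [(127, (-1))]), (35, [(129, 1)]), (38, [(141, 1)]), (47, [(143, (-1))]), (49, [(144, 1)]), (51, [(146, (-1))]), (57, [(148, 1)]), (59, [(149, (-1))]), (61, [(151, 1)]), (66, [(156, 1)]), (68, [(158, (-1))]), (69, [(160, 1)]), (79, [(170, (-1))]), (81, [(171, 1)]), (83, [(173, (-1))]), (88, [(178, (-1))]), (90, [(180, 1)]), (91, [(182, (-1))]), (93, [(188, 1)]), (95, [(190, (-1))]), (96, [(192, 1)]), (98, [(201, (-1))]), (110, [(204, (-1))]), (112, [(206, 1)]), (113, [(208, (-1))]), (119, [(210, (-1))]), (121, [(212, (-1))]), (124, [(213, 1)]), (130, [(215, (-1))]), (133, [(218, (-1))]), (136, [(220, 1)]),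 (139, [(223, 1)]), (154, [(225, (-1))]), (164, [(227, (-1))]), (167, [(230, (-1))]), (176, [(233, 1)]), (186, [(234, 1)]), (195, [(236, (-1))]), (197, [(237, (-1))]), (199, [(239, 1)])]
def M212 : Tr (List (ℕ × ℤ × ℕ × ℕ)) := (.node [(41, 1, 1, 1)] (.node [(42, 1, 1, 1)] (.node [(45, (-1), 1, 1)] (.node [] (.node [] .nil (.node [] .nil (.node [(206, 1, 1, 1)] (.node [(233, (-1), 1, 1)] .nil .nil) .nil))) (.node [(109, 1, 1, 1)] .nil .nil)) (.node [(75, 1, 1, 1)] (.node [] (.node [] (.node [(158, (-1), 1, 1)] .nil .nil) .nil) .nil) (.node [] .nil (.node [(150, (-1), 1, 1)] (.node [(183, (-1), 1, 1)] .nil .nil) (.node [(213, (-1), 1, 1)] .nil .nil))))) (.node [(54, 1, 1, 1)] (.node [(73, (-1), 1, 1)] (.node [] (.node [(128, (-1), 1, 1)] .nil .nil) (.node [(145, 1, 1, 1)] (.node [(172, 1, 1, 1)] .nil .nil) (.node [(209, (-1), 1, 1)] .nil .nil))) (.node [] .nil (.node [] (.node [(180, 1, 1, 1)] (.node [(225, 1, 1, 1)] .nil .nil) .nil) (.node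 [] (.node [(234, (-1), 1, 1)] .nil .nil) .nil)))) (.node [] (.node [(107, (-1), 1, 1)] (.node [(141, 1, 1, 1)] (.node [(161, 1, 1, 1)] .nil (.node [(238, (-1), 1, 1)] .nil .nil)) .nil) (.node [] .nil (.node [(210, 1, 1, 1)] .nil .nil))) (.node [(122, (-1), 1, 1)] .nil (.node [] (.node [(189, 1, 1, 1)] .nil .nil) .nil))))) (.node [] (.node [] (.node [] (.node [(101, 1, 1, 1)] (.node [] .nil (.node [(193, 1, 1, 1)] .nil .nil)) .nil) (.node [] (.node [] (.node [] (.node [(221, 1, 1, 1)] .nil .nil) .nil) .nil) (.node [(148, 1, 1, 1)] (.node [(179, (-1), 1, 1)] .nil .nil) .nil))) (.node [] (.node [] (.node [] (.node [] (.node [(218, 1, 1, 1)] .nil .nil) .nil) (.node [] (.node [(228, (-1), 1, 1)] .nil .nil) .nil)) .nil) (.node [(121, 1, 1, 1)] .nil (.node [(151, 1, 1, 1)] .nil .nil)))) (.node [(64, 1, 1, 1)] (.node [] (.node [(103, (-1), 1, 1)] (.node [(129, 1, 1, 1)] (.node [(157, 1, 1, 1)] (.node [(216, (-1), 1, 1)] .nil .nil) (.node [(236,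 1, 1, 1)] .nil .nil)) (.node [(202, (-1), 1, 1)] .nil .nil)) (.node [(146, (-1), 1, 1)] (.node [(173, (-1), 1, 1)] .nil .nil) .nil)) (.node [(116, 1, 1, 1)] (.node [] (.node [] (.node [(223, (-1), 1, 1)] .nil .nil) .nil) .nil) .nil)) (.node [(86, (-1), 1, 1)] (.node [] (.node [] (.node [] .nil (.node [(239, (-1), 1, 1)] .nil .nil)) (.node [] (.node [(230, 1, 1, 1)] .nil .nil) .nil)) (.node [] .nil (.node [(211, (-1), 1, 1)] .nil .nil))) (.node [(126, 1, 1, 1)] (.node [(143, (-1), 1, 1)] (.node [(170, (-1), 1, 1)] .nil .nil) (.node [(205, (-1), 1, 1)] .nil .nil)) (.node [] (.node [(190, (-1), 1, 1)] .nil .nil) .nil))))))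
def C212 : List (ℕ × List (ℕ × ℤ)) := [(0, [(41, 1)]), (1, [(42, 1)]), (3, [(45, (-1))]), (5, [(54, 1)]), (6, [(64, 1)]), (9, [(73, (-1))]), (11, [(75, 1)]), (14, [(86, (-1))]), (16, [(101, 1)]), (18, [(103, (-1))]), (21, [(107, (-1))]), (23, [(109, 1)]), (26, [(116, 1)]), (28, [(121, 1)]), (29, [(122, (-1))]), (30, [(126, 1)]), (33, [(128, (-1))]), (34, [(129, 1)]), (37, [(141, 1)]), (46, [(143, (-1))]), (49, [(145, 1)]), (50, [(146, (-1))]), (56, [(148, 1)]), (59, [(150, (-1))]), (60, [(151, 1)]), (66, [(157, 1)]), (67, [(158, (-1))]), (69, [(161, 1)]), (78, [(170, (-1))]), (81, [(172, 1)]), (82, [(173, (-1))]), (88, [(179, (-1))]), (89, [(180, 1)]), (91, [(183, (-1))]), (93, [(189, 1)]), (94, [(190, (-1))]), (96, [(193, 1)]), (98, [(202, (-1))]), (110, [(205, (-1))]), (111, [(206, 1)]), (113, [(209, (-1))]), (117, [(210, 1)]), (118, [(211, (-1))]), (123, [(213, (-1))]), (130, [(216, (-1))]), (132, [(218, 1)]), (136, [(221, 1)]), (138,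 [(223, (-1))]), (153, [(225, 1)]), (164, [(228, (-1))]), (166, [(230, 1)]), (175, [(233, (-1))]), (185, [(234, (-1))]), (194, [(236, 1)]), (197, [(238, (-1))]), (198, [(239, (-1))])]
def M213 : Tr (List (ℕ × ℤ × ℕ × ℕ)) := (.node [(43, (-1), 1, 1)] (.node [(44, (-1), 1, 1)] (.node [] (.node [] (.node [] (.node [(128, (-1), 1, 1)] .nil (.node [(193, 1, 1, 1)] .nil .nil)) (.node [(145, 1, 1, 1)] (.node [(172, 1, 1, 1)] .nil .nil) (.node [(208, 1, 1, 1)] .nil .nil))) .nil) (.node [] (.node [] (.node [] (.node [(160, (-1), 1, 1)] (.node [(218, (-1), 1, 1)] .nil .nil) (.node [(238, 1, 1, 1)] .nil .nil)) .nil) (.node [] .nil (.node [(211, 1, 1, 1)] .nil .nil))) (.node [(123, 1, 1, 1)] .nil .nil))) (.node [(55, (-1), 1, 1)] (.node [(74, 1, 1, 1)] (.node [(103, (-1), 1, 1)] .nil .nil) (.node [] (.node [] (.node [] (.node [(223, 1, 1, 1)] .nil .nil) .nil) .nil) (.node [(150, (-1), 1, 1)] (.node [(182, 1, 1, 1)] .nil .nil) .nil))) (.node [] (.node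 [(108, 1, 1, 1)] (.node [] .nil (.node [] (.node [(230, (-1), 1, 1)] .nil .nil) .nil)) .nil) (.node [(125, 1, 1, 1)] .nil (.node [] (.node [(191, 1, 1, 1)] .nil .nil) .nil))))) (.node [(45, (-1), 1, 1)] (.node [] (.node [] (.node [(102, (-1), 1, 1)] (.node [(129, 1, 1, 1)] .nil .nil) (.node [(146, (-1), 1, 1)] (.node [(173, (-1), 1, 1)] .nil .nil) (.node [(209, (-1), 1, 1)] .nil .nil))) (.node [] (.node [] (.node [] (.node [(222, 1, 1, 1)] .nil .nil) .nil) .nil) (.node [(149, 1, 1, 1)] (.node [(181, (-1), 1, 1)] (.node [(225, (-1), 1, 1)] .nil .nil) .nil) (.node [] (.node [(234, 1, 1, 1)] .nil .nil) .nil)))) (.node [] (.node [] (.node [(141, 1, 1, 1)] (.node [(161, 1, 1, 1)] .nil (.node [(239, 1, 1, 1)] .nil .nil)) (.node [] (.node [(229, (-1), 1, 1)] .nil .nil) .nil)) (.node [] .nil (.node [(212, (-1), 1, 1)] .nil .nil))) (.node [(124, (-1), 1, 1)] .nil .nil))) (.node [(65, (-1), 1, 1)] (.node [(75, 1, 1, 1)] (.node [] (.node [] (.node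 [(159, 1, 1, 1)] (.node [(217, (-1), 1, 1)] .nil .nil) (.node [(237, 1, 1, 1)] .nil .nil)) (.node [(203, (-1), 1, 1)] .nil .nil)) (.node [] .nil (.node [(210, (-1), 1, 1)] .nil .nil))) (.node [] .nil (.node [(151, 1, 1, 1)] (.node [(183, (-1), 1, 1)] .nil .nil) .nil))) (.node [(87, 1, 1, 1)] (.node [(109, 1, 1, 1)] .nil .nil) (.node [(127, 1, 1, 1)] (.node [(144, (-1), 1, 1)] (.node [(171, (-1), 1, 1)] .nil .nil) (.node [(207, (-1), 1, 1)] (.node [(233, 1, 1, 1)] .nil .nil) .nil)) (.node [] (.node [(192, (-1), 1, 1)] .nil .nil) .nil))))))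
def C213 : List (ℕ × List (ℕ × ℤ)) := [(0, [(43, (-1))]), (1, [(44, (-1))]), (2, [(45, (-1))]), (5, [(55, (-1))]), (6, [(65, (-1))]), (9, [(74, 1)]), (10, [(75, 1)]), (14, [(87, 1)]), (16, [(102, (-1))]), (17, [(103, (-1))]), (21, [(108, 1)]), (22, [(109, 1)]), (27, [(123, 1)]), (28, [(124, (-1))]), (29, [(125, 1)]), (30, [(127, 1)]), (31, [(128, (-1))]), (32, [(129, 1)]), (36, [(141, 1)]), (46, [(144, (-1))]), (47, [(145, 1)]), (48, [(146, (-1))]), (56, [(149, 1)]), (57, [(150, (-1))]), (58, [(151, 1)]), (66, [(159, 1)]), (67, [(160, (-1))]), (68, [(161, 1)]), (78, [(171, (-1))]), (79, [(172, 1)]), (80, [(173, (-1))]), (88, [(181, (-1))]), (89, [(182, 1)]), (90, [(183, (-1))]), (93, [(191, 1)]), (94, [(192, (-1))]), (95, [(193, 1)]), (98, [(203, (-1))]), (110, [(207, (-1))]), (111, [(208, 1)]), (112, [(209, (-1))]), (114, [(210, (-1))]), (115, [(211, 1)]), (116, [(212, (-1))]), (130, [(217, (-1))]), (131, [(218, (-1))]), (136, [(222,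 1)]), (137, [(223, 1)]), (152, [(225, (-1))]), (164, [(229, (-1))]), (165, [(230, (-1))]), (174, [(233, 1)]), (184, [(234, 1)]), (194, [(237, 1)]), (195, [(238, 1)]), (196, [(239, 1)])]
def M214 : Tr (List (ℕ × ℤ × ℕ × ℕ)) := (.node [] (.node [(46, 1, 1, 1)] (.node [(49, 1, 1, 1)] (.node [] (.node [(99, 1, 1, 1)] (.node [] (.node [(156, 1, 1, 1)] .nil .nil) (.node [(195, (-1), 1, 1)] .nil .nil)) .nil) (.node [(117, (-1), 1, 1)] (.node [(142, 1, 1, 1)] (.node [] (.node [(219, (-1), 1, 1)] .nil .nil) .nil) .nil) (.node [] (.node [(181, (-1), 1, 1)] (.node [(225, (-1), 1, 1)] .nil .nil) .nil) .nil))) (.node [] (.node [] (.node [(133, (-1), 1, 1)] .nil (.node [] (.node [(226, 1, 1, 1)] .nil .nil) .nil)) (.node [] (.node [(176, (-1), 1, 1)] .nil .nil) .nil)) (.node [] (.node [] .nil (.node [(205, (-1), 1, 1)] .nil .nil)) (.node [] .nil (.node [] (.node [(235, (-1), 1, 1)] .nil .nil) .nil))))) (.node [] (.node [] (.node [] (.node [] (.node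 [(159, 1, 1, 1)] (.node [(218, 1, 1, 1)] .nil .nil) (.node [(238, (-1), 1, 1)] .nil .nil)) (.node [(200, (-1), 1, 1)] .nil .nil)) .nil) .nil) (.node [(76, (-1), 1, 1)] (.node [(110, (-1), 1, 1)] .nil (.node [] (.node [(178, (-1), 1, 1)] .nil .nil) .nil)) (.node [(130, 1, 1, 1)] (.node [(145, (-1), 1, 1)] .nil (.node [(210, (-1), 1, 1)] (.node [(233, 1, 1, 1)] .nil .nil) .nil)) (.node [(154, 1, 1, 1)] .nil (.node [(217, (-1), 1, 1)] .nil .nil)))))) (.node [(47, 1, 1, 1)] (.node [(52, 1, 1, 1)] (.node [(71, (-1), 1, 1)] (.node [] (.node [(131, (-1), 1, 1)] (.node [(157, (-1), 1, 1)] .nil (.node [(237, (-1), 1, 1)] .nil .nil)) (.node [(197, 1, 1, 1)] .nil .nil)) (.node [] (.node [(174, (-1), 1, 1)] .nil .nil) .nil)) (.node [(119, 1, 1, 1)] (.node [] .nil (.node [] (.node [(231, 1, 1, 1)] .nil .nil) .nil)) (.node [] .nil (.node [(215, (-1), 1, 1)] .nil .nil)))) (.node [] (.node [(104, 1, 1, 1)] .nil .nil) (.node [] (.node [(144, 1, 1, 1)]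 (.node [] (.node [(224, (-1), 1, 1)] .nil .nil) .nil) (.node [(207, 1, 1, 1)] .nil .nil)) (.node [(153, (-1), 1, 1)] .nil .nil)))) (.node [(66, (-1), 1, 1)] (.node [] (.node [] (.node [(132, 1, 1, 1)] .nil .nil) (.node [] (.node [(175, 1, 1, 1)] .nil .nil) .nil)) (.node [] (.node [(143, (-1), 1, 1)] .nil (.node [(204, 1, 1, 1)] .nil .nil)) (.node [(152, 1, 1, 1)] .nil (.node [(216, 1, 1, 1)] .nil .nil)))) (.node [(88, 1, 1, 1)] (.node [(114, 1, 1, 1)] .nil (.node [] (.node [(179, 1, 1, 1)] .nil .nil) .nil)) (.node [] .nil (.node [] (.node [(194, 1, 1, 1)] .nil .nil) (.node [] (.node [(236, (-1), 1, 1)] .nil .nil) .nil)))))))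
def C214 : List (ℕ × List (ℕ × ℤ)) := [(1, [(46, 1)]), (2, [(47, 1)]), (3, [(49, 1)]), (4, [(52, 1)]), (6, [(66, (-1))]), (8, [(71, (-1))]), (13, [(76, (-1))]), (14, [(88, 1)]), (15, [(99, 1)]), (20, [(104, 1)]), (21, [(110, (-1))]), (22, [(114, 1)]), (23, [(117, (-1))]), (24, [(119, 1)]), (29, [(130, 1)]), (32, [(131, (-1))]), (34, [(132, 1)]), (35, [(133, (-1))]), (39, [(142, 1)]), (42, [(143, (-1))]), (44, [(144, 1)]), (45, [(145, (-1))]), (58, [(152, 1)]), (60, [(153, (-1))]), (61, [(154, 1)]), (63, [(156, 1)]), (64, [(157, (-1))]), (65, [(159, 1)]), (80, [(174, (-1))]), (82, [(175, 1)]), (83, [(176, (-1))]), (85, [(178, (-1))]), (86, [(179, 1)]), (87, [(181, (-1))]), (94, [(194, 1)]), (95, [(195, (-1))]), (96, [(197, 1)]), (97, [(200, (-1))]), (106, [(204, 1)]), (107, [(205, (-1))]), (108, [(207, 1)]), (109, [(210, (-1))]), (120, [(215, (-1))]), (122, [(216, 1)]), (125, [(217, (-1))]), (129, [(218, 1)]), (135, [(219, (-1))]), (140,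 [(224, (-1))]), (151, [(225, (-1))]), (163, [(226, 1)]), (168, [(231, 1)]), (173, [(233, 1)]), (187, [(235, (-1))]), (190, [(236, (-1))]), (192, [(237, (-1))]), (193, [(238, (-1))])]
def M215 : Tr (List (ℕ × ℤ × ℕ × ℕ)) := (.node [(46, 1, 1, 1)] (.node [] (.node [(50, (-1), 1, 1)] (.node [] (.node [(100, (-1), 1, 1)] (.node [(131, (-1), 1, 1)] (.node [] .nil (.node [(237, 1, 1, 1)] .nil .nil)) (.node [(196, (-1), 1, 1)] .nil .nil)) (.node [] (.node [(174, (-1), 1, 1)] .nil .nil) .nil)) (.node [(118, 1, 1, 1)] (.node [] (.node [] (.node [(220, (-1), 1, 1)] .nil .nil) .nil) (.node [] (.node [(231, (-1), 1, 1)] .nil .nil) .nil)) (.node [] (.node [(182, (-1), 1, 1)] .nil .nil) (.node [(214, (-1), 1, 1)] .nil .nil)))) (.node [] (.node [(104, 1, 1, 1)] (.node [(134, (-1), 1, 1)] .nil (.node [] (.node [(227, 1, 1, 1)] .nil .nil) .nil)) (.node [] (.node [(177, (-1), 1, 1)] .nil .nil) .nil)) (.node [] (.node [(144, 1, 1, 1)] (.node [] (.node [(224,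 1, 1, 1)] .nil .nil) .nil) (.node [(206, (-1), 1, 1)] .nil .nil)) (.node [(153, (-1), 1, 1)] .nil .nil)))) (.node [] (.node [] (.node [] (.node [(132, 1, 1, 1)] (.node [(160, 1, 1, 1)] .nil (.node [(239, (-1), 1, 1)] .nil .nil)) (.node [(201, (-1), 1, 1)] .nil .nil)) (.node [] (.node [(175, 1, 1, 1)] .nil .nil) .nil)) (.node [(120, 1, 1, 1)] (.node [(143, (-1), 1, 1)] .nil (.node [(204, 1, 1, 1)] .nil .nil)) (.node [(152, 1, 1, 1)] .nil (.node [(216, (-1), 1, 1)] .nil .nil)))) (.node [] (.node [(111, 1, 1, 1)] .nil .nil) (.node [] (.node [(146, (-1), 1, 1)] .nil (.node [(211, (-1), 1, 1)] .nil .nil)) (.node [(155, 1, 1, 1)] (.node [(194, 1, 1, 1)] .nil .nil) (.node [] (.node [(236, 1, 1, 1)] .nil .nil) .nil)))))) (.node [(48, (-1), 1, 1)] (.node [(53, (-1), 1, 1)] (.node [(72, 1, 1, 1)] (.node [] (.node [] (.node [(158, (-1), 1, 1)] (.node [(218, (-1), 1, 1)] .nil .nil) .nil) (.node [(198, 1, 1, 1)] .nil .nil)) .nil) .nil) (.node [(76,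 (-1), 1, 1)] (.node [] .nil (.node [] (.node [(178, (-1), 1, 1)] .nil .nil) .nil)) (.node [(130, 1, 1, 1)] (.node [] .nil (.node [(208, 1, 1, 1)] (.node [(233, (-1), 1, 1)] .nil .nil) .nil)) (.node [] .nil (.node [(217, 1, 1, 1)] .nil .nil))))) (.node [(67, 1, 1, 1)] (.node [] .nil (.node [] .nil (.node [] .nil (.node [] (.node [(235, 1, 1, 1)] .nil .nil) .nil)))) (.node [(89, (-1), 1, 1)] (.node [(115, (-1), 1, 1)] (.node [(142, 1, 1, 1)] .nil .nil) (.node [] (.node [(180, 1, 1, 1)] (.node [(225, 1, 1, 1)] .nil .nil) .nil) .nil)) (.node [] .nil (.node [(156, 1, 1, 1)] .nil .nil))))))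
def C215 : List (ℕ × List (ℕ × ℤ)) := [(0, [(46, 1)]), (2, [(48, (-1))]), (3, [(50, (-1))]), (4, [(53, (-1))]), (6, [(67, 1)]), (8, [(72, 1)]), (12, [(76, (-1))]), (14, [(89, (-1))]), (15, [(100, (-1))]), (19, [(104, 1)]), (21, [(111, 1)]), (22, [(115, (-1))]), (23, [(118, 1)]), (25, [(120, 1)]), (28, [(130, 1)]), (31, [(131, (-1))]), (33, [(132, 1)]), (35, [(134, (-1))]), (38, [(142, 1)]), (41, [(143, (-1))]), (43, [(144, 1)]), (45, [(146, (-1))]), (57, [(152, 1)]), (59, [(153, (-1))]), (61, [(155, 1)]), (62, [(156, 1)]), (64, [(158, (-1))]), (65, [(160, 1)]), (79, [(174, (-1))]), (81, [(175, 1)]), (83, [(177, (-1))]), (84, [(178, (-1))]), (86, [(180, 1)]), (87, [(182, (-1))]), (93, [(194, 1)]), (95, [(196, (-1))]), (96, [(198, 1)]), (97, [(201, (-1))]), (105, [(204, 1)]), (107, [(206, (-1))]), (108, [(208, 1)]), (109, [(211, (-1))]), (119, [(214, (-1))]), (121, [(216, (-1))]), (124, [(217, 1)]), (128, [(218, (-1))]), (135, [(220, (-1))]),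 (139, [(224, 1)]), (150, [(225, 1)]), (163, [(227, 1)]), (167, [(231, (-1))]), (172, [(233, (-1))]), (186, [(235, 1)]), (189, [(236, 1)]), (191, [(237, 1)]), (193, [(239, (-1))])]
def M216 : Tr (List (ℕ × ℤ × ℕ × ℕ)) := (.node [(47, (-1), 1, 1)] (.node [(48, (-1), 1, 1)] (.node [(51, 1, 1, 1)] (.node [] (.node [(101, 1, 1, 1)] (.node [] (.node [(158, (-1), 1, 1)] (.node [(218, 1, 1, 1)] .nil .nil) (.node [(238, 1, 1, 1)] .nil .nil)) .nil) .nil) (.node [] (.node [] (.node [] (.node [(221, (-1), 1, 1)] .nil .nil) .nil) .nil) (.node [] (.node [(183, (-1), 1, 1)] .nil .nil) .nil))) (.node [(76, (-1), 1, 1)] (.node [] (.node [] .nil (.node [] (.node [(228, 1, 1, 1)] .nil .nil) .nil)) .nil) (.node [(130, 1, 1, 1)] (.node [(145, 1, 1, 1)] .nil (.node [] (.node [(233, 1, 1, 1)] .nil .nil) .nil)) (.node [(154, (-1), 1, 1)] .nil (.node [(217, (-1), 1, 1)] .nil .nil))))) (.node [] (.node [] (.node [] (.node [(133, 1, 1, 1)] (.node [(161, 1, 1, 1)]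 .nil .nil) (.node [(202, (-1), 1, 1)] .nil .nil)) (.node [] (.node [(176, 1, 1, 1)] .nil .nil) .nil)) (.node [(122, (-1), 1, 1)] (.node [] .nil (.node [(205, 1, 1, 1)] .nil .nil)) (.node [] .nil (.node [] (.node [(235, (-1), 1, 1)] .nil .nil) .nil)))) (.node [] (.node [(112, (-1), 1, 1)] (.node [(142, 1, 1, 1)] .nil .nil) (.node [] (.node [(180, 1, 1, 1)] (.node [(225, (-1), 1, 1)] .nil .nil) .nil) (.node [(214, 1, 1, 1)] .nil .nil))) (.node [] (.node [] .nil (.node [(212, (-1), 1, 1)] .nil .nil)) (.node [] (.node [(195, 1, 1, 1)] .nil .nil) .nil))))) (.node [] (.node [(54, 1, 1, 1)] (.node [(73, (-1), 1, 1)] (.node [] (.node [] (.node [] .nil (.node [(239, 1, 1, 1)] .nil .nil)) (.node [(199, 1, 1, 1)] .nil .nil)) .nil) (.node [(121, 1, 1, 1)] (.node [(143, (-1), 1, 1)] .nil .nil) (.node [(152, 1, 1, 1)] .nil .nil))) (.node [] (.node [] .nil (.node [] (.node [(179, (-1), 1, 1)] .nil .nil) .nil)) (.node [] (.node [(146, (-1), 1, 1)] .nil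 (.node [(209, 1, 1, 1)] .nil .nil)) (.node [(155, 1, 1, 1)] .nil (.node [] (.node [(236, (-1), 1, 1)] .nil .nil) .nil))))) (.node [(68, (-1), 1, 1)] (.node [] (.node [(104, 1, 1, 1)] (.node [(134, (-1), 1, 1)] .nil .nil) (.node [] (.node [(177, (-1), 1, 1)] .nil .nil) .nil)) (.node [] (.node [] (.node [] (.node [(224, (-1), 1, 1)] .nil .nil) .nil) (.node [(206, (-1), 1, 1)] .nil .nil)) .nil)) (.node [(90, 1, 1, 1)] (.node [(116, 1, 1, 1)] (.node [] .nil (.node [] (.node [(231, 1, 1, 1)] .nil .nil) .nil)) (.node [] .nil (.node [(215, (-1), 1, 1)] .nil .nil))) (.node [(131, (-1), 1, 1)] (.node [] (.node [(174, (-1), 1, 1)] .nil .nil) .nil) (.node [(157, 1, 1, 1)] (.node [(196, (-1), 1, 1)] .nil .nil) .nil))))))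
def C216 : List (ℕ × List (ℕ × ℤ)) := [(0, [(47, (-1))]), (1, [(48, (-1))]), (3, [(51, 1)]), (4, [(54, 1)]), (6, [(68, (-1))]), (8, [(73, (-1))]), (11, [(76, (-1))]), (14, [(90, 1)]), (15, [(101, 1)]), (18, [(104, 1)]), (21, [(112, (-1))]), (22, [(116, 1)]), (24, [(121, 1)]), (25, [(122, (-1))]), (27, [(130, 1)]), (30, [(131, (-1))]), (33, [(133, 1)]), (34, [(134, (-1))]), (37, [(142, 1)]), (40, [(143, (-1))]), (43, [(145, 1)]), (44, [(146, (-1))]), (56, [(152, 1)]), (59, [(154, (-1))]), (60, [(155, 1)]), (62, [(157, 1)]), (63, [(158, (-1))]), (65, [(161, 1)]), (78, [(174, (-1))]), (81, [(176, 1)]), (82, [(177, (-1))]), (84, [(179, (-1))]), (85, [(180, 1)]), (87, [(183, (-1))]), (93, [(195, 1)]), (94, [(196, (-1))]), (96, [(199, 1)]), (97, [(202, (-1))]), (105, [(205, 1)]), (106, [(206, (-1))]), (108, [(209, 1)]), (109, [(212, (-1))]), (117, [(214, 1)]), (118, [(215, (-1))]), (123, [(217, (-1))]), (127, [(218, 1)]), (135, [(221, (-1))]),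 (138, [(224, (-1))]), (149, [(225, (-1))]), (163, [(228, 1)]), (166, [(231, 1)]), (171, [(233, 1)]), (185, [(235, (-1))]), (188, [(236, (-1))]), (191, [(238, 1)]), (192, [(239, 1)])]
def M217 : Tr (List (ℕ × ℤ × ℕ × ℕ)) := (.node [(49, 1, 1, 1)] (.node [(50, 1, 1, 1)] (.node [] (.node [] (.node [(102, (-1), 1, 1)] (.node [(133, 1, 1, 1)] (.node [(160, (-1), 1, 1)] .nil .nil) (.node [(199, 1, 1, 1)] .nil .nil)) (.node [] (.node [(176, 1, 1, 1)] .nil .nil) .nil)) (.node [(123, 1, 1, 1)] (.node [] (.node [] (.node [(222, (-1), 1, 1)] .nil .nil) .nil) .nil) .nil)) (.node [] (.node [] (.node [] .nil (.node [] (.node [(229, 1, 1, 1)] .nil .nil) .nil)) (.node [] .nil (.node [(215, 1, 1, 1)] .nil .nil))) (.node [] (.node [] .nil (.node [(209, 1, 1, 1)] .nil .nil)) .nil))) (.node [] (.node [] (.node [(104, 1, 1, 1)] (.node [] .nil (.node [(203, (-1), 1, 1)] .nil .nil)) .nil) (.node [(125, 1, 1, 1)] (.node [(145, 1, 1, 1)] (.node [] (.node [(224,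 1, 1, 1)] .nil .nil) .nil) (.node [(207, 1, 1, 1)] .nil .nil)) (.node [(154, (-1), 1, 1)] .nil .nil))) (.node [] (.node [(113, 1, 1, 1)] (.node [] .nil (.node [] (.node [(231, (-1), 1, 1)] .nil .nil) .nil)) (.node [] (.node [(182, 1, 1, 1)] .nil .nil) .nil)) (.node [] (.node [] .nil (.node [(213, (-1), 1, 1)] .nil .nil)) (.node [] (.node [(197, 1, 1, 1)] .nil .nil) (.node [] (.node [(238, (-1), 1, 1)] .nil .nil) .nil)))))) (.node [(51, 1, 1, 1)] (.node [(55, (-1), 1, 1)] (.node [(74, 1, 1, 1)] (.node [] (.node [(134, (-1), 1, 1)] (.node [(161, 1, 1, 1)] .nil .nil) .nil) (.node [] (.node [(177, (-1), 1, 1)] .nil .nil) .nil)) (.node [(124, (-1), 1, 1)] (.node [(144, (-1), 1, 1)] .nil .nil) (.node [(153, 1, 1, 1)] .nil (.node [] (.node [(235, 1, 1, 1)] .nil .nil) .nil)))) (.node [] (.node [] (.node [(142, 1, 1, 1)] .nil .nil) (.node [] (.node [(181, (-1), 1, 1)] (.node [(225, 1, 1, 1)] .nil .nil) .nil) (.node [(216, (-1), 1, 1)] .nil .nil)))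 (.node [] .nil (.node [] .nil (.node [] (.node [(237, (-1), 1, 1)] .nil .nil) .nil))))) (.node [(69, 1, 1, 1)] (.node [(76, (-1), 1, 1)] (.node [] .nil (.node [] .nil (.node [(214, (-1), 1, 1)] .nil .nil))) (.node [(130, 1, 1, 1)] (.node [(146, (-1), 1, 1)] .nil (.node [(208, (-1), 1, 1)] (.node [(233, (-1), 1, 1)] .nil .nil) .nil)) (.node [(155, 1, 1, 1)] .nil .nil))) (.node [(91, (-1), 1, 1)] (.node [] .nil (.node [] (.node [(183, (-1), 1, 1)] .nil .nil) .nil)) (.node [(132, (-1), 1, 1)] (.node [] (.node [(175, (-1), 1, 1)] .nil .nil) .nil) (.node [(159, 1, 1, 1)] (.node [(198, (-1), 1, 1)] .nil .nil) (.node [(218, (-1), 1, 1)] (.node [(239, (-1), 1, 1)] .nil .nil) .nil)))))))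
def C217 : List (ℕ × List (ℕ × ℤ)) := [(0, [(49, 1)]), (1, [(50, 1)]), (2, [(51, 1)]), (4, [(55, (-1))]), (6, [(69, 1)]), (8, [(74, 1)]), (10, [(76, (-1))]), (14, [(91, (-1))]), (15, [(102, (-1))]), (17, [(104, 1)]), (21, [(113, 1)]), (23, [(123, 1)]), (24, [(124, (-1))]), (25, [(125, 1)]), (26, [(130, 1)]), (30, [(132, (-1))]), (31, [(133, 1)]), (32, [(134, (-1))]), (36, [(142, 1)]), (40, [(144, (-1))]), (41, [(145, 1)]), (42, [(146, (-1))]), (56, [(153, 1)]), (57, [(154, (-1))]), (58, [(155, 1)]), (62, [(159, 1)]), (63, [(160, (-1))]), (64, [(161, 1)]), (78, [(175, (-1))]), (79, [(176, 1)]), (80, [(177, (-1))]), (84, [(181, (-1))]), (85, [(182, 1)]), (86, [(183, (-1))]), (93, [(197, 1)]), (94, [(198, (-1))]), (95, [(199, 1)]), (97, [(203, (-1))]), (105, [(207, 1)]), (106, [(208, (-1))]), (107, [(209, 1)]), (109, [(213, (-1))]), (114, [(214, (-1))]), (115, [(215, 1)]), (116, [(216, (-1))]), (126, [(218, (-1))]), (135, [(222, (-1))]),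 (137, [(224, 1)]), (148, [(225, 1)]), (163, [(229, 1)]), (165, [(231, (-1))]), (170, [(233, (-1))]), (184, [(235, 1)]), (188, [(237, (-1))]), (189, [(238, (-1))]), (190, [(239, (-1))])]
def M218 : Tr (List (ℕ × ℤ × ℕ × ℕ)) := (.node [(52, (-1), 1, 1)] (.node [(53, (-1), 1, 1)] (.node [(55, (-1), 1, 1)] (.node [] (.node [(103, 1, 1, 1)] (.node [] .nil (.node [(202, 1, 1, 1)] .nil .nil)) (.node [] (.node [(179, 1, 1, 1)] .nil .nil) (.node [(215, (-1), 1, 1)] .nil .nil))) (.node [(127, (-1), 1, 1)] (.node [(146, (-1), 1, 1)] (.node [] (.node [(223, (-1), 1, 1)] .nil .nil) .nil) .nil) .nil)) (.node [] (.node [] (.node [] .nil (.node [] (.node [(230, 1, 1, 1)] .nil .nil) .nil)) (.node [] (.node [(183, (-1), 1, 1)] (.node [(225, (-1), 1, 1)] .nil .nil) .nil) .nil)) (.node [(132, (-1), 1, 1)] (.node [] .nil (.node [(212, 1, 1, 1)] .nil .nil)) (.node [(159, 1, 1, 1)] .nil (.node [] (.node [(239, 1, 1, 1)] .nil .nil) .nil))))) (.node [] (.node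 [(76, (-1), 1, 1)] (.node [] .nil (.node [] (.node [(181, (-1), 1, 1)] .nil .nil) (.node [(217, (-1), 1, 1)] .nil .nil))) (.node [(129, (-1), 1, 1)] (.node [] .nil (.node [(210, 1, 1, 1)] (.node [(233, 1, 1, 1)] .nil .nil) .nil)) (.node [(157, (-1), 1, 1)] .nil (.node [] (.node [(237, 1, 1, 1)] .nil .nil) .nil)))) (.node [] (.node [] (.node [(144, (-1), 1, 1)] .nil .nil) .nil) (.node [(134, (-1), 1, 1)] .nil (.node [(161, 1, 1, 1)] (.node [(200, 1, 1, 1)] .nil .nil) .nil))))) (.node [(54, (-1), 1, 1)] (.node [] (.node [(75, (-1), 1, 1)] (.node [(104, 1, 1, 1)] (.node [] .nil (.node [(203, (-1), 1, 1)] .nil .nil)) (.node [] (.node [(180, (-1), 1, 1)] .nil .nil) (.node [(216, 1, 1, 1)] .nil .nil))) (.node [(128, 1, 1, 1)] (.node [] (.node [] (.node [(224, (-1), 1, 1)] .nil .nil) .nil) .nil) (.node [(156, 1, 1, 1)] .nil (.node [] (.node [(236, 1, 1, 1)] .nil .nil) .nil)))) (.node [] (.node [] (.node [(143, 1, 1, 1)] .nil (.node [] (.node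 [(231, 1, 1, 1)] .nil .nil) .nil)) .nil) (.node [(133, 1, 1, 1)] (.node [] .nil (.node [(213, (-1), 1, 1)] .nil .nil)) (.node [(160, (-1), 1, 1)] .nil .nil)))) (.node [(70, (-1), 1, 1)] (.node [] (.node [] .nil (.node [] (.node [(182, 1, 1, 1)] .nil .nil) .nil)) (.node [(131, 1, 1, 1)] (.node [] .nil (.node [(211, (-1), 1, 1)] .nil .nil)) (.node [(158, 1, 1, 1)] .nil (.node [] (.node [(238, 1, 1, 1)] .nil .nil) .nil)))) (.node [(92, 1, 1, 1)] (.node [(126, 1, 1, 1)] (.node [(145, 1, 1, 1)] .nil .nil) .nil) (.node [] (.node [] (.node [(178, (-1), 1, 1)] .nil .nil) (.node [(214, 1, 1, 1)] .nil .nil)) (.node [] (.node [(201, (-1), 1, 1)] .nil .nil) .nil))))))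
def C218 : List (ℕ × List (ℕ × ℤ)) := [(0, [(52, (-1))]), (1, [(53, (-1))]), (2, [(54, (-1))]), (3, [(55, (-1))]), (6, [(70, (-1))]), (8, [(75, (-1))]), (9, [(76, (-1))]), (14, [(92, 1)]), (15, [(103, 1)]), (16, [(104, 1)]), (22, [(126, 1)]), (23, [(127, (-1))]), (24, [(128, 1)]), (25, [(129, (-1))]), (26, [(131, 1)]), (27, [(132, (-1))]), (28, [(133, 1)]), (29, [(134, (-1))]), (36, [(143, 1)]), (37, [(144, (-1))]), (38, [(145, 1)]), (39, [(146, (-1))]), (56, [(156, 1)]), (57, [(157, (-1))]), (58, [(158, 1)]), (59, [(159, 1)]), (60, [(160, (-1))]), (61, [(161, 1)]), (78, [(178, (-1))]), (79, [(179, 1)]), (80, [(180, (-1))]), (81, [(181, (-1))]), (82, [(182, 1)]), (83, [(183, (-1))]), (93, [(200, 1)]), (94, [(201, (-1))]), (95, [(202, 1)]), (96, [(203, (-1))]), (105, [(210, 1)]), (106, [(211, (-1))]), (107, [(212, 1)]), (108, [(213, (-1))]), (110, [(214, 1)]), (111, [(215, (-1))]), (112, [(216, 1)]), (113, [(217, (-1))]), (135, [(223,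 (-1))]), (136, [(224, (-1))]), (147, [(225, (-1))]), (163, [(230, 1)]), (164, [(231, 1)]), (169, [(233, 1)]), (184, [(236, 1)]), (185, [(237, 1)]), (186, [(238, 1)]), (187, [(239, 1)])]
def M219 : Tr (List (ℕ × ℤ × ℕ × ℕ)) := (.node [] (.node [(56, (-1), 1, 1)] (.node [(59, (-1), 1, 1)] (.node [(71, (-1), 1, 1)] (.node [(105, 1, 1, 1)] .nil .nil) (.node [] (.node [(147, 1, 1, 1)] .nil (.node [(210, 1, 1, 1)] .nil .nil)) (.node [(159, 1, 1, 1)] (.node [(191, (-1), 1, 1)] .nil .nil) (.node [] (.node [(238, 1, 1, 1)] .nil .nil) .nil)))) (.node [] (.node [(119, 1, 1, 1)] (.node [(139, 1, 1, 1)] .nil .nil) (.node [(154, 1, 1, 1)] (.node [(186, (-1), 1, 1)] .nil .nil) .nil)) (.node [] .nil (.node [] (.node [(197, 1, 1, 1)] .nil .nil) .nil)))) (.node [(66, (-1), 1, 1)] (.node [] (.node [(114, 1, 1, 1)] (.node [] (.node [] (.node [(223, 1, 1, 1)] .nil .nil) .nil) .nil) (.node [] .nil (.node [] (.node [(235, 1, 1, 1)] .nil .nil) .nil))) (.node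 [(135, 1, 1, 1)] .nil (.node [] (.node [(194, 1, 1, 1)] .nil .nil) .nil))) (.node [(77, 1, 1, 1)] (.node [] (.node [] .nil (.node [(205, 1, 1, 1)] .nil .nil)) (.node [(156, 1, 1, 1)] (.node [(188, (-1), 1, 1)] .nil .nil) .nil)) (.node [(136, (-1), 1, 1)] (.node [(150, (-1), 1, 1)] .nil (.node [] (.node [(234, 1, 1, 1)] .nil .nil) .nil)) (.node [] .nil (.node [(222, (-1), 1, 1)] .nil .nil)))))) (.node [(57, (-1), 1, 1)] (.node [(62, (-1), 1, 1)] (.node [] (.node [(110, (-1), 1, 1)] (.node [(137, 1, 1, 1)] .nil .nil) (.node [(152, 1, 1, 1)] (.node [(184, (-1), 1, 1)] .nil .nil) .nil)) (.node [] (.node [] .nil (.node [(214, (-1), 1, 1)] (.node [(232, 1, 1, 1)] .nil .nil) .nil)) (.node [] .nil (.node [(220, (-1), 1, 1)] .nil .nil)))) (.node [] (.node [] (.node [] .nil (.node [(204, (-1), 1, 1)] .nil .nil)) (.node [] .nil (.node [] (.node [(236, 1, 1, 1)] .nil .nil) .nil))) (.node [] (.node [(149, 1, 1, 1)] .nil .nil) (.node [] (.node [(200,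 (-1), 1, 1)] .nil .nil) .nil)))) (.node [] (.node [] (.node [(117, (-1), 1, 1)] (.node [(138, (-1), 1, 1)] .nil (.node [] (.node [(226, (-1), 1, 1)] .nil .nil) .nil)) (.node [(153, (-1), 1, 1)] (.node [(185, 1, 1, 1)] (.node [(225, 1, 1, 1)] .nil .nil) .nil) .nil)) (.node [] (.node [(148, (-1), 1, 1)] .nil .nil) (.node [] (.node [(195, (-1), 1, 1)] .nil .nil) (.node [(221, 1, 1, 1)] .nil .nil)))) (.node [(93, (-1), 1, 1)] (.node [] (.node [] (.node [] (.node [(224, (-1), 1, 1)] .nil .nil) .nil) (.node [(207, (-1), 1, 1)] .nil .nil)) (.node [(157, (-1), 1, 1)] (.node [(189, 1, 1, 1)] .nil .nil) (.node [] (.node [(237, 1, 1, 1)] .nil .nil) .nil))) .nil))))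
def C219 : List (ℕ × List (ℕ × ℤ)) := [(1, [(56, (-1))]), (2, [(57, (-1))]), (3, [(59, (-1))]), (4, [(62, (-1))]), (5, [(66, (-1))]), (7, [(71, (-1))]), (13, [(77, 1)]), (14, [(93, (-1))]), (15, [(105, 1)]), (16, [(110, (-1))]), (17, [(114, 1)]), (18, [(117, (-1))]), (19, [(119, 1)]), (25, [(135, 1)]), (29, [(136, (-1))]), (32, [(137, 1)]), (34, [(138, (-1))]), (35, [(139, 1)]), (39, [(147, 1)]), (42, [(148, (-1))]), (44, [(149, 1)]), (45, [(150, (-1))]), (48, [(152, 1)]), (50, [(153, (-1))]), (51, [(154, 1)]), (53, [(156, 1)]), (54, [(157, (-1))]), (55, [(159, 1)]), (80, [(184, (-1))]), (82, [(185, 1)]), (83, [(186, (-1))]), (85, [(188, (-1))]), (86, [(189, 1)]), (87, [(191, (-1))]), (89, [(194, 1)]), (90, [(195, (-1))]), (91, [(197, 1)]), (92, [(200, (-1))]), (100, [(204, (-1))]), (101, [(205, 1)]), (102, [(207, (-1))]), (103, [(210, 1)]), (104, [(214, (-1))]), (120, [(220, (-1))]), (122, [(221, 1)]), (125, [(222, (-1))]), (129, [(223,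 1)]), (134, [(224, (-1))]), (146, [(225, 1)]), (162, [(226, (-1))]), (168, [(232, 1)]), (173, [(234, 1)]), (177, [(235, 1)]), (180, [(236, 1)]), (182, [(237, 1)]), (183, [(238, 1)])]
def M220 : Tr (List (ℕ × ℤ × ℕ × ℕ)) := (.node [(56, (-1), 1, 1)] (.node [] (.node [(60, 1, 1, 1)] (.node [(72, 1, 1, 1)] (.node [(106, (-1), 1, 1)] (.node [(137, 1, 1, 1)] .nil .nil) (.node [(152, 1, 1, 1)] (.node [(184, (-1), 1, 1)] .nil .nil) .nil)) (.node [] (.node [] .nil (.node [(211, 1, 1, 1)] (.node [(232, (-1), 1, 1)] .nil .nil) .nil)) (.node [(160, 1, 1, 1)] (.node [(192, (-1), 1, 1)] .nil .nil) (.node [(219, (-1), 1, 1)] (.node [(239, 1, 1, 1)] .nil .nil) .nil)))) (.node [] (.node [] (.node [(140, 1, 1, 1)] .nil (.node [(204, (-1), 1, 1)] .nil .nil)) (.node [(155, 1, 1, 1)] (.node [(187, (-1), 1, 1)] .nil .nil) (.node [] (.node [(236, (-1), 1, 1)] .nil .nil) .nil))) (.node [] (.node [(149, 1, 1, 1)] .nil .nil) (.node [] (.node [(198, 1, 1, 1)]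 .nil .nil) .nil)))) (.node [(67, 1, 1, 1)] (.node [] (.node [(115, (-1), 1, 1)] (.node [(138, (-1), 1, 1)] .nil .nil) (.node [(153, (-1), 1, 1)] (.node [(185, 1, 1, 1)] (.node [(225, (-1), 1, 1)] .nil .nil) .nil) .nil)) (.node [] (.node [(148, (-1), 1, 1)] .nil .nil) (.node [] .nil (.node [(221, (-1), 1, 1)] .nil .nil)))) (.node [] (.node [] (.node [] (.node [] (.node [(224, 1, 1, 1)] .nil .nil) .nil) (.node [(206, 1, 1, 1)] .nil .nil)) (.node [] .nil (.node [] (.node [(237, (-1), 1, 1)] .nil .nil) .nil))) (.node [] (.node [(151, (-1), 1, 1)] .nil .nil) .nil)))) (.node [(58, 1, 1, 1)] (.node [(63, 1, 1, 1)] (.node [] (.node [(111, 1, 1, 1)] (.node [] (.node [] (.node [(223, (-1), 1, 1)] .nil .nil) .nil) .nil) (.node [] .nil (.node [] (.node [(235, (-1), 1, 1)] .nil .nil) .nil))) (.node [(135, 1, 1, 1)] (.node [] .nil (.node [(215, (-1), 1, 1)] .nil .nil)) (.node [] (.node [(194, 1, 1, 1)] .nil .nil) .nil))) (.node [(77, 1, 1, 1)] (.node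 [(120, 1, 1, 1)] .nil (.node [(156, 1, 1, 1)] (.node [(188, (-1), 1, 1)] .nil .nil) .nil)) (.node [(136, (-1), 1, 1)] (.node [] .nil (.node [] (.node [(234, (-1), 1, 1)] .nil .nil) .nil)) (.node [] (.node [(201, (-1), 1, 1)] .nil .nil) (.node [(222, 1, 1, 1)] .nil .nil))))) (.node [] (.node [] (.node [(118, 1, 1, 1)] (.node [] .nil (.node [] (.node [(227, (-1), 1, 1)] .nil .nil) .nil)) .nil) (.node [] .nil (.node [] (.node [(196, (-1), 1, 1)] .nil .nil) .nil))) (.node [(94, 1, 1, 1)] (.node [] (.node [(147, 1, 1, 1)] .nil (.node [(208, (-1), 1, 1)] .nil .nil)) (.node [(158, (-1), 1, 1)] (.node [(190, 1, 1, 1)] .nil .nil) .nil)) .nil))))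
def C220 : List (ℕ × List (ℕ × ℤ)) := [(0, [(56, (-1))]), (2, [(58, 1)]), (3, [(60, 1)]), (4, [(63, 1)]), (5, [(67, 1)]), (7, [(72, 1)]), (12, [(77, 1)]), (14, [(94, 1)]), (15, [(106, (-1))]), (16, [(111, 1)]), (17, [(115, (-1))]), (18, [(118, 1)]), (20, [(120, 1)]), (24, [(135, 1)]), (28, [(136, (-1))]), (31, [(137, 1)]), (33, [(138, (-1))]), (35, [(140, 1)]), (38, [(147, 1)]), (41, [(148, (-1))]), (43, [(149, 1)]), (45, [(151, (-1))]), (47, [(152, 1)]), (49, [(153, (-1))]), (51, [(155, 1)]), (52, [(156, 1)]), (54, [(158, (-1))]), (55, [(160, 1)]), (79, [(184, (-1))]), (81, [(185, 1)]), (83, [(187, (-1))]), (84, [(188, (-1))]), (86, [(190, 1)]), (87, [(192, (-1))]), (88, [(194, 1)]), (90, [(196, (-1))]), (91, [(198, 1)]), (92, [(201, (-1))]), (99, [(204, (-1))]), (101, [(206, 1)]), (102, [(208, (-1))]), (103, [(211, 1)]), (104, [(215, (-1))]), (119, [(219, (-1))]), (121, [(221, (-1))]), (124, [(222, 1)]), (128, [(223, (-1))]), (133,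 [(224, 1)]), (145, [(225, (-1))]), (162, [(227, (-1))]), (167, [(232, (-1))]), (172, [(234, (-1))]), (176, [(235, (-1))]), (179, [(236, (-1))]), (181, [(237, (-1))]), (183, [(239, 1)])]
def M221 : Tr (List (ℕ × ℤ × ℕ × ℕ)) := (.node [(57, 1, 1, 1)] (.node [(58, 1, 1, 1)] (.node [(61, (-1), 1, 1)] (.node [(73, (-1), 1, 1)] (.node [(107, 1, 1, 1)] (.node [] (.node [] (.node [(223, 1, 1, 1)] .nil .nil) .nil) .nil) (.node [] .nil (.node [] (.node [(235, 1, 1, 1)] .nil .nil) .nil))) (.node [(135, 1, 1, 1)] (.node [] .nil (.node [(212, 1, 1, 1)] .nil .nil)) (.node [(161, 1, 1, 1)] (.node [(193, (-1), 1, 1)] .nil .nil) .nil))) (.node [(77, 1, 1, 1)] (.node [(121, 1, 1, 1)] (.node [] .nil (.node [(205, (-1), 1, 1)] .nil .nil)) .nil) (.node [(136, (-1), 1, 1)] (.node [(150, 1, 1, 1)] .nil (.node [] (.node [(234, 1, 1, 1)] .nil .nil) .nil)) (.node [] (.node [(199, 1, 1, 1)] .nil .nil) (.node [(222, (-1), 1, 1)] .nil .nil))))) (.node [(68, (-1),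 1, 1)] (.node [] (.node [(116, 1, 1, 1)] (.node [(139, (-1), 1, 1)] .nil .nil) (.node [(154, (-1), 1, 1)] (.node [(186, 1, 1, 1)] .nil .nil) .nil)) (.node [] .nil (.node [] (.node [(196, (-1), 1, 1)] .nil .nil) .nil))) (.node [] (.node [] (.node [(147, 1, 1, 1)] .nil .nil) (.node [(158, (-1), 1, 1)] (.node [(190, 1, 1, 1)] .nil .nil) (.node [(219, 1, 1, 1)] (.node [(238, (-1), 1, 1)] .nil .nil) .nil))) .nil))) (.node [] (.node [(64, (-1), 1, 1)] (.node [] (.node [(112, (-1), 1, 1)] .nil (.node [] (.node [] (.node [(225, 1, 1, 1)] .nil .nil) .nil) .nil)) (.node [] (.node [(148, (-1), 1, 1)] .nil (.node [(216, (-1), 1, 1)] .nil .nil)) (.node [] (.node [(195, 1, 1, 1)] .nil .nil) .nil))) (.node [] (.node [(122, (-1), 1, 1)] (.node [] (.node [] (.node [(224, (-1), 1, 1)] .nil .nil) .nil) (.node [(206, 1, 1, 1)] .nil .nil)) (.node [(157, 1, 1, 1)] (.node [(189, (-1), 1, 1)] .nil .nil) .nil)) (.node [] (.node [(151, (-1), 1, 1)] .nil .nil)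 (.node [] (.node [(202, (-1), 1, 1)] .nil .nil) .nil)))) (.node [] (.node [] (.node [] (.node [(140, 1, 1, 1)] .nil (.node [] (.node [(228, (-1), 1, 1)] .nil .nil) .nil)) (.node [(155, 1, 1, 1)] (.node [(187, (-1), 1, 1)] .nil .nil) (.node [] (.node [(236, 1, 1, 1)] .nil .nil) .nil))) .nil) (.node [(95, (-1), 1, 1)] (.node [] (.node [] .nil (.node [(209, (-1), 1, 1)] (.node [(232, 1, 1, 1)] .nil .nil) .nil)) (.node [] .nil (.node [(220, (-1), 1, 1)] (.node [(239, (-1), 1, 1)] .nil .nil) .nil))) (.node [(137, 1, 1, 1)] (.node [(152, 1, 1, 1)] (.node [(184, (-1), 1, 1)] .nil .nil) .nil) .nil)))))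
def C221 : List (ℕ × List (ℕ × ℤ)) := [(0, [(57, 1)]), (1, [(58, 1)]), (3, [(61, (-1))]), (4, [(64, (-1))]), (5, [(68, (-1))]), (7, [(73, (-1))]), (11, [(77, 1)]), (14, [(95, (-1))]), (15, [(107, 1)]), (16, [(112, (-1))]), (17, [(116, 1)]), (19, [(121, 1)]), (20, [(122, (-1))]), (23, [(135, 1)]), (27, [(136, (-1))]), (30, [(137, 1)]), (33, [(139, (-1))]), (34, [(140, 1)]), (37, [(147, 1)]), (40, [(148, (-1))]), (43, [(150, 1)]), (44, [(151, (-1))]), (46, [(152, 1)]), (49, [(154, (-1))]), (50, [(155, 1)]), (52, [(157, 1)]), (53, [(158, (-1))]), (55, [(161, 1)]), (78, [(184, (-1))]), (81, [(186, 1)]), (82, [(187, (-1))]), (84, [(189, (-1))]), (85, [(190, 1)]), (87, [(193, (-1))]), (88, [(195, 1)]), (89, [(196, (-1))]), (91, [(199, 1)]), (92, [(202, (-1))]), (99, [(205, (-1))]), (100, [(206, 1)]), (102, [(209, (-1))]), (103, [(212, 1)]), (104, [(216, (-1))]), (117, [(219, 1)]), (118, [(220, (-1))]), (123, [(222, (-1))]), (127, [(223, 1)]),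 (132, [(224, (-1))]), (144, [(225, 1)]), (162, [(228, (-1))]), (166, [(232, 1)]), (171, [(234, 1)]), (175, [(235, 1)]), (178, [(236, 1)]), (181, [(238, (-1))]), (182, [(239, (-1))])]
def M222 : Tr (List (ℕ × ℤ × ℕ × ℕ)) := (.node [(59, (-1), 1, 1)] (.node [(60, (-1), 1, 1)] (.node [] (.node [(74, 1, 1, 1)] (.node [(108, (-1), 1, 1)] (.node [(139, (-1), 1, 1)] .nil .nil) (.node [(154, (-1), 1, 1)] (.node [(186, 1, 1, 1)] (.node [(225, (-1), 1, 1)] .nil .nil) .nil) .nil)) (.node [] (.node [] .nil (.node [(213, 1, 1, 1)] .nil .nil)) .nil)) (.node [] (.node [(124, (-1), 1, 1)] (.node [] (.node [] (.node [(224, 1, 1, 1)] .nil .nil) .nil) (.node [(207, (-1), 1, 1)] .nil .nil)) (.node [] .nil (.node [(220, 1, 1, 1)] (.node [(238, 1, 1, 1)] .nil .nil) .nil))) .nil)) (.node [(69, 1, 1, 1)] (.node [] .nil (.node [] (.node [(150, 1, 1, 1)] .nil .nil) (.node [] (.node [(198, (-1), 1, 1)] .nil .nil) .nil))) (.node [] (.node [] (.node [] .nil (.node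 [(209, (-1), 1, 1)] (.node [(232, (-1), 1, 1)] .nil .nil) .nil)) (.node [(160, (-1), 1, 1)] (.node [(192, 1, 1, 1)] .nil .nil) .nil)) .nil))) (.node [(61, (-1), 1, 1)] (.node [(65, 1, 1, 1)] (.node [] (.node [(113, 1, 1, 1)] (.node [(140, 1, 1, 1)] .nil .nil) (.node [(155, 1, 1, 1)] (.node [(187, (-1), 1, 1)] .nil .nil) .nil)) (.node [] (.node [(149, (-1), 1, 1)] .nil (.node [(217, (-1), 1, 1)] .nil .nil)) (.node [] (.node [(197, 1, 1, 1)] .nil .nil) .nil))) (.node [] (.node [(125, 1, 1, 1)] (.node [(147, 1, 1, 1)] .nil (.node [(208, 1, 1, 1)] .nil .nil)) (.node [(159, 1, 1, 1)] (.node [(191, (-1), 1, 1)] .nil .nil) (.node [(221, (-1), 1, 1)] (.node [(239, 1, 1, 1)] .nil .nil) .nil))) (.node [] .nil (.node [] (.node [(203, (-1), 1, 1)] .nil .nil) .nil)))) (.node [] (.node [(77, 1, 1, 1)] (.node [(123, 1, 1, 1)] (.node [] .nil (.node [] (.node [(229, (-1), 1, 1)] .nil .nil) .nil)) (.node [] .nil (.node [(219, (-1), 1, 1)] (.node [(237,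 1, 1, 1)] .nil .nil) .nil))) (.node [(136, (-1), 1, 1)] (.node [(151, (-1), 1, 1)] .nil (.node [] (.node [(234, (-1), 1, 1)] .nil .nil) .nil)) (.node [] (.node [(199, 1, 1, 1)] .nil .nil) .nil))) (.node [(96, 1, 1, 1)] (.node [(135, 1, 1, 1)] .nil (.node [(161, 1, 1, 1)] (.node [(193, (-1), 1, 1)] .nil .nil) .nil)) (.node [(138, 1, 1, 1)] (.node [(153, 1, 1, 1)] (.node [(185, (-1), 1, 1)] .nil .nil) (.node [] (.node [(235, (-1), 1, 1)] .nil .nil) .nil)) (.node [] .nil (.node [(223, (-1), 1, 1)] .nil .nil)))))))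
def C222 : List (ℕ × List (ℕ × ℤ)) := [(0, [(59, (-1))]), (1, [(60, (-1))]), (2, [(61, (-1))]), (4, [(65, 1)]), (5, [(69, 1)]), (7, [(74, 1)]), (10, [(77, 1)]), (14, [(96, 1)]), (15, [(108, (-1))]), (16, [(113, 1)]), (18, [(123, 1)]), (19, [(124, (-1))]), (20, [(125, 1)]), (22, [(135, 1)]), (26, [(136, (-1))]), (30, [(138, 1)]), (31, [(139, (-1))]), (32, [(140, 1)]), (36, [(147, 1)]), (40, [(149, (-1))]), (41, [(150, 1)]), (42, [(151, (-1))]), (46, [(153, 1)]), (47, [(154, (-1))]), (48, [(155, 1)]), (52, [(159, 1)]), (53, [(160, (-1))]), (54, [(161, 1)]), (78, [(185, (-1))]), (79, [(186, 1)]), (80, [(187, (-1))]), (84, [(191, (-1))]), (85, [(192, 1)]), (86, [(193, (-1))]), (88, [(197, 1)]), (89, [(198, (-1))]), (90, [(199, 1)]), (92, [(203, (-1))]), (99, [(207, (-1))]), (100, [(208, 1)]), (101, [(209, (-1))]), (103, [(213, 1)]), (104, [(217, (-1))]), (114, [(219, (-1))]), (115, [(220, 1)]), (116, [(221, (-1))]), (126, [(223, (-1))]),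 (131, [(224, 1)]), (143, [(225, (-1))]), (162, [(229, (-1))]), (165, [(232, (-1))]), (170, [(234, (-1))]), (174, [(235, (-1))]), (178, [(237, 1)]), (179, [(238, 1)]), (180, [(239, 1)])]
def M223 : Tr (List (ℕ × ℤ × ℕ × ℕ)) := (.node [(62, 1, 1, 1)] (.node [(63, 1, 1, 1)] (.node [(65, 1, 1, 1)] (.node [(75, (-1), 1, 1)] (.node [(109, 1, 1, 1)] .nil (.node [(157, (-1), 1, 1)] (.node [(189, 1, 1, 1)] .nil .nil) (.node [(220, (-1), 1, 1)] (.node [(237, (-1), 1, 1)] .nil .nil) .nil))) (.node [] (.node [(151, (-1), 1, 1)] .nil .nil) .nil)) (.node [] (.node [(128, 1, 1, 1)] (.node [] .nil (.node [(210, (-1), 1, 1)] .nil .nil)) (.node [(161, 1, 1, 1)] (.node [(193, (-1), 1, 1)] .nil .nil) .nil)) (.node [(138, 1, 1, 1)] .nil (.node [] (.node [(203, (-1), 1, 1)] .nil .nil) .nil)))) (.node [(70, (-1), 1, 1)] (.node [(77, 1, 1, 1)] (.node [(126, 1, 1, 1)] .nil (.node [(159, 1, 1, 1)] (.node [(191, (-1), 1, 1)] .nil .nil) (.node [(222, (-1), 1, 1)]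 (.node [(239, (-1), 1, 1)] .nil .nil) .nil))) (.node [] (.node [] .nil (.node [] (.node [(234, 1, 1, 1)] .nil .nil) .nil)) (.node [] (.node [(201, (-1), 1, 1)] .nil .nil) .nil))) (.node [] (.node [(135, 1, 1, 1)] (.node [(149, (-1), 1, 1)] .nil (.node [(212, (-1), 1, 1)] .nil .nil)) .nil) (.node [(140, 1, 1, 1)] .nil .nil)))) (.node [(64, 1, 1, 1)] (.node [] (.node [] (.node [] .nil (.node [(158, 1, 1, 1)] (.node [(190, (-1), 1, 1)] .nil .nil) (.node [(221, 1, 1, 1)] (.node [(238, (-1), 1, 1)] .nil .nil) .nil))) (.node [] (.node [] .nil (.node [(218, (-1), 1, 1)] .nil .nil)) (.node [] (.node [(200, 1, 1, 1)] .nil .nil) .nil))) (.node [] (.node [(129, (-1), 1, 1)] (.node [(148, 1, 1, 1)] .nil (.node [(211, 1, 1, 1)] (.node [(232, 1, 1, 1)] .nil .nil) .nil)) .nil) (.node [(139, (-1), 1, 1)] .nil .nil))) (.node [] (.node [] (.node [(127, (-1), 1, 1)] (.node [] (.node [] (.node [(224, (-1), 1, 1)] .nil .nil) .nil) (.node [] (.node [(230,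 (-1), 1, 1)] .nil .nil) .nil)) (.node [(160, (-1), 1, 1)] (.node [(192, 1, 1, 1)] .nil .nil) .nil)) (.node [(137, (-1), 1, 1)] .nil (.node [] (.node [(202, 1, 1, 1)] .nil .nil) .nil))) (.node [(97, (-1), 1, 1)] (.node [] (.node [(150, 1, 1, 1)] .nil (.node [(213, 1, 1, 1)] .nil .nil)) .nil) (.node [] (.node [(156, 1, 1, 1)] (.node [(188, (-1), 1, 1)] (.node [(225, 1, 1, 1)] .nil .nil) .nil) (.node [(219, 1, 1, 1)] (.node [(236, (-1), 1, 1)] .nil .nil) .nil)) .nil)))))
def C223 : List (ℕ × List (ℕ × ℤ)) := [(0, [(62, 1)]), (1, [(63, 1)]), (2, [(64, 1)]), (3, [(65, 1)]), (5, [(70, (-1))]), (7, [(75, (-1))]), (9, [(77, 1)]), (14, [(97, (-1))]), (15, [(109, 1)]), (17, [(126, 1)]), (18, [(127, (-1))]), (19, [(128, 1)]), (20, [(129, (-1))]), (21, [(135, 1)]), (26, [(137, (-1))]), (27, [(138, 1)]), (28, [(139, (-1))]), (29, [(140, 1)]), (36, [(148, 1)]), (37, [(149, (-1))]), (38, [(150, 1)]), (39, [(151, (-1))]), (46, [(156, 1)]), (47, [(157,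 (-1))]), (48, [(158, 1)]), (49, [(159, 1)]), (50, [(160, (-1))]), (51, [(161, 1)]), (78, [(188, (-1))]), (79, [(189, 1)]), (80, [(190, (-1))]), (81, [(191, (-1))]), (82, [(192, 1)]), (83, [(193, (-1))]), (88, [(200, 1)]), (89, [(201, (-1))]), (90, [(202, 1)]), (91, [(203, (-1))]), (99, [(210, (-1))]), (100, [(211, 1)]), (101, [(212, (-1))]), (102, [(213, 1)]), (104, [(218, (-1))]), (110, [(219, 1)]), (111, [(220, (-1))]), (112, [(221, 1)]), (113, [(222, (-1))]), (130, [(224, (-1))]), (142, [(225, 1)]), (162, [(230, (-1))]), (164, [(232, 1)]), (169, [(234, 1)]), (174, [(236, (-1))]), (175, [(237, (-1))]), (176, [(238, (-1))]), (177, [(239, (-1))])]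
def M224 : Tr (List (ℕ × ℤ × ℕ × ℕ)) := (.node [(66, (-1), 1, 1)] (.node [(67, (-1), 1, 1)] (.node [(69, (-1), 1, 1)] (.node [(76, 1, 1, 1)] (.node [] .nil (.node [] (.node [(195, 1, 1, 1)] .nil .nil) .nil)) (.node [(138, 1, 1, 1)] (.node [(155, (-1), 1, 1)] .nil (.node [(218, (-1), 1, 1)] .nil .nil)) (.node [] (.node [(203, (-1), 1, 1)] .nil .nil) .nil))) (.node [] (.node [(133, (-1), 1, 1)] (.node [] .nil (.node [(214, (-1), 1, 1)] (.node [(232, (-1), 1, 1)] .nil .nil) .nil)) (.node [] (.node [(199, (-1), 1, 1)] .nil .nil) .nil)) (.node [] (.node [(159, 1, 1, 1)] .nil (.node [(221, (-1), 1, 1)] (.node [(237, 1, 1, 1)] .nil .nil) .nil)) .nil))) (.node [] (.node [] (.node [(131, (-1), 1, 1)] .nil (.node [] (.node [(197, (-1), 1, 1)] .nil .nil) .nil)) (.node [(140, 1, 1, 1)] (.node [(157, (-1), 1, 1)] .nil (.node [(219, (-1), 1, 1)] (.node [(235, 1, 1, 1)] .nil .nil) .nil)) .nil)) (.node [] (.node [(136, 1, 1, 1)] (.node [(153, (-1), 1,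 1)] .nil (.node [(216, (-1), 1, 1)] .nil .nil)) (.node [] (.node [(201, (-1), 1, 1)] .nil .nil) .nil)) (.node [] (.node [(161, 1, 1, 1)] (.node [] (.node [(225, (-1), 1, 1)] .nil .nil) .nil) (.node [(223, (-1), 1, 1)] (.node [(239, 1, 1, 1)] .nil .nil) .nil)) .nil)))) (.node [(68, (-1), 1, 1)] (.node [(70, (-1), 1, 1)] (.node [(77, 1, 1, 1)] (.node [(130, 1, 1, 1)] .nil (.node [] (.node [(196, (-1), 1, 1)] .nil .nil) .nil)) (.node [(139, (-1), 1, 1)] (.node [(156, 1, 1, 1)] .nil .nil) .nil)) (.node [] (.node [(134, 1, 1, 1)] (.node [(152, 1, 1, 1)] .nil (.node [(215, 1, 1, 1)] .nil .nil)) (.node [] (.node [(200, 1, 1, 1)] .nil .nil) .nil)) (.node [] (.node [(160, (-1), 1, 1)] .nil (.node [(222, 1, 1, 1)] (.node [(238, 1, 1, 1)] .nil .nil) .nil)) .nil))) (.node [] (.node [] (.node [(132, 1, 1, 1)] (.node [] .nil (.node [] (.node [(231, (-1), 1, 1)] .nil .nil) .nil)) (.node [] (.node [(198, 1, 1, 1)] .nil .nil) .nil)) (.node [] (.node [(158,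 1, 1, 1)] .nil (.node [(220, 1, 1, 1)] (.node [(236, 1, 1, 1)] .nil .nil) .nil)) .nil)) (.node [(98, 1, 1, 1)] (.node [(137, (-1), 1, 1)] (.node [(154, 1, 1, 1)] .nil (.node [(217, 1, 1, 1)] .nil .nil)) (.node [] (.node [(202, 1, 1, 1)] .nil .nil) .nil)) (.node [] (.node [] (.node [(194, (-1), 1, 1)] .nil .nil) .nil) .nil)))))
def C224 : List (ℕ × List (ℕ × ℤ)) := [(0, [(66, (-1))]), (1, [(67, (-1))]), (2, [(68, (-1))]), (3, [(69, (-1))]), (4, [(70, (-1))]), (7, [(76, 1)]), (8, [(77, 1)]), (14, [(98, 1)]), (16, [(130, 1)]), (17, [(131, (-1))]), (18, [(132, 1)]), (19, [(133, (-1))]), (20, [(134, 1)]), (21, [(136, 1)]), (22, [(137, (-1))]), (23, [(138, 1)]), (24, [(139, (-1))]), (25, [(140, 1)]), (36, [(152, 1)]), (37, [(153, (-1))]), (38, [(154, 1)]), (39, [(155, (-1))]), (40, [(156, 1)]), (41, [(157, (-1))]), (42, [(158, 1)]), (43, [(159, 1)]), (44, [(160, (-1))]), (45, [(161, 1)]), (78, [(194, (-1))]), (79, [(195, 1)]), (80, [(196, (-1))]),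 (81, [(197, (-1))]), (82, [(198, 1)]), (83, [(199, (-1))]), (84, [(200, 1)]), (85, [(201, (-1))]), (86, [(202, 1)]), (87, [(203, (-1))]), (99, [(214, (-1))]), (100, [(215, 1)]), (101, [(216, (-1))]), (102, [(217, 1)]), (103, [(218, (-1))]), (105, [(219, (-1))]), (106, [(220, 1)]), (107, [(221, (-1))]), (108, [(222, 1)]), (109, [(223, (-1))]), (141, [(225, (-1))]), (162, [(231, (-1))]), (163, [(232, (-1))]), (169, [(235, 1)]), (170, [(236, 1)]), (171, [(237, 1)]), (172, [(238, 1)]), (173, [(239, 1)])]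
def M225 : Tr (List (ℕ × ℤ × ℕ × ℕ)) := (.node [(71, 1, 1, 1)] (.node [(72, 1, 1, 1)] (.node [(74, 1, 1, 1)] (.node [] (.node [(141, 1, 1, 1)] (.node [(157, (-1), 1, 1)] .nil (.node [(221, 1, 1, 1)] .nil .nil)) (.node [] (.node [(205, 1, 1, 1)] .nil .nil) .nil)) (.node [(149, 1, 1, 1)] (.node [] .nil (.node [] (.node [(238, (-1), 1, 1)] .nil .nil) .nil)) (.node [] (.node [(213, (-1), 1, 1)] .nil .nil) .nil))) (.node [] (.node [(145, 1, 1, 1)] (.node [(161, 1, 1, 1)] .nil (.node [] (.node [(234, (-1), 1, 1)] .nil .nil) .nil)) (.node [] (.node [(209, (-1), 1, 1)] .nil .nil) .nil)) (.node [(153, (-1), 1, 1)] .nil (.node [] (.node [(217, 1, 1, 1)] .nil .nil) .nil)))) (.node [(76, 1, 1, 1)] (.node [] (.node [(143, 1, 1, 1)] (.node [(159, 1, 1, 1)] .nil (.node [(223, 1, 1, 1)] .nil .nil)) (.node [] (.node [(207, (-1), 1, 1)] .nil .nil) .nil)) (.node [(151, 1, 1, 1)] .nil (.node [] (.node [(215, 1, 1, 1)] .nil .nil) .nil))) (.node [] (.node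 [(147, 1, 1, 1)] (.node [] .nil (.node [] (.node [(236, (-1), 1, 1)] .nil .nil) .nil)) (.node [] (.node [(211, (-1), 1, 1)] .nil .nil) .nil)) (.node [(155, (-1), 1, 1)] .nil (.node [] (.node [(219, 1, 1, 1)] .nil .nil) .nil))))) (.node [(73, 1, 1, 1)] (.node [(75, 1, 1, 1)] (.node [] (.node [(142, (-1), 1, 1)] (.node [(158, 1, 1, 1)] .nil (.node [(222, (-1), 1, 1)] .nil .nil)) (.node [] (.node [(206, (-1), 1, 1)] .nil .nil) .nil)) (.node [(150, (-1), 1, 1)] (.node [] .nil (.node [] (.node [(239, (-1), 1, 1)] .nil .nil) .nil)) (.node [] (.node [(214, (-1), 1, 1)] .nil .nil) .nil))) (.node [] (.node [(146, (-1), 1, 1)] (.node [] .nil (.node [] (.node [(235, (-1), 1, 1)] .nil .nil) .nil)) (.node [] (.node [(210, 1, 1, 1)] .nil .nil) .nil)) (.node [(154, 1, 1, 1)] .nil (.node [] (.node [(218, (-1), 1, 1)] .nil .nil) .nil)))) (.node [(77, 1, 1, 1)] (.node [] (.node [(144, (-1), 1, 1)] (.node [(160, (-1), 1, 1)] .nil (.node [(224, (-1), 1,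 1)] (.node [(233, (-1), 1, 1)] .nil .nil) .nil)) (.node [] (.node [(208, 1, 1, 1)] .nil .nil) .nil)) (.node [(152, 1, 1, 1)] .nil (.node [] (.node [(216, (-1), 1, 1)] .nil .nil) .nil))) (.node [] (.node [(148, (-1), 1, 1)] (.node [] .nil (.node [] (.node [(237, (-1), 1, 1)] .nil .nil) .nil)) (.node [] (.node [(212, 1, 1, 1)] .nil .nil) .nil)) (.node [(156, 1, 1, 1)] (.node [] (.node [(204, (-1), 1, 1)] .nil .nil) .nil) (.node [] (.node [(220, (-1), 1, 1)] .nil .nil) .nil))))))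
def C225 : List (ℕ × List (ℕ × ℤ)) := [(0, [(71, 1)]), (1, [(72, 1)]), (2, [(73, 1)]), (3, [(74, 1)]), (4, [(75, 1)]), (5, [(76, 1)]), (6, [(77, 1)]), (15, [(141, 1)]), (16, [(142, (-1))]), (17, [(143, 1)]), (18, [(144, (-1))]), (19, [(145, 1)]), (20, [(146, (-1))]), (21, [(147, 1)]), (22, [(148, (-1))]), (23, [(149, 1)]), (24, [(150, (-1))]), (25, [(151, 1)]), (26, [(152, 1)]), (27, [(153, (-1))]), (28, [(154, 1)]), (29, [(155, (-1))]), (30, [(156, 1)]), (31, [(157, (-1))]), (32, [(158, 1)]), (33, [(159, 1)]), (34, [(160, (-1))]), (35, [(161, 1)]), (78, [(204, (-1))]), (79, [(205, 1)]), (80, [(206, (-1))]), (81, [(207, (-1))]), (82, [(208, 1)]), (83, [(209, (-1))]), (84, [(210, 1)]), (85, [(211, (-1))]), (86, [(212, 1)]), (87, [(213, (-1))]), (88, [(214, (-1))]), (89, [(215, 1)]), (90, [(216, (-1))]), (91, [(217, 1)]), (92, [(218, (-1))]), (93, [(219, 1)]), (94, [(220, (-1))]), (95, [(221, 1)]), (96, [(222, (-1))]), (97, [(223, 1)]),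 (98, [(224, (-1))]), (162, [(233, (-1))]), (163, [(234, (-1))]), (164, [(235, (-1))]), (165, [(236, (-1))]), (166, [(237, (-1))]), (167, [(238, (-1))]), (168, [(239, (-1))])]
def M226 : Tr (List (ℕ × ℤ × ℕ × ℕ)) := (.node [] (.node [(78, (-1), 1, 1)] (.node [(81, (-1), 1, 1)] (.node [(99, (-1), 1, 1)] (.node [] (.node [] (.node [(188, 1, 1, 1)] .nil .nil) .nil) .nil) (.node [] (.node [(169, (-1), 1, 1)] .nil .nil) (.node [(181, (-1), 1, 1)] (.node [] (.node [(234, 1, 1, 1)] .nil .nil) .nil) .nil))) (.node [(117, (-1), 1, 1)] (.node [] (.node [(167, (-1), 1, 1)] (.node [(194, (-1), 1, 1)] .nil .nil) .nil) (.node [(176, (-1), 1, 1)] .nil .nil)) (.node [] (.node [] (.node [(210, (-1), 1, 1)] .nil .nil) .nil) (.node [] (.node [] (.node [(235, 1, 1, 1)] .nil .nil) .nil) .nil)))) (.node [(88, (-1), 1, 1)] (.node [(110, (-1), 1, 1)] (.node [] (.node [] (.node [(191, 1, 1, 1)] (.node [(230, 1, 1, 1)] .nil .nil) .nil) (.node [] (.node [(238, 1,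 1, 1)] .nil .nil) .nil)) .nil) (.node [(163, (-1), 1, 1)] (.node [] (.node [(205, (-1), 1, 1)] .nil .nil) .nil) .nil)) (.node [] (.node [] (.node [] (.node [(197, (-1), 1, 1)] .nil .nil) .nil) (.node [(178, (-1), 1, 1)] .nil .nil)) (.node [(164, 1, 1, 1)] (.node [(172, 1, 1, 1)] (.node [(219, (-1), 1, 1)] .nil .nil) .nil) (.node [(186, 1, 1, 1)] .nil (.node [(229, (-1), 1, 1)] .nil .nil)))))) (.node [(79, (-1), 1, 1)] (.node [(84, (-1), 1, 1)] (.node [(105, 1, 1, 1)] (.node [] (.node [(165, (-1), 1, 1)] (.node [(189, (-1), 1, 1)] .nil .nil) (.node [] (.node [(237, 1, 1, 1)] .nil .nil) .nil)) (.node [(174, (-1), 1, 1)] .nil .nil)) (.node [] (.node [] (.node [(204, 1, 1, 1)] .nil .nil) .nil) (.node [] .nil (.node [(227, (-1), 1, 1)] .nil .nil)))) (.node [(119, 1, 1, 1)] (.node [(162, 1, 1, 1)] (.node [] (.node [(195, 1, 1, 1)] .nil .nil) .nil) .nil) (.node [] (.node [(171, (-1), 1, 1)] (.node [(214, 1, 1, 1)] (.node [(232, 1, 1, 1)] .nil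 .nil) .nil) .nil) (.node [(185, (-1), 1, 1)] .nil .nil)))) (.node [(93, (-1), 1, 1)] (.node [(114, 1, 1, 1)] (.node [] (.node [(166, 1, 1, 1)] .nil .nil) (.node [(175, 1, 1, 1)] (.node [] (.node [(233, 1, 1, 1)] .nil .nil) .nil) .nil)) (.node [] (.node [(170, 1, 1, 1)] (.node [(207, 1, 1, 1)] .nil .nil) .nil) (.node [(184, 1, 1, 1)] .nil (.node [(228, 1, 1, 1)] .nil .nil)))) (.node [] (.node [] (.node [] (.node [(200, 1, 1, 1)] (.node [(231, (-1), 1, 1)] .nil .nil) .nil) .nil) (.node [(179, 1, 1, 1)] .nil .nil)) (.node [] .nil (.node [] (.node [] (.node [(236, 1, 1, 1)] .nil .nil) .nil) .nil))))))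
def C226 : List (ℕ × List (ℕ × ℤ)) := [(1, [(78, (-1))]), (2, [(79, (-1))]), (3, [(81, (-1))]), (4, [(84, (-1))]), (5, [(88, (-1))]), (6, [(93, (-1))]), (7, [(99, (-1))]), (8, [(105, 1)]), (9, [(110, (-1))]), (10, [(114, 1)]), (11, [(117, (-1))]), (12, [(119, 1)]), (20, [(162, 1)]), (25, [(163, (-1))]), (29, [(164, 1)]), (32, [(165, (-1))]), (34, [(166, 1)]), (35, [(167, (-1))]), (39, [(169, (-1))]), (42, [(170, 1)]), (44, [(171, (-1))]), (45, [(172, 1)]), (48, [(174, (-1))]), (50, [(175, 1)]), (51, [(176, (-1))]), (53, [(178, (-1))]), (54, [(179, 1)]), (55, [(181, (-1))]), (58, [(184, 1)]), (60, [(185, (-1))]), (61, [(186, 1)]), (63, [(188, 1)]), (64, [(189, (-1))]), (65, [(191, 1)]), (67, [(194, (-1))]), (68, [(195, 1)]), (69, [(197, (-1))]), (70, [(200, 1)]), (72, [(204, 1)]), (73, [(205, (-1))]), (74, [(207, 1)]), (75, [(210, (-1))]), (76, [(214, 1)]), (77, [(219, (-1))]), (120, [(227, (-1))]), (122, [(228, 1)]), (125, [(229, (-1))]),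 (129, [(230, 1)]), (134, [(231, (-1))]), (140, [(232, 1)]), (146, [(233, 1)]), (151, [(234, 1)]), (155, [(235, 1)]), (158, [(236, 1)]), (160, [(237, 1)]), (161, [(238, 1)])]
def M227 : Tr (List (ℕ × ℤ × ℕ × ℕ)) := (.node [(78, (-1), 1, 1)] (.node [] (.node [(82, 1, 1, 1)] (.node [(100, 1, 1, 1)] (.node [] (.node [(165, (-1), 1, 1)] .nil (.node [] (.node [(237, (-1), 1, 1)] .nil .nil) .nil)) (.node [(174, (-1), 1, 1)] .nil .nil)) (.node [] (.node [] (.node [(204, 1, 1, 1)] .nil .nil) .nil) (.node [(182, (-1), 1, 1)] .nil (.node [(226, (-1), 1, 1)] .nil .nil)))) (.node [(118, 1, 1, 1)] (.node [(162, 1, 1, 1)] (.node [(168, (-1), 1, 1)] .nil .nil) (.node [(177, (-1), 1, 1)] .nil .nil)) (.node [] (.node [(171, (-1), 1, 1)] (.node [(211, (-1), 1, 1)] (.node [(232, (-1), 1, 1)] .nil .nil) .nil) .nil) (.node [(185, (-1), 1, 1)] .nil .nil)))) (.node [(89, 1, 1, 1)] (.node [(111, 1, 1, 1)] (.node [] (.node [(166, 1, 1, 1)] (.node [(192, 1, 1,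 1)] .nil .nil) (.node [] (.node [(239, 1, 1, 1)] .nil .nil) .nil)) (.node [(175, 1, 1, 1)] (.node [] (.node [(233, (-1), 1, 1)] .nil .nil) .nil) .nil)) (.node [] (.node [(170, 1, 1, 1)] (.node [(206, (-1), 1, 1)] .nil .nil) .nil) (.node [(184, 1, 1, 1)] .nil (.node [(228, (-1), 1, 1)] .nil .nil)))) (.node [(120, 1, 1, 1)] (.node [] (.node [] (.node [(198, (-1), 1, 1)] (.node [(231, 1, 1, 1)] .nil .nil) .nil) .nil) .nil) (.node [] (.node [(173, 1, 1, 1)] (.node [(220, (-1), 1, 1)] .nil .nil) .nil) (.node [(187, 1, 1, 1)] (.node [] (.node [(236, (-1), 1, 1)] .nil .nil) .nil) .nil))))) (.node [(80, 1, 1, 1)] (.node [(85, 1, 1, 1)] (.node [(106, (-1), 1, 1)] (.node [] (.node [] (.node [(190, (-1), 1, 1)] (.node [(230, (-1), 1, 1)] .nil .nil) .nil) .nil) .nil) (.node [(163, (-1), 1, 1)] .nil .nil)) (.node [] (.node [] (.node [] (.node [(196, 1, 1, 1)] .nil .nil) .nil) (.node [(178, (-1), 1, 1)] .nil .nil)) (.node [(164, 1, 1, 1)] (.node []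 (.node [(215, 1, 1, 1)] .nil .nil) .nil) (.node [] .nil (.node [(229, 1, 1, 1)] .nil .nil))))) (.node [(94, 1, 1, 1)] (.node [(115, (-1), 1, 1)] (.node [] (.node [] (.node [(194, (-1), 1, 1)] .nil .nil) .nil) .nil) (.node [] (.node [] (.node [(208, 1, 1, 1)] .nil .nil) .nil) (.node [] (.node [] (.node [(235, (-1), 1, 1)] .nil .nil) .nil) .nil))) (.node [] (.node [] (.node [(169, (-1), 1, 1)] (.node [(201, 1, 1, 1)] .nil .nil) .nil) (.node [(180, 1, 1, 1)] (.node [] (.node [(234, (-1), 1, 1)] .nil .nil) .nil) .nil)) (.node [] .nil (.node [(188, 1, 1, 1)] .nil .nil))))))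
def C227 : List (ℕ × List (ℕ × ℤ)) := [(0, [(78, (-1))]), (2, [(80, 1)]), (3, [(82, 1)]), (4, [(85, 1)]), (5, [(89, 1)]), (6, [(94, 1)]), (7, [(100, 1)]), (8, [(106, (-1))]), (9, [(111, 1)]), (10, [(115, (-1))]), (11, [(118, 1)]), (13, [(120, 1)]), (19, [(162, 1)]), (24, [(163, (-1))]), (28, [(164, 1)]), (31, [(165, (-1))]), (33, [(166, 1)]), (35, [(168, (-1))]), (38, [(169, (-1))]), (41, [(170, 1)]), (43, [(171, (-1))]), (45, [(173, 1)]), (47, [(174, (-1))]), (49, [(175, 1)]), (51, [(177, (-1))]), (52, [(178, (-1))]), (54, [(180, 1)]), (55, [(182, (-1))]), (57, [(184, 1)]), (59, [(185, (-1))]), (61, [(187, 1)]), (62, [(188, 1)]), (64, [(190, (-1))]), (65, [(192, 1)]), (66, [(194, (-1))]), (68, [(196, 1)]), (69, [(198, (-1))]), (70, [(201, 1)]), (71, [(204, 1)]), (73, [(206, (-1))]), (74, [(208, 1)]), (75, [(211, (-1))]), (76, [(215, 1)]), (77, [(220, (-1))]), (119, [(226, (-1))]), (121, [(228, (-1))]), (124, [(229, 1)]), (128, [(230,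 (-1))]), (133, [(231, 1)]), (139, [(232, (-1))]), (145, [(233, (-1))]), (150, [(234, (-1))]), (154, [(235, (-1))]), (157, [(236, (-1))]), (159, [(237, (-1))]), (161, [(239, 1)])]
def M228 : Tr (List (ℕ × ℤ × ℕ × ℕ)) := (.node [(79, 1, 1, 1)] (.node [(80, 1, 1, 1)] (.node [(83, (-1), 1, 1)] (.node [(101, (-1), 1, 1)] (.node [] (.node [] (.node [(190, (-1), 1, 1)] (.node [(230, 1, 1, 1)] .nil .nil) .nil) (.node [] (.node [(238, (-1), 1, 1)] .nil .nil) .nil)) .nil) (.node [(163, (-1), 1, 1)] (.node [] (.node [(205, 1, 1, 1)] .nil .nil) .nil) (.node [(183, (-1), 1, 1)] .nil .nil))) (.node [] (.node [] (.node [] (.node [(196, 1, 1, 1)] .nil .nil) .nil) .nil) (.node [(164, 1, 1, 1)] (.node [(172, (-1), 1, 1)] (.node [(212, (-1), 1, 1)] .nil .nil) .nil) (.node [(186, (-1), 1, 1)] .nil (.node [(229, (-1), 1, 1)] .nil .nil))))) (.node [(90, (-1), 1, 1)] (.node [(112, (-1), 1, 1)] (.node [] (.node [(167, 1, 1, 1)] (.node [(193, 1, 1, 1)] .nil .nil)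 .nil) (.node [(176, 1, 1, 1)] .nil .nil)) (.node [] .nil (.node [] (.node [] (.node [(235, 1, 1, 1)] .nil .nil) .nil) .nil))) (.node [(122, (-1), 1, 1)] (.node [] (.node [(169, (-1), 1, 1)] (.node [(199, (-1), 1, 1)] .nil .nil) .nil) (.node [(180, 1, 1, 1)] (.node [] (.node [(234, 1, 1, 1)] .nil .nil) .nil) (.node [(226, 1, 1, 1)] .nil .nil))) (.node [] (.node [] (.node [(221, (-1), 1, 1)] .nil .nil) .nil) .nil)))) (.node [] (.node [(86, (-1), 1, 1)] (.node [(107, 1, 1, 1)] (.node [] (.node [] .nil (.node [] (.node [(239, (-1), 1, 1)] .nil .nil) .nil)) (.node [] (.node [] (.node [(233, 1, 1, 1)] .nil .nil) .nil) .nil)) (.node [] (.node [(170, 1, 1, 1)] (.node [(206, (-1), 1, 1)] .nil .nil) .nil) (.node [(184, 1, 1, 1)] .nil .nil))) (.node [(121, 1, 1, 1)] (.node [] (.node [] (.node [] (.node [(231, (-1), 1, 1)] .nil .nil) .nil) .nil) (.node [(179, (-1), 1, 1)] .nil .nil)) (.node [] (.node [(173, 1, 1, 1)] (.node [(216, 1, 1, 1)] .nil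 .nil) .nil) (.node [(187, 1, 1, 1)] (.node [] (.node [(236, 1, 1, 1)] .nil .nil) .nil) .nil)))) (.node [(95, (-1), 1, 1)] (.node [(116, 1, 1, 1)] (.node [(162, 1, 1, 1)] (.node [(168, (-1), 1, 1)] (.node [(195, (-1), 1, 1)] .nil .nil) .nil) (.node [(177, (-1), 1, 1)] .nil .nil)) (.node [] (.node [] (.node [(209, 1, 1, 1)] (.node [(232, 1, 1, 1)] .nil .nil) .nil) .nil) .nil)) (.node [] (.node [] (.node [] (.node [(202, 1, 1, 1)] .nil .nil) .nil) (.node [] .nil (.node [(227, (-1), 1, 1)] .nil .nil))) (.node [(165, (-1), 1, 1)] (.node [(174, (-1), 1, 1)] .nil .nil) (.node [(189, 1, 1, 1)] .nil .nil))))))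
def C228 : List (ℕ × List (ℕ × ℤ)) := [(0, [(79, 1)]), (1, [(80, 1)]), (3, [(83, (-1))]), (4, [(86, (-1))]), (5, [(90, (-1))]), (6, [(95, (-1))]), (7, [(101, (-1))]), (8, [(107, 1)]), (9, [(112, (-1))]), (10, [(116, 1)]), (12, [(121, 1)]), (13, [(122, (-1))]), (18, [(162, 1)]), (23, [(163, (-1))]), (27, [(164, 1)]), (30, [(165, (-1))]), (33, [(167, 1)]), (34, [(168, (-1))]), (37, [(169, (-1))]), (40, [(170, 1)]), (43, [(172, (-1))]), (44, [(173, 1)]), (46, [(174, (-1))]), (49, [(176, 1)]), (50, [(177, (-1))]), (52, [(179, (-1))]), (53, [(180, 1)]), (55, [(183, (-1))]), (56, [(184, 1)]), (59, [(186, (-1))]), (60, [(187, 1)]), (62, [(189, 1)]), (63, [(190, (-1))]), (65, [(193, 1)]), (66, [(195, (-1))]), (67, [(196, 1)]), (69, [(199, (-1))]), (70, [(202, 1)]), (71, [(205, 1)]), (72, [(206, (-1))]), (74, [(209, 1)]), (75, [(212, (-1))]), (76, [(216, 1)]), (77, [(221, (-1))]), (117, [(226, 1)]), (118, [(227, (-1))]), (123, [(229, (-1))]),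 (127, [(230, 1)]), (132, [(231, (-1))]), (138, [(232, 1)]), (144, [(233, 1)]), (149, [(234, 1)]), (153, [(235, 1)]), (156, [(236, 1)]), (159, [(238, (-1))]), (160, [(239, (-1))])]
def M229 : Tr (List (ℕ × ℤ × ℕ × ℕ)) := (.node [(81, (-1), 1, 1)] (.node [(82, (-1), 1, 1)] (.node [] (.node [(102, 1, 1, 1)] (.node [] (.node [(167, 1, 1, 1)] (.node [(192, (-1), 1, 1)] .nil .nil) .nil) (.node [(176, 1, 1, 1)] (.node [] (.node [(233, (-1), 1, 1)] .nil .nil) .nil) .nil)) (.node [] (.node [] (.node [(207, 1, 1, 1)] .nil .nil) .nil) .nil)) (.node [(123, 1, 1, 1)] (.node [] (.node [] (.node [(198, 1, 1, 1)] (.node [(231, 1, 1, 1)] .nil .nil) .nil) .nil) (.node [] .nil (.node [(227, 1, 1, 1)] .nil .nil))) (.node [] (.node [] (.node [(213, (-1), 1, 1)] .nil .nil) .nil) .nil))) (.node [(91, 1, 1, 1)] (.node [(113, 1, 1, 1)] (.node [(162, 1, 1, 1)] .nil .nil) (.node [] (.node [(172, (-1), 1, 1)] (.node [(209, 1, 1, 1)] (.node [(232, (-1), 1, 1)] .nil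 .nil) .nil) .nil) (.node [(186, (-1), 1, 1)] .nil .nil))) (.node [(125, 1, 1, 1)] (.node [] .nil (.node [(182, 1, 1, 1)] .nil .nil)) (.node [] (.node [] (.node [(222, (-1), 1, 1)] .nil .nil) .nil) (.node [] (.node [] (.node [(238, 1, 1, 1)] .nil .nil) .nil) .nil))))) (.node [(83, (-1), 1, 1)] (.node [(87, 1, 1, 1)] (.node [(108, (-1), 1, 1)] (.node [] (.node [(168, (-1), 1, 1)] (.node [(193, 1, 1, 1)] .nil .nil) .nil) (.node [(177, (-1), 1, 1)] .nil .nil)) (.node [] (.node [(171, 1, 1, 1)] (.node [(208, (-1), 1, 1)] .nil .nil) .nil) (.node [(185, 1, 1, 1)] (.node [] (.node [(235, (-1), 1, 1)] .nil .nil) .nil) .nil))) (.node [(124, (-1), 1, 1)] (.node [] (.node [(169, (-1), 1, 1)] (.node [(199, (-1), 1, 1)] .nil .nil) .nil) (.node [(181, (-1), 1, 1)] (.node [] (.node [(234, (-1), 1, 1)] .nil .nil) .nil) (.node [(228, (-1), 1, 1)] .nil .nil))) (.node [] (.node [] (.node [(217, 1, 1, 1)] .nil .nil) .nil) (.node [] (.node [] (.node [(237,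 1, 1, 1)] .nil .nil) .nil) .nil)))) (.node [(96, 1, 1, 1)] (.node [] (.node [] (.node [] (.node [(197, (-1), 1, 1)] .nil .nil) .nil) (.node [] .nil (.node [(226, (-1), 1, 1)] .nil .nil))) (.node [(164, 1, 1, 1)] (.node [(173, 1, 1, 1)] .nil .nil) (.node [(187, 1, 1, 1)] .nil .nil))) (.node [] (.node [(163, (-1), 1, 1)] (.node [] (.node [(203, 1, 1, 1)] .nil .nil) .nil) (.node [(183, (-1), 1, 1)] .nil .nil)) (.node [(166, (-1), 1, 1)] (.node [(175, (-1), 1, 1)] .nil .nil) (.node [(191, 1, 1, 1)] (.node [] (.node [(239, 1, 1, 1)] .nil .nil) .nil) (.node [(230, (-1), 1, 1)] .nil .nil)))))))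
def C229 : List (ℕ × List (ℕ × ℤ)) := [(0, [(81, (-1))]), (1, [(82, (-1))]), (2, [(83, (-1))]), (4, [(87, 1)]), (5, [(91, 1)]), (6, [(96, 1)]), (7, [(102, 1)]), (8, [(108, (-1))]), (9, [(113, 1)]), (11, [(123, 1)]), (12, [(124, (-1))]), (13, [(125, 1)]), (17, [(162, 1)]), (22, [(163, (-1))]), (26, [(164, 1)]), (30, [(166, (-1))]), (31, [(167, 1)]), (32, [(168, (-1))]), (36, [(169, (-1))]), (40, [(171, 1)]), (41, [(172, (-1))]), (42, [(173, 1)]), (46, [(175, (-1))]), (47, [(176, 1)]), (48, [(177, (-1))]), (52, [(181, (-1))]), (53, [(182, 1)]), (54, [(183, (-1))]), (56, [(185, 1)]), (57, [(186, (-1))]), (58, [(187, 1)]), (62, [(191, 1)]), (63, [(192, (-1))]), (64, [(193, 1)]), (66, [(197, (-1))]), (67, [(198, 1)]), (68, [(199, (-1))]), (70, [(203, 1)]), (71, [(207, 1)]), (72, [(208, (-1))]), (73, [(209, 1)]), (75, [(213, (-1))]), (76, [(217, 1)]), (77, [(222, (-1))]), (114, [(226, (-1))]), (115, [(227, 1)]), (116, [(228, (-1))]), (126,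 [(230, (-1))]), (131, [(231, 1)]), (137, [(232, (-1))]), (143, [(233, (-1))]), (148, [(234, (-1))]), (152, [(235, (-1))]), (156, [(237, 1)]), (157, [(238, 1)]), (158, [(239, 1)])]
def M230 : Tr (List (ℕ × ℤ × ℕ × ℕ)) := (.node [(84, 1, 1, 1)] (.node [(85, 1, 1, 1)] (.node [(87, 1, 1, 1)] (.node [(103, (-1), 1, 1)] (.node [] .nil (.node [(179, 1, 1, 1)] .nil (.node [(227, (-1), 1, 1)] .nil .nil))) (.node [] (.node [(173, 1, 1, 1)] (.node [(210, 1, 1, 1)] .nil .nil) .nil) .nil)) (.node [(127, (-1), 1, 1)] (.node [] (.node [] (.node [(201, 1, 1, 1)] .nil .nil) .nil) (.node [(183, (-1), 1, 1)] (.node [] (.node [(234, 1, 1, 1)] .nil .nil) .nil) .nil)) (.node [(166, (-1), 1, 1)] .nil (.node [(191, 1, 1, 1)] (.node [] (.node [(239, (-1), 1, 1)] .nil .nil) .nil) .nil)))) (.node [(92, (-1), 1, 1)] (.node [] (.node [] .nil (.node [(181, (-1), 1, 1)] .nil (.node [(229, (-1), 1, 1)] .nil .nil))) (.node [] (.node [] (.node [(212, 1, 1, 1)] .nil .nil)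 .nil) (.node [(189, (-1), 1, 1)] (.node [] (.node [(237, (-1), 1, 1)] .nil .nil) .nil) .nil))) (.node [(129, (-1), 1, 1)] (.node [(163, (-1), 1, 1)] (.node [(171, 1, 1, 1)] (.node [(203, 1, 1, 1)] .nil .nil) .nil) .nil) (.node [(168, (-1), 1, 1)] (.node [] (.node [(223, (-1), 1, 1)] .nil .nil) .nil) (.node [(193, 1, 1, 1)] .nil .nil))))) (.node [(86, 1, 1, 1)] (.node [] (.node [(109, 1, 1, 1)] (.node [(162, 1, 1, 1)] .nil (.node [(180, (-1), 1, 1)] .nil (.node [(228, 1, 1, 1)] .nil .nil))) (.node [] (.node [] (.node [(211, (-1), 1, 1)] (.node [(232, 1, 1, 1)] .nil .nil) .nil) .nil) (.node [(188, 1, 1, 1)] (.node [] (.node [(236, (-1), 1, 1)] .nil .nil) .nil) .nil))) (.node [(128, 1, 1, 1)] (.node [] (.node [(170, (-1), 1, 1)] (.node [(202, (-1), 1, 1)] .nil .nil) .nil) .nil) (.node [(167, 1, 1, 1)] (.node [] (.node [(218, 1, 1, 1)] .nil .nil) .nil) (.node [(192, (-1), 1, 1)] .nil .nil)))) (.node [(97, (-1), 1, 1)] (.node [(126, 1, 1,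 1)] (.node [] (.node [] (.node [(200, (-1), 1, 1)] (.node [(231, (-1), 1, 1)] .nil .nil) .nil) .nil) (.node [(182, 1, 1, 1)] .nil .nil)) (.node [(165, 1, 1, 1)] (.node [] (.node [(213, (-1), 1, 1)] .nil .nil) .nil) (.node [(190, 1, 1, 1)] (.node [] (.node [(238, (-1), 1, 1)] .nil .nil) .nil) .nil))) (.node [] (.node [] (.node [(172, (-1), 1, 1)] .nil .nil) .nil) (.node [] (.node [(178, (-1), 1, 1)] (.node [] (.node [(233, 1, 1, 1)] .nil .nil) .nil) (.node [(226, 1, 1, 1)] .nil .nil)) .nil)))))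
def C230 : List (ℕ × List (ℕ × ℤ)) := [(0, [(84, 1)]), (1, [(85, 1)]), (2, [(86, 1)]), (3, [(87, 1)]), (5, [(92, (-1))]), (6, [(97, (-1))]), (7, [(103, (-1))]), (8, [(109, 1)]), (10, [(126, 1)]), (11, [(127, (-1))]), (12, [(128, 1)]), (13, [(129, (-1))]), (16, [(162, 1)]), (21, [(163, (-1))]), (26, [(165, 1)]), (27, [(166, (-1))]), (28, [(167, 1)]), (29, [(168, (-1))]), (36, [(170, (-1))]), (37, [(171, 1)]), (38, [(172, (-1))]), (39, [(173, 1)]), (46, [(178, (-1))]), (47, [(179, 1)]), (48, [(180, (-1))]), (49, [(181, (-1))]), (50, [(182, 1)]), (51, [(183, (-1))]), (56, [(188, 1)]), (57, [(189, (-1))]), (58, [(190, 1)]), (59, [(191, 1)]), (60, [(192, (-1))]), (61, [(193, 1)]), (66, [(200, (-1))]), (67, [(201, 1)]), (68, [(202, (-1))]), (69, [(203, 1)]), (71, [(210, 1)]), (72, [(211, (-1))]), (73, [(212, 1)]), (74, [(213, (-1))]), (76, [(218, 1)]), (77, [(223, (-1))]), (110, [(226, 1)]), (111, [(227, (-1))]), (112, [(228, 1)]), (113, [(229,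 (-1))]), (130, [(231, (-1))]), (136, [(232, 1)]), (142, [(233, 1)]), (147, [(234, 1)]), (152, [(236, (-1))]), (153, [(237, (-1))]), (154, [(238, (-1))]), (155, [(239, (-1))])]
def M231 : Tr (List (ℕ × ℤ × ℕ × ℕ)) := (.node [(88, (-1), 1, 1)] (.node [(89, (-1), 1, 1)] (.node [(91, (-1), 1, 1)] (.node [(104, 1, 1, 1)] (.node [(162, 1, 1, 1)] (.node [] (.node [(201, 1, 1, 1)] .nil .nil) .nil) .nil) (.node [(166, (-1), 1, 1)] (.node [(177, 1, 1, 1)] (.node [(214, 1, 1, 1)] (.node [(232, (-1), 1, 1)] .nil .nil) .nil) .nil) (.node [] (.node [] (.node [(239, 1, 1, 1)] .nil .nil) .nil) .nil))) (.node [(132, 1, 1, 1)] (.node [] .nil (.node [] (.node [] (.node [(235, 1, 1, 1)] .nil .nil) .nil) .nil)) (.node [] (.node [(181, (-1), 1, 1)] (.node [(218, 1, 1, 1)] .nil .nil) (.node [(228, (-1), 1, 1)] .nil .nil)) (.node [(197, 1, 1, 1)] .nil .nil)))) (.node [] (.node [(130, 1, 1, 1)] (.node [] (.node [] (.node [(203, 1, 1, 1)] .nil .nil) .nil) .nil)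 (.node [(168, (-1), 1, 1)] (.node [(179, 1, 1, 1)] (.node [(216, 1, 1, 1)] .nil .nil) (.node [(226, (-1), 1, 1)] .nil .nil)) (.node [(195, (-1), 1, 1)] .nil .nil))) (.node [(134, 1, 1, 1)] (.node [(164, (-1), 1, 1)] (.node [(175, 1, 1, 1)] .nil .nil) (.node [] (.node [] (.node [(237, 1, 1, 1)] .nil .nil) .nil) .nil)) (.node [] (.node [(183, (-1), 1, 1)] (.node [(224, (-1), 1, 1)] (.node [(233, (-1), 1, 1)] .nil .nil) .nil) (.node [(230, (-1), 1, 1)] .nil .nil)) (.node [(199, 1, 1, 1)] .nil .nil))))) (.node [(90, (-1), 1, 1)] (.node [(92, (-1), 1, 1)] (.node [] (.node [] (.node [] (.node [(202, (-1), 1, 1)] .nil .nil) .nil) .nil) (.node [(167, 1, 1, 1)] (.node [(178, (-1), 1, 1)] (.node [(215, (-1), 1, 1)] .nil .nil) .nil) (.node [(194, 1, 1, 1)] .nil .nil))) (.node [(133, (-1), 1, 1)] (.node [] (.node [(174, (-1), 1, 1)] .nil .nil) (.node [] (.node [] (.node [(236, 1, 1, 1)] .nil .nil) .nil) .nil)) (.node [] (.node [(182, 1, 1, 1)] .nil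 (.node [(229, 1, 1, 1)] .nil .nil)) (.node [(198, (-1), 1, 1)] .nil .nil)))) (.node [(98, 1, 1, 1)] (.node [(131, (-1), 1, 1)] .nil (.node [] (.node [(180, (-1), 1, 1)] (.node [(217, (-1), 1, 1)] .nil .nil) (.node [(227, 1, 1, 1)] .nil .nil)) (.node [(196, 1, 1, 1)] .nil .nil))) (.node [] (.node [(165, 1, 1, 1)] (.node [(176, (-1), 1, 1)] .nil .nil) (.node [] (.node [] (.node [(238, 1, 1, 1)] .nil .nil) .nil) .nil)) (.node [] .nil (.node [(200, (-1), 1, 1)] .nil .nil))))))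
def C231 : List (ℕ × List (ℕ × ℤ)) := [(0, [(88, (-1))]), (1, [(89, (-1))]), (2, [(90, (-1))]), (3, [(91, (-1))]), (4, [(92, (-1))]), (6, [(98, 1)]), (7, [(104, 1)]), (9, [(130, 1)]), (10, [(131, (-1))]), (11, [(132, 1)]), (12, [(133, (-1))]), (13, [(134, 1)]), (15, [(162, 1)]), (21, [(164, (-1))]), (22, [(165, 1)]), (23, [(166, (-1))]), (24, [(167, 1)]), (25, [(168, (-1))]), (36, [(174, (-1))]), (37, [(175, 1)]), (38, [(176, (-1))]), (39, [(177, 1)]), (40, [(178, (-1))]), (41, [(179, 1)]), (42, [(180, (-1))]), (43, [(181, (-1))]), (44, [(182, 1)]), (45, [(183, (-1))]), (56, [(194, 1)]), (57, [(195, (-1))]), (58, [(196, 1)]), (59, [(197, 1)]), (60, [(198, (-1))]), (61, [(199, 1)]), (62, [(200, (-1))]), (63, [(201, 1)]), (64, [(202, (-1))]), (65, [(203, 1)]), (71, [(214, 1)]), (72, [(215, (-1))]), (73, [(216, 1)]), (74, [(217, (-1))]), (75, [(218, 1)]), (77, [(224, (-1))]), (105, [(226, (-1))]), (106, [(227, 1)]), (107, [(228, (-1))]),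 (108, [(229, 1)]), (109, [(230, (-1))]), (135, [(232, (-1))]), (141, [(233, (-1))]), (147, [(235, 1)]), (148, [(236, 1)]), (149, [(237, 1)]), (150, [(238, 1)]), (151, [(239, 1)])]
def M232 : Tr (List (ℕ × ℤ × ℕ × ℕ)) := (.node [(93, 1, 1, 1)] (.node [(94, 1, 1, 1)] (.node [(96, 1, 1, 1)] (.node [] (.node [(163, 1, 1, 1)] .nil (.node [(195, (-1), 1, 1)] (.node [] (.node [(236, (-1), 1, 1)] .nil .nil) .nil) .nil)) (.node [] (.node [(187, 1, 1, 1)] (.node [(219, 1, 1, 1)] .nil .nil) (.node [(230, 1, 1, 1)] .nil .nil)) (.node [(203, 1, 1, 1)] .nil .nil))) (.node [(138, (-1), 1, 1)] (.node [(167, 1, 1, 1)] (.node [] .nil (.node [(226, 1, 1, 1)] .nil .nil)) (.node [(199, 1, 1, 1)] .nil .nil)) (.node [] (.node [(191, (-1), 1, 1)] (.node [(223, 1, 1, 1)] .nil .nil) .nil) .nil))) (.node [(98, 1, 1, 1)] (.node [(136, (-1), 1, 1)] (.node [(165, 1, 1, 1)] .nil (.node [(197, 1, 1, 1)] (.node [] (.node [(238, (-1), 1, 1)] .nil .nil) .nil) .nil)) (.node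 [] (.node [(189, 1, 1, 1)] (.node [(221, 1, 1, 1)] .nil .nil) .nil) .nil)) (.node [(140, (-1), 1, 1)] (.node [] (.node [(185, 1, 1, 1)] .nil (.node [(228, 1, 1, 1)] .nil .nil)) (.node [(201, 1, 1, 1)] .nil .nil)) (.node [] (.node [(193, (-1), 1, 1)] (.node [] (.node [(234, (-1), 1, 1)] .nil .nil) .nil) .nil) .nil)))) (.node [(95, 1, 1, 1)] (.node [(97, 1, 1, 1)] (.node [(135, 1, 1, 1)] (.node [(164, (-1), 1, 1)] .nil (.node [(196, 1, 1, 1)] (.node [] (.node [(237, (-1), 1, 1)] .nil .nil) .nil) .nil)) (.node [] (.node [(188, (-1), 1, 1)] (.node [(220, (-1), 1, 1)] .nil .nil) (.node [(231, (-1), 1, 1)] .nil .nil)) .nil)) (.node [(139, 1, 1, 1)] (.node [(168, (-1), 1, 1)] (.node [(184, (-1), 1, 1)] .nil (.node [(227, (-1), 1, 1)] .nil .nil)) (.node [(200, (-1), 1, 1)] .nil .nil)) (.node [] (.node [(192, 1, 1, 1)] (.node [(224, (-1), 1, 1)] .nil .nil) .nil) .nil))) (.node [] (.node [(137, 1, 1, 1)] (.node [(166, (-1), 1, 1)] .nil (.node [(198,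 (-1), 1, 1)] (.node [] (.node [(239, (-1), 1, 1)] .nil .nil) .nil) .nil)) (.node [] (.node [(190, (-1), 1, 1)] (.node [(222, (-1), 1, 1)] .nil .nil) .nil) .nil)) (.node [] (.node [] (.node [(186, (-1), 1, 1)] .nil (.node [(229, (-1), 1, 1)] .nil .nil)) (.node [(202, (-1), 1, 1)] .nil .nil)) (.node [] (.node [(194, 1, 1, 1)] (.node [] (.node [(235, (-1), 1, 1)] .nil .nil) .nil) .nil) .nil)))))
def C232 : List (ℕ × List (ℕ × ℤ)) := [(0, [(93, 1)]), (1, [(94, 1)]), (2, [(95, 1)]), (3, [(96, 1)]), (4, [(97, 1)]), (5, [(98, 1)]), (8, [(135, 1)]), (9, [(136, (-1))]), (10, [(137, 1)]), (11, [(138, (-1))]), (12, [(139, 1)]), (13, [(140, (-1))]), (15, [(163, 1)]), (16, [(164, (-1))]), (17, [(165, 1)]), (18, [(166, (-1))]), (19, [(167, 1)]), (20, [(168, (-1))]), (36, [(184, (-1))]), (37, [(185, 1)]), (38, [(186, (-1))]), (39, [(187, 1)]), (40, [(188, (-1))]), (41, [(189, 1)]), (42, [(190, (-1))]), (43, [(191, (-1))]), (44, [(192, 1)]), (45, [(193,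 (-1))]), (46, [(194, 1)]), (47, [(195, (-1))]), (48, [(196, 1)]), (49, [(197, 1)]), (50, [(198, (-1))]), (51, [(199, 1)]), (52, [(200, (-1))]), (53, [(201, 1)]), (54, [(202, (-1))]), (55, [(203, 1)]), (71, [(219, 1)]), (72, [(220, (-1))]), (73, [(221, 1)]), (74, [(222, (-1))]), (75, [(223, 1)]), (76, [(224, (-1))]), (99, [(226, 1)]), (100, [(227, (-1))]), (101, [(228, 1)]), (102, [(229, (-1))]), (103, [(230, 1)]), (104, [(231, (-1))]), (141, [(234, (-1))]), (142, [(235, (-1))]), (143, [(236, (-1))]), (144, [(237, (-1))]), (145, [(238, (-1))]), (146, [(239, (-1))])]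
def M233 : Tr (List (ℕ × ℤ × ℕ × ℕ)) := (.node [(99, 1, 1, 1)] (.node [(100, 1, 1, 1)] (.node [(102, 1, 1, 1)] (.node [] (.node [] (.node [(179, 1, 1, 1)] (.node [(211, 1, 1, 1)] .nil .nil) (.node [(228, 1, 1, 1)] .nil .nil)) .nil) (.node [(171, (-1), 1, 1)] (.node [] (.node [] (.node [(234, (-1), 1, 1)] .nil .nil) .nil) .nil) .nil)) (.node [(144, (-1), 1, 1)] (.node [] (.node [(183, (-1), 1, 1)] (.node [(215, (-1), 1, 1)] .nil .nil) .nil) .nil) (.node [(175, 1, 1, 1)] (.node [] (.node [] (.node [(238, (-1), 1, 1)] .nil .nil) .nil) .nil) (.node [(207, 1, 1, 1)] .nil .nil)))) (.node [(104, 1, 1, 1)] (.node [(142, (-1), 1, 1)] (.node [] (.node [(181, (-1), 1, 1)] (.node [(213, 1, 1, 1)] .nil .nil) (.node [(230, 1, 1, 1)] .nil .nil)) .nil) (.node [(173, (-1), 1, 1)] (.node [] (.node [] (.node [(236, (-1), 1, 1)] .nil .nil) .nil) .nil) (.node [(205, (-1), 1, 1)] .nil .nil))) (.node [(146, (-1), 1, 1)] (.node [(169, (-1), 1, 1)] (.node []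 (.node [(217, (-1), 1, 1)] .nil .nil) .nil) .nil) (.node [(177, 1, 1, 1)] (.node [] (.node [(225, (-1), 1, 1)] .nil .nil) .nil) (.node [(209, 1, 1, 1)] (.node [(226, 1, 1, 1)] .nil .nil) .nil))))) (.node [(101, 1, 1, 1)] (.node [(103, 1, 1, 1)] (.node [(141, 1, 1, 1)] (.node [] (.node [(180, (-1), 1, 1)] (.node [(212, (-1), 1, 1)] .nil .nil) (.node [(229, (-1), 1, 1)] .nil .nil)) .nil) (.node [(172, 1, 1, 1)] (.node [] (.node [] (.node [(235, (-1), 1, 1)] .nil .nil) .nil) .nil) (.node [(204, 1, 1, 1)] .nil .nil))) (.node [(145, 1, 1, 1)] (.node [] (.node [] (.node [(216, 1, 1, 1)] .nil .nil) .nil) .nil) (.node [(176, (-1), 1, 1)] (.node [] (.node [] (.node [(239, (-1), 1, 1)] .nil .nil) .nil) .nil) (.node [(208, (-1), 1, 1)] .nil .nil)))) (.node [] (.node [(143, 1, 1, 1)] (.node [] (.node [(182, 1, 1, 1)] (.node [(214, 1, 1, 1)] .nil .nil) (.node [(231, (-1), 1, 1)] .nil .nil)) .nil) (.node [(174, (-1), 1, 1)] (.node [] (.node [] (.node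 [(237, (-1), 1, 1)] .nil .nil) .nil) .nil) (.node [(206, 1, 1, 1)] .nil .nil))) (.node [(162, 1, 1, 1)] (.node [(170, 1, 1, 1)] (.node [] (.node [(218, 1, 1, 1)] .nil .nil) .nil) .nil) (.node [(178, (-1), 1, 1)] .nil (.node [(210, (-1), 1, 1)] (.node [(227, (-1), 1, 1)] .nil .nil) .nil))))))
def C233 : List (ℕ × List (ℕ × ℤ)) := [(0, [(99, 1)]), (1, [(100, 1)]), (2, [(101, 1)]), (3, [(102, 1)]), (4, [(103, 1)]), (5, [(104, 1)]), (8, [(141, 1)]), (9, [(142, (-1))]), (10, [(143, 1)]), (11, [(144, (-1))]), (12, [(145, 1)]), (13, [(146, (-1))]), (14, [(162, 1)]), (21, [(169, (-1))]), (22, [(170, 1)]), (23, [(171, (-1))]), (24, [(172, 1)]), (25, [(173, (-1))]), (26, [(174, (-1))]), (27, [(175, 1)]), (28, [(176, (-1))]), (29, [(177, 1)]), (30, [(178, (-1))]), (31, [(179, 1)]), (32, [(180, (-1))]), (33, [(181, (-1))]), (34, [(182, 1)]), (35, [(183, (-1))]), (56, [(204, 1)]), (57, [(205, (-1))]), (58, [(206, 1)]), (59, [(207, 1)]), (60, [(208,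 (-1))]), (61, [(209, 1)]), (62, [(210, (-1))]), (63, [(211, 1)]), (64, [(212, (-1))]), (65, [(213, 1)]), (66, [(214, 1)]), (67, [(215, (-1))]), (68, [(216, 1)]), (69, [(217, (-1))]), (70, [(218, 1)]), (77, [(225, (-1))]), (93, [(226, 1)]), (94, [(227, (-1))]), (95, [(228, 1)]), (96, [(229, (-1))]), (97, [(230, 1)]), (98, [(231, (-1))]), (135, [(234, (-1))]), (136, [(235, (-1))]), (137, [(236, (-1))]), (138, [(237, (-1))]), (139, [(238, (-1))]), (140, [(239, (-1))])]
def M234 : Tr (List (ℕ × ℤ × ℕ × ℕ)) := (.node [(105, 1, 1, 1)] (.node [(106, 1, 1, 1)] (.node [(108, 1, 1, 1)] (.node [(141, 1, 1, 1)] (.node [] (.node [(189, 1, 1, 1)] .nil .nil) (.node [(205, (-1), 1, 1)] .nil .nil)) (.node [] .nil (.node [(213, 1, 1, 1)] .nil .nil))) (.node [(149, (-1), 1, 1)] (.node [(172, 1, 1, 1)] (.node [(193, (-1), 1, 1)] (.node [(220, (-1), 1, 1)] (.node [(236, (-1), 1, 1)] .nil .nil) .nil) .nil) (.node [(209, 1, 1, 1)] .nil .nil)) (.node [(185,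 1, 1, 1)] .nil (.node [] (.node [(229, (-1), 1, 1)] .nil .nil) .nil)))) (.node [] (.node [(147, (-1), 1, 1)] (.node [(170, 1, 1, 1)] (.node [(191, (-1), 1, 1)] .nil .nil) (.node [(207, 1, 1, 1)] .nil .nil)) (.node [] .nil (.node [] (.node [(227, (-1), 1, 1)] .nil .nil) .nil))) (.node [(151, (-1), 1, 1)] (.node [] (.node [] (.node [(222, (-1), 1, 1)] (.node [(238, (-1), 1, 1)] .nil .nil) .nil) .nil) (.node [(211, 1, 1, 1)] .nil .nil)) (.node [(187, 1, 1, 1)] .nil .nil)))) (.node [(107, 1, 1, 1)] (.node [(109, 1, 1, 1)] (.node [] (.node [(169, (-1), 1, 1)] (.node [(190, (-1), 1, 1)] .nil .nil) (.node [(206, 1, 1, 1)] .nil .nil)) (.node [] (.node [] .nil (.node [(233, (-1), 1, 1)] .nil .nil)) (.node [] (.node [(226, 1, 1, 1)] .nil .nil) .nil))) (.node [(150, 1, 1, 1)] (.node [(173, (-1), 1, 1)] (.node [] (.node [(221, 1, 1, 1)] (.node [(237, (-1), 1, 1)] .nil .nil) .nil) .nil) (.node [(210, (-1), 1, 1)] .nil .nil)) (.node [(186, (-1), 1,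 1)] (.node [] (.node [(225, (-1), 1, 1)] .nil .nil) .nil) (.node [] (.node [(230, 1, 1, 1)] .nil .nil) .nil)))) (.node [(135, 1, 1, 1)] (.node [(148, 1, 1, 1)] (.node [(171, (-1), 1, 1)] (.node [(192, 1, 1, 1)] (.node [(219, 1, 1, 1)] (.node [(235, (-1), 1, 1)] .nil .nil) .nil) (.node [(232, (-1), 1, 1)] .nil .nil)) (.node [(208, (-1), 1, 1)] .nil .nil)) (.node [(184, (-1), 1, 1)] .nil (.node [] (.node [(228, 1, 1, 1)] .nil .nil) .nil))) (.node [(163, 1, 1, 1)] (.node [] (.node [] (.node [(223, 1, 1, 1)] (.node [(239, (-1), 1, 1)] .nil .nil) .nil) .nil) (.node [(212, (-1), 1, 1)] .nil .nil)) (.node [(188, (-1), 1, 1)] (.node [(204, 1, 1, 1)] .nil .nil) .nil)))))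
def C234 : List (ℕ × List (ℕ × ℤ)) := [(0, [(105, 1)]), (1, [(106, 1)]), (2, [(107, 1)]), (3, [(108, 1)]), (4, [(109, 1)]), (6, [(135, 1)]), (7, [(141, 1)]), (9, [(147, (-1))]), (10, [(148, 1)]), (11, [(149, (-1))]), (12, [(150, 1)]), (13, [(151, (-1))]), (14, [(163, 1)]), (16, [(169, (-1))]), (17, [(170, 1)]), (18, [(171, (-1))]), (19, [(172, 1)]), (20, [(173, (-1))]), (26, [(184, (-1))]), (27, [(185, 1)]), (28, [(186, (-1))]), (29, [(187, 1)]), (30, [(188, (-1))]), (31, [(189, 1)]), (32, [(190, (-1))]), (33, [(191, (-1))]), (34, [(192, 1)]), (35, [(193, (-1))]), (46, [(204, 1)]), (47, [(205, (-1))]), (48, [(206, 1)]), (49, [(207, 1)]), (50, [(208, (-1))]), (51, [(209, 1)]), (52, [(210, (-1))]), (53, [(211, 1)]), (54, [(212, (-1))]), (55, [(213, 1)]), (66, [(219, 1)]), (67, [(220, (-1))]), (68, [(221, 1)]), (69, [(222, (-1))]), (70, [(223, 1)]), (76, [(225, (-1))]), (88, [(226, 1)]), (89, [(227, (-1))]), (90, [(228, 1)]), (91, [(229,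 (-1))]), (92, [(230, 1)]), (98, [(232, (-1))]), (104, [(233, (-1))]), (130, [(235, (-1))]), (131, [(236, (-1))]), (132, [(237, (-1))]), (133, [(238, (-1))]), (134, [(239, (-1))])]
def M235 : Tr (List (ℕ × ℤ × ℕ × ℕ)) := (.node [(110, 1, 1, 1)] (.node [(111, 1, 1, 1)] (.node [(113, 1, 1, 1)] (.node [(142, 1, 1, 1)] (.node [(169, (-1), 1, 1)] (.node [(195, 1, 1, 1)] (.node [(220, (-1), 1, 1)] (.node [(237, (-1), 1, 1)] .nil .nil) .nil) .nil) .nil) (.node [(185, 1, 1, 1)] (.node [] .nil (.node [(233, (-1), 1, 1)] .nil .nil)) (.node [(217, 1, 1, 1)] (.node [(229, (-1), 1, 1)] .nil .nil) .nil))) (.node [(153, (-1), 1, 1)] (.node [(176, 1, 1, 1)] (.node [(199, (-1), 1, 1)] .nil .nil) .nil) (.node [] (.node [(207, 1, 1, 1)] (.node [(225, (-1), 1, 1)] .nil .nil) .nil) .nil))) (.node [(130, 1, 1, 1)] (.node [] (.node [(174, 1, 1, 1)] (.node [(197, (-1), 1, 1)] (.node [(222, (-1), 1, 1)] (.node [(239, (-1), 1, 1)] .nil .nil) .nil) (.node [(232,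 (-1), 1, 1)] .nil .nil)) .nil) (.node [(187, 1, 1, 1)] (.node [(205, (-1), 1, 1)] .nil .nil) .nil)) (.node [(155, (-1), 1, 1)] (.node [] .nil (.node [(215, 1, 1, 1)] (.node [(227, (-1), 1, 1)] .nil .nil) .nil)) (.node [] (.node [(209, 1, 1, 1)] .nil (.node [(234, (-1), 1, 1)] .nil .nil)) .nil)))) (.node [(112, 1, 1, 1)] (.node [] (.node [(147, (-1), 1, 1)] (.node [] (.node [(196, (-1), 1, 1)] (.node [(221, 1, 1, 1)] (.node [(238, (-1), 1, 1)] .nil .nil) .nil) .nil) .nil) (.node [(186, (-1), 1, 1)] (.node [(204, 1, 1, 1)] .nil .nil) .nil)) (.node [(154, 1, 1, 1)] (.node [(177, (-1), 1, 1)] .nil (.node [(214, (-1), 1, 1)] (.node [(226, 1, 1, 1)] .nil .nil) .nil)) (.node [] (.node [(208, (-1), 1, 1)] .nil .nil) (.node [] (.node [(231, 1, 1, 1)] .nil .nil) .nil)))) (.node [(136, 1, 1, 1)] (.node [(152, 1, 1, 1)] (.node [(175, (-1), 1, 1)] (.node [(198, 1, 1, 1)] .nil .nil) .nil) (.node [] (.node [(206, 1, 1, 1)] .nil .nil) .nil)) (.node [(164,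 1, 1, 1)] (.node [(184, (-1), 1, 1)] (.node [] (.node [(224, 1, 1, 1)] .nil .nil) .nil) (.node [(216, (-1), 1, 1)] (.node [(228, 1, 1, 1)] .nil .nil) .nil)) (.node [(194, (-1), 1, 1)] .nil (.node [(219, 1, 1, 1)] .nil (.node [(236, (-1), 1, 1)] .nil .nil)))))))
def C235 : List (ℕ × List (ℕ × ℤ)) := [(0, [(110, 1)]), (1, [(111, 1)]), (2, [(112, 1)]), (3, [(113, 1)]), (5, [(130, 1)]), (6, [(136, 1)]), (7, [(142, 1)]), (8, [(147, (-1))]), (10, [(152, 1)]), (11, [(153, (-1))]), (12, [(154, 1)]), (13, [(155, (-1))]), (14, [(164, 1)]), (15, [(169, (-1))]), (17, [(174, 1)]), (18, [(175, (-1))]), (19, [(176, 1)]), (20, [(177, (-1))]), (22, [(184, (-1))]), (23, [(185, 1)]), (24, [(186, (-1))]), (25, [(187, 1)]), (30, [(194, (-1))]), (31, [(195, 1)]), (32, [(196, (-1))]), (33, [(197, (-1))]), (34, [(198, 1)]), (35, [(199, (-1))]), (40, [(204, 1)]), (41, [(205, (-1))]), (42, [(206, 1)]), (43, [(207, 1)]), (44, [(208, (-1))]), (45, [(209, 1)]), (52,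 [(214, (-1))]), (53, [(215, 1)]), (54, [(216, (-1))]), (55, [(217, 1)]), (62, [(219, 1)]), (63, [(220, (-1))]), (64, [(221, 1)]), (65, [(222, (-1))]), (70, [(224, 1)]), (75, [(225, (-1))]), (84, [(226, 1)]), (85, [(227, (-1))]), (86, [(228, 1)]), (87, [(229, (-1))]), (92, [(231, 1)]), (97, [(232, (-1))]), (103, [(233, (-1))]), (109, [(234, (-1))]), (126, [(236, (-1))]), (127, [(237, (-1))]), (128, [(238, (-1))]), (129, [(239, (-1))])]
def M236 : Tr (List (ℕ × ℤ × ℕ × ℕ)) := (.node [(114, 1, 1, 1)] (.node [(115, 1, 1, 1)] (.node [] (.node [(143, 1, 1, 1)] (.node [(170, (-1), 1, 1)] .nil .nil) (.node [(188, 1, 1, 1)] (.node [(206, 1, 1, 1)] .nil .nil) (.node [(218, 1, 1, 1)] (.node [(230, (-1), 1, 1)] .nil .nil) .nil))) (.node [(156, (-1), 1, 1)] (.node [(179, 1, 1, 1)] (.node [(202, (-1), 1, 1)] .nil .nil) (.node [(216, (-1), 1, 1)] (.node [(228, 1, 1, 1)] .nil .nil) .nil)) (.node [(194, (-1), 1, 1)] (.node [(210, 1, 1, 1)] .nil .nil)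 (.node [(219, 1, 1, 1)] (.node [(231, 1, 1, 1)] .nil .nil) (.node [(237, (-1), 1, 1)] .nil .nil))))) (.node [(131, 1, 1, 1)] (.node [(152, 1, 1, 1)] (.node [] (.node [(200, (-1), 1, 1)] (.node [(223, (-1), 1, 1)] .nil .nil) .nil) (.node [(214, (-1), 1, 1)] (.node [(226, 1, 1, 1)] .nil .nil) (.node [(235, (-1), 1, 1)] .nil .nil))) (.node [(190, 1, 1, 1)] .nil .nil)) (.node [(158, (-1), 1, 1)] (.node [(184, (-1), 1, 1)] (.node [(204, 1, 1, 1)] (.node [(224, 1, 1, 1)] .nil .nil) .nil) .nil) (.node [(196, (-1), 1, 1)] (.node [(212, 1, 1, 1)] .nil .nil) (.node [(221, 1, 1, 1)] .nil (.node [(239, (-1), 1, 1)] .nil .nil)))))) (.node [(116, 1, 1, 1)] (.node [(126, 1, 1, 1)] (.node [(148, (-1), 1, 1)] (.node [(174, 1, 1, 1)] (.node [] .nil (.node [(232, (-1), 1, 1)] .nil .nil)) .nil) (.node [(189, (-1), 1, 1)] .nil .nil)) (.node [(157, 1, 1, 1)] (.node [(180, (-1), 1, 1)] .nil .nil) (.node [(195, 1, 1, 1)] (.node [(211, (-1), 1, 1)] .nil (.node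 [(234, (-1), 1, 1)] .nil .nil)) (.node [(220, (-1), 1, 1)] .nil (.node [(238, (-1), 1, 1)] .nil .nil))))) (.node [(137, 1, 1, 1)] (.node [] (.node [(178, (-1), 1, 1)] (.node [(201, 1, 1, 1)] .nil .nil) (.node [(215, 1, 1, 1)] (.node [(227, (-1), 1, 1)] .nil .nil) .nil)) (.node [] (.node [] (.node [(225, (-1), 1, 1)] .nil .nil) .nil) .nil)) (.node [(165, 1, 1, 1)] (.node [] (.node [(205, (-1), 1, 1)] .nil (.node [(233, (-1), 1, 1)] .nil .nil)) .nil) .nil))))
def C236 : List (ℕ × List (ℕ × ℤ)) := [(0, [(114, 1)]), (1, [(115, 1)]), (2, [(116, 1)]), (4, [(126, 1)]), (5, [(131, 1)]), (6, [(137, 1)]), (7, [(143, 1)]), (8, [(148, (-1))]), (9, [(152, 1)]), (11, [(156, (-1))]), (12, [(157, 1)]), (13, [(158, (-1))]), (14, [(165, 1)]), (15, [(170, (-1))]), (16, [(174, 1)]), (18, [(178, (-1))]), (19, [(179, 1)]), (20, [(180, (-1))]), (21, [(184, (-1))]), (23, [(188, 1)]), (24, [(189, (-1))]), (25, [(190, 1)]), (27, [(194, (-1))]), (28, [(195, 1)]),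 (29, [(196, (-1))]), (33, [(200, (-1))]), (34, [(201, 1)]), (35, [(202, (-1))]), (37, [(204, 1)]), (38, [(205, (-1))]), (39, [(206, 1)]), (43, [(210, 1)]), (44, [(211, (-1))]), (45, [(212, 1)]), (49, [(214, (-1))]), (50, [(215, 1)]), (51, [(216, (-1))]), (55, [(218, 1)]), (59, [(219, 1)]), (60, [(220, (-1))]), (61, [(221, 1)]), (65, [(223, (-1))]), (69, [(224, 1)]), (74, [(225, (-1))]), (81, [(226, 1)]), (82, [(227, (-1))]), (83, [(228, 1)]), (87, [(230, (-1))]), (91, [(231, 1)]), (96, [(232, (-1))]), (102, [(233, (-1))]), (108, [(234, (-1))]), (113, [(235, (-1))]), (123, [(237, (-1))]), (124, [(238, (-1))]), (125, [(239, (-1))])]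
def M237 : Tr (List (ℕ × ℤ × ℕ × ℕ)) := (.node [(117, 1, 1, 1)] (.node [(118, 1, 1, 1)] (.node [(123, 1, 1, 1)] (.node [(144, 1, 1, 1)] (.node [(171, (-1), 1, 1)] (.node [(200, (-1), 1, 1)] .nil (.node [(232, (-1), 1, 1)] .nil .nil)) (.node [(214, (-1), 1, 1)] (.node [(226, 1, 1, 1)] .nil .nil) .nil)) (.node [] (.node [(208, 1, 1, 1)] .nil .nil) .nil)) (.node [] (.node [(181, 1, 1, 1)] (.node [(203, (-1), 1, 1)] .nil .nil) (.node [(217, (-1), 1, 1)] (.node [(229, 1, 1, 1)] .nil .nil) .nil)) (.node [] (.node [] .nil (.node [(234, (-1), 1, 1)] .nil .nil)) .nil))) (.node [(132, 1, 1, 1)] (.node [(153, 1, 1, 1)] (.node [(178, (-1), 1, 1)] .nil .nil) (.node [(192, 1, 1, 1)] (.node [(210, 1, 1, 1)] (.node [(225, (-1), 1, 1)] .nil .nil) .nil) (.node [(219, 1, 1, 1)] .nil (.node [(238, (-1), 1, 1)] .nil .nil)))) (.node [(160, (-1), 1, 1)] (.node [(185, (-1), 1, 1)] (.node [] .nil (.node [(233, (-1), 1, 1)] .nil .nil)) .nil) (.node [(198, (-1),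 1, 1)] (.node [(213, 1, 1, 1)] .nil .nil) (.node [(222, 1, 1, 1)] .nil .nil))))) (.node [] (.node [(127, 1, 1, 1)] (.node [(149, (-1), 1, 1)] (.node [(175, 1, 1, 1)] (.node [(201, 1, 1, 1)] (.node [(223, (-1), 1, 1)] .nil .nil) .nil) (.node [(215, 1, 1, 1)] (.node [(227, (-1), 1, 1)] .nil .nil) (.node [(235, (-1), 1, 1)] .nil .nil))) (.node [(191, (-1), 1, 1)] .nil .nil)) (.node [(159, 1, 1, 1)] (.node [(182, (-1), 1, 1)] (.node [(204, 1, 1, 1)] (.node [(224, 1, 1, 1)] .nil .nil) .nil) (.node [] .nil (.node [(236, (-1), 1, 1)] .nil .nil))) (.node [(197, 1, 1, 1)] .nil .nil))) (.node [(138, 1, 1, 1)] (.node [(156, (-1), 1, 1)] .nil (.node [(194, (-1), 1, 1)] (.node [(211, (-1), 1, 1)] .nil .nil) (.node [(220, (-1), 1, 1)] (.node [(231, 1, 1, 1)] .nil .nil) (.node [(239, (-1), 1, 1)] .nil .nil)))) (.node [(166, 1, 1, 1)] (.node [(188, 1, 1, 1)] (.node [(207, (-1), 1, 1)] .nil .nil) (.node [(218, 1, 1, 1)] (.node [(230, (-1), 1, 1)] .nil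 .nil) .nil)) .nil))))
def C237 : List (ℕ × List (ℕ × ℤ)) := [(0, [(117, 1)]), (1, [(118, 1)]), (3, [(123, 1)]), (4, [(127, 1)]), (5, [(132, 1)]), (6, [(138, 1)]), (7, [(144, 1)]), (8, [(149, (-1))]), (9, [(153, 1)]), (10, [(156, (-1))]), (12, [(159, 1)]), (13, [(160, (-1))]), (14, [(166, 1)]), (15, [(171, (-1))]), (16, [(175, 1)]), (17, [(178, (-1))]), (19, [(181, 1)]), (20, [(182, (-1))]), (21, [(185, (-1))]), (22, [(188, 1)]), (24, [(191, (-1))]), (25, [(192, 1)]), (26, [(194, (-1))]), (28, [(197, 1)]), (29, [(198, (-1))]), (31, [(200, (-1))]), (32, [(201, 1)]), (35, [(203, (-1))]), (36, [(204, 1)]), (38, [(207, (-1))]), (39, [(208, 1)]), (41, [(210, 1)]), (42, [(211, (-1))]), (45, [(213, 1)]), (47, [(214, (-1))]), (48, [(215, 1)]), (51, [(217, (-1))]), (54, [(218, 1)]), (57, [(219, 1)]), (58, [(220, (-1))]), (61, [(222, 1)]), (64, [(223, (-1))]), (68, [(224, 1)]), (73, [(225, (-1))]), (79, [(226, 1)]), (80, [(227, (-1))]), (83, [(229,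 1)]), (86, [(230, (-1))]), (90, [(231, 1)]), (95, [(232, (-1))]), (101, [(233, (-1))]), (107, [(234, (-1))]), (112, [(235, (-1))]), (116, [(236, (-1))]), (121, [(238, (-1))]), (122, [(239, (-1))])]
def M238 : Tr (List (ℕ × ℤ × ℕ × ℕ)) := (.node [(119, 1, 1, 1)] (.node [] (.node [(124, 1, 1, 1)] (.node [(145, 1, 1, 1)] (.node [(172, (-1), 1, 1)] (.node [] (.node [(223, (-1), 1, 1)] .nil .nil) .nil) (.node [] .nil (.node [(235, (-1), 1, 1)] .nil .nil))) (.node [(191, (-1), 1, 1)] (.node [(209, 1, 1, 1)] .nil .nil) .nil)) (.node [(159, 1, 1, 1)] (.node [] (.node [] (.node [(224, 1, 1, 1)] .nil .nil) .nil) (.node [] .nil (.node [(236, (-1), 1, 1)] .nil .nil))) (.node [(197, 1, 1, 1)] .nil .nil))) (.node [(133, 1, 1, 1)] (.node [(154, 1, 1, 1)] (.node [(179, (-1), 1, 1)] .nil .nil) (.node [(193, 1, 1, 1)] .nil (.node [] (.node [(231, 1, 1, 1)] .nil .nil) .nil))) (.node [(161, (-1), 1, 1)] (.node [(186, (-1), 1, 1)] (.node [(207, (-1), 1, 1)]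 .nil .nil) (.node [(218, 1, 1, 1)] (.node [(230, (-1), 1, 1)] .nil .nil) .nil)) (.node [(199, (-1), 1, 1)] .nil .nil)))) (.node [(121, 1, 1, 1)] (.node [(128, 1, 1, 1)] (.node [(150, (-1), 1, 1)] (.node [(176, 1, 1, 1)] (.node [(202, 1, 1, 1)] .nil .nil) (.node [(216, 1, 1, 1)] (.node [(228, (-1), 1, 1)] .nil .nil) .nil)) (.node [] (.node [(210, 1, 1, 1)] (.node [(225, (-1), 1, 1)] .nil .nil) .nil) (.node [(219, 1, 1, 1)] .nil (.node [(239, (-1), 1, 1)] .nil .nil)))) (.node [] (.node [(183, (-1), 1, 1)] (.node [(205, 1, 1, 1)] .nil (.node [(233, (-1), 1, 1)] .nil .nil)) .nil) (.node [] (.node [(213, 1, 1, 1)] .nil .nil) (.node [(222, 1, 1, 1)] .nil .nil)))) (.node [(139, 1, 1, 1)] (.node [(157, (-1), 1, 1)] (.node [(181, 1, 1, 1)] (.node [(203, (-1), 1, 1)] .nil .nil) (.node [(217, (-1), 1, 1)] (.node [(229, 1, 1, 1)] .nil .nil) .nil)) (.node [(195, (-1), 1, 1)] (.node [(212, (-1), 1, 1)] .nil (.node [(234, (-1), 1, 1)] .nil .nil)) (.node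 [(221, (-1), 1, 1)] .nil .nil))) (.node [(167, 1, 1, 1)] (.node [(189, 1, 1, 1)] .nil (.node [] .nil (.node [(237, (-1), 1, 1)] .nil .nil))) (.node [(200, (-1), 1, 1)] (.node [(214, (-1), 1, 1)] (.node [(226, 1, 1, 1)] .nil .nil) .nil) (.node [] (.node [(232, (-1), 1, 1)] .nil .nil) .nil))))))
def C238 : List (ℕ × List (ℕ × ℤ)) := [(0, [(119, 1)]), (2, [(121, 1)]), (3, [(124, 1)]), (4, [(128, 1)]), (5, [(133, 1)]), (6, [(139, 1)]), (7, [(145, 1)]), (8, [(150, (-1))]), (9, [(154, 1)]), (10, [(157, (-1))]), (11, [(159, 1)]), (13, [(161, (-1))]), (14, [(167, 1)]), (15, [(172, (-1))]), (16, [(176, 1)]), (17, [(179, (-1))]), (18, [(181, 1)]), (20, [(183, (-1))]), (21, [(186, (-1))]), (22, [(189, 1)]), (23, [(191, (-1))]), (25, [(193, 1)]), (26, [(195, (-1))]), (27, [(197, 1)]), (29, [(199, (-1))]), (30, [(200, (-1))]), (32, [(202, 1)]), (34, [(203, (-1))]), (36, [(205, 1)]), (37, [(207, (-1))]), (39, [(209, 1)]), (40, [(210, 1)]), (42, [(212,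 (-1))]), (44, [(213, 1)]), (46, [(214, (-1))]), (48, [(216, 1)]), (50, [(217, (-1))]), (53, [(218, 1)]), (56, [(219, 1)]), (58, [(221, (-1))]), (60, [(222, 1)]), (63, [(223, (-1))]), (67, [(224, 1)]), (72, [(225, (-1))]), (78, [(226, 1)]), (80, [(228, (-1))]), (82, [(229, 1)]), (85, [(230, (-1))]), (89, [(231, 1)]), (94, [(232, (-1))]), (100, [(233, (-1))]), (106, [(234, (-1))]), (111, [(235, (-1))]), (115, [(236, (-1))]), (118, [(237, (-1))]), (120, [(239, (-1))])]
def M239 : Tr (List (ℕ × ℤ × ℕ × ℕ)) := (.node [] (.node [(120, 1, 1, 1)] (.node [(125, 1, 1, 1)] (.node [(146, 1, 1, 1)] (.node [(173, (-1), 1, 1)] (.node [(202, 1, 1, 1)] .nil .nil) (.node [(216, 1, 1, 1)] (.node [(228, (-1), 1, 1)] .nil .nil) .nil)) (.node [(192, (-1), 1, 1)] (.node [] (.node [(225, (-1), 1, 1)] .nil .nil) .nil) (.node [] .nil (.node [(238, (-1), 1, 1)] .nil .nil)))) (.node [(160, 1, 1, 1)] (.node [(183, (-1), 1, 1)] (.node [] .nil (.node [(233, (-1), 1,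 1)] .nil .nil)) .nil) (.node [(198, 1, 1, 1)] (.node [(213, 1, 1, 1)] .nil .nil) (.node [(222, 1, 1, 1)] .nil .nil)))) (.node [(134, 1, 1, 1)] (.node [(155, 1, 1, 1)] (.node [(180, (-1), 1, 1)] (.node [(203, (-1), 1, 1)] .nil .nil) (.node [(217, (-1), 1, 1)] (.node [(229, 1, 1, 1)] .nil .nil) .nil)) (.node [] (.node [(212, (-1), 1, 1)] .nil (.node [(234, (-1), 1, 1)] .nil .nil)) (.node [(221, (-1), 1, 1)] .nil .nil))) (.node [] (.node [(187, (-1), 1, 1)] (.node [(208, (-1), 1, 1)] .nil .nil) (.node [] .nil (.node [(237, (-1), 1, 1)] .nil .nil))) (.node [] .nil (.node [] (.node [(232, (-1), 1, 1)] .nil .nil) .nil))))) (.node [(122, 1, 1, 1)] (.node [(129, 1, 1, 1)] (.node [(151, (-1), 1, 1)] (.node [(177, 1, 1, 1)] .nil .nil) (.node [(193, 1, 1, 1)] (.node [(211, 1, 1, 1)] .nil .nil) (.node [(220, 1, 1, 1)] (.node [(231, 1, 1, 1)] .nil .nil) .nil))) (.node [(161, (-1), 1, 1)] (.node [] (.node [(206, 1, 1, 1)] .nil .nil) (.node [(218, 1,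 1, 1)] (.node [(230, (-1), 1, 1)] .nil .nil) .nil)) (.node [(199, (-1), 1, 1)] .nil .nil))) (.node [(140, 1, 1, 1)] (.node [(158, (-1), 1, 1)] (.node [(182, 1, 1, 1)] (.node [] (.node [(224, 1, 1, 1)] .nil .nil) .nil) (.node [] .nil (.node [(236, (-1), 1, 1)] .nil .nil))) (.node [(196, (-1), 1, 1)] .nil .nil)) (.node [(168, 1, 1, 1)] (.node [(190, 1, 1, 1)] (.node [(209, 1, 1, 1)] .nil .nil) .nil) (.node [(201, (-1), 1, 1)] (.node [(215, (-1), 1, 1)] (.node [(227, 1, 1, 1)] .nil .nil) (.node [(235, (-1), 1, 1)] .nil .nil)) (.node [(223, (-1), 1, 1)] .nil .nil))))))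
def C239 : List (ℕ × List (ℕ × ℤ)) := [(1, [(120, 1)]), (2, [(122, 1)]), (3, [(125, 1)]), (4, [(129, 1)]), (5, [(134, 1)]), (6, [(140, 1)]), (7, [(146, 1)]), (8, [(151, (-1))]), (9, [(155, 1)]), (10, [(158, (-1))]), (11, [(160, 1)]), (12, [(161, (-1))]), (14, [(168, 1)]), (15, [(173, (-1))]), (16, [(177, 1)]), (17, [(180, (-1))]), (18, [(182, 1)]), (19, [(183, (-1))]), (21, [(187, (-1))]), (22, [(190, 1)]), (23, [(192, (-1))]), (24, [(193, 1)]), (26, [(196, (-1))]), (27, [(198, 1)]), (28, [(199, (-1))]), (30, [(201, (-1))]), (31, [(202, 1)]), (33, [(203, (-1))]), (36, [(206, 1)]), (37, [(208, (-1))]), (38, [(209, 1)]), (40, [(211, 1)]), (41, [(212, (-1))]), (43, [(213, 1)]), (46, [(215, (-1))]), (47, [(216, 1)]), (49, [(217, (-1))]), (52, [(218, 1)]), (56, [(220, 1)]), (57, [(221, (-1))]), (59, [(222, 1)]), (62, [(223, (-1))]), (66, [(224, 1)]), (71, [(225, (-1))]), (78, [(227, 1)]), (79, [(228, (-1))]), (81, [(229, 1)]), (84, [(230,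 (-1))]), (88, [(231, 1)]), (93, [(232, (-1))]), (99, [(233, (-1))]), (105, [(234, (-1))]), (110, [(235, (-1))]), (114, [(236, (-1))]), (117, [(237, (-1))]), (119, [(238, (-1))])]
set_option maxRecDepth 20000 in
def T : Tabs where
  X := (.node X0 (.node X1 (.node X3 (.node X7 (.node X15 (.node X31 (.node X63 (.node X127 .nil .nil) (.node X191 .nil .nil)) (.node X95 (.node X159 .nil .nil) (.node X223 .nil .nil))) (.node X47 (.node X79 (.node X143 .nil .nil) (.node X207 .nil .nil)) (.node X111 (.node X175 .nil .nil) (.node X239 .nil .nil)))) (.node X23 (.node X39 (.node X71 (.node X135 .nil .nil) (.node X199 .nil .nil)) (.node X103 (.node X167 .nil .nil) (.node X231 .nil .nil))) (.node X55 (.node X87 (.node X151 .nil .nil) (.node X215 .nil .nil)) (.node X119 (.node X183 .nil .nil) .nil)))) (.node X11 (.node X19 (.node X35 (.node X67 (.node X131 .nil .nil) (.node X195 .nil .nil)) (.node X99 (.node X163 .nil .nil) (.node X227 .nil .nil)))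 (.node X51 (.node X83 (.node X147 .nil .nil) (.node X211 .nil .nil)) (.node X115 (.node X179 .nil .nil) .nil))) (.node X27 (.node X43 (.node X75 (.node X139 .nil .nil) (.node X203 .nil .nil)) (.node X107 (.node X171 .nil .nil) (.node X235 .nil .nil))) (.node X59 (.node X91 (.node X155 .nil .nil) (.node X219 .nil .nil)) (.node X123 (.node X187 .nil .nil) .nil))))) (.node X5 (.node X9 (.node X17 (.node X33 (.node X65 (.node X129 .nil .nil) (.node X193 .nil .nil)) (.node X97 (.node X161 .nil .nil) (.node X225 .nil .nil))) (.node X49 (.node X81 (.node X145 .nil .nil) (.node X209 .nil .nil)) (.node X113 (.node X177 .nil .nil) .nil))) (.node X25 (.node X41 (.node X73 (.node X137 .nil .nil) (.node X201 .nil .nil)) (.node X105 (.node X169 .nil .nil) (.node X233 .nil .nil))) (.node X57 (.node X89 (.node X153 .nil .nil) (.node X217 .nil .nil)) (.node X121 (.node X185 .nil .nil) .nil)))) (.node X13 (.node X21 (.node X37 (.node X69 (.node X133 .nil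 .nil) (.node X197 .nil .nil)) (.node X101 (.node X165 .nil .nil) (.node X229 .nil .nil))) (.node X53 (.node X85 (.node X149 .nil .nil) (.node X213 .nil .nil)) (.node X117 (.node X181 .nil .nil) .nil))) (.node X29 (.node X45 (.node X77 (.node X141 .nil .nil) (.node X205 .nil .nil)) (.node X109 (.node X173 .nil .nil) (.node X237 .nil .nil))) (.node X61 (.node X93 (.node X157 .nil .nil) (.node X221 .nil .nil)) (.node X125 (.node X189 .nil .nil) .nil)))))) (.node X2 (.node X4 (.node X8 (.node X16 (.node X32 (.node X64 (.node X128 .nil .nil) (.node X192 .nil .nil)) (.node X96 (.node X160 .nil .nil) (.node X224 .nil .nil))) (.node X48 (.node X80 (.node X144 .nil .nil) (.node X208 .nil .nil)) (.node X112 (.node X176 .nil .nil) .nil))) (.node X24 (.node X40 (.node X72 (.node X136 .nil .nil) (.node X200 .nil .nil)) (.node X104 (.node X168 .nil .nil) (.node X232 .nil .nil))) (.node X56 (.node X88 (.node X152 .nil .nil) (.node X216 .nil .nil)) (.node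 X120 (.node X184 .nil .nil) .nil)))) (.node X12 (.node X20 (.node X36 (.node X68 (.node X132 .nil .nil) (.node X196 .nil .nil)) (.node X100 (.node X164 .nil .nil) (.node X228 .nil .nil))) (.node X52 (.node X84 (.node X148 .nil .nil) (.node X212 .nil .nil)) (.node X116 (.node X180 .nil .nil) .nil))) (.node X28 (.node X44 (.node X76 (.node X140 .nil .nil) (.node X204 .nil .nil)) (.node X108 (.node X172 .nil .nil) (.node X236 .nil .nil))) (.node X60 (.node X92 (.node X156 .nil .nil) (.node X220 .nil .nil)) (.node X124 (.node X188 .nil .nil) .nil))))) (.node X6 (.node X10 (.node X18 (.node X34 (.node X66 (.node X130 .nil .nil) (.node X194 .nil .nil)) (.node X98 (.node X162 .nil .nil) (.node X226 .nil .nil))) (.node X50 (.node X82 (.node X146 .nil .nil) (.node X210 .nil .nil)) (.node X114 (.node X178 .nil .nil) .nil))) (.node X26 (.node X42 (.node X74 (.node X138 .nil .nil) (.node X202 .nil .nil)) (.node X106 (.node X170 .nil .nil) (.node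 X234 .nil .nil))) (.node X58 (.node X90 (.node X154 .nil .nil) (.node X218 .nil .nil)) (.node X122 (.node X186 .nil .nil) .nil)))) (.node X14 (.node X22 (.node X38 (.node X70 (.node X134 .nil .nil) (.node X198 .nil .nil)) (.node X102 (.node X166 .nil .nil) (.node X230 .nil .nil))) (.node X54 (.node X86 (.node X150 .nil .nil) (.node X214 .nil .nil)) (.node X118 (.node X182 .nil .nil) .nil))) (.node X30 (.node X46 (.node X78 (.node X142 .nil .nil) (.node X206 .nil .nil)) (.node X110 (.node X174 .nil .nil) (.node X238 .nil .nil))) (.node X62 (.node X94 (.node X158 .nil .nil) (.node X222 .nil .nil)) (.node X126 (.node X190 .nil .nil) .nil)))))))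
  ht := (.node (-29) (.node (-28) (.node (-26) (.node (-23) (.node (-21) (.node (-14) (.node (-8) (.node 2 .nil .nil) (.node 11 .nil .nil)) (.node (-4) (.node 9 .nil .nil) (.node 20 .nil .nil))) (.node (-12) (.node (-10) (.node 3 .nil .nil) (.node 13 .nil .nil)) (.node (-3) (.node 7 .nil .nil) (.node 29 .nil .nil)))) (.node (-17) (.node (-13) (.node (-7) (.node 1 .nil .nil) (.node 14 .nil .nil)) (.node (-2) (.node 6 .nil .nil) (.node 22 .nil .nil))) (.node (-7) (.node (-5) (.node 7 .nil .nil) (.node 16 .nil .nil)) (.node (-1) (.node 12 .nil .nil) .nil)))) (.node (-19) (.node (-17) (.node (-11) (.node (-7) (.node 2 .nil .nil) (.node 11 .nil .nil)) (.node (-6) (.node 2 .nil .nil) (.node 18 .nil .nil))) (.node (-9) (.node (-7) (.node 3 .nil .nil) (.node 15 .nil .nil)) (.node (-2) (.node 9 .nil .nil) .nil))) (.node (-16) (.node (-12) (.node (-3) (.node 5 .nil .nil) (.node 16 .nil .nil)) (.node (-3) (.node 6 .nil .nil) (.node 25 .nil .nil)))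 (.node (-10) (.node (-4) (.node 8 .nil .nil) (.node 16 .nil .nil)) (.node 1 (.node 10 .nil .nil) .nil))))) (.node (-24) (.node (-21) (.node (-19) (.node (-13) (.node (-6) (.node 4 .nil .nil) (.node 13 .nil .nil)) (.node (-2) (.node 11 .nil .nil) (.node 22 .nil .nil))) (.node (-11) (.node (-9) (.node 5 .nil .nil) (.node 15 .nil .nil)) (.node (-1) (.node 9 .nil .nil) .nil))) (.node (-15) (.node (-13) (.node (-5) (.node 3 .nil .nil) (.node 14 .nil .nil)) (.node (-5) (.node 4 .nil .nil) (.node 23 .nil .nil))) (.node (-11) (.node (-6) (.node 6 .nil .nil) (.node 18 .nil .nil)) (.node 1 (.node 8 .nil .nil) .nil)))) (.node (-17) (.node (-19) (.node (-15) (.node (-5) (.node 4 .nil .nil) (.node 12 .nil .nil)) (.node (-4) (.node 4 .nil .nil) (.node 20 .nil .nil))) (.node (-9) (.node (-7) (.node 5 .nil .nil) (.node 17 .nil .nil)) (.node (-2) (.node 10 .nil .nil) .nil))) (.node (-14) (.node (-10) (.node (-1) (.node 1 .nil .nil) (.node 12 .nil .nil))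 (.node (-1) (.node 8 .nil .nil) (.node 27 .nil .nil))) (.node (-8) (.node (-6) (.node 8 .nil .nil) (.node 18 .nil .nil)) (.node 3 (.node 10 .nil .nil) .nil)))))) (.node (-27) (.node (-25) (.node (-22) (.node (-20) (.node (-13) (.node (-7) (.node 3 .nil .nil) (.node 12 .nil .nil)) (.node (-3) (.node 10 .nil .nil) (.node 21 .nil .nil))) (.node (-11) (.node (-9) (.node 4 .nil .nil) (.node 14 .nil .nil)) (.node (-2) (.node 8 .nil .nil) .nil))) (.node (-16) (.node (-14) (.node (-6) (.node 2 .nil .nil) (.node 13 .nil .nil)) (.node (-1) (.node 7 .nil .nil) (.node 23 .nil .nil))) (.node (-12) (.node (-7) (.node 5 .nil .nil) (.node 17 .nil .nil)) (.node 1 (.node 7 .nil .nil) .nil)))) (.node (-18) (.node (-16) (.node (-16) (.node (-6) (.node 3 .nil .nil) (.node 12 .nil .nil)) (.node (-5) (.node 3 .nil .nil) (.node 19 .nil .nil))) (.node (-10) (.node (-8) (.node 4 .nil .nil) (.node 16 .nil .nil)) (.node (-1) (.node 10 .nil .nil) .nil))) (.node (-15)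 (.node (-11) (.node (-2) (.node 6 .nil .nil) (.node 11 .nil .nil)) (.node (-2) (.node 7 .nil .nil) (.node 26 .nil .nil))) (.node (-9) (.node (-3) (.node 7 .nil .nil) (.node 17 .nil .nil)) (.node 2 (.node 9 .nil .nil) .nil))))) (.node (-23) (.node (-20) (.node (-18) (.node (-12) (.node (-8) (.node 1 .nil .nil) (.node 10 .nil .nil)) (.node (-1) (.node 1 .nil .nil) (.node 17 .nil .nil))) (.node (-10) (.node (-8) (.node 6 .nil .nil) (.node 14 .nil .nil)) (.node (-3) (.node 8 .nil .nil) .nil))) (.node (-17) (.node (-12) (.node (-4) (.node 4 .nil .nil) (.node 15 .nil .nil)) (.node (-4) (.node 5 .nil .nil) (.node 24 .nil .nil))) (.node (-10) (.node (-5) (.node 7 .nil .nil) (.node 19 .nil .nil)) (.node 2 (.node 9 .nil .nil) .nil)))) (.node (-22) (.node (-18) (.node (-14) (.node (-4) (.node 5 .nil .nil) (.node 13 .nil .nil)) (.node (-3) (.node 5 .nil .nil) (.node 21 .nil .nil))) (.node (-8) (.node (-6) (.node 6 .nil .nil) (.node 15 .nil .nil))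 (.node (-1) (.node 11 .nil .nil) .nil))) (.node (-15) (.node (-13) (.node (-11) (.node 2 .nil .nil) (.node 13 .nil .nil)) (.node (-4) (.node 6 .nil .nil) (.node 28 .nil .nil))) (.node (-9) (.node (-5) (.node 9 .nil .nil) (.node 19 .nil .nil)) (.node 1 (.node 11 .nil .nil) .nil)))))))
  rf := (.node (.node (0, 1) (.node (1, 1) (.node (3, 1) (.node (7, 1) (.node (8, 1) (.node (31, 1) (.node (85, 1) (.node (127, 1) .nil .nil) (.node (191, 1) .nil .nil)) (.node (95, 1) (.node (181, (-1)) .nil .nil) (.node (230, 1) .nil .nil))) (.node (47, 1) (.node (57, (-1)) (.node (143, 1) .nil .nil) (.node (207, 1) .nil .nil)) (.node (111, 1) (.node (153, 1) .nil .nil) (.node (239, 1) .nil .nil)))) (.node (23, 1) (.node (39, 1) (.node (99, 1) (.node (163, (-1)) .nil .nil) (.node (199, 1) .nil .nil)) (.node (75, (-1)) (.node (139, 1) .nil .nil) (.node (224, (-1)) .nil .nil))) (.node (55, 1) (.node (65, (-1)) (.node (173, (-1)) .nil .nil) (.node (215, 1)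 .nil .nil)) (.node (119, 1) (.node (161, 1) .nil .nil) .nil)))) (.node (18, (-1)) (.node (12, 1) (.node (35, 1) (.node (89, 1) (.node (131, 1) .nil .nil) (.node (195, 1) .nil .nil)) (.node (71, (-1)) (.node (135, 1) .nil .nil) (.node (220, (-1)) .nil .nil))) (.node (51, 1) (.node (61, (-1)) (.node (169, (-1)) .nil .nil) (.node (211, 1) .nil .nil)) (.node (115, 1) (.node (157, 1) .nil .nil) .nil))) (.node (27, 1) (.node (43, 1) (.node (103, 1) (.node (167, (-1)) .nil .nil) (.node (203, 1) .nil .nil)) (.node (107, 1) (.node (149, 1) .nil .nil) (.node (235, 1) .nil .nil))) (.node (81, 1) (.node (69, (-1)) (.node (177, (-1)) .nil .nil) (.node (226, 1) .nil .nil)) (.node (123, 1) (.node (187, 1) .nil .nil) .nil))))) (.node (5, 1) (.node (16, (-1)) (.node (10, 1) (.node (33, 1) (.node (87, 1) (.node (129, 1) .nil .nil) (.node (193, 1) .nil .nil)) (.node (97, 1) (.node (183, (-1)) .nil .nil) (.node (233, 1) .nil .nil))) (.node (49, 1) (.node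 (59, (-1)) (.node (145, 1) .nil .nil) (.node (209, 1) .nil .nil)) (.node (113, 1) (.node (155, 1) .nil .nil) .nil))) (.node (25, 1) (.node (41, 1) (.node (101, 1) (.node (165, (-1)) .nil .nil) (.node (201, 1) .nil .nil)) (.node (105, 1) (.node (147, 1) .nil .nil) (.node (225, (-1)) .nil .nil))) (.node (79, 1) (.node (67, (-1)) (.node (175, (-1)) .nil .nil) (.node (217, 1) .nil .nil)) (.node (121, 1) (.node (185, 1) .nil .nil) .nil)))) (.node (20, (-1)) (.node (21, 1) (.node (37, 1) (.node (91, 1) (.node (133, 1) .nil .nil) (.node (197, 1) .nil .nil)) (.node (73, (-1)) (.node (137, 1) .nil .nil) (.node (222, (-1)) .nil .nil))) (.node (53, 1) (.node (63, (-1)) (.node (171, (-1)) .nil .nil) (.node (213, 1) .nil .nil)) (.node (117, 1) (.node (159, 1) .nil .nil) .nil))) (.node (29, 1) (.node (45, 1) (.node (162, (-1)) (.node (141, 1) .nil .nil) (.node (205, 1) .nil .nil)) (.node (109, 1) (.node (151, 1) .nil .nil) (.node (237, 1) .nil .nil)))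 (.node (83, 1) (.node (93, 1) (.node (179, (-1)) .nil .nil) (.node (228, 1) .nil .nil)) (.node (125, 1) (.node (189, 1) .nil .nil) .nil)))))) (.node (2, 1) (.node (4, 1) (.node (15, (-1)) (.node (9, 1) (.node (32, 1) (.node (86, 1) (.node (128, 1) .nil .nil) (.node (192, 1) .nil .nil)) (.node (96, 1) (.node (182, (-1)) .nil .nil) (.node (231, 1) .nil .nil))) (.node (48, 1) (.node (58, (-1)) (.node (144, 1) .nil .nil) (.node (208, 1) .nil .nil)) (.node (112, 1) (.node (154, 1) .nil .nil) .nil))) (.node (24, 1) (.node (40, 1) (.node (100, 1) (.node (164, (-1)) .nil .nil) (.node (200, 1) .nil .nil)) (.node (76, (-1)) (.node (140, 1) .nil .nil) (.node (232, 1) .nil .nil))) (.node (78, 1) (.node (66, (-1)) (.node (174, (-1)) .nil .nil) (.node (216, 1) .nil .nil)) (.node (120, 1) (.node (184, 1) .nil .nil) .nil)))) (.node (19, (-1)) (.node (13, 1) (.node (36, 1) (.node (90, 1) (.node (132, 1) .nil .nil) (.node (196, 1) .nil .nil)) (.node (72,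 (-1)) (.node (136, 1) .nil .nil) (.node (221, (-1)) .nil .nil))) (.node (52, 1) (.node (62, (-1)) (.node (170, (-1)) .nil .nil) (.node (212, 1) .nil .nil)) (.node (116, 1) (.node (158, 1) .nil .nil) .nil))) (.node (28, 1) (.node (44, 1) (.node (104, 1) (.node (168, (-1)) .nil .nil) (.node (204, 1) .nil .nil)) (.node (108, 1) (.node (150, 1) .nil .nil) (.node (236, 1) .nil .nil))) (.node (82, 1) (.node (70, (-1)) (.node (178, (-1)) .nil .nil) (.node (227, 1) .nil .nil)) (.node (124, 1) (.node (188, 1) .nil .nil) .nil))))) (.node (14, (-1)) (.node (17, (-1)) (.node (11, 1) (.node (34, 1) (.node (88, 1) (.node (130, 1) .nil .nil) (.node (194, 1) .nil .nil)) (.node (98, 1) (.node (77, (-1)) .nil .nil) (.node (219, (-1)) .nil .nil))) (.node (50, 1) (.node (60, (-1)) (.node (146, 1) .nil .nil) (.node (210, 1) .nil .nil)) (.node (114, 1) (.node (156, 1) .nil .nil) .nil))) (.node (26, 1) (.node (42, 1) (.node (102, 1) (.node (166, (-1)) .nil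 .nil) (.node (202, 1) .nil .nil)) (.node (106, 1) (.node (148, 1) .nil .nil) (.node (234, 1) .nil .nil))) (.node (80, 1) (.node (68, (-1)) (.node (176, (-1)) .nil .nil) (.node (218, 1) .nil .nil)) (.node (122, 1) (.node (186, 1) .nil .nil) .nil)))) (.node (6, 1) (.node (22, 1) (.node (38, 1) (.node (92, 1) (.node (134, 1) .nil .nil) (.node (198, 1) .nil .nil)) (.node (74, (-1)) (.node (138, 1) .nil .nil) (.node (223, (-1)) .nil .nil))) (.node (54, 1) (.node (64, (-1)) (.node (172, (-1)) .nil .nil) (.node (214, 1) .nil .nil)) (.node (118, 1) (.node (160, 1) .nil .nil) .nil))) (.node (30, 1) (.node (46, 1) (.node (56, (-1)) (.node (142, 1) .nil .nil) (.node (206, 1) .nil .nil)) (.node (110, 1) (.node (152, 1) .nil .nil) (.node (238, 1) .nil .nil))) (.node (84, 1) (.node (94, 1) (.node (180, (-1)) .nil .nil) (.node (229, 1) .nil .nil)) (.node (126, 1) (.node (190, 1) .nil .nil) .nil))))))) (.node (.node (0, 1) (.node (1, 1) (.node (3, 1)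 (.node (5, 1) (.node (14, 1) (.node (41, (-1)) (.node (63, 1) (.node (127, 1) .nil .nil) (.node (191, 1) .nil .nil)) (.node (107, 1) (.node (159, 1) .nil .nil) (.node (223, 1) .nil .nil))) (.node (47, 1) (.node (79, 1) (.node (131, 1) .nil .nil) (.node (197, (-1)) .nil .nil)) (.node (111, 1) (.node (175, 1) .nil .nil) (.node (239, 1) .nil .nil)))) (.node (23, 1) (.node (29, 1) (.node (66, 1) (.node (135, 1) .nil .nil) (.node (209, 1) .nil .nil)) (.node (92, 1) (.node (172, 1) .nil .nil) (.node (233, 1) .nil .nil))) (.node (55, 1) (.node (87, 1) (.node (140, (-1)) .nil .nil) (.node (215, 1) .nil .nil)) (.node (119, 1) (.node (183, 1) .nil .nil) .nil)))) (.node (11, 1) (.node (19, 1) (.node (45, (-1)) (.node (72, (-1)) (.node (143, (-1)) .nil .nil) (.node (205, 1) .nil .nil)) (.node (88, 1) (.node (163, 1) .nil .nil) (.node (227, 1) .nil .nil))) (.node (51, 1) (.node (83, 1) (.node (136, (-1)) .nil .nil) (.node (201, (-1)) .nil .nil)) (.node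 (115, 1) (.node (179, 1) .nil .nil) .nil))) (.node (37, (-1)) (.node (33, 1) (.node (70, 1) (.node (150, 1) .nil .nil) (.node (213, 1) .nil .nil)) (.node (95, (-1)) (.node (166, (-1)) .nil .nil) (.node (235, 1) .nil .nil))) (.node (59, 1) (.node (102, (-1)) (.node (155, 1) .nil .nil) (.node (219, 1) .nil .nil)) (.node (123, 1) (.node (187, 1) .nil .nil) .nil))))) (.node (7, (-1)) (.node (9, 1) (.node (17, 1) (.node (43, (-1)) (.node (65, 1) (.node (129, 1) .nil .nil) (.node (193, 1) .nil .nil)) (.node (109, 1) (.node (161, 1) .nil .nil) (.node (224, (-1)) .nil .nil))) (.node (49, 1) (.node (81, 1) (.node (133, 1) .nil .nil) (.node (199, (-1)) .nil .nil)) (.node (113, 1) (.node (177, 1) .nil .nil) .nil))) (.node (25, 1) (.node (31, 1) (.node (68, 1) (.node (148, 1) .nil .nil) (.node (211, 1) .nil .nil)) (.node (93, (-1)) (.node (164, (-1)) .nil .nil) (.node (231, (-1)) .nil .nil))) (.node (57, 1) (.node (100, (-1)) (.node (153, 1) .nil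 .nil) (.node (217, 1) .nil .nil)) (.node (121, 1) (.node (185, 1) .nil .nil) .nil)))) (.node (13, 1) (.node (21, 1) (.node (27, 1) (.node (74, (-1)) (.node (145, (-1)) .nil .nil) (.node (207, 1) .nil .nil)) (.node (90, 1) (.node (170, 1) .nil .nil) (.node (229, 1) .nil .nil))) (.node (53, 1) (.node (85, 1) (.node (138, (-1)) .nil .nil) (.node (203, (-1)) .nil .nil)) (.node (117, 1) (.node (181, 1) .nil .nil) .nil))) (.node (39, (-1)) (.node (35, 1) (.node (77, 1) (.node (98, (-1)) .nil .nil) (.node (195, (-1)) .nil .nil)) (.node (97, (-1)) (.node (168, (-1)) .nil .nil) (.node (237, 1) .nil .nil))) (.node (61, 1) (.node (105, 1) (.node (157, 1) .nil .nil) (.node (221, 1) .nil .nil)) (.node (125, 1) (.node (189, 1) .nil .nil) .nil)))))) (.node (2, 1) (.node (4, 1) (.node (6, 1) (.node (16, 1) (.node (42, (-1)) (.node (64, 1) (.node (128, 1) .nil .nil) (.node (192, 1) .nil .nil)) (.node (108, 1) (.node (160, 1) .nil .nil) (.node (225, 1)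 .nil .nil))) (.node (48, 1) (.node (80, 1) (.node (132, 1) .nil .nil) (.node (198, (-1)) .nil .nil)) (.node (112, 1) (.node (176, 1) .nil .nil) .nil))) (.node (24, 1) (.node (30, 1) (.node (67, 1) (.node (147, 1) .nil .nil) (.node (210, 1) .nil .nil)) (.node (104, 1) (.node (173, 1) .nil .nil) (.node (234, 1) .nil .nil))) (.node (56, 1) (.node (99, (-1)) (.node (152, 1) .nil .nil) (.node (216, 1) .nil .nil)) (.node (120, 1) (.node (184, 1) .nil .nil) .nil)))) (.node (12, 1) (.node (20, 1) (.node (26, 1) (.node (73, (-1)) (.node (144, (-1)) .nil .nil) (.node (206, 1) .nil .nil)) (.node (89, 1) (.node (169, 1) .nil .nil) (.node (228, 1) .nil .nil))) (.node (52, 1) (.node (84, 1) (.node (137, (-1)) .nil .nil) (.node (202, (-1)) .nil .nil)) (.node (116, 1) (.node (180, 1) .nil .nil) .nil))) (.node (38, (-1)) (.node (34, 1) (.node (76, 1) (.node (151, 1) .nil .nil) (.node (194, (-1)) .nil .nil)) (.node (96, (-1)) (.node (167, (-1)) .nil .nil)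 (.node (236, 1) .nil .nil))) (.node (60, 1) (.node (103, (-1)) (.node (156, 1) .nil .nil) (.node (220, 1) .nil .nil)) (.node (124, 1) (.node (188, 1) .nil .nil) .nil))))) (.node (8, (-1)) (.node (10, 1) (.node (18, 1) (.node (44, (-1)) (.node (71, (-1)) (.node (142, (-1)) .nil .nil) (.node (204, 1) .nil .nil)) (.node (141, (-1)) (.node (162, 1) .nil .nil) (.node (226, 1) .nil .nil))) (.node (50, 1) (.node (82, 1) (.node (134, 1) .nil .nil) (.node (200, (-1)) .nil .nil)) (.node (114, 1) (.node (178, 1) .nil .nil) .nil))) (.node (36, (-1)) (.node (32, 1) (.node (69, 1) (.node (149, 1) .nil .nil) (.node (212, 1) .nil .nil)) (.node (94, (-1)) (.node (165, (-1)) .nil .nil) (.node (232, (-1)) .nil .nil))) (.node (58, 1) (.node (101, (-1)) (.node (154, 1) .nil .nil) (.node (218, 1) .nil .nil)) (.node (122, 1) (.node (186, 1) .nil .nil) .nil)))) (.node (15, (-1)) (.node (22, 1) (.node (28, 1) (.node (75, (-1)) (.node (146, (-1)) .nil .nil) (.node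 (208, 1) .nil .nil)) (.node (91, 1) (.node (171, 1) .nil .nil) (.node (230, 1) .nil .nil))) (.node (54, 1) (.node (86, 1) (.node (139, (-1)) .nil .nil) (.node (214, 1) .nil .nil)) (.node (118, 1) (.node (182, 1) .nil .nil) .nil))) (.node (40, (-1)) (.node (46, 1) (.node (78, 1) (.node (130, 1) .nil .nil) (.node (196, (-1)) .nil .nil)) (.node (110, 1) (.node (174, 1) .nil .nil) (.node (238, 1) .nil .nil))) (.node (62, 1) (.node (106, 1) (.node (158, 1) .nil .nil) (.node (222, 1) .nil .nil)) (.node (126, 1) (.node (190, 1) .nil .nil) .nil))))))) (.node (.node (0, 1) (.node (1, 1) (.node (3, 1) (.node (7, 1) (.node (16, (-1)) (.node (31, 1) (.node (67, (-1)) (.node (132, (-1)) .nil .nil) (.node (197, 1) .nil .nil)) (.node (95, 1) (.node (159, 1) .nil .nil) (.node (224, 1) .nil .nil))) (.node (41, 1) (.node (79, 1) (.node (143, 1) .nil .nil) (.node (207, 1) .nil .nil)) (.node (106, (-1)) (.node (171, (-1)) .nil .nil) (.node (239, 1) .nil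 .nil)))) (.node (27, (-1)) (.node (39, 1) (.node (71, 1) (.node (136, 1) .nil .nil) (.node (193, (-1)) .nil .nil)) (.node (104, (-1)) (.node (167, 1) .nil .nil) (.node (230, (-1)) .nil .nil))) (.node (55, 1) (.node (91, (-1)) (.node (155, 1) .nil .nil) (.node (211, (-1)) .nil .nil)) (.node (119, 1) (.node (183, 1) .nil .nil) .nil)))) (.node (11, 1) (.node (19, 1) (.node (35, 1) (.node (63, 1) (.node (126, 1) .nil .nil) (.node (189, (-1)) .nil .nil)) (.node (99, 1) (.node (164, 1) .nil .nil) (.node (227, 1) .nil .nil))) (.node (45, 1) (.node (83, 1) (.node (147, 1) .nil .nil) (.node (215, 1) .nil .nil)) (.node (115, 1) (.node (179, 1) .nil .nil) .nil))) (.node (23, 1) (.node (49, (-1)) (.node (76, (-1)) (.node (139, 1) .nil .nil) (.node (203, 1) .nil .nil)) (.node (112, 1) (.node (175, 1) .nil .nil) (.node (234, (-1)) .nil .nil))) (.node (59, 1) (.node (87, 1) (.node (151, (-1)) .nil .nil) (.node (219, 1) .nil .nil)) (.node (123, 1) (.node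 (187, 1) .nil .nil) .nil))))) (.node (4, 1) (.node (8, 1) (.node (17, 1) (.node (33, 1) (.node (69, (-1)) (.node (134, (-1)) .nil .nil) (.node (199, 1) .nil .nil)) (.node (98, (-1)) (.node (161, 1) .nil .nil) (.node (225, 1) .nil .nil))) (.node (43, 1) (.node (81, 1) (.node (145, 1) .nil .nil) (.node (209, 1) .nil .nil)) (.node (108, (-1)) (.node (173, (-1)) .nil .nil) .nil))) (.node (29, (-1)) (.node (47, (-1)) (.node (73, 1) (.node (137, 1) .nil .nil) (.node (201, 1) .nil .nil)) (.node (110, 1) (.node (169, 1) .nil .nil) (.node (233, 1) .nil .nil))) (.node (57, 1) (.node (85, 1) (.node (149, (-1)) .nil .nil) (.node (213, (-1)) .nil .nil)) (.node (121, 1) (.node (185, 1) .nil .nil) .nil)))) (.node (13, 1) (.node (21, 1) (.node (37, 1) (.node (65, 1) (.node (128, 1) .nil .nil) (.node (191, (-1)) .nil .nil)) (.node (101, 1) (.node (165, 1) .nil .nil) (.node (229, 1) .nil .nil))) (.node (53, 1) (.node (89, (-1)) (.node (153, 1) .nil .nil)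 (.node (217, 1) .nil .nil)) (.node (117, 1) (.node (181, 1) .nil .nil) .nil))) (.node (25, 1) (.node (51, (-1)) (.node (77, 1) (.node (142, 1) .nil .nil) (.node (205, 1) .nil .nil)) (.node (130, (-1)) (.node (177, 1) .nil .nil) (.node (237, 1) .nil .nil))) (.node (61, 1) (.node (93, 1) (.node (157, 1) .nil .nil) (.node (221, 1) .nil .nil)) (.node (125, 1) (.node (195, 1) .nil .nil) .nil)))))) (.node (2, 1) (.node (5, (-1)) (.node (9, (-1)) (.node (15, 1) (.node (32, 1) (.node (68, (-1)) (.node (133, (-1)) .nil .nil) (.node (198, 1) .nil .nil)) (.node (96, 1) (.node (160, 1) .nil .nil) (.node (223, (-1)) .nil .nil))) (.node (42, 1) (.node (80, 1) (.node (144, 1) .nil .nil) (.node (208, 1) .nil .nil)) (.node (107, (-1)) (.node (172, (-1)) .nil .nil) .nil))) (.node (28, (-1)) (.node (46, (-1)) (.node (72, 1) (.node (135, (-1)) .nil .nil) (.node (200, 1) .nil .nil)) (.node (103, 1) (.node (168, 1) .nil .nil) (.node (232, 1) .nil .nil))) (.node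 (56, 1) (.node (84, 1) (.node (148, (-1)) .nil .nil) (.node (212, (-1)) .nil .nil)) (.node (120, 1) (.node (184, 1) .nil .nil) .nil)))) (.node (12, 1) (.node (20, 1) (.node (36, 1) (.node (64, 1) (.node (127, 1) .nil .nil) (.node (190, (-1)) .nil .nil)) (.node (100, 1) (.node (163, (-1)) .nil .nil) (.node (228, 1) .nil .nil))) (.node (52, 1) (.node (88, (-1)) (.node (152, 1) .nil .nil) (.node (216, 1) .nil .nil)) (.node (116, 1) (.node (180, 1) .nil .nil) .nil))) (.node (24, 1) (.node (50, (-1)) (.node (75, 1) (.node (140, 1) .nil .nil) (.node (204, 1) .nil .nil)) (.node (113, 1) (.node (176, 1) .nil .nil) (.node (236, 1) .nil .nil))) (.node (60, 1) (.node (92, 1) (.node (156, 1) .nil .nil) (.node (220, 1) .nil .nil)) (.node (124, 1) (.node (194, 1) .nil .nil) .nil))))) (.node (6, 1) (.node (10, 1) (.node (18, 1) (.node (34, 1) (.node (62, 1) (.node (109, (-1)) .nil .nil) (.node (188, (-1)) .nil .nil)) (.node (97, 1) (.node (162, 1) .nil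 .nil) (.node (226, 1) .nil .nil))) (.node (44, 1) (.node (82, 1) (.node (146, 1) .nil .nil) (.node (214, 1) .nil .nil)) (.node (114, 1) (.node (178, 1) .nil .nil) .nil))) (.node (22, 1) (.node (48, (-1)) (.node (74, 1) (.node (138, 1) .nil .nil) (.node (202, 1) .nil .nil)) (.node (111, 1) (.node (174, 1) .nil .nil) (.node (235, 1) .nil .nil))) (.node (58, 1) (.node (86, 1) (.node (150, (-1)) .nil .nil) (.node (218, 1) .nil .nil)) (.node (122, 1) (.node (186, 1) .nil .nil) .nil)))) (.node (14, 1) (.node (26, (-1)) (.node (38, 1) (.node (70, 1) (.node (129, 1) .nil .nil) (.node (192, (-1)) .nil .nil)) (.node (102, 1) (.node (166, 1) .nil .nil) (.node (231, 1) .nil .nil))) (.node (54, 1) (.node (90, (-1)) (.node (154, 1) .nil .nil) (.node (210, (-1)) .nil .nil)) (.node (118, 1) (.node (182, 1) .nil .nil) .nil))) (.node (30, 1) (.node (40, 1) (.node (78, 1) (.node (141, (-1)) .nil .nil) (.node (206, 1) .nil .nil)) (.node (105, (-1)) (.node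 (170, (-1)) .nil .nil) (.node (238, 1) .nil .nil))) (.node (66, (-1)) (.node (94, 1) (.node (158, 1) .nil .nil) (.node (222, 1) .nil .nil)) (.node (131, (-1)) (.node (196, 1) .nil .nil) .nil))))))) (.node (.node (1, (-1)) (.node (0, 1) (.node (3, 1) (.node (7, 1) (.node (15, 1) (.node (32, (-1)) (.node (62, 1) (.node (127, 1) .nil .nil) (.node (192, 1) .nil .nil)) (.node (95, 1) (.node (160, 1) .nil .nil) (.node (223, 1) .nil .nil))) (.node (48, (-1)) (.node (80, (-1)) (.node (143, 1) .nil .nil) (.node (208, 1) .nil .nil)) (.node (110, 1) (.node (175, 1) .nil .nil) (.node (238, (-1)) .nil .nil)))) (.node (23, 1) (.node (38, 1) (.node (72, (-1)) (.node (135, 1) .nil .nil) (.node (199, 1) .nil .nil)) (.node (103, 1) (.node (168, 1) .nil .nil) (.node (231, 1) .nil .nil))) (.node (55, 1) (.node (87, 1) (.node (150, (-1)) .nil .nil) (.node (214, (-1)) .nil .nil)) (.node (120, (-1)) (.node (183, 1) .nil .nil) .nil)))) (.node (11, 1) (.node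 (20, (-1)) (.node (35, 1) (.node (66, 1) (.node (131, 1) .nil .nil) (.node (196, 1) .nil .nil)) (.node (100, (-1)) (.node (163, 1) .nil .nil) (.node (226, (-1)) .nil .nil))) (.node (51, 1) (.node (83, 1) (.node (147, 1) .nil .nil) (.node (210, (-1)) .nil .nil)) (.node (114, 1) (.node (180, 1) .nil .nil) .nil))) (.node (27, 1) (.node (44, (-1)) (.node (75, 1) (.node (140, 1) .nil .nil) (.node (203, 1) .nil .nil)) (.node (107, 1) (.node (171, 1) .nil .nil) (.node (235, 1) .nil .nil))) (.node (60, (-1)) (.node (91, 1) (.node (154, (-1)) .nil .nil) (.node (220, 1) .nil .nil)) (.node (123, 1) (.node (186, (-1)) .nil .nil) .nil))))) (.node (5, 1) (.node (9, 1) (.node (17, 1) (.node (34, (-1)) (.node (65, 1) (.node (128, (-1)) .nil .nil) (.node (193, 1) .nil .nil)) (.node (97, 1) (.node (161, 1) .nil .nil) (.node (225, 1) .nil .nil))) (.node (50, (-1)) (.node (82, (-1)) (.node (146, 1) .nil .nil) (.node (209, 1) .nil .nil)) (.node (113, 1) (.node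 (176, (-1)) .nil .nil) .nil))) (.node (24, 1) (.node (42, (-1)) (.node (73, 1) (.node (137, 1) .nil .nil) (.node (200, (-1)) .nil .nil)) (.node (106, (-1)) (.node (169, 1) .nil .nil) (.node (233, 1) .nil .nil))) (.node (58, (-1)) (.node (88, 1) (.node (153, 1) .nil .nil) (.node (217, 1) .nil .nil)) (.node (122, 1) (.node (185, 1) .nil .nil) .nil)))) (.node (12, 1) (.node (21, 1) (.node (37, 1) (.node (69, 1) (.node (134, 1) .nil .nil) (.node (198, 1) .nil .nil)) (.node (101, 1) (.node (165, 1) .nil .nil) (.node (229, 1) .nil .nil))) (.node (52, 1) (.node (84, 1) (.node (149, 1) .nil .nil) (.node (213, 1) .nil .nil)) (.node (118, (-1)) (.node (182, 1) .nil .nil) .nil))) (.node (28, 1) (.node (45, 1) (.node (77, 1) (.node (141, 1) .nil .nil) (.node (206, 1) .nil .nil)) (.node (109, 1) (.node (172, (-1)) .nil .nil) (.node (237, 1) .nil .nil))) (.node (61, 1) (.node (94, (-1)) (.node (158, 1) .nil .nil) (.node (221, 1) .nil .nil)) (.node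 (124, (-1)) (.node (190, 1) .nil .nil) .nil)))))) (.node (2, 1) (.node (4, 1) (.node (8, 1) (.node (16, 1) (.node (31, 1) (.node (64, 1) (.node (129, 1) .nil .nil) (.node (191, (-1)) .nil .nil)) (.node (96, 1) (.node (159, (-1)) .nil .nil) (.node (224, 1) .nil .nil))) (.node (47, 1) (.node (79, 1) (.node (144, 1) .nil .nil) (.node (207, (-1)) .nil .nil)) (.node (112, 1) (.node (177, 1) .nil .nil) .nil))) (.node (25, (-1)) (.node (40, 1) (.node (71, 1) (.node (136, 1) .nil .nil) (.node (201, 1) .nil .nil)) (.node (104, 1) (.node (167, (-1)) .nil .nil) (.node (232, 1) .nil .nil))) (.node (56, 1) (.node (89, (-1)) (.node (152, 1) .nil .nil) (.node (216, 1) .nil .nil)) (.node (119, (-1)) (.node (184, 1) .nil .nil) .nil)))) (.node (13, (-1)) (.node (19, 1) (.node (36, 1) (.node (68, 1) (.node (132, 1) .nil .nil) (.node (195, (-1)) .nil .nil)) (.node (99, 1) (.node (164, 1) .nil .nil) (.node (228, 1) .nil .nil))) (.node (53, (-1)) (.node (85,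 (-1)) (.node (148, 1) .nil .nil) (.node (212, 1) .nil .nil)) (.node (116, 1) (.node (179, (-1)) .nil .nil) .nil))) (.node (29, (-1)) (.node (43, 1) (.node (76, 1) (.node (139, (-1)) .nil .nil) (.node (204, 1) .nil .nil)) (.node (108, 1) (.node (173, 1) .nil .nil) (.node (236, 1) .nil .nil))) (.node (59, 1) (.node (92, 1) (.node (156, 1) .nil .nil) (.node (219, (-1)) .nil .nil)) (.node (125, 1) (.node (188, 1) .nil .nil) .nil))))) (.node (6, 1) (.node (10, 1) (.node (18, 1) (.node (33, 1) (.node (67, (-1)) (.node (130, 1) .nil .nil) (.node (194, 1) .nil .nil)) (.node (98, 1) (.node (162, 1) .nil .nil) (.node (227, 1) .nil .nil))) (.node (49, 1) (.node (81, 1) (.node (145, (-1)) .nil .nil) (.node (211, 1) .nil .nil)) (.node (115, (-1)) (.node (178, 1) .nil .nil) .nil))) (.node (26, 1) (.node (41, 1) (.node (74, 1) (.node (138, 1) .nil .nil) (.node (202, 1) .nil .nil)) (.node (105, 1) (.node (170, 1) .nil .nil) (.node (234, 1) .nil .nil)))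 (.node (57, 1) (.node (90, 1) (.node (155, 1) .nil .nil) (.node (218, 1) .nil .nil)) (.node (121, (-1)) (.node (187, 1) .nil .nil) .nil)))) (.node (14, 1) (.node (22, 1) (.node (39, (-1)) (.node (70, 1) (.node (133, (-1)) .nil .nil) (.node (197, (-1)) .nil .nil)) (.node (102, 1) (.node (166, 1) .nil .nil) (.node (230, 1) .nil .nil))) (.node (54, 1) (.node (86, 1) (.node (151, 1) .nil .nil) (.node (215, 1) .nil .nil)) (.node (117, 1) (.node (181, (-1)) .nil .nil) .nil))) (.node (30, 1) (.node (46, 1) (.node (78, 1) (.node (142, 1) .nil .nil) (.node (205, (-1)) .nil .nil)) (.node (111, (-1)) (.node (174, 1) .nil .nil) (.node (239, 1) .nil .nil))) (.node (63, (-1)) (.node (93, 1) (.node (157, (-1)) .nil .nil) (.node (222, 1) .nil .nil)) (.node (126, 1) (.node (189, (-1)) .nil .nil) .nil))))))) .nil .nil) .nil) (.node (.node (0, 1) (.node (1, 1) (.node (2, 1) (.node (7, 1) (.node (15, 1) (.node (33, (-1)) (.node (63, 1) (.node (126, (-1))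 .nil .nil) (.node (189, (-1)) .nil .nil)) (.node (96, (-1)) (.node (157, (-1)) .nil .nil) (.node (223, 1) .nil .nil))) (.node (49, (-1)) (.node (81, (-1)) (.node (144, 1) .nil .nil) (.node (205, (-1)) .nil .nil)) (.node (111, 1) (.node (174, (-1)) .nil .nil) (.node (239, 1) .nil .nil)))) (.node (22, 1) (.node (39, 1) (.node (71, 1) (.node (135, 1) .nil .nil) (.node (199, 1) .nil .nil)) (.node (103, 1) (.node (167, 1) .nil .nil) (.node (231, 1) .nil .nil))) (.node (54, 1) (.node (86, 1) (.node (151, 1) .nil .nil) (.node (215, 1) .nil .nil)) (.node (119, 1) (.node (183, 1) .nil .nil) .nil)))) (.node (10, 1) (.node (19, 1) (.node (35, 1) (.node (67, 1) (.node (132, 1) .nil .nil) (.node (197, 1) .nil .nil)) (.node (99, 1) (.node (163, 1) .nil .nil) (.node (227, 1) .nil .nil))) (.node (51, 1) (.node (83, 1) (.node (147, 1) .nil .nil) (.node (211, 1) .nil .nil)) (.node (118, 1) (.node (181, 1) .nil .nil) .nil))) (.node (26, 1) (.node (41, 1)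 (.node (75, 1) (.node (139, 1) .nil .nil) (.node (202, (-1)) .nil .nil)) (.node (108, (-1)) (.node (170, (-1)) .nil .nil) (.node (235, 1) .nil .nil))) (.node (57, 1) (.node (90, 1) (.node (155, 1) .nil .nil) (.node (219, 1) .nil .nil)) (.node (116, (-1)) (.node (187, 1) .nil .nil) .nil))))) (.node (5, 1) (.node (9, 1) (.node (18, (-1)) (.node (31, 1) (.node (64, 1) (.node (129, 1) .nil .nil) (.node (193, 1) .nil .nil)) (.node (97, 1) (.node (161, 1) .nil .nil) (.node (225, 1) .nil .nil))) (.node (47, 1) (.node (79, 1) (.node (145, 1) .nil .nil) (.node (209, 1) .nil .nil)) (.node (112, 1) (.node (177, 1) .nil .nil) .nil))) (.node (25, 1) (.node (43, (-1)) (.node (74, (-1)) (.node (138, 1) .nil .nil) (.node (201, 1) .nil .nil)) (.node (105, 1) (.node (169, 1) .nil .nil) (.node (233, 1) .nil .nil))) (.node (59, (-1)) (.node (89, 1) (.node (152, (-1)) .nil .nil) (.node (216, (-1)) .nil .nil)) (.node (124, (-1)) (.node (184, (-1)) .nil .nil)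 .nil)))) (.node (13, 1) (.node (21, 1) (.node (36, 1) (.node (68, 1) (.node (133, 1) .nil .nil) (.node (195, (-1)) .nil .nil)) (.node (102, (-1)) (.node (166, 1) .nil .nil) (.node (228, (-1)) .nil .nil))) (.node (53, 1) (.node (85, 1) (.node (148, (-1)) .nil .nil) (.node (212, (-1)) .nil .nil)) (.node (114, (-1)) (.node (179, (-1)) .nil .nil) .nil))) (.node (29, 1) (.node (45, 1) (.node (77, 1) (.node (141, 1) .nil .nil) (.node (207, 1) .nil .nil)) (.node (109, 1) (.node (173, 1) .nil .nil) (.node (236, (-1)) .nil .nil))) (.node (61, 1) (.node (93, 1) (.node (159, 1) .nil .nil) (.node (222, 1) .nil .nil)) (.node (122, 1) (.node (191, 1) .nil .nil) .nil)))))) (.node (3, (-1)) (.node (4, 1) (.node (8, 1) (.node (16, 1) (.node (34, (-1)) (.node (65, (-1)) (.node (128, 1) .nil .nil) (.node (190, (-1)) .nil .nil)) (.node (95, 1) (.node (158, (-1)) .nil .nil) (.node (224, 1) .nil .nil))) (.node (50, (-1)) (.node (82, (-1)) (.node (143, (-1))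 .nil .nil) (.node (206, (-1)) .nil .nil)) (.node (113, (-1)) (.node (176, 1) .nil .nil) .nil))) (.node (24, 1) (.node (40, 1) (.node (72, 1) (.node (136, 1) .nil .nil) (.node (200, 1) .nil .nil)) (.node (104, 1) (.node (168, 1) .nil .nil) (.node (232, 1) .nil .nil))) (.node (56, 1) (.node (88, 1) (.node (153, 1) .nil .nil) (.node (217, 1) .nil .nil)) (.node (120, 1) (.node (185, 1) .nil .nil) .nil)))) (.node (12, 1) (.node (20, 1) (.node (37, (-1)) (.node (69, (-1)) (.node (131, (-1)) .nil .nil) (.node (198, 1) .nil .nil)) (.node (100, 1) (.node (164, 1) .nil .nil) (.node (229, 1) .nil .nil))) (.node (52, 1) (.node (84, 1) (.node (149, 1) .nil .nil) (.node (213, 1) .nil .nil)) (.node (123, (-1)) (.node (182, 1) .nil .nil) .nil))) (.node (28, 1) (.node (42, 1) (.node (76, 1) (.node (140, 1) .nil .nil) (.node (204, 1) .nil .nil)) (.node (107, 1) (.node (172, 1) .nil .nil) (.node (237, 1) .nil .nil))) (.node (58, 1) (.node (92, 1) (.node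 (156, 1) .nil .nil) (.node (220, 1) .nil .nil)) (.node (121, 1) (.node (188, 1) .nil .nil) .nil))))) (.node (6, 1) (.node (11, (-1)) (.node (17, 1) (.node (32, 1) (.node (66, 1) (.node (130, 1) .nil .nil) (.node (194, 1) .nil .nil)) (.node (98, 1) (.node (162, 1) .nil .nil) (.node (226, 1) .nil .nil))) (.node (48, 1) (.node (80, 1) (.node (146, 1) .nil .nil) (.node (210, 1) .nil .nil)) (.node (117, 1) (.node (178, 1) .nil .nil) .nil))) (.node (27, (-1)) (.node (44, (-1)) (.node (73, 1) (.node (137, (-1)) .nil .nil) (.node (203, 1) .nil .nil)) (.node (106, 1) (.node (171, 1) .nil .nil) (.node (234, 1) .nil .nil))) (.node (60, (-1)) (.node (91, (-1)) (.node (154, 1) .nil .nil) (.node (218, 1) .nil .nil)) (.node (125, (-1)) (.node (186, 1) .nil .nil) .nil)))) (.node (14, 1) (.node (23, (-1)) (.node (38, 1) (.node (70, 1) (.node (134, 1) .nil .nil) (.node (196, (-1)) .nil .nil)) (.node (101, 1) (.node (165, (-1)) .nil .nil) (.node (230, 1)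 .nil .nil))) (.node (55, (-1)) (.node (87, (-1)) (.node (150, 1) .nil .nil) (.node (214, 1) .nil .nil)) (.node (115, (-1)) (.node (180, (-1)) .nil .nil) .nil))) (.node (30, 1) (.node (46, 1) (.node (78, 1) (.node (142, 1) .nil .nil) (.node (208, 1) .nil .nil)) (.node (110, 1) (.node (175, 1) .nil .nil) (.node (238, 1) .nil .nil))) (.node (62, 1) (.node (94, 1) (.node (160, 1) .nil .nil) (.node (221, (-1)) .nil .nil)) (.node (127, 1) (.node (192, 1) .nil .nil) .nil))))))) .nil .nil)) (.node (.node (0, 1) (.node (1, 1) (.node (3, 1) (.node (8, (-1)) (.node (15, 1) (.node (31, 1) (.node (53, 1) (.node (127, 1) .nil .nil) (.node (181, (-1)) .nil .nil)) (.node (90, 1) (.node (159, 1) .nil .nil) (.node (218, (-1)) .nil .nil))) (.node (57, (-1)) (.node (79, 1) (.node (148, 1) .nil .nil) (.node (207, 1) .nil .nil)) (.node (111, 1) (.node (185, 1) .nil .nil) (.node (239, 1) .nil .nil)))) (.node (18, 1) (.node (39, 1) (.node (71, 1) (.node (104,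 (-1)) .nil .nil) (.node (199, 1) .nil .nil)) (.node (109, 1) (.node (167, 1) .nil .nil) (.node (232, 1) .nil .nil))) (.node (65, (-1)) (.node (87, 1) (.node (146, (-1)) .nil .nil) (.node (220, 1) .nil .nil)) (.node (119, 1) (.node (193, 1) .nil .nil) .nil)))) (.node (11, 1) (.node (24, (-1)) (.node (35, 1) (.node (67, 1) (.node (137, (-1)) .nil .nil) (.node (195, 1) .nil .nil)) (.node (105, 1) (.node (162, (-1)) .nil .nil) (.node (227, 1) .nil .nil))) (.node (61, (-1)) (.node (83, 1) (.node (142, (-1)) .nil .nil) (.node (211, 1) .nil .nil)) (.node (115, 1) (.node (189, 1) .nil .nil) .nil))) (.node (27, 1) (.node (43, 1) (.node (75, 1) (.node (133, 1) .nil .nil) (.node (203, 1) .nil .nil)) (.node (101, (-1)) (.node (171, 1) .nil .nil) (.node (235, 1) .nil .nil))) (.node (49, 1) (.node (96, (-1)) (.node (155, 1) .nil .nil) (.node (214, (-1)) .nil .nil)) (.node (123, 1) (.node (177, (-1)) .nil .nil) .nil))))) (.node (6, (-1)) (.node (9,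 1) (.node (22, (-1)) (.node (33, 1) (.node (55, 1) (.node (129, 1) .nil .nil) (.node (183, (-1)) .nil .nil)) (.node (92, 1) (.node (161, 1) .nil .nil) (.node (225, 1) .nil .nil))) (.node (59, (-1)) (.node (81, 1) (.node (150, 1) .nil .nil) (.node (209, 1) .nil .nil)) (.node (113, 1) (.node (187, 1) .nil .nil) .nil))) (.node (20, 1) (.node (41, 1) (.node (73, 1) (.node (131, 1) .nil .nil) (.node (201, 1) .nil .nil)) (.node (99, (-1)) (.node (169, 1) .nil .nil) (.node (234, 1) .nil .nil))) (.node (47, 1) (.node (94, (-1)) (.node (153, 1) .nil .nil) (.node (222, 1) .nil .nil)) (.node (121, 1) (.node (175, (-1)) .nil .nil) .nil)))) (.node (13, 1) (.node (16, 1) (.node (37, 1) (.node (69, 1) (.node (139, (-1)) .nil .nil) (.node (197, 1) .nil .nil)) (.node (107, 1) (.node (165, 1) .nil .nil) (.node (229, 1) .nil .nil))) (.node (63, (-1)) (.node (85, 1) (.node (144, (-1)) .nil .nil) (.node (213, 1) .nil .nil)) (.node (117, 1) (.node (191, 1)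 .nil .nil) .nil))) (.node (29, 1) (.node (45, 1) (.node (76, 1) (.node (141, 1) .nil .nil) (.node (205, 1) .nil .nil)) (.node (103, (-1)) (.node (173, 1) .nil .nil) (.node (237, 1) .nil .nil))) (.node (51, 1) (.node (88, 1) (.node (157, 1) .nil .nil) (.node (216, (-1)) .nil .nil)) (.node (125, 1) (.node (179, (-1)) .nil .nil) .nil)))))) (.node (2, 1) (.node (4, 1) (.node (7, 1) (.node (21, (-1)) (.node (32, 1) (.node (54, 1) (.node (128, 1) .nil .nil) (.node (182, (-1)) .nil .nil)) (.node (91, 1) (.node (160, 1) .nil .nil) (.node (224, 1) .nil .nil))) (.node (58, (-1)) (.node (80, 1) (.node (149, 1) .nil .nil) (.node (208, 1) .nil .nil)) (.node (112, 1) (.node (186, 1) .nil .nil) .nil))) (.node (19, 1) (.node (40, 1) (.node (72, 1) (.node (130, 1) .nil .nil) (.node (200, 1) .nil .nil)) (.node (135, (-1)) (.node (168, 1) .nil .nil) (.node (231, (-1)) .nil .nil))) (.node (46, 1) (.node (93, (-1)) (.node (152, 1) .nil .nil) (.node (221,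 1) .nil .nil)) (.node (120, 1) (.node (174, (-1)) .nil .nil) .nil)))) (.node (12, 1) (.node (25, (-1)) (.node (36, 1) (.node (68, 1) (.node (138, (-1)) .nil .nil) (.node (196, 1) .nil .nil)) (.node (106, 1) (.node (164, 1) .nil .nil) (.node (228, 1) .nil .nil))) (.node (62, (-1)) (.node (84, 1) (.node (143, (-1)) .nil .nil) (.node (212, 1) .nil .nil)) (.node (116, 1) (.node (190, 1) .nil .nil) .nil))) (.node (28, 1) (.node (44, 1) (.node (77, (-1)) (.node (134, 1) .nil .nil) (.node (204, 1) .nil .nil)) (.node (102, (-1)) (.node (172, 1) .nil .nil) (.node (236, 1) .nil .nil))) (.node (50, 1) (.node (97, (-1)) (.node (156, 1) .nil .nil) (.node (215, (-1)) .nil .nil)) (.node (124, 1) (.node (178, (-1)) .nil .nil) .nil))))) (.node (5, 1) (.node (10, 1) (.node (23, (-1)) (.node (34, 1) (.node (66, 1) (.node (136, (-1)) .nil .nil) (.node (194, 1) .nil .nil)) (.node (98, 1) (.node (163, 1) .nil .nil) (.node (226, 1) .nil .nil))) (.node (60,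 (-1)) (.node (82, 1) (.node (151, 1) .nil .nil) (.node (210, 1) .nil .nil)) (.node (114, 1) (.node (188, 1) .nil .nil) .nil))) (.node (26, 1) (.node (42, 1) (.node (74, 1) (.node (132, 1) .nil .nil) (.node (202, 1) .nil .nil)) (.node (100, (-1)) (.node (170, 1) .nil .nil) (.node (233, (-1)) .nil .nil))) (.node (48, 1) (.node (95, (-1)) (.node (154, 1) .nil .nil) (.node (223, 1) .nil .nil)) (.node (122, 1) (.node (176, (-1)) .nil .nil) .nil)))) (.node (14, 1) (.node (17, 1) (.node (38, 1) (.node (70, 1) (.node (140, (-1)) .nil .nil) (.node (198, 1) .nil .nil)) (.node (108, 1) (.node (166, 1) .nil .nil) (.node (230, 1) .nil .nil))) (.node (64, (-1)) (.node (86, 1) (.node (145, (-1)) .nil .nil) (.node (219, 1) .nil .nil)) (.node (118, 1) (.node (192, 1) .nil .nil) .nil))) (.node (30, 1) (.node (56, (-1)) (.node (78, 1) (.node (147, 1) .nil .nil) (.node (206, 1) .nil .nil)) (.node (110, 1) (.node (184, 1) .nil .nil) (.node (238, 1) .nil .nil)))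 (.node (52, 1) (.node (89, 1) (.node (158, 1) .nil .nil) (.node (217, (-1)) .nil .nil)) (.node (126, 1) (.node (180, (-1)) .nil .nil) .nil))))))) (.node (.node (0, 1) (.node (1, 1) (.node (4, (-1)) (.node (7, 1) (.node (15, 1) (.node (28, 1) (.node (60, 1) (.node (123, 1) .nil .nil) (.node (191, 1) .nil .nil)) (.node (95, 1) (.node (159, 1) .nil .nil) (.node (222, (-1)) .nil .nil))) (.node (47, 1) (.node (79, 1) (.node (142, (-1)) .nil .nil) (.node (210, 1) .nil .nil)) (.node (115, 1) (.node (178, 1) .nil .nil) (.node (239, 1) .nil .nil)))) (.node (23, 1) (.node (42, (-1)) (.node (71, 1) (.node (135, 1) .nil .nil) (.node (202, 1) .nil .nil)) (.node (102, 1) (.node (167, 1) .nil .nil) (.node (231, 1) .nil .nil))) (.node (55, 1) (.node (87, 1) (.node (151, 1) .nil .nil) (.node (215, 1) .nil .nil)) (.node (119, 1) (.node (183, 1) .nil .nil) .nil)))) (.node (11, 1) (.node (19, 1) (.node (35, 1) (.node (67, 1) (.node (130, (-1)) .nil .nil)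 (.node (195, 1) .nil .nil)) (.node (99, 1) (.node (163, 1) .nil .nil) (.node (227, 1) .nil .nil))) (.node (54, (-1)) (.node (86, (-1)) (.node (148, 1) .nil .nil) (.node (208, (-1)) .nil .nil)) (.node (111, (-1)) (.node (176, (-1)) .nil .nil) .nil))) (.node (30, (-1)) (.node (43, 1) (.node (74, 1) (.node (139, 1) .nil .nil) (.node (203, 1) .nil .nil)) (.node (107, 1) (.node (171, 1) .nil .nil) (.node (236, 1) .nil .nil))) (.node (62, (-1)) (.node (92, (-1)) (.node (158, 1) .nil .nil) (.node (219, 1) .nil .nil)) (.node (127, (-1)) (.node (190, 1) .nil .nil) .nil))))) (.node (5, 1) (.node (10, (-1)) (.node (16, 1) (.node (33, 1) (.node (65, 1) (.node (125, 1) .nil .nil) (.node (193, 1) .nil .nil)) (.node (96, 1) (.node (161, 1) .nil .nil) (.node (225, 1) .nil .nil))) (.node (52, (-1)) (.node (84, (-1)) (.node (145, 1) .nil .nil) (.node (212, 1) .nil .nil)) (.node (126, (-1)) (.node (180, 1) .nil .nil) .nil))) (.node (25, 1) (.node (38, 1)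 (.node (73, 1) (.node (136, (-1)) .nil .nil) (.node (198, (-1)) .nil .nil)) (.node (105, 1) (.node (170, 1) .nil .nil) (.node (233, 1) .nil .nil))) (.node (57, 1) (.node (89, 1) (.node (156, 1) .nil .nil) (.node (218, 1) .nil .nil)) (.node (121, 1) (.node (188, 1) .nil .nil) .nil)))) (.node (13, 1) (.node (22, (-1)) (.node (40, (-1)) (.node (70, (-1)) (.node (133, 1) .nil .nil) (.node (200, 1) .nil .nil)) (.node (101, 1) (.node (164, (-1)) .nil .nil) (.node (230, 1) .nil .nil))) (.node (50, 1) (.node (82, 1) (.node (149, 1) .nil .nil) (.node (213, 1) .nil .nil)) (.node (117, 1) (.node (181, 1) .nil .nil) .nil))) (.node (32, (-1)) (.node (45, 1) (.node (77, 1) (.node (141, 1) .nil .nil) (.node (205, 1) .nil .nil)) (.node (108, 1) (.node (173, 1) .nil .nil) (.node (237, 1) .nil .nil))) (.node (64, (-1)) (.node (93, 1) (.node (154, (-1)) .nil .nil) (.node (221, 1) .nil .nil)) (.node (129, (-1)) (.node (186, (-1)) .nil .nil) .nil)))))) (.node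 (2, 1) (.node (3, 1) (.node (8, 1) (.node (17, (-1)) (.node (29, 1) (.node (61, 1) (.node (124, 1) .nil .nil) (.node (192, 1) .nil .nil)) (.node (97, (-1)) (.node (160, 1) .nil .nil) (.node (224, 1) .nil .nil))) (.node (48, 1) (.node (80, 1) (.node (144, 1) .nil .nil) (.node (211, 1) .nil .nil)) (.node (116, 1) (.node (179, 1) .nil .nil) .nil))) (.node (24, 1) (.node (37, 1) (.node (72, 1) (.node (137, 1) .nil .nil) (.node (197, (-1)) .nil .nil)) (.node (104, 1) (.node (168, 1) .nil .nil) (.node (232, 1) .nil .nil))) (.node (56, 1) (.node (88, 1) (.node (152, 1) .nil .nil) (.node (216, 1) .nil .nil)) (.node (120, 1) (.node (184, 1) .nil .nil) .nil)))) (.node (12, 1) (.node (20, 1) (.node (36, 1) (.node (68, 1) (.node (132, 1) .nil .nil) (.node (196, 1) .nil .nil)) (.node (100, 1) (.node (165, 1) .nil .nil) (.node (228, 1) .nil .nil))) (.node (49, 1) (.node (81, 1) (.node (147, (-1)) .nil .nil) (.node (209, (-1)) .nil .nil)) (.node (112,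 (-1)) (.node (177, (-1)) .nil .nil) .nil))) (.node (31, (-1)) (.node (44, 1) (.node (76, 1) (.node (140, 1) .nil .nil) (.node (204, 1) .nil .nil)) (.node (109, (-1)) (.node (172, 1) .nil .nil) (.node (235, (-1)) .nil .nil))) (.node (63, (-1)) (.node (91, 1) (.node (153, (-1)) .nil .nil) (.node (220, 1) .nil .nil)) (.node (128, (-1)) (.node (185, (-1)) .nil .nil) .nil))))) (.node (6, 1) (.node (9, 1) (.node (18, 1) (.node (34, 1) (.node (66, 1) (.node (131, 1) .nil .nil) (.node (194, 1) .nil .nil)) (.node (98, 1) (.node (162, 1) .nil .nil) (.node (226, 1) .nil .nil))) (.node (53, (-1)) (.node (85, (-1)) (.node (146, 1) .nil .nil) (.node (207, (-1)) .nil .nil)) (.node (110, (-1)) (.node (175, (-1)) .nil .nil) .nil))) (.node (26, 1) (.node (39, 1) (.node (75, (-1)) (.node (138, 1) .nil .nil) (.node (199, (-1)) .nil .nil)) (.node (106, 1) (.node (169, (-1)) .nil .nil) (.node (234, 1) .nil .nil))) (.node (58, 1) (.node (90, 1) (.node (157,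 1) .nil .nil) (.node (217, (-1)) .nil .nil)) (.node (122, 1) (.node (189, 1) .nil .nil) .nil)))) (.node (14, 1) (.node (21, 1) (.node (41, (-1)) (.node (69, 1) (.node (134, 1) .nil .nil) (.node (201, 1) .nil .nil)) (.node (103, (-1)) (.node (166, 1) .nil .nil) (.node (229, (-1)) .nil .nil))) (.node (51, 1) (.node (83, 1) (.node (150, 1) .nil .nil) (.node (214, 1) .nil .nil)) (.node (118, 1) (.node (182, 1) .nil .nil) .nil))) (.node (27, 1) (.node (46, 1) (.node (78, 1) (.node (143, 1) .nil .nil) (.node (206, 1) .nil .nil)) (.node (114, 1) (.node (174, 1) .nil .nil) (.node (238, 1) .nil .nil))) (.node (59, 1) (.node (94, 1) (.node (155, (-1)) .nil .nil) (.node (223, 1) .nil .nil)) (.node (113, (-1)) (.node (187, (-1)) .nil .nil) .nil))))))) .nil .nil) (.node (.node (0, 1) (.node (2, (-1)) (.node (3, 1) (.node (7, 1) (.node (15, 1) (.node (30, 1) (.node (64, (-1)) (.node (128, 1) .nil .nil) (.node (191, 1) .nil .nil)) (.node (94, 1) (.node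 (159, 1) .nil .nil) (.node (223, 1) .nil .nil))) (.node (46, 1) (.node (78, 1) (.node (143, 1) .nil .nil) (.node (207, 1) .nil .nil)) (.node (112, (-1)) (.node (176, 1) .nil .nil) (.node (239, 1) .nil .nil)))) (.node (24, (-1)) (.node (39, 1) (.node (71, 1) (.node (135, 1) .nil .nil) (.node (198, (-1)) .nil .nil)) (.node (103, 1) (.node (166, (-1)) .nil .nil) (.node (231, 1) .nil .nil))) (.node (55, 1) (.node (87, 1) (.node (151, 1) .nil .nil) (.node (216, 1) .nil .nil)) (.node (117, (-1)) (.node (182, (-1)) .nil .nil) .nil)))) (.node (12, (-1)) (.node (18, 1) (.node (34, 1) (.node (68, (-1)) (.node (131, 1) .nil .nil) (.node (194, (-1)) .nil .nil)) (.node (99, 1) (.node (163, 1) .nil .nil) (.node (228, 1) .nil .nil))) (.node (50, 1) (.node (82, 1) (.node (147, 1) .nil .nil) (.node (212, 1) .nil .nil)) (.node (116, (-1)) (.node (178, (-1)) .nil .nil) .nil))) (.node (28, (-1)) (.node (43, 1) (.node (75, 1) (.node (138, (-1)) .nil .nil)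 (.node (203, 1) .nil .nil)) (.node (106, 1) (.node (172, 1) .nil .nil) (.node (235, 1) .nil .nil))) (.node (59, 1) (.node (91, 1) (.node (155, 1) .nil .nil) (.node (219, 1) .nil .nil)) (.node (124, 1) (.node (187, 1) .nil .nil) .nil))))) (.node (5, 1) (.node (9, 1) (.node (17, 1) (.node (33, 1) (.node (65, 1) (.node (129, 1) .nil .nil) (.node (192, (-1)) .nil .nil)) (.node (97, 1) (.node (160, (-1)) .nil .nil) (.node (225, 1) .nil .nil))) (.node (49, 1) (.node (81, 1) (.node (144, (-1)) .nil .nil) (.node (208, (-1)) .nil .nil)) (.node (113, 1) (.node (177, 1) .nil .nil) .nil))) (.node (25, 1) (.node (40, 1) (.node (72, 1) (.node (137, 1) .nil .nil) (.node (202, 1) .nil .nil)) (.node (105, 1) (.node (169, 1) .nil .nil) (.node (233, 1) .nil .nil))) (.node (56, 1) (.node (90, (-1)) (.node (154, 1) .nil .nil) (.node (217, 1) .nil .nil)) (.node (118, (-1)) (.node (186, 1) .nil .nil) .nil)))) (.node (13, 1) (.node (21, 1) (.node (38, (-1))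 (.node (69, 1) (.node (132, (-1)) .nil .nil) (.node (197, 1) .nil .nil)) (.node (100, 1) (.node (165, 1) .nil .nil) (.node (229, 1) .nil .nil))) (.node (54, (-1)) (.node (86, (-1)) (.node (150, 1) .nil .nil) (.node (213, 1) .nil .nil)) (.node (119, 1) (.node (181, 1) .nil .nil) .nil))) (.node (29, 1) (.node (44, 1) (.node (77, 1) (.node (141, 1) .nil .nil) (.node (204, (-1)) .nil .nil)) (.node (109, 1) (.node (173, 1) .nil .nil) (.node (238, 1) .nil .nil))) (.node (60, 1) (.node (93, 1) (.node (156, (-1)) .nil .nil) (.node (220, (-1)) .nil .nil)) (.node (125, 1) (.node (188, (-1)) .nil .nil) .nil)))))) (.node (1, 1) (.node (4, 1) (.node (8, 1) (.node (16, 1) (.node (32, 1) (.node (63, 1) (.node (127, (-1)) .nil .nil) (.node (193, 1) .nil .nil)) (.node (96, 1) (.node (161, 1) .nil .nil) (.node (224, 1) .nil .nil))) (.node (48, 1) (.node (80, 1) (.node (145, 1) .nil .nil) (.node (209, 1) .nil .nil)) (.node (111, 1) (.node (175, (-1)) .nil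 .nil) .nil))) (.node (23, 1) (.node (41, (-1)) (.node (73, (-1)) (.node (136, 1) .nil .nil) (.node (200, 1) .nil .nil)) (.node (104, 1) (.node (168, 1) .nil .nil) (.node (232, 1) .nil .nil))) (.node (57, (-1)) (.node (88, 1) (.node (152, 1) .nil .nil) (.node (215, (-1)) .nil .nil)) (.node (122, (-1)) (.node (184, 1) .nil .nil) .nil)))) (.node (11, 1) (.node (20, 1) (.node (36, 1) (.node (67, 1) (.node (133, 1) .nil .nil) (.node (196, 1) .nil .nil)) (.node (101, (-1)) (.node (164, 1) .nil .nil) (.node (227, (-1)) .nil .nil))) (.node (52, 1) (.node (84, 1) (.node (148, 1) .nil .nil) (.node (211, (-1)) .nil .nil)) (.node (115, 1) (.node (180, 1) .nil .nil) .nil))) (.node (27, 1) (.node (45, (-1)) (.node (76, 1) (.node (140, 1) .nil .nil) (.node (205, 1) .nil .nil)) (.node (108, 1) (.node (171, (-1)) .nil .nil) (.node (236, 1) .nil .nil))) (.node (61, (-1)) (.node (92, 1) (.node (157, 1) .nil .nil) (.node (221, 1) .nil .nil)) (.node (123,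 (-1)) (.node (189, 1) .nil .nil) .nil))))) (.node (6, 1) (.node (10, 1) (.node (19, (-1)) (.node (35, (-1)) (.node (66, 1) (.node (130, 1) .nil .nil) (.node (195, 1) .nil .nil)) (.node (98, 1) (.node (162, 1) .nil .nil) (.node (226, 1) .nil .nil))) (.node (51, (-1)) (.node (83, (-1)) (.node (146, 1) .nil .nil) (.node (210, 1) .nil .nil)) (.node (114, 1) (.node (179, 1) .nil .nil) .nil))) (.node (26, 1) (.node (42, 1) (.node (74, 1) (.node (139, 1) .nil .nil) (.node (201, (-1)) .nil .nil)) (.node (107, (-1)) (.node (170, 1) .nil .nil) (.node (234, 1) .nil .nil))) (.node (58, 1) (.node (89, 1) (.node (153, (-1)) .nil .nil) (.node (218, 1) .nil .nil)) (.node (120, 1) (.node (185, (-1)) .nil .nil) .nil)))) (.node (14, 1) (.node (22, 1) (.node (37, 1) (.node (70, 1) (.node (134, 1) .nil .nil) (.node (199, 1) .nil .nil)) (.node (102, 1) (.node (167, 1) .nil .nil) (.node (230, 1) .nil .nil))) (.node (53, 1) (.node (85, 1) (.node (149, (-1))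 .nil .nil) (.node (214, 1) .nil .nil)) (.node (121, (-1)) (.node (183, 1) .nil .nil) .nil))) (.node (31, (-1)) (.node (47, (-1)) (.node (79, (-1)) (.node (142, 1) .nil .nil) (.node (206, 1) .nil .nil)) (.node (110, 1) (.node (174, 1) .nil .nil) (.node (237, (-1)) .nil .nil))) (.node (62, 1) (.node (95, (-1)) (.node (158, 1) .nil .nil) (.node (222, 1) .nil .nil)) (.node (126, 1) (.node (190, 1) .nil .nil) .nil))))))) .nil .nil)))
  A := (.node (.node 0 (.node 0 (.node 0 (.node 0 (.node 1 (.node 0 (.node (-1) (.node 0 .nil .nil) (.node 0 .nil .nil)) (.node 0 (.node (-1) .nil .nil) (.node (-1) .nil .nil))) (.node 0 (.node 1 (.node 0 .nil .nil) (.node 0 .nil .nil)) (.node 0 (.node 1 .nil .nil) (.node 0 .nil .nil)))) (.node 0 (.node 0 (.node (-1) (.node (-1) .nil .nil) (.node 0 .nil .nil)) (.node 1 (.node 1 .nil .nil) (.node 1 .nil .nil))) (.node 0 (.node 1 (.node (-1) .nil .nil) (.node 0 .nil .nil)) (.node 0 (.node 1 .nil .nil) .nil)))) (.node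 (-1) (.node 1 (.node 0 (.node (-1) (.node 0 .nil .nil) (.node 0 .nil .nil)) (.node 1 (.node 1 .nil .nil) (.node 1 .nil .nil))) (.node 0 (.node 1 (.node (-1) .nil .nil) (.node 0 .nil .nil)) (.node 0 (.node 1 .nil .nil) .nil))) (.node 0 (.node 0 (.node (-1) (.node (-1) .nil .nil) (.node 0 .nil .nil)) (.node 0 (.node 1 .nil .nil) (.node 0 .nil .nil))) (.node (-1) (.node 1 (.node (-1) .nil .nil) (.node (-1) .nil .nil)) (.node 0 (.node 0 .nil .nil) .nil))))) (.node 0 (.node (-1) (.node 1 (.node 0 (.node (-1) (.node 0 .nil .nil) (.node 0 .nil .nil)) (.node 0 (.node (-1) .nil .nil) (.node (-1) .nil .nil))) (.node 0 (.node 1 (.node 0 .nil .nil) (.node 0 .nil .nil)) (.node 0 (.node 1 .nil .nil) .nil))) (.node 0 (.node 0 (.node (-1) (.node (-1) .nil .nil) (.node 0 .nil .nil)) (.node 0 (.node 1 .nil .nil) (.node 1 .nil .nil))) (.node (-1) (.node 1 (.node (-1) .nil .nil) (.node 0 .nil .nil)) (.node 0 (.node 0 .nil .nil) .nil)))) (.node (-1) (.node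 0 (.node 0 (.node (-1) (.node 0 .nil .nil) (.node 0 .nil .nil)) (.node 1 (.node 1 .nil .nil) (.node 1 .nil .nil))) (.node 0 (.node 1 (.node (-1) .nil .nil) (.node 0 .nil .nil)) (.node 0 (.node 1 .nil .nil) .nil))) (.node 0 (.node 0 (.node (-2) (.node 0 .nil .nil) (.node 0 .nil .nil)) (.node 0 (.node 1 .nil .nil) (.node 0 .nil .nil))) (.node (-1) (.node 0 (.node (-1) .nil .nil) (.node (-1) .nil .nil)) (.node 0 (.node 0 .nil .nil) .nil)))))) (.node 0 (.node 0 (.node (-1) (.node 1 (.node 0 (.node (-1) (.node 0 .nil .nil) (.node 0 .nil .nil)) (.node 0 (.node (-1) .nil .nil) (.node (-1) .nil .nil))) (.node 0 (.node 1 (.node 0 .nil .nil) (.node 0 .nil .nil)) (.node 0 (.node 1 .nil .nil) .nil))) (.node 0 (.node 0 (.node (-1) (.node (-1) .nil .nil) (.node 0 .nil .nil)) (.node 1 (.node 1 .nil .nil) (.node 0 .nil .nil))) (.node (-1) (.node 1 (.node (-1) .nil .nil) (.node 0 .nil .nil)) (.node 0 (.node 0 .nil .nil) .nil)))) (.node (-1) (.node 1 (.node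 0 (.node (-1) (.node 0 .nil .nil) (.node 0 .nil .nil)) (.node 1 (.node 1 .nil .nil) (.node 1 .nil .nil))) (.node 0 (.node 1 (.node (-1) .nil .nil) (.node 0 .nil .nil)) (.node 0 (.node 1 .nil .nil) .nil))) (.node 0 (.node 0 (.node (-1) (.node (-1) .nil .nil) (.node 0 .nil .nil)) (.node 0 (.node 1 .nil .nil) (.node 0 .nil .nil))) (.node (-1) (.node 1 (.node (-1) .nil .nil) (.node (-1) .nil .nil)) (.node 0 (.node 0 .nil .nil) .nil))))) (.node (-1) (.node (-1) (.node 1 (.node 0 (.node (-1) (.node 0 .nil .nil) (.node 0 .nil .nil)) (.node 0 (.node 2 .nil .nil) (.node 1 .nil .nil))) (.node 0 (.node 1 (.node 0 .nil .nil) (.node 0 .nil .nil)) (.node 0 (.node 1 .nil .nil) .nil))) (.node 0 (.node 0 (.node (-1) (.node (-1) .nil .nil) (.node 0 .nil .nil)) (.node 0 (.node 1 .nil .nil) (.node 0 .nil .nil))) (.node (-1) (.node 1 (.node (-1) .nil .nil) (.node 0 .nil .nil)) (.node 0 (.node 0 .nil .nil) .nil)))) (.node 1 (.node 0 (.node 0 (.node (-1) (.node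 0 .nil .nil) (.node 0 .nil .nil)) (.node 1 (.node 1 .nil .nil) (.node 1 .nil .nil))) (.node 0 (.node 1 (.node (-1) .nil .nil) (.node 0 .nil .nil)) (.node 0 (.node 1 .nil .nil) .nil))) (.node 0 (.node 0 (.node 1 (.node 0 .nil .nil) (.node 0 .nil .nil)) (.node 0 (.node 1 .nil .nil) (.node 0 .nil .nil))) (.node (-1) (.node 0 (.node (-1) .nil .nil) (.node (-1) .nil .nil)) (.node 0 (.node 0 .nil .nil) .nil))))))) (.node (.node 0 (.node 0 (.node 0 (.node 1 (.node 1 (.node (-1) (.node 0 (.node 0 .nil .nil) (.node 0 .nil .nil)) (.node (-1) (.node 0 .nil .nil) (.node 0 .nil .nil))) (.node 0 (.node 0 (.node 1 .nil .nil) (.node 1 .nil .nil)) (.node 0 (.node 0 .nil .nil) (.node 0 .nil .nil)))) (.node 0 (.node 1 (.node 1 (.node 0 .nil .nil) (.node (-1) .nil .nil)) (.node 1 (.node (-1) .nil .nil) (.node (-1) .nil .nil))) (.node 0 (.node 0 (.node 1 .nil .nil) (.node 0 .nil .nil)) (.node 0 (.node 0 .nil .nil) .nil)))) (.node 0 (.node 0 (.node (-1) (.node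 (-1) (.node (-1) .nil .nil) (.node (-1) .nil .nil)) (.node 1 (.node 0 .nil .nil) (.node 0 .nil .nil))) (.node 0 (.node 0 (.node 1 .nil .nil) (.node 1 .nil .nil)) (.node 0 (.node 0 .nil .nil) .nil))) (.node (-1) (.node 1 (.node 1 (.node (-1) .nil .nil) (.node (-1) .nil .nil)) (.node 1 (.node 1 .nil .nil) (.node 0 .nil .nil))) (.node 0 (.node (-1) (.node 0 .nil .nil) (.node 0 .nil .nil)) (.node 0 (.node 0 .nil .nil) .nil))))) (.node (-1) (.node 0 (.node 0 (.node (-1) (.node 0 (.node 0 .nil .nil) (.node 0 .nil .nil)) (.node (-1) (.node 0 .nil .nil) (.node 1 .nil .nil))) (.node 0 (.node 0 (.node 1 .nil .nil) (.node 1 .nil .nil)) (.node 0 (.node 0 .nil .nil) .nil))) (.node 0 (.node 1 (.node 1 (.node (-1) .nil .nil) (.node (-1) .nil .nil)) (.node 1 (.node 1 .nil .nil) (.node 1 .nil .nil))) (.node 0 (.node (-1) (.node 0 .nil .nil) (.node 0 .nil .nil)) (.node 0 (.node 0 .nil .nil) .nil)))) (.node 0 (.node 0 (.node 1 (.node (-1) (.node (-1) .nil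 .nil) (.node (-1) .nil .nil)) (.node 1 (.node (-1) .nil .nil) (.node 0 .nil .nil))) (.node 0 (.node 0 (.node 1 .nil .nil) (.node 1 .nil .nil)) (.node 0 (.node 0 .nil .nil) .nil))) (.node (-1) (.node 1 (.node 0 (.node 2 .nil .nil) (.node 1 .nil .nil)) (.node 1 (.node 1 .nil .nil) (.node 0 .nil .nil))) (.node 0 (.node (-1) (.node 0 .nil .nil) (.node 0 .nil .nil)) (.node 0 (.node 0 .nil .nil) .nil)))))) (.node 0 (.node 0 (.node 1 (.node 0 (.node (-1) (.node 0 (.node 0 .nil .nil) (.node 0 .nil .nil)) (.node (-1) (.node 0 .nil .nil) (.node (-1) .nil .nil))) (.node 0 (.node 0 (.node 1 .nil .nil) (.node 1 .nil .nil)) (.node 0 (.node 0 .nil .nil) .nil))) (.node 0 (.node 1 (.node 1 (.node (-1) .nil .nil) (.node (-1) .nil .nil)) (.node 0 (.node (-1) .nil .nil) (.node (-1) .nil .nil))) (.node 0 (.node (-1) (.node 0 .nil .nil) (.node 0 .nil .nil)) (.node 0 (.node 0 .nil .nil) .nil)))) (.node 0 (.node 0 (.node 1 (.node (-1) (.node (-1) .nil .nil)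 (.node (-1) .nil .nil)) (.node 1 (.node (-1) .nil .nil) (.node 0 .nil .nil))) (.node 0 (.node 0 (.node 1 .nil .nil) (.node 1 .nil .nil)) (.node 0 (.node 0 .nil .nil) .nil))) (.node (-1) (.node 1 (.node 0 (.node (-1) .nil .nil) (.node 1 .nil .nil)) (.node 1 (.node 1 .nil .nil) (.node 0 .nil .nil))) (.node 0 (.node (-1) (.node 0 .nil .nil) (.node 0 .nil .nil)) (.node 0 (.node 0 .nil .nil) .nil))))) (.node (-1) (.node 0 (.node 0 (.node (-1) (.node (-1) (.node (-1) .nil .nil) (.node (-1) .nil .nil)) (.node (-2) (.node 0 .nil .nil) (.node 0 .nil .nil))) (.node 0 (.node 0 (.node 1 .nil .nil) (.node 1 .nil .nil)) (.node 0 (.node 0 .nil .nil) .nil))) (.node (-1) (.node 1 (.node 1 (.node (-1) .nil .nil) (.node (-1) .nil .nil)) (.node 1 (.node 1 .nil .nil) (.node 1 .nil .nil))) (.node 0 (.node (-1) (.node 0 .nil .nil) (.node 0 .nil .nil)) (.node 0 (.node 0 .nil .nil) .nil)))) (.node (-1) (.node 0 (.node 1 (.node (-1) (.node (-1) .nil .nil) (.node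 (-1) .nil .nil)) (.node 1 (.node (-1) .nil .nil) (.node 0 .nil .nil))) (.node 0 (.node 0 (.node 1 .nil .nil) (.node 0 .nil .nil)) (.node 0 (.node 0 .nil .nil) .nil))) (.node (-1) (.node 0 (.node 0 (.node 1 .nil .nil) (.node 1 .nil .nil)) (.node 0 (.node 0 .nil .nil) (.node 0 .nil .nil))) (.node 0 (.node (-1) (.node 0 .nil .nil) (.node 0 .nil .nil)) (.node 0 (.node 0 .nil .nil) .nil))))))) (.node (.node 0 (.node 0 (.node 0 (.node 0 (.node (-1) (.node 0 (.node (-1) (.node (-1) .nil .nil) (.node (-1) .nil .nil)) (.node 0 (.node 0 .nil .nil) (.node (-1) .nil .nil))) (.node 1 (.node 0 (.node 0 .nil .nil) (.node 0 .nil .nil)) (.node 1 (.node 1 .nil .nil) (.node 0 .nil .nil)))) (.node (-1) (.node 0 (.node 0 (.node (-1) .nil .nil) (.node 1 .nil .nil)) (.node (-1) (.node 0 .nil .nil) (.node 1 .nil .nil))) (.node 0 (.node (-1) (.node (-1) .nil .nil) (.node 1 .nil .nil)) (.node 0 (.node 0 .nil .nil) .nil)))) (.node 0 (.node 0 (.node 0 (.node 1 (.node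 1 .nil .nil) (.node 1 .nil .nil)) (.node 0 (.node (-1) .nil .nil) (.node 0 .nil .nil))) (.node 1 (.node 0 (.node 0 .nil .nil) (.node (-1) .nil .nil)) (.node 0 (.node 0 .nil .nil) .nil))) (.node 1 (.node (-1) (.node (-1) (.node 0 .nil .nil) (.node 0 .nil .nil)) (.node (-1) (.node (-1) .nil .nil) (.node 1 .nil .nil))) (.node 0 (.node 1 (.node 1 .nil .nil) (.node 0 .nil .nil)) (.node 0 (.node 0 .nil .nil) .nil))))) (.node 1 (.node 1 (.node 0 (.node 0 (.node (-1) (.node (-1) .nil .nil) (.node (-1) .nil .nil)) (.node (-1) (.node 0 .nil .nil) (.node 0 .nil .nil))) (.node 1 (.node 0 (.node 0 .nil .nil) (.node 0 .nil .nil)) (.node 1 (.node 1 .nil .nil) .nil))) (.node (-1) (.node (-1) (.node 0 (.node 0 .nil .nil) (.node 0 .nil .nil)) (.node (-1) (.node 0 .nil .nil) (.node 0 .nil .nil))) (.node 0 (.node 1 (.node 1 .nil .nil) (.node 1 .nil .nil)) (.node 0 (.node 0 .nil .nil) .nil)))) (.node 0 (.node 0 (.node 0 (.node 1 (.node 1 .nil .nil) (.node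 1 .nil .nil)) (.node 0 (.node 0 .nil .nil) (.node 0 .nil .nil))) (.node 0 (.node (-1) (.node (-1) .nil .nil) (.node (-1) .nil .nil)) (.node 0 (.node 0 .nil .nil) .nil))) (.node 1 (.node (-1) (.node 0 (.node (-1) .nil .nil) (.node 0 .nil .nil)) (.node (-2) (.node (-1) .nil .nil) (.node 0 .nil .nil))) (.node 0 (.node 0 (.node 0 .nil .nil) (.node 0 .nil .nil)) (.node 0 (.node (-1) .nil .nil) .nil)))))) (.node 0 (.node (-1) (.node (-1) (.node 1 (.node 0 (.node (-1) (.node (-1) .nil .nil) (.node (-1) .nil .nil)) (.node 0 (.node 0 .nil .nil) (.node 1 .nil .nil))) (.node 1 (.node 0 (.node 0 .nil .nil) (.node 0 .nil .nil)) (.node 1 (.node 1 .nil .nil) .nil))) (.node (-1) (.node (-1) (.node 0 (.node 1 .nil .nil) (.node 0 .nil .nil)) (.node 1 (.node 0 .nil .nil) (.node 0 .nil .nil))) (.node 0 (.node 1 (.node 1 .nil .nil) (.node 1 .nil .nil)) (.node 0 (.node 0 .nil .nil) .nil)))) (.node 0 (.node 0 (.node 0 (.node 1 (.node 1 .nil .nil) (.node 1 .nil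 .nil)) (.node 0 (.node 1 .nil .nil) (.node 0 .nil .nil))) (.node 0 (.node (-1) (.node (-1) .nil .nil) (.node (-1) .nil .nil)) (.node 0 (.node 0 .nil .nil) .nil))) (.node 1 (.node (-1) (.node 1 (.node 0 .nil .nil) (.node 0 .nil .nil)) (.node (-1) (.node (-1) .nil .nil) (.node 0 .nil .nil))) (.node 0 (.node 0 (.node 0 .nil .nil) (.node 0 .nil .nil)) (.node 0 (.node (-1) .nil .nil) .nil))))) (.node 0 (.node 0 (.node 0 (.node 0 (.node 1 (.node 2 .nil .nil) (.node 1 .nil .nil)) (.node 1 (.node 0 .nil .nil) (.node 0 .nil .nil))) (.node 1 (.node 0 (.node 0 .nil .nil) (.node (-1) .nil .nil)) (.node 0 (.node 0 .nil .nil) .nil))) (.node 1 (.node (-1) (.node 0 (.node 0 .nil .nil) (.node 0 .nil .nil)) (.node (-1) (.node (-1) .nil .nil) (.node (-1) .nil .nil))) (.node 0 (.node 1 (.node 1 .nil .nil) (.node 0 .nil .nil)) (.node 0 (.node 0 .nil .nil) .nil)))) (.node 0 (.node (-1) (.node 0 (.node 0 (.node 1 .nil .nil) (.node 1 .nil .nil)) (.node 0 (.node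 0 .nil .nil) (.node (-1) .nil .nil))) (.node 0 (.node (-1) (.node (-1) .nil .nil) (.node 1 .nil .nil)) (.node 0 (.node 0 .nil .nil) .nil))) (.node 0 (.node 1 (.node 0 (.node 1 .nil .nil) (.node 0 .nil .nil)) (.node 1 (.node 1 .nil .nil) (.node 0 .nil .nil))) (.node (-1) (.node 0 (.node 0 .nil .nil) (.node 0 .nil .nil)) (.node (-1) (.node (-1) .nil .nil) .nil))))))) (.node (.node (-1) (.node 1 (.node 0 (.node 0 (.node 0 (.node (-1) (.node 1 (.node 0 .nil .nil) (.node (-1) .nil .nil)) (.node 0 (.node (-1) .nil .nil) (.node 0 .nil .nil))) (.node (-1) (.node (-1) (.node 0 .nil .nil) (.node (-1) .nil .nil)) (.node 1 (.node 0 .nil .nil) (.node 1 .nil .nil)))) (.node 0 (.node 1 (.node (-1) (.node 0 .nil .nil) (.node 0 .nil .nil)) (.node 0 (.node (-1) .nil .nil) (.node 0 .nil .nil))) (.node 0 (.node 0 (.node 1 .nil .nil) (.node 1 .nil .nil)) (.node (-2) (.node 0 .nil .nil) .nil)))) (.node 0 (.node (-1) (.node 0 (.node 1 (.node 0 .nil .nil) (.node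 (-1) .nil .nil)) (.node (-1) (.node 0 .nil .nil) (.node 1 .nil .nil))) (.node 0 (.node 0 (.node 0 .nil .nil) (.node 1 .nil .nil)) (.node 1 (.node (-1) .nil .nil) .nil))) (.node 0 (.node (-1) (.node 0 (.node (-1) .nil .nil) (.node 0 .nil .nil)) (.node 0 (.node 0 .nil .nil) (.node 0 .nil .nil))) (.node (-1) (.node 0 (.node 1 .nil .nil) (.node (-1) .nil .nil)) (.node 0 (.node 1 .nil .nil) .nil))))) (.node 0 (.node 0 (.node 0 (.node (-1) (.node 0 (.node 1 .nil .nil) (.node 0 .nil .nil)) (.node 0 (.node 0 .nil .nil) (.node 0 .nil .nil))) (.node (-1) (.node (-1) (.node (-1) .nil .nil) (.node 0 .nil .nil)) (.node 0 (.node 1 .nil .nil) .nil))) (.node 1 (.node (-1) (.node 0 (.node 0 .nil .nil) (.node 1 .nil .nil)) (.node (-1) (.node 0 .nil .nil) (.node 0 .nil .nil))) (.node (-1) (.node 1 (.node 0 .nil .nil) (.node 0 .nil .nil)) (.node (-1) (.node 0 .nil .nil) .nil)))) (.node 1 (.node 0 (.node 0 (.node 0 (.node (-1) .nil .nil) (.node (-1) .nil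 .nil)) (.node 0 (.node 0 .nil .nil) (.node 0 .nil .nil))) (.node 1 (.node 1 (.node 0 .nil .nil) (.node 0 .nil .nil)) (.node (-1) (.node (-1) .nil .nil) .nil))) (.node 1 (.node 0 (.node 0 (.node 0 .nil .nil) (.node (-1) .nil .nil)) (.node 0 (.node 1 .nil .nil) (.node 0 .nil .nil))) (.node 0 (.node (-1) (.node (-1) .nil .nil) (.node 0 .nil .nil)) (.node 1 (.node (-1) .nil .nil) .nil)))))) (.node 0 (.node 0 (.node 0 (.node 0 (.node 1 (.node 0 (.node (-1) .nil .nil) (.node 1 .nil .nil)) (.node 0 (.node 1 .nil .nil) (.node 0 .nil .nil))) (.node 1 (.node 1 (.node 0 .nil .nil) (.node 1 .nil .nil)) (.node 0 (.node (-1) .nil .nil) .nil))) (.node (-1) (.node 0 (.node 1 (.node 0 .nil .nil) (.node (-1) .nil .nil)) (.node 0 (.node 1 .nil .nil) (.node 0 .nil .nil))) (.node 0 (.node (-1) (.node 0 .nil .nil) (.node 0 .nil .nil)) (.node 2 (.node 0 .nil .nil) .nil)))) (.node (-1) (.node 1 (.node 0 (.node 0 (.node 0 .nil .nil) (.node 1 .nil .nil)) (.node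 1 (.node 0 .nil .nil) (.node 0 .nil .nil))) (.node (-1) (.node (-1) (.node 0 .nil .nil) (.node 0 .nil .nil)) (.node 0 (.node 1 .nil .nil) .nil))) (.node (-1) (.node 1 (.node 0 (.node 1 .nil .nil) (.node 0 .nil .nil)) (.node 0 (.node (-1) .nil .nil) (.node 0 .nil .nil))) (.node 1 (.node 0 (.node 0 .nil .nil) (.node 1 .nil .nil)) (.node (-1) (.node 0 .nil .nil) .nil))))) (.node 0 (.node 0 (.node 0 (.node 1 (.node (-1) (.node 0 .nil .nil) (.node 0 .nil .nil)) (.node 0 (.node 0 .nil .nil) (.node (-1) .nil .nil))) (.node 1 (.node 1 (.node 1 .nil .nil) (.node (-1) .nil .nil)) (.node (-1) (.node 0 .nil .nil) .nil))) (.node 0 (.node 1 (.node 0 (.node 0 .nil .nil) (.node 0 .nil .nil)) (.node 1 (.node 0 .nil .nil) (.node 0 .nil .nil))) (.node 1 (.node 0 (.node (-1) .nil .nil) (.node 0 .nil .nil)) (.node 1 (.node (-1) .nil .nil) .nil)))) (.node 0 (.node 0 (.node (-1) (.node 0 (.node 1 .nil .nil) (.node 1 .nil .nil)) (.node 0 (.node 0 .nil .nil)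 (.node 0 .nil .nil))) (.node 0 (.node 0 (.node (-1) .nil .nil) (.node (-1) .nil .nil)) (.node 1 (.node 1 .nil .nil) .nil))) (.node 0 (.node 0 (.node 0 (.node 0 .nil .nil) (.node 1 .nil .nil)) (.node (-1) (.node 0 .nil .nil) (.node (-1) .nil .nil))) (.node (-1) (.node 1 (.node 1 .nil .nil) (.node 0 .nil .nil)) (.node 0 (.node 1 .nil .nil) .nil))))))) .nil .nil) .nil) (.node (.node 0 (.node 0 (.node 1 (.node 0 (.node 0 (.node (-1) (.node 0 (.node 1 .nil .nil) (.node 1 .nil .nil)) (.node (-1) (.node 1 .nil .nil) (.node 0 .nil .nil))) (.node (-1) (.node (-1) (.node (-1) .nil .nil) (.node 1 .nil .nil)) (.node 0 (.node 1 .nil .nil) (.node 0 .nil .nil)))) (.node 1 (.node 0 (.node 0 (.node 0 .nil .nil) (.node 0 .nil .nil)) (.node 0 (.node 0 .nil .nil) (.node 0 .nil .nil))) (.node 1 (.node 1 (.node 0 .nil .nil) (.node 0 .nil .nil)) (.node 0 (.node 0 .nil .nil) .nil)))) (.node 1 (.node 0 (.node 0 (.node 0 (.node (-1) .nil .nil) (.node (-1) .nil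 .nil)) (.node 0 (.node 0 .nil .nil) (.node 0 .nil .nil))) (.node 0 (.node 0 (.node 0 .nil .nil) (.node 0 .nil .nil)) (.node (-1) (.node (-1) .nil .nil) .nil))) (.node 1 (.node 1 (.node 0 (.node 0 .nil .nil) (.node 1 .nil .nil)) (.node (-1) (.node 1 .nil .nil) (.node 0 .nil .nil))) (.node 1 (.node 1 (.node 0 .nil .nil) (.node 0 .nil .nil)) (.node 2 (.node 0 .nil .nil) .nil))))) (.node 0 (.node 0 (.node (-1) (.node 1 (.node 1 (.node 0 .nil .nil) (.node 0 .nil .nil)) (.node 0 (.node 0 .nil .nil) (.node 0 .nil .nil))) (.node 1 (.node 1 (.node 0 .nil .nil) (.node 0 .nil .nil)) (.node 1 (.node 0 .nil .nil) .nil))) (.node 0 (.node (-1) (.node (-1) (.node (-1) .nil .nil) (.node 0 .nil .nil)) (.node 0 (.node 0 .nil .nil) (.node 0 .nil .nil))) (.node (-1) (.node 0 (.node 1 .nil .nil) (.node 1 .nil .nil)) (.node (-1) (.node 1 .nil .nil) .nil)))) (.node 0 (.node 0 (.node 1 (.node 1 (.node 0 .nil .nil) (.node 1 .nil .nil)) (.node (-1) (.node (-1)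 .nil .nil) (.node 1 .nil .nil))) (.node 0 (.node 0 (.node 1 .nil .nil) (.node 1 .nil .nil)) (.node 1 (.node 1 .nil .nil) .nil))) (.node 0 (.node 0 (.node 0 (.node 0 .nil .nil) (.node (-1) .nil .nil)) (.node 0 (.node 0 .nil .nil) (.node 1 .nil .nil))) (.node 0 (.node 0 (.node (-1) .nil .nil) (.node (-1) .nil .nil)) (.node 1 (.node (-1) .nil .nil) .nil)))))) (.node (-1) (.node 0 (.node 0 (.node 0 (.node (-1) (.node (-1) (.node 0 .nil .nil) (.node 1 .nil .nil)) (.node 1 (.node 1 .nil .nil) (.node 0 .nil .nil))) (.node (-1) (.node (-1) (.node 1 .nil .nil) (.node 1 .nil .nil)) (.node (-1) (.node 0 .nil .nil) .nil))) (.node 0 (.node 0 (.node 0 (.node 0 .nil .nil) (.node 0 .nil .nil)) (.node 0 (.node 0 .nil .nil) (.node 0 .nil .nil))) (.node 0 (.node 0 (.node (-1) .nil .nil) (.node (-1) .nil .nil)) (.node 0 (.node (-1) .nil .nil) .nil)))) (.node 0 (.node 0 (.node (-1) (.node (-1) (.node 1 .nil .nil) (.node (-1) .nil .nil)) (.node 0 (.node 0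 .nil .nil) (.node (-1) .nil .nil))) (.node 0 (.node 0 (.node (-1) .nil .nil) (.node (-1) .nil .nil)) (.node (-2) (.node (-1) .nil .nil) .nil))) (.node 0 (.node 1 (.node 0 (.node 0 .nil .nil) (.node 0 .nil .nil)) (.node 1 (.node 0 .nil .nil) (.node (-1) .nil .nil))) (.node 1 (.node 0 (.node 0 .nil .nil) (.node 0 .nil .nil)) (.node 1 (.node 0 .nil .nil) .nil))))) (.node 0 (.node (-1) (.node 1 (.node 1 (.node 0 (.node 0 .nil .nil) (.node 0 .nil .nil)) (.node 0 (.node 0 .nil .nil) (.node 0 .nil .nil))) (.node 1 (.node 1 (.node 0 .nil .nil) (.node 0 .nil .nil)) (.node (-1) (.node 0 .nil .nil) .nil))) (.node (-1) (.node (-1) (.node 1 (.node 1 .nil .nil) (.node (-1) .nil .nil)) (.node 0 (.node (-1) .nil .nil) (.node 0 .nil .nil))) (.node (-1) (.node (-1) (.node 0 .nil .nil) (.node 0 .nil .nil)) (.node (-1) (.node 0 .nil .nil) .nil)))) (.node 0 (.node (-1) (.node 0 (.node 0 (.node 0 .nil .nil) (.node 1 .nil .nil)) (.node 1 (.node 1 .nil .nil)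 (.node 0 .nil .nil))) (.node (-1) (.node (-1) (.node 0 .nil .nil) (.node 0 .nil .nil)) (.node 1 (.node 1 .nil .nil) .nil))) (.node 0 (.node 0 (.node 0 (.node 0 .nil .nil) (.node (-1) .nil .nil)) (.node 0 (.node (-1) .nil .nil) (.node 0 .nil .nil))) (.node 0 (.node 0 (.node (-1) .nil .nil) (.node 1 .nil .nil)) (.node (-1) (.node (-1) .nil .nil) .nil))))))) .nil .nil)) (.node (.node 0 (.node 0 (.node 0 (.node (-1) (.node 0 (.node 0 (.node 1 (.node 0 .nil .nil) (.node 1 .nil .nil)) (.node 1 (.node 0 .nil .nil) (.node 1 .nil .nil))) (.node (-1) (.node 0 (.node (-1) .nil .nil) (.node 0 .nil .nil)) (.node 0 (.node (-1) .nil .nil) (.node 0 .nil .nil)))) (.node 1 (.node 0 (.node 0 (.node 2 .nil .nil) (.node 0 .nil .nil)) (.node (-1) (.node 0 .nil .nil) (.node (-1) .nil .nil))) (.node (-1) (.node 0 (.node 1 .nil .nil) (.node (-1) .nil .nil)) (.node 0 (.node (-1) .nil .nil) .nil)))) (.node 0 (.node (-1) (.node 0 (.node 0 (.node (-1) .nil .nil)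 (.node 0 .nil .nil)) (.node (-1) (.node 1 .nil .nil) (.node 0 .nil .nil))) (.node (-1) (.node 0 (.node 1 .nil .nil) (.node 0 .nil .nil)) (.node 0 (.node (-1) .nil .nil) .nil))) (.node 0 (.node 0 (.node 0 (.node 1 .nil .nil) (.node 0 .nil .nil)) (.node 1 (.node 0 .nil .nil) (.node 0 .nil .nil))) (.node 1 (.node (-1) (.node 0 .nil .nil) (.node 1 .nil .nil)) (.node 0 (.node 1 .nil .nil) .nil))))) (.node (-1) (.node 0 (.node (-1) (.node 0 (.node 1 (.node 0 .nil .nil) (.node 1 .nil .nil)) (.node 1 (.node 0 .nil .nil) (.node 0 .nil .nil))) (.node (-1) (.node 0 (.node (-1) .nil .nil) (.node 0 .nil .nil)) (.node 0 (.node (-1) .nil .nil) .nil))) (.node 1 (.node 0 (.node 0 (.node 1 .nil .nil) (.node 0 .nil .nil)) (.node 1 (.node 0 .nil .nil) (.node (-1) .nil .nil))) (.node 1 (.node (-1) (.node 0 .nil .nil) (.node (-1) .nil .nil)) (.node 0 (.node 1 .nil .nil) .nil)))) (.node 0 (.node 1 (.node 0 (.node 0 (.node (-1) .nil .nil) (.node 0 .nil .nil))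 (.node (-1) (.node 0 .nil .nil) (.node 0 .nil .nil))) (.node (-1) (.node 0 (.node 1 .nil .nil) (.node 0 .nil .nil)) (.node 0 (.node (-1) .nil .nil) .nil))) (.node 0 (.node 0 (.node 1 (.node 0 .nil .nil) (.node 0 .nil .nil)) (.node 1 (.node 0 .nil .nil) (.node 0 .nil .nil))) (.node 1 (.node 1 (.node 0 .nil .nil) (.node 1 .nil .nil)) (.node 0 (.node 1 .nil .nil) .nil)))))) (.node 0 (.node 0 (.node 1 (.node (-1) (.node 0 (.node 1 (.node 0 .nil .nil) (.node 1 .nil .nil)) (.node 1 (.node 0 .nil .nil) (.node 0 .nil .nil))) (.node (-1) (.node 0 (.node (-1) .nil .nil) (.node 0 .nil .nil)) (.node 0 (.node (-1) .nil .nil) .nil))) (.node 1 (.node 0 (.node 0 (.node 1 .nil .nil) (.node 0 .nil .nil)) (.node (-2) (.node 0 .nil .nil) (.node 1 .nil .nil))) (.node 1 (.node (-1) (.node 0 .nil .nil) (.node (-1) .nil .nil)) (.node 0 (.node 1 .nil .nil) .nil)))) (.node 0 (.node (-1) (.node 0 (.node 0 (.node (-1) .nil .nil) (.node 0 .nil .nil)) (.node (-1)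 (.node 0 .nil .nil) (.node 0 .nil .nil))) (.node (-1) (.node 0 (.node 1 .nil .nil) (.node 0 .nil .nil)) (.node 0 (.node (-1) .nil .nil) .nil))) (.node 0 (.node 0 (.node (-1) (.node 1 .nil .nil) (.node 0 .nil .nil)) (.node 1 (.node 0 .nil .nil) (.node 0 .nil .nil))) (.node 1 (.node (-1) (.node 0 .nil .nil) (.node 1 .nil .nil)) (.node 0 (.node 1 .nil .nil) .nil))))) (.node 1 (.node 0 (.node (-1) (.node 0 (.node 0 (.node (-1) .nil .nil) (.node 0 .nil .nil)) (.node 0 (.node (-1) .nil .nil) (.node 0 .nil .nil))) (.node (-1) (.node 0 (.node (-1) .nil .nil) (.node 0 .nil .nil)) (.node 0 (.node (-1) .nil .nil) .nil))) (.node 0 (.node 0 (.node 0 (.node 1 .nil .nil) (.node 0 .nil .nil)) (.node 1 (.node 0 .nil .nil) (.node 1 .nil .nil))) (.node 1 (.node (-1) (.node 0 .nil .nil) (.node (-1) .nil .nil)) (.node 0 (.node 1 .nil .nil) .nil)))) (.node 0 (.node 1 (.node 0 (.node 0 (.node (-1) .nil .nil) (.node 0 .nil .nil)) (.node (-1) (.node 0 .nil .nil)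 (.node 0 .nil .nil))) (.node (-1) (.node 0 (.node 1 .nil .nil) (.node (-1) .nil .nil)) (.node 0 (.node (-1) .nil .nil) .nil))) (.node 0 (.node (-1) (.node 0 (.node (-1) .nil .nil) (.node 0 .nil .nil)) (.node 0 (.node (-1) .nil .nil) (.node 0 .nil .nil))) (.node 1 (.node 1 (.node 0 .nil .nil) (.node 1 .nil .nil)) (.node 0 (.node 1 .nil .nil) .nil))))))) (.node (.node 0 (.node 0 (.node (-1) (.node 0 (.node 0 (.node 1 (.node 1 (.node 1 .nil .nil) (.node 0 .nil .nil)) (.node 0 (.node 0 .nil .nil) (.node 1 .nil .nil))) (.node 0 (.node 0 (.node 1 .nil .nil) (.node (-1) .nil .nil)) (.node (-1) (.node (-1) .nil .nil) (.node 0 .nil .nil)))) (.node 0 (.node (-1) (.node 0 (.node 0 .nil .nil) (.node (-1) .nil .nil)) (.node 1 (.node 0 .nil .nil) (.node 0 .nil .nil))) (.node 0 (.node 0 (.node 0 .nil .nil) (.node 0 .nil .nil)) (.node 0 (.node 0 .nil .nil) .nil)))) (.node 0 (.node 0 (.node 0 (.node 0 (.node 1 .nil .nil) (.node 0 .nil .nil)) (.node 0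 (.node 0 .nil .nil) (.node 0 .nil .nil))) (.node (-1) (.node (-1) (.node (-1) .nil .nil) (.node 1 .nil .nil)) (.node 1 (.node 1 .nil .nil) .nil))) (.node (-1) (.node 0 (.node 1 (.node 0 .nil .nil) (.node 0 .nil .nil)) (.node 0 (.node 0 .nil .nil) (.node (-1) .nil .nil))) (.node (-1) (.node (-1) (.node (-1) .nil .nil) (.node 0 .nil .nil)) (.node (-1) (.node (-1) .nil .nil) .nil))))) (.node 0 (.node (-1) (.node 1 (.node 0 (.node 0 (.node 1 .nil .nil) (.node 0 .nil .nil)) (.node 1 (.node 0 .nil .nil) (.node 0 .nil .nil))) (.node (-1) (.node (-1) (.node 0 .nil .nil) (.node (-1) .nil .nil)) (.node (-2) (.node (-1) .nil .nil) .nil))) (.node 0 (.node 1 (.node 0 (.node 1 .nil .nil) (.node 1 .nil .nil)) (.node 0 (.node (-1) .nil .nil) (.node 0 .nil .nil))) (.node 0 (.node 0 (.node (-1) .nil .nil) (.node (-1) .nil .nil)) (.node 0 (.node (-1) .nil .nil) .nil)))) (.node 0 (.node (-1) (.node (-1) (.node (-1) (.node 0 .nil .nil) (.node (-1) .nil .nil))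 (.node 0 (.node 1 .nil .nil) (.node (-1) .nil .nil))) (.node 1 (.node 1 (.node 0 .nil .nil) (.node 0 .nil .nil)) (.node 0 (.node 0 .nil .nil) .nil))) (.node (-1) (.node 0 (.node 0 (.node 0 .nil .nil) (.node 0 .nil .nil)) (.node 1 (.node 0 .nil .nil) (.node 0 .nil .nil))) (.node (-1) (.node 0 (.node 1 .nil .nil) (.node 0 .nil .nil)) (.node (-1) (.node 1 .nil .nil) .nil)))))) (.node 0 (.node 1 (.node 0 (.node (-1) (.node 1 (.node 1 (.node 1 .nil .nil) (.node 0 .nil .nil)) (.node (-1) (.node 0 .nil .nil) (.node 0 .nil .nil))) (.node 0 (.node 0 (.node 0 .nil .nil) (.node (-1) .nil .nil)) (.node (-1) (.node (-1) .nil .nil) .nil))) (.node 0 (.node 1 (.node 0 (.node (-1) .nil .nil) (.node 1 .nil .nil)) (.node 0 (.node 0 .nil .nil) (.node 0 .nil .nil))) (.node 0 (.node 0 (.node 0 .nil .nil) (.node 0 .nil .nil)) (.node 0 (.node 0 .nil .nil) .nil)))) (.node 0 (.node 0 (.node 0 (.node 0 (.node 0 .nil .nil) (.node 0 .nil .nil)) (.node 0 (.node (-1)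 .nil .nil) (.node 0 .nil .nil))) (.node 1 (.node 1 (.node 1 .nil .nil) (.node 1 .nil .nil)) (.node 1 (.node 1 .nil .nil) .nil))) (.node (-1) (.node 0 (.node 0 (.node 0 .nil .nil) (.node 0 .nil .nil)) (.node (-1) (.node 0 .nil .nil) (.node 1 .nil .nil))) (.node (-1) (.node 1 (.node 1 .nil .nil) (.node 0 .nil .nil)) (.node (-1) (.node 1 .nil .nil) .nil))))) (.node 0 (.node 1 (.node 0 (.node 0 (.node 0 (.node (-1) .nil .nil) (.node 0 .nil .nil)) (.node 0 (.node 0 .nil .nil) (.node 0 .nil .nil))) (.node (-1) (.node (-1) (.node 0 .nil .nil) (.node 1 .nil .nil)) (.node 1 (.node 1 .nil .nil) .nil))) (.node 0 (.node 1 (.node (-1) (.node 0 .nil .nil) (.node 1 .nil .nil)) (.node 0 (.node 1 .nil .nil) (.node 0 .nil .nil))) (.node 0 (.node 0 (.node (-1) .nil .nil) (.node 1 .nil .nil)) (.node 0 (.node (-1) .nil .nil) .nil)))) (.node 0 (.node 1 (.node (-1) (.node 1 (.node 0 .nil .nil) (.node (-1) .nil .nil)) (.node (-1) (.node 0 .nil .nil) (.node 1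 .nil .nil))) (.node 1 (.node 1 (.node 0 .nil .nil) (.node 0 .nil .nil)) (.node 0 (.node 0 .nil .nil) .nil))) (.node 1 (.node 0 (.node 0 (.node (-1) .nil .nil) (.node 0 .nil .nil)) (.node (-1) (.node 0 .nil .nil) (.node 0 .nil .nil))) (.node 1 (.node 0 (.node 1 .nil .nil) (.node (-1) .nil .nil)) (.node 2 (.node 1 .nil .nil) .nil))))))) .nil .nil) (.node (.node 0 (.node (-1) (.node 0 (.node 0 (.node 0 (.node 1 (.node (-1) (.node (-1) .nil .nil) (.node 0 .nil .nil)) (.node 1 (.node 0 .nil .nil) (.node 0 .nil .nil))) (.node 1 (.node 1 (.node 0 .nil .nil) (.node 0 .nil .nil)) (.node (-1) (.node (-1) .nil .nil) (.node 0 .nil .nil)))) (.node (-1) (.node 0 (.node 0 (.node 0 .nil .nil) (.node 1 .nil .nil)) (.node 0 (.node 1 .nil .nil) (.node 0 .nil .nil))) (.node 0 (.node 0 (.node 0 .nil .nil) (.node (-1) .nil .nil)) (.node 1 (.node 1 .nil .nil) .nil)))) (.node (-1) (.node 1 (.node 1 (.node (-1) (.node 0 .nil .nil) (.node 1 .nil .nil)) (.node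 0 (.node 0 .nil .nil) (.node (-1) .nil .nil))) (.node 1 (.node 1 (.node 0 .nil .nil) (.node (-1) .nil .nil)) (.node (-1) (.node 1 .nil .nil) .nil))) (.node (-1) (.node 0 (.node 0 (.node 1 .nil .nil) (.node 0 .nil .nil)) (.node 1 (.node (-1) .nil .nil) (.node 0 .nil .nil))) (.node 0 (.node 0 (.node 0 .nil .nil) (.node 0 .nil .nil)) (.node (-1) (.node 0 .nil .nil) .nil))))) (.node 0 (.node 0 (.node 0 (.node 0 (.node 0 (.node 0 .nil .nil) (.node 1 .nil .nil)) (.node 0 (.node 1 .nil .nil) (.node 0 .nil .nil))) (.node 0 (.node 0 (.node 1 .nil .nil) (.node 1 .nil .nil)) (.node 0 (.node 0 .nil .nil) .nil))) (.node 0 (.node 1 (.node 1 (.node 0 .nil .nil) (.node (-1) .nil .nil)) (.node 0 (.node 0 .nil .nil) (.node 0 .nil .nil))) (.node 1 (.node (-1) (.node (-1) .nil .nil) (.node 0 .nil .nil)) (.node 2 (.node (-1) .nil .nil) .nil)))) (.node 0 (.node 0 (.node (-1) (.node 0 (.node 1 .nil .nil) (.node 0 .nil .nil)) (.node 1 (.node 0 .nil .nil) (.node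 0 .nil .nil))) (.node (-1) (.node (-1) (.node (-1) .nil .nil) (.node 0 .nil .nil)) (.node (-1) (.node 0 .nil .nil) .nil))) (.node 0 (.node 1 (.node 0 (.node 0 .nil .nil) (.node 1 .nil .nil)) (.node 0 (.node 0 .nil .nil) (.node (-1) .nil .nil))) (.node 1 (.node 0 (.node 1 .nil .nil) (.node 1 .nil .nil)) (.node 0 (.node 1 .nil .nil) .nil)))))) (.node 1 (.node 0 (.node 0 (.node 0 (.node 0 (.node 1 (.node 1 .nil .nil) (.node (-1) .nil .nil)) (.node 0 (.node (-1) .nil .nil) (.node 0 .nil .nil))) (.node 0 (.node 0 (.node (-1) .nil .nil) (.node (-1) .nil .nil)) (.node 1 (.node 1 .nil .nil) .nil))) (.node 1 (.node (-1) (.node (-1) (.node 0 .nil .nil) (.node 0 .nil .nil)) (.node 0 (.node 0 .nil .nil) (.node 0 .nil .nil))) (.node (-1) (.node 0 (.node 0 .nil .nil) (.node 1 .nil .nil)) (.node (-1) (.node 0 .nil .nil) .nil)))) (.node 1 (.node 0 (.node 0 (.node 1 (.node (-1) .nil .nil) (.node 0 .nil .nil)) (.node (-1) (.node 0 .nil .nil) (.node 1 .nil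 .nil))) (.node 0 (.node 0 (.node 0 .nil .nil) (.node 1 .nil .nil)) (.node 1 (.node 0 .nil .nil) .nil))) (.node 1 (.node (-1) (.node 0 (.node 0 .nil .nil) (.node (-1) .nil .nil)) (.node 0 (.node 1 .nil .nil) (.node 0 .nil .nil))) (.node (-1) (.node 0 (.node (-1) .nil .nil) (.node (-1) .nil .nil)) (.node 1 (.node (-1) .nil .nil) .nil))))) (.node 0 (.node 0 (.node (-1) (.node (-1) (.node 0 (.node 0 .nil .nil) (.node (-1) .nil .nil)) (.node 0 (.node 0 .nil .nil) (.node 0 .nil .nil))) (.node (-1) (.node (-1) (.node 0 .nil .nil) (.node 0 .nil .nil)) (.node 0 (.node (-1) .nil .nil) .nil))) (.node 0 (.node 0 (.node 0 (.node (-1) .nil .nil) (.node 1 .nil .nil)) (.node (-1) (.node 0 .nil .nil) (.node 0 .nil .nil))) (.node 0 (.node 1 (.node 1 .nil .nil) (.node 0 .nil .nil)) (.node 1 (.node 1 .nil .nil) .nil)))) (.node 0 (.node 0 (.node 1 (.node 0 (.node 0 .nil .nil) (.node (-1) .nil .nil)) (.node 0 (.node (-1) .nil .nil) (.node 0 .nil .nil))) (.node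 1 (.node 1 (.node 1 .nil .nil) (.node 0 .nil .nil)) (.node (-2) (.node (-1) .nil .nil) .nil))) (.node (-1) (.node (-1) (.node (-1) (.node 0 .nil .nil) (.node 0 .nil .nil)) (.node 0 (.node 0 .nil .nil) (.node 1 .nil .nil))) (.node 0 (.node (-1) (.node 0 .nil .nil) (.node 0 .nil .nil)) (.node 0 (.node 0 .nil .nil) .nil))))))) .nil .nil)))
  cor := (.node (.node (-2) (.node (-3) (.node (-6) (.node (-2) .nil .nil) .nil) (.node (-4) .nil .nil)) (.node (-4) (.node (-5) .nil .nil) (.node (-3) .nil .nil))) (.node (.node (-2) (.node (-3) (.node (-6) (.node (-1) .nil .nil) .nil) (.node (-4) .nil .nil)) (.node (-4) (.node (-5) .nil .nil) (.node (-3) .nil .nil))) (.node (.node (-2) (.node (-3) (.node (-6) (.node (-1) .nil .nil) .nil) (.node (-3) .nil .nil)) (.node (-4) (.node (-5) .nil .nil) (.node (-2) .nil .nil))) (.node (.node (-2) (.node (-2) (.node (-5) (.node (-1) .nil .nil) .nil) (.node (-3) .nil .nil)) (.node (-4) (.node (-4) .nil .nil) (.node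 (-2) .nil .nil))) (.node (.node (-1) (.node (-2) (.node (-5) (.node (-1) .nil .nil) .nil) (.node (-3) .nil .nil)) (.node (-3) (.node (-4) .nil .nil) (.node (-2) .nil .nil))) (.node (.node (-1) (.node (-2) (.node (-3) (.node (-1) .nil .nil) .nil) (.node (-2) .nil .nil)) (.node (-2) (.node (-2) .nil .nil) (.node (-1) .nil .nil))) (.node (.node (-1) (.node (-1) (.node (-2) (.node 0 .nil .nil) .nil) (.node (-1) .nil .nil)) (.node (-1) (.node (-1) .nil .nil) (.node (-1) .nil .nil))) (.node (.node 0 (.node 0 (.node 0 (.node 0 .nil .nil) .nil) (.node 1 .nil .nil)) (.node 0 (.node 1 .nil .nil) (.node 0 .nil .nil))) .nil .nil) (.node (.node 1 (.node 1 (.node 2 (.node 0 .nil .nil) .nil) (.node 2 .nil .nil)) (.node 2 (.node 2 .nil .nil) (.node 1 .nil .nil))) .nil .nil)) (.node (.node 0 (.node (-1) (.node (-1) (.node 0 .nil .nil) .nil) (.node (-1) .nil .nil)) (.node 0 (.node (-1) .nil .nil) (.node 0 .nil .nil))) (.node (.node 0 (.node 1 (.node 2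 (.node 0 .nil .nil) .nil) (.node 2 .nil .nil)) (.node 1 (.node 2 .nil .nil) (.node 1 .nil .nil))) .nil .nil) (.node (.node 1 (.node 2 (.node 4 (.node 1 .nil .nil) .nil) (.node 3 .nil .nil)) (.node 3 (.node 4 .nil .nil) (.node 2 .nil .nil))) .nil .nil))) (.node (.node (-1) (.node (-1) (.node (-2) (.node (-1) .nil .nil) .nil) (.node (-2) .nil .nil)) (.node (-2) (.node (-2) .nil .nil) (.node (-1) .nil .nil))) (.node (.node 0 (.node (-1) (.node (-2) (.node (-1) .nil .nil) .nil) (.node (-2) .nil .nil)) (.node (-1) (.node (-2) .nil .nil) (.node (-1) .nil .nil))) (.node (.node 0 (.node 1 (.node 1 (.node 0 .nil .nil) .nil) (.node 0 .nil .nil)) (.node 0 (.node 1 .nil .nil) (.node 0 .nil .nil))) .nil .nil) (.node (.node 1 (.node 2 (.node 3 (.node 0 .nil .nil) .nil) (.node 2 .nil .nil)) (.node 2 (.node 2 .nil .nil) (.node 1 .nil .nil))) .nil .nil)) (.node (.node 0 (.node 0 (.node 0 (.node 0 .nil .nil) .nil) (.node (-1) .nil .nil)) (.node 0 (.node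 (-1) .nil .nil) (.node (-1) .nil .nil))) (.node (.node 1 (.node 1 (.node 2 (.node 0 .nil .nil) .nil) (.node 1 .nil .nil)) (.node 1 (.node 1 .nil .nil) (.node 0 .nil .nil))) .nil .nil) (.node (.node 2 (.node 3 (.node 6 (.node 2 .nil .nil) .nil) (.node 4 .nil .nil)) (.node 4 (.node 5 .nil .nil) (.node 3 .nil .nil))) .nil .nil)))) (.node (.node (-1) (.node (-2) (.node (-4) (.node (-1) .nil .nil) .nil) (.node (-2) .nil .nil)) (.node (-2) (.node (-3) .nil .nil) (.node (-2) .nil .nil))) (.node (.node (-1) (.node (-1) (.node (-3) (.node 0 .nil .nil) .nil) (.node (-2) .nil .nil)) (.node (-2) (.node (-3) .nil .nil) (.node (-1) .nil .nil))) (.node (.node (-1) (.node 0 (.node (-1) (.node (-1) .nil .nil) .nil) (.node (-1) .nil .nil)) (.node (-1) (.node (-1) .nil .nil) (.node (-1) .nil .nil))) (.node (.node 0 (.node 0 (.node 0 (.node 0 .nil .nil) .nil) (.node 0 .nil .nil)) (.node 1 (.node 0 .nil .nil) (.node 0 .nil .nil))) .nil .nil) (.node (.node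 1 (.node 1 (.node 3 (.node 1 .nil .nil) .nil) (.node 2 .nil .nil)) (.node 2 (.node 2 .nil .nil) (.node 2 .nil .nil))) .nil .nil)) (.node (.node 0 (.node 0 (.node (-1) (.node 0 .nil .nil) .nil) (.node 0 .nil .nil)) (.node (-1) (.node 0 .nil .nil) (.node 0 .nil .nil))) (.node (.node 1 (.node 0 (.node 1 (.node 0 .nil .nil) .nil) (.node 1 .nil .nil)) (.node 1 (.node 1 .nil .nil) (.node 1 .nil .nil))) .nil .nil) (.node (.node 2 (.node 2 (.node 5 (.node 1 .nil .nil) .nil) (.node 3 .nil .nil)) (.node 3 (.node 4 .nil .nil) (.node 2 .nil .nil))) .nil .nil))) (.node (.node (-1) (.node (-1) (.node (-2) (.node 0 .nil .nil) .nil) (.node 0 .nil .nil)) (.node (-2) (.node (-1) .nil .nil) (.node 0 .nil .nil))) (.node (.node 0 (.node (-1) (.node (-2) (.node 0 .nil .nil) .nil) (.node 0 .nil .nil)) (.node (-1) (.node (-1) .nil .nil) (.node 0 .nil .nil))) (.node (.node 0 (.node 1 (.node 1 (.node 1 .nil .nil) .nil) (.node 1 .nil .nil)) (.node 1 (.node 1 .nil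 .nil) (.node 1 .nil .nil))) .nil .nil) (.node (.node 1 (.node 2 (.node 4 (.node 1 .nil .nil) .nil) (.node 2 .nil .nil)) (.node 2 (.node 3 .nil .nil) (.node 1 .nil .nil))) .nil .nil)) (.node (.node 0 (.node 0 (.node 0 (.node (-1) .nil .nil) .nil) (.node 0 .nil .nil)) (.node 0 (.node 0 .nil .nil) (.node 0 .nil .nil))) (.node (.node 1 (.node 1 (.node 2 (.node 1 .nil .nil) .nil) (.node 2 .nil .nil)) (.node 1 (.node 2 .nil .nil) (.node 2 .nil .nil))) .nil .nil) .nil)))) (.node (.node (-2) (.node (-2) (.node (-4) (.node (-1) .nil .nil) .nil) (.node (-2) .nil .nil)) (.node (-3) (.node (-3) .nil .nil) (.node (-2) .nil .nil))) (.node (.node (-1) (.node (-2) (.node (-4) (.node (-1) .nil .nil) .nil) (.node (-2) .nil .nil)) (.node (-3) (.node (-3) .nil .nil) (.node (-1) .nil .nil))) (.node (.node (-1) (.node (-2) (.node (-3) (.node 0 .nil .nil) .nil) (.node (-1) .nil .nil)) (.node (-2) (.node (-2) .nil .nil) (.node 0 .nil .nil))) (.node (.node (-1)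 (.node (-1) (.node (-1) (.node 0 .nil .nil) .nil) (.node (-1) .nil .nil)) (.node (-1) (.node (-1) .nil .nil) (.node (-1) .nil .nil))) (.node (.node 0 (.node 0 (.node 1 (.node 0 .nil .nil) .nil) (.node 0 .nil .nil)) (.node 0 (.node 1 .nil .nil) (.node 0 .nil .nil))) .nil .nil) (.node (.node 1 (.node 1 (.node 3 (.node 0 .nil .nil) .nil) (.node 1 .nil .nil)) (.node 2 (.node 2 .nil .nil) (.node 1 .nil .nil))) .nil .nil)) (.node (.node 0 (.node 0 (.node (-1) (.node (-1) .nil .nil) .nil) (.node (-1) .nil .nil)) (.node (-1) (.node (-1) .nil .nil) (.node (-1) .nil .nil))) (.node (.node 1 (.node 0 (.node 0 (.node 0 .nil .nil) .nil) (.node 0 .nil .nil)) (.node 1 (.node 0 .nil .nil) (.node 0 .nil .nil))) .nil .nil) (.node (.node 2 (.node 2 (.node 4 (.node 1 .nil .nil) .nil) (.node 2 .nil .nil)) (.node 3 (.node 3 .nil .nil) (.node 1 .nil .nil))) .nil .nil))) (.node (.node (-1) (.node (-1) (.node (-2) (.node 0 .nil .nil) .nil) (.node (-1) .nil .nil))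 (.node (-2) (.node (-2) .nil .nil) (.node 0 .nil .nil))) (.node (.node 0 (.node (-1) (.node (-2) (.node 0 .nil .nil) .nil) (.node (-1) .nil .nil)) (.node (-1) (.node (-2) .nil .nil) (.node 0 .nil .nil))) (.node (.node 0 (.node 1 (.node 1 (.node 0 .nil .nil) .nil) (.node 0 .nil .nil)) (.node 1 (.node 0 .nil .nil) (.node 0 .nil .nil))) .nil .nil) (.node (.node 1 (.node 2 (.node 3 (.node 1 .nil .nil) .nil) (.node 2 .nil .nil)) (.node 2 (.node 3 .nil .nil) (.node 1 .nil .nil))) .nil .nil)) (.node (.node 0 (.node 0 (.node 0 (.node 0 .nil .nil) .nil) (.node (-1) .nil .nil)) (.node 0 (.node 0 .nil .nil) (.node (-1) .nil .nil))) (.node (.node 1 (.node 1 (.node 2 (.node 0 .nil .nil) .nil) (.node 1 .nil .nil)) (.node 1 (.node 2 .nil .nil) (.node 1 .nil .nil))) .nil .nil) .nil))) (.node (.node (-1) (.node (-2) (.node (-3) (.node (-1) .nil .nil) .nil) (.node (-2) .nil .nil)) (.node (-2) (.node (-3) .nil .nil) (.node (-2) .nil .nil))) (.node (.node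 (-1) (.node (-1) (.node (-3) (.node (-1) .nil .nil) .nil) (.node (-1) .nil .nil)) (.node (-2) (.node (-2) .nil .nil) (.node (-1) .nil .nil))) (.node (.node (-1) (.node 0 (.node (-1) (.node 0 .nil .nil) .nil) (.node 0 .nil .nil)) (.node (-1) (.node 0 .nil .nil) (.node 0 .nil .nil))) (.node (.node 0 (.node 0 (.node 1 (.node 0 .nil .nil) .nil) (.node 1 .nil .nil)) (.node 1 (.node 1 .nil .nil) (.node 1 .nil .nil))) .nil .nil) (.node (.node 1 (.node 1 (.node 3 (.node 1 .nil .nil) .nil) (.node 3 .nil .nil)) (.node 2 (.node 3 .nil .nil) (.node 2 .nil .nil))) .nil .nil)) (.node (.node 0 (.node 0 (.node (-1) (.node 0 .nil .nil) .nil) (.node (-1) .nil .nil)) (.node 0 (.node (-1) .nil .nil) (.node 0 .nil .nil))) (.node (.node 1 (.node 1 (.node 1 (.node 0 .nil .nil) .nil) (.node 1 .nil .nil)) (.node 1 (.node 1 .nil .nil) (.node 0 .nil .nil))) .nil .nil) (.node (.node 2 (.node 3 (.node 6 (.node 1 .nil .nil) .nil) (.node 3 .nil .nil)) (.node 4 (.node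 4 .nil .nil) (.node 2 .nil .nil))) .nil .nil))) (.node (.node (-1) (.node (-1) (.node (-2) (.node (-1) .nil .nil) .nil) (.node (-1) .nil .nil)) (.node (-1) (.node (-2) .nil .nil) (.node (-1) .nil .nil))) (.node (.node 0 (.node (-1) (.node (-1) (.node 0 .nil .nil) .nil) (.node 0 .nil .nil)) (.node (-1) (.node (-1) .nil .nil) (.node 0 .nil .nil))) (.node (.node 0 (.node 1 (.node 2 (.node 1 .nil .nil) .nil) (.node 1 .nil .nil)) (.node 1 (.node 1 .nil .nil) (.node 1 .nil .nil))) .nil .nil) (.node (.node 1 (.node 2 (.node 4 (.node 0 .nil .nil) .nil) (.node 2 .nil .nil)) (.node 3 (.node 3 .nil .nil) (.node 1 .nil .nil))) .nil .nil)) (.node (.node 0 (.node 0 (.node 0 (.node 0 .nil .nil) .nil) (.node 1 .nil .nil)) (.node 0 (.node 0 .nil .nil) (.node 0 .nil .nil))) (.node (.node 1 (.node 1 (.node 2 (.node 1 .nil .nil) .nil) (.node 1 .nil .nil)) (.node 2 (.node 1 .nil .nil) (.node 1 .nil .nil))) .nil .nil) .nil))))) (.node (.node (-2) (.node (-3)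 (.node (-5) (.node (-1) .nil .nil) .nil) (.node (-3) .nil .nil)) (.node (-4) (.node (-4) .nil .nil) (.node (-2) .nil .nil))) (.node (.node (-2) (.node (-2) (.node (-4) (.node (-1) .nil .nil) .nil) (.node (-3) .nil .nil)) (.node (-3) (.node (-4) .nil .nil) (.node (-2) .nil .nil))) (.node (.node (-1) (.node (-2) (.node (-4) (.node (-1) .nil .nil) .nil) (.node (-3) .nil .nil)) (.node (-3) (.node (-3) .nil .nil) (.node (-2) .nil .nil))) (.node (.node (-1) (.node (-2) (.node (-3) (.node (-1) .nil .nil) .nil) (.node (-1) .nil .nil)) (.node (-2) (.node (-2) .nil .nil) (.node (-1) .nil .nil))) (.node (.node (-1) (.node (-1) (.node (-2) (.node 0 .nil .nil) .nil) (.node 0 .nil .nil)) (.node (-1) (.node (-1) .nil .nil) (.node 0 .nil .nil))) (.node (.node 0 (.node 0 (.node 0 (.node 1 .nil .nil) .nil) (.node 1 .nil .nil)) (.node 0 (.node 1 .nil .nil) (.node 1 .nil .nil))) .nil .nil) (.node (.node 1 (.node 1 (.node 2 (.node 1 .nil .nil) .nil) (.node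 2 .nil .nil)) (.node 2 (.node 2 .nil .nil) (.node 2 .nil .nil))) .nil .nil)) (.node (.node 0 (.node (-1) (.node (-1) (.node 0 .nil .nil) .nil) (.node 0 .nil .nil)) (.node 0 (.node 0 .nil .nil) (.node 0 .nil .nil))) (.node (.node 0 (.node 1 (.node 2 (.node 1 .nil .nil) .nil) (.node 2 .nil .nil)) (.node 1 (.node 2 .nil .nil) (.node 2 .nil .nil))) .nil .nil) (.node (.node 1 (.node 3 (.node 5 (.node 1 .nil .nil) .nil) (.node 3 .nil .nil)) (.node 3 (.node 4 .nil .nil) (.node 2 .nil .nil))) .nil .nil))) (.node (.node (-1) (.node (-1) (.node (-2) (.node (-1) .nil .nil) .nil) (.node (-1) .nil .nil)) (.node (-2) (.node (-2) .nil .nil) (.node (-1) .nil .nil))) (.node (.node 0 (.node (-1) (.node (-2) (.node (-1) .nil .nil) .nil) (.node (-1) .nil .nil)) (.node (-1) (.node (-2) .nil .nil) (.node (-1) .nil .nil))) (.node (.node 0 (.node 1 (.node 1 (.node 0 .nil .nil) .nil) (.node 1 .nil .nil)) (.node 0 (.node 1 .nil .nil) (.node 1 .nil .nil))) .nil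 .nil) (.node (.node 1 (.node 2 (.node 3 (.node 1 .nil .nil) .nil) (.node 2 .nil .nil)) (.node 2 (.node 2 .nil .nil) (.node 2 .nil .nil))) .nil .nil)) (.node (.node 0 (.node 0 (.node 0 (.node 0 .nil .nil) .nil) (.node 0 .nil .nil)) (.node 0 (.node (-1) .nil .nil) (.node 0 .nil .nil))) (.node (.node 1 (.node 1 (.node 2 (.node 1 .nil .nil) .nil) (.node 1 .nil .nil)) (.node 1 (.node 1 .nil .nil) (.node 1 .nil .nil))) .nil .nil) .nil))) (.node (.node (-1) (.node (-2) (.node (-4) (.node 0 .nil .nil) .nil) (.node (-2) .nil .nil)) (.node (-2) (.node (-3) .nil .nil) (.node (-1) .nil .nil))) (.node (.node (-1) (.node (-1) (.node (-3) (.node (-1) .nil .nil) .nil) (.node (-2) .nil .nil)) (.node (-2) (.node (-2) .nil .nil) (.node (-1) .nil .nil))) (.node (.node (-1) (.node 0 (.node (-1) (.node 0 .nil .nil) .nil) (.node (-1) .nil .nil)) (.node (-1) (.node (-1) .nil .nil) (.node 0 .nil .nil))) (.node (.node 0 (.node 0 (.node 1 (.node 0 .nil .nil) .nil)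 (.node 0 .nil .nil)) (.node 1 (.node 1 .nil .nil) (.node 0 .nil .nil))) .nil .nil) (.node (.node 1 (.node 1 (.node 3 (.node 1 .nil .nil) .nil) (.node 2 .nil .nil)) (.node 2 (.node 3 .nil .nil) (.node 1 .nil .nil))) .nil .nil)) (.node (.node 0 (.node 0 (.node (-1) (.node (-1) .nil .nil) .nil) (.node (-1) .nil .nil)) (.node 0 (.node (-1) .nil .nil) (.node (-1) .nil .nil))) (.node (.node 1 (.node 1 (.node 1 (.node 0 .nil .nil) .nil) (.node 0 .nil .nil)) (.node 1 (.node 0 .nil .nil) (.node 0 .nil .nil))) .nil .nil) (.node (.node 2 (.node 3 (.node 5 (.node 1 .nil .nil) .nil) (.node 3 .nil .nil)) (.node 3 (.node 4 .nil .nil) (.node 2 .nil .nil))) .nil .nil))) (.node (.node (-1) (.node (-1) (.node (-2) (.node (-1) .nil .nil) .nil) (.node (-2) .nil .nil)) (.node (-1) (.node (-2) .nil .nil) (.node (-1) .nil .nil))) (.node (.node 0 (.node (-1) (.node (-1) (.node 0 .nil .nil) .nil) (.node (-1) .nil .nil)) (.node (-1) (.node (-1) .nil .nil) (.node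 (-1) .nil .nil))) (.node (.node 0 (.node 1 (.node 2 (.node 0 .nil .nil) .nil) (.node 1 .nil .nil)) (.node 1 (.node 1 .nil .nil) (.node 0 .nil .nil))) .nil .nil) (.node (.node 1 (.node 2 (.node 4 (.node 1 .nil .nil) .nil) (.node 3 .nil .nil)) (.node 2 (.node 3 .nil .nil) (.node 2 .nil .nil))) .nil .nil)) (.node (.node 0 (.node 0 (.node 0 (.node 0 .nil .nil) .nil) (.node 0 .nil .nil)) (.node 0 (.node 0 .nil .nil) (.node 1 .nil .nil))) (.node (.node 1 (.node 1 (.node 2 (.node 0 .nil .nil) .nil) (.node 1 .nil .nil)) (.node 2 (.node 1 .nil .nil) (.node 0 .nil .nil))) .nil .nil) .nil)))) (.node (.node (-2) (.node (-2) (.node (-4) (.node 0 .nil .nil) .nil) (.node (-2) .nil .nil)) (.node (-3) (.node (-3) .nil .nil) (.node (-1) .nil .nil))) (.node (.node (-1) (.node (-2) (.node (-4) (.node (-1) .nil .nil) .nil) (.node (-3) .nil .nil)) (.node (-2) (.node (-4) .nil .nil) (.node (-2) .nil .nil))) (.node (.node (-1) (.node (-1) (.node (-3) (.node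 (-1) .nil .nil) .nil) (.node (-2) .nil .nil)) (.node (-2) (.node (-3) .nil .nil) (.node (-2) .nil .nil))) (.node (.node (-1) (.node (-1) (.node (-1) (.node 0 .nil .nil) .nil) (.node 0 .nil .nil)) (.node (-1) (.node (-1) .nil .nil) (.node 0 .nil .nil))) (.node (.node 0 (.node 0 (.node 1 (.node 0 .nil .nil) .nil) (.node 1 .nil .nil)) (.node 0 (.node 1 .nil .nil) (.node 1 .nil .nil))) .nil .nil) (.node (.node 1 (.node 1 (.node 3 (.node 0 .nil .nil) .nil) (.node 2 .nil .nil)) (.node 2 (.node 2 .nil .nil) (.node 1 .nil .nil))) .nil .nil)) (.node (.node 0 (.node 0 (.node (-1) (.node 0 .nil .nil) .nil) (.node (-1) .nil .nil)) (.node (-1) (.node (-1) .nil .nil) (.node 0 .nil .nil))) (.node (.node 1 (.node 0 (.node 1 (.node 0 .nil .nil) .nil) (.node 0 .nil .nil)) (.node 1 (.node 1 .nil .nil) (.node 0 .nil .nil))) .nil .nil) (.node (.node 2 (.node 2 (.node 4 (.node 1 .nil .nil) .nil) (.node 3 .nil .nil)) (.node 3 (.node 3 .nil .nil) (.node 2 .nil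 .nil))) .nil .nil))) (.node (.node (-1) (.node (-1) (.node (-2) (.node 0 .nil .nil) .nil) (.node (-1) .nil .nil)) (.node (-2) (.node (-1) .nil .nil) (.node (-1) .nil .nil))) (.node (.node 0 (.node (-1) (.node (-2) (.node 0 .nil .nil) .nil) (.node (-1) .nil .nil)) (.node (-1) (.node (-1) .nil .nil) (.node (-1) .nil .nil))) (.node (.node 0 (.node 1 (.node 1 (.node 0 .nil .nil) .nil) (.node 1 .nil .nil)) (.node 1 (.node 1 .nil .nil) (.node 0 .nil .nil))) .nil .nil) (.node (.node 1 (.node 2 (.node 3 (.node 1 .nil .nil) .nil) (.node 3 .nil .nil)) (.node 2 (.node 3 .nil .nil) (.node 2 .nil .nil))) .nil .nil)) (.node (.node 0 (.node 0 (.node 0 (.node (-1) .nil .nil) .nil) (.node 0 .nil .nil)) (.node 0 (.node 0 .nil .nil) (.node (-1) .nil .nil))) (.node (.node 1 (.node 1 (.node 2 (.node 0 .nil .nil) .nil) (.node 2 .nil .nil)) (.node 1 (.node 2 .nil .nil) (.node 1 .nil .nil))) .nil .nil) .nil))) (.node (.node (-1) (.node (-2) (.node (-3) (.node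 0 .nil .nil) .nil) (.node (-2) .nil .nil)) (.node (-2) (.node (-3) .nil .nil) (.node (-1) .nil .nil))) (.node (.node (-1) (.node (-1) (.node (-3) (.node 0 .nil .nil) .nil) (.node (-1) .nil .nil)) (.node (-2) (.node (-2) .nil .nil) (.node 0 .nil .nil))) (.node (.node (-1) (.node 0 (.node 0 (.node 0 .nil .nil) .nil) (.node 0 .nil .nil)) (.node 0 (.node 0 .nil .nil) (.node 0 .nil .nil))) (.node (.node 0 (.node 1 (.node 0 (.node 0 .nil .nil) .nil) (.node 0 .nil .nil)) (.node 0 (.node 0 .nil .nil) (.node 0 .nil .nil))) .nil .nil) (.node (.node 1 (.node 2 (.node 3 (.node 0 .nil .nil) .nil) (.node 1 .nil .nil)) (.node 2 (.node 2 .nil .nil) (.node 1 .nil .nil))) .nil .nil)) (.node (.node 0 (.node 0 (.node (-1) (.node 0 .nil .nil) .nil) (.node 0 .nil .nil)) (.node 0 (.node 0 .nil .nil) (.node 0 .nil .nil))) (.node (.node 1 (.node 1 (.node 1 (.node 1 .nil .nil) .nil) (.node 1 .nil .nil)) (.node 1 (.node 1 .nil .nil) (.node 1 .nil .nil))) .nil .nil)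 (.node (.node 2 (.node 3 (.node 6 (.node 1 .nil .nil) .nil) (.node 4 .nil .nil)) (.node 4 (.node 5 .nil .nil) (.node 2 .nil .nil))) .nil .nil))) (.node (.node (-1) (.node (-1) (.node (-2) (.node 0 .nil .nil) .nil) (.node (-1) .nil .nil)) (.node (-1) (.node (-2) .nil .nil) (.node 0 .nil .nil))) (.node (.node 0 (.node (-1) (.node (-1) (.node (-1) .nil .nil) .nil) (.node (-1) .nil .nil)) (.node 0 (.node (-1) .nil .nil) (.node (-1) .nil .nil))) (.node (.node 0 (.node 1 (.node 2 (.node 0 .nil .nil) .nil) (.node 1 .nil .nil)) (.node 1 (.node 2 .nil .nil) (.node 1 .nil .nil))) .nil .nil) (.node (.node 1 (.node 2 (.node 4 (.node 1 .nil .nil) .nil) (.node 2 .nil .nil)) (.node 3 (.node 3 .nil .nil) (.node 2 .nil .nil))) .nil .nil)) (.node (.node 0 (.node 0 (.node 0 (.node 1 .nil .nil) .nil) (.node 1 .nil .nil)) (.node 0 (.node 0 .nil .nil) (.node 1 .nil .nil))) (.node (.node 1 (.node 1 (.node 2 (.node 0 .nil .nil) .nil) (.node 1 .nil .nil)) (.node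 2 (.node 2 .nil .nil) (.node 1 .nil .nil))) .nil .nil) .nil)))))) (.node (.node (-2) (.node (-3) (.node (-6) (.node (-1) .nil .nil) .nil) (.node (-4) .nil .nil)) (.node (-4) (.node (-5) .nil .nil) (.node (-2) .nil .nil))) (.node (.node (-2) (.node (-3) (.node (-6) (.node (-1) .nil .nil) .nil) (.node (-3) .nil .nil)) (.node (-4) (.node (-4) .nil .nil) (.node (-2) .nil .nil))) (.node (.node (-2) (.node (-2) (.node (-5) (.node (-1) .nil .nil) .nil) (.node (-3) .nil .nil)) (.node (-3) (.node (-4) .nil .nil) (.node (-2) .nil .nil))) (.node (.node (-1) (.node (-2) (.node (-4) (.node (-1) .nil .nil) .nil) (.node (-3) .nil .nil)) (.node (-3) (.node (-4) .nil .nil) (.node (-2) .nil .nil))) (.node (.node (-1) (.node (-2) (.node (-3) (.node 0 .nil .nil) .nil) (.node (-2) .nil .nil)) (.node (-2) (.node (-2) .nil .nil) (.node (-1) .nil .nil))) (.node (.node (-1) (.node (-1) (.node (-2) (.node 0 .nil .nil) .nil) (.node (-1) .nil .nil)) (.node (-1)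 (.node (-1) .nil .nil) (.node 0 .nil .nil))) (.node (.node 0 (.node 0 (.node 0 (.node 0 .nil .nil) .nil) (.node 1 .nil .nil)) (.node 0 (.node 1 .nil .nil) (.node 1 .nil .nil))) .nil .nil) (.node (.node 1 (.node 1 (.node 2 (.node 1 .nil .nil) .nil) (.node 2 .nil .nil)) (.node 2 (.node 2 .nil .nil) (.node 1 .nil .nil))) .nil .nil)) (.node (.node 0 (.node (-1) (.node (-1) (.node 0 .nil .nil) .nil) (.node 0 .nil .nil)) (.node 0 (.node (-1) .nil .nil) (.node 0 .nil .nil))) (.node (.node 0 (.node 1 (.node 2 (.node 1 .nil .nil) .nil) (.node 2 .nil .nil)) (.node 1 (.node 2 .nil .nil) (.node 1 .nil .nil))) .nil .nil) (.node (.node 1 (.node 2 (.node 5 (.node 1 .nil .nil) .nil) (.node 3 .nil .nil)) (.node 3 (.node 4 .nil .nil) (.node 2 .nil .nil))) .nil .nil))) (.node (.node (-1) (.node (-1) (.node (-2) (.node 0 .nil .nil) .nil) (.node (-2) .nil .nil)) (.node (-2) (.node (-2) .nil .nil) (.node (-1) .nil .nil))) (.node (.node 0 (.node (-1) (.node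 (-2) (.node 0 .nil .nil) .nil) (.node (-2) .nil .nil)) (.node (-1) (.node (-2) .nil .nil) (.node (-1) .nil .nil))) (.node (.node 0 (.node 1 (.node 1 (.node 0 .nil .nil) .nil) (.node 1 .nil .nil)) (.node 0 (.node 1 .nil .nil) (.node 0 .nil .nil))) .nil .nil) (.node (.node 1 (.node 2 (.node 3 (.node 1 .nil .nil) .nil) (.node 2 .nil .nil)) (.node 2 (.node 2 .nil .nil) (.node 1 .nil .nil))) .nil .nil)) (.node (.node 0 (.node 0 (.node 0 (.node 0 .nil .nil) .nil) (.node (-1) .nil .nil)) (.node 0 (.node (-1) .nil .nil) (.node 0 .nil .nil))) (.node (.node 1 (.node 1 (.node 2 (.node 0 .nil .nil) .nil) (.node 1 .nil .nil)) (.node 1 (.node 1 .nil .nil) (.node 1 .nil .nil))) .nil .nil) .nil))) (.node (.node (-1) (.node (-2) (.node (-4) (.node (-1) .nil .nil) .nil) (.node (-2) .nil .nil)) (.node (-2) (.node (-3) .nil .nil) (.node (-1) .nil .nil))) (.node (.node (-1) (.node (-1) (.node (-3) (.node (-1) .nil .nil) .nil) (.node (-2) .nil .nil)) (.node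 (-2) (.node (-2) .nil .nil) (.node (-2) .nil .nil))) (.node (.node (-1) (.node 0 (.node (-1) (.node 0 .nil .nil) .nil) (.node (-1) .nil .nil)) (.node (-1) (.node (-1) .nil .nil) (.node (-1) .nil .nil))) (.node (.node 0 (.node 0 (.node 1 (.node 0 .nil .nil) .nil) (.node 0 .nil .nil)) (.node 1 (.node 0 .nil .nil) (.node 0 .nil .nil))) .nil .nil) (.node (.node 1 (.node 1 (.node 3 (.node 0 .nil .nil) .nil) (.node 2 .nil .nil)) (.node 2 (.node 3 .nil .nil) (.node 1 .nil .nil))) .nil .nil)) (.node (.node 0 (.node 0 (.node 0 (.node 0 .nil .nil) .nil) (.node 0 .nil .nil)) (.node (-1) (.node 0 .nil .nil) (.node 0 .nil .nil))) (.node (.node 1 (.node 0 (.node 1 (.node 1 .nil .nil) .nil) (.node 1 .nil .nil)) (.node 1 (.node 1 .nil .nil) (.node 1 .nil .nil))) .nil .nil) (.node (.node 2 (.node 2 (.node 5 (.node 1 .nil .nil) .nil) (.node 3 .nil .nil)) (.node 4 (.node 4 .nil .nil) (.node 2 .nil .nil))) .nil .nil))) (.node (.node (-1) (.node (-1) (.node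 (-2) (.node (-1) .nil .nil) .nil) (.node (-2) .nil .nil)) (.node (-1) (.node (-2) .nil .nil) (.node (-2) .nil .nil))) (.node (.node 0 (.node (-1) (.node (-1) (.node (-1) .nil .nil) .nil) (.node (-1) .nil .nil)) (.node (-1) (.node (-1) .nil .nil) (.node (-1) .nil .nil))) (.node (.node 0 (.node 1 (.node 2 (.node 0 .nil .nil) .nil) (.node 0 .nil .nil)) (.node 1 (.node 1 .nil .nil) (.node 0 .nil .nil))) .nil .nil) (.node (.node 1 (.node 2 (.node 4 (.node 1 .nil .nil) .nil) (.node 2 .nil .nil)) (.node 2 (.node 3 .nil .nil) (.node 2 .nil .nil))) .nil .nil)) (.node (.node 0 (.node 0 (.node 0 (.node 1 .nil .nil) .nil) (.node 0 .nil .nil)) (.node 0 (.node 0 .nil .nil) (.node 0 .nil .nil))) (.node (.node 1 (.node 1 (.node 2 (.node 0 .nil .nil) .nil) (.node 0 .nil .nil)) (.node 2 (.node 1 .nil .nil) (.node 0 .nil .nil))) .nil .nil) .nil)))) (.node (.node (-2) (.node (-2) (.node (-4) (.node (-1) .nil .nil) .nil) (.node (-2) .nil .nil)) (.node (-3)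 (.node (-3) .nil .nil) (.node (-1) .nil .nil))) (.node (.node (-1) (.node (-2) (.node (-4) (.node 0 .nil .nil) .nil) (.node (-2) .nil .nil)) (.node (-3) (.node (-3) .nil .nil) (.node (-1) .nil .nil))) (.node (.node (-1) (.node (-1) (.node (-3) (.node (-1) .nil .nil) .nil) (.node (-3) .nil .nil)) (.node (-2) (.node (-3) .nil .nil) (.node (-2) .nil .nil))) (.node (.node (-1) (.node (-1) (.node (-1) (.node 0 .nil .nil) .nil) (.node (-1) .nil .nil)) (.node (-1) (.node (-1) .nil .nil) (.node 0 .nil .nil))) (.node (.node 0 (.node 0 (.node 1 (.node 0 .nil .nil) .nil) (.node 1 .nil .nil)) (.node 0 (.node 1 .nil .nil) (.node 0 .nil .nil))) .nil .nil) (.node (.node 1 (.node 1 (.node 3 (.node 1 .nil .nil) .nil) (.node 1 .nil .nil)) (.node 2 (.node 2 .nil .nil) (.node 1 .nil .nil))) .nil .nil)) (.node (.node 0 (.node 0 (.node (-1) (.node 0 .nil .nil) .nil) (.node (-1) .nil .nil)) (.node (-1) (.node (-1) .nil .nil) (.node (-1) .nil .nil))) (.node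 (.node 1 (.node 0 (.node 1 (.node 0 .nil .nil) .nil) (.node 0 .nil .nil)) (.node 1 (.node 0 .nil .nil) (.node 0 .nil .nil))) .nil .nil) (.node (.node 2 (.node 2 (.node 4 (.node 1 .nil .nil) .nil) (.node 2 .nil .nil)) (.node 3 (.node 3 .nil .nil) (.node 2 .nil .nil))) .nil .nil))) (.node (.node (-1) (.node (-1) (.node (-2) (.node (-1) .nil .nil) .nil) (.node (-1) .nil .nil)) (.node (-2) (.node (-1) .nil .nil) (.node (-1) .nil .nil))) (.node (.node 0 (.node (-1) (.node (-2) (.node (-1) .nil .nil) .nil) (.node (-1) .nil .nil)) (.node (-1) (.node (-1) .nil .nil) (.node (-1) .nil .nil))) (.node (.node 0 (.node 1 (.node 1 (.node 0 .nil .nil) .nil) (.node 0 .nil .nil)) (.node 1 (.node 1 .nil .nil) (.node 0 .nil .nil))) .nil .nil) (.node (.node 1 (.node 2 (.node 3 (.node 1 .nil .nil) .nil) (.node 2 .nil .nil)) (.node 2 (.node 3 .nil .nil) (.node 2 .nil .nil))) .nil .nil)) (.node (.node 0 (.node 0 (.node 0 (.node 0 .nil .nil) .nil) (.node (-1)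 .nil .nil)) (.node 0 (.node 0 .nil .nil) (.node 0 .nil .nil))) (.node (.node 1 (.node 1 (.node 2 (.node 1 .nil .nil) .nil) (.node 1 .nil .nil)) (.node 1 (.node 2 .nil .nil) (.node 1 .nil .nil))) .nil .nil) .nil))) (.node (.node (-1) (.node (-2) (.node (-3) (.node (-1) .nil .nil) .nil) (.node (-2) .nil .nil)) (.node (-2) (.node (-3) .nil .nil) (.node (-1) .nil .nil))) (.node (.node (-1) (.node (-1) (.node (-3) (.node 0 .nil .nil) .nil) (.node (-1) .nil .nil)) (.node (-2) (.node (-2) .nil .nil) (.node (-1) .nil .nil))) (.node (.node (-1) (.node 0 (.node 0 (.node 0 .nil .nil) .nil) (.node 0 .nil .nil)) (.node (-1) (.node 0 .nil .nil) (.node 0 .nil .nil))) (.node (.node 0 (.node 0 (.node 1 (.node 1 .nil .nil) .nil) (.node 1 .nil .nil)) (.node 1 (.node 1 .nil .nil) (.node 1 .nil .nil))) .nil .nil) (.node (.node 1 (.node 2 (.node 3 (.node 0 .nil .nil) .nil) (.node 1 .nil .nil)) (.node 2 (.node 2 .nil .nil) (.node 0 .nil .nil))) .nil .nil))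 (.node (.node 0 (.node 0 (.node (-1) (.node 0 .nil .nil) .nil) (.node 0 .nil .nil)) (.node 0 (.node (-1) .nil .nil) (.node 0 .nil .nil))) (.node (.node 1 (.node 1 (.node 1 (.node 0 .nil .nil) .nil) (.node 1 .nil .nil)) (.node 1 (.node 1 .nil .nil) (.node 1 .nil .nil))) .nil .nil) (.node (.node 2 (.node 3 (.node 6 (.node 1 .nil .nil) .nil) (.node 3 .nil .nil)) (.node 4 (.node 5 .nil .nil) (.node 2 .nil .nil))) .nil .nil))) (.node (.node (-1) (.node (-1) (.node (-2) (.node 0 .nil .nil) .nil) (.node (-1) .nil .nil)) (.node (-1) (.node (-2) .nil .nil) (.node (-1) .nil .nil))) (.node (.node 0 (.node (-1) (.node (-1) (.node 0 .nil .nil) .nil) (.node 0 .nil .nil)) (.node (-1) (.node 0 .nil .nil) (.node 0 .nil .nil))) (.node (.node 0 (.node 1 (.node 2 (.node 0 .nil .nil) .nil) (.node 1 .nil .nil)) (.node 1 (.node 2 .nil .nil) (.node 0 .nil .nil))) .nil .nil) (.node (.node 1 (.node 2 (.node 4 (.node 1 .nil .nil) .nil) (.node 2 .nil .nil)) (.node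 3 (.node 3 .nil .nil) (.node 1 .nil .nil))) .nil .nil)) (.node (.node 0 (.node 0 (.node 0 (.node 0 .nil .nil) .nil) (.node 1 .nil .nil)) (.node 0 (.node 0 .nil .nil) (.node 1 .nil .nil))) (.node (.node 1 (.node 1 (.node 2 (.node 0 .nil .nil) .nil) (.node 1 .nil .nil)) (.node 2 (.node 2 .nil .nil) (.node 0 .nil .nil))) .nil .nil) .nil))))) (.node (.node (-2) (.node (-3) (.node (-5) (.node (-1) .nil .nil) .nil) (.node (-3) .nil .nil)) (.node (-3) (.node (-4) .nil .nil) (.node (-2) .nil .nil))) (.node (.node (-2) (.node (-2) (.node (-4) (.node (-1) .nil .nil) .nil) (.node (-3) .nil .nil)) (.node (-3) (.node (-3) .nil .nil) (.node (-2) .nil .nil))) (.node (.node (-1) (.node (-2) (.node (-4) (.node (-1) .nil .nil) .nil) (.node (-2) .nil .nil)) (.node (-3) (.node (-3) .nil .nil) (.node (-2) .nil .nil))) (.node (.node (-1) (.node (-2) (.node (-3) (.node 0 .nil .nil) .nil) (.node (-1) .nil .nil)) (.node (-2) (.node (-2) .nil .nil) (.node (-1)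 .nil .nil))) (.node (.node (-1) (.node (-1) (.node (-1) (.node (-1) .nil .nil) .nil) (.node (-1) .nil .nil)) (.node (-1) (.node (-1) .nil .nil) (.node (-1) .nil .nil))) (.node (.node 0 (.node 0 (.node 1 (.node 0 .nil .nil) .nil) (.node 0 .nil .nil)) (.node 0 (.node 0 .nil .nil) (.node 0 .nil .nil))) .nil .nil) (.node (.node 1 (.node 1 (.node 3 (.node 0 .nil .nil) .nil) (.node 1 .nil .nil)) (.node 2 (.node 2 .nil .nil) (.node 0 .nil .nil))) .nil .nil)) (.node (.node 0 (.node (-1) (.node 0 (.node 0 .nil .nil) .nil) (.node 0 .nil .nil)) (.node 0 (.node 0 .nil .nil) (.node 0 .nil .nil))) (.node (.node 1 (.node 0 (.node 0 (.node 0 .nil .nil) .nil) (.node 0 .nil .nil)) (.node 0 (.node 0 .nil .nil) (.node 0 .nil .nil))) .nil .nil) (.node (.node 2 (.node 2 (.node 4 (.node 0 .nil .nil) .nil) (.node 2 .nil .nil)) (.node 3 (.node 3 .nil .nil) (.node 1 .nil .nil))) .nil .nil))) (.node (.node (-1) (.node (-1) (.node (-2) (.node 0 .nil .nil) .nil)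 (.node (-1) .nil .nil)) (.node (-2) (.node (-2) .nil .nil) (.node (-1) .nil .nil))) (.node (.node 0 (.node (-1) (.node (-2) (.node 0 .nil .nil) .nil) (.node (-1) .nil .nil)) (.node (-1) (.node (-2) .nil .nil) (.node (-1) .nil .nil))) (.node (.node 0 (.node 1 (.node 1 (.node 1 .nil .nil) .nil) (.node 1 .nil .nil)) (.node 0 (.node 1 .nil .nil) (.node 1 .nil .nil))) .nil .nil) (.node (.node 1 (.node 2 (.node 3 (.node 0 .nil .nil) .nil) (.node 2 .nil .nil)) (.node 2 (.node 3 .nil .nil) (.node 1 .nil .nil))) .nil .nil)) (.node (.node 0 (.node 0 (.node 0 (.node (-1) .nil .nil) .nil) (.node (-1) .nil .nil)) (.node 0 (.node 0 .nil .nil) (.node (-1) .nil .nil))) (.node (.node 1 (.node 1 (.node 2 (.node 0 .nil .nil) .nil) (.node 1 .nil .nil)) (.node 1 (.node 2 .nil .nil) (.node 0 .nil .nil))) .nil .nil) .nil))) (.node (.node (-1) (.node (-2) (.node (-3) (.node (-1) .nil .nil) .nil) (.node (-3) .nil .nil)) (.node (-2) (.node (-3) .nil .nil) (.node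 (-2) .nil .nil))) (.node (.node (-1) (.node (-1) (.node (-3) (.node 0 .nil .nil) .nil) (.node (-2) .nil .nil)) (.node (-2) (.node (-2) .nil .nil) (.node (-1) .nil .nil))) (.node (.node (-1) (.node 0 (.node (-1) (.node 0 .nil .nil) .nil) (.node 0 .nil .nil)) (.node (-1) (.node (-1) .nil .nil) (.node 0 .nil .nil))) (.node (.node 0 (.node 0 (.node 1 (.node 0 .nil .nil) .nil) (.node 1 .nil .nil)) (.node 1 (.node 1 .nil .nil) (.node 0 .nil .nil))) .nil .nil) (.node (.node 1 (.node 1 (.node 3 (.node 1 .nil .nil) .nil) (.node 2 .nil .nil)) (.node 2 (.node 3 .nil .nil) (.node 2 .nil .nil))) .nil .nil)) (.node (.node 0 (.node 0 (.node (-1) (.node 0 .nil .nil) .nil) (.node (-1) .nil .nil)) (.node 0 (.node (-1) .nil .nil) (.node (-1) .nil .nil))) (.node (.node 1 (.node 1 (.node 1 (.node 0 .nil .nil) .nil) (.node 0 .nil .nil)) (.node 1 (.node 1 .nil .nil) (.node 0 .nil .nil))) .nil .nil) (.node (.node 2 (.node 3 (.node 5 (.node 1 .nil .nil) .nil)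 (.node 3 .nil .nil)) (.node 4 (.node 4 .nil .nil) (.node 2 .nil .nil))) .nil .nil))) (.node (.node (-1) (.node (-1) (.node (-2) (.node 0 .nil .nil) .nil) (.node (-2) .nil .nil)) (.node (-1) (.node (-2) .nil .nil) (.node (-1) .nil .nil))) (.node (.node 0 (.node (-1) (.node (-1) (.node 0 .nil .nil) .nil) (.node (-1) .nil .nil)) (.node (-1) (.node (-1) .nil .nil) (.node 0 .nil .nil))) (.node (.node 0 (.node 1 (.node 2 (.node 0 .nil .nil) .nil) (.node 1 .nil .nil)) (.node 1 (.node 1 .nil .nil) (.node 1 .nil .nil))) .nil .nil) (.node (.node 1 (.node 2 (.node 4 (.node 1 .nil .nil) .nil) (.node 3 .nil .nil)) (.node 2 (.node 4 .nil .nil) (.node 2 .nil .nil))) .nil .nil)) (.node (.node 0 (.node 0 (.node 0 (.node 1 .nil .nil) .nil) (.node 0 .nil .nil)) (.node 0 (.node 0 .nil .nil) (.node 1 .nil .nil))) (.node (.node 1 (.node 1 (.node 2 (.node 0 .nil .nil) .nil) (.node 1 .nil .nil)) (.node 2 (.node 1 .nil .nil) (.node 1 .nil .nil))) .nil .nil) .nil))))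 (.node (.node (-1) (.node (-3) (.node (-5) (.node (-1) .nil .nil) .nil) (.node (-3) .nil .nil)) (.node (-3) (.node (-4) .nil .nil) (.node (-2) .nil .nil))) (.node (.node (-1) (.node (-2) (.node (-4) (.node (-1) .nil .nil) .nil) (.node (-3) .nil .nil)) (.node (-2) (.node (-3) .nil .nil) (.node (-2) .nil .nil))) (.node (.node (-1) (.node (-1) (.node (-3) (.node (-1) .nil .nil) .nil) (.node (-2) .nil .nil)) (.node (-2) (.node (-3) .nil .nil) (.node (-1) .nil .nil))) (.node (.node (-1) (.node (-1) (.node (-1) (.node 0 .nil .nil) .nil) (.node 0 .nil .nil)) (.node (-1) (.node 0 .nil .nil) (.node 0 .nil .nil))) (.node (.node 0 (.node 0 (.node 1 (.node 1 .nil .nil) .nil) (.node 1 .nil .nil)) (.node 0 (.node 1 .nil .nil) (.node 1 .nil .nil))) .nil .nil) (.node (.node 1 (.node 1 (.node 3 (.node 1 .nil .nil) .nil) (.node 2 .nil .nil)) (.node 2 (.node 2 .nil .nil) (.node 1 .nil .nil))) .nil .nil)) (.node (.node 0 (.node 0 (.node (-1) (.node 0 .nil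 .nil) .nil) (.node 0 .nil .nil)) (.node (-1) (.node (-1) .nil .nil) (.node 0 .nil .nil))) (.node (.node 1 (.node 0 (.node 1 (.node 0 .nil .nil) .nil) (.node 1 .nil .nil)) (.node 1 (.node 1 .nil .nil) (.node 0 .nil .nil))) .nil .nil) (.node (.node 2 (.node 2 (.node 4 (.node 1 .nil .nil) .nil) (.node 3 .nil .nil)) (.node 3 (.node 4 .nil .nil) (.node 2 .nil .nil))) .nil .nil))) (.node (.node (-1) (.node (-1) (.node (-2) (.node 0 .nil .nil) .nil) (.node (-1) .nil .nil)) (.node (-2) (.node (-1) .nil .nil) (.node 0 .nil .nil))) (.node (.node 0 (.node (-1) (.node (-2) (.node 0 .nil .nil) .nil) (.node (-1) .nil .nil)) (.node (-1) (.node (-1) .nil .nil) (.node 0 .nil .nil))) (.node (.node 0 (.node 1 (.node 1 (.node 0 .nil .nil) .nil) (.node 1 .nil .nil)) (.node 1 (.node 1 .nil .nil) (.node 1 .nil .nil))) .nil .nil) (.node (.node 1 (.node 2 (.node 4 (.node 0 .nil .nil) .nil) (.node 2 .nil .nil)) (.node 2 (.node 3 .nil .nil) (.node 1 .nil .nil)))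 .nil .nil)) (.node (.node 0 (.node 0 (.node 0 (.node 0 .nil .nil) .nil) (.node 0 .nil .nil)) (.node 0 (.node 0 .nil .nil) (.node (-1) .nil .nil))) (.node (.node 1 (.node 1 (.node 2 (.node 1 .nil .nil) .nil) (.node 2 .nil .nil)) (.node 1 (.node 2 .nil .nil) (.node 1 .nil .nil))) .nil .nil) .nil))) (.node (.node (-1) (.node (-2) (.node (-3) (.node (-1) .nil .nil) .nil) (.node (-2) .nil .nil)) (.node (-2) (.node (-2) .nil .nil) (.node (-2) .nil .nil))) (.node (.node (-1) (.node (-1) (.node (-2) (.node (-1) .nil .nil) .nil) (.node (-2) .nil .nil)) (.node (-2) (.node (-2) .nil .nil) (.node (-2) .nil .nil))) (.node (.node 0 (.node (-1) (.node (-2) (.node (-1) .nil .nil) .nil) (.node (-2) .nil .nil)) (.node (-1) (.node (-2) .nil .nil) (.node (-2) .nil .nil))) (.node (.node 0 (.node 1 (.node 1 (.node 0 .nil .nil) .nil) (.node 0 .nil .nil)) (.node 0 (.node 0 .nil .nil) (.node 0 .nil .nil))) .nil .nil) (.node (.node 1 (.node 2 (.node 3 (.node 1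 .nil .nil) .nil) (.node 1 .nil .nil)) (.node 2 (.node 2 .nil .nil) (.node 1 .nil .nil))) .nil .nil)) (.node (.node 0 (.node 0 (.node 0 (.node (-1) .nil .nil) .nil) (.node (-1) .nil .nil)) (.node 0 (.node (-1) .nil .nil) (.node (-1) .nil .nil))) (.node (.node 1 (.node 1 (.node 2 (.node 0 .nil .nil) .nil) (.node 0 .nil .nil)) (.node 1 (.node 1 .nil .nil) (.node 0 .nil .nil))) .nil .nil) (.node (.node 2 (.node 3 (.node 6 (.node 1 .nil .nil) .nil) (.node 4 .nil .nil)) (.node 4 (.node 5 .nil .nil) (.node 3 .nil .nil))) .nil .nil))) (.node (.node (-1) (.node (-1) (.node (-2) (.node (-1) .nil .nil) .nil) (.node (-1) .nil .nil)) (.node (-1) (.node (-1) .nil .nil) (.node (-1) .nil .nil))) (.node (.node 0 (.node (-1) (.node (-1) (.node 0 .nil .nil) .nil) (.node (-1) .nil .nil)) (.node 0 (.node (-1) .nil .nil) (.node (-1) .nil .nil))) (.node (.node 0 (.node 1 (.node 2 (.node 1 .nil .nil) .nil) (.node 1 .nil .nil)) (.node 1 (.node 2 .nil .nil) (.node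 1 .nil .nil))) .nil .nil) (.node (.node 1 (.node 2 (.node 4 (.node 1 .nil .nil) .nil) (.node 3 .nil .nil)) (.node 3 (.node 3 .nil .nil) (.node 2 .nil .nil))) .nil .nil)) (.node (.node 0 (.node 0 (.node 0 (.node 0 .nil .nil) .nil) (.node 0 .nil .nil)) (.node 0 (.node 1 .nil .nil) (.node 0 .nil .nil))) (.node (.node 1 (.node 1 (.node 2 (.node 1 .nil .nil) .nil) (.node 1 .nil .nil)) (.node 2 (.node 2 .nil .nil) (.node 1 .nil .nil))) .nil .nil) .nil)))))))
  ng := (.node 239 (.node 238 (.node 236 (.node 232 (.node 224 (.node 208 (.node 176 (.node 112 .nil .nil) (.node 48 .nil .nil)) (.node 144 (.node 80 .nil .nil) (.node 16 .nil .nil))) (.node 192 (.node 160 (.node 96 .nil .nil) (.node 32 .nil .nil)) (.node 128 (.node 64 .nil .nil) (.node 0 .nil .nil)))) (.node 216 (.node 200 (.node 168 (.node 104 .nil .nil) (.node 40 .nil .nil)) (.node 136 (.node 72 .nil .nil) (.node 8 .nil .nil))) (.node 184 (.node 152 (.node 88 .nil .nil) (.node 24 .nil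 .nil)) (.node 120 (.node 56 .nil .nil) .nil)))) (.node 228 (.node 220 (.node 204 (.node 172 (.node 108 .nil .nil) (.node 44 .nil .nil)) (.node 140 (.node 76 .nil .nil) (.node 12 .nil .nil))) (.node 188 (.node 156 (.node 92 .nil .nil) (.node 28 .nil .nil)) (.node 124 (.node 60 .nil .nil) .nil))) (.node 212 (.node 196 (.node 164 (.node 100 .nil .nil) (.node 36 .nil .nil)) (.node 132 (.node 68 .nil .nil) (.node 4 .nil .nil))) (.node 180 (.node 148 (.node 84 .nil .nil) (.node 20 .nil .nil)) (.node 116 (.node 52 .nil .nil) .nil))))) (.node 234 (.node 230 (.node 222 (.node 206 (.node 174 (.node 110 .nil .nil) (.node 46 .nil .nil)) (.node 142 (.node 78 .nil .nil) (.node 14 .nil .nil))) (.node 190 (.node 158 (.node 94 .nil .nil) (.node 30 .nil .nil)) (.node 126 (.node 62 .nil .nil) .nil))) (.node 214 (.node 198 (.node 166 (.node 102 .nil .nil) (.node 38 .nil .nil)) (.node 134 (.node 70 .nil .nil) (.node 6 .nil .nil))) (.node 182 (.node 150 (.node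 86 .nil .nil) (.node 22 .nil .nil)) (.node 118 (.node 54 .nil .nil) .nil)))) (.node 226 (.node 218 (.node 202 (.node 170 (.node 106 .nil .nil) (.node 42 .nil .nil)) (.node 138 (.node 74 .nil .nil) (.node 10 .nil .nil))) (.node 186 (.node 154 (.node 90 .nil .nil) (.node 26 .nil .nil)) (.node 122 (.node 58 .nil .nil) .nil))) (.node 210 (.node 194 (.node 162 (.node 98 .nil .nil) (.node 34 .nil .nil)) (.node 130 (.node 66 .nil .nil) (.node 2 .nil .nil))) (.node 178 (.node 146 (.node 82 .nil .nil) (.node 18 .nil .nil)) (.node 114 (.node 50 .nil .nil) .nil)))))) (.node 237 (.node 235 (.node 231 (.node 223 (.node 207 (.node 175 (.node 111 .nil .nil) (.node 47 .nil .nil)) (.node 143 (.node 79 .nil .nil) (.node 15 .nil .nil))) (.node 191 (.node 159 (.node 95 .nil .nil) (.node 31 .nil .nil)) (.node 127 (.node 63 .nil .nil) .nil))) (.node 215 (.node 199 (.node 167 (.node 103 .nil .nil) (.node 39 .nil .nil)) (.node 135 (.node 71 .nil .nil) (.node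 7 .nil .nil))) (.node 183 (.node 151 (.node 87 .nil .nil) (.node 23 .nil .nil)) (.node 119 (.node 55 .nil .nil) .nil)))) (.node 227 (.node 219 (.node 203 (.node 171 (.node 107 .nil .nil) (.node 43 .nil .nil)) (.node 139 (.node 75 .nil .nil) (.node 11 .nil .nil))) (.node 187 (.node 155 (.node 91 .nil .nil) (.node 27 .nil .nil)) (.node 123 (.node 59 .nil .nil) .nil))) (.node 211 (.node 195 (.node 163 (.node 99 .nil .nil) (.node 35 .nil .nil)) (.node 131 (.node 67 .nil .nil) (.node 3 .nil .nil))) (.node 179 (.node 147 (.node 83 .nil .nil) (.node 19 .nil .nil)) (.node 115 (.node 51 .nil .nil) .nil))))) (.node 233 (.node 229 (.node 221 (.node 205 (.node 173 (.node 109 .nil .nil) (.node 45 .nil .nil)) (.node 141 (.node 77 .nil .nil) (.node 13 .nil .nil))) (.node 189 (.node 157 (.node 93 .nil .nil) (.node 29 .nil .nil)) (.node 125 (.node 61 .nil .nil) .nil))) (.node 213 (.node 197 (.node 165 (.node 101 .nil .nil) (.node 37 .nil .nil)) (.node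 133 (.node 69 .nil .nil) (.node 5 .nil .nil))) (.node 181 (.node 149 (.node 85 .nil .nil) (.node 21 .nil .nil)) (.node 117 (.node 53 .nil .nil) .nil)))) (.node 225 (.node 217 (.node 201 (.node 169 (.node 105 .nil .nil) (.node 41 .nil .nil)) (.node 137 (.node 73 .nil .nil) (.node 9 .nil .nil))) (.node 185 (.node 153 (.node 89 .nil .nil) (.node 25 .nil .nil)) (.node 121 (.node 57 .nil .nil) .nil))) (.node 209 (.node 193 (.node 161 (.node 97 .nil .nil) (.node 33 .nil .nil)) (.node 129 (.node 65 .nil .nil) (.node 1 .nil .nil))) (.node 177 (.node 145 (.node 81 .nil .nil) (.node 17 .nil .nil)) (.node 113 (.node 49 .nil .nil) .nil)))))))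
  sp := (.node 162 (.node 141 (.node 130 (.node 120 .nil .nil) .nil) (.node 123 .nil .nil)) (.node 135 (.node 126 .nil .nil) (.node 121 .nil .nil)))
  ch := (.node C0 (.node C1 (.node C3 (.node C7 (.node C15 (.node C31 (.node C63 (.node C127 .nil .nil) (.node C191 .nil .nil)) (.node C95 (.node C159 .nil .nil) (.node C223 .nil .nil))) (.node C47 (.node C79 (.node C143 .nil .nil) (.node C207 .nil .nil)) (.node C111 (.node C175 .nil .nil) (.node C239 .nil .nil)))) (.node C23 (.node C39 (.node C71 (.node C135 .nil .nil) (.node C199 .nil .nil)) (.node C103 (.node C167 .nil .nil) (.node C231 .nil .nil))) (.node C55 (.node C87 (.node C151 .nil .nil) (.node C215 .nil .nil)) (.node C119 (.node C183 .nil .nil) .nil)))) (.node C11 (.node C19 (.node C35 (.node C67 (.node C131 .nil .nil) (.node C195 .nil .nil)) (.node C99 (.node C163 .nil .nil) (.node C227 .nil .nil))) (.node C51 (.node C83 (.node C147 .nil .nil) (.node C211 .nil .nil)) (.node C115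 (.node C179 .nil .nil) .nil))) (.node C27 (.node C43 (.node C75 (.node C139 .nil .nil) (.node C203 .nil .nil)) (.node C107 (.node C171 .nil .nil) (.node C235 .nil .nil))) (.node C59 (.node C91 (.node C155 .nil .nil) (.node C219 .nil .nil)) (.node C123 (.node C187 .nil .nil) .nil))))) (.node C5 (.node C9 (.node C17 (.node C33 (.node C65 (.node C129 .nil .nil) (.node C193 .nil .nil)) (.node C97 (.node C161 .nil .nil) (.node C225 .nil .nil))) (.node C49 (.node C81 (.node C145 .nil .nil) (.node C209 .nil .nil)) (.node C113 (.node C177 .nil .nil) .nil))) (.node C25 (.node C41 (.node C73 (.node C137 .nil .nil) (.node C201 .nil .nil)) (.node C105 (.node C169 .nil .nil) (.node C233 .nil .nil))) (.node C57 (.node C89 (.node C153 .nil .nil) (.node C217 .nil .nil)) (.node C121 (.node C185 .nil .nil) .nil)))) (.node C13 (.node C21 (.node C37 (.node C69 (.node C133 .nil .nil) (.node C197 .nil .nil)) (.node C101 (.node C165 .nil .nil) (.node C229 .nil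 .nil))) (.node C53 (.node C85 (.node C149 .nil .nil) (.node C213 .nil .nil)) (.node C117 (.node C181 .nil .nil) .nil))) (.node C29 (.node C45 (.node C77 (.node C141 .nil .nil) (.node C205 .nil .nil)) (.node C109 (.node C173 .nil .nil) (.node C237 .nil .nil))) (.node C61 (.node C93 (.node C157 .nil .nil) (.node C221 .nil .nil)) (.node C125 (.node C189 .nil .nil) .nil)))))) (.node C2 (.node C4 (.node C8 (.node C16 (.node C32 (.node C64 (.node C128 .nil .nil) (.node C192 .nil .nil)) (.node C96 (.node C160 .nil .nil) (.node C224 .nil .nil))) (.node C48 (.node C80 (.node C144 .nil .nil) (.node C208 .nil .nil)) (.node C112 (.node C176 .nil .nil) .nil))) (.node C24 (.node C40 (.node C72 (.node C136 .nil .nil) (.node C200 .nil .nil)) (.node C104 (.node C168 .nil .nil) (.node C232 .nil .nil))) (.node C56 (.node C88 (.node C152 .nil .nil) (.node C216 .nil .nil)) (.node C120 (.node C184 .nil .nil) .nil)))) (.node C12 (.node C20 (.node C36 (.node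 C68 (.node C132 .nil .nil) (.node C196 .nil .nil)) (.node C100 (.node C164 .nil .nil) (.node C228 .nil .nil))) (.node C52 (.node C84 (.node C148 .nil .nil) (.node C212 .nil .nil)) (.node C116 (.node C180 .nil .nil) .nil))) (.node C28 (.node C44 (.node C76 (.node C140 .nil .nil) (.node C204 .nil .nil)) (.node C108 (.node C172 .nil .nil) (.node C236 .nil .nil))) (.node C60 (.node C92 (.node C156 .nil .nil) (.node C220 .nil .nil)) (.node C124 (.node C188 .nil .nil) .nil))))) (.node C6 (.node C10 (.node C18 (.node C34 (.node C66 (.node C130 .nil .nil) (.node C194 .nil .nil)) (.node C98 (.node C162 .nil .nil) (.node C226 .nil .nil))) (.node C50 (.node C82 (.node C146 .nil .nil) (.node C210 .nil .nil)) (.node C114 (.node C178 .nil .nil) .nil))) (.node C26 (.node C42 (.node C74 (.node C138 .nil .nil) (.node C202 .nil .nil)) (.node C106 (.node C170 .nil .nil) (.node C234 .nil .nil))) (.node C58 (.node C90 (.node C154 .nil .nil) (.node C218 .nil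 .nil)) (.node C122 (.node C186 .nil .nil) .nil)))) (.node C14 (.node C22 (.node C38 (.node C70 (.node C134 .nil .nil) (.node C198 .nil .nil)) (.node C102 (.node C166 .nil .nil) (.node C230 .nil .nil))) (.node C54 (.node C86 (.node C150 .nil .nil) (.node C214 .nil .nil)) (.node C118 (.node C182 .nil .nil) .nil))) (.node C30 (.node C46 (.node C78 (.node C142 .nil .nil) (.node C206 .nil .nil)) (.node C110 (.node C174 .nil .nil) (.node C238 .nil .nil))) (.node C62 (.node C94 (.node C158 .nil .nil) (.node C222 .nil .nil)) (.node C126 (.node C190 .nil .nil) .nil)))))))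
  tm := (.node M0 (.node M1 (.node M3 (.node M7 (.node M15 (.node M31 (.node M63 (.node M127 .nil .nil) (.node M191 .nil .nil)) (.node M95 (.node M159 .nil .nil) (.node M223 .nil .nil))) (.node M47 (.node M79 (.node M143 .nil .nil) (.node M207 .nil .nil)) (.node M111 (.node M175 .nil .nil) (.node M239 .nil .nil)))) (.node M23 (.node M39 (.node M71 (.node M135 .nil .nil) (.node M199 .nil .nil)) (.node M103 (.node M167 .nil .nil) (.node M231 .nil .nil))) (.node M55 (.node M87 (.node M151 .nil .nil) (.node M215 .nil .nil)) (.node M119 (.node M183 .nil .nil) .nil)))) (.node M11 (.node M19 (.node M35 (.node M67 (.node M131 .nil .nil) (.node M195 .nil .nil)) (.node M99 (.node M163 .nil .nil) (.node M227 .nil .nil))) (.node M51 (.node M83 (.node M147 .nil .nil) (.node M211 .nil .nil)) (.node M115 (.node M179 .nil .nil) .nil))) (.node M27 (.node M43 (.node M75 (.node M139 .nil .nil) (.node M203 .nil .nil)) (.node M107 (.node M171 .nil .nil) (.node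 M235 .nil .nil))) (.node M59 (.node M91 (.node M155 .nil .nil) (.node M219 .nil .nil)) (.node M123 (.node M187 .nil .nil) .nil))))) (.node M5 (.node M9 (.node M17 (.node M33 (.node M65 (.node M129 .nil .nil) (.node M193 .nil .nil)) (.node M97 (.node M161 .nil .nil) (.node M225 .nil .nil))) (.node M49 (.node M81 (.node M145 .nil .nil) (.node M209 .nil .nil)) (.node M113 (.node M177 .nil .nil) .nil))) (.node M25 (.node M41 (.node M73 (.node M137 .nil .nil) (.node M201 .nil .nil)) (.node M105 (.node M169 .nil .nil) (.node M233 .nil .nil))) (.node M57 (.node M89 (.node M153 .nil .nil) (.node M217 .nil .nil)) (.node M121 (.node M185 .nil .nil) .nil)))) (.node M13 (.node M21 (.node M37 (.node M69 (.node M133 .nil .nil) (.node M197 .nil .nil)) (.node M101 (.node M165 .nil .nil) (.node M229 .nil .nil))) (.node M53 (.node M85 (.node M149 .nil .nil) (.node M213 .nil .nil)) (.node M117 (.node M181 .nil .nil) .nil))) (.node M29 (.node M45 (.node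 M77 (.node M141 .nil .nil) (.node M205 .nil .nil)) (.node M109 (.node M173 .nil .nil) (.node M237 .nil .nil))) (.node M61 (.node M93 (.node M157 .nil .nil) (.node M221 .nil .nil)) (.node M125 (.node M189 .nil .nil) .nil)))))) (.node M2 (.node M4 (.node M8 (.node M16 (.node M32 (.node M64 (.node M128 .nil .nil) (.node M192 .nil .nil)) (.node M96 (.node M160 .nil .nil) (.node M224 .nil .nil))) (.node M48 (.node M80 (.node M144 .nil .nil) (.node M208 .nil .nil)) (.node M112 (.node M176 .nil .nil) .nil))) (.node M24 (.node M40 (.node M72 (.node M136 .nil .nil) (.node M200 .nil .nil)) (.node M104 (.node M168 .nil .nil) (.node M232 .nil .nil))) (.node M56 (.node M88 (.node M152 .nil .nil) (.node M216 .nil .nil)) (.node M120 (.node M184 .nil .nil) .nil)))) (.node M12 (.node M20 (.node M36 (.node M68 (.node M132 .nil .nil) (.node M196 .nil .nil)) (.node M100 (.node M164 .nil .nil) (.node M228 .nil .nil))) (.node M52 (.node M84 (.node M148 .nil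 .nil) (.node M212 .nil .nil)) (.node M116 (.node M180 .nil .nil) .nil))) (.node M28 (.node M44 (.node M76 (.node M140 .nil .nil) (.node M204 .nil .nil)) (.node M108 (.node M172 .nil .nil) (.node M236 .nil .nil))) (.node M60 (.node M92 (.node M156 .nil .nil) (.node M220 .nil .nil)) (.node M124 (.node M188 .nil .nil) .nil))))) (.node M6 (.node M10 (.node M18 (.node M34 (.node M66 (.node M130 .nil .nil) (.node M194 .nil .nil)) (.node M98 (.node M162 .nil .nil) (.node M226 .nil .nil))) (.node M50 (.node M82 (.node M146 .nil .nil) (.node M210 .nil .nil)) (.node M114 (.node M178 .nil .nil) .nil))) (.node M26 (.node M42 (.node M74 (.node M138 .nil .nil) (.node M202 .nil .nil)) (.node M106 (.node M170 .nil .nil) (.node M234 .nil .nil))) (.node M58 (.node M90 (.node M154 .nil .nil) (.node M218 .nil .nil)) (.node M122 (.node M186 .nil .nil) .nil)))) (.node M14 (.node M22 (.node M38 (.node M70 (.node M134 .nil .nil) (.node M198 .nil .nil)) (.node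 M102 (.node M166 .nil .nil) (.node M230 .nil .nil))) (.node M54 (.node M86 (.node M150 .nil .nil) (.node M214 .nil .nil)) (.node M118 (.node M182 .nil .nil) .nil))) (.node M30 (.node M46 (.node M78 (.node M142 .nil .nil) (.node M206 .nil .nil)) (.node M110 (.node M174 .nil .nil) (.node M238 .nil .nil))) (.node M62 (.node M94 (.node M158 .nil .nil) (.node M222 .nil .nil)) (.node M126 (.node M190 .nil .nil) .nil)))))))
  bz := (.node (0, 1, (-5), 3) (.node (7, 7, (-1), 0) (.node (7, 7, (-1), 0) (.node (7, 7, (-1), 0) (.node (0, 0, (-1), 0) (.node (0, 0, (-1), 0) (.node (0, 0, (-1), 0) (.node (4, 4, 1, 0) .nil .nil) (.node (0, 0, 1, 0) .nil .nil)) (.node (1, 1, (-1), 0) (.node (1, 1, 1, 0) .nil .nil) (.node (0, 0, 1, 0) .nil .nil))) (.node (0, 0, (-1), 0) (.node (1, 1, (-1), 0) (.node (1, 1, 1, 0) .nil .nil) (.node (0, 0, 1, 0) .nil .nil)) (.node (4, 4, (-1), 0) (.node (0, 0, 1, 0) .nil .nil) (.node (0, 1, (-4), 3) .nil .nil)))) (.node (0,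 0, (-1), 0) (.node (0, 0, (-1), 0) (.node (0, 0, (-1), 0) (.node (2, 2, 1, 0) .nil .nil) (.node (0, 0, 1, 0) .nil .nil)) (.node (2, 2, (-1), 0) (.node (0, 0, 1, 0) .nil .nil) (.node (7, 7, 1, 0) .nil .nil))) (.node (0, 0, (-1), 0) (.node (1, 1, (-1), 0) (.node (1, 1, 1, 0) .nil .nil) (.node (0, 0, 1, 0) .nil .nil)) (.node (7, 7, (-1), 0) (.node (0, 0, 1, 0) .nil .nil) .nil)))) (.node (7, 7, (-1), 0) (.node (0, 0, (-1), 0) (.node (0, 0, (-1), 0) (.node (0, 0, (-1), 0) (.node (3, 3, 1, 0) .nil .nil) (.node (0, 0, 1, 0) .nil .nil)) (.node (2, 2, (-1), 0) (.node (0, 0, 1, 0) .nil .nil) (.node (6, 6, 1, 0) .nil .nil))) (.node (0, 0, (-1), 0) (.node (1, 1, (-1), 0) (.node (1, 1, 1, 0) .nil .nil) (.node (0, 0, 1, 0) .nil .nil)) (.node (5, 5, (-1), 0) (.node (0, 0, 1, 0) .nil .nil) .nil))) (.node (0, 0, (-1), 0) (.node (0, 0, (-1), 0) (.node (0, 0, (-1), 0) (.node (2, 2, 1, 0) .nil .nil) (.node (0, 0, 1, 0) .nil .nil)) (.node (3, 3, (-1), 0)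 (.node (0, 0, 1, 0) .nil .nil) (.node (7, 7, 1, 0) .nil .nil))) (.node (0, 0, (-1), 0) (.node (1, 1, (-1), 0) (.node (1, 1, 1, 0) .nil .nil) (.node (0, 0, 1, 0) .nil .nil)) (.node (5, 5, 1, 0) (.node (0, 0, 1, 0) .nil .nil) .nil))))) (.node (7, 7, (-1), 0) (.node (7, 7, (-1), 0) (.node (0, 0, (-1), 0) (.node (0, 0, (-1), 0) (.node (0, 0, (-1), 0) (.node (4, 4, 1, 0) .nil .nil) (.node (0, 0, 1, 0) .nil .nil)) (.node (1, 1, (-1), 0) (.node (1, 1, 1, 0) .nil .nil) (.node (0, 0, 1, 0) .nil .nil))) (.node (0, 0, (-1), 0) (.node (1, 1, (-1), 0) (.node (1, 1, 1, 0) .nil .nil) (.node (0, 0, 1, 0) .nil .nil)) (.node (4, 4, (-1), 0) (.node (0, 0, 1, 0) .nil .nil) .nil))) (.node (0, 0, (-1), 0) (.node (0, 0, (-1), 0) (.node (0, 0, (-1), 0) (.node (2, 2, 1, 0) .nil .nil) (.node (0, 0, 1, 0) .nil .nil)) (.node (3, 3, (-1), 0) (.node (0, 0, 1, 0) .nil .nil) (.node (7, 7, 1, 0) .nil .nil))) (.node (0, 0, (-1), 0) (.node (1, 1, (-1), 0) (.node (1, 1,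 1, 0) .nil .nil) (.node (0, 0, 1, 0) .nil .nil)) (.node (6, 6, 1, 0) (.node (0, 0, 1, 0) .nil .nil) .nil)))) (.node (6, 6, (-1), 0) (.node (0, 0, (-1), 0) (.node (0, 0, (-1), 0) (.node (0, 0, (-1), 0) (.node (3, 3, 1, 0) .nil .nil) (.node (0, 0, 1, 0) .nil .nil)) (.node (2, 2, (-1), 0) (.node (0, 0, 1, 0) .nil .nil) (.node (7, 7, 1, 0) .nil .nil))) (.node (0, 0, (-1), 0) (.node (1, 1, (-1), 0) (.node (1, 1, 1, 0) .nil .nil) (.node (0, 0, 1, 0) .nil .nil)) (.node (6, 6, (-1), 0) (.node (0, 0, 1, 0) .nil .nil) .nil))) (.node (0, 0, (-1), 0) (.node (0, 0, (-1), 0) (.node (0, 0, (-1), 0) (.node (1, 1, 1, 0) .nil .nil) (.node (0, 0, 1, 0) .nil .nil)) (.node (3, 3, (-1), 0) (.node (0, 0, 1, 0) .nil .nil) (.node (7, 7, 1, 0) .nil .nil))) (.node (0, 0, (-1), 0) (.node (1, 1, (-1), 0) (.node (1, 1, 1, 0) .nil .nil) (.node (0, 0, 1, 0) .nil .nil)) (.node (5, 5, 1, 0) (.node (0, 0, 1, 0) .nil .nil) .nil)))))) (.node (7, 7, (-1), 0) (.node (7, 7,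 (-1), 0) (.node (7, 7, (-1), 0) (.node (0, 0, (-1), 0) (.node (0, 0, (-1), 0) (.node (0, 0, (-1), 0) (.node (4, 4, 1, 0) .nil .nil) (.node (0, 0, 1, 0) .nil .nil)) (.node (1, 1, (-1), 0) (.node (1, 1, 1, 0) .nil .nil) (.node (0, 0, 1, 0) .nil .nil))) (.node (0, 0, (-1), 0) (.node (1, 1, (-1), 0) (.node (1, 1, 1, 0) .nil .nil) (.node (0, 0, 1, 0) .nil .nil)) (.node (4, 4, (-1), 0) (.node (0, 0, 1, 0) .nil .nil) .nil))) (.node (0, 0, (-1), 0) (.node (0, 0, (-1), 0) (.node (0, 0, (-1), 0) (.node (2, 2, 1, 0) .nil .nil) (.node (0, 0, 1, 0) .nil .nil)) (.node (2, 2, (-1), 0) (.node (0, 0, 1, 0) .nil .nil) (.node (7, 7, 1, 0) .nil .nil))) (.node (0, 0, (-1), 0) (.node (1, 1, (-1), 0) (.node (1, 1, 1, 0) .nil .nil) (.node (0, 0, 1, 0) .nil .nil)) (.node (7, 7, 1, 0) (.node (0, 0, 1, 0) .nil .nil) .nil)))) (.node (6, 6, (-1), 0) (.node (0, 0, (-1), 0) (.node (0, 0, (-1), 0) (.node (0, 0, (-1), 0) (.node (3, 3, 1, 0) .nil .nil) (.node (0, 0, 1,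 0) .nil .nil)) (.node (2, 2, (-1), 0) (.node (0, 0, 1, 0) .nil .nil) (.node (7, 7, 1, 0) .nil .nil))) (.node (0, 0, (-1), 0) (.node (1, 1, (-1), 0) (.node (1, 1, 1, 0) .nil .nil) (.node (0, 0, 1, 0) .nil .nil)) (.node (5, 5, (-1), 0) (.node (0, 0, 1, 0) .nil .nil) .nil))) (.node (0, 0, (-1), 0) (.node (0, 0, (-1), 0) (.node (0, 0, (-1), 0) (.node (2, 2, 1, 0) .nil .nil) (.node (0, 0, 1, 0) .nil .nil)) (.node (3, 3, (-1), 0) (.node (0, 0, 1, 0) .nil .nil) (.node (7, 7, 1, 0) .nil .nil))) (.node (0, 0, (-1), 0) (.node (1, 1, (-1), 0) (.node (1, 1, 1, 0) .nil .nil) (.node (0, 0, 1, 0) .nil .nil)) (.node (5, 5, 1, 0) (.node (0, 0, 1, 0) .nil .nil) .nil))))) (.node (7, 7, (-1), 0) (.node (7, 7, (-1), 0) (.node (0, 0, (-1), 0) (.node (0, 0, (-1), 0) (.node (0, 0, (-1), 0) (.node (3, 3, 1, 0) .nil .nil) (.node (0, 0, 1, 0) .nil .nil)) (.node (1, 1, (-1), 0) (.node (0, 0, 1, 0) .nil .nil) (.node (6, 6, 1, 0) .nil .nil))) (.node (0, 0, (-1), 0)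 (.node (1, 1, (-1), 0) (.node (1, 1, 1, 0) .nil .nil) (.node (0, 0, 1, 0) .nil .nil)) (.node (5, 5, (-1), 0) (.node (0, 0, 1, 0) .nil .nil) .nil))) (.node (0, 0, (-1), 0) (.node (0, 0, (-1), 0) (.node (0, 0, (-1), 0) (.node (2, 2, 1, 0) .nil .nil) (.node (0, 0, 1, 0) .nil .nil)) (.node (3, 3, (-1), 0) (.node (0, 0, 1, 0) .nil .nil) (.node (7, 7, 1, 0) .nil .nil))) (.node (0, 0, (-1), 0) (.node (1, 1, (-1), 0) (.node (1, 1, 1, 0) .nil .nil) (.node (0, 0, 1, 0) .nil .nil)) (.node (6, 6, 1, 0) (.node (0, 0, 1, 0) .nil .nil) .nil)))) (.node (0, 0, (-1), 0) (.node (0, 0, (-1), 0) (.node (0, 0, (-1), 0) (.node (0, 0, (-1), 0) (.node (3, 3, 1, 0) .nil .nil) (.node (0, 0, 1, 0) .nil .nil)) (.node (2, 2, (-1), 0) (.node (0, 0, 1, 0) .nil .nil) (.node (7, 7, 1, 0) .nil .nil))) (.node (0, 0, (-1), 0) (.node (1, 1, (-1), 0) (.node (1, 1, 1, 0) .nil .nil) (.node (0, 0, 1, 0) .nil .nil)) (.node (6, 6, (-1), 0) (.node (0, 0, 1, 0) .nil .nil) .nil)))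 (.node (0, 0, (-1), 0) (.node (0, 0, (-1), 0) (.node (1, 1, (-1), 0) (.node (1, 1, 1, 0) .nil .nil) (.node (0, 0, 1, 0) .nil .nil)) (.node (4, 4, (-1), 0) (.node (0, 0, 1, 0) .nil .nil) (.node (7, 7, 1, 0) .nil .nil))) (.node (0, 0, (-1), 0) (.node (1, 1, (-1), 0) (.node (1, 1, 1, 0) .nil .nil) (.node (0, 0, 1, 0) .nil .nil)) (.node (4, 4, 1, 0) (.node (0, 0, 1, 0) .nil .nil) .nil)))))))
  order := [(162, none), (77, some (0, 162)), (163, some (2, 162)), (76, some (2, 77)), (135, some (0, 163)), (164, some (3, 163)), (104, some (0, 76)), (75, some (3, 76)), (136, some (3, 135)), (169, some (1, 164)), (165, some (4, 164)), (103, some (3, 104)), (70, some (1, 75)), (74, some (4, 75)), (147, some (1, 136)), (130, some (2, 136)), (137, some (4, 136)), (170, some (4, 169)), (166, some (5, 165)), (92, some (1, 103)), (109, some (2, 103)), (102, some (4, 103)), (69, some (4, 70)), (73, some (5, 74)), (142, some (2, 147)), (148, some (4, 147)),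 (131, some (4, 130)), (138, some (5, 137)), (174, some (3, 170)), (171, some (5, 170)), (167, some (6, 166)), (97, some (2, 92)), (91, some (4, 92)), (108, some (4, 109)), (101, some (5, 102)), (65, some (3, 69)), (68, some (5, 69)), (72, some (6, 73)), (141, some (3, 142)), (143, some (4, 142)), (152, some (3, 148)), (149, some (5, 148)), (126, some (3, 131)), (132, some (5, 131)), (139, some (6, 138)), (184, some (2, 174)), (175, some (5, 174)), (172, some (6, 171)), (168, some (7, 167)), (98, some (3, 97)), (96, some (4, 97)), (87, some (3, 91)), (90, some (5, 91)), (113, some (3, 108)), (107, some (5, 108)), (100, some (6, 101)), (55, some (2, 65)), (64, some (5, 65)), (67, some (6, 68)), (71, some (7, 72)), (144, some (5, 143)), (153, some (5, 152)), (150, some (6, 149)), (127, some (5, 126)), (133, some (6, 132)), (140, some (7, 139)), (185, some (5, 184)), (178, some (4, 175)), (176, some (6, 175)), (173, some (7, 172)), (95, some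 (5, 96)), (86, some (5, 87)), (89, some (6, 90)), (112, some (5, 113)), (106, some (6, 107)), (99, some (7, 100)), (54, some (5, 55)), (61, some (4, 64)), (63, some (6, 64)), (66, some (7, 67)), (145, some (6, 144)), (156, some (4, 153)), (154, some (6, 153)), (151, some (7, 150)), (123, some (4, 127)), (128, some (6, 127)), (134, some (7, 133)), (188, some (4, 185)), (186, some (6, 185)), (179, some (6, 178)), (177, some (7, 176)), (94, some (6, 95)), (83, some (4, 86)), (85, some (6, 86)), (88, some (7, 89)), (116, some (4, 112)), (111, some (6, 112)), (105, some (7, 106)), (51, some (4, 54)), (53, some (6, 54)), (60, some (6, 61)), (62, some (7, 63)), (146, some (7, 145)), (157, some (6, 156)), (155, some (7, 154)), (124, some (6, 123)), (129, some (7, 128)), (194, some (3, 188)), (189, some (6, 188)), (187, some (7, 186)), (181, some (5, 179)), (180, some (7, 179)), (93, some (7, 94)), (82, some (6, 83)), (84, some (7, 85)), (115,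 some (6, 116)), (110, some (7, 111)), (45, some (3, 51)), (50, some (6, 51)), (52, some (7, 53)), (58, some (5, 60)), (59, some (7, 60)), (159, some (5, 157)), (158, some (7, 157)), (121, some (5, 124)), (125, some (7, 124)), (204, some (1, 194)), (195, some (6, 194)), (191, some (5, 189)), (190, some (7, 189)), (182, some (7, 181)), (80, some (5, 82)), (81, some (7, 82)), (118, some (5, 115)), (114, some (7, 115)), (35, some (1, 45)), (44, some (6, 45)), (48, some (5, 50)), (49, some (7, 50)), (57, some (7, 58)), (160, some (7, 159)), (122, some (7, 121)), (205, some (6, 204)), (197, some (5, 195)), (196, some (7, 195)), (192, some (7, 191)), (183, some (6, 182)), (79, some (7, 80)), (117, some (7, 118)), (34, some (6, 35)), (42, some (5, 44)), (43, some (7, 44)), (47, some (7, 48)), (56, some (6, 57)), (161, some (6, 160)), (120, some (6, 122)), (207, some (5, 205)), (206, some (7, 205)), (200, some (4, 197)), (198, some (7, 197)),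 (193, some (6, 192)), (78, some (6, 79)), (119, some (6, 117)), (32, some (5, 34)), (33, some (7, 34)), (39, some (4, 42)), (41, some (7, 42)), (46, some (6, 47)), (210, some (4, 207)), (208, some (7, 207)), (201, some (7, 200)), (199, some (6, 198)), (29, some (4, 32)), (31, some (7, 32)), (38, some (7, 39)), (40, some (6, 41)), (214, some (3, 210)), (211, some (7, 210)), (209, some (6, 208)), (202, some (6, 201)), (25, some (3, 29)), (28, some (7, 29)), (30, some (6, 31)), (37, some (6, 38)), (219, some (2, 214)), (215, some (7, 214)), (212, some (6, 211)), (203, some (5, 202)), (20, some (2, 25)), (24, some (7, 25)), (27, some (6, 28)), (36, some (5, 37)), (226, some (0, 219)), (220, some (7, 219)), (216, some (6, 215)), (213, some (5, 212)), (13, some (0, 20)), (19, some (7, 20)), (23, some (6, 24)), (26, some (5, 27)), (227, some (7, 226)), (221, some (6, 220)), (217, some (5, 216)), (12, some (7, 13)), (18, some (6, 19)), (22, some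 (5, 23)), (228, some (6, 227)), (222, some (5, 221)), (218, some (4, 217)), (11, some (6, 12)), (17, some (5, 18)), (21, some (4, 22)), (229, some (5, 228)), (223, some (4, 222)), (10, some (5, 11)), (16, some (4, 17)), (230, some (4, 229)), (224, some (3, 223)), (9, some (4, 10)), (15, some (3, 16)), (231, some (3, 230)), (225, some (1, 224)), (8, some (3, 9)), (14, some (1, 15)), (233, some (1, 231)), (232, some (2, 231)), (6, some (1, 8)), (7, some (2, 8)), (234, some (2, 233)), (5, some (2, 6)), (235, some (3, 234)), (4, some (3, 5)), (236, some (4, 235)), (3, some (4, 4)), (237, some (5, 236)), (2, some (5, 3)), (238, some (6, 237)), (1, some (6, 2)), (239, some (7, 238)), (0, some (7, 1))]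

end Cfsg.Agent.Chev.E8
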