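import Cfsg.Agent.Lib.Chev.Tables

/-! Generated tables for the datum of type F4. -/

set_option autoImplicit false

namespace Cfsg.Agent.Chev.F4

def X0 : Tr (List (ℕ × ℤ × ℕ)) := (.node [] (.node [] (.node [(4, 1, 1)] (.node [] (.node [] .nil (.node [(20, 1, 1)] .nil .nil)) .nil) (.node [] (.node [] (.node [(8, (-1), 1)] .nil .nil) (.node [(0, (-1), 1), (1, (-2), 1), (2, (-3), 1), (3, (-2), 1), (4, (-1), 2)] .nil .nil)) (.node [] (.node [(13, 1, 1)] .nil .nil) .nil))) (.node [] (.node [] (.node [] (.node [(7, 1, 1)] .nil .nil) (.node [(25, (-1), 1)] .nil .nil)) .nil) .nil)) (.node [] (.node [] (.node [] (.node [] .nil (.node [(22, (-1), 1)] .nil .nil)) (.node [] (.node [(11, 1, 1)] .nil .nil) .nil)) (.node [] (.node [] (.node [(9, 1, 1)] .nil .nil) .nil) (.node [(5, 1, 1)] (.node [(15, (-1), 1)] .nil .nil) .nil))) (.node [] (.node [] (.node [] .nil (.node [(27, (-1), 1)] .nil .nil)) (.node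 [] (.node [(12, (-1), 1)] .nil .nil) .nil)) (.node [] .nil (.node [(6, 1, 1)] (.node [(19, (-1), 1)] .nil .nil) .nil)))))
def X1 : Tr (List (ℕ × ℤ × ℕ)) := (.node [] (.node [] (.node [(5, (-1), 1)] (.node [] (.node [] .nil (.node [(21, 1, 1)] .nil .nil)) (.node [] (.node [(11, 1, 1)] .nil .nil) .nil)) (.node [] (.node [] .nil (.node [(28, (-1), 1)] .nil .nil)) (.node [(4, 1, 1)] (.node [(14, 1, 1)] .nil .nil) .nil))) (.node [] (.node [] (.node [] .nil (.node [(26, (-1), 1)] .nil .nil)) (.node [] (.node [(12, (-1), 1)] .nil .nil) .nil)) (.node [] .nil (.node [(6, 1, 1)] (.node [(19, (-1), 1)] .nil .nil) .nil)))) (.node [(5, 1, 1)] (.node [] (.node [] (.node [] (.node [(7, 1, 1)] .nil .nil) (.node [(23, (-1), 1)] .nil .nil)) .nil) (.node [] (.node [] (.node [(10, 1, 1)] .nil .nil) .nil) (.node [] (.node [(16, (-1), 1)] .nil .nil) .nil))) (.node [] (.node [] (.node [] (.node [(8, (-1), 1)] .nil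 .nil) (.node [(0, (-1), 1), (1, (-2), 1), (2, (-3), 1), (3, (-1), 1), (5, (-1), 2)] .nil .nil)) .nil) .nil)))
def X2 : Tr (List (ℕ × ℤ × ℕ)) := (.node [] (.node [(6, 2, 1)] (.node [] (.node [] (.node [] (.node [(7, 1, 1)] .nil .nil) .nil) .nil) (.node [] (.node [] (.node [(10, 1, 1)] .nil .nil) (.node [(30, (-1), 1)] .nil .nil)) .nil)) (.node [] (.node [] (.node [] .nil (.node [(0, (-1), 1), (1, (-2), 1), (2, (-2), 1), (3, (-1), 1), (6, (-1), 2)] .nil .nil)) (.node [(4, 1, 1)] (.node [(13, (-1), 1)] .nil .nil) .nil)) (.node [] .nil (.node [] (.node [(20, (-1), 1)] .nil .nil) .nil)))) (.node [(6, (-1), 1)] (.node [] (.node [] (.node [] .nil (.node [(24, (-1), 1)] .nil .nil)) .nil) (.node [] .nil (.node [] (.node [(17, (-1), 1)] .nil .nil) .nil))) (.node [] (.node [] (.node [] (.node [(9, (-1), 1)] .nil .nil) (.node [(29, (-1), 1)] .nil .nil)) (.node [(5, 1, 1)] (.node [(14, 1, 1)] .nil .nil)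 .nil)) (.node [] (.node [] (.node [(11, 1, 1)] .nil .nil) .nil) (.node [] (.node [(21, 1, 1)] .nil .nil) .nil)))))
def X3 : Tr (List (ℕ × ℤ × ℕ)) := (.node [(7, 1, 1)] (.node [] (.node [] (.node [] (.node [] (.node [(8, 2, 1)] .nil .nil) (.node [(24, (-1), 1), (6, (-1), 2)] .nil .nil)) (.node [(5, 2, 1)] (.node [(13, (-1), 1)] .nil .nil) .nil)) (.node [] (.node [] .nil (.node [(33, (-1), 1), (10, (-1), 2)] .nil .nil)) (.node [] (.node [(17, (-1), 1)] .nil .nil) .nil))) (.node [] (.node [] (.node [] (.node [(10, 2, 1)] .nil .nil) (.node [(31, (-1), 1), (8, (-1), 2)] .nil .nil)) (.node [] (.node [(15, (-1), 1)] .nil .nil) .nil)) (.node [] (.node [] (.node [(11, 1, 1)] .nil .nil) .nil) (.node [] (.node [(22, (-1), 1), (4, (-1), 2)] .nil .nil) .nil)))) (.node [] (.node [] (.node [] (.node [] (.node [(9, (-2), 1)] .nil .nil) (.node [(0, (-2), 1), (1, (-3), 1), (2, (-4), 1), (3, (-2), 1), (7, (-1),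 2)] .nil .nil)) (.node [(6, 2, 1)] (.node [(14, 1, 1)] .nil .nil) .nil)) (.node [] .nil (.node [] (.node [(18, (-1), 1)] .nil .nil) .nil))) (.node [] (.node [] (.node [] .nil (.node [(32, (-1), 1), (9, 1, 2)] .nil .nil)) (.node [] (.node [(16, 1, 1)] .nil .nil) .nil)) (.node [] (.node [(4, 2, 1)] (.node [(12, 1, 1)] .nil .nil) .nil) (.node [] (.node [(23, 1, 1), (5, 1, 2)] .nil .nil) .nil)))))
def X4 : Tr (List (ℕ × ℤ × ℕ)) := (.node [(8, 2, 1)] (.node [(8, (-2), 1)] (.node [] (.node [] (.node [] .nil (.node [(0, (-1), 1), (1, (-1), 1), (2, (-2), 1), (3, (-1), 1), (8, (-1), 2)] .nil .nil)) (.node [] (.node [(15, (-1), 1)] .nil .nil) .nil)) (.node [] (.node [] .nil (.node [(35, 1, 1)] .nil .nil)) (.node [] (.node [(18, (-1), 1)] .nil .nil) .nil))) (.node [] .nil (.node [] (.node [(5, (-1), 1)] (.node [(12, 1, 1)] .nil .nil) .nil) (.node [(9, 1, 1)] (.node [(25, 1, 1)] .nil .nil) .nil)))) (.node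 [(8, 1, 1)] (.node [] (.node [] (.node [] .nil (.node [(31, (-1), 1)] .nil .nil)) (.node [(7, 1, 1)] (.node [(16, 1, 1)] .nil .nil) .nil)) (.node [] (.node [(4, (-1), 1)] .nil .nil) .nil)) (.node [] (.node [] (.node [] .nil (.node [(34, 1, 1)] .nil .nil)) .nil) (.node [] .nil (.node [(10, (-1), 1)] (.node [(26, (-1), 1)] .nil .nil) .nil)))))
def X5 : Tr (List (ℕ × ℤ × ℕ)) := (.node [(9, 2, 1)] (.node [] (.node [(9, 1, 1)] (.node [] (.node [] .nil (.node [(29, (-1), 1)] .nil .nil)) (.node [(7, (-1), 1)] .nil .nil)) (.node [] (.node [(4, 1, 1)] .nil (.node [(36, (-1), 1)] .nil .nil)) .nil)) (.node [] (.node [] (.node [] .nil (.node [(34, 1, 1)] .nil .nil)) .nil) (.node [] (.node [(6, (-1), 1)] (.node [(13, 1, 1)] .nil .nil) .nil) (.node [] (.node [(27, (-1), 1)] .nil .nil) .nil)))) (.node [(9, (-1), 1)] (.node [] (.node [] (.node [] .nil (.node [(32, 1, 1)] .nil .nil)) (.node [] (.node [(17,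 1, 1)] .nil .nil) .nil)) (.node [] .nil (.node [(10, 1, 1)] .nil .nil))) (.node [] (.node [] .nil (.node [(8, 1, 1)] (.node [(18, (-1), 1)] .nil .nil) .nil)) (.node [] (.node [] (.node [(15, (-1), 1)] .nil .nil) .nil) (.node [] (.node [(0, (-1), 1), (1, (-1), 1), (2, (-1), 1), (3, (-1), 1), (9, (-1), 2)] .nil .nil) .nil)))))
def X6 : Tr (List (ℕ × ℤ × ℕ)) := (.node [(10, 2, 1)] (.node [] (.node [(10, (-1), 1)] (.node [] (.node [] .nil (.node [(30, 1, 1)] .nil .nil)) (.node [] (.node [(17, 1, 1)] .nil .nil) .nil)) (.node [] (.node [(5, 1, 1)] .nil .nil) (.node [(9, 1, 1)] .nil .nil))) (.node [] (.node [] (.node [] .nil (.node [(35, (-1), 1)] .nil .nil)) (.node [(8, (-1), 1)] (.node [(18, (-1), 1)] .nil .nil) .nil)) (.node [] (.node [] (.node [(14, 1, 1)] .nil .nil) .nil) (.node [] (.node [(0, (-1), 1), (1, (-1), 1), (2, (-1), 1), (10, (-1), 2)] .nil .nil) .nil)))) (.node [] (.node [] (.node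 [] (.node [] .nil (.node [(33, (-1), 1)] .nil .nil)) .nil) (.node [] (.node [(6, 1, 1)] .nil .nil) .nil)) (.node [] (.node [] (.node [] .nil (.node [(36, (-1), 1)] .nil .nil)) .nil) (.node [] (.node [(7, 1, 1)] (.node [(16, (-1), 1)] .nil .nil) .nil) (.node [] (.node [(28, (-1), 1)] .nil .nil) .nil)))))
def X7 : Tr (List (ℕ × ℤ × ℕ)) := (.node [(11, (-1), 1)] (.node [(11, 1, 1)] (.node [] (.node [] (.node [(4, 2, 1)] (.node [(12, 1, 1)] .nil .nil) .nil) (.node [] (.node [(20, 2, 1)] .nil .nil) .nil)) (.node [] (.node [] (.node [(16, (-1), 1), (5, (-1), 2)] .nil .nil) (.node [(40, (-1), 1), (21, 1, 2)] .nil .nil)) (.node [] (.node [(24, (-1), 1)] .nil .nil) .nil))) (.node [] (.node [] (.node [(6, 2, 1)] (.node [(14, 1, 1)] .nil .nil) (.node [(38, (-1), 1), (19, 1, 2)] .nil .nil)) (.node [] (.node [(22, (-1), 1)] .nil .nil) .nil)) .nil)) (.node [] (.node [] (.node [] (.node [(5, 2, 1)] (.node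 [(13, (-1), 1)] .nil .nil) (.node [(37, (-1), 1)] .nil .nil)) (.node [] (.node [(21, (-2), 1)] .nil .nil) .nil)) (.node [] (.node [] (.node [(17, 1, 1), (6, 1, 2)] .nil .nil) .nil) (.node [] (.node [(0, (-1), 1), (1, (-3), 1), (2, (-4), 1), (3, (-2), 1), (11, (-1), 2)] .nil .nil) .nil))) (.node [] (.node [] (.node [(7, 1, 1)] (.node [(15, 1, 1), (4, 1, 2)] .nil .nil) (.node [(39, (-1), 1), (20, (-1), 2)] .nil .nil)) (.node [] (.node [(23, 1, 1)] .nil .nil) .nil)) (.node [] (.node [] (.node [(19, (-2), 1)] .nil .nil) .nil) .nil))))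
def X8 : Tr (List (ℕ × ℤ × ℕ)) := (.node [] (.node [(12, (-1), 1)] (.node [] (.node [] (.node [] .nil (.node [(37, (-1), 1), (19, 1, 2)] .nil .nil)) (.node [] (.node [(22, 1, 1)] .nil .nil) .nil)) (.node [] (.node [] .nil (.node [(42, 1, 1), (26, (-1), 2)] .nil .nil)) (.node [] (.node [(0, (-1), 1), (1, (-2), 1), (2, (-4), 1), (3, (-2), 1), (12, (-1), 2)] .nil .nil) .nil))) (.node [] (.node [] (.node [(7, 1, 1)] (.node [(16, (-1), 1)] .nil .nil) .nil) (.node [] (.node [(25, 2, 1)] .nil .nil) .nil)) (.node [(4, (-2), 1)] (.node [] (.node [(19, (-2), 1)] .nil .nil) .nil) (.node [(13, 1, 1), (4, (-1), 2)] .nil .nil)))) (.node [(12, 1, 1)] (.node [] (.node [] (.node [] (.node [(15, 1, 1)] .nil .nil) (.node [(38, (-1), 1)] .nil .nil)) (.node [(11, 1, 1)] (.node [(23, (-1), 1)] .nil .nil) .nil)) (.node [] (.node [] (.node [(18, 1, 1), (8, 1, 2)] .nil .nil) .nil) (.node [] (.node [(31, (-1), 1)]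 .nil .nil) .nil))) (.node [] (.node [] (.node [(8, 2, 1)] .nil (.node [(41, 1, 1), (25, 1, 2)] .nil .nil)) (.node [] (.node [(26, (-2), 1)] .nil .nil) .nil)) (.node [(5, (-2), 1)] .nil (.node [(14, (-1), 1), (5, 1, 2)] .nil .nil)))))
def X9 : Tr (List (ℕ × ℤ × ℕ)) := (.node [] (.node [(13, 1, 1)] (.node [(13, 1, 1)] (.node [] (.node [] (.node [(15, 1, 1)] .nil .nil) .nil) (.node [(11, (-1), 1)] .nil .nil)) (.node [] (.node [] (.node [(18, 1, 1), (9, 1, 2)] .nil .nil) (.node [(43, (-1), 1), (29, 1, 2)] .nil .nil)) (.node [] (.node [(29, (-2), 1)] .nil .nil) .nil))) (.node [] (.node [] (.node [] (.node [(17, (-1), 1)] .nil .nil) (.node [(41, 1, 1), (27, (-1), 2)] .nil .nil)) (.node [] (.node [(27, (-2), 1)] .nil .nil) .nil)) (.node [] (.node [] (.node [(20, (-2), 1)] .nil .nil) .nil) .nil))) (.node [(13, (-1), 1)] (.node [] (.node [] (.node [(7, (-1), 1)] .nil (.node [(39, 1, 1)] .nil .nil))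 (.node [] (.node [(24, (-1), 1)] .nil .nil) .nil)) (.node [(4, 2, 1)] .nil (.node [(14, 1, 1), (6, (-1), 2)] (.node [(32, 1, 1)] .nil .nil) .nil))) (.node [] (.node [] (.node [(9, 2, 1)] .nil .nil) (.node [(12, 1, 1), (4, 1, 2)] (.node [(0, (-1), 1), (1, (-2), 1), (2, (-2), 1), (3, (-2), 1), (13, (-1), 2)] .nil .nil) .nil)) (.node [(6, (-2), 1)] (.node [] (.node [(22, 1, 1)] .nil .nil) .nil) (.node [] (.node [(37, (-1), 1), (20, 1, 2)] .nil .nil) .nil)))))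
def X10 : Tr (List (ℕ × ℤ × ℕ)) := (.node [] (.node [(14, 1, 1)] (.node [(14, (-1), 1)] (.node [] (.node [(7, 1, 1)] (.node [(16, 1, 1)] .nil .nil) .nil) (.node [] (.node [(24, (-1), 1)] .nil .nil) .nil)) (.node [] .nil (.node [(13, 1, 1), (6, 1, 2)] (.node [(30, 2, 1)] .nil .nil) .nil))) (.node [] (.node [] (.node [] .nil (.node [(42, (-1), 1), (28, 1, 2)] .nil .nil)) (.node [(12, (-1), 1), (5, (-1), 2)] (.node [(0, (-1), 1), (1, (-2), 1), (2, (-2), 1), (14, (-1), 2)] .nil .nil) .nil)) (.node [(6, 2, 1)] (.node [] (.node [(21, (-2), 1)] .nil .nil) .nil) (.node [] (.node [(37, (-1), 1), (21, 1, 2)] .nil .nil) .nil)))) (.node [] (.node [] (.node [] (.node [] (.node [(17, (-1), 1)] .nil .nil) (.node [(40, (-1), 1)] .nil .nil)) .nil) (.node [(5, 2, 1)] .nil (.node [] (.node [(33, (-1), 1)] .nil .nil) .nil))) (.node [] (.node [] (.node [(10, 2, 1)] (.node [(18, 1, 1), (10, 1, 2)] .nil .nil) (.node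 [(43, (-1), 1), (30, (-1), 2)] .nil .nil)) (.node [] (.node [(28, (-2), 1)] .nil .nil) .nil)) (.node [] (.node [(11, 1, 1)] (.node [(23, 1, 1)] .nil .nil) .nil) .nil))))
def X11 : Tr (List (ℕ × ℤ × ℕ)) := (.node [(15, 1, 1)] (.node [(15, (-1), 1)] (.node [(15, 1, 1)] (.node [] (.node [] .nil (.node [(39, 1, 1), (27, (-1), 2)] .nil .nil)) (.node [(12, 1, 1)] (.node [(27, (-2), 1)] .nil .nil) .nil)) (.node [(4, (-2), 1)] (.node [] .nil (.node [(44, 1, 1), (34, (-1), 2)] .nil .nil)) (.node [] (.node [(32, (-1), 1)] .nil .nil) .nil))) (.node [] (.node [] (.node [(9, (-2), 1)] (.node [(18, 1, 1)] .nil .nil) .nil) .nil) (.node [] (.node [(11, 1, 1), (4, (-1), 2)] (.node [(22, (-1), 1)] .nil .nil) .nil) .nil))) (.node [] (.node [] (.node [] (.node [(8, (-2), 1)] .nil (.node [(41, 1, 1)] .nil .nil)) (.node [(13, 1, 1)] (.node [(0, (-1), 1), (1, (-1), 1), (2, (-2), 1), (3, (-2), 1), (15, (-1), 2)]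 .nil .nil) .nil)) (.node [] .nil (.node [(16, 1, 1), (8, (-1), 2)] (.node [(34, (-2), 1)] .nil .nil) .nil))) (.node [] (.node [] .nil (.node [] (.node [(31, (-1), 1)] .nil .nil) .nil)) (.node [(7, (-1), 1)] (.node [] (.node [(25, (-2), 1)] .nil .nil) .nil) (.node [(17, 1, 1), (9, (-1), 2)] (.node [(38, 1, 1), (25, (-1), 2)] .nil .nil) .nil)))))
def X12 : Tr (List (ℕ × ℤ × ℕ)) := (.node [(16, 1, 1)] (.node [(16, (-1), 1)] (.node [(16, (-1), 1)] (.node [] (.node [(8, 2, 1)] .nil (.node [(40, (-1), 1), (28, 1, 2)] .nil .nil)) (.node [] (.node [(0, (-1), 1), (1, (-1), 1), (2, (-2), 1), (16, (-1), 2)] .nil .nil) .nil)) (.node [(5, (-2), 1)] .nil (.node [(15, 1, 1), (8, 1, 2)] (.node [(33, 1, 1)] .nil .nil) .nil))) (.node [] (.node [] (.node [(10, (-2), 1)] .nil .nil) (.node [] (.node [(31, (-1), 1)] .nil .nil) .nil)) (.node [(7, 1, 1)] (.node [] (.node [(23, (-1), 1)] .nil .nil) .nil) (.node [(17,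 1, 1), (10, (-1), 2)] (.node [(38, 1, 1), (26, (-1), 2)] .nil .nil) .nil)))) (.node [(16, 1, 1)] (.node [] (.node [] (.node [] (.node [(18, 1, 1)] .nil .nil) (.node [(42, (-1), 1)] .nil .nil)) (.node [(14, 1, 1)] (.node [(28, (-2), 1)] .nil .nil) .nil)) (.node [] (.node [(11, (-1), 1), (5, 1, 2)] .nil .nil) (.node [] (.node [(35, 2, 1)] .nil .nil) .nil))) (.node [] (.node [] (.node [] .nil (.node [(44, 1, 1), (35, 1, 2)] .nil .nil)) .nil) (.node [] (.node [(12, (-1), 1)] (.node [(26, (-2), 1)] .nil .nil) .nil) .nil))))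
def X13 : Tr (List (ℕ × ℤ × ℕ)) := (.node [(17, 1, 1)] (.node [(17, 1, 1)] (.node [] (.node [] (.node [(9, 2, 1)] (.node [(18, 1, 1)] .nil .nil) .nil) (.node [(14, (-1), 1)] (.node [(29, (-2), 1)] .nil .nil) .nil)) (.node [(6, (-2), 1)] (.node [(11, 1, 1), (6, (-1), 2)] .nil .nil) .nil)) (.node [] (.node [] (.node [] .nil (.node [(44, 1, 1), (36, (-1), 2)] .nil .nil)) (.node [(15, 1, 1), (9, 1, 2)] (.node [(32, 1, 1)] .nil .nil) .nil)) (.node [] (.node [] (.node [(24, (-1), 1)] .nil .nil) .nil) (.node [] (.node [(39, (-1), 1), (29, 1, 2)] .nil .nil) .nil)))) (.node [(17, (-1), 1)] (.node [] (.node [] (.node [(10, 2, 1)] .nil (.node [(43, 1, 1)] .nil .nil)) (.node [] (.node [(30, (-2), 1)] .nil .nil) .nil)) (.node [(7, (-1), 1)] .nil (.node [] (.node [(36, (-2), 1)] .nil .nil) .nil))) (.node [] (.node [] .nil (.node [(16, 1, 1), (10, 1, 2)] (.node [(33, 1, 1)] .nil .nil) .nil)) (.node [] (.node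 [(13, (-1), 1)] (.node [(0, (-1), 1), (1, (-1), 1), (17, (-1), 2)] .nil .nil) .nil) (.node [] (.node [(40, (-1), 1), (30, 1, 2)] .nil .nil) .nil)))))
def X14 : Tr (List (ℕ × ℤ × ℕ)) := (.node [(18, 2, 1)] (.node [(18, (-1), 1)] (.node [] (.node [] (.node [] .nil (.node [(43, 1, 1), (36, (-1), 2)] .nil .nil)) (.node [(16, 1, 1)] (.node [(32, (-1), 1)] .nil .nil) .nil)) (.node [(7, (-1), 1)] (.node [(12, 1, 1), (8, (-1), 2)] .nil .nil) (.node [] (.node [(36, (-2), 1)] .nil .nil) .nil))) (.node [] (.node [] .nil (.node [] (.node [(34, (-2), 1)] .nil .nil) .nil)) (.node [(9, (-2), 1)] (.node [(14, 1, 1), (10, (-1), 2)] (.node [(0, (-1), 1), (18, (-1), 2)] .nil .nil) .nil) (.node [] (.node [(41, 1, 1), (34, (-1), 2)] .nil .nil) .nil)))) (.node [] (.node [] (.node [] (.node [] .nil (.node [(44, 1, 1)] .nil .nil)) (.node [(17, 1, 1)] (.node [(33, (-1), 1)] .nil .nil) .nil)) (.node [(8, (-2), 1)]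 (.node [(13, 1, 1), (9, (-1), 2)] .nil .nil) .nil)) (.node [] (.node [] .nil (.node [] (.node [(35, (-2), 1)] .nil .nil) .nil)) (.node [(10, (-2), 1)] (.node [(15, 1, 1)] (.node [(31, (-1), 1)] .nil .nil) .nil) (.node [] (.node [(42, 1, 1), (35, (-1), 2)] .nil .nil) .nil)))))
def X15 : Tr (List (ℕ × ℤ × ℕ)) := (.node [(19, (-2), 1)] (.node [] (.node [] .nil (.node [] (.node [] (.node [(26, (-1), 1)] .nil .nil) (.node [(46, 1, 1)] .nil .nil)) (.node [] (.node [(37, 1, 1)] .nil .nil) .nil))) (.node [] (.node [(4, (-1), 1)] (.node [(11, (-1), 1)] (.node [(23, (-1), 1)] .nil .nil) .nil) .nil) (.node [] .nil (.node [(20, 1, 1)] .nil .nil)))) (.node [(19, 1, 1)] (.node [] (.node [] (.node [] (.node [(22, 1, 1)] .nil .nil) .nil) .nil) (.node [] (.node [] (.node [(1, (-1), 1), (2, (-2), 1), (3, (-1), 1), (19, (-1), 2)] .nil .nil) .nil) (.node [] (.node [(38, 1, 1)] .nil .nil) .nil))) (.node [] (.node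 [(5, (-1), 1)] (.node [(12, (-1), 1)] (.node [(25, 1, 1)] .nil .nil) (.node [(45, 1, 1)] .nil .nil)) .nil) (.node [] .nil (.node [(21, (-1), 1)] .nil .nil)))))
def X16 : Tr (List (ℕ × ℤ × ℕ)) := (.node [(20, (-2), 1)] (.node [(20, 2, 1)] (.node [(20, 1, 1)] (.node [] (.node [] (.node [(22, 1, 1)] .nil .nil) .nil) .nil) (.node [] (.node [] (.node [(1, (-1), 1), (2, (-1), 1), (3, (-1), 1), (20, (-1), 2)] .nil .nil) (.node [(47, (-1), 1)] .nil .nil)) .nil)) (.node [] (.node [] (.node [] (.node [(24, (-1), 1)] .nil .nil) (.node [(45, 1, 1)] .nil .nil)) .nil) .nil)) (.node [(20, (-1), 1)] (.node [] (.node [(4, 1, 1)] (.node [(11, 1, 1)] .nil .nil) .nil) (.node [] (.node [] (.node [(29, (-1), 1)] .nil .nil) .nil) (.node [(21, 1, 1)] (.node [(39, (-1), 1)] .nil .nil) .nil))) (.node [] (.node [(6, (-1), 1)] (.node [(13, (-1), 1)] (.node [(27, (-1), 1)] .nil .nil) .nil) (.node [(19, 1, 1)] (.node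 [(37, 1, 1)] .nil .nil) .nil)) .nil)))
def X17 : Tr (List (ℕ × ℤ × ℕ)) := (.node [(21, (-2), 1)] (.node [(21, 2, 1)] (.node [(21, (-1), 1)] (.node [] (.node [(11, (-1), 1)] (.node [(23, 1, 1)] .nil .nil) .nil) .nil) (.node [] (.node [] (.node [(28, (-1), 1)] .nil .nil) .nil) (.node [(20, 1, 1)] .nil .nil))) (.node [] (.node [(6, 1, 1)] (.node [] .nil (.node [(46, (-1), 1)] .nil .nil)) (.node [(19, (-1), 1)] (.node [(37, 1, 1)] .nil .nil) .nil)) .nil)) (.node [] (.node [] (.node [(5, 1, 1)] (.node [] (.node [(24, (-1), 1)] .nil .nil) .nil) .nil) (.node [] (.node [] (.node [(30, 1, 1)] .nil .nil) .nil) (.node [] (.node [(40, 1, 1)] .nil .nil) .nil))) (.node [] (.node [] (.node [(14, (-1), 1)] (.node [(1, (-1), 1), (2, (-1), 1), (21, (-1), 2)] .nil .nil) (.node [(47, (-1), 1)] .nil .nil)) .nil) .nil)))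
def X18 : Tr (List (ℕ × ℤ × ℕ)) := (.node [(22, (-1), 1)] (.node [] (.node [(22, 1, 1)] (.node [(4, (-2), 1)] (.node [] (.node [(25, (-2), 1)] .nil .nil) .nil) (.node [(19, 2, 1)] .nil .nil)) (.node [] (.node [] (.node [(31, (-1), 1), (25, 1, 2)] .nil .nil) (.node [(48, 1, 1), (45, 1, 2)] .nil .nil)) (.node [] (.node [(39, (-1), 1)] .nil .nil) .nil))) (.node [] (.node [] (.node [(13, 1, 1)] (.node [(1, (-1), 1), (2, (-2), 1), (3, (-2), 1), (22, (-1), 2)] .nil .nil) .nil) .nil) .nil)) (.node [] (.node [] (.node [] (.node [(12, 1, 1)] (.node [(27, (-2), 1)] .nil .nil) (.node [(45, 2, 1)] .nil .nil)) (.node [(20, 2, 1)] (.node [(37, 1, 1)] .nil .nil) .nil)) (.node [] (.node [] (.node [(32, (-1), 1), (27, 1, 2)] .nil .nil) .nil) (.node [(23, 1, 1), (19, 1, 2)] (.node [(41, 1, 1)] .nil .nil) .nil))) (.node [] (.node [(7, (-1), 1), (4, 1, 2)] (.node [(15, (-1), 1)] .nil .nil) (.node [] (.node [(38,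 (-1), 1)] .nil .nil) .nil)) (.node [(11, (-1), 1)] .nil (.node [(24, 1, 1), (20, 1, 2)] .nil .nil)))))
def X19 : Tr (List (ℕ × ℤ × ℕ)) := (.node [(23, (-1), 1)] (.node [] (.node [(23, (-1), 1)] (.node [(5, (-2), 1)] (.node [(12, (-1), 1)] (.node [(26, (-2), 1)] .nil .nil) .nil) (.node [] (.node [(37, 1, 1)] .nil .nil) .nil)) (.node [] .nil (.node [(22, 1, 1), (19, (-1), 2)] (.node [(40, 1, 1)] .nil .nil) .nil))) (.node [] (.node [(7, 1, 1), (5, (-1), 2)] (.node [(14, 1, 1)] (.node [(28, (-2), 1)] .nil .nil) .nil) (.node [] (.node [(38, (-1), 1)] .nil .nil) .nil)) (.node [(11, 1, 1)] .nil (.node [(24, 1, 1), (21, 1, 2)] .nil .nil)))) (.node [(23, 1, 1)] (.node [] (.node [] (.node [] (.node [(1, (-1), 1), (2, (-2), 1), (23, (-1), 2)] .nil .nil) (.node [(46, (-2), 1)] .nil .nil)) (.node [(21, 2, 1)] .nil .nil)) (.node [] (.node [] (.node [(33, 1, 1), (28, (-1), 2)] .nil .nil) .nil) (.node []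 (.node [(42, (-1), 1)] .nil .nil) .nil))) (.node [] (.node [] (.node [(16, (-1), 1)] (.node [(31, (-1), 1), (26, 1, 2)] .nil .nil) (.node [(48, 1, 1), (46, (-1), 2)] .nil .nil)) .nil) (.node [] (.node [(19, (-2), 1)] .nil .nil) .nil))))
def X20 : Tr (List (ℕ × ℤ × ℕ)) := (.node [(24, (-1), 1)] (.node [(24, 2, 1)] (.node [] (.node [(6, (-2), 1)] (.node [(13, (-1), 1)] (.node [(1, (-1), 1), (24, (-1), 2)] .nil .nil) .nil) (.node [(21, (-2), 1)] .nil .nil)) (.node [] (.node [] (.node [(33, 1, 1), (30, (-1), 2)] .nil .nil) .nil) .nil)) (.node [] (.node [] (.node [] (.node [(30, (-2), 1)] .nil .nil) (.node [(48, 1, 1), (47, 1, 2)] .nil .nil)) (.node [(22, 1, 1), (20, (-1), 2)] (.node [(39, 1, 1)] .nil .nil) .nil)) .nil)) (.node [(24, (-1), 1)] (.node [] (.node [(7, (-1), 1), (6, 1, 2)] (.node [(14, (-1), 1)] (.node [(29, (-2), 1)] .nil .nil) (.node [(47, 2, 1)] .nil .nil)) .nil) (.node [(11, (-1),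 1)] .nil (.node [] (.node [(43, 1, 1)] .nil .nil) .nil))) (.node [] (.node [] (.node [(17, (-1), 1)] (.node [(32, 1, 1), (29, (-1), 2)] .nil .nil) .nil) (.node [(23, 1, 1), (21, (-1), 2)] (.node [(40, 1, 1)] .nil .nil) .nil)) (.node [] (.node [(20, (-2), 1)] (.node [(37, 1, 1)] .nil .nil) .nil) .nil))))
def X21 : Tr (List (ℕ × ℤ × ℕ)) := (.node [] (.node [(25, (-2), 1)] (.node [(25, 1, 1)] (.node [] (.node [] .nil (.node [(45, (-1), 1)] .nil .nil)) .nil) (.node [] (.node [] .nil (.node [(49, 1, 1)] .nil .nil)) (.node [] (.node [(41, (-1), 1)] .nil .nil) .nil))) (.node [] (.node [] (.node [(15, (-1), 1)] (.node [(31, 1, 1)] .nil .nil) .nil) .nil) (.node [] (.node [(19, 1, 1)] .nil .nil) (.node [(27, (-1), 1)] .nil .nil)))) (.node [(25, 1, 1)] (.node [] (.node [] .nil (.node [(22, (-1), 1)] (.node [(38, 1, 1)] .nil .nil) .nil)) (.node [] (.node [] (.node [(34, (-1), 1)] .nil .nil) .nil) (.node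 [(26, 1, 1)] .nil .nil))) (.node [(4, (-1), 1)] (.node [(8, 1, 1)] .nil .nil) (.node [(12, 1, 1)] .nil (.node [(2, (-1), 1), (3, (-1), 1), (25, (-1), 2)] .nil .nil)))))
def X22 : Tr (List (ℕ × ℤ × ℕ)) := (.node [] (.node [(26, (-2), 1)] (.node [(26, (-1), 1)] (.node [] (.node [] .nil (.node [(46, 1, 1)] .nil .nil)) (.node [] (.node [(38, 1, 1)] .nil .nil) .nil)) (.node [] .nil (.node [(25, 1, 1)] (.node [(42, 1, 1)] .nil .nil) .nil))) (.node [] (.node [(8, (-1), 1)] (.node [(16, (-1), 1)] .nil .nil) .nil) (.node [(12, (-1), 1)] .nil (.node [(2, (-1), 1), (26, (-1), 2)] .nil .nil)))) (.node [(26, 2, 1)] (.node [] (.node [] (.node [] (.node [(31, 1, 1)] .nil .nil) .nil) (.node [(23, (-1), 1)] .nil .nil)) (.node [] (.node [(19, (-1), 1)] (.node [(35, 1, 1)] .nil .nil) .nil) .nil)) (.node [(5, (-1), 1)] (.node [] (.node [] .nil (.node [(49, 1, 1)] .nil .nil)) .nil) (.node [] .nil (.node [(28,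 (-1), 1)] .nil .nil)))))
def X23 : Tr (List (ℕ × ℤ × ℕ)) := (.node [] (.node [] (.node [(27, 2, 1)] (.node [] .nil (.node [(22, (-1), 1)] .nil .nil)) (.node [] (.node [] (.node [(34, 1, 1)] .nil .nil) (.node [(50, 1, 1)] .nil .nil)) .nil)) (.node [(4, (-1), 1)] (.node [] (.node [] (.node [(32, 1, 1)] .nil .nil) .nil) .nil) (.node [] (.node [(20, (-1), 1)] .nil .nil) .nil))) (.node [(27, (-1), 1)] (.node [] (.node [] (.node [(15, (-1), 1)] .nil .nil) (.node [] (.node [(39, 1, 1)] .nil .nil) .nil)) (.node [] .nil (.node [(3, (-1), 1), (27, (-1), 2)] .nil .nil))) (.node [] (.node [(9, (-1), 1)] .nil (.node [(25, (-1), 1)] (.node [(41, 1, 1)] .nil .nil) .nil)) (.node [(13, (-1), 1)] .nil (.node [(29, 1, 1)] (.node [(45, 1, 1)] .nil .nil) .nil)))))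
def X24 : Tr (List (ℕ × ℤ × ℕ)) := (.node [] (.node [] (.node [(28, (-2), 1)] (.node [] (.node [(16, (-1), 1)] .nil .nil) (.node [] (.node [(40, 1, 1)] .nil .nil) .nil)) (.node [] .nil (.node [(3, 1, 1), (28, (-1), 2)] .nil .nil))) (.node [] (.node [(10, (-1), 1)] .nil (.node [(26, (-1), 1)] (.node [(42, 1, 1)] .nil .nil) .nil)) (.node [(14, (-1), 1)] .nil (.node [(30, 1, 1)] (.node [(46, 1, 1)] .nil .nil) .nil)))) (.node [(28, 1, 1)] (.node [(5, (-1), 1)] (.node [] (.node [] (.node [(33, 1, 1)] .nil .nil) .nil) .nil) (.node [] (.node [(21, (-1), 1)] .nil .nil) .nil)) (.node [] (.node [] (.node [] (.node [(35, 1, 1)] .nil .nil) (.node [(51, 1, 1)] .nil .nil)) .nil) (.node [] (.node [(23, (-1), 1)] .nil .nil) .nil))))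
def X25 : Tr (List (ℕ × ℤ × ℕ)) := (.node [] (.node [(29, 2, 1)] (.node [(29, 1, 1)] (.node [] (.node [] (.node [(32, 1, 1)] .nil .nil) .nil) (.node [(24, (-1), 1)] .nil .nil)) (.node [] (.node [(20, (-1), 1)] (.node [(36, 1, 1)] .nil .nil) .nil) .nil)) (.node [(6, (-1), 1)] (.node [] (.node [] .nil (.node [(50, 1, 1)] .nil .nil)) (.node [(27, 1, 1)] .nil .nil)) .nil)) (.node [(29, (-2), 1)] (.node [] (.node [(9, (-1), 1)] (.node [(17, (-1), 1)] .nil .nil) .nil) (.node [(13, (-1), 1)] .nil (.node [(30, (-1), 1)] .nil .nil))) (.node [] (.node [] .nil (.node [(2, 1, 1), (29, (-1), 2)] (.node [(43, 1, 1)] .nil .nil) .nil)) (.node [] (.node [] (.node [(39, 1, 1)] .nil .nil) .nil) (.node [] (.node [(47, 1, 1)] .nil .nil) .nil)))))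
def X26 : Tr (List (ℕ × ℤ × ℕ)) := (.node [] (.node [(30, 2, 1)] (.node [(30, (-1), 1)] (.node [] (.node [(17, (-1), 1)] (.node [(33, 1, 1)] .nil .nil) .nil) .nil) (.node [] (.node [(21, 1, 1)] .nil .nil) (.node [(29, (-1), 1)] .nil .nil))) (.node [] (.node [] (.node [] .nil (.node [(51, 1, 1)] .nil .nil)) (.node [(2, 1, 1), (3, 1, 1), (30, (-1), 2)] (.node [(43, (-1), 1)] .nil .nil) .nil)) (.node [] .nil (.node [] (.node [(47, (-1), 1)] .nil .nil) .nil)))) (.node [(30, (-1), 1)] (.node [(6, (-1), 1)] (.node [(10, 1, 1)] .nil .nil) (.node [(14, 1, 1)] .nil .nil)) (.node [] (.node [] (.node [] (.node [(36, (-1), 1)] .nil .nil) .nil) (.node [(28, 1, 1)] .nil .nil)) (.node [] (.node [(24, (-1), 1)] (.node [(40, 1, 1)] .nil .nil) .nil) .nil))))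
def X27 : Tr (List (ℕ × ℤ × ℕ)) := (.node [(31, 1, 1)] (.node [(31, (-2), 1)] (.node [] (.node [(8, (-2), 1)] (.node [] .nil (.node [(48, 1, 1), (49, 1, 2)] .nil .nil)) (.node [(26, 2, 1)] (.node [(41, 1, 1)] .nil .nil) .nil)) (.node [(12, (-1), 1)] .nil (.node [] (.node [(44, 1, 1)] .nil .nil) .nil))) (.node [] (.node [] (.node [(18, (-1), 1)] (.node [(35, 2, 1)] .nil .nil) .nil) .nil) (.node [(15, (-1), 1)] (.node [(23, (-1), 1), (26, (-1), 2)] (.node [(38, 1, 1)] .nil .nil) .nil) (.node [(32, (-1), 1), (34, (-1), 2)] .nil .nil)))) (.node [(31, 1, 1)] (.node [] (.node [] (.node [] (.node [(34, 2, 1)] .nil .nil) (.node [(49, 2, 1)] .nil .nil)) (.node [(1, 1, 1), (31, (-1), 2)] (.node [(42, 1, 1)] .nil .nil) .nil)) (.node [] (.node [(22, (-1), 1), (25, (-1), 2)] .nil .nil) .nil)) (.node [(7, (-1), 1), (8, 1, 2)] .nil (.node [(16, (-1), 1)] (.node [(25, 2, 1)] .nil .nil) (.node [(33, (-1),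 1), (35, (-1), 2)] .nil .nil)))))
def X28 : Tr (List (ℕ × ℤ × ℕ)) := (.node [(32, 1, 1)] (.node [] (.node [(32, 1, 1)] (.node [(9, 2, 1)] (.node [] (.node [(34, (-2), 1)] .nil .nil) .nil) (.node [(1, 1, 1), (2, 2, 1), (32, (-1), 2)] .nil .nil)) (.node [(13, 1, 1)] (.node [(22, (-1), 1), (27, (-1), 2)] .nil .nil) .nil)) (.node [(7, (-1), 1), (9, (-1), 2)] (.node [] (.node [] (.node [(36, 2, 1)] .nil .nil) .nil) .nil) (.node [] (.node [(24, 1, 1), (29, 1, 2)] (.node [(39, 1, 1)] .nil .nil) .nil) .nil))) (.node [(32, (-1), 1)] (.node [] (.node [] (.node [(18, (-1), 1)] .nil (.node [(50, 2, 1)] .nil .nil)) (.node [(29, 2, 1)] (.node [(43, 1, 1)] .nil .nil) .nil)) (.node [(15, (-1), 1)] .nil (.node [(33, (-1), 1), (36, (-1), 2)] .nil .nil))) (.node [] (.node [] .nil (.node [(31, (-1), 1), (34, 1, 2)] (.node [(44, (-1), 1)] .nil .nil) .nil)) (.node [(17, 1, 1)] (.node [(27, 2, 1)] (.node [(41,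 (-1), 1)] .nil .nil) .nil) (.node [] (.node [(48, (-1), 1), (50, (-1), 2)] .nil .nil) .nil)))))
def X29 : Tr (List (ℕ × ℤ × ℕ)) := (.node [(33, 1, 1)] (.node [] (.node [(33, (-1), 1)] (.node [(10, (-2), 1)] (.node [(18, (-1), 1)] (.node [(35, (-2), 1)] .nil .nil) .nil) (.node [(28, 2, 1)] (.node [(43, (-1), 1)] .nil .nil) .nil)) (.node [(14, (-1), 1)] (.node [(23, 1, 1), (28, 1, 2)] .nil .nil) (.node [(32, (-1), 1), (36, 1, 2)] .nil .nil))) (.node [] (.node [] .nil (.node [(31, (-1), 1), (35, 1, 2)] (.node [(44, 1, 1)] .nil .nil) .nil)) (.node [(17, 1, 1)] (.node [] (.node [(40, 1, 1)] .nil .nil) .nil) (.node [] (.node [(48, 1, 1), (51, 1, 2)] .nil .nil) .nil)))) (.node [] (.node [(7, (-1), 1), (10, 1, 2)] (.node [] (.node [] (.node [(36, (-2), 1)] .nil .nil) (.node [(51, 2, 1)] .nil .nil)) (.node [(30, 2, 1)] .nil .nil)) (.node [(16, 1, 1)] (.node [(24, 1, 1), (30, 1, 2)] .nil .nil) .nil))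 (.node [] .nil (.node [] (.node [(1, 1, 1), (2, 2, 1), (3, 2, 1), (33, (-1), 2)] (.node [(42, (-1), 1)] .nil .nil) .nil) .nil))))
def X30 : Tr (List (ℕ × ℤ × ℕ)) := (.node [(34, 2, 1)] (.node [(34, (-2), 1)] (.node [(34, 1, 1)] (.node [] (.node [] .nil (.node [(50, (-1), 1)] .nil .nil)) (.node [(31, 1, 1)] .nil .nil)) (.node [(15, (-1), 1)] (.node [(25, (-1), 1)] .nil .nil) .nil)) (.node [(8, 1, 1)] .nil (.node [] (.node [(1, 1, 1), (2, 1, 1), (34, (-1), 2)] (.node [(41, 1, 1)] .nil .nil) .nil) .nil))) (.node [] (.node [] (.node [] .nil (.node [(32, (-1), 1)] (.node [(44, 1, 1)] .nil .nil) .nil)) (.node [] (.node [(27, 1, 1)] .nil .nil) (.node [(35, (-1), 1)] .nil .nil))) (.node [(9, 1, 1)] .nil (.node [(18, (-1), 1)] .nil (.node [(36, 1, 1)] (.node [(49, (-1), 1)] .nil .nil) .nil)))))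
def X31 : Tr (List (ℕ × ℤ × ℕ)) := (.node [(35, 2, 1)] (.node [(35, (-2), 1)] (.node [(35, (-1), 1)] (.node [] (.node [] .nil (.node [(51, (-1), 1)] .nil .nil)) (.node [] (.node [(44, (-1), 1)] .nil .nil) .nil)) (.node [(16, 1, 1)] (.node [(26, 1, 1)] .nil .nil) (.node [(34, (-1), 1)] .nil .nil))) (.node [] .nil (.node [(18, (-1), 1)] (.node [(28, 1, 1)] (.node [(42, 1, 1)] .nil .nil) .nil) (.node [(36, (-1), 1)] (.node [(49, 1, 1)] .nil .nil) .nil)))) (.node [(35, 1, 1)] (.node [(8, 1, 1)] (.node [] .nil (.node [(33, (-1), 1)] .nil .nil)) (.node [] (.node [(1, 1, 1), (2, 1, 1), (3, 1, 1), (35, (-1), 2)] .nil .nil) .nil)) (.node [(10, (-1), 1)] .nil (.node [] (.node [(31, 1, 1)] .nil .nil) .nil))))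
def X32 : Tr (List (ℕ × ℤ × ℕ)) := (.node [(36, 2, 1)] (.node [] (.node [] (.node [] .nil (.node [(33, (-1), 1)] .nil .nil)) (.node [(17, (-1), 1)] (.node [(1, 1, 1), (2, 2, 1), (3, 1, 1), (36, (-1), 2)] .nil .nil) .nil)) (.node [(10, (-1), 1)] (.node [] .nil (.node [(34, 1, 1)] .nil .nil)) (.node [] (.node [(30, (-1), 1)] (.node [(43, 1, 1)] .nil .nil) .nil) (.node [] (.node [(50, 1, 1)] .nil .nil) .nil)))) (.node [(36, (-1), 1)] (.node [(9, (-1), 1)] .nil (.node [(18, (-1), 1)] (.node [(29, 1, 1)] .nil .nil) .nil)) (.node [] (.node [] .nil (.node [(35, (-1), 1)] .nil .nil)) (.node [] (.node [(32, 1, 1)] (.node [(44, 1, 1)] .nil .nil) .nil) (.node [] (.node [(51, 1, 1)] .nil .nil) .nil)))))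
def X33 : Tr (List (ℕ × ℤ × ℕ)) := (.node [(37, (-2), 1)] (.node [(37, 1, 1)] (.node [] (.node [(11, (-1), 1)] (.node [(22, 1, 1)] (.node [(38, (-1), 1)] .nil .nil) .nil) .nil) (.node [] (.node [] (.node [(42, (-1), 1), (46, (-1), 2)] .nil .nil) .nil) (.node [] (.node [(47, 2, 1)] .nil .nil) .nil))) (.node [] (.node [(13, (-1), 1), (20, (-1), 2)] (.node [(24, 1, 1)] (.node [(40, (-1), 1)] .nil .nil) .nil) (.node [] (.node [(45, 2, 1)] .nil .nil) .nil)) (.node [(20, 2, 1)] .nil .nil))) (.node [] (.node [] (.node [(12, (-1), 1), (19, (-1), 2)] (.node [(23, 1, 1)] (.node [(39, (-1), 1)] .nil .nil) .nil) .nil) (.node [(19, 2, 1)] (.node [] (.node [(43, (-1), 1), (47, (-1), 2)] .nil .nil) .nil) (.node [] (.node [(48, 1, 1)] .nil .nil) .nil))) (.node [] (.node [(14, (-1), 1), (21, (-1), 2)] (.node [(0, 1, 1), (37, (-1), 2)] (.node [(41, (-1), 1), (45, (-1), 2)] .nil .nil) .nil) (.node [] (.node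 [(46, 2, 1)] .nil .nil) .nil)) (.node [(21, 2, 1)] .nil .nil))))
def X34 : Tr (List (ℕ × ℤ × ℕ)) := (.node [(38, (-1), 1)] (.node [(38, (-1), 1)] (.node [] (.node [(12, (-1), 1)] (.node [(25, 2, 1)] .nil .nil) (.node [] (.node [(45, (-2), 1)] .nil .nil) .nil)) (.node [(19, 2, 1)] .nil (.node [] (.node [(48, 1, 1)] .nil .nil) .nil))) (.node [] (.node [(15, 1, 1), (25, 1, 2)] (.node [(0, 1, 1), (1, 1, 1), (38, (-1), 2)] (.node [(42, 1, 1)] .nil .nil) .nil) .nil) (.node [(22, (-1), 1)] .nil (.node [(39, (-1), 1), (45, 1, 2)] .nil .nil)))) (.node [(38, 1, 1)] (.node [] (.node [] (.node [(26, 2, 1)] (.node [(41, 1, 1)] .nil .nil) .nil) (.node [(37, (-1), 1)] (.node [(46, (-2), 1)] .nil .nil) .nil)) (.node [] (.node [] (.node [(44, (-1), 1), (49, (-1), 2)] .nil .nil) .nil) (.node [] (.node [(49, 2, 1)] .nil .nil) .nil))) (.node [(11, (-1), 1), (19, (-1), 2)] (.node [(16, 1, 1), (26, 1, 2)] (.node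 [(31, 1, 1)] .nil .nil) .nil) (.node [(23, (-1), 1)] .nil (.node [(40, (-1), 1), (46, 1, 2)] .nil .nil)))))
def X35 : Tr (List (ℕ × ℤ × ℕ)) := (.node [(39, (-1), 1)] (.node [(39, 1, 1)] (.node [(39, 1, 1)] (.node [(13, 1, 1)] (.node [(27, 2, 1)] (.node [(41, (-1), 1)] .nil .nil) .nil) (.node [(37, (-1), 1)] .nil .nil)) (.node [(20, (-2), 1)] (.node [] (.node [(44, 1, 1), (50, 1, 2)] .nil .nil) .nil) .nil)) (.node [(11, (-1), 1), (20, 1, 2)] (.node [] (.node [(29, 2, 1)] (.node [(43, 1, 1)] .nil .nil) .nil) .nil) .nil)) (.node [(39, (-1), 1)] (.node [] (.node [(15, 1, 1), (27, 1, 2)] (.node [(0, 1, 1), (1, 1, 1), (2, 2, 1), (39, (-1), 2)] .nil .nil) (.node [] (.node [(47, (-2), 1)] .nil .nil) .nil)) (.node [(22, (-1), 1)] .nil (.node [(40, (-1), 1), (47, 1, 2)] (.node [(50, 2, 1)] .nil .nil) .nil))) (.node [] (.node [(17, (-1), 1), (29, (-1), 2)] (.node [(32, 1, 1)] .nil .nil) (.node [(38,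 (-1), 1), (45, (-1), 2)] (.node [(48, (-1), 1)] .nil .nil) .nil)) (.node [(24, 1, 1)] (.node [] (.node [(45, 2, 1)] .nil .nil) .nil) .nil))))
def X36 : Tr (List (ℕ × ℤ × ℕ)) := (.node [(40, (-1), 1)] (.node [(40, 1, 1)] (.node [(40, (-1), 1)] (.node [(14, (-1), 1)] (.node [(0, 1, 1), (1, 1, 1), (2, 2, 1), (3, 2, 1), (40, (-1), 2)] (.node [(42, (-1), 1)] .nil .nil) .nil) (.node [] (.node [(47, 2, 1)] .nil .nil) .nil)) (.node [(21, 2, 1)] .nil (.node [(39, (-1), 1), (47, (-1), 2)] .nil .nil))) (.node [] (.node [(17, (-1), 1), (30, (-1), 2)] (.node [(30, 2, 1)] .nil .nil) (.node [(38, (-1), 1), (46, (-1), 2)] (.node [(48, 1, 1)] .nil .nil) .nil)) (.node [(24, 1, 1)] .nil .nil))) (.node [] (.node [(11, (-1), 1), (21, (-1), 2)] (.node [(16, (-1), 1), (28, (-1), 2)] (.node [(28, 2, 1)] (.node [(43, (-1), 1)] .nil .nil) .nil) .nil) (.node [(23, 1, 1)] .nil (.node [] (.node [(51, 2, 1)] .nil .nil)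 .nil))) (.node [] (.node [] (.node [(33, 1, 1)] (.node [(44, (-1), 1), (51, (-1), 2)] .nil .nil) .nil) .nil) (.node [] (.node [(37, (-1), 1)] (.node [(46, 2, 1)] .nil .nil) .nil) .nil))))
def X37 : Tr (List (ℕ × ℤ × ℕ)) := (.node [] (.node [(41, (-1), 1)] (.node [(41, 1, 1)] (.node [(15, 1, 1)] .nil (.node [(38, 1, 1)] .nil .nil)) (.node [(22, 1, 1)] .nil (.node [] (.node [(50, (-2), 1)] .nil .nil) .nil))) (.node [(12, 1, 1), (25, (-1), 2)] (.node [] (.node [(32, (-1), 1)] (.node [(44, (-1), 1)] .nil .nil) .nil) .nil) (.node [(27, 2, 1)] (.node [(37, (-1), 1), (45, 1, 2)] (.node [(45, (-2), 1)] .nil .nil) .nil) .nil))) (.node [] (.node [] (.node [] (.node [(31, 1, 1)] .nil .nil) (.node [(39, (-1), 1)] (.node [(48, (-1), 1)] .nil .nil) .nil)) (.node [(25, (-2), 1)] .nil (.node [(42, (-1), 1), (49, 1, 2)] .nil .nil))) (.node [(13, 1, 1), (27, 1, 2)] (.node [(18, 1, 1), (34, 1, 2)] (.node [(34,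 2, 1)] .nil .nil) (.node [] (.node [(49, (-2), 1)] .nil .nil) .nil)) (.node [(0, 1, 1), (1, 2, 1), (2, 2, 1), (41, (-1), 2)] .nil (.node [(43, 1, 1), (50, (-1), 2)] .nil .nil)))))
def X38 : Tr (List (ℕ × ℤ × ℕ)) := (.node [] (.node [(42, (-1), 1)] (.node [(42, (-1), 1)] (.node [(16, (-1), 1)] (.node [(31, 1, 1)] .nil .nil) (.node [] (.node [(48, 1, 1)] .nil .nil) .nil)) (.node [(23, (-1), 1)] .nil (.node [(41, (-1), 1), (49, (-1), 2)] (.node [(51, (-2), 1)] .nil .nil) .nil))) (.node [] (.node [(18, 1, 1), (35, 1, 2)] (.node [(33, (-1), 1)] .nil .nil) (.node [] (.node [(49, 2, 1)] .nil .nil) .nil)) (.node [(0, 1, 1), (1, 2, 1), (2, 2, 1), (3, 2, 1), (42, (-1), 2)] (.node [] (.node [(46, (-2), 1)] .nil .nil) .nil) (.node [(43, (-1), 1), (51, 1, 2)] .nil .nil)))) (.node [(42, 1, 1)] (.node [(12, 1, 1), (26, 1, 2)] (.node [] (.node [] (.node [(44, 1, 1)] .nil .nil) .nil) (.node [(40, (-1), 1)]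 .nil .nil)) (.node [(26, 2, 1)] (.node [(37, (-1), 1), (46, 1, 2)] .nil .nil) .nil)) (.node [(14, (-1), 1), (28, (-1), 2)] (.node [] (.node [(35, 2, 1)] .nil .nil) .nil) (.node [(28, 2, 1)] (.node [(38, 1, 1)] .nil .nil) .nil))))
def X39 : Tr (List (ℕ × ℤ × ℕ)) := (.node [] (.node [(43, 1, 1)] (.node [] (.node [(17, 1, 1)] (.node [(32, 1, 1)] (.node [(44, (-1), 1)] .nil .nil) .nil) (.node [(40, (-1), 1)] .nil .nil)) (.node [(24, 1, 1)] (.node [(37, (-1), 1), (47, 1, 2)] .nil .nil) .nil)) (.node [(14, (-1), 1), (30, 1, 2)] (.node [] .nil (.node [(41, 1, 1), (50, 1, 2)] (.node [(50, 2, 1)] .nil .nil) .nil)) (.node [(29, 2, 1)] (.node [] (.node [(47, (-2), 1)] .nil .nil) .nil) .nil))) (.node [(43, (-1), 1)] (.node [(13, (-1), 1), (29, (-1), 2)] (.node [(18, 1, 1), (36, 1, 2)] (.node [(33, (-1), 1)] .nil .nil) .nil) (.node [(0, 1, 1), (1, 2, 1), (2, 4, 1), (3, 2, 1), (43, (-1), 2)] .nil .nil))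 (.node [] (.node [] (.node [(36, 2, 1)] .nil .nil) (.node [(42, (-1), 1), (51, (-1), 2)] (.node [(51, 2, 1)] .nil .nil) .nil)) (.node [(30, (-2), 1)] (.node [(39, 1, 1)] (.node [(48, (-1), 1)] .nil .nil) .nil) .nil))))
def X40 : Tr (List (ℕ × ℤ × ℕ)) := (.node [(44, 1, 1)] (.node [(44, (-1), 1)] (.node [] (.node [(18, 1, 1)] (.node [(34, 2, 1)] .nil .nil) (.node [(42, 1, 1)] (.node [(50, (-2), 1)] .nil .nil) .nil)) (.node [(0, 1, 1), (1, 3, 1), (2, 4, 1), (3, 2, 1), (44, (-1), 2)] (.node [(38, (-1), 1), (49, 1, 2)] .nil .nil) .nil)) (.node [(16, 1, 1), (35, (-1), 2)] (.node [] (.node [(36, 2, 1)] .nil .nil) .nil) (.node [(32, (-1), 1)] (.node [(40, (-1), 1), (51, 1, 2)] (.node [(48, (-1), 1)] .nil .nil) .nil) .nil))) (.node [] (.node [(15, 1, 1), (34, 1, 2)] (.node [] (.node [(35, (-2), 1)] .nil .nil) (.node [(43, (-1), 1)] (.node [(51, (-2), 1)] .nil .nil) .nil)) (.node [(31, 1, 1)] (.node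 [(39, 1, 1), (50, (-1), 2)] .nil .nil) .nil)) (.node [(17, 1, 1), (36, 1, 2)] .nil (.node [(33, 1, 1)] (.node [(41, (-1), 1)] (.node [(49, (-2), 1)] .nil .nil) .nil) .nil))))
def X41 : Tr (List (ℕ × ℤ × ℕ)) := (.node [(45, (-2), 1)] (.node [] (.node [(45, 1, 1)] (.node [(22, 1, 1)] .nil .nil) (.node [] (.node [] (.node [(49, (-1), 1)] .nil .nil) .nil) .nil)) (.node [(19, 1, 1)] (.node [(27, 1, 1)] (.node [(39, 1, 1)] (.node [(48, (-1), 1)] .nil .nil) .nil) .nil) .nil)) (.node [] (.node [] (.node [(25, (-1), 1)] (.node [(38, (-1), 1)] .nil .nil) .nil) (.node [] (.node [] (.node [(50, (-1), 1)] .nil .nil) .nil) (.node [(46, (-1), 1)] .nil .nil))) (.node [(20, 1, 1)] (.node [(0, 1, 1), (1, 1, 1), (2, 1, 1), (45, (-1), 2)] (.node [(41, (-1), 1)] .nil .nil) .nil) (.node [(37, 1, 1)] .nil (.node [(47, 1, 1)] .nil .nil)))))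
def X42 : Tr (List (ℕ × ℤ × ℕ)) := (.node [(46, (-2), 1)] (.node [] (.node [(46, (-1), 1)] (.node [(23, (-1), 1)] (.node [(38, (-1), 1)] .nil .nil) .nil) (.node [] .nil (.node [(45, (-1), 1)] .nil .nil))) (.node [] (.node [(0, 1, 1), (1, 1, 1), (2, 1, 1), (3, 1, 1), (46, (-1), 2)] (.node [(40, 1, 1)] .nil .nil) .nil) (.node [(37, 1, 1)] .nil (.node [(47, (-1), 1)] .nil .nil)))) (.node [(46, 1, 1)] (.node [(19, 1, 1)] (.node [(26, 1, 1)] (.node [] (.node [(48, 1, 1)] .nil .nil) .nil) .nil) (.node [] (.node [] (.node [(51, (-1), 1)] .nil .nil) .nil) .nil)) (.node [(21, (-1), 1)] (.node [(28, 1, 1)] (.node [(42, (-1), 1)] (.node [(49, 1, 1)] .nil .nil) .nil) .nil) .nil)))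
def X43 : Tr (List (ℕ × ℤ × ℕ)) := (.node [(47, (-2), 1)] (.node [(47, 2, 1)] (.node [] (.node [(24, 1, 1)] (.node [(39, (-1), 1)] (.node [(48, (-1), 1)] .nil .nil) .nil) .nil) (.node [] (.node [] (.node [(51, 1, 1)] .nil .nil) .nil) .nil)) (.node [(21, (-1), 1)] (.node [(29, 1, 1)] .nil (.node [(45, 1, 1)] .nil .nil)) .nil)) (.node [(47, (-1), 1)] (.node [(20, (-1), 1)] (.node [(0, 1, 1), (1, 1, 1), (2, 2, 1), (3, 1, 1), (47, (-1), 2)] (.node [(40, 1, 1)] .nil .nil) .nil) (.node [(37, 1, 1)] .nil .nil)) (.node [] (.node [(30, (-1), 1)] (.node [(43, (-1), 1)] (.node [(50, 1, 1)] .nil .nil) .nil) (.node [(46, (-1), 1)] .nil .nil)) .nil)))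
def X44 : Tr (List (ℕ × ℤ × ℕ)) := (.node [(48, (-1), 1)] (.node [] (.node [] (.node [(0, 2, 1), (1, 3, 1), (2, 4, 1), (3, 2, 1), (48, (-1), 2)] (.node [(41, (-1), 1)] (.node [(49, (-2), 1)] .nil .nil) .nil) (.node [(46, 2, 1)] .nil .nil)) (.node [(37, 1, 1)] .nil .nil)) (.node [(23, 1, 1), (46, 1, 2)] (.node [(32, (-1), 1), (50, 1, 2)] (.node [(43, (-1), 1)] (.node [(51, (-2), 1)] .nil .nil) .nil) .nil) (.node [(39, (-1), 1)] .nil .nil))) (.node [] (.node [(22, 1, 1), (45, (-1), 2)] (.node [(31, 1, 1), (49, (-1), 2)] (.node [(42, 1, 1)] (.node [(50, (-2), 1)] .nil .nil) .nil) (.node [(47, (-2), 1)] .nil .nil)) (.node [(38, 1, 1)] .nil .nil)) (.node [(24, 1, 1), (47, (-1), 2)] (.node [(33, 1, 1), (51, (-1), 2)] (.node [(44, (-1), 1)] .nil .nil) .nil) (.node [(40, 1, 1)] (.node [(45, (-2), 1)] .nil .nil) .nil))))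
def X45 : Tr (List (ℕ × ℤ × ℕ)) := (.node [] (.node [(49, (-2), 1)] (.node [] (.node [(31, 1, 1)] .nil .nil) (.node [(38, 1, 1)] .nil .nil)) (.node [(26, 1, 1)] (.node [(34, (-1), 1)] (.node [(44, (-1), 1)] .nil .nil) .nil) (.node [(41, (-1), 1)] (.node [(46, 1, 1)] .nil .nil) (.node [(50, (-1), 1)] .nil .nil)))) (.node [(49, 1, 1)] (.node [(25, 1, 1)] (.node [] .nil (.node [(48, (-1), 1)] .nil .nil)) (.node [] (.node [(45, (-1), 1)] .nil .nil) .nil)) (.node [(0, 1, 1), (1, 2, 1), (2, 2, 1), (3, 1, 1), (49, (-1), 2)] (.node [(35, 1, 1)] .nil .nil) (.node [(42, 1, 1)] .nil (.node [(51, (-1), 1)] .nil .nil)))))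
def X46 : Tr (List (ℕ × ℤ × ℕ)) := (.node [] (.node [] (.node [(50, 1, 1)] (.node [(32, 1, 1)] .nil (.node [(48, (-1), 1)] .nil .nil)) (.node [(39, 1, 1)] (.node [(45, (-1), 1)] .nil .nil) .nil)) (.node [(0, 1, 1), (1, 2, 1), (2, 3, 1), (3, 1, 1), (50, (-1), 2)] .nil (.node [] (.node [(47, 1, 1)] .nil .nil) .nil))) (.node [(50, (-1), 1)] (.node [(27, 1, 1)] (.node [(34, (-1), 1)] (.node [(44, (-1), 1)] .nil .nil) .nil) (.node [(41, (-1), 1)] .nil (.node [(51, (-1), 1)] .nil .nil))) (.node [(29, 1, 1)] (.node [(36, 1, 1)] .nil (.node [(49, (-1), 1)] .nil .nil)) (.node [(43, 1, 1)] .nil .nil))))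
def X47 : Tr (List (ℕ × ℤ × ℕ)) := (.node [] (.node [] (.node [(51, (-1), 1)] (.node [(33, 1, 1)] (.node [(44, (-1), 1)] .nil .nil) .nil) (.node [(40, 1, 1)] (.node [(46, (-1), 1)] .nil .nil) (.node [(50, (-1), 1)] .nil .nil))) (.node [(28, 1, 1)] (.node [(36, 1, 1)] .nil (.node [(49, (-1), 1)] .nil .nil)) (.node [(43, 1, 1)] .nil .nil))) (.node [] (.node [(0, 1, 1), (1, 2, 1), (2, 3, 1), (3, 2, 1), (51, (-1), 2)] (.node [(35, (-1), 1)] .nil .nil) (.node [(42, (-1), 1)] (.node [(47, 1, 1)] .nil .nil) .nil)) (.node [(30, 1, 1)] .nil (.node [] (.node [(48, (-1), 1)] .nil .nil) .nil))))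
def M0 : Tr (List (ℕ × ℤ × ℕ × ℕ)) := (.node [] (.node [] (.node [] (.node [] (.node [] (.node [(4, (-1), 1, 1)] .nil .nil) .nil) (.node [] (.node [(9, 1, 1, 1), (25, (-1), 1, 2)] .nil .nil) .nil)) (.node [] .nil (.node [] (.node [(16, 1, 1, 1)] .nil .nil) .nil))) (.node [] .nil (.node [] .nil (.node [(3, 1, 1, 1), (6, 1, 1, 2)] (.node [(21, (-1), 1, 1)] .nil .nil) .nil)))) (.node [] (.node [] (.node [] (.node [] (.node [(5, 1, 1, 1)] .nil .nil) .nil) (.node [(1, 1, 1, 1)] (.node [(11, (-1), 1, 1), (30, 1, 1, 2)] .nil .nil) .nil)) (.node [] (.node [] (.node [(7, 1, 1, 1), (17, (-1), 1, 2)] .nil .nil) .nil) (.node [] (.node [(18, (-1), 1, 1), (41, (-1), 1, 2)] .nil .nil) .nil))) (.node [] (.node [] .nil (.node [(2, 1, 1, 1)] (.node [(15, (-1), 1, 1)] .nil .nil) .nil)) (.node [] (.node [] (.node [(8, (-1), 1, 1), (22, 1, 1, 2)] .nil .nil) .nil) (.node [] (.node [(23, (-1), 1, 1)] .nil .nil)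 .nil)))))
def C0 : List (ℕ × List (ℕ × ℤ)) := [(24, [(1, 1)]), (26, [(2, 1)]), (29, [(3, 1)]), (31, [(4, (-1))]), (32, [(5, 1)]), (36, [(7, 1)]), (38, [(8, (-1))]), (39, [(9, 1)]), (40, [(11, (-1))]), (42, [(15, (-1))]), (43, [(16, 1)]), (44, [(18, (-1))]), (45, [(21, (-1))]), (46, [(23, (-1))])]
def M1 : Tr (List (ℕ × ℤ × ℕ × ℕ)) := (.node [] (.node [] (.node [] (.node [] (.node [] .nil (.node [(24, (-1), 1, 1)] .nil .nil)) (.node [(0, 1, 1, 1)] (.node [(10, 1, 1, 1), (26, 1, 1, 2)] .nil .nil) .nil)) (.node [] (.node [] (.node [(7, 1, 1, 1), (16, 1, 1, 2)] .nil .nil) .nil) (.node [] (.node [(17, 1, 1, 1)] .nil .nil) .nil))) (.node [] (.node [] .nil (.node [(2, 1, 1, 1)] (.node [(15, (-1), 1, 1)] .nil .nil) .nil)) (.node [] (.node [] (.node [(8, (-1), 1, 1), (21, (-1), 1, 2)] .nil .nil) .nil) (.node [] (.node [(22, (-1), 1, 1)] .nil .nil) .nil)))) (.node [] (.node [] (.node [] (.node [] (.node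 [(6, 1, 1, 1)] .nil .nil) .nil) (.node [] (.node [(12, (-1), 1, 1), (31, (-1), 1, 2)] .nil .nil) .nil)) (.node [] .nil (.node [(3, 1, 1, 1), (5, (-1), 1, 2)] (.node [(19, (-1), 1, 1), (42, 1, 1, 2)] .nil .nil) .nil))) (.node [] .nil (.node [] .nil (.node [(4, (-1), 1, 1)] .nil .nil)))))
def C1 : List (ℕ × List (ℕ × ℤ)) := [(23, [(0, 1)]), (25, [(2, 1)]), (28, [(3, 1)]), (30, [(4, (-1))]), (32, [(6, 1)]), (35, [(7, 1)]), (37, [(8, (-1))]), (39, [(10, 1)]), (40, [(12, (-1))]), (41, [(15, (-1))]), (43, [(17, 1)]), (44, [(19, (-1))]), (45, [(22, (-1))]), (47, [(24, (-1))])]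
def M2 : Tr (List (ℕ × ℤ × ℕ × ℕ)) := (.node [] (.node [] (.node [] (.node [] (.node [] (.node [(6, 1, 1, 1)] .nil .nil) (.node [(26, (-1), 1, 1)] .nil .nil)) .nil) (.node [] .nil (.node [(3, 1, 1, 1), (4, 1, 1, 2)] .nil .nil))) (.node [] (.node [] .nil (.node [] (.node [(16, (-1), 1, 1)] .nil .nil) .nil)) (.node [] (.node [(0, 1, 1, 1)] (.node [(9, (-1), 1, 1), (23, 1, 1, 2)] .nil .nil) .nil) .nil))) (.node [] (.node [] (.node [] .nil (.node [] (.node [(13, (-1), 1, 1), (32, 1, 1, 2)] .nil .nil) .nil)) (.node [] .nil (.node [] (.node [(20, (-1), 1, 1), (43, (-1), 1, 2)] .nil .nil) .nil))) (.node [] (.node [] (.node [] (.node [(7, 1, 1, 1), (15, (-1), 1, 2)] .nil .nil) .nil) (.node [] (.node [(17, 1, 1, 1)] .nil .nil) .nil)) (.node [] (.node [(1, 1, 1, 1)] (.node [(10, 1, 1, 1), (24, (-1), 1, 2)] .nil .nil) .nil) (.node [(5, (-1), 1, 1)] (.node [(25, (-1), 1, 1)] .nil .nil) .nil)))))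
def C2 : List (ℕ × List (ℕ × ℤ)) := [(21, [(0, 1)]), (22, [(1, 1)]), (27, [(3, 1)]), (30, [(5, (-1))]), (31, [(6, 1)]), (34, [(7, 1)]), (37, [(9, (-1))]), (38, [(10, 1)]), (40, [(13, (-1))]), (41, [(16, (-1))]), (42, [(17, 1)]), (44, [(20, (-1))]), (46, [(25, (-1))]), (47, [(26, (-1))])]
def M3 : Tr (List (ℕ × ℤ × ℕ × ℕ)) := (.node [] (.node [] (.node [] (.node [] (.node [] .nil (.node [(29, (-1), 1, 1), (6, (-1), 2, 1)] .nil .nil)) (.node [] (.node [(13, (-1), 1, 1)] .nil .nil) .nil)) (.node [] (.node [(1, 2, 1, 1)] (.node [(9, (-1), 1, 1)] .nil .nil) .nil) (.node [(4, 2, 1, 1)] (.node [(20, (-1), 1, 1), (2, (-1), 2, 1)] .nil .nil) .nil))) (.node [] (.node [] (.node [] (.node [(7, 1, 1, 1)] .nil .nil) .nil) (.node [] (.node [(18, (-1), 1, 1), (0, (-1), 2, 1)] .nil .nil) .nil)) (.node [] (.node [] (.node [(11, (-1), 1, 1)] .nil .nil) .nil) (.node [(6, 2, 1, 1)] (.node [(27, (-1), 1, 1), (4,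 (-1), 2, 1)] .nil .nil) .nil)))) (.node [] (.node [] (.node [] .nil (.node [] (.node [(14, (-1), 1, 1)] .nil .nil) .nil)) (.node [] (.node [(2, 2, 1, 1)] (.node [(10, 1, 1, 1)] .nil .nil) .nil) (.node [(5, (-2), 1, 1)] .nil .nil))) (.node [] (.node [] (.node [(0, 2, 1, 1)] (.node [(8, 1, 1, 1)] .nil .nil) .nil) (.node [] (.node [(19, 1, 1, 1), (1, 1, 2, 1)] .nil .nil) .nil)) (.node [] (.node [] (.node [(12, 1, 1, 1)] .nil .nil) .nil) (.node [] (.node [(28, (-1), 1, 1), (5, 1, 2, 1)] .nil .nil) .nil)))))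
def C3 : List (ℕ × List (ℕ × ℤ)) := [(18, [(0, 2)]), (19, [(1, 2)]), (20, [(2, 2)]), (27, [(4, 2)]), (28, [(5, (-2))]), (29, [(6, 2)]), (33, [(7, 1)]), (34, [(8, 1)]), (35, [(9, (-1))]), (36, [(10, 1)]), (37, [(11, (-1))]), (38, [(12, 1)]), (39, [(13, (-1))]), (40, [(14, (-1))]), (41, [(18, (-1)), (0, (-1))]), (42, [(19, 1), (1, 1)]), (43, [(20, (-1)), (2, (-1))]), (45, [(27, (-1)), (4, (-1))]), (46, [(28, (-1)), (5, 1)]), (47, [(29, (-1)), (6, (-1))])]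
def M4 : Tr (List (ℕ × ℤ × ℕ × ℕ)) := (.node [] (.node [] (.node [] (.node [] (.node [] .nil (.node [(31, 1, 1, 1)] .nil .nil)) (.node [] (.node [(14, (-1), 1, 1), (32, 1, 1, 2)] .nil .nil) .nil)) (.node [] (.node [] (.node [(11, (-1), 1, 1), (23, 1, 1, 2)] .nil .nil) .nil) .nil)) (.node [] (.node [] (.node [(1, (-1), 1, 1)] (.node [(8, 1, 1, 1), (15, (-1), 1, 2)] .nil .nil) .nil) (.node [(5, 1, 1, 1)] (.node [(21, 1, 1, 1)] .nil .nil) .nil)) .nil)) (.node [] (.node [] (.node [] (.node [(0, (-1), 1, 1)] .nil .nil) .nil) (.node [] (.node [(3, 1, 1, 1), (2, 1, 1, 2)] (.node [(12, 1, 1, 1), (24, (-1), 1, 2)] .nil .nil) .nil) (.node [] (.node [(27, (-1), 1, 1), (45, (-1), 1, 2)] .nil .nil) .nil))) (.node [] (.node [] .nil (.node [(6, (-1), 1, 1)] (.node [(22, (-1), 1, 1)] .nil .nil) .nil)) (.node [] .nil (.node [] (.node [(30, 1, 1, 1)] .nil .nil) .nil)))))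
def C4 : List (ℕ × List (ℕ × ℤ)) := [(16, [(0, (-1))]), (17, [(1, (-1))]), (20, [(3, 1)]), (25, [(5, 1)]), (26, [(6, (-1))]), (33, [(8, 1)]), (35, [(11, (-1))]), (36, [(12, 1)]), (39, [(14, (-1))]), (41, [(21, 1)]), (42, [(22, (-1))]), (44, [(27, (-1))]), (46, [(30, 1)]), (47, [(31, 1)])]
def M5 : Tr (List (ℕ × ℤ × ℕ × ℕ)) := (.node [] (.node [] (.node [] (.node [] (.node [(0, 1, 1, 1)] .nil (.node [(32, (-1), 1, 1)] .nil .nil)) .nil) (.node [] (.node [(3, (-1), 1, 1), (1, (-1), 1, 2)] .nil .nil) (.node [] (.node [(25, (-1), 1, 1)] .nil .nil) .nil))) (.node [] (.node [] (.node [(2, (-1), 1, 1)] (.node [(9, 1, 1, 1), (16, (-1), 1, 2)] .nil .nil) .nil) (.node [] (.node [(23, (-1), 1, 1)] .nil .nil) .nil)) (.node [] .nil (.node [] (.node [(30, 1, 1, 1)] .nil .nil) .nil)))) (.node [] (.node [] (.node [] .nil (.node [(6, 1, 1, 1)] .nil .nil)) (.node [] (.node [] (.node [(13, 1, 1, 1), (26, (-1),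 1, 2)] .nil .nil) .nil) (.node [] (.node [(28, 1, 1, 1), (46, 1, 1, 2)] .nil .nil) .nil))) (.node [] (.node [] (.node [] (.node [(11, (-1), 1, 1), (21, 1, 1, 2)] .nil .nil) .nil) .nil) (.node [] (.node [(4, 1, 1, 1)] (.node [(14, (-1), 1, 1), (31, 1, 1, 2)] .nil .nil) .nil) .nil))))
def C5 : List (ℕ × List (ℕ × ℤ)) := [(15, [(0, 1)]), (17, [(2, (-1))]), (19, [(3, (-1))]), (22, [(4, 1)]), (24, [(6, 1)]), (33, [(9, 1)]), (34, [(11, (-1))]), (36, [(13, 1)]), (38, [(14, (-1))]), (41, [(23, (-1))]), (43, [(25, (-1))]), (44, [(28, 1)]), (45, [(30, 1)]), (47, [(32, (-1))])]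
def M6 : Tr (List (ℕ × ℤ × ℕ × ℕ)) := (.node [] (.node [] (.node [] (.node [] (.node [(1, 1, 1, 1)] .nil .nil) (.node [(5, 1, 1, 1)] .nil .nil)) (.node [] (.node [] (.node [(13, 1, 1, 1), (25, (-1), 1, 2)] .nil .nil) .nil) (.node [] (.node [(26, 1, 1, 1)] .nil .nil) .nil))) (.node [] (.node [] (.node [] (.node [(10, 1, 1, 1), (17, (-1), 1, 2)] .nil .nil) .nil) .nil) (.node [] (.node [(4, (-1), 1, 1)] (.node [(14, (-1), 1, 1), (30, 1, 1, 2)] .nil .nil) .nil) (.node [] (.node [(31, (-1), 1, 1)] .nil .nil) .nil)))) (.node [] (.node [] (.node [] (.node [(2, 1, 1, 1)] .nil .nil) .nil) (.node [] .nil (.node [] (.node [(29, (-1), 1, 1), (47, (-1), 1, 2)] .nil .nil) .nil))) (.node [] (.node [] (.node [(3, 1, 1, 1), (0, 1, 1, 2)] (.node [(12, (-1), 1, 1), (22, 1, 1, 2)] .nil .nil) .nil) (.node [] (.node [(24, (-1), 1, 1)] .nil .nil) .nil)) (.node [] .nil (.node [] (.node [(32, (-1), 1, 1)] .nil .nil)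 .nil)))))
def C6 : List (ℕ × List (ℕ × ℤ)) := [(15, [(1, 1)]), (16, [(2, 1)]), (18, [(3, 1)]), (21, [(4, (-1))]), (23, [(5, 1)]), (33, [(10, 1)]), (34, [(12, (-1))]), (35, [(13, 1)]), (37, [(14, (-1))]), (42, [(24, (-1))]), (43, [(26, 1)]), (44, [(29, (-1))]), (45, [(31, (-1))]), (46, [(32, (-1))])]
def M7 : Tr (List (ℕ × ℤ × ℕ × ℕ)) := (.node [] (.node [] (.node [] (.node [] (.node [] (.node [(12, (-1), 1, 1), (1, (-1), 2, 1)] .nil .nil) (.node [(36, (-1), 1, 1), (17, 1, 2, 1)] .nil .nil)) (.node [] (.node [(20, (-1), 1, 1)] .nil .nil) .nil)) (.node [(0, 2, 1, 1)] (.node [] (.node [(16, 2, 1, 1)] .nil .nil) .nil) (.node [(8, 1, 1, 1)] .nil .nil))) (.node [] .nil (.node [(2, 2, 1, 1)] (.node [] (.node [(18, (-1), 1, 1)] .nil .nil) .nil) (.node [(10, 1, 1, 1)] (.node [(34, (-1), 1, 1), (15, 1, 2, 1)] .nil .nil) .nil)))) (.node [] (.node [] (.node [] (.node [] (.node [(13, 1, 1, 1), (2, 1,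 2, 1)] .nil .nil) .nil) .nil) (.node [(1, 2, 1, 1)] (.node [] (.node [(17, (-2), 1, 1)] .nil .nil) .nil) (.node [(9, (-1), 1, 1)] (.node [(33, (-1), 1, 1)] .nil .nil) .nil))) (.node [] (.node [] (.node [] (.node [(15, (-2), 1, 1)] .nil .nil) .nil) .nil) (.node [(3, 1, 1, 1)] (.node [] (.node [(19, 1, 1, 1)] .nil .nil) .nil) (.node [(11, 1, 1, 1), (0, 1, 2, 1)] (.node [(35, (-1), 1, 1), (16, (-1), 2, 1)] .nil .nil) .nil)))))
def C7 : List (ℕ × List (ℕ × ℤ)) := [(11, [(0, 2)]), (12, [(1, 2)]), (13, [(2, 2)]), (14, [(3, 1)]), (27, [(8, 1)]), (28, [(9, (-1))]), (29, [(10, 1)]), (30, [(11, 1), (0, 1)]), (31, [(12, (-1)), (1, (-1))]), (32, [(13, 1), (2, 1)]), (34, [(15, (-2))]), (35, [(16, 2)]), (36, [(17, (-2))]), (37, [(18, (-1))]), (38, [(19, 1)]), (39, [(20, (-1))]), (44, [(33, (-1))]), (45, [(34, (-1)), (15, 1)]), (46, [(35, (-1)), (16, (-1))]), (47, [(36, (-1)), (17, 1)])]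
def M8 : Tr (List (ℕ × ℤ × ℕ × ℕ)) := (.node [] (.node [] (.node [] (.node [] (.node [] .nil (.node [(38, 1, 1, 1), (22, (-1), 2, 1)] .nil .nil)) .nil) (.node [] (.node [] (.node [(18, 1, 1, 1)] .nil .nil) .nil) (.node [] (.node [(33, (-1), 1, 1), (15, 1, 2, 1)] .nil .nil) .nil))) (.node [] (.node [(0, (-2), 1, 1)] (.node [] (.node [(15, (-2), 1, 1)] .nil .nil) .nil) (.node [(9, 1, 1, 1), (0, (-1), 2, 1)] .nil .nil)) (.node [(3, 1, 1, 1)] (.node [] (.node [(21, 2, 1, 1)] .nil .nil) .nil) (.node [(12, (-1), 1, 1)] .nil .nil)))) (.node [] (.node [] (.node [] (.node [] (.node [(14, 1, 1, 1), (4, 1, 2, 1)] .nil .nil) .nil) (.node [] (.node [(27, (-1), 1, 1)] .nil .nil) .nil)) (.node [] (.node [(7, 1, 1, 1)] (.node [(19, (-1), 1, 1)] .nil .nil) .nil) (.node [(11, 1, 1, 1)] (.node [(34, (-1), 1, 1)] .nil .nil) .nil))) (.node [] (.node [(1, (-2), 1, 1)] .nil (.node [(10, (-1), 1, 1), (1, 1, 2, 1)]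 .nil .nil)) (.node [(4, 2, 1, 1)] (.node [] (.node [(22, (-2), 1, 1)] .nil .nil) .nil) (.node [] (.node [(37, 1, 1, 1), (21, 1, 2, 1)] .nil .nil) .nil)))))
def C8 : List (ℕ × List (ℕ × ℤ)) := [(9, [(0, (-2))]), (10, [(1, (-2))]), (13, [(3, 1)]), (14, [(4, 2)]), (20, [(7, 1)]), (25, [(9, 1), (0, (-1))]), (26, [(10, (-1)), (1, 1)]), (28, [(11, 1)]), (29, [(12, (-1))]), (32, [(14, 1), (4, 1)]), (33, [(15, (-2))]), (35, [(18, 1)]), (36, [(19, (-1))]), (37, [(21, 2)]), (38, [(22, (-2))]), (40, [(27, (-1))]), (43, [(33, (-1)), (15, 1)]), (44, [(34, (-1))]), (46, [(37, 1), (21, 1)]), (47, [(38, 1), (22, (-1))])]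
def M9 : Tr (List (ℕ × ℤ × ℕ × ℕ)) := (.node [] (.node [] (.node [] (.node [] (.node [] (.node [(14, 1, 1, 1), (5, 1, 2, 1)] .nil .nil) (.node [(39, (-1), 1, 1), (25, 1, 2, 1)] .nil .nil)) (.node [] (.node [(25, (-2), 1, 1)] .nil .nil) .nil)) (.node [] (.node [(7, (-1), 1, 1)] .nil .nil) (.node [(11, 1, 1, 1)] .nil .nil))) (.node [] (.node [] (.node [] (.node [(16, (-2), 1, 1)] .nil .nil) .nil) .nil) (.node [] (.node [] (.node [(23, (-2), 1, 1)] .nil .nil) .nil) (.node [(13, (-1), 1, 1)] (.node [(37, 1, 1, 1), (23, (-1), 2, 1)] .nil .nil) .nil)))) (.node [] (.node [] (.node [(0, 2, 1, 1)] .nil (.node [(10, 1, 1, 1), (2, (-1), 2, 1)] (.node [(28, 1, 1, 1)] .nil .nil) .nil)) (.node [(3, (-1), 1, 1)] (.node [] (.node [(20, (-1), 1, 1)] .nil .nil) .nil) (.node [] (.node [(35, 1, 1, 1)] .nil .nil) .nil))) (.node [] (.node [(2, (-2), 1, 1)] (.node [] (.node [(18, 1, 1, 1)] .nil .nil) .nil) (.node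 [] (.node [(33, (-1), 1, 1), (16, 1, 2, 1)] .nil .nil) .nil)) (.node [(5, 2, 1, 1)] (.node [(8, 1, 1, 1), (0, 1, 2, 1)] .nil .nil) .nil))))
def C9 : List (ℕ × List (ℕ × ℤ)) := [(8, [(0, 2)]), (10, [(2, (-2))]), (12, [(3, (-1))]), (14, [(5, 2)]), (19, [(7, (-1))]), (22, [(8, 1), (0, 1)]), (24, [(10, 1), (2, (-1))]), (27, [(11, 1)]), (29, [(13, (-1))]), (31, [(14, 1), (5, 1)]), (33, [(16, (-2))]), (34, [(18, 1)]), (36, [(20, (-1))]), (37, [(23, (-2))]), (39, [(25, (-2))]), (40, [(28, 1)]), (42, [(33, (-1)), (16, 1)]), (44, [(35, 1)]), (45, [(37, 1), (23, (-1))]), (47, [(39, (-1)), (25, 1)])]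
def M10 : Tr (List (ℕ × ℤ × ℕ × ℕ)) := (.node [] (.node [] (.node [] (.node [] .nil (.node [(9, 1, 1, 1), (2, 1, 2, 1)] (.node [(26, 2, 1, 1)] .nil .nil) .nil)) (.node [(3, 1, 1, 1)] (.node [] (.node [(20, (-1), 1, 1)] .nil .nil) .nil) (.node [(12, 1, 1, 1)] .nil .nil))) (.node [] (.node [(2, 2, 1, 1)] (.node [] (.node [(17, (-2), 1, 1)] .nil .nil) .nil) (.node [] (.node [(33, (-1), 1, 1), (17, 1, 2, 1)] .nil .nil) .nil)) (.node [] (.node [(8, (-1), 1, 1), (1, (-1), 2, 1)] .nil .nil) (.node [] (.node [(38, (-1), 1, 1), (24, 1, 2, 1)] .nil .nil) .nil)))) (.node [] (.node [] (.node [(1, 2, 1, 1)] .nil (.node [] (.node [(29, (-1), 1, 1)] .nil .nil) .nil)) (.node [] .nil (.node [(13, (-1), 1, 1)] (.node [(36, (-1), 1, 1)] .nil .nil) .nil))) (.node [] (.node [] (.node [(7, 1, 1, 1)] (.node [(19, 1, 1, 1)] .nil .nil) .nil) .nil) (.node [(6, 2, 1, 1)] (.node [] (.node [(24, (-2), 1, 1)] .nil .nil)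 .nil) (.node [(14, 1, 1, 1), (6, 1, 2, 1)] (.node [(39, (-1), 1, 1), (26, (-1), 2, 1)] .nil .nil) .nil)))))
def C10 : List (ℕ × List (ℕ × ℤ)) := [(8, [(1, 2)]), (9, [(2, 2)]), (11, [(3, 1)]), (14, [(6, 2)]), (18, [(7, 1)]), (21, [(8, (-1)), (1, (-1))]), (23, [(9, 1), (2, 1)]), (27, [(12, 1)]), (28, [(13, (-1))]), (30, [(14, 1), (6, 1)]), (33, [(17, (-2))]), (34, [(19, 1)]), (35, [(20, (-1))]), (38, [(24, (-2))]), (39, [(26, 2)]), (40, [(29, (-1))]), (41, [(33, (-1)), (17, 1)]), (44, [(36, (-1))]), (45, [(38, (-1)), (24, 1)]), (46, [(39, (-1)), (26, (-1))])]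
def M11 : Tr (List (ℕ × ℤ × ℕ × ℕ)) := (.node [] (.node [] (.node [] (.node [(0, (-2), 1, 1)] (.node [] .nil (.node [(40, 1, 1, 1), (30, (-1), 2, 1)] .nil .nil)) (.node [] (.node [(28, (-1), 1, 1)] .nil .nil) .nil)) (.node [] (.node [(8, 1, 1, 1)] (.node [(23, (-2), 1, 1)] .nil .nil) .nil) (.node [] (.node [(35, 1, 1, 1), (23, (-1), 2, 1)] .nil .nil) .nil))) (.node [] (.node [] (.node [(7, 1, 1, 1), (0, (-1), 2, 1)] (.node [(18, (-1), 1, 1)] .nil .nil) .nil) .nil) (.node [(5, (-2), 1, 1)] .nil (.node [(14, 1, 1, 1)] .nil .nil)))) (.node [] (.node [] (.node [] .nil (.node [(12, 1, 1, 1), (4, (-1), 2, 1)] (.node [(30, (-2), 1, 1)] .nil .nil) .nil)) (.node [(4, (-2), 1, 1)] (.node [(9, 1, 1, 1)] .nil .nil) (.node [] (.node [(37, 1, 1, 1)] .nil .nil) .nil))) (.node [] (.node [(3, (-1), 1, 1)] (.node [] (.node [(21, (-2), 1, 1)] .nil .nil) .nil) (.node [(13, 1, 1, 1), (5, (-1), 2, 1)] (.node [(34,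 1, 1, 1), (21, (-1), 2, 1)] .nil .nil) .nil)) (.node [] (.node [] (.node [(27, (-1), 1, 1)] .nil .nil) .nil) .nil))))
def C11 : List (ℕ × List (ℕ × ℤ)) := [(7, [(0, (-2))]), (10, [(3, (-1))]), (12, [(4, (-2))]), (13, [(5, (-2))]), (17, [(7, 1), (0, (-1))]), (19, [(8, 1)]), (20, [(9, 1)]), (24, [(12, 1), (4, (-1))]), (26, [(13, 1), (5, (-1))]), (29, [(14, 1)]), (33, [(18, (-1))]), (34, [(21, (-2))]), (35, [(23, (-2))]), (38, [(27, (-1))]), (39, [(28, (-1))]), (40, [(30, (-2))]), (42, [(34, 1), (21, (-1))]), (43, [(35, 1), (23, (-1))]), (44, [(37, 1)]), (47, [(40, 1), (30, (-1))])]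
def M12 : Tr (List (ℕ × ℤ × ℕ × ℕ)) := (.node [] (.node [] (.node [] (.node [(1, (-2), 1, 1)] .nil (.node [(11, 1, 1, 1), (4, 1, 2, 1)] (.node [(29, 1, 1, 1)] .nil .nil) .nil)) (.node [(4, 2, 1, 1)] .nil (.node [] (.node [(36, (-1), 1, 1), (24, 1, 2, 1)] .nil .nil) .nil))) (.node [] (.node [(3, 1, 1, 1)] (.node [] (.node [(19, (-1), 1, 1)] .nil .nil) .nil) (.node [(13, 1, 1, 1), (6, (-1), 2, 1)] (.node [(34, 1, 1, 1), (22, (-1), 2, 1)] .nil .nil) .nil)) (.node [(6, (-2), 1, 1)] (.node [] (.node [(27, (-1), 1, 1)] .nil .nil) .nil) .nil))) (.node [] (.node [] (.node [] (.node [(7, (-1), 1, 1), (1, 1, 2, 1)] .nil .nil) (.node [] (.node [(31, 2, 1, 1)] .nil .nil) .nil)) (.node [] (.node [(10, 1, 1, 1)] (.node [(24, (-2), 1, 1)] .nil .nil) .nil) (.node [(14, 1, 1, 1)] (.node [(38, (-1), 1, 1)] .nil .nil) .nil))) (.node [] (.node [] (.node [(8, (-1), 1, 1)] (.node [(22, (-2), 1, 1)] .nil .nil)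 .nil) .nil) (.node [] .nil (.node [] (.node [(40, 1, 1, 1), (31, 1, 2, 1)] .nil .nil) .nil)))))
def C12 : List (ℕ × List (ℕ × ℤ)) := [(7, [(1, (-2))]), (9, [(3, 1)]), (11, [(4, 2)]), (13, [(6, (-2))]), (16, [(7, (-1)), (1, 1)]), (18, [(8, (-1))]), (20, [(10, 1)]), (23, [(11, 1), (4, 1)]), (25, [(13, 1), (6, (-1))]), (28, [(14, 1)]), (33, [(19, (-1))]), (34, [(22, (-2))]), (36, [(24, (-2))]), (37, [(27, (-1))]), (39, [(29, 1)]), (40, [(31, 2)]), (41, [(34, 1), (22, (-1))]), (43, [(36, (-1)), (24, 1)]), (44, [(38, (-1))]), (46, [(40, 1), (31, 1)])]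
def M13 : Tr (List (ℕ × ℤ × ℕ × ℕ)) := (.node [] (.node [] (.node [] (.node [(2, (-2), 1, 1)] (.node [(7, 1, 1, 1), (2, (-1), 2, 1)] .nil .nil) .nil) (.node [(5, 2, 1, 1)] (.node [(10, (-1), 1, 1)] (.node [(25, (-2), 1, 1)] .nil .nil) .nil) (.node [(14, 1, 1, 1)] .nil .nil))) (.node [] (.node [] (.node [] (.node [(20, (-1), 1, 1)] .nil .nil) .nil) (.node [] (.node [(35, (-1), 1, 1), (25, 1, 2, 1)] .nil .nil) .nil)) (.node [] (.node [(11, 1, 1, 1), (5, 1, 2, 1)] (.node [(28, 1, 1, 1)] .nil .nil) .nil) (.node [] (.node [(40, 1, 1, 1), (32, (-1), 2, 1)] .nil .nil) .nil)))) (.node [] (.node [] (.node [(3, (-1), 1, 1)] .nil (.node [] (.node [(32, (-2), 1, 1)] .nil .nil) .nil)) (.node [(6, 2, 1, 1)] (.node [] (.node [(26, (-2), 1, 1)] .nil .nil) .nil) (.node [] (.node [(39, 1, 1, 1)] .nil .nil) .nil))) (.node [] (.node [] (.node [(9, (-1), 1, 1)] .nil .nil) (.node [] (.node [(36, (-1), 1, 1), (26,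 1, 2, 1)] .nil .nil) .nil)) (.node [] (.node [(12, 1, 1, 1), (6, 1, 2, 1)] (.node [(29, 1, 1, 1)] .nil .nil) .nil) .nil))))
def C13 : List (ℕ × List (ℕ × ℤ)) := [(7, [(2, (-2))]), (8, [(3, (-1))]), (11, [(5, 2)]), (12, [(6, 2)]), (15, [(7, 1), (2, (-1))]), (18, [(9, (-1))]), (19, [(10, (-1))]), (21, [(11, 1), (5, 1)]), (22, [(12, 1), (6, 1)]), (27, [(14, 1)]), (33, [(20, (-1))]), (35, [(25, (-2))]), (36, [(26, (-2))]), (37, [(28, 1)]), (38, [(29, 1)]), (40, [(32, (-2))]), (41, [(35, (-1)), (25, 1)]), (42, [(36, (-1)), (26, 1)]), (44, [(39, 1)]), (45, [(40, 1), (32, (-1))])]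
def M14 : Tr (List (ℕ × ℤ × ℕ × ℕ)) := (.node [] (.node [] (.node [] (.node [(3, (-1), 1, 1)] (.node [(8, 1, 1, 1), (4, (-1), 2, 1)] .nil .nil) (.node [] (.node [(32, (-2), 1, 1)] .nil .nil) .nil)) (.node [] (.node [(12, 1, 1, 1)] (.node [(28, (-1), 1, 1)] .nil .nil) .nil) (.node [] (.node [(39, 1, 1, 1), (32, (-1), 2, 1)] .nil .nil) .nil))) (.node [] (.node [(5, (-2), 1, 1)] (.node [(10, 1, 1, 1), (6, (-1), 2, 1)] .nil .nil) (.node [] (.node [(37, 1, 1, 1), (30, (-1), 2, 1)] .nil .nil) .nil)) (.node [] (.node [] (.node [(30, (-2), 1, 1)] .nil .nil) .nil) .nil))) (.node [] (.node [] (.node [(4, (-2), 1, 1)] (.node [(9, 1, 1, 1), (5, (-1), 2, 1)] .nil .nil) .nil) (.node [] (.node [(13, 1, 1, 1)] (.node [(29, (-1), 1, 1)] .nil .nil) .nil) (.node [] (.node [(40, 1, 1, 1)] .nil .nil) .nil))) (.node [] (.node [(6, (-2), 1, 1)] (.node [(11, 1, 1, 1)] (.node [(27, (-1), 1, 1)] .nil .nil) .nil) (.node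 [] (.node [(38, 1, 1, 1), (31, (-1), 2, 1)] .nil .nil) .nil)) (.node [] (.node [] (.node [(31, (-2), 1, 1)] .nil .nil) .nil) .nil))))
def C14 : List (ℕ × List (ℕ × ℤ)) := [(7, [(3, (-1))]), (8, [(4, (-2))]), (9, [(5, (-2))]), (10, [(6, (-2))]), (15, [(8, 1), (4, (-1))]), (16, [(9, 1), (5, (-1))]), (17, [(10, 1), (6, (-1))]), (18, [(11, 1)]), (19, [(12, 1)]), (20, [(13, 1)]), (34, [(27, (-1))]), (35, [(28, (-1))]), (36, [(29, (-1))]), (37, [(30, (-2))]), (38, [(31, (-2))]), (39, [(32, (-2))]), (41, [(37, 1), (30, (-1))]), (42, [(38, 1), (31, (-1))]), (43, [(39, 1), (32, (-1))]), (44, [(40, 1)])]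
def M15 : Tr (List (ℕ × ℤ × ℕ × ℕ)) := (.node [] (.node [] (.node [] (.node [] (.node [] (.node [(22, (-1), 1, 1)] .nil .nil) (.node [(42, 1, 1, 1)] .nil .nil)) (.node [] (.node [(33, 1, 1, 1), (43, 1, 1, 2)] .nil .nil) .nil)) .nil) (.node [(0, (-1), 1, 1)] (.node [] .nil (.node [(16, 1, 1, 1)] .nil .nil)) (.node [(7, (-1), 1, 1), (2, (-1), 1, 2)] .nil (.node [(19, (-1), 1, 1), (24, 1, 1, 2)] .nil .nil)))) (.node [] (.node [] (.node [] .nil (.node [] (.node [(34, 1, 1, 1), (45, 1, 1, 2)] .nil .nil) .nil)) (.node [] .nil (.node [(18, 1, 1, 1), (23, (-1), 1, 2)] .nil .nil))) (.node [(1, (-1), 1, 1)] (.node [] .nil (.node [(17, (-1), 1, 1)] .nil .nil)) (.node [(8, (-1), 1, 1), (4, (-1), 1, 2)] .nil (.node [(21, 1, 1, 1)] (.node [(41, 1, 1, 1)] .nil .nil) .nil)))))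
def C15 : List (ℕ × List (ℕ × ℤ)) := [(5, [(0, (-1))]), (6, [(1, (-1))]), (13, [(7, (-1))]), (14, [(8, (-1))]), (25, [(16, 1)]), (26, [(17, (-1))]), (28, [(18, 1)]), (29, [(19, (-1))]), (30, [(21, 1)]), (31, [(22, (-1))]), (39, [(33, 1)]), (40, [(34, 1)]), (46, [(41, 1)]), (47, [(42, 1)])]
def M16 : Tr (List (ℕ × ℤ × ℕ × ℕ)) := (.node [] (.node [] (.node [] (.node [] (.node [] .nil (.node [(43, (-1), 1, 1)] .nil .nil)) .nil) (.node [] .nil (.node [(18, 1, 1, 1), (21, (-1), 1, 2)] .nil .nil))) (.node [] .nil (.node [] .nil (.node [(20, (-1), 1, 1), (26, 1, 1, 2)] (.node [(41, 1, 1, 1)] .nil .nil) .nil)))) (.node [] (.node [(0, 1, 1, 1)] (.node [] (.node [] (.node [(25, (-1), 1, 1)] .nil .nil) .nil) (.node [(17, 1, 1, 1)] (.node [(35, (-1), 1, 1), (46, (-1), 1, 2)] .nil .nil) .nil)) (.node [(7, 1, 1, 1), (1, 1, 1, 2)] .nil .nil)) (.node [(2, (-1), 1, 1)] .nil (.node [(9, (-1), 1, 1), (5, (-1),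 1, 2)] (.node [(15, 1, 1, 1)] (.node [(33, 1, 1, 1), (42, 1, 1, 2)] .nil .nil) .nil) (.node [(23, (-1), 1, 1)] .nil .nil)))))
def C16 : List (ℕ × List (ℕ × ℤ)) := [(4, [(0, 1)]), (6, [(2, (-1))]), (12, [(7, 1)]), (14, [(9, (-1))]), (22, [(15, 1)]), (24, [(17, 1)]), (27, [(18, 1)]), (29, [(20, (-1))]), (30, [(23, (-1))]), (32, [(25, (-1))]), (38, [(33, 1)]), (40, [(35, (-1))]), (45, [(41, 1)]), (47, [(43, (-1))])]
def M17 : Tr (List (ℕ × ℤ × ℕ × ℕ)) := (.node [] (.node [] (.node [] (.node [] (.node [] (.node [(24, (-1), 1, 1)] .nil .nil) .nil) (.node [(16, 1, 1, 1)] .nil .nil)) (.node [(7, (-1), 1, 1), (0, (-1), 1, 2)] .nil (.node [(19, 1, 1, 1), (22, (-1), 1, 2)] .nil .nil))) (.node [(2, 1, 1, 1)] .nil (.node [] (.node [(15, (-1), 1, 1)] (.node [(33, 1, 1, 1), (41, 1, 1, 2)] .nil .nil) .nil) (.node [] (.node [(42, (-1), 1, 1)] .nil .nil) .nil)))) (.node [] (.node [(1, 1, 1, 1)] (.node []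 (.node [] (.node [(26, 1, 1, 1)] .nil .nil) .nil) (.node [] (.node [(36, 1, 1, 1), (47, 1, 1, 2)] .nil .nil) .nil)) (.node [] .nil (.node [(20, (-1), 1, 1), (25, 1, 1, 2)] .nil .nil))) (.node [] .nil (.node [(10, (-1), 1, 1), (6, (-1), 1, 2)] .nil (.node [] (.node [(43, (-1), 1, 1)] .nil .nil) .nil)))))
def C17 : List (ℕ × List (ℕ × ℤ)) := [(4, [(1, 1)]), (5, [(2, 1)]), (11, [(7, (-1))]), (14, [(10, (-1))]), (21, [(15, (-1))]), (23, [(16, 1)]), (27, [(19, 1)]), (28, [(20, (-1))]), (31, [(24, (-1))]), (32, [(26, 1)]), (37, [(33, 1)]), (40, [(36, 1)]), (45, [(42, (-1))]), (46, [(43, (-1))])]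
def M18 : Tr (List (ℕ × ℤ × ℕ × ℕ)) := (.node [] (.node [] (.node [(0, (-2), 1, 1)] (.node [] (.node [] (.node [(27, (-1), 1, 1), (21, 1, 2, 1)] .nil .nil) (.node [(44, 1, 1, 1), (41, 1, 2, 1)] .nil .nil)) (.node [] (.node [(35, (-1), 1, 1)] .nil .nil) .nil)) (.node [] (.node [(15, 2, 1, 1)] .nil .nil) (.node [(21, (-2), 1, 1)] .nil .nil))) (.node [] .nil (.node [(9, 1, 1, 1)] .nil .nil))) (.node [] (.node [] (.node [] (.node [] (.node [(28, (-1), 1, 1), (23, 1, 2, 1)] .nil .nil) .nil) (.node [(19, 1, 1, 1), (15, 1, 2, 1)] (.node [(37, 1, 1, 1)] .nil .nil) .nil)) (.node [(8, 1, 1, 1)] (.node [(16, 2, 1, 1)] (.node [(33, 1, 1, 1)] .nil .nil) .nil) (.node [(23, (-2), 1, 1)] (.node [(41, 2, 1, 1)] .nil .nil) .nil))) (.node [(3, (-1), 1, 1), (0, 1, 2, 1)] (.node [(7, (-1), 1, 1)] .nil (.node [(20, 1, 1, 1), (16, 1, 2, 1)] .nil .nil)) (.node [(11, (-1), 1, 1)] (.node [] (.node [(34, (-1), 1, 1)]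 .nil .nil) .nil) .nil))))
def C18 : List (ℕ × List (ℕ × ℤ)) := [(3, [(0, (-2))]), (6, [(3, (-1)), (0, 1)]), (10, [(7, (-1))]), (12, [(8, 1)]), (13, [(9, 1)]), (14, [(11, (-1))]), (19, [(15, 2)]), (20, [(16, 2)]), (24, [(19, 1), (15, 1)]), (26, [(20, 1), (16, 1)]), (27, [(21, (-2))]), (28, [(23, (-2))]), (31, [(27, (-1)), (21, 1)]), (32, [(28, (-1)), (23, 1)]), (36, [(33, 1)]), (38, [(34, (-1))]), (39, [(35, (-1))]), (40, [(37, 1)]), (44, [(41, 2)]), (47, [(44, 1), (41, 1)])]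
def M19 : Tr (List (ℕ × ℤ × ℕ × ℕ)) := (.node [] (.node [] (.node [(1, (-2), 1, 1)] (.node [] .nil (.node [(18, 1, 1, 1), (15, (-1), 2, 1)] (.node [(36, 1, 1, 1)] .nil .nil) .nil)) (.node [(8, (-1), 1, 1)] (.node [] (.node [(33, 1, 1, 1)] .nil .nil) .nil) (.node [(22, (-2), 1, 1)] .nil .nil))) (.node [(3, 1, 1, 1), (1, (-1), 2, 1)] (.node [(7, 1, 1, 1)] .nil (.node [(20, 1, 1, 1), (17, 1, 2, 1)] .nil .nil)) (.node [(10, 1, 1, 1)] (.node [] (.node [(34, (-1), 1, 1)] .nil .nil) .nil) (.node [(24, (-2), 1, 1)] .nil .nil)))) (.node [] (.node [] (.node [] (.node [] (.node [(29, 1, 1, 1), (24, (-1), 2, 1)] .nil .nil) .nil) (.node [] (.node [(38, (-1), 1, 1)] .nil .nil) .nil)) (.node [] (.node [(17, 2, 1, 1)] .nil .nil) (.node [] (.node [(42, (-2), 1, 1)] .nil .nil) .nil))) (.node [] (.node [] (.node [(15, (-2), 1, 1)] .nil .nil) .nil) (.node [(12, (-1), 1, 1)] .nil (.node [(27, (-1), 1, 1), (22,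 1, 2, 1)] (.node [(44, 1, 1, 1), (42, (-1), 2, 1)] .nil .nil) .nil)))))
def C19 : List (ℕ × List (ℕ × ℤ)) := [(3, [(1, (-2))]), (5, [(3, 1), (1, (-1))]), (9, [(7, 1)]), (11, [(8, (-1))]), (13, [(10, 1)]), (14, [(12, (-1))]), (18, [(15, (-2))]), (20, [(17, 2)]), (23, [(18, 1), (15, (-1))]), (25, [(20, 1), (17, 1)]), (27, [(22, (-2))]), (29, [(24, (-2))]), (30, [(27, (-1)), (22, 1)]), (32, [(29, 1), (24, (-1))]), (35, [(33, 1)]), (37, [(34, (-1))]), (39, [(36, 1)]), (40, [(38, (-1))]), (44, [(42, (-2))]), (46, [(44, 1), (42, (-1))])]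
def M20 : Tr (List (ℕ × ℤ × ℕ × ℕ)) := (.node [] (.node [] (.node [(2, (-2), 1, 1)] (.node [] (.node [] (.node [(29, 1, 1, 1), (26, (-1), 2, 1)] .nil .nil) .nil) .nil) (.node [(9, (-1), 1, 1)] (.node [(17, (-2), 1, 1)] .nil .nil) .nil)) (.node [] .nil (.node [] (.node [(18, 1, 1, 1), (16, (-1), 2, 1)] (.node [(35, 1, 1, 1)] .nil .nil) .nil) (.node [(26, (-2), 1, 1)] (.node [(44, 1, 1, 1), (43, 1, 2, 1)] .nil .nil) .nil)))) (.node [] (.node [(3, (-1), 1, 1), (2, 1, 2, 1)] (.node [(7, (-1), 1, 1)] .nil (.node [] (.node [(39, 1, 1, 1)] .nil .nil) .nil)) (.node [(10, (-1), 1, 1)] .nil (.node [(25, (-2), 1, 1)] (.node [(43, 2, 1, 1)] .nil .nil) .nil))) (.node [] (.node [] (.node [(16, (-2), 1, 1)] (.node [(33, 1, 1, 1)] .nil .nil) .nil) .nil) (.node [(13, (-1), 1, 1)] (.node [(19, 1, 1, 1), (17, (-1), 2, 1)] (.node [(36, 1, 1, 1)] .nil .nil) .nil) (.node [(28, 1, 1, 1), (25, (-1), 2, 1)] .nil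 .nil)))))
def C20 : List (ℕ × List (ℕ × ℤ)) := [(3, [(2, (-2))]), (4, [(3, (-1)), (2, 1)]), (8, [(7, (-1))]), (11, [(9, (-1))]), (12, [(10, (-1))]), (14, [(13, (-1))]), (18, [(16, (-2))]), (19, [(17, (-2))]), (21, [(18, 1), (16, (-1))]), (22, [(19, 1), (17, (-1))]), (28, [(25, (-2))]), (29, [(26, (-2))]), (30, [(28, 1), (25, (-1))]), (31, [(29, 1), (26, (-1))]), (34, [(33, 1)]), (37, [(35, 1)]), (38, [(36, 1)]), (40, [(39, 1)]), (44, [(43, 2)]), (45, [(44, 1), (43, 1)])]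
def M21 : Tr (List (ℕ × ℤ × ℕ × ℕ)) := (.node [] (.node [] (.node [] (.node [] (.node [] .nil (.node [(45, 1, 1, 1)] .nil .nil)) (.node [] (.node [(37, (-1), 1, 1), (46, 1, 1, 2)] .nil .nil) .nil)) (.node [] .nil (.node [] (.node [(41, (-1), 1, 1)] .nil .nil) .nil))) (.node [] (.node [] (.node [(15, 1, 1, 1)] .nil .nil) (.node [(23, (-1), 1, 1)] .nil .nil)) (.node [(11, (-1), 1, 1), (5, 1, 1, 2)] .nil (.node [(27, 1, 1, 1), (31, 1, 1, 2)] .nil .nil)))) (.node [(0, (-1), 1, 1)] (.node [] (.node [] (.node [] (.node [(30, (-1), 1, 1)] .nil .nil) .nil) (.node [(22, 1, 1, 1)] .nil .nil)) (.node [] (.node [(18, (-1), 1, 1), (16, (-1), 1, 2)] (.node [(34, 1, 1, 1), (42, (-1), 1, 2)] .nil .nil) .nil) .nil)) (.node [(4, 1, 1, 1)] (.node [(8, 1, 1, 1), (1, (-1), 1, 2)] .nil .nil) .nil)))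
def C21 : List (ℕ × List (ℕ × ℤ)) := [(2, [(0, (-1))]), (6, [(4, 1)]), (10, [(8, 1)]), (13, [(11, (-1))]), (17, [(15, 1)]), (20, [(18, (-1))]), (24, [(22, 1)]), (25, [(23, (-1))]), (29, [(27, 1)]), (32, [(30, (-1))]), (36, [(34, 1)]), (39, [(37, (-1))]), (43, [(41, (-1))]), (47, [(45, 1)])]
def M22 : Tr (List (ℕ × ℤ × ℕ × ℕ)) := (.node [] (.node [] (.node [] (.node [] .nil (.node [(21, 1, 1, 1)] (.node [(38, 1, 1, 1), (47, (-1), 1, 2)] .nil .nil) .nil)) (.node [] (.node [] (.node [(34, 1, 1, 1), (41, (-1), 1, 2)] .nil .nil) .nil) (.node [] (.node [(42, 1, 1, 1)] .nil .nil) .nil))) (.node [(4, (-1), 1, 1)] (.node [(8, (-1), 1, 1), (0, 1, 1, 2)] .nil .nil) (.node [(12, (-1), 1, 1), (6, 1, 1, 2)] .nil .nil))) (.node [(1, (-1), 1, 1)] (.node [] (.node [] (.node [(15, (-1), 1, 1)] (.node [(31, 1, 1, 1)] .nil .nil) .nil) .nil) (.node [] (.node [(19, (-1), 1, 1), (17, (-1), 1, 2)] .nil .nil) (.node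 [(27, 1, 1, 1), (30, 1, 1, 2)] .nil .nil))) (.node [] (.node [] .nil (.node [(24, (-1), 1, 1)] .nil .nil)) (.node [] .nil (.node [] (.node [(45, 1, 1, 1)] .nil .nil) .nil)))))
def C22 : List (ℕ × List (ℕ × ℤ)) := [(2, [(1, (-1))]), (5, [(4, (-1))]), (9, [(8, (-1))]), (13, [(12, (-1))]), (16, [(15, (-1))]), (20, [(19, (-1))]), (23, [(21, 1)]), (26, [(24, (-1))]), (28, [(27, 1)]), (32, [(31, 1)]), (35, [(34, 1)]), (39, [(38, 1)]), (43, [(42, 1)]), (46, [(45, 1)])]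
def M23 : Tr (List (ℕ × ℤ × ℕ × ℕ)) := (.node [] (.node [(0, (-1), 1, 1)] (.node [] (.node [] (.node [] (.node [(30, 1, 1, 1)] .nil .nil) (.node [(46, 1, 1, 1)] .nil .nil)) .nil) (.node [] (.node [(18, (-1), 1, 1), (15, (-1), 1, 2)] .nil .nil) .nil)) (.node [] (.node [] (.node [(16, (-1), 1, 1)] .nil .nil) .nil) (.node [] .nil (.node [(28, 1, 1, 1), (32, 1, 1, 2)] .nil .nil)))) (.node [] (.node [] .nil (.node [(11, (-1), 1, 1), (4, 1, 1, 2)] (.node [] (.node [(35, 1, 1, 1), (43, (-1), 1, 2)] .nil .nil) .nil) .nil)) (.node [(5, (-1), 1, 1)] (.node [(9, (-1), 1, 1), (2, 1, 1, 2)] .nil (.node [(25, 1, 1, 1)] (.node [(41, 1, 1, 1)] .nil .nil) .nil)) (.node [] (.node [(21, (-1), 1, 1)] (.node [(37, 1, 1, 1), (45, (-1), 1, 2)] .nil .nil) .nil) .nil))))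
def C23 : List (ℕ × List (ℕ × ℤ)) := [(1, [(0, (-1))]), (6, [(5, (-1))]), (10, [(9, (-1))]), (12, [(11, (-1))]), (17, [(16, (-1))]), (19, [(18, (-1))]), (22, [(21, (-1))]), (26, [(25, 1)]), (29, [(28, 1)]), (31, [(30, 1)]), (36, [(35, 1)]), (38, [(37, 1)]), (42, [(41, 1)]), (47, [(46, 1)])]
def M24 : Tr (List (ℕ × ℤ × ℕ × ℕ)) := (.node [(1, (-1), 1, 1)] (.node [] (.node [] .nil (.node [(12, (-1), 1, 1), (4, (-1), 1, 2)] (.node [] (.node [(36, 1, 1, 1), (43, 1, 1, 2)] .nil .nil) .nil) .nil)) (.node [(6, (-1), 1, 1)] (.node [(10, (-1), 1, 1), (2, (-1), 1, 2)] .nil (.node [(26, 1, 1, 1)] (.node [(42, 1, 1, 1)] .nil .nil) .nil)) (.node [] (.node [(22, (-1), 1, 1)] (.node [(38, 1, 1, 1), (45, 1, 1, 2)] .nil .nil) .nil) .nil))) (.node [] (.node [] (.node [] (.node [(17, (-1), 1, 1)] .nil .nil) .nil) (.node [] .nil (.node [(29, 1, 1, 1), (32, (-1), 1, 2)] .nil .nil))) (.node [] (.node [] (.node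 [(19, (-1), 1, 1), (15, 1, 1, 2)] .nil .nil) .nil) (.node [] .nil (.node [(31, 1, 1, 1)] (.node [(47, 1, 1, 1)] .nil .nil) .nil)))))
def C24 : List (ℕ × List (ℕ × ℤ)) := [(0, [(1, (-1))]), (5, [(6, (-1))]), (9, [(10, (-1))]), (11, [(12, (-1))]), (16, [(17, (-1))]), (18, [(19, (-1))]), (21, [(22, (-1))]), (25, [(26, 1)]), (28, [(29, 1)]), (30, [(31, 1)]), (35, [(36, 1)]), (37, [(38, 1)]), (41, [(42, 1)]), (46, [(47, 1)])]
def M25 : Tr (List (ℕ × ℤ × ℕ × ℕ)) := (.node [] (.node [(2, (-1), 1, 1)] (.node [] (.node [] (.node [(16, (-1), 1, 1)] (.node [(32, 1, 1, 1)] .nil .nil) .nil) .nil) (.node [] (.node [(20, (-1), 1, 1), (17, 1, 1, 2)] .nil .nil) (.node [(28, 1, 1, 1), (30, (-1), 1, 2)] .nil .nil))) (.node [] .nil (.node [] (.node [(23, 1, 1, 1)] .nil .nil) (.node [] (.node [(46, 1, 1, 1)] .nil .nil) .nil)))) (.node [] (.node [(5, (-1), 1, 1)] (.node [(9, (-1), 1, 1), (0, (-1), 1, 2)] .nil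 (.node [(26, (-1), 1, 1)] .nil .nil)) (.node [(13, (-1), 1, 1), (6, (-1), 1, 2)] .nil .nil)) (.node [] (.node [] (.node [] (.node [(35, 1, 1, 1), (41, 1, 1, 2)] .nil .nil) .nil) (.node [] (.node [(43, 1, 1, 1)] .nil .nil) .nil)) (.node [] (.node [] (.node [(39, 1, 1, 1), (47, 1, 1, 2)] .nil .nil) .nil) .nil))))
def C25 : List (ℕ × List (ℕ × ℤ)) := [(1, [(2, (-1))]), (4, [(5, (-1))]), (8, [(9, (-1))]), (12, [(13, (-1))]), (15, [(16, (-1))]), (19, [(20, (-1))]), (21, [(23, 1)]), (24, [(26, (-1))]), (27, [(28, 1)]), (31, [(32, 1)]), (34, [(35, 1)]), (38, [(39, 1)]), (42, [(43, 1)]), (45, [(46, 1)])]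
def M26 : Tr (List (ℕ × ℤ × ℕ × ℕ)) := (.node [(2, (-1), 1, 1)] (.node [] (.node [] (.node [] (.node [(17, 1, 1, 1)] .nil .nil) (.node [(25, (-1), 1, 1)] .nil .nil)) (.node [(13, (-1), 1, 1), (5, (-1), 1, 2)] .nil (.node [(29, 1, 1, 1), (31, (-1), 1, 2)] .nil .nil))) (.node [] (.node [] .nil (.node [] (.node [(43, (-1), 1, 1)] .nil .nil) .nil)) (.node [] (.node [] (.node [(39, (-1), 1, 1), (46, (-1), 1, 2)] .nil .nil) .nil) (.node [] (.node [(47, 1, 1, 1)] .nil .nil) .nil)))) (.node [] (.node [(6, 1, 1, 1)] (.node [(10, 1, 1, 1), (1, 1, 1, 2)] .nil .nil) .nil) (.node [] (.node [] (.node [(20, (-1), 1, 1), (16, 1, 1, 2)] (.node [(36, 1, 1, 1), (42, 1, 1, 2)] .nil .nil) .nil) .nil) (.node [] (.node [(24, 1, 1, 1)] .nil .nil) (.node [(32, (-1), 1, 1)] .nil .nil)))))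
def C26 : List (ℕ × List (ℕ × ℤ)) := [(0, [(2, (-1))]), (4, [(6, 1)]), (8, [(10, 1)]), (11, [(13, (-1))]), (15, [(17, 1)]), (18, [(20, (-1))]), (22, [(24, 1)]), (23, [(25, (-1))]), (27, [(29, 1)]), (30, [(32, (-1))]), (34, [(36, 1)]), (37, [(39, (-1))]), (41, [(43, (-1))]), (45, [(47, 1)])]
def M27 : Tr (List (ℕ × ℤ × ℕ × ℕ)) := (.node [] (.node [] (.node [(4, (-2), 1, 1)] (.node [(8, (-1), 1, 1)] .nil (.node [] (.node [(40, 1, 1, 1)] .nil .nil) .nil)) (.node [] (.node [(22, 2, 1, 1)] (.node [(37, 1, 1, 1)] .nil .nil) .nil) (.node [] (.node [(44, 1, 1, 1), (45, 1, 2, 1)] .nil .nil) .nil))) (.node [] (.node [(11, (-1), 1, 1)] (.node [(19, (-1), 1, 1), (22, (-1), 2, 1)] (.node [(34, 1, 1, 1)] .nil .nil) .nil) (.node [(28, (-1), 1, 1), (30, (-1), 2, 1)] .nil .nil)) (.node [(14, (-1), 1, 1)] .nil (.node [(31, 2, 1, 1)] .nil .nil)))) (.node [(3, (-1), 1, 1), (4, 1, 2, 1)] (.node [] (.node [] (.node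 [(18, (-1), 1, 1), (21, (-1), 2, 1)] .nil .nil) .nil) (.node [] (.node [] (.node [(38, 1, 1, 1)] .nil .nil) .nil) (.node [(30, 2, 1, 1)] (.node [(45, 2, 1, 1)] .nil .nil) .nil))) (.node [] (.node [(12, (-1), 1, 1)] (.node [(21, 2, 1, 1)] .nil .nil) (.node [(29, (-1), 1, 1), (31, (-1), 2, 1)] .nil .nil)) .nil)))
def C27 : List (ℕ × List (ℕ × ℤ)) := [(2, [(3, (-1)), (4, 1)]), (3, [(4, (-2))]), (7, [(8, (-1))]), (9, [(11, (-1))]), (10, [(12, (-1))]), (13, [(14, (-1))]), (16, [(18, (-1)), (21, (-1))]), (17, [(19, (-1)), (22, (-1))]), (18, [(21, 2)]), (19, [(22, 2)]), (25, [(28, (-1)), (30, (-1))]), (26, [(29, (-1)), (31, (-1))]), (28, [(30, 2)]), (29, [(31, 2)]), (33, [(34, 1)]), (35, [(37, 1)]), (36, [(38, 1)]), (39, [(40, 1)]), (43, [(44, 1), (45, 1)]), (44, [(45, 2)])]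
def M28 : Tr (List (ℕ × ℤ × ℕ × ℕ)) := (.node [] (.node [(3, (-1), 1, 1), (5, (-1), 2, 1)] (.node [(5, 2, 1, 1)] (.node [(9, 1, 1, 1)] (.node [(18, (-1), 1, 1), (23, (-1), 2, 1)] .nil .nil) .nil) (.node [] .nil (.node [(30, (-2), 1, 1)] .nil .nil))) (.node [] (.node [] (.node [(20, 1, 1, 1), (25, 1, 2, 1)] (.node [(35, 1, 1, 1)] .nil .nil) .nil) .nil) (.node [] .nil (.node [(32, 2, 1, 1)] .nil .nil)))) (.node [] (.node [] (.node [(11, (-1), 1, 1)] .nil (.node [(29, (-1), 1, 1), (32, (-1), 2, 1)] .nil .nil)) (.node [(14, (-1), 1, 1)] (.node [(25, 2, 1, 1)] (.node [(39, 1, 1, 1)] .nil .nil) .nil) (.node [] (.node [(46, 2, 1, 1)] .nil .nil) .nil))) (.node [] (.node [(13, 1, 1, 1)] (.node [(23, 2, 1, 1)] (.node [(37, (-1), 1, 1)] .nil .nil) .nil) (.node [] (.node [(44, (-1), 1, 1), (46, (-1), 2, 1)] .nil .nil) .nil)) (.node [] (.node [(27, (-1), 1, 1), (30, 1, 2, 1)] (.node [(40, (-1), 1, 1)]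 .nil .nil) .nil) .nil))))
def C28 : List (ℕ × List (ℕ × ℤ)) := [(1, [(3, (-1)), (5, (-1))]), (3, [(5, 2)]), (7, [(9, 1)]), (8, [(11, (-1))]), (10, [(13, 1)]), (12, [(14, (-1))]), (15, [(18, (-1)), (23, (-1))]), (17, [(20, 1), (25, 1)]), (18, [(23, 2)]), (20, [(25, 2)]), (22, [(27, (-1)), (30, 1)]), (24, [(29, (-1)), (32, (-1))]), (27, [(30, (-2))]), (29, [(32, 2)]), (33, [(35, 1)]), (34, [(37, (-1))]), (36, [(39, 1)]), (38, [(40, (-1))]), (42, [(44, (-1)), (46, (-1))]), (44, [(46, 2)])]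
def M29 : Tr (List (ℕ × ℤ × ℕ × ℕ)) := (.node [(3, (-1), 1, 1), (6, 1, 2, 1)] (.node [] (.node [(6, (-2), 1, 1)] (.node [(10, (-1), 1, 1)] (.node [(19, 1, 1, 1), (24, 1, 2, 1)] .nil .nil) (.node [(28, (-1), 1, 1), (32, 1, 2, 1)] .nil .nil)) (.node [(14, (-1), 1, 1)] (.node [(24, 2, 1, 1)] (.node [(39, (-1), 1, 1)] .nil .nil) .nil) (.node [(31, (-2), 1, 1)] .nil .nil))) (.node [] (.node [(13, 1, 1, 1)] (.node [] (.node [(36, 1, 1, 1)] .nil .nil) .nil) (.node [] (.node [(44, 1, 1, 1), (47, 1, 2, 1)] .nil .nil) .nil)) (.node [] (.node [(27, (-1), 1, 1), (31, 1, 2, 1)] (.node [(40, 1, 1, 1)] .nil .nil) .nil) .nil))) (.node [] (.node [] (.node [(12, 1, 1, 1)] (.node [(20, 1, 1, 1), (26, 1, 2, 1)] .nil .nil) .nil) (.node [] (.node [(26, 2, 1, 1)] .nil .nil) (.node [(32, (-2), 1, 1)] (.node [(47, 2, 1, 1)] .nil .nil) .nil))) (.node [] (.node [] (.node [] (.node [(38, (-1), 1, 1)] .nil .nil) .nil)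 .nil) .nil)))
def C29 : List (ℕ × List (ℕ × ℤ)) := [(0, [(3, (-1)), (6, 1)]), (3, [(6, (-2))]), (7, [(10, (-1))]), (8, [(12, 1)]), (9, [(13, 1)]), (11, [(14, (-1))]), (15, [(19, 1), (24, 1)]), (16, [(20, 1), (26, 1)]), (19, [(24, 2)]), (20, [(26, 2)]), (21, [(27, (-1)), (31, 1)]), (23, [(28, (-1)), (32, 1)]), (27, [(31, (-2))]), (28, [(32, (-2))]), (33, [(36, 1)]), (34, [(38, (-1))]), (35, [(39, (-1))]), (37, [(40, 1)]), (41, [(44, 1), (47, 1)]), (44, [(47, 2)])]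
def M30 : Tr (List (ℕ × ℤ × ℕ × ℕ)) := (.node [] (.node [(4, 1, 1, 1)] (.node [] (.node [(11, (-1), 1, 1), (0, 1, 1, 2)] (.node [(21, (-1), 1, 1)] .nil .nil) .nil) (.node [] (.node [(27, 1, 1, 1), (22, 1, 1, 2)] .nil .nil) (.node [] (.node [(46, (-1), 1, 1)] .nil .nil) .nil))) (.node [] (.node [] (.node [] (.node [(37, 1, 1, 1), (41, (-1), 1, 2)] .nil .nil) .nil) .nil) .nil)) (.node [(5, 1, 1, 1)] (.node [] (.node [] (.node [(23, 1, 1, 1)] .nil .nil) (.node [(31, (-1), 1, 1)] .nil .nil)) (.node [] (.node [(28, (-1), 1, 1), (25, (-1), 1, 2)] (.node [(40, 1, 1, 1), (47, (-1), 1, 2)] .nil .nil) .nil) .nil)) (.node [] (.node [(14, (-1), 1, 1), (6, 1, 1, 2)] .nil (.node [(32, 1, 1, 1)] (.node [(45, (-1), 1, 1)] .nil .nil) .nil)) .nil)))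
def C30 : List (ℕ × List (ℕ × ℤ)) := [(1, [(4, 1)]), (2, [(5, 1)]), (7, [(11, (-1))]), (10, [(14, (-1))]), (15, [(21, (-1))]), (16, [(23, 1)]), (19, [(27, 1)]), (20, [(28, (-1))]), (24, [(31, (-1))]), (26, [(32, 1)]), (33, [(37, 1)]), (36, [(40, 1)]), (42, [(45, (-1))]), (43, [(46, (-1))])]
def M31 : Tr (List (ℕ × ℤ × ℕ × ℕ)) := (.node [(4, 1, 1, 1)] (.node [] (.node [] (.node [(12, 1, 1, 1), (1, (-1), 1, 2)] (.node [(22, 1, 1, 1)] .nil .nil) (.node [(30, (-1), 1, 1)] .nil .nil)) (.node [] (.node [] (.node [(40, (-1), 1, 1), (46, 1, 1, 2)] .nil .nil) .nil) (.node [] (.node [(47, (-1), 1, 1)] .nil .nil) .nil))) (.node [] (.node [(14, (-1), 1, 1), (5, 1, 1, 2)] (.node [(24, 1, 1, 1)] (.node [(38, 1, 1, 1), (42, (-1), 1, 2)] .nil .nil) .nil) (.node [(32, (-1), 1, 1)] (.node [(45, 1, 1, 1)] .nil .nil) .nil)) .nil)) (.node [(6, (-1), 1, 1)] (.node [] .nil (.node [] (.node [(29, (-1), 1, 1), (26,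 (-1), 1, 2)] .nil .nil) .nil)) (.node [] (.node [] (.node [(27, 1, 1, 1), (21, 1, 1, 2)] .nil .nil) .nil) .nil)))
def C31 : List (ℕ × List (ℕ × ℤ)) := [(0, [(4, 1)]), (2, [(6, (-1))]), (7, [(12, 1)]), (9, [(14, (-1))]), (15, [(22, 1)]), (17, [(24, 1)]), (18, [(27, 1)]), (20, [(29, (-1))]), (23, [(30, (-1))]), (25, [(32, (-1))]), (33, [(38, 1)]), (35, [(40, (-1))]), (41, [(45, 1)]), (43, [(47, (-1))])]
def M32 : Tr (List (ℕ × ℤ × ℕ × ℕ)) := (.node [(5, (-1), 1, 1)] (.node [(6, (-1), 1, 1)] (.node [] (.node [(13, (-1), 1, 1), (2, 1, 1, 2)] .nil .nil) (.node [] (.node [(29, (-1), 1, 1), (24, (-1), 1, 2)] .nil .nil) .nil)) (.node [] (.node [] (.node [(26, (-1), 1, 1)] (.node [(39, 1, 1, 1), (43, (-1), 1, 2)] .nil .nil) .nil) (.node [] (.node [(46, 1, 1, 1)] .nil .nil) .nil)) (.node [] (.node [(30, 1, 1, 1)] .nil .nil) .nil))) (.node [] (.node [] (.node [(14, (-1), 1, 1), (4, 1, 1, 2)] (.node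 [(25, 1, 1, 1)] .nil .nil) .nil) .nil) (.node [] (.node [] (.node [(28, 1, 1, 1), (23, 1, 1, 2)] (.node [(40, 1, 1, 1), (45, (-1), 1, 2)] .nil .nil) .nil) (.node [] (.node [(47, 1, 1, 1)] .nil .nil) .nil)) (.node [] (.node [(31, (-1), 1, 1)] .nil .nil) .nil))))
def C32 : List (ℕ × List (ℕ × ℤ)) := [(0, [(5, (-1))]), (1, [(6, (-1))]), (7, [(13, (-1))]), (8, [(14, (-1))]), (16, [(25, 1)]), (17, [(26, (-1))]), (18, [(28, 1)]), (19, [(29, (-1))]), (21, [(30, 1)]), (22, [(31, (-1))]), (33, [(39, 1)]), (34, [(40, 1)]), (41, [(46, 1)]), (42, [(47, 1)])]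
def M33 : Tr (List (ℕ × ℤ × ℕ × ℕ)) := (.node [] (.node [] (.node [(7, (-1), 1, 1)] (.node [] (.node [] (.node [(38, (-1), 1, 1), (42, (-1), 2, 1)] .nil .nil) .nil) (.node [] (.node [(43, 2, 1, 1)] .nil .nil) .nil)) (.node [(18, 1, 1, 1)] .nil (.node [(34, (-1), 1, 1)] .nil .nil))) (.node [(9, (-1), 1, 1), (16, (-1), 2, 1)] (.node [(16, 2, 1, 1)] .nil .nil) (.node [(20, 1, 1, 1)] (.node [] (.node [(41, 2, 1, 1)] .nil .nil) .nil) (.node [(36, (-1), 1, 1)] .nil .nil)))) (.node [] (.node [(8, (-1), 1, 1), (15, (-1), 2, 1)] (.node [(15, 2, 1, 1)] (.node [] (.node [(39, (-1), 1, 1), (43, (-1), 2, 1)] .nil .nil) .nil) (.node [] (.node [(44, 1, 1, 1)] .nil .nil) .nil)) (.node [(19, 1, 1, 1)] .nil (.node [(35, (-1), 1, 1)] .nil .nil))) (.node [(10, (-1), 1, 1), (17, (-1), 2, 1)] (.node [(17, 2, 1, 1)] .nil .nil) (.node [] (.node [] (.node [(42, 2, 1, 1)] .nil .nil) .nil) (.node [(37, (-1), 1, 1),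 (41, (-1), 2, 1)] .nil .nil)))))
def C33 : List (ℕ × List (ℕ × ℤ)) := [(3, [(7, (-1))]), (4, [(8, (-1)), (15, (-1))]), (5, [(9, (-1)), (16, (-1))]), (6, [(10, (-1)), (17, (-1))]), (8, [(15, 2)]), (9, [(16, 2)]), (10, [(17, 2)]), (11, [(18, 1)]), (12, [(19, 1)]), (13, [(20, 1)]), (27, [(34, (-1))]), (28, [(35, (-1))]), (29, [(36, (-1))]), (30, [(37, (-1)), (41, (-1))]), (31, [(38, (-1)), (42, (-1))]), (32, [(39, (-1)), (43, (-1))]), (37, [(41, 2)]), (38, [(42, 2)]), (39, [(43, 2)]), (40, [(44, 1)])]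
def M34 : Tr (List (ℕ × ℤ × ℕ × ℕ)) := (.node [] (.node [] (.node [(8, (-1), 1, 1)] (.node [(15, 2, 1, 1)] .nil (.node [] (.node [(44, 1, 1, 1)] .nil .nil) .nil)) (.node [(21, 2, 1, 1)] (.node [] (.node [(41, (-2), 1, 1)] .nil .nil) .nil) .nil)) (.node [(11, 1, 1, 1), (21, 1, 2, 1)] (.node [(18, (-1), 1, 1)] .nil (.node [(35, (-1), 1, 1), (41, 1, 2, 1)] .nil .nil)) (.node [] .nil (.node [(38, 1, 1, 1)] .nil .nil)))) (.node [(7, (-1), 1, 1), (15, (-1), 2, 1)] (.node [] (.node [] (.node [] (.node [(40, (-1), 1, 1), (45, (-1), 2, 1)] .nil .nil) .nil) (.node [] (.node [(45, 2, 1, 1)] .nil .nil) .nil)) (.node [(22, 2, 1, 1)] (.node [(33, (-1), 1, 1)] (.node [(42, (-2), 1, 1)] .nil .nil) .nil) (.node [(37, 1, 1, 1)] .nil .nil))) (.node [(12, 1, 1, 1), (22, 1, 2, 1)] (.node [(19, (-1), 1, 1)] .nil (.node [(36, (-1), 1, 1), (42, 1, 2, 1)] .nil .nil)) (.node [(27, 1, 1, 1)] .nil .nil))))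
def C34 : List (ℕ × List (ℕ × ℤ)) := [(2, [(7, (-1)), (15, (-1))]), (3, [(8, (-1))]), (5, [(11, 1), (21, 1)]), (6, [(12, 1), (22, 1)]), (7, [(15, 2)]), (9, [(18, (-1))]), (10, [(19, (-1))]), (11, [(21, 2)]), (12, [(22, 2)]), (14, [(27, 1)]), (20, [(33, (-1))]), (25, [(35, (-1)), (41, 1)]), (26, [(36, (-1)), (42, 1)]), (28, [(37, 1)]), (29, [(38, 1)]), (32, [(40, (-1)), (45, (-1))]), (35, [(41, (-2))]), (36, [(42, (-2))]), (39, [(44, 1)]), (40, [(45, 2)])]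
def M35 : Tr (List (ℕ × ℤ × ℕ × ℕ)) := (.node [] (.node [(7, (-1), 1, 1), (16, 1, 2, 1)] (.node [(9, 1, 1, 1)] (.node [(16, (-2), 1, 1)] (.node [] (.node [(40, 1, 1, 1), (46, 1, 2, 1)] .nil .nil) .nil) .nil) (.node [(23, 2, 1, 1)] (.node [(33, (-1), 1, 1)] .nil .nil) (.node [(37, (-1), 1, 1)] .nil .nil))) (.node [] .nil (.node [(25, 2, 1, 1)] .nil (.node [(39, 1, 1, 1)] .nil .nil)))) (.node [] (.node [(11, 1, 1, 1), (23, 1, 2, 1)] (.node [(18, (-1), 1, 1)] .nil (.node [(36, (-1), 1, 1), (43, 1, 2, 1)] (.node [(46, 2, 1, 1)] .nil .nil) .nil)) (.node [] (.node [] (.node [(43, (-2), 1, 1)] .nil .nil) .nil) .nil)) (.node [(13, (-1), 1, 1), (25, (-1), 2, 1)] (.node [(20, 1, 1, 1)] (.node [] (.node [(41, 2, 1, 1)] .nil .nil) .nil) .nil) (.node [(28, 1, 1, 1)] (.node [(34, (-1), 1, 1), (41, (-1), 2, 1)] (.node [(44, (-1), 1, 1)] .nil .nil) .nil) .nil))))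
def C35 : List (ℕ × List (ℕ × ℤ)) := [(1, [(7, (-1)), (16, 1)]), (3, [(9, 1)]), (4, [(11, 1), (23, 1)]), (6, [(13, (-1)), (25, (-1))]), (7, [(16, (-2))]), (8, [(18, (-1))]), (10, [(20, 1)]), (11, [(23, 2)]), (13, [(25, 2)]), (14, [(28, 1)]), (19, [(33, (-1))]), (22, [(34, (-1)), (41, (-1))]), (24, [(36, (-1)), (43, 1)]), (27, [(37, (-1))]), (29, [(39, 1)]), (31, [(40, 1), (46, 1)]), (34, [(41, 2)]), (36, [(43, (-2))]), (38, [(44, (-1))]), (40, [(46, 2)])]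
def M36 : Tr (List (ℕ × ℤ × ℕ × ℕ)) := (.node [(7, (-1), 1, 1), (17, (-1), 2, 1)] (.node [] (.node [(10, (-1), 1, 1)] (.node [(17, 2, 1, 1)] .nil (.node [(35, (-1), 1, 1), (43, (-1), 2, 1)] .nil .nil)) (.node [] (.node [] (.node [(43, 2, 1, 1)] .nil .nil) .nil) (.node [(38, (-1), 1, 1)] .nil .nil))) (.node [(13, (-1), 1, 1), (26, (-1), 2, 1)] (.node [(20, 1, 1, 1)] .nil .nil) (.node [(26, 2, 1, 1)] (.node [(34, (-1), 1, 1), (42, (-1), 2, 1)] (.node [(44, 1, 1, 1)] .nil .nil) .nil) .nil))) (.node [] (.node [(12, (-1), 1, 1), (24, (-1), 2, 1)] (.node [(19, 1, 1, 1)] .nil (.node [] (.node [(47, 2, 1, 1)] .nil .nil) .nil)) (.node [(24, 2, 1, 1)] .nil (.node [(39, (-1), 1, 1)] .nil .nil))) (.node [] (.node [] (.node [(33, (-1), 1, 1)] (.node [(42, 2, 1, 1)] .nil .nil) .nil) .nil) (.node [(29, 1, 1, 1)] .nil (.node [(40, (-1), 1, 1), (47, (-1), 2, 1)] .nil .nil)))))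
def C36 : List (ℕ × List (ℕ × ℤ)) := [(0, [(7, (-1)), (17, (-1))]), (3, [(10, (-1))]), (4, [(12, (-1)), (24, (-1))]), (5, [(13, (-1)), (26, (-1))]), (7, [(17, 2)]), (8, [(19, 1)]), (9, [(20, 1)]), (12, [(24, 2)]), (13, [(26, 2)]), (14, [(29, 1)]), (18, [(33, (-1))]), (21, [(34, (-1)), (42, (-1))]), (23, [(35, (-1)), (43, (-1))]), (27, [(38, (-1))]), (28, [(39, (-1))]), (30, [(40, (-1)), (47, (-1))]), (34, [(42, 2)]), (35, [(43, 2)]), (37, [(44, 1)]), (40, [(47, 2)])]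
def M37 : Tr (List (ℕ × ℤ × ℕ × ℕ)) := (.node [] (.node [(8, 1, 1, 1), (21, (-1), 2, 1)] (.node [(11, 1, 1, 1)] (.node [(18, 1, 1, 1)] .nil (.node [] (.node [(46, (-2), 1, 1)] .nil .nil) .nil)) (.node [] (.node [(34, 1, 1, 1)] .nil .nil) .nil)) (.node [] (.node [(23, 2, 1, 1)] (.node [(33, (-1), 1, 1), (41, 1, 2, 1)] (.node [(41, (-2), 1, 1)] .nil .nil) .nil) .nil) (.node [(28, (-1), 1, 1)] .nil (.node [(40, (-1), 1, 1)] .nil .nil)))) (.node [(9, 1, 1, 1), (23, 1, 2, 1)] (.node [] (.node [(21, (-2), 1, 1)] .nil (.node [(38, (-1), 1, 1), (45, 1, 2, 1)] .nil .nil)) (.node [(27, 1, 1, 1)] (.node [(35, (-1), 1, 1)] (.node [(44, (-1), 1, 1)] .nil .nil) .nil) .nil)) (.node [(14, 1, 1, 1), (30, 1, 2, 1)] (.node [] .nil (.node [(39, 1, 1, 1), (46, (-1), 2, 1)] .nil .nil)) (.node [(30, 2, 1, 1)] (.node [] (.node [(45, (-2), 1, 1)] .nil .nil) .nil) .nil))))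
def C37 : List (ℕ × List (ℕ × ℤ)) := [(1, [(8, 1), (21, (-1))]), (2, [(9, 1), (23, 1)]), (3, [(11, 1)]), (6, [(14, 1), (30, 1)]), (7, [(18, 1)]), (8, [(21, (-2))]), (9, [(23, 2)]), (12, [(27, 1)]), (13, [(28, (-1))]), (14, [(30, 2)]), (17, [(33, (-1)), (41, 1)]), (19, [(34, 1)]), (20, [(35, (-1))]), (24, [(38, (-1)), (45, 1)]), (26, [(39, 1), (46, (-1))]), (29, [(40, (-1))]), (33, [(41, (-2))]), (36, [(44, (-1))]), (38, [(45, (-2))]), (39, [(46, (-2))])]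
def M38 : Tr (List (ℕ × ℤ × ℕ × ℕ)) := (.node [(8, 1, 1, 1), (22, 1, 2, 1)] (.node [] (.node [(12, (-1), 1, 1)] (.node [(19, (-1), 1, 1)] .nil (.node [(37, (-1), 1, 1), (45, (-1), 2, 1)] (.node [(47, (-2), 1, 1)] .nil .nil) .nil)) (.node [(27, 1, 1, 1)] (.node [] (.node [(44, 1, 1, 1)] .nil .nil) .nil) .nil)) (.node [(14, 1, 1, 1), (31, 1, 2, 1)] (.node [] (.node [] (.node [(42, (-2), 1, 1)] .nil .nil) .nil) (.node [(39, (-1), 1, 1), (47, 1, 2, 1)] .nil .nil)) (.node [(29, (-1), 1, 1)] (.node [] (.node [(45, 2, 1, 1)] .nil .nil) .nil) .nil))) (.node [(10, (-1), 1, 1), (24, (-1), 2, 1)] (.node [] (.node [(22, 2, 1, 1)] (.node [(33, (-1), 1, 1), (42, 1, 2, 1)] .nil .nil) .nil) (.node [] (.node [(36, (-1), 1, 1)] .nil .nil) (.node [(40, 1, 1, 1)] .nil .nil))) (.node [] (.node [(24, 2, 1, 1)] (.node [(34, 1, 1, 1)] .nil .nil) .nil) (.node [(31, 2, 1, 1)] .nil .nil))))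
def C38 : List (ℕ × List (ℕ × ℤ)) := [(0, [(8, 1), (22, 1)]), (2, [(10, (-1)), (24, (-1))]), (3, [(12, (-1))]), (5, [(14, 1), (31, 1)]), (7, [(19, (-1))]), (8, [(22, 2)]), (10, [(24, 2)]), (11, [(27, 1)]), (13, [(29, (-1))]), (14, [(31, 2)]), (16, [(33, (-1)), (42, 1)]), (18, [(34, 1)]), (20, [(36, (-1))]), (23, [(37, (-1)), (45, (-1))]), (25, [(39, (-1)), (47, 1)]), (28, [(40, 1)]), (33, [(42, (-2))]), (35, [(44, 1)]), (37, [(45, 2)]), (39, [(47, (-2))])]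
def M39 : Tr (List (ℕ × ℤ × ℕ × ℕ)) := (.node [(9, (-1), 1, 1), (25, (-1), 2, 1)] (.node [(10, (-1), 1, 1), (26, 1, 2, 1)] (.node [(13, 1, 1, 1)] (.node [(20, 1, 1, 1)] (.node [(33, (-1), 1, 1), (43, 1, 2, 1)] .nil .nil) .nil) (.node [(28, 1, 1, 1)] (.node [(36, (-1), 1, 1)] .nil .nil) (.node [(40, (-1), 1, 1)] .nil .nil))) (.node [] (.node [(25, 2, 1, 1)] (.node [] (.node [(43, (-2), 1, 1)] .nil .nil) .nil) .nil) (.node [] (.node [(37, 1, 1, 1), (46, 1, 2, 1)] (.node [(46, 2, 1, 1)] .nil .nil) .nil) .nil))) (.node [] (.node [(14, 1, 1, 1), (32, 1, 2, 1)] .nil (.node [(29, (-1), 1, 1)] .nil .nil)) (.node [] (.node [(26, (-2), 1, 1)] (.node [(35, 1, 1, 1)] (.node [(44, (-1), 1, 1)] .nil .nil) .nil) .nil) (.node [(32, 2, 1, 1)] (.node [(38, (-1), 1, 1), (47, (-1), 2, 1)] (.node [(47, 2, 1, 1)] .nil .nil) .nil) .nil))))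
def C39 : List (ℕ × List (ℕ × ℤ)) := [(0, [(9, (-1)), (25, (-1))]), (1, [(10, (-1)), (26, 1)]), (3, [(13, 1)]), (4, [(14, 1), (32, 1)]), (7, [(20, 1)]), (9, [(25, 2)]), (10, [(26, (-2))]), (11, [(28, 1)]), (12, [(29, (-1))]), (14, [(32, 2)]), (15, [(33, (-1)), (43, 1)]), (18, [(35, 1)]), (19, [(36, (-1))]), (21, [(37, 1), (46, 1)]), (22, [(38, (-1)), (47, (-1))]), (27, [(40, (-1))]), (33, [(43, (-2))]), (34, [(44, (-1))]), (37, [(46, 2)]), (38, [(47, 2)])]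
def M40 : Tr (List (ℕ × ℤ × ℕ × ℕ)) := (.node [(11, 1, 1, 1), (30, 1, 2, 1)] (.node [(12, 1, 1, 1), (31, (-1), 2, 1)] (.node [(14, 1, 1, 1)] (.node [] (.node [(34, (-1), 1, 1), (45, 1, 2, 1)] .nil .nil) .nil) (.node [(30, 2, 1, 1)] (.node [(38, 1, 1, 1)] (.node [(46, (-2), 1, 1)] .nil .nil) .nil) .nil)) (.node [] (.node [(28, (-1), 1, 1)] (.node [(36, (-1), 1, 1), (47, 1, 2, 1)] (.node [(44, (-1), 1, 1)] .nil .nil) .nil) .nil) (.node [(32, 2, 1, 1)] .nil .nil))) (.node [(13, 1, 1, 1), (32, 1, 2, 1)] (.node [] (.node [(27, 1, 1, 1)] (.node [(35, 1, 1, 1), (46, (-1), 2, 1)] .nil .nil) .nil) (.node [(31, (-2), 1, 1)] (.node [(39, (-1), 1, 1)] (.node [(47, (-2), 1, 1)] .nil .nil) .nil) .nil)) (.node [] (.node [(29, 1, 1, 1)] (.node [(37, (-1), 1, 1)] (.node [(45, (-2), 1, 1)] .nil .nil) .nil) .nil) .nil)))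
def C40 : List (ℕ × List (ℕ × ℤ)) := [(0, [(11, 1), (30, 1)]), (1, [(12, 1), (31, (-1))]), (2, [(13, 1), (32, 1)]), (3, [(14, 1)]), (8, [(27, 1)]), (9, [(28, (-1))]), (10, [(29, 1)]), (11, [(30, 2)]), (12, [(31, (-2))]), (13, [(32, 2)]), (15, [(34, (-1)), (45, 1)]), (16, [(35, 1), (46, (-1))]), (17, [(36, (-1)), (47, 1)]), (18, [(37, (-1))]), (19, [(38, 1)]), (20, [(39, (-1))]), (33, [(44, (-1))]), (34, [(45, (-2))]), (35, [(46, (-2))]), (36, [(47, (-2))])]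
def M41 : Tr (List (ℕ × ℤ × ℕ × ℕ)) := (.node [] (.node [(15, 1, 1, 1)] (.node [(18, 1, 1, 1), (0, (-1), 1, 2)] (.node [] (.node [] (.node [(45, (-1), 1, 1)] .nil .nil) .nil) .nil) .nil) (.node [(23, 1, 1, 1)] .nil (.node [(35, 1, 1, 1), (25, 1, 1, 2)] .nil (.node [(44, (-1), 1, 1), (47, 1, 1, 2)] .nil .nil)))) (.node [(16, 1, 1, 1)] (.node [(21, (-1), 1, 1)] (.node [] (.node [] (.node [(46, (-1), 1, 1)] .nil .nil) .nil) (.node [(42, (-1), 1, 1)] .nil .nil)) (.node [(34, (-1), 1, 1), (22, (-1), 1, 2)] .nil .nil)) (.node [] (.node [(33, 1, 1, 1), (17, 1, 1, 2)] .nil (.node [(43, 1, 1, 1)] .nil .nil)) (.node [(37, (-1), 1, 1), (30, (-1), 1, 2)] .nil .nil))))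
def C41 : List (ℕ × List (ℕ × ℤ)) := [(1, [(15, 1)]), (2, [(16, 1)]), (3, [(18, 1)]), (4, [(21, (-1))]), (5, [(23, 1)]), (10, [(33, 1)]), (12, [(34, (-1))]), (13, [(35, 1)]), (14, [(37, (-1))]), (24, [(42, (-1))]), (26, [(43, 1)]), (29, [(44, (-1))]), (31, [(45, (-1))]), (32, [(46, (-1))])]
def M42 : Tr (List (ℕ × ℤ × ℕ × ℕ)) := (.node [(15, 1, 1, 1)] (.node [] (.node [(19, (-1), 1, 1), (1, 1, 1, 2)] (.node [] .nil (.node [(41, (-1), 1, 1)] .nil .nil)) (.node [(34, (-1), 1, 1), (21, (-1), 1, 2)] .nil .nil)) (.node [] (.node [(33, 1, 1, 1), (16, 1, 1, 2)] .nil (.node [(43, (-1), 1, 1)] .nil .nil)) (.node [(36, 1, 1, 1), (26, 1, 1, 2)] .nil .nil))) (.node [(17, (-1), 1, 1)] (.node [(22, 1, 1, 1)] (.node [] (.node [] (.node [(47, (-1), 1, 1)] .nil .nil) .nil) .nil) (.node [] .nil (.node [(44, 1, 1, 1), (46, (-1), 1, 2)] .nil .nil))) (.node [(24, 1, 1, 1)] .nil (.node [(38, (-1), 1, 1), (31,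 (-1), 1, 2)] .nil (.node [(45, 1, 1, 1)] .nil .nil)))))
def C42 : List (ℕ × List (ℕ × ℤ)) := [(0, [(15, 1)]), (2, [(17, (-1))]), (3, [(19, (-1))]), (4, [(22, 1)]), (6, [(24, 1)]), (9, [(33, 1)]), (11, [(34, (-1))]), (13, [(36, 1)]), (14, [(38, (-1))]), (23, [(41, (-1))]), (25, [(43, (-1))]), (28, [(44, 1)]), (30, [(45, 1)]), (32, [(47, (-1))])]
def M43 : Tr (List (ℕ × ℤ × ℕ × ℕ)) := (.node [(16, (-1), 1, 1)] (.node [(17, (-1), 1, 1)] (.node [(20, 1, 1, 1), (2, (-1), 1, 2)] (.node [] (.node [] (.node [(47, 1, 1, 1)] .nil .nil) .nil) .nil) (.node [(35, (-1), 1, 1), (23, (-1), 1, 2)] .nil (.node [(44, (-1), 1, 1), (45, 1, 1, 2)] .nil .nil))) (.node [(25, 1, 1, 1)] .nil (.node [] (.node [(41, 1, 1, 1)] .nil .nil) .nil))) (.node [] (.node [] (.node [(33, 1, 1, 1), (15, 1, 1, 2)] .nil .nil) (.node [(36, 1, 1, 1), (24, 1, 1, 2)] .nil .nil)) (.node [(26, (-1), 1, 1)] .nil (.node [(39, (-1), 1, 1),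 (32, (-1), 1, 2)] (.node [(42, (-1), 1, 1)] .nil .nil) (.node [(46, 1, 1, 1)] .nil .nil)))))
def C43 : List (ℕ × List (ℕ × ℤ)) := [(0, [(16, (-1))]), (1, [(17, (-1))]), (3, [(20, 1)]), (5, [(25, 1)]), (6, [(26, (-1))]), (8, [(33, 1)]), (11, [(35, (-1))]), (12, [(36, 1)]), (14, [(39, (-1))]), (21, [(41, 1)]), (22, [(42, (-1))]), (27, [(44, (-1))]), (30, [(46, 1)]), (31, [(47, 1)])]
def M44 : Tr (List (ℕ × ℤ × ℕ × ℕ)) := (.node [(18, 1, 1, 1), (41, (-1), 2, 1)] (.node [(19, 1, 1, 1), (42, 1, 2, 1)] (.node [] (.node [(33, 1, 1, 1)] .nil .nil) (.node [(37, (-1), 1, 1)] (.node [(42, 2, 1, 1)] .nil .nil) (.node [(45, (-2), 1, 1)] .nil .nil))) (.node [(28, (-1), 1, 1), (46, 1, 2, 1)] (.node [(35, (-1), 1, 1)] .nil .nil) (.node [(39, (-1), 1, 1)] .nil (.node [(47, (-2), 1, 1)] .nil .nil)))) (.node [(20, 1, 1, 1), (43, (-1), 2, 1)] (.node [(27, 1, 1, 1), (45, (-1), 2, 1)] (.node [(34, 1, 1, 1)] .nil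 .nil) (.node [(38, 1, 1, 1)] (.node [(43, (-2), 1, 1)] .nil .nil) (.node [(46, (-2), 1, 1)] .nil .nil))) (.node [(29, 1, 1, 1), (47, (-1), 2, 1)] (.node [(36, 1, 1, 1)] (.node [(41, (-2), 1, 1)] .nil .nil) .nil) (.node [(40, (-1), 1, 1)] .nil .nil))))
def C44 : List (ℕ × List (ℕ × ℤ)) := [(0, [(18, 1), (41, (-1))]), (1, [(19, 1), (42, 1)]), (2, [(20, 1), (43, (-1))]), (4, [(27, 1), (45, (-1))]), (5, [(28, (-1)), (46, 1)]), (6, [(29, 1), (47, (-1))]), (7, [(33, 1)]), (8, [(34, 1)]), (9, [(35, (-1))]), (10, [(36, 1)]), (11, [(37, (-1))]), (12, [(38, 1)]), (13, [(39, (-1))]), (14, [(40, (-1))]), (18, [(41, (-2))]), (19, [(42, 2)]), (20, [(43, (-2))]), (27, [(45, (-2))]), (28, [(46, (-2))]), (29, [(47, (-2))])]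
def M45 : Tr (List (ℕ × ℤ × ℕ × ℕ)) := (.node [(21, 1, 1, 1)] (.node [(22, 1, 1, 1)] (.node [(27, 1, 1, 1), (4, (-1), 1, 2)] (.node [(34, 1, 1, 1), (15, 1, 1, 2)] .nil .nil) .nil) (.node [(30, (-1), 1, 1)] (.node [(37, (-1), 1, 1), (23, (-1), 1, 2)] (.node [(42, 1, 1, 1)] .nil .nil) (.node [(46, (-1), 1, 1)] .nil .nil)) (.node [(40, (-1), 1, 1), (32, (-1), 1, 2)] .nil .nil))) (.node [] (.node [] (.node [] (.node [(41, (-1), 1, 1)] .nil .nil) .nil) (.node [] (.node [(44, (-1), 1, 1), (43, 1, 1, 2)] .nil .nil) .nil)) (.node [(31, 1, 1, 1)] (.node [(38, 1, 1, 1), (24, 1, 1, 2)] .nil (.node [(47, (-1), 1, 1)] .nil .nil)) .nil)))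
def C45 : List (ℕ × List (ℕ × ℤ)) := [(0, [(21, 1)]), (1, [(22, 1)]), (3, [(27, 1)]), (5, [(30, (-1))]), (6, [(31, 1)]), (7, [(34, 1)]), (9, [(37, (-1))]), (10, [(38, 1)]), (13, [(40, (-1))]), (16, [(41, (-1))]), (17, [(42, 1)]), (20, [(44, (-1))]), (25, [(46, (-1))]), (26, [(47, (-1))])]
def M46 : Tr (List (ℕ × ℤ × ℕ × ℕ)) := (.node [(23, 1, 1, 1)] (.node [] (.node [(28, 1, 1, 1), (5, 1, 1, 2)] (.node [(35, 1, 1, 1), (16, (-1), 1, 2)] (.node [(41, (-1), 1, 1)] .nil .nil) .nil) (.node [] (.node [(44, (-1), 1, 1), (42, (-1), 1, 2)] .nil .nil) .nil)) (.node [] (.node [] (.node [(43, 1, 1, 1)] .nil .nil) .nil) .nil)) (.node [(25, 1, 1, 1)] (.node [(30, (-1), 1, 1)] (.node [(37, (-1), 1, 1), (21, 1, 1, 2)] .nil (.node [(47, (-1), 1, 1)] .nil .nil)) (.node [(40, (-1), 1, 1), (31, 1, 1, 2)] .nil .nil)) (.node [(32, 1, 1, 1)] (.node [(39, 1, 1, 1), (26, (-1), 1, 2)] .nil .nil) (.node [] (.node [(45,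 (-1), 1, 1)] .nil .nil) .nil))))
def C46 : List (ℕ × List (ℕ × ℤ)) := [(0, [(23, 1)]), (2, [(25, 1)]), (3, [(28, 1)]), (4, [(30, (-1))]), (6, [(32, 1)]), (7, [(35, 1)]), (8, [(37, (-1))]), (10, [(39, 1)]), (12, [(40, (-1))]), (15, [(41, (-1))]), (17, [(43, 1)]), (19, [(44, (-1))]), (22, [(45, (-1))]), (24, [(47, (-1))])]
def M47 : Tr (List (ℕ × ℤ × ℕ × ℕ)) := (.node [] (.node [(24, 1, 1, 1)] (.node [(29, 1, 1, 1), (6, (-1), 1, 2)] (.node [(36, 1, 1, 1), (17, 1, 1, 2)] (.node [(42, (-1), 1, 1)] .nil .nil) (.node [(46, (-1), 1, 1)] .nil .nil)) (.node [(40, (-1), 1, 1), (30, (-1), 1, 2)] .nil .nil)) (.node [(32, 1, 1, 1)] (.node [(39, 1, 1, 1), (25, 1, 1, 2)] .nil .nil) (.node [] (.node [(45, (-1), 1, 1)] .nil .nil) .nil))) (.node [(26, 1, 1, 1)] (.node [(31, (-1), 1, 1)] (.node [(38, (-1), 1, 1), (22, (-1), 1, 2)] (.node [(43, 1, 1, 1)] .nil .nil) .nil) .nil) (.node [] (.node [] (.node [(44,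 (-1), 1, 1), (41, 1, 1, 2)] .nil .nil) .nil) .nil)))
def C47 : List (ℕ × List (ℕ × ℤ)) := [(1, [(24, 1)]), (2, [(26, 1)]), (3, [(29, 1)]), (4, [(31, (-1))]), (5, [(32, 1)]), (7, [(36, 1)]), (8, [(38, (-1))]), (9, [(39, 1)]), (11, [(40, (-1))]), (15, [(42, (-1))]), (16, [(43, 1)]), (18, [(44, (-1))]), (21, [(45, (-1))]), (23, [(46, (-1))])]
set_option maxRecDepth 20000 in
def T : Tabs where
  X := (.node X0 (.node X1 (.node X3 (.node X7 (.node X15 (.node X31 .nil .nil) (.node X47 .nil .nil)) (.node X23 (.node X39 .nil .nil) .nil)) (.node X11 (.node X19 (.node X35 .nil .nil) .nil) (.node X27 (.node X43 .nil .nil) .nil))) (.node X5 (.node X9 (.node X17 (.node X33 .nil .nil) .nil) (.node X25 (.node X41 .nil .nil) .nil)) (.node X13 (.node X21 (.node X37 .nil .nil) .nil) (.node X29 (.node X45 .nil .nil) .nil)))) (.node X2 (.node X4 (.node X8 (.node X16 (.node X32 .nil .nil) .nil) (.node X24 (.node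 X40 .nil .nil) .nil)) (.node X12 (.node X20 (.node X36 .nil .nil) .nil) (.node X28 (.node X44 .nil .nil) .nil))) (.node X6 (.node X10 (.node X18 (.node X34 .nil .nil) .nil) (.node X26 (.node X42 .nil .nil) .nil)) (.node X14 (.node X22 (.node X38 .nil .nil) .nil) (.node X30 (.node X46 .nil .nil) .nil)))))
  ht := (.node (-11) (.node (-10) (.node (-8) (.node (-7) (.node (-5) (.node 4 .nil .nil) (.node 11 .nil .nil)) (.node (-1) (.node 6 .nil .nil) .nil)) (.node (-4) (.node (-2) (.node 3 .nil .nil) .nil) (.node 1 (.node 7 .nil .nil) .nil))) (.node (-6) (.node (-5) (.node (-3) (.node 1 .nil .nil) .nil) (.node 1 (.node 5 .nil .nil) .nil)) (.node (-2) (.node (-2) (.node 4 .nil .nil) .nil) (.node 3 (.node 9 .nil .nil) .nil)))) (.node (-9) (.node (-7) (.node (-6) (.node (-4) (.node 5 .nil .nil) .nil) (.node 1 (.node 7 .nil .nil) .nil)) (.node (-3) (.node (-1) (.node 4 .nil .nil) .nil) (.node 2 (.node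 8 .nil .nil) .nil))) (.node (-5) (.node (-4) (.node (-3) (.node 2 .nil .nil) .nil) (.node 2 (.node 6 .nil .nil) .nil)) (.node (-1) (.node (-1) (.node 5 .nil .nil) .nil) (.node 3 (.node 10 .nil .nil) .nil)))))
  rf := (.node (.node (0, 1) (.node (1, 1) (.node (7, (-1)) (.node (3, 1) (.node (4, (-1)) (.node (42, (-1)) .nil .nil) (.node (47, 1) .nil .nil)) (.node (23, 1) (.node (39, (-1)) .nil .nil) .nil)) (.node (18, 1) (.node (12, (-1)) (.node (28, 1) .nil .nil) .nil) (.node (34, (-1)) (.node (32, (-1)) .nil .nil) .nil))) (.node (16, (-1)) (.node (9, (-1)) (.node (6, (-1)) (.node (14, (-1)) .nil .nil) .nil) (.node (25, 1) (.node (30, (-1)) .nil .nil) .nil)) (.node (20, 1) (.node (21, 1) (.node (37, (-1)) .nil .nil) .nil) (.node (36, (-1)) (.node (45, 1) .nil .nil) .nil)))) (.node (2, 1) (.node (15, (-1)) (.node (8, (-1)) (.node (5, (-1)) (.node (43, (-1)) .nil .nil) .nil) (.node (24, 1) (.node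 (44, 1) .nil .nil) .nil)) (.node (19, 1) (.node (13, (-1)) (.node (29, 1) .nil .nil) .nil) (.node (35, (-1)) (.node (40, (-1)) .nil .nil) .nil))) (.node (17, (-1)) (.node (10, (-1)) (.node (11, (-1)) (.node (27, 1) .nil .nil) .nil) (.node (26, 1) (.node (31, (-1)) .nil .nil) .nil)) (.node (33, (-1)) (.node (22, 1) (.node (38, (-1)) .nil .nil) .nil) (.node (41, (-1)) (.node (46, 1) .nil .nil) .nil))))) (.node (.node (0, 1) (.node (1, 1) (.node (3, (-1)) (.node (8, (-1)) (.node (15, 1) (.node (26, (-1)) .nil .nil) (.node (47, 1) .nil .nil)) (.node (23, 1) (.node (40, 1) .nil .nil) .nil)) (.node (9, 1) (.node (19, (-1)) (.node (37, 1) .nil .nil) .nil) (.node (20, (-1)) (.node (45, 1) .nil .nil) .nil))) (.node (5, 1) (.node (11, (-1)) (.node (22, (-1)) (.node (34, 1) .nil .nil) .nil) (.node (30, (-1)) (.node (41, 1) .nil .nil) .nil)) (.node (14, (-1)) (.node (16, (-1)) (.node (35, (-1)) .nil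 .nil) .nil) (.node (29, (-1)) (.node (43, 1) .nil .nil) .nil)))) (.node (4, 1) (.node (2, 1) (.node (7, 1) (.node (21, (-1)) (.node (32, 1) .nil .nil) .nil) (.node (24, 1) (.node (39, (-1)) .nil .nil) .nil)) (.node (10, 1) (.node (27, (-1)) (.node (38, 1) .nil .nil) .nil) (.node (28, (-1)) (.node (44, (-1)) .nil .nil) .nil))) (.node (6, 1) (.node (12, (-1)) (.node (18, (-1)) (.node (33, (-1)) .nil .nil) .nil) (.node (31, (-1)) (.node (42, 1) .nil .nil) .nil)) (.node (13, 1) (.node (17, (-1)) (.node (36, (-1)) .nil .nil) .nil) (.node (25, (-1)) (.node (46, 1) .nil .nil) .nil))))) (.node (.node (1, (-1)) (.node (0, 1) (.node (3, 1) (.node (7, 1) (.node (15, 1) (.node (30, (-1)) .nil .nil) (.node (46, (-1)) .nil .nil)) (.node (24, (-1)) (.node (39, 1) .nil .nil) .nil)) (.node (12, (-1)) (.node (18, 1) (.node (36, 1) .nil .nil) .nil) (.node (27, 1) (.node (43, 1) .nil .nil) .nil))) (.node (6,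 (-1)) (.node (10, (-1)) (.node (16, 1) (.node (33, 1) .nil .nil) .nil) (.node (26, 1) (.node (42, 1) .nil .nil) .nil)) (.node (13, 1) (.node (22, (-1)) (.node (38, 1) .nil .nil) .nil) (.node (28, (-1)) (.node (45, 1) .nil .nil) .nil)))) (.node (2, 1) (.node (4, 1) (.node (8, 1) (.node (17, (-1)) (.node (32, 1) .nil .nil) .nil) (.node (23, (-1)) (.node (40, 1) .nil .nil) .nil)) (.node (11, 1) (.node (20, 1) (.node (35, (-1)) .nil .nil) .nil) (.node (29, 1) (.node (44, 1) .nil .nil) .nil))) (.node (5, 1) (.node (9, 1) (.node (19, (-1)) (.node (34, 1) .nil .nil) .nil) (.node (25, (-1)) (.node (41, (-1)) .nil .nil) .nil)) (.node (14, 1) (.node (21, 1) (.node (37, (-1)) .nil .nil) .nil) (.node (31, 1) (.node (47, 1) .nil .nil) .nil))))) .nil .nil) .nil) (.node (.node (0, 1) (.node (2, (-1)) (.node (3, 1) (.node (7, 1) (.node (16, (-1)) (.node (32, 1) .nil .nil) (.node (47, 1) .nil .nil)) (.node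 (21, (-1)) (.node (38, (-1)) .nil .nil) .nil)) (.node (11, 1) (.node (20, (-1)) (.node (34, (-1)) .nil .nil) .nil) (.node (28, 1) (.node (42, (-1)) .nil .nil) .nil))) (.node (4, 1) (.node (8, 1) (.node (17, 1) (.node (33, 1) .nil .nil) .nil) (.node (22, (-1)) (.node (41, 1) .nil .nil) .nil)) (.node (12, 1) (.node (23, 1) (.node (37, 1) .nil .nil) .nil) (.node (29, 1) (.node (46, 1) .nil .nil) .nil)))) (.node (1, 1) (.node (5, (-1)) (.node (9, (-1)) (.node (15, 1) (.node (31, (-1)) .nil .nil) .nil) (.node (26, (-1)) (.node (40, 1) .nil .nil) .nil)) (.node (13, (-1)) (.node (19, 1) (.node (36, 1) .nil .nil) .nil) (.node (27, (-1)) (.node (44, 1) .nil .nil) .nil))) (.node (6, 1) (.node (10, 1) (.node (18, 1) (.node (35, 1) .nil .nil) .nil) (.node (24, 1) (.node (43, 1) .nil .nil) .nil)) (.node (14, 1) (.node (25, (-1)) (.node (39, 1) .nil .nil) .nil) (.node (30, 1) (.node (45, (-1)) .nil .nil)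 .nil))))) .nil .nil))
  A := (.node (.node 0 (.node 0 (.node (-1) (.node 1 (.node 2 (.node (-2) .nil .nil) (.node 0 .nil .nil)) (.node 0 (.node 0 .nil .nil) .nil)) (.node (-1) (.node 1 (.node 1 .nil .nil) .nil) (.node (-1) (.node 2 .nil .nil) .nil))) (.node (-2) (.node 0 (.node 2 (.node 2 .nil .nil) .nil) (.node 0 (.node 2 .nil .nil) .nil)) (.node (-1) (.node 0 (.node 0 .nil .nil) .nil) (.node (-1) (.node 0 .nil .nil) .nil)))) (.node 0 (.node (-2) (.node 0 (.node 2 (.node (-2) .nil .nil) .nil) (.node 0 (.node (-1) .nil .nil) .nil)) (.node (-1) (.node 1 (.node 1 .nil .nil) .nil) (.node (-1) (.node 1 .nil .nil) .nil))) (.node (-2) (.node 0 (.node 1 (.node 1 .nil .nil) .nil) (.node 0 (.node 2 .nil .nil) .nil)) (.node (-2) (.node 0 (.node 0 .nil .nil) .nil) (.node (-2) (.node 0 .nil .nil) .nil))))) (.node (.node 0 (.node 0 (.node 0 (.node (-1) (.node 0 (.node 2 .nil .nil) (.node 0 .nil .nil))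 (.node 0 (.node (-1) .nil .nil) .nil)) (.node 1 (.node 0 (.node (-1) .nil .nil) .nil) (.node 2 (.node (-2) .nil .nil) .nil))) (.node 0 (.node (-1) (.node (-2) (.node (-1) .nil .nil) .nil) (.node (-2) (.node 0 .nil .nil) .nil)) (.node (-1) (.node 2 (.node 1 .nil .nil) .nil) (.node 0 (.node 2 .nil .nil) .nil)))) (.node (-2) (.node 2 (.node 1 (.node (-2) (.node 0 .nil .nil) .nil) (.node 0 (.node 1 .nil .nil) .nil)) (.node 1 (.node (-2) (.node (-1) .nil .nil) .nil) (.node 0 (.node 0 .nil .nil) .nil))) (.node 0 (.node (-1) (.node 0 (.node 1 .nil .nil) .nil) (.node (-2) (.node 0 .nil .nil) .nil)) (.node 1 (.node 2 (.node 1 .nil .nil) .nil) (.node 2 (.node 0 .nil .nil) .nil))))) (.node (.node (-1) (.node 1 (.node 0 (.node 0 (.node 0 (.node 1 .nil .nil) (.node 1 .nil .nil)) (.node (-2) (.node 0 .nil .nil) .nil)) (.node (-1) (.node 1 (.node (-1) .nil .nil) .nil) (.node 0 (.node 0 .nil .nil) .nil)))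 (.node (-1) (.node (-1) (.node 1 (.node 0 .nil .nil) .nil) (.node (-1) (.node (-1) .nil .nil) .nil)) (.node 0 (.node (-1) (.node (-1) .nil .nil) .nil) (.node 1 (.node 0 .nil .nil) .nil)))) (.node 0 (.node 0 (.node 0 (.node (-1) (.node 0 .nil .nil) .nil) (.node 2 (.node 0 .nil .nil) .nil)) (.node 1 (.node 0 (.node 1 .nil .nil) .nil) (.node (-1) (.node 0 .nil .nil) .nil))) (.node 1 (.node 1 (.node (-1) (.node 0 .nil .nil) .nil) (.node 1 (.node 1 .nil .nil) .nil)) (.node 0 (.node 1 (.node 1 .nil .nil) .nil) (.node (-1) (.node (-1) .nil .nil) .nil))))) .nil .nil) .nil) (.node (.node 0 (.node (-1) (.node 0 (.node 0 (.node (-1) (.node (-1) .nil .nil) (.node 0 .nil .nil)) (.node 1 (.node 1 .nil .nil) .nil)) (.node 0 (.node (-1) (.node 1 .nil .nil) .nil) (.node (-1) (.node 1 .nil .nil) .nil))) (.node 1 (.node 1 (.node 0 (.node 0 .nil .nil) .nil) (.node 2 (.node 0 .nil .nil) .nil)) (.node 1 (.node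 (-1) (.node 0 .nil .nil) .nil) (.node 0 (.node (-1) .nil .nil) .nil)))) (.node 1 (.node (-1) (.node (-1) (.node 1 (.node 1 .nil .nil) .nil) (.node (-1) (.node 0 .nil .nil) .nil)) (.node (-1) (.node 1 (.node 0 .nil .nil) .nil) (.node 1 (.node 0 .nil .nil) .nil))) (.node 0 (.node 0 (.node 0 (.node (-1) .nil .nil) .nil) (.node 1 (.node (-1) .nil .nil) .nil)) (.node 0 (.node (-2) (.node (-1) .nil .nil) .nil) (.node 0 (.node 1 .nil .nil) .nil))))) .nil .nil))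
  cor := (.node (.node (-1) (.node (-2) (.node (-2) .nil .nil) .nil) (.node (-3) .nil .nil)) (.node (.node (-1) (.node (-2) (.node (-1) .nil .nil) .nil) (.node (-3) .nil .nil)) (.node (.node (-2) (.node (-3) (.node (-2) .nil .nil) .nil) (.node (-4) .nil .nil)) (.node (.node (-1) (.node (-3) (.node (-2) .nil .nil) .nil) (.node (-4) .nil .nil)) (.node (.node 0 (.node (-1) (.node (-1) .nil .nil) .nil) (.node (-2) .nil .nil)) (.node (.node 0 (.node 1 (.node 1 .nil .nil) .nil) (.node 1 .nil .nil)) .nil .nil) (.node (.node 1 (.node 2 (.node 2 .nil .nil) .nil) (.node 3 .nil .nil)) .nil .nil)) (.node (.node 0 (.node 0 (.node (-1) .nil .nil) .nil) (.node 0 .nil .nil)) (.node (.node 1 (.node 2 (.node 2 .nil .nil) .nil) (.node 4 .nil .nil)) .nil .nil) .nil)) (.node (.node (-1) (.node (-1) (.node (-2) .nil .nil) .nil) (.node (-2) .nil .nil)) (.node (.node 0 (.node (-1) (.node 0 .nil .nil) .nil) (.node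 (-2) .nil .nil)) (.node (.node 1 (.node 1 (.node 0 .nil .nil) .nil) (.node 2 .nil .nil)) .nil .nil) .nil) (.node (.node 0 (.node 1 (.node 0 .nil .nil) .nil) (.node 0 .nil .nil)) (.node (.node 1 (.node 1 (.node 1 .nil .nil) .nil) (.node 2 .nil .nil)) .nil .nil) .nil))) (.node (.node (-1) (.node (-1) (.node (-1) .nil .nil) .nil) (.node (-1) .nil .nil)) (.node (.node (-1) (.node (-2) (.node (-2) .nil .nil) .nil) (.node (-2) .nil .nil)) (.node (.node 0 (.node (-1) (.node 0 .nil .nil) .nil) (.node (-1) .nil .nil)) (.node (.node 1 (.node 0 (.node 0 .nil .nil) .nil) (.node 0 .nil .nil)) .nil .nil) .nil) (.node (.node 0 (.node 0 (.node 0 .nil .nil) .nil) (.node 1 .nil .nil)) (.node (.node 1 (.node 1 (.node 0 .nil .nil) .nil) (.node 1 .nil .nil)) .nil .nil) .nil)) (.node (.node (-1) (.node (-1) (.node 0 .nil .nil) .nil) (.node 0 .nil .nil)) (.node (.node 0 (.node 0 (.node (-1) .nil .nil) .nil) (.node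 (-1) .nil .nil)) (.node (.node 1 (.node 2 (.node 0 .nil .nil) .nil) (.node 2 .nil .nil)) .nil .nil) .nil) (.node (.node 0 (.node 1 (.node 2 .nil .nil) .nil) (.node 2 .nil .nil)) (.node (.node 1 (.node 2 (.node 1 .nil .nil) .nil) (.node 2 .nil .nil)) .nil .nil) .nil)))) (.node (.node (-1) (.node (-2) (.node (-1) .nil .nil) .nil) (.node (-2) .nil .nil)) (.node (.node (-1) (.node (-1) (.node (-1) .nil .nil) .nil) (.node (-2) .nil .nil)) (.node (.node (-1) (.node (-2) (.node (-2) .nil .nil) .nil) (.node (-4) .nil .nil)) (.node (.node 0 (.node (-1) (.node (-1) .nil .nil) .nil) (.node (-1) .nil .nil)) (.node (.node 0 (.node 1 (.node 1 .nil .nil) .nil) (.node 2 .nil .nil)) .nil .nil) .nil) (.node (.node 0 (.node 0 (.node 1 .nil .nil) .nil) (.node 0 .nil .nil)) (.node (.node 1 (.node 3 (.node 2 .nil .nil) .nil) (.node 4 .nil .nil)) .nil .nil) .nil)) (.node (.node (-1) (.node (-1) (.node 0 .nil .nil)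 .nil) (.node (-2) .nil .nil)) (.node (.node 0 (.node (-1) (.node 0 .nil .nil) .nil) (.node 0 .nil .nil)) (.node (.node 1 (.node 1 (.node 2 .nil .nil) .nil) (.node 2 .nil .nil)) .nil .nil) .nil) (.node (.node 0 (.node 1 (.node 0 .nil .nil) .nil) (.node 2 .nil .nil)) (.node (.node 2 (.node 3 (.node 2 .nil .nil) .nil) (.node 4 .nil .nil)) .nil .nil) .nil))) (.node (.node (-1) (.node (-1) (.node 0 .nil .nil) .nil) (.node (-1) .nil .nil)) (.node (.node (-1) (.node (-2) (.node 0 .nil .nil) .nil) (.node (-2) .nil .nil)) (.node (.node 0 (.node (-1) (.node (-2) .nil .nil) .nil) (.node (-2) .nil .nil)) (.node (.node 1 (.node 1 (.node 0 .nil .nil) .nil) (.node 0 .nil .nil)) .nil .nil) .nil) (.node (.node 0 (.node 0 (.node 1 .nil .nil) .nil) (.node 1 .nil .nil)) (.node (.node 1 (.node 1 (.node 1 .nil .nil) .nil) (.node 1 .nil .nil)) .nil .nil) .nil)) (.node (.node (-1) (.node 0 (.node 0 .nil .nil) .nil)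 (.node 0 .nil .nil)) (.node (.node 0 (.node 0 (.node 0 .nil .nil) .nil) (.node (-1) .nil .nil)) (.node (.node 1 (.node 2 (.node 2 .nil .nil) .nil) (.node 2 .nil .nil)) .nil .nil) .nil) (.node (.node 0 (.node 1 (.node 0 .nil .nil) .nil) (.node 1 .nil .nil)) (.node (.node 1 (.node 2 (.node 1 .nil .nil) .nil) (.node 3 .nil .nil)) .nil .nil) .nil)))))
  ng := (.node 47 (.node 46 (.node 44 (.node 40 (.node 32 (.node 16 .nil .nil) (.node 0 .nil .nil)) (.node 24 (.node 8 .nil .nil) .nil)) (.node 36 (.node 28 (.node 12 .nil .nil) .nil) (.node 20 (.node 4 .nil .nil) .nil))) (.node 42 (.node 38 (.node 30 (.node 14 .nil .nil) .nil) (.node 22 (.node 6 .nil .nil) .nil)) (.node 34 (.node 26 (.node 10 .nil .nil) .nil) (.node 18 (.node 2 .nil .nil) .nil)))) (.node 45 (.node 43 (.node 39 (.node 31 (.node 15 .nil .nil) .nil) (.node 23 (.node 7 .nil .nil) .nil)) (.node 35 (.node 27 (.node 11 .nil .nil) .nil)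 (.node 19 (.node 3 .nil .nil) .nil))) (.node 41 (.node 37 (.node 29 (.node 13 .nil .nil) .nil) (.node 21 (.node 5 .nil .nil) .nil)) (.node 33 (.node 25 (.node 9 .nil .nil) .nil) (.node 17 (.node 1 .nil .nil) .nil)))))
  sp := (.node 33 (.node 27 (.node 24 .nil .nil) .nil) (.node 25 .nil .nil))
  ch := (.node C0 (.node C1 (.node C3 (.node C7 (.node C15 (.node C31 .nil .nil) (.node C47 .nil .nil)) (.node C23 (.node C39 .nil .nil) .nil)) (.node C11 (.node C19 (.node C35 .nil .nil) .nil) (.node C27 (.node C43 .nil .nil) .nil))) (.node C5 (.node C9 (.node C17 (.node C33 .nil .nil) .nil) (.node C25 (.node C41 .nil .nil) .nil)) (.node C13 (.node C21 (.node C37 .nil .nil) .nil) (.node C29 (.node C45 .nil .nil) .nil)))) (.node C2 (.node C4 (.node C8 (.node C16 (.node C32 .nil .nil) .nil) (.node C24 (.node C40 .nil .nil) .nil)) (.node C12 (.node C20 (.node C36 .nil .nil) .nil) (.node C28 (.node C44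 .nil .nil) .nil))) (.node C6 (.node C10 (.node C18 (.node C34 .nil .nil) .nil) (.node C26 (.node C42 .nil .nil) .nil)) (.node C14 (.node C22 (.node C38 .nil .nil) .nil) (.node C30 (.node C46 .nil .nil) .nil)))))
  tm := (.node M0 (.node M1 (.node M3 (.node M7 (.node M15 (.node M31 .nil .nil) (.node M47 .nil .nil)) (.node M23 (.node M39 .nil .nil) .nil)) (.node M11 (.node M19 (.node M35 .nil .nil) .nil) (.node M27 (.node M43 .nil .nil) .nil))) (.node M5 (.node M9 (.node M17 (.node M33 .nil .nil) .nil) (.node M25 (.node M41 .nil .nil) .nil)) (.node M13 (.node M21 (.node M37 .nil .nil) .nil) (.node M29 (.node M45 .nil .nil) .nil)))) (.node M2 (.node M4 (.node M8 (.node M16 (.node M32 .nil .nil) .nil) (.node M24 (.node M40 .nil .nil) .nil)) (.node M12 (.node M20 (.node M36 .nil .nil) .nil) (.node M28 (.node M44 .nil .nil) .nil))) (.node M6 (.node M10 (.node M18 (.node M34 .nil .nil) .nil) (.node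 M26 (.node M42 .nil .nil) .nil)) (.node M14 (.node M22 (.node M38 .nil .nil) .nil) (.node M30 (.node M46 .nil .nil) .nil)))))
  bz := (.node (0, 0, (-1), 0) (.node (0, 0, (-1), 0) (.node (0, 1, (-5), 3) (.node (0, 0, (-1), 0) (.node (1, 1, (-1), 0) (.node (1, 1, 1, 0) .nil .nil) (.node (0, 0, 1, 0) .nil .nil)) (.node (3, 3, (-1), 0) (.node (0, 0, 1, 0) .nil .nil) .nil)) (.node (0, 0, (-1), 0) (.node (1, 1, (-1), 0) (.node (0, 0, 1, 0) .nil .nil) .nil) (.node (1, 1, 1, 0) (.node (0, 0, 1, 0) .nil .nil) .nil))) (.node (0, 0, (-1), 0) (.node (0, 0, (-1), 0) (.node (1, 1, (-1), 0) (.node (0, 0, 1, 0) .nil .nil) .nil) (.node (2, 2, 1, 0) (.node (0, 0, 1, 0) .nil .nil) .nil)) (.node (0, 0, (-1), 0) (.node (2, 2, (-1), 0) (.node (0, 0, 1, 0) .nil .nil) .nil) (.node (1, 1, 1, 0) (.node (0, 0, 1, 0) .nil .nil) .nil)))) (.node (0, 0, (-1), 0) (.node (0, 0, (-1), 0) (.node (0, 0, (-1), 0) (.node (1,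 1, (-1), 0) (.node (1, 1, 1, 0) .nil .nil) .nil) (.node (3, 3, 1, 0) (.node (0, 0, 1, 0) .nil .nil) .nil)) (.node (0, 0, (-1), 0) (.node (1, 1, (-1), 0) (.node (0, 0, 1, 0) .nil .nil) .nil) (.node (1, 1, 1, 0) (.node (0, 1, (-4), 3) .nil .nil) .nil))) (.node (0, 0, (-1), 0) (.node (0, 0, (-1), 0) (.node (1, 1, (-1), 0) (.node (0, 0, 1, 0) .nil .nil) .nil) (.node (2, 2, 1, 0) (.node (0, 0, 1, 0) .nil .nil) .nil)) (.node (0, 0, (-1), 0) (.node (2, 2, (-1), 0) (.node (0, 0, 1, 0) .nil .nil) .nil) (.node (1, 1, 1, 0) (.node (0, 0, 1, 0) .nil .nil) .nil)))))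
  order := [(33, none), (14, some (0, 33)), (34, some (1, 33)), (13, some (1, 14)), (27, some (0, 34)), (35, some (2, 34)), (20, some (0, 13)), (12, some (2, 13)), (28, some (2, 27)), (37, some (1, 35)), (36, some (3, 35)), (19, some (2, 20)), (10, some (1, 12)), (11, some (3, 12)), (29, some (3, 28)), (38, some (3, 37)), (18, some (3, 19)), (9, some (3, 10)), (39, some (2, 38)), (8, some (2, 9)), (40, some (1, 39)), (7, some (1, 8)), (44, some (0, 40)), (3, some (0, 7)), (25, none), (30, some (1, 25)), (22, some (2, 25)), (26, some (3, 25)), (41, some (0, 30)), (31, some (3, 30)), (17, some (1, 22)), (21, some (3, 22)), (24, some (2, 26)), (42, some (3, 41)), (32, some (2, 31)), (6, some (0, 17)), (16, some (3, 17)), (23, some (2, 21)), (43, some (2, 42)), (5, some (3, 6)), (15, some (2, 16)), (45, some (1, 43)), (4, some (2, 5)), (46, some (2, 45)), (2, some (1, 4)), (47, some (3, 46)),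 (1, some (2, 2)), (0, some (3, 1))]

end Cfsg.Agent.Chev.F4
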