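import Cfsg.Agent.Lib.Chev.Tables

/-! Generated tables for the datum of type G2. -/

set_option autoImplicit false

namespace Cfsg.Agent.Chev.G2

def X0 : Tr (List (ℕ × ℤ × ℕ)) := (.node [] (.node [(2, 1, 1)] (.node [] .nil (.node [(5, (-1), 1)] .nil .nil)) (.node [] .nil (.node [(0, (-1), 1), (1, (-2), 1), (2, (-1), 2)] .nil .nil))) (.node [] (.node [] (.node [(3, 1, 1)] .nil .nil) (.node [(7, (-1), 1)] .nil .nil)) (.node [] (.node [(4, 1, 1)] .nil .nil) .nil)))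
def X1 : Tr (List (ℕ × ℤ × ℕ)) := (.node [(3, 3, 1)] (.node [(3, (-1), 1)] (.node [] (.node [(2, 1, 1)] .nil .nil) (.node [(6, (-1), 1)] .nil .nil)) (.node [] (.node [(4, 1, 1)] .nil .nil) (.node [(8, (-1), 1)] .nil .nil))) (.node [] (.node [] .nil (.node [(0, (-1), 1), (1, (-1), 1), (3, (-1), 2)] .nil .nil)) .nil))
def X2 : Tr (List (ℕ × ℤ × ℕ)) := (.node [(4, 1, 1)] (.node [] (.node [] .nil (.node [(0, (-2), 1), (1, (-3), 1), (4, (-1), 2)] .nil .nil)) (.node [(2, 3, 1)] (.node [(5, (-2), 1), (2, (-3), 2)] .nil .nil) (.node [(10, (-1), 1), (6, (-1), 2), (3, (-1), 3)] .nil .nil))) (.node [] (.node [] .nil (.node [(9, (-1), 1), (5, 1, 2), (2, 1, 3)] .nil .nil)) (.node [(3, 3, 1)] (.node [(6, 2, 1), (3, 3, 2)] .nil .nil) .nil)))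
def X3 : Tr (List (ℕ × ℤ × ℕ)) := (.node [(5, (-1), 1)] (.node [(5, 1, 1)] (.node [] .nil (.node [(9, 2, 1), (7, (-3), 2)] .nil .nil)) (.node [] (.node [(7, (-3), 1)] .nil .nil) (.node [(11, 1, 1), (9, 1, 2), (7, (-1), 3)] .nil .nil))) (.node [] (.node [(2, (-3), 1)] (.node [(6, 1, 1), (4, (-1), 2), (2, 1, 3)] .nil .nil) .nil) (.node [(4, (-2), 1), (2, 3, 2)] (.node [(0, (-1), 1), (1, (-3), 1), (5, (-1), 2)] .nil .nil) .nil)))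
def X4 : Tr (List (ℕ × ℤ × ℕ)) := (.node [(6, 2, 1)] (.node [(6, (-1), 1)] (.node [] (.node [(5, 1, 1), (4, 1, 2), (3, (-1), 3)] .nil .nil) (.node [(10, (-2), 1), (8, 3, 2)] .nil .nil)) (.node [(4, 2, 1), (3, (-3), 2)] (.node [(0, (-1), 1), (6, (-1), 2)] .nil .nil) .nil)) (.node [] (.node [(3, (-3), 1)] .nil (.node [(11, 1, 1), (10, (-1), 2), (8, 1, 3)] .nil .nil)) (.node [] (.node [(8, (-3), 1)] .nil .nil) .nil)))
def X5 : Tr (List (ℕ × ℤ × ℕ)) := (.node [(7, (-3), 1)] (.node [(7, 2, 1)] (.node [(2, (-1), 1)] .nil .nil) (.node [] .nil (.node [(12, 1, 1)] .nil .nil))) (.node [] (.node [] (.node [(1, (-1), 1), (7, (-1), 2)] .nil .nil) .nil) (.node [(5, (-1), 1)] (.node [(9, 1, 1)] .nil .nil) .nil)))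
def X6 : Tr (List (ℕ × ℤ × ℕ)) := (.node [(8, 3, 1)] (.node [(8, (-2), 1)] (.node [] (.node [(1, 1, 1), (8, (-1), 2)] .nil .nil) .nil) (.node [(6, (-1), 1)] (.node [(10, 1, 1)] .nil .nil) .nil)) (.node [(3, (-1), 1)] (.node [] .nil (.node [(13, 1, 1)] .nil .nil)) .nil))
def X7 : Tr (List (ℕ × ℤ × ℕ)) := (.node [(9, (-2), 1)] (.node [(9, 1, 1)] (.node [(4, (-1), 1), (5, (-1), 2), (7, (-1), 3)] .nil (.node [(12, 3, 1)] .nil .nil)) (.node [(7, 3, 1)] .nil .nil)) (.node [] (.node [(5, 2, 1), (7, 3, 2)] (.node [(10, (-1), 1), (11, 1, 2), (12, 1, 3)] .nil .nil) .nil) (.node [(0, 1, 1), (9, (-1), 2)] (.node [(11, (-2), 1), (12, (-3), 2)] .nil .nil) .nil)))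
def X8 : Tr (List (ℕ × ℤ × ℕ)) := (.node [(10, 1, 1)] (.node [(10, (-1), 1)] (.node [] (.node [(9, (-1), 1), (11, (-1), 2), (13, (-1), 3)] .nil .nil) (.node [(13, 3, 1)] .nil .nil)) (.node [(0, 1, 1), (1, 3, 1), (10, (-1), 2)] (.node [(11, 2, 1), (13, 3, 2)] .nil .nil) .nil)) (.node [(4, (-1), 1), (6, 1, 2), (8, 1, 3)] (.node [(6, (-2), 1), (8, (-3), 2)] .nil .nil) (.node [(8, 3, 1)] .nil .nil)))
def X9 : Tr (List (ℕ × ℤ × ℕ)) := (.node [(11, (-1), 1)] (.node [] (.node [(6, 1, 1), (10, 1, 2), (13, (-1), 3)] .nil .nil) (.node [(9, (-2), 1), (12, 3, 2)] (.node [(12, (-3), 1)] .nil .nil) .nil)) (.node [(5, 1, 1), (9, (-1), 2), (12, 1, 3)] (.node [(0, 2, 1), (1, 3, 1), (11, (-1), 2)] .nil .nil) (.node [(10, 2, 1), (13, (-3), 2)] (.node [(13, (-3), 1)] .nil .nil) .nil)))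
def X10 : Tr (List (ℕ × ℤ × ℕ)) := (.node [(12, (-3), 1)] (.node [(12, 1, 1)] (.node [(0, 1, 1), (1, 1, 1), (12, (-1), 2)] .nil .nil) .nil) (.node [(7, 1, 1)] (.node [(9, 1, 1)] (.node [(13, (-1), 1)] .nil .nil) .nil) (.node [(11, (-1), 1)] .nil .nil)))
def X11 : Tr (List (ℕ × ℤ × ℕ)) := (.node [] (.node [(13, (-1), 1)] (.node [(8, 1, 1)] (.node [(12, (-1), 1)] .nil .nil) .nil) (.node [(11, (-1), 1)] .nil .nil)) (.node [(0, 1, 1), (1, 2, 1), (13, (-1), 2)] (.node [(10, 1, 1)] .nil .nil) .nil))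
def M0 : Tr (List (ℕ × ℤ × ℕ × ℕ)) := (.node [] (.node [] .nil (.node [] (.node [(3, (-1), 1, 1), (7, (-1), 1, 2), (10, (-1), 1, 3), (5, 2, 2, 3)] .nil .nil) .nil)) (.node [] (.node [] (.node [(2, 1, 1, 1), (4, 1, 1, 2), (6, (-1), 1, 3), (1, (-2), 2, 3)] .nil .nil) .nil) (.node [(1, 1, 1, 1)] (.node [(5, (-1), 1, 1)] .nil .nil) .nil)))
def C0 : List (ℕ × List (ℕ × ℤ)) := [(6, [(1, 1)]), (8, [(2, 1)]), (9, [(3, (-1))]), (10, [(5, (-1))])]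
def M1 : Tr (List (ℕ × ℤ × ℕ × ℕ)) := (.node [] (.node [] (.node [] (.node [(2, 1, 1, 1), (3, (-1), 1, 2), (5, 1, 1, 3), (0, 2, 2, 3)] .nil .nil) (.node [(6, (-1), 1, 1)] .nil .nil)) (.node [(0, 1, 1, 1)] (.node [(4, (-1), 1, 1), (8, 1, 1, 2), (11, 1, 1, 3), (6, (-2), 2, 3)] .nil .nil) .nil)) .nil)
def C1 : List (ℕ × List (ℕ × ℤ)) := [(5, [(0, 1)]), (7, [(2, 1)]), (9, [(4, (-1))]), (11, [(6, (-1))])]
def M2 : Tr (List (ℕ × ℤ × ℕ × ℕ)) := (.node [] (.node [] (.node [(0, 3, 1, 1)] (.node [(3, (-2), 1, 1), (0, (-3), 2, 1), (5, 3, 1, 2)] .nil .nil) (.node [(8, (-1), 1, 1), (4, (-1), 2, 1), (1, (-1), 3, 1), (6, (-1), 3, 2)] .nil .nil)) .nil) (.node [] (.node [(1, 3, 1, 1)] (.node [(4, 2, 1, 1), (1, 3, 2, 1), (6, (-3), 1, 2)] .nil .nil) .nil) (.node [] (.node [(7, (-1), 1, 1), (3, 1, 2, 1), (0, 1, 3, 1), (5, 1, 3, 2)] .nil .nil) .nil)))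
def C2 : List (ℕ × List (ℕ × ℤ)) := [(3, [(0, 3)]), (4, [(1, 3)]), (7, [(3, (-2)), (0, (-3))]), (8, [(4, 2), (1, 3)]), (10, [(7, (-1)), (3, 1), (0, 1)]), (11, [(8, (-1)), (4, (-1)), (1, (-1))])]
def M3 : Tr (List (ℕ × ℤ × ℕ × ℕ)) := (.node [] (.node [] (.node [] (.node [(5, (-3), 1, 1)] .nil .nil) (.node [(9, 1, 1, 1), (7, 1, 2, 1), (5, (-1), 3, 1), (10, 1, 3, 2)] .nil .nil)) (.node [] (.node [(7, 2, 1, 1), (5, (-3), 2, 1), (10, 3, 1, 2)] .nil .nil) .nil)) (.node [(0, (-3), 1, 1)] (.node [(2, (-2), 1, 1), (0, 3, 2, 1), (1, (-3), 1, 2)] .nil .nil) (.node [(4, 1, 1, 1), (2, (-1), 2, 1), (0, 1, 3, 1), (1, (-1), 3, 2)] .nil .nil)))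
def C3 : List (ℕ × List (ℕ × ℤ)) := [(2, [(0, (-3))]), (4, [(2, (-2)), (0, 3)]), (6, [(4, 1), (2, (-1)), (0, 1)]), (7, [(5, (-3))]), (9, [(7, 2), (5, (-3))]), (11, [(9, 1), (7, 1), (5, (-1))])]
def M4 : Tr (List (ℕ × ℤ × ℕ × ℕ)) := (.node [] (.node [] (.node [(2, 2, 1, 1), (1, (-3), 2, 1), (0, 3, 1, 2)] .nil .nil) (.node [(3, 1, 1, 1), (2, 1, 2, 1), (1, (-1), 3, 1), (0, 1, 3, 2)] (.node [(8, (-2), 1, 1), (6, 3, 2, 1), (11, (-3), 1, 2)] .nil .nil) .nil)) (.node [(1, (-3), 1, 1)] (.node [] (.node [(6, (-3), 1, 1)] .nil .nil) .nil) (.node [] (.node [(9, 1, 1, 1), (8, (-1), 2, 1), (6, 1, 3, 1), (11, (-1), 3, 2)] .nil .nil) .nil)))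
def C4 : List (ℕ × List (ℕ × ℤ)) := [(2, [(1, (-3))]), (3, [(2, 2), (1, (-3))]), (5, [(3, 1), (2, 1), (1, (-1))]), (8, [(6, (-3))]), (9, [(8, (-2)), (6, 3)]), (10, [(9, 1), (8, (-1)), (6, 1)])]
def M5 : Tr (List (ℕ × ℤ × ℕ × ℕ)) := (.node [] (.node [(0, (-1), 1, 1)] (.node [] .nil (.node [(10, 1, 1, 1)] .nil .nil)) .nil) (.node [] (.node [(3, (-1), 1, 1), (2, 1, 1, 2), (1, 1, 1, 3), (0, (-2), 2, 3)] (.node [(7, 1, 1, 1), (9, (-1), 1, 2), (11, 1, 1, 3), (10, 2, 2, 3)] .nil .nil) .nil) .nil))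
def C5 : List (ℕ × List (ℕ × ℤ)) := [(1, [(0, (-1))]), (4, [(3, (-1))]), (8, [(7, 1)]), (11, [(10, 1)])]
def M6 : Tr (List (ℕ × ℤ × ℕ × ℕ)) := (.node [(1, (-1), 1, 1)] (.node [] (.node [(4, (-1), 1, 1), (2, (-1), 1, 2), (0, (-1), 1, 3), (1, 2, 2, 3)] (.node [(8, 1, 1, 1), (9, 1, 1, 2), (10, (-1), 1, 3), (11, (-2), 2, 3)] .nil .nil) .nil) .nil) (.node [] .nil (.node [] (.node [(11, 1, 1, 1)] .nil .nil) .nil)))
def C6 : List (ℕ × List (ℕ × ℤ)) := [(0, [(1, (-1))]), (3, [(4, (-1))]), (7, [(8, 1)]), (10, [(11, 1)])]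
def M7 : Tr (List (ℕ × ℤ × ℕ × ℕ)) := (.node [] (.node [(2, (-1), 1, 1), (3, (-1), 2, 1), (5, (-1), 3, 1), (0, (-1), 3, 2)] (.node [(5, 3, 1, 1)] .nil .nil) (.node [] (.node [(10, 3, 1, 1)] .nil .nil) .nil)) (.node [(3, 2, 1, 1), (5, 3, 2, 1), (0, (-3), 1, 2)] (.node [] (.node [(9, (-2), 1, 1), (10, (-3), 2, 1), (11, 3, 1, 2)] .nil .nil) .nil) (.node [(8, (-1), 1, 1), (9, 1, 2, 1), (10, 1, 3, 1), (11, 1, 3, 2)] .nil .nil)))
def C7 : List (ℕ × List (ℕ × ℤ)) := [(1, [(2, (-1)), (3, (-1)), (5, (-1))]), (2, [(3, 2), (5, 3)]), (3, [(5, 3)]), (6, [(8, (-1)), (9, 1), (10, 1)]), (8, [(9, (-2)), (10, (-3))]), (9, [(10, 3)])]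
def M8 : Tr (List (ℕ × ℤ × ℕ × ℕ)) := (.node [(2, (-1), 1, 1), (4, 1, 2, 1), (6, 1, 3, 1), (1, 1, 3, 2)] (.node [] (.node [] (.node [(9, 2, 1, 1), (11, 3, 2, 1), (10, (-3), 1, 2)] .nil .nil) .nil) (.node [(7, (-1), 1, 1), (9, (-1), 2, 1), (11, (-1), 3, 1), (10, (-1), 3, 2)] (.node [(11, 3, 1, 1)] .nil .nil) .nil)) (.node [(4, (-2), 1, 1), (6, (-3), 2, 1), (1, 3, 1, 2)] (.node [(6, 3, 1, 1)] .nil .nil) .nil))
def C8 : List (ℕ × List (ℕ × ℤ)) := [(0, [(2, (-1)), (4, 1), (6, 1)]), (2, [(4, (-2)), (6, (-3))]), (4, [(6, 3)]), (5, [(7, (-1)), (9, (-1)), (11, (-1))]), (7, [(9, 2), (11, 3)]), (9, [(11, 3)])]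
def M9 : Tr (List (ℕ × ℤ × ℕ × ℕ)) := (.node [(3, 1, 1, 1), (7, (-1), 2, 1), (10, 1, 3, 1), (5, (-1), 3, 2)] (.node [(4, 1, 1, 1), (8, 1, 2, 1), (11, (-1), 3, 1), (6, 1, 3, 2)] (.node [(7, (-2), 1, 1), (10, 3, 2, 1), (5, (-3), 1, 2)] (.node [(10, (-3), 1, 1)] .nil .nil) .nil) .nil) (.node [] (.node [(8, 2, 1, 1), (11, (-3), 2, 1), (6, 3, 1, 2)] (.node [(11, (-3), 1, 1)] .nil .nil) .nil) .nil))
def C9 : List (ℕ × List (ℕ × ℤ)) := [(0, [(3, 1), (7, (-1)), (10, 1)]), (1, [(4, 1), (8, 1), (11, (-1))]), (3, [(7, (-2)), (10, 3)]), (4, [(8, 2), (11, (-3))]), (7, [(10, (-3))]), (8, [(11, (-3))])]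
def M10 : Tr (List (ℕ × ℤ × ℕ × ℕ)) := (.node [(5, 1, 1, 1)] .nil (.node [(7, 1, 1, 1), (3, 1, 1, 2), (0, (-1), 1, 3), (5, (-2), 2, 3)] (.node [(9, (-1), 1, 1), (8, (-1), 1, 2), (6, (-1), 1, 3), (11, 2, 2, 3)] .nil .nil) (.node [(11, (-1), 1, 1)] .nil .nil)))
def C10 : List (ℕ × List (ℕ × ℤ)) := [(0, [(5, 1)]), (2, [(7, 1)]), (4, [(9, (-1))]), (6, [(11, (-1))])]
def M11 : Tr (List (ℕ × ℤ × ℕ × ℕ)) := (.node [] (.node [(6, 1, 1, 1)] (.node [(9, (-1), 1, 1), (7, 1, 1, 2), (5, 1, 1, 3), (10, (-2), 2, 3)] .nil .nil) (.node [(10, (-1), 1, 1)] .nil .nil)) (.node [(8, 1, 1, 1), (4, (-1), 1, 2), (1, 1, 1, 3), (6, 2, 2, 3)] .nil .nil))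
def C11 : List (ℕ × List (ℕ × ℤ)) := [(1, [(6, 1)]), (2, [(8, 1)]), (3, [(9, (-1))]), (5, [(10, (-1))])]
set_option maxRecDepth 20000 in
def T : Tabs where
  X := (.node X0 (.node X1 (.node X3 (.node X7 .nil .nil) (.node X11 .nil .nil)) (.node X5 (.node X9 .nil .nil) .nil)) (.node X2 (.node X4 (.node X8 .nil .nil) .nil) (.node X6 (.node X10 .nil .nil) .nil)))
  ht := (.node (-5) (.node (-4) (.node (-2) (.node 1 .nil .nil) (.node 5 .nil .nil)) (.node (-1) (.node 3 .nil .nil) .nil)) (.node (-3) (.node (-1) (.node 2 .nil .nil) .nil) (.node 1 (.node 4 .nil .nil) .nil)))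
  rf := (.node (.node (0, 1) (.node (5, (-1)) (.node (2, 1) (.node (4, (-1)) .nil .nil) (.node (11, 1) .nil .nil)) (.node (1, 1) (.node (8, (-1)) .nil .nil) .nil)) (.node (3, (-1)) (.node (7, (-1)) (.node (9, 1) .nil .nil) .nil) (.node (10, 1) (.node (6, (-1)) .nil .nil) .nil))) (.node (.node (1, (-1)) (.node (0, 1) (.node (4, (-1)) (.node (8, 1) .nil .nil) (.node (10, (-1)) .nil .nil)) (.node (6, (-1)) (.node (9, 1) .nil .nil) .nil)) (.node (2, 1) (.node (3, 1) (.node (7, (-1)) .nil .nil) .nil) (.node (5, (-1)) (.node (11, 1) .nil .nil) .nil))) .nil .nil) .nil)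
  A := (.node (.node 0 (.node (-3) (.node 1 (.node 2 .nil .nil) (.node 0 .nil .nil)) (.node 3 (.node 1 .nil .nil) .nil)) (.node (-1) (.node (-2) (.node (-1) .nil .nil) .nil) (.node (-3) (.node 3 .nil .nil) .nil))) (.node (.node (-1) (.node 1 (.node (-1) (.node (-1) .nil .nil) (.node 1 .nil .nil)) (.node (-2) (.node 0 .nil .nil) .nil)) (.node 0 (.node 1 (.node 1 .nil .nil) .nil) (.node 2 (.node (-1) .nil .nil) .nil))) .nil .nil) .nil)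
  cor := (.node (.node (-1) (.node (-2) .nil .nil) .nil) (.node (.node (-1) (.node (-1) .nil .nil) .nil) (.node (.node (-1) (.node (-3) .nil .nil) .nil) (.node (.node 1 (.node 0 .nil .nil) .nil) .nil .nil) (.node (.node 1 (.node 2 .nil .nil) .nil) .nil .nil)) (.node (.node 0 (.node (-1) .nil .nil) .nil) (.node (.node 2 (.node 3 .nil .nil) .nil) .nil .nil) .nil)) (.node (.node (-2) (.node (-3) .nil .nil) .nil) (.node (.node (-1) (.node 0 .nil .nil) .nil) (.node (.node 1 (.node 3 .nil .nil) .nil) .nil .nil) .nil) (.node (.node 0 (.node 1 .nil .nil) .nil) (.node (.node 1 (.node 1 .nil .nil) .nil) .nil .nil) .nil)))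
  ng := (.node 11 (.node 10 (.node 8 (.node 4 .nil .nil) (.node 0 .nil .nil)) (.node 6 (.node 2 .nil .nil) .nil)) (.node 9 (.node 7 (.node 3 .nil .nil) .nil) (.node 5 (.node 1 .nil .nil) .nil)))
  sp := (.node 7 (.node 6 .nil .nil) .nil)
  ch := (.node C0 (.node C1 (.node C3 (.node C7 .nil .nil) (.node C11 .nil .nil)) (.node C5 (.node C9 .nil .nil) .nil)) (.node C2 (.node C4 (.node C8 .nil .nil) .nil) (.node C6 (.node C10 .nil .nil) .nil)))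
  tm := (.node M0 (.node M1 (.node M3 (.node M7 .nil .nil) (.node M11 .nil .nil)) (.node M5 (.node M9 .nil .nil) .nil)) (.node M2 (.node M4 (.node M8 .nil .nil) .nil) (.node M6 (.node M10 .nil .nil) .nil)))
  bz := (.node (0, 0, (-1), 0) (.node (0, 0, (-1), 0) (.node (0, 0, (-1), 0) (.node (0, 0, 1, 0) .nil .nil) (.node (0, 0, 1, 0) .nil .nil)) (.node (1, 1, (-1), 0) (.node (0, 1, (-4), 3) .nil .nil) .nil)) (.node (0, 1, (-5), 3) (.node (0, 0, (-1), 0) (.node (0, 0, 1, 0) .nil .nil) .nil) (.node (1, 1, 1, 0) (.node (0, 0, 1, 0) .nil .nil) .nil)))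
  order := [(7, none), (4, some (0, 7)), (8, some (1, 7)), (3, some (1, 4)), (9, some (0, 8)), (2, some (0, 3)), (6, none), (10, some (0, 6)), (5, some (1, 6)), (11, some (1, 10)), (1, some (0, 5)), (0, some (1, 1))]

end Cfsg.Agent.Chev.G2
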