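import Cfsg.Agent.Lib.BN.Steinberg
import Cfsg.Agent.Lib.Chev.Poincare
import Cfsg.Prelude.Def_ParabolicCharacters

/-!
Lengths and descents in the Tits system of a Chevalley group; the Steinberg function.
-/

set_option autoImplicit false
set_option linter.style.haveILetI false

namespace Cfsg.Agent.Chev

open Cfsg.Lie Cfsg.Agent.BN

variable {F : Type*} [Field F] {D : ChevalleyDatum} {T : Tabs}

namespace OKX

variable (ok : OKX D T)

include ok

/-- The product of representatives of a word of indices. -/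
noncomputable def gE (F : Type*) [Field F] (v : List ℕ) : ↥(D.group F) :=
  (v.map fun i => (⟨ok.toOK.nG (T.smp i) 1, ok.toOK.wordG_mem _⟩ : ↥(D.group F))).prod

/-- The representative of a fundamental reflection. -/
noncomputable def sG (F : Type*) [Field F] (i : ℕ) : ↥(D.group F) :=
  ⟨ok.toOK.nG (T.smp i) 1, ok.toOK.wordG_mem _⟩

theorem gE_cons (i : ℕ) (v : List ℕ) : ok.gE F (i :: v) = ok.sG F i * ok.gE F v := by simp [gE, sG]

theorem gE_append (u v : List ℕ) : ok.gE F (u ++ v) = ok.gE F u * ok.gE F v := by simp [gE]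

theorem coe_gE : ∀ v : List ℕ, (ok.gE F v : GL D.Idx F) = ok.toOK.gW F v
  | [] => rfl
  | i :: v => by rw [ok.gE_cons, Subgroup.coe_mul, coe_gE v, ok.toOK.gW_cons]; rfl

theorem mem_S {g : ↥(D.group F)} : g ∈ (ok.bnPair (F := F)).S ↔ ∃ i < D.rank, ok.sG F i = g := by
  constructor
  · rintro ⟨i, hi, h⟩
    exact ⟨i, hi, Subtype.ext (Units.ext ((ok.toOK.coe_nG_simple hi 1).trans h.symm))⟩
  · rintro ⟨i, hi, rfl⟩
    exact ⟨i, hi, ok.toOK.coe_nG_simple hi 1⟩

theorem sG_mem {i : ℕ} (hi : i < D.rank) : ok.sG F i ∈ (ok.bnPair (F := F)).S := ok.mem_S.mpr ⟨i, hi, rfl⟩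

theorem eqv_iff {g h : ↥(D.group F)} : Eqv (ok.bnPair (F := F)) g h ↔
    (g : GL D.Idx F)⁻¹ * (h : GL D.Idx F) ∈ D.diagonalSubgroup F := by
  rw [← ok.toOK.borel_inf_monomial]
  exact Iff.rfl

theorem sG_inj {i j : ℕ} (hi : i < D.rank) (hj : j < D.rank) (h : ok.sG F i = ok.sG F j) : i = j := by
  by_contra hne
  have hp := ok.toOK.smp_lt hi
  have e : ok.toOK.nG (T.smp i) (1 : F) = ok.toOK.nG (T.smp j) 1 := congrArg Subtype.val h
  have h1 := ok.toOK.act_n (F := F) hj
  rw [← e] at h1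
  have h2 := ok.toOK.act_unique (ok.toOK.act_n (F := F) hi) h1 hp
  rw [(ok.toOK.smp_spec hi).2.2.1] at h2
  have hne' : T.smp i ≠ T.smp j := fun e0 => by
    have h3 := ok.toOK.cC_smp hi hi
    rw [e0, ok.toOK.cC_smp hj hi, if_neg hne, if_pos rfl] at h3
    exact zero_ne_one h3
  have h4 := ok.toOK.refl_pos hj hp hne' (by rw [(ok.toOK.smp_spec hi).1]; norm_num)
  rw [← h2, ok.toOK.ht_neg hp, (ok.toOK.smp_spec hi).1] at h4
  omega

theorem gE_mem_N {v : List ℕ} (hv : ∀ i ∈ v, i < D.rank) : ok.gE F v ∈ (ok.bnPair (F := F)).N := by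
  refine list_prod_mem fun x hx => ?_
  obtain ⟨i, hi, rfl⟩ := List.mem_map.mp hx
  exact (ok.bnPair (F := F)).subset (ok.sG_mem (hv i hi))

theorem isWord_map {v : List ℕ} (hv : ∀ i ∈ v, i < D.rank) :
    IsWord (ok.bnPair (F := F)).S (v.map (ok.sG F)) := fun x hx => by
  obtain ⟨i, hi, rfl⟩ := List.mem_map.mp hx
  exact ok.sG_mem (hv i hi)

theorem exists_indices {J : Set ℕ} : ∀ {l : List ↥(D.group F)}, IsWord (ok.sG F '' J) l →
    ∃ v : List ℕ, (∀ i ∈ v, i ∈ J) ∧ v.length = l.length ∧ ok.gE F v = l.prod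
  | [], _ => ⟨[], fun _ h => absurd h List.not_mem_nil, rfl, rfl⟩
  | x :: l, hl => by
    obtain ⟨i, hi, rfl⟩ := hl x List.mem_cons_self
    obtain ⟨v, hv, hlen, e⟩ := exists_indices (J := J) (l := l) fun z hz => hl z (List.mem_cons_of_mem _ hz)
    exact ⟨i :: v, fun k hk => (List.mem_cons.mp hk).elim (fun h => h ▸ hi) (hv k),
      by simp [hlen], by rw [ok.gE_cons, e, List.prod_cons]⟩

theorem S_eq : (ok.bnPair (F := F)).S = ok.sG F '' {i | i < D.rank} := by
  ext g
  simp only [ok.mem_S, Set.mem_image, Set.mem_ofPred_eq]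

theorem piW_congr {u v : List ℕ} (hu : ∀ i ∈ u, i < D.rank) (hv : ∀ i ∈ v, i < D.rank)
    (h : Eqv (ok.bnPair (F := F)) (ok.gE F u) (ok.gE F v)) {r : ℕ} (hr : r < D.nroots) :
    piW T u r = piW T v r := by
  have h' := ok.eqv_iff.mp h
  rw [ok.coe_gE, ok.coe_gE] at h'
  have A := (ok.toOK.act_gW (F := F) u hu).mul ok.toOK (ok.toOK.act_diag h')
  rw [mul_inv_cancel_left] at A
  have := ok.toOK.act_unique A (ok.toOK.act_gW (F := F) v hv) hr
  simpa using this

theorem eqv_one_of_pos {v : List ℕ} (hv : ∀ i ∈ v, i < D.rank)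
    (h : ∀ r < D.nroots, 0 < T.htf r → 0 < T.htf (piW T v r)) :
    Eqv (ok.bnPair (F := F)) 1 (ok.gE F v) := by
  rw [ok.eqv_iff, ok.coe_gE, Subgroup.coe_one, inv_one, one_mul]
  exact ok.gW_mem_diag_of_pos _ v rfl hv h

theorem negCount_le_length : ∀ {v : List ℕ}, (∀ i ∈ v, i < D.rank) → ok.negCount v ≤ v.length := by
  intro v
  induction v using List.reverseRecOn with
  | nil => exact fun _ => le_of_eq ok.negCount_nil
  | append_singleton w i ih =>
    intro hv
    have hw : ∀ k ∈ w, k < D.rank := fun k hk => hv k (List.mem_append_left _ hk)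
    have h1 := ok.negCount_le_succ (hv i (by simp)) hw
    have h2 := ih hw
    rw [List.length_append, List.length_singleton]
    omega

/-- The length is the number of positive roots made negative. -/
theorem len_gE {v : List ℕ} (hv : ∀ i ∈ v, i < D.rank) :
    len (ok.bnPair (F := F)) (ok.gE F v) = ok.negCount v := by
  refine le_antisymm ?_ ?_
  · have key : ∀ k (v : List ℕ), (∀ i ∈ v, i < D.rank) → ok.negCount v ≤ k →
        len (ok.bnPair (F := F)) (ok.gE F v) ≤ k := by
      intro k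
      induction k with
      | zero =>
        intro v hv hk
        have hpos : ∀ r < D.nroots, 0 < T.htf r → 0 < T.htf (piW T v r) := fun r hr h0 => by
          by_contra hc
          have hne := ok.toOK.ht_ne (ok.piW_lt hv hr)
          unfold negCount at hk
          rw [Nat.le_zero, Finset.card_eq_zero, Finset.filter_eq_empty_iff] at hk
          exact hk (Finset.mem_range.mpr hr) ⟨h0, by omega⟩
        exact len_le (l := []) (fun _ h => absurd h List.not_mem_nil) (ok.eqv_one_of_pos hv hpos)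
      | succ k ih =>
        intro v hv hk
        by_cases h : ∀ i < D.rank, ¬ T.htf (piW T v (T.smp i)) < 0
        · exact len_le (l := []) (fun _ h => absurd h List.not_mem_nil)
            (ok.eqv_one_of_pos hv fun r hr h0 => ok.pos_of_simple hv h hr h0) |>.trans (Nat.zero_le _)
        push Not at h
        obtain ⟨i, hi, hneg⟩ := h
        set w := v ++ [i] with hw
        have hwr : ∀ j ∈ w, j < D.rank := fun j hj => by
          rcases List.mem_append.mp hj with h | h
          · exact hv j h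
          · rw [List.mem_singleton.mp h]; exact hi
        have hp := ok.toOK.smp_lt hi
        have h1 : ok.negCount w < ok.negCount (w ++ [i]) := ok.negCount_succ hi (by
          rw [hw, piW_append, piW, piW, (ok.toOK.smp_spec hi).2.2.1, ok.piW_neg hv hp,
            ok.toOK.ht_neg (ok.piW_lt hv hp)]
          omega) hwr
        have h2 : ok.negCount (w ++ [i]) = ok.negCount v := ok.negCount_congr fun r hr => by
          rw [hw, piW_append, piW_append, piW, piW, piW, piW, ok.toOK.refl_refl hi hr]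
        have h3 := ih w hwr (by omega)
        obtain ⟨l, hl, hlen, e⟩ := exists_reduced (ok.gE_mem_N (F := F) hwr)
        refine (len_le (l := l ++ [ok.sG F i]) (fun x hx => ?_) ?_).trans (by simp; omega)
        · rcases List.mem_append.mp hx with h | h
          · exact hl x h
          · rw [List.mem_singleton.mp h]; exact ok.sG_mem hi
        · rw [List.prod_append, List.prod_singleton]
          have e1 := eqv_mul_right ((ok.bnPair (F := F)).subset (ok.sG_mem (F := F) hi)) e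
          refine eqv_trans e1 ?_
          rw [hw, ok.gE_append, show ok.gE F [i] = ok.sG F i by simp [gE, sG]]
          exact eqv_sq_right (ok.sG_mem hi)
    exact key _ v hv le_rfl
  · obtain ⟨l, hl, hlen, e⟩ := exists_reduced (ok.gE_mem_N (F := F) hv)
    rw [ok.S_eq] at hl
    obtain ⟨u, hu, hul, eu⟩ := ok.exists_indices hl
    rw [← eu] at e
    rw [← hlen, ← hul, ← ok.negCount_congr fun r hr => ok.piW_congr hu hv e hr]
    exact ok.negCount_le_length hu

/-- The left descents. -/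
theorem down_iff {v : List ℕ} (hv : ∀ k ∈ v, k < D.rank) {i : ℕ} (hi : i < D.rank) :
    len (ok.bnPair (F := F)) (ok.sG F i * ok.gE F v) < len (ok.bnPair (F := F)) (ok.gE F v) ↔
      T.htf (piW T v.reverse (T.smp i)) < 0 := by
  have hiv : ∀ k ∈ i :: v, k < D.rank := fun k hk => (List.mem_cons.mp hk).elim (fun h => h ▸ hi) (hv k)
  have hrev : ∀ k ∈ v.reverse, k < D.rank := fun k hk => hv k (List.mem_reverse.mp hk)
  have hp := ok.toOK.smp_lt hi
  have hlt := ok.piW_lt hrev hp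
  rw [← ok.gE_cons, ok.len_gE hiv, ok.len_gE hv]
  constructor
  · intro h
    by_contra hc
    have := ok.negCount_cons hi hv (by have := ok.toOK.ht_ne hlt; omega)
    omega
  · intro h
    have h1 := ok.negCount_cons hi hiv (by
      rw [List.reverse_cons, piW_append, piW, piW, (ok.toOK.smp_spec hi).2.2.1, ok.piW_neg hrev hp,
        ok.toOK.ht_neg hlt]
      omega)
    have h2 : ok.negCount (i :: i :: v) = ok.negCount v := ok.negCount_congr fun r hr => by
      rw [piW, piW, ok.toOK.refl_refl hi (ok.piW_lt hv hr)]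
    omega

theorem cC_negRoot {r k : ℕ} (hr : r < D.nroots) (hk : k < D.rank) : T.cC (T.neg r) k = -T.cC r k := by
  have h := ok.toOK.root r hr
  simp only [Tabs.chkRoot, andR_iff, allR_iff, ieq_iff] at h
  exact (h.2.2.2.2.2.2.2.1 k hk).2

omit ok in
/-- The root is supported in `J`. -/
def SuppIn (D : ChevalleyDatum) (T : Tabs) (J : Finset ℕ) (r : ℕ) : Prop := ∀ k < D.rank, k ∉ J → T.cC r k = 0

theorem cC_word' {J : Finset ℕ} (hJ : J ⊆ Finset.range D.rank) {x : List ℕ} (hx : ∀ i ∈ x, i ∈ J) {r : ℕ}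
    (hr : r < D.nroots) {k : ℕ} (hk : k < D.rank) (hkJ : k ∉ J) : T.cC (piW T x r) k = T.cC r k :=
  ok.cC_word (J := J.toList) (fun i hi => Finset.mem_toList.mpr (hx i hi))
    (fun j hj => Finset.mem_range.mp (hJ (Finset.mem_toList.mp hj))) hr hk (fun h => hkJ (Finset.mem_toList.mp h))

theorem neg_of_simple_supp {J : Finset ℕ} (hJ : J ⊆ Finset.range D.rank) {w : List ℕ} (hw : ∀ i ∈ w, i < D.rank)
    (h : ∀ j ∈ J, T.htf (piW T w (T.smp j)) < 0) {r : ℕ} (hr : r < D.nroots) (hrJ : SuppIn D T J r)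
    (h0 : 0 < T.htf r) : T.htf (piW T w r) < 0 := by
  have hlt := ok.piW_lt hw hr
  by_contra hc
  have hpos : D.IsPosRoot (piW T w r) := ok.toOK.isPos_iff.mpr ⟨hlt, by have := ok.toOK.ht_ne hlt; omega⟩
  have hrp : ∀ k < D.rank, 0 ≤ T.cC r k := fun k hk =>
    ((ok.toOK.isPos_iff (r := r)).mpr ⟨hr, h0⟩).2 _
      (by rw [ok.toOK.coroot_list hr]; exact List.mem_map.mpr ⟨k, List.mem_range.mpr hk, rfl⟩)
  obtain ⟨a, ha, b, hb, x, y, hxy⟩ := ok.toOK.bezout hlt
  have hz : ∀ j < D.rank, T.cC (piW T w r) j = 0 := by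
    intro j hj
    refine le_antisymm ?_
      (hpos.2 _ (by rw [ok.toOK.coroot_list hlt]; exact List.mem_map.mpr ⟨j, List.mem_range.mpr hj, rfl⟩))
    rw [ok.cC_piW hw hr hj]
    refine Finset.sum_nonpos fun k hk => ?_
    by_cases hkJ : k ∈ J
    · refine mul_nonpos_of_nonneg_of_nonpos (hrp k (Finset.mem_range.mp hk)) ?_
      have hk'' := ok.piW_lt hw (ok.toOK.smp_lt (Finset.mem_range.mp hk))
      have hn : D.IsNegRoot (piW T w (T.smp k)) := ok.toOK.isNeg_iff.mpr ⟨hk'', h k hkJ⟩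
      exact hn.2 _ (by rw [ok.toOK.coroot_list hk'']; exact List.mem_map.mpr ⟨j, List.mem_range.mpr hj, rfl⟩)
    · rw [hrJ k (Finset.mem_range.mp hk) hkJ, zero_mul]
  rw [hz a ha, hz b hb] at hxy
  simp at hxy

theorem pos_of_not_supp {J : Finset ℕ} (hJ : J ⊆ Finset.range D.rank) {x : List ℕ} (hx : ∀ i ∈ x, i ∈ J) {r : ℕ}
    (hr : r < D.nroots) (hrJ : ¬ SuppIn D T J r) (h0 : 0 < T.htf r) : 0 < T.htf (piW T x r) := by
  simp only [SuppIn, not_forall] at hrJ
  obtain ⟨k, hk, hkJ, hne⟩ := hrJ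
  have hxr : ∀ i ∈ x, i < D.rank := fun i hi => Finset.mem_range.mp (hJ (hx i hi))
  have hlt := ok.piW_lt hxr hr
  have h1 : 0 ≤ T.cC r k := ((ok.toOK.isPos_iff (r := r)).mpr ⟨hr, h0⟩).2 _
    (by rw [ok.toOK.coroot_list hr]; exact List.mem_map.mpr ⟨k, List.mem_range.mpr hk, rfl⟩)
  by_contra hc
  have hneg : D.IsNegRoot (piW T x r) := ok.toOK.isNeg_iff.mpr ⟨hlt, by have := ok.toOK.ht_ne hlt; omega⟩
  have h2 := hneg.2 _ (by rw [ok.toOK.coroot_list hlt]; exact List.mem_map.mpr ⟨k, List.mem_range.mpr hk, rfl⟩)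
  rw [ok.cC_word' hJ hx hr hk hkJ] at h2
  omega

theorem supp_piW {J : Finset ℕ} (hJ : J ⊆ Finset.range D.rank) {x : List ℕ} (hx : ∀ i ∈ x, i ∈ J) {r : ℕ}
    (hr : r < D.nroots) : SuppIn D T J (piW T x r) ↔ SuppIn D T J r :=
  forall₃_congr fun k hk hkJ => by rw [ok.cC_word' hJ hx hr hk hkJ]

theorem image_sG_subset {J : Finset ℕ} (hJ : J ⊆ Finset.range D.rank) :
    (ok.sG F '' (↑J : Set ℕ)) ⊆ (ok.bnPair (F := F)).S := by
  rintro _ ⟨i, hi, rfl⟩
  exact ok.sG_mem (Finset.mem_range.mp (hJ hi))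

/-- An element of the Weyl group of `J` having all descents moves the roots of `J` as expected. -/
theorem neg_of_allDown {J : Finset ℕ} (hJ : J ⊆ Finset.range D.rank) {v : List ℕ} (hv : ∀ i ∈ v, i ∈ J)
    (h : AllDown (ok.bnPair (F := F)) (ok.sG F '' (↑J : Set ℕ)) (ok.gE F v)) {r : ℕ} (hr : r < D.nroots)
    (hrJ : SuppIn D T J r) (h0 : 0 < T.htf r) :
    T.htf (piW T v.reverse r) < 0 ∧ T.htf (piW T v r) < 0 := by
  have hvr : ∀ i ∈ v, i < D.rank := fun i hi => Finset.mem_range.mp (hJ (hv i hi))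
  have hrev : ∀ i ∈ v.reverse, i < D.rank := fun i hi => hvr i (List.mem_reverse.mp hi)
  have key : ∀ s < D.nroots, SuppIn D T J s → 0 < T.htf s → T.htf (piW T v.reverse s) < 0 := fun s hs hsJ hs0 =>
    ok.neg_of_simple_supp hJ hrev (fun j hj =>
      (ok.down_iff hvr (Finset.mem_range.mp (hJ hj))).mp (h _ ⟨j, hj, rfl⟩)) hs hsJ hs0
  refine ⟨key r hr hrJ h0, ?_⟩
  by_contra hc
  have hlt := ok.piW_lt hvr hr
  have := key _ hlt ((ok.supp_piW hJ hv hr).mpr hrJ) (by have := ok.toOK.ht_ne hlt; omega)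
  rw [ok.rev_piW hvr hr] at this
  omega

theorem exists_word_J {J : Finset ℕ} (hJ : J ⊆ Finset.range D.rank) {n : ↥(D.group F)}
    (hn : n ∈ wSub (ok.bnPair (F := F)) (ok.image_sG_subset hJ)) :
    ∃ v : List ℕ, (∀ i ∈ v, i ∈ J) ∧ Eqv (ok.bnPair (F := F)) (ok.gE F v) n := by
  obtain ⟨l, hl, e⟩ := mem_wSub.mp hn
  obtain ⟨v, hv, -, ev⟩ := ok.exists_indices hl
  exact ⟨v, hv, ev ▸ e⟩

theorem allDown_unique {J : Finset ℕ} (hJ : J ⊆ Finset.range D.rank) {n m : ↥(D.group F)}
    (hn : n ∈ wSub (ok.bnPair (F := F)) (ok.image_sG_subset hJ))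
    (hm : m ∈ wSub (ok.bnPair (F := F)) (ok.image_sG_subset hJ))
    (hnd : AllDown (ok.bnPair (F := F)) (ok.sG F '' (↑J : Set ℕ)) n)
    (hmd : AllDown (ok.bnPair (F := F)) (ok.sG F '' (↑J : Set ℕ)) m) : Eqv (ok.bnPair (F := F)) n m := by
  obtain ⟨u, hu, eu⟩ := ok.exists_word_J hJ hn
  obtain ⟨v, hv, ev⟩ := ok.exists_word_J hJ hm
  have hsub := ok.image_sG_subset (F := F) hJ
  have hur : ∀ i ∈ u, i < D.rank := fun i hi => Finset.mem_range.mp (hJ (hu i hi))
  have hvr : ∀ i ∈ v, i < D.rank := fun i hi => Finset.mem_range.mp (hJ (hv i hi))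
  have hud := allDown_congr hsub (wSub_le_N hsub hn) (eqv_symm eu) hnd
  have hvd := allDown_congr hsub (wSub_le_N hsub hm) (eqv_symm ev) hmd
  have hw : ∀ i ∈ u.reverse ++ v, i ∈ J := fun i hi =>
    (List.mem_append.mp hi).elim (fun h => hu i (List.mem_reverse.mp h)) (hv i)
  have hwr : ∀ i ∈ u.reverse ++ v, i < D.rank := fun i hi => Finset.mem_range.mp (hJ (hw i hi))
  have hone := ok.eqv_one_of_pos (F := F) hwr fun r hr h0 => by
    by_cases hrJ : SuppIn D T J r
    · rw [piW_append]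
      have h1 := (ok.neg_of_allDown hJ hv hvd hr hrJ h0).2
      have hlt := ok.piW_lt hvr hr
      have hneg := ok.toOK.neg_lt hlt
      have hsupp : SuppIn D T J (T.neg (piW T v r)) := by
        rw [← ok.piW_neg hvr hr, ok.supp_piW hJ hv (ok.toOK.neg_lt hr)]
        intro k hk hkJ
        rw [ok.cC_negRoot hr hk, hrJ k hk hkJ, neg_zero]
      have h2 := (ok.neg_of_allDown hJ hu hud hneg hsupp (by rw [ok.toOK.ht_neg hlt]; omega)).1
      rw [ok.piW_neg (fun i hi => hur i (List.mem_reverse.mp hi)) hlt,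
        ok.toOK.ht_neg (ok.piW_lt (fun i hi => hur i (List.mem_reverse.mp hi)) hlt)] at h2
      omega
    · exact ok.pos_of_not_supp hJ hw hr hrJ h0
  have hwl : IsWord (ok.bnPair (F := F)).S (u.map (ok.sG F)) := ok.isWord_map hur
  have hinv : Eqv (ok.bnPair (F := F)) (ok.gE F u * ok.gE F u.reverse) 1 := by
    have := prod_reverse hwl
    rw [← List.map_reverse] at this
    exact this
  rw [ok.gE_append] at hone
  have e1 := eqv_mul_left (ok.gE F u) hone
  rw [mul_one, ← mul_assoc] at e1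
  have e2 := eqv_mul_right (ok.gE_mem_N (F := F) hvr) hinv
  rw [one_mul] at e2
  exact eqv_trans (eqv_symm eu) (eqv_trans e1 (eqv_trans e2 ev))

end OKX

end Cfsg.Agent.Chev
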