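import Cfsg.Agent.Lib.Char.HeckeMat
import Cfsg.Agent.Lib.Chev.StAux

/-!
The relations between the double coset matrices of the unipotent subgroup of a Chevalley group.
-/

set_option autoImplicit false
set_option linter.style.haveILetI false

namespace Cfsg.Agent.Chev

open Cfsg.Lie Cfsg.Agent.BN Cfsg.Agent.Char

section General

variable {G : Type*} [Group G] {U : Subgroup G} [Fintype G] [Fintype (G ⧸ U)] {k : Type*} [CommRing k]

open Classical in
/-- The entries of a product with the matrix of a double coset, along a transversal. -/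
theorem mval_dmat_mul {κ : Type*} [Fintype κ] {n : G} (f : κ → G)
    (hmem : ∀ a, f a ∈ DoubleCoset.doubleCoset n (U : Set G) U) (hinj : ∀ a b, (f a)⁻¹ * f b ∈ U → a = b)
    (hsurj : ∀ g ∈ DoubleCoset.doubleCoset n (U : Set G) U, ∃ a, (f a)⁻¹ * g ∈ U)
    {B : Matrix (G ⧸ U) (G ⧸ U) k} (hB : IsInv U B) (g : G) :
    mval U (dmat U k n * B) g = ∑ a, mval U B ((f a)⁻¹ * g) := by
  rw [mval_mul hB]
  simp only [mval_dmat, ite_mul, one_mul, zero_mul]
  rw [← Finset.sum_filter]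
  symm
  refine Finset.sum_bij (fun a _ => ((f a : G) : G ⧸ U)) ?_ ?_ ?_ ?_
  · exact fun a _ => Finset.mem_filter.mpr ⟨Finset.mem_univ _, out_dc_iff.mpr (hmem a)⟩
  · exact fun a _ b _ e => hinj a b (QuotientGroup.eq.mp e)
  · intro z hz
    obtain ⟨a, ha⟩ := hsurj z.out (Finset.mem_filter.mp hz).2
    exact ⟨a, Finset.mem_univ _, (QuotientGroup.eq.mpr ha).trans (QuotientGroup.out_eq' z)⟩
  · intro a _
    obtain ⟨c, hc⟩ := QuotientGroup.mk_out_eq_mul U (f a)
    rw [hc, mul_inv_rev, mul_assoc, mval_mul_left hB _ (inv_mem c.2)]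

open Classical in
/-- The sum of the entries in a row. -/
theorem rowsum_dmat (n : G) : ∑ z : G ⧸ U, mval U (dmat U k n) z.out = (mcount U n : k) := by
  simp only [mval_dmat]
  rw [Finset.sum_boole, mcount, Nat.card_eq_fintype_card (α := {z : G ⧸ U // _}), Fintype.card_subtype]

theorem rowsum_mul {A B : Matrix (G ⧸ U) (G ⧸ U) k} (hB : IsInv U B) :
    ∑ z : G ⧸ U, mval U (A * B) z.out = (∑ z : G ⧸ U, mval U A z.out) * ∑ z : G ⧸ U, mval U B z.out := by
  simp only [mval_mul hB]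
  rw [Finset.sum_comm, Finset.sum_mul]
  refine Finset.sum_congr rfl fun w _ => ?_
  rw [← Finset.mul_sum]
  congr 1
  refine Fintype.sum_equiv (MulAction.toPerm (w.out)⁻¹) _ _ fun z => ?_
  simp only [MulAction.toPerm_apply]
  conv_rhs => rw [← QuotientGroup.out_eq' z, MulAction.Quotient.smul_mk, smul_eq_mul]
  obtain ⟨c, hc⟩ := QuotientGroup.mk_out_eq_mul U (w.out⁻¹ * z.out)
  rw [hc, mval_mul_right _ c.2]

end General

variable {F : Type*} [Field F] {D : ChevalleyDatum} {T : Tabs}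

namespace OKX

variable (ok : OKX D T)

include ok

omit ok in
/-- The unipotent subgroup inside the group. -/
abbrev UG (D : ChevalleyDatum) (F : Type*) [Field F] : Subgroup ↥(D.group F) :=
  (D.posUnipotent F).subgroupOf (D.group F)

/-- The root element in the group. -/
def xS (r : ℕ) (a : F) : ↥(D.group F) := ⟨ok.toOK.xG r a, ok.toOK.xG_mem_group r a⟩

/-- The diagonal element in the group. -/
def hS (r : ℕ) (a : F) : ↥(D.group F) := ⟨ok.toOK.hG r a, ok.toOK.wordG_mem _⟩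

theorem xS_mul (r : ℕ) (a b : F) : ok.xS r a * ok.xS r b = ok.xS r (a + b) := Subtype.ext (ok.toOK.xG_mul r a b)

theorem xS_inv (r : ℕ) (a : F) : (ok.xS r a)⁻¹ = ok.xS r (-a) := Subtype.ext (ok.toOK.xG_inv r a)

theorem xS_zero (r : ℕ) : ok.xS r (0 : F) = 1 := Subtype.ext (ok.toOK.xG_zero r)

theorem mem_tor_iff {t : ↥(D.group F)} :
    t ∈ tor (ok.bnPair (F := F)) ↔ (t : GL D.Idx F) ∈ D.diagonalSubgroup F := by
  rw [← ok.toOK.borel_inf_monomial]
  exact Iff.rfl

theorem xS_mem {r : ℕ} (hr : D.IsPosRoot r) (a : F) : ok.xS r a ∈ UG D F := ok.toOK.xG_mem_pos hr a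

theorem UG_le : UG D F ≤ (ok.bnPair (F := F)).B := fun x hx =>
  (le_sup_left : D.posUnipotent F ≤ D.borelSubgroup F) hx

theorem tor_conj {t u : ↥(D.group F)} (ht : t ∈ tor (ok.bnPair (F := F))) (hu : u ∈ UG D F) :
    t * u * t⁻¹ ∈ UG D F :=
  (Subgroup.mem_normalizer_iff.mp (ok.toOK.diag_normalizes_pos (ok.mem_tor_iff.mp ht)) _).mp hu

theorem tor_conj' {t u : ↥(D.group F)} (ht : t ∈ tor (ok.bnPair (F := F))) (hu : u ∈ UG D F) :
    t⁻¹ * u * t ∈ UG D F := by
  simpa using ok.tor_conj (inv_mem ht) hu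

theorem borel_dec {b : ↥(D.group F)} (hb : b ∈ (ok.bnPair (F := F)).B) :
    ∃ u ∈ UG D F, ∃ t ∈ tor (ok.bnPair (F := F)), b = u * t := by
  obtain ⟨u, hu, t, ht, e⟩ := ok.toOK.mem_borel (show (b : GL D.Idx F) ∈ D.borelSubgroup F from hb)
  exact ⟨⟨u, ok.toOK.pos_le_group hu⟩, hu, ⟨t, ok.toOK.diag_le_group ht⟩, ok.mem_tor_iff.mpr ht, Subtype.ext e⟩

/-- Different monomial elements have different double cosets. -/
theorem dc_inj {n m : ↥(D.group F)} (hn : n ∈ (ok.bnPair (F := F)).N) (hm : m ∈ (ok.bnPair (F := F)).N)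
    {g : ↥(D.group F)} (h1 : g ∈ DoubleCoset.doubleCoset n (UG D F : Set ↥(D.group F)) (UG D F))
    (h2 : g ∈ DoubleCoset.doubleCoset m (UG D F : Set ↥(D.group F)) (UG D F)) : n = m := by
  obtain ⟨a, ha, b, hb, rfl⟩ := DoubleCoset.mem_doubleCoset.mp h1
  obtain ⟨c, hc, d, hd, e⟩ := DoubleCoset.mem_doubleCoset.mp h2
  simp only [SetLike.mem_coe] at ha hb hc hd
  have hP := ok.UG_le (F := F)
  have hdc : InDC (ok.bnPair (F := F)) n m := inDC_iff.mpr ⟨a⁻¹ * c, mul_mem (inv_mem (hP ha)) (hP hc), d * b⁻¹,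
    mul_mem (hP hd) (inv_mem (hP hb)), by
      calc n = a⁻¹ * (a * n * b) * b⁻¹ := by simp [mul_assoc]
        _ = _ := by rw [e]; simp [mul_assoc]⟩
  set t := n⁻¹ * m with ht
  have htT : t ∈ tor (ok.bnPair (F := F)) := eqv_of_inDC hn hm hdc
  set u := c⁻¹ * a with hu
  have huU : u ∈ UG D F := mul_mem (inv_mem hc) ha
  have e1 : n⁻¹ * u * n = t * (d * b⁻¹) := by
    calc n⁻¹ * u * n = n⁻¹ * c⁻¹ * (a * n * b) * b⁻¹ := by simp [hu, mul_assoc]
      _ = _ := by rw [e]; simp [ht, mul_assoc]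
  -- an element of the unipotent subgroup has no diagonal part
  obtain ⟨S, hS⟩ : ∃ S : Subgroup ↥(D.group F), S = UG D F := ⟨_, rfl⟩
  have hn' : (n : GL D.Idx F) ∈ D.monomialSubgroup F := hn
  obtain ⟨t₀, ht₀, v, hv, hnv⟩ := ok.toOK.mem_monomial.mp hn'
  have ht0 : t = 1 := by
    set u' : GL D.Idx F := t₀⁻¹ * (u : GL D.Idx F) * t₀ with hu'
    have hu'P : u' ∈ D.posUnipotent F := by
      have := (Subgroup.mem_normalizer_iff.mp (ok.toOK.diag_normalizes_pos (inv_mem ht₀)) _).mp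
        (show (u : GL D.Idx F) ∈ D.posUnipotent F from huU)
      simpa [hu'] using this
    set W := ok.toOK.gW F v with hW
    have e2 : W⁻¹ * u' * W = (t : GL D.Idx F) * ((d * b⁻¹ : ↥(D.group F)) : GL D.Idx F) := by
      have := congrArg Subtype.val e1
      simp only [Subgroup.coe_mul, Subgroup.coe_inv] at this ⊢
      rw [← this, hnv, hu']
      simp [mul_assoc]
    have hvrev : ∀ i ∈ v.reverse, i < D.rank := fun i hi => hv i (List.mem_reverse.mp hi)
    set V := ok.toOK.gW F v.reverse with hV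
    have hVW : V * W ∈ D.diagonalSubgroup F := by
      have hwl : IsWord (ok.bnPair (F := F)).S (v.reverse.map (ok.sG F)) := ok.isWord_map hvrev
      have h := ok.eqv_iff.mp (eqv_symm (prod_reverse hwl))
      rw [← List.map_reverse, List.reverse_reverse] at h
      change ((1 : ↥(D.group F)) : GL D.Idx F)⁻¹ *
        ((ok.gE F v.reverse * ok.gE F v : ↥(D.group F)) : GL D.Idx F) ∈ _ at h
      rwa [Subgroup.coe_one, inv_one, one_mul, Subgroup.coe_mul, ok.coe_gE, ok.coe_gE] at h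
    obtain ⟨p₁, hp₁, hp₁', p₂, hp₂, hsplit⟩ := ok.pos_split_word _ v.reverse hvrev le_rfl u' hu'P
    set δ := (V * W)⁻¹ with hδ
    have hδD : δ ∈ D.diagonalSubgroup F := inv_mem hVW
    -- conjugating by the inverse of `W`
    have hB : V * u' * V⁻¹ ∈ D.borelSubgroup F := by
      have : V * u' * V⁻¹ = δ⁻¹ * ((t : GL D.Idx F) * ((d * b⁻¹ : ↥(D.group F)) : GL D.Idx F)) * δ := by
        rw [← e2, hδ]; simp [mul_assoc]
      rw [this]
      exact mul_mem (mul_mem (Subgroup.mem_sup_right (inv_mem hδD)) (mul_mem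
        (Subgroup.mem_sup_right (ok.mem_tor_iff.mp htT))
        (Subgroup.mem_sup_left (mul_mem hd (inv_mem hb) : d * b⁻¹ ∈ UG D F)))) (Subgroup.mem_sup_right hδD)
    have hneg : V * p₂ * V⁻¹ ∈ D.negUnipotent F := by
      clear hsplit hB
      induction hp₂ using Subgroup.closure_induction with
      | mem y hy =>
        obtain ⟨r, c', hr, hneg', rfl⟩ := hy
        obtain ⟨κ, -, hκ⟩ := (ok.toOK.act_gW (F := F) v.reverse hvrev).2.1 r hr.1
        rw [(hκ c').1]
        exact ok.toOK.xG_mem_neg (ok.toOK.isNeg_iff.mpr ⟨ok.piW_lt hvrev hr.1, hneg'⟩) _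
      | one => simp
      | mul p q _ _ hp hq => rw [← conj_mul]; exact mul_mem hp hq
      | inv p _ hp => rw [← conj_inv]; exact inv_mem hp
    have hboth : V * p₂ * V⁻¹ ∈ D.borelSubgroup F ⊓ D.negUnipotent F := by
      refine ⟨?_, hneg⟩
      have hp₁B : V * p₁ * V⁻¹ ∈ D.borelSubgroup F := Subgroup.mem_sup_left hp₁'
      have := mul_mem (inv_mem hp₁B) hB
      rw [hsplit] at this
      simpa [mul_assoc] using this
    rw [ok.toOK.borel_inf_neg, Subgroup.mem_bot, conj_eq_one_iff] at hboth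
    rw [hboth, mul_one] at hsplit
    have hU : (t : GL D.Idx F) * ((d * b⁻¹ : ↥(D.group F)) : GL D.Idx F) ∈ D.posUnipotent F := by
      rw [← e2, hsplit]
      have h := (Subgroup.mem_normalizer_iff.mp (ok.toOK.diag_normalizes_pos hδD) _).mp hp₁'
      simpa [hδ, hV, mul_assoc] using h
    have htU : (t : GL D.Idx F) ∈ D.posUnipotent F ⊓ D.diagonalSubgroup F := by
      refine ⟨?_, ok.mem_tor_iff.mp htT⟩
      have := mul_mem hU (inv_mem (show ((d * b⁻¹ : ↥(D.group F)) : GL D.Idx F) ∈ D.posUnipotent F from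
        (mul_mem hd (inv_mem hb) : d * b⁻¹ ∈ UG D F)))
      simpa [mul_assoc] using this
    rw [ok.toOK.pos_inf_diag, Subgroup.mem_bot] at htU
    exact Subtype.ext htU
  exact inv_mul_eq_one.mp ht0

theorem isCover : IsCover (UG D F) (fun n : ↥(ok.bnPair (F := F)).N => (n : ↥(D.group F))) := by
  intro g
  obtain ⟨n, hn, h⟩ := exists_inDC (P := ok.bnPair (F := F)) g
  obtain ⟨a, ha, b, hb, rfl⟩ := inDC_iff.mp h
  obtain ⟨u, hu, t, ht, rfl⟩ := ok.borel_dec ha
  obtain ⟨v, hv, t', ht', rfl⟩ := ok.borel_dec hb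
  have hm : t * n * t' ∈ (ok.bnPair (F := F)).N := mul_mem (mul_mem ht.2 hn) ht'.2
  have hmem : u * t * n * (v * t') ∈
      DoubleCoset.doubleCoset (t * n * t') (UG D F : Set ↥(D.group F)) (UG D F) :=
    DoubleCoset.mem_doubleCoset.mpr ⟨u, hu, t'⁻¹ * v * t', ok.tor_conj' ht' hv, by simp [mul_assoc]⟩
  exact ⟨⟨_, hm⟩, hmem, fun m hm' => Subtype.ext (ok.dc_inj m.2 hm hm' hmem)⟩

variable [Fintype ↥(D.group F)] [Fintype (↥(D.group F) ⧸ UG D F)] {k : Type*} [CommRing k]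

theorem ext_N {A B : Matrix (↥(D.group F) ⧸ UG D F) (↥(D.group F) ⧸ UG D F) k} (hA : IsInv (UG D F) A)
    (hB : IsInv (UG D F) B)
    (h : ∀ m ∈ (ok.bnPair (F := F)).N, mval (UG D F) A m = mval (UG D F) B m) : A = B := by
  refine inv_ext hA hB fun g => ?_
  obtain ⟨m, hm, -⟩ := ok.isCover (F := F) g
  obtain ⟨a, ha, b, hb, rfl⟩ := DoubleCoset.mem_doubleCoset.mp hm
  rw [mval_mul_right _ hb, mval_mul_left hA _ ha, mval_mul_right _ hb, mval_mul_left hB _ ha]
  exact h _ m.2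

open Classical in
theorem mval_dmat_N {n m : ↥(D.group F)} (hn : n ∈ (ok.bnPair (F := F)).N) (hm : m ∈ (ok.bnPair (F := F)).N) :
    mval (UG D F) (dmat (UG D F) k n) m = if m = n then 1 else 0 := by
  rw [mval_dmat]
  refine if_congr ⟨fun h => ok.dc_inj hm hn (DoubleCoset.mem_doubleCoset_self _ _ m) h, ?_⟩ rfl rfl
  rintro rfl
  exact DoubleCoset.mem_doubleCoset_self _ _ _

theorem dmat_tor_mul {t n : ↥(D.group F)} (ht : t ∈ tor (ok.bnPair (F := F))) :
    dmat (UG D F) k t * dmat (UG D F) k n = dmat (UG D F) k (t * n) := by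
  classical
  refine inv_ext (isInv_mul (isInv_dmat _) (isInv_dmat _)) (isInv_dmat _) fun g => ?_
  rw [mval_dmat_mul (κ := Unit) (fun _ => t) (fun _ => DoubleCoset.mem_doubleCoset_self _ _ t) (fun _ _ _ => rfl)
    (fun x hx => by
      obtain ⟨a, ha, b, hb, rfl⟩ := DoubleCoset.mem_doubleCoset.mp hx
      exact ⟨(), by simpa [mul_assoc] using mul_mem (ok.tor_conj' ht ha) hb⟩) (isInv_dmat n),
    Fintype.sum_unique, mval_dmat, mval_dmat]
  refine if_congr ?_ rfl rfl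
  simp only [DoubleCoset.mem_doubleCoset, SetLike.mem_coe]
  constructor
  · rintro ⟨a, ha, b, hb, e⟩
    refine ⟨t * a * t⁻¹, ok.tor_conj ht ha, b, hb, ?_⟩
    rw [show g = t * (t⁻¹ * g) by simp, e]; simp [mul_assoc]
  · rintro ⟨a, ha, b, hb, rfl⟩
    exact ⟨t⁻¹ * a * t, ok.tor_conj' ht ha, b, hb, by simp [mul_assoc]⟩

theorem dmat_mul_tor {t n : ↥(D.group F)} (ht : t ∈ tor (ok.bnPair (F := F))) :
    dmat (UG D F) k n * dmat (UG D F) k t = dmat (UG D F) k (n * t) := by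
  classical
  refine inv_ext (isInv_mul (isInv_dmat _) (isInv_dmat _)) (isInv_dmat _) fun g => ?_
  rw [mval_mul (isInv_dmat t), Finset.sum_eq_single ((g * t⁻¹ : ↥(D.group F)) : ↥(D.group F) ⧸ UG D F)]
  · obtain ⟨c, hc⟩ := QuotientGroup.mk_out_eq_mul (UG D F) (g * t⁻¹)
    rw [hc, mval_dmat, mval_dmat, mval_dmat, if_pos (c := _ ∈ DoubleCoset.doubleCoset t _ _), mul_one]
    · refine if_congr ?_ rfl rfl
      simp only [DoubleCoset.mem_doubleCoset, SetLike.mem_coe]
      constructor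
      · rintro ⟨a, ha, b, hb, e⟩
        refine ⟨a, ha, t⁻¹ * (b * (c : ↥(D.group F))⁻¹) * t, ok.tor_conj' ht (mul_mem hb (inv_mem c.2)), ?_⟩
        rw [show g = g * t⁻¹ * c * (c : ↥(D.group F))⁻¹ * t by simp [mul_assoc], e]; simp [mul_assoc]
      · rintro ⟨a, ha, b, hb, rfl⟩
        exact ⟨a, ha, t * b * t⁻¹ * c, mul_mem (ok.tor_conj ht hb) c.2, by simp [mul_assoc]⟩
    · refine DoubleCoset.mem_doubleCoset.mpr ⟨(c : ↥(D.group F))⁻¹, inv_mem c.2, 1, one_mem _, ?_⟩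
      simp [mul_assoc]
  · intro z _ hz
    rw [mval_dmat (n := t), if_neg, mul_zero]
    intro h
    obtain ⟨a, ha, b, hb, e⟩ := DoubleCoset.mem_doubleCoset.mp h
    refine hz ?_
    conv_lhs => rw [← QuotientGroup.out_eq' z]
    rw [QuotientGroup.eq, ← mul_assoc, e]
    simpa [mul_assoc] using mul_mem ha (ok.tor_conj ht hb)
  · exact fun h => absurd (Finset.mem_univ _) h

omit [Fintype ↥(D.group F)] [Fintype (↥(D.group F) ⧸ UG D F)] in
/-- Conjugating the part away from the fundamental root. -/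
theorem inv_conj_Up {i : ℕ} (hi : i < D.rank) {u : GL D.Idx F} (hu : u ∈ ok.Up F i) :
    (ok.toOK.nG (T.smp i) (1 : F))⁻¹ * u * ok.toOK.nG (T.smp i) 1 ∈ D.posUnipotent F := by
  have hp := ok.toOK.smp_lt hi
  have hh := ok.toOK.hG_mem_diag (F := F) hp (neg_ne_zero.mpr (one_ne_zero (α := F)))
  have h1 := ok.Up_le (ok.n_conj_Up hi hu)
  have h2 := (Subgroup.mem_normalizer_iff.mp (ok.toOK.diag_normalizes_pos hh) _).mp h1
  have e : (ok.toOK.nG (T.smp i) (1 : F))⁻¹ = ok.toOK.hG (T.smp i) (-1) * ok.toOK.nG (T.smp i) 1 :=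
    ok.toOK.nG_one_inv hp
  rw [show (ok.toOK.nG (T.smp i) (1 : F))⁻¹ * u * ok.toOK.nG (T.smp i) 1 =
    (ok.toOK.nG (T.smp i) (1 : F))⁻¹ * u * ((ok.toOK.nG (T.smp i) (1 : F))⁻¹)⁻¹ by rw [inv_inv], e, mul_inv_rev]
  simpa [mul_assoc] using h2

omit [Fintype ↥(D.group F)] [Fintype (↥(D.group F) ⧸ UG D F)] in
theorem pos_split_left {i : ℕ} (hi : i < D.rank) {u : ↥(D.group F)} (hu : u ∈ UG D F) :
    ∃ a : F, ∃ u', (ok.sG F i)⁻¹ * u' * ok.sG F i ∈ UG D F ∧ u = ok.xS (T.smp i) a * u' := by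
  obtain ⟨v, hv, a, e⟩ := ok.mem_pos_split hi (inv_mem (show (u : GL D.Idx F) ∈ D.posUnipotent F from hu))
  refine ⟨-a, ⟨v⁻¹, ok.toOK.pos_le_group (inv_mem (ok.Up_le hv))⟩, ok.inv_conj_Up hi (inv_mem hv), Subtype.ext ?_⟩
  show (u : GL D.Idx F) = ok.toOK.xG (T.smp i) (-a) * v⁻¹
  rw [← ok.toOK.xG_inv, ← mul_inv_rev, ← e, inv_inv]

omit [Fintype ↥(D.group F)] [Fintype (↥(D.group F) ⧸ UG D F)] in
theorem neg_root_not_mem {i : ℕ} (hi : i < D.rank) {a : F}
    (h : (ok.sG F i)⁻¹ * ok.xS (T.smp i) a * ok.sG F i ∈ (ok.bnPair (F := F)).B) : a = 0 := by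
  by_contra ha
  have hp := ok.toOK.smp_lt hi
  obtain ⟨e₀, he₀, hs1⟩ := (ok.toOK.act_n (F := F) hi).2.1 _ (ok.toOK.neg_lt hp)
  have hr : T.refl i (T.neg (T.smp i)) = T.smp i := by
    rw [ok.toOK.refl_neg hi hp, (ok.toOK.smp_spec hi).2.2.1, ok.toOK.neg_neg' hp]
  have h1 := (hs1 (e₀⁻¹ * a)).1
  rw [hr, mul_inv_cancel_left₀ he₀] at h1
  have h' : (ok.toOK.nG (T.smp i) (1 : F))⁻¹ * ok.toOK.xG (T.smp i) a * ok.toOK.nG (T.smp i) 1 ∈
      D.borelSubgroup F := h
  rw [← h1] at h'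
  simp only [mul_assoc, inv_mul_cancel_left, inv_mul_cancel, mul_one] at h'
  have hneg : D.IsNegRoot (T.neg (T.smp i)) := by
    rw [ok.toOK.isNeg_iff, ok.toOK.ht_neg hp, (ok.toOK.smp_spec hi).1]; exact ⟨ok.toOK.neg_lt hp, by norm_num⟩
  have h4 : ok.toOK.xG (T.neg (T.smp i)) (e₀⁻¹ * a) ∈ D.borelSubgroup F ⊓ D.negUnipotent F :=
    ⟨h', ok.toOK.xG_mem_neg hneg _⟩
  rw [ok.toOK.borel_inf_neg, Subgroup.mem_bot] at h4
  exact mul_ne_zero (inv_ne_zero he₀) ha
    ((ok.toOK.x_eq_one (ok.toOK.neg_lt hp) _).mp (by rw [← ok.toOK.coe_xG, h4]; rfl))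

/-- The transversal of a simple double coset, shifted by a diagonal element. -/
theorem mval_simple_mul [Fintype F] {i : ℕ} (hi : i < D.rank) {t : ↥(D.group F)}
    (ht : t ∈ tor (ok.bnPair (F := F))) {B : Matrix (↥(D.group F) ⧸ UG D F) (↥(D.group F) ⧸ UG D F) k}
    (hB : IsInv (UG D F) B) (g : ↥(D.group F)) :
    mval (UG D F) (dmat (UG D F) k (ok.sG F i * t) * B) g =
      ∑ a : F, mval (UG D F) B ((ok.xS (T.smp i) a * ok.sG F i * t)⁻¹ * g) := by
  refine mval_dmat_mul _ (fun a => ?_) (fun a b h => ?_) (fun x hx => ?_) hB g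
  · exact DoubleCoset.mem_doubleCoset.mpr
      ⟨ok.xS (T.smp i) a, ok.xS_mem (ok.smp_isPos hi) a, 1, one_mem _, by simp [mul_assoc]⟩
  · have h' := ok.tor_conj ht h
    have h2 : (ok.sG F i)⁻¹ * ok.xS (T.smp i) (-a + b) * ok.sG F i ∈ UG D F := by
      rw [← ok.xS_mul, ← ok.xS_inv]
      simpa [mul_assoc] using h'
    have := ok.neg_root_not_mem hi (ok.UG_le h2)
    exact neg_add_eq_zero.mp this
  · obtain ⟨u, hu, v, hv, rfl⟩ := DoubleCoset.mem_doubleCoset.mp hx
    obtain ⟨a, u', hu', rfl⟩ := ok.pos_split_left hi hu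
    refine ⟨a, ?_⟩
    simpa [mul_assoc] using mul_mem (ok.tor_conj' ht hu') hv

/-- Multiplication by a simple double coset raising the length. -/
theorem dmat_simple_up [Fintype F] {i : ℕ} (hi : i < D.rank) {n : ↥(D.group F)}
    (hn : n ∈ (ok.bnPair (F := F)).N)
    (hlen : len (ok.bnPair (F := F)) n < len (ok.bnPair (F := F)) (ok.sG F i * n)) :
    dmat (UG D F) k (ok.sG F i) * dmat (UG D F) k n = dmat (UG D F) k (ok.sG F i * n) := by
  classical
  set P := ok.bnPair (F := F) with hP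
  set s := ok.sG F i with hs
  have hsS : s ∈ P.S := ok.sG_mem hi
  have hsn : s * n ∈ P.N := mul_mem (P.subset hsS) hn
  -- a positive root element moves across `n`
  have hpass : ∀ c : F, n⁻¹ * ok.xS (T.smp i) c * n ∈ UG D F := by
    intro c
    obtain ⟨t₀, ht₀, v, hv, hnv⟩ := ok.toOK.mem_monomial.mp (show (n : GL D.Idx F) ∈ D.monomialSubgroup F from hn)
    have hp := ok.toOK.smp_lt hi
    have hrev : ∀ j ∈ v.reverse, j < D.rank := fun j hj => hv j (List.mem_reverse.mp hj)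
    set τ : ↥(D.group F) := ⟨t₀, ok.toOK.diag_le_group ht₀⟩
    have hτ : τ ∈ tor P := ok.mem_tor_iff.mpr ht₀
    have e : Eqv P (ok.gE F v) n := by
      rw [ok.eqv_iff, ok.coe_gE, hnv, ← mul_assoc]
      simpa using ok.diag_normal_conj
        (inv_mem (ok.toOK.mem_monomial.mpr ⟨1, one_mem _, v, hv, (one_mul _).symm⟩)) ht₀
    have hpos : ¬ T.htf (piW T v.reverse (T.smp i)) < 0 := fun hc => by
      have := (ok.down_iff (F := F) hv hi).mpr hc
      rw [len_congr (mul_mem (P.subset hsS) (ok.gE_mem_N hv)) (eqv_mul_left s e),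
        len_congr (ok.gE_mem_N hv) e] at this
      exact absurd this (not_lt.mpr hlen.le)
    have hlt := ok.piW_lt hrev hp
    obtain ⟨π, hπ⟩ : ∃ π, ok.toOK.Act (n : GL D.Idx F) π :=
      ⟨_, hnv ▸ (ok.toOK.act_diag ht₀).mul ok.toOK (ok.toOK.act_gW v hv)⟩
    obtain ⟨κ, hκ, hconj⟩ := ((ok.toOK.act_diag ht₀).mul ok.toOK (ok.toOK.act_gW v hv)).2.1 _ hlt
    have h1 := (hconj (κ⁻¹ * c)).1
    rw [← hnv, Function.comp_apply, id, ok.piW_rev hv hp, mul_inv_cancel_left₀ hκ] at h1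
    show (n : GL D.Idx F)⁻¹ * ok.toOK.xG (T.smp i) c * n ∈ D.posUnipotent F
    rw [← h1]
    simp only [mul_assoc, inv_mul_cancel_left, inv_mul_cancel, mul_one]
    exact ok.toOK.xG_mem_pos (ok.toOK.isPos_iff.mpr ⟨hlt, by have := ok.toOK.ht_ne hlt; omega⟩) _
  refine ok.ext_N (isInv_mul (isInv_dmat _) (isInv_dmat _)) (isInv_dmat _) fun m hm => ?_
  rw [ok.mval_dmat_N hsn hm]
  have h := ok.mval_simple_mul (k := k) hi (one_mem _) (isInv_dmat n) m
  rw [mul_one] at h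
  rw [hs] at *
  rw [h]
  simp only [mul_one, mval_dmat]
  split_ifs with hmn
  · subst hmn
    rw [Finset.sum_eq_single (0 : F)]
    · rw [if_pos]
      simp [ok.xS_zero, mul_assoc, DoubleCoset.mem_doubleCoset_self]
    · intro a _ ha
      rw [if_neg]
      intro hmem
      rw [DoubleCoset.mem_doubleCoset] at hmem
      obtain ⟨u, hu, v, hv, e⟩ := hmem
      set y := (ok.sG F i)⁻¹ * ok.xS (T.smp i) (-a) * ok.sG F i with hy
      have hyN : y ∉ P.B := fun hc => ha (neg_eq_zero.mp (ok.neg_root_not_mem hi hc))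
      have hycell : InDC P y (ok.sG F i) := by
        have h1 : InDC P ((ok.sG F i) * (ok.xS (T.smp i) (-a)) * ok.sG F i) (ok.sG F i * ok.sG F i) ∨
            InDC P ((ok.sG F i) * (ok.xS (T.smp i) (-a)) * ok.sG F i) (ok.sG F i) :=
          smul_cases hsS (P.subset hsS) (ok.UG_le (ok.xS_mem (ok.smp_isPos hi) _))
        have hy' : y = (ok.sG F i * ok.sG F i)⁻¹ * (ok.sG F i * ok.xS (T.smp i) (-a) * ok.sG F i) := by
          rw [hy]; simp [mul_assoc]
        rcases h1 with h1 | h1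
        · exfalso
          refine hyN ?_
          obtain ⟨b, hb, c, hc, eb⟩ := inDC_iff.mp h1
          rw [hy', eb]
          exact mul_mem (inv_mem (P.sq_mem _ hsS)) (mul_mem (mul_mem hb (P.sq_mem _ hsS)) hc)
        · rw [hy']
          exact inDC_mul_left (inv_mem (P.sq_mem _ hsS)) h1
      obtain ⟨b, hb, c, hc, ey⟩ := inDC_iff.mp hycell
      have h2 : InDC P (y * n) (ok.sG F i * n) := by
        rw [ey, show b * ok.sG F i * c * n = b * (ok.sG F i * c * n) by simp [mul_assoc]]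
        exact inDC_mul_left hb (mul_up _ _ n hsS hn rfl hlen.le c hc)
      have h3 : InDC P (y * n) n := inDC_iff.mpr ⟨u, ok.UG_le hu, v, ok.UG_le hv, by
        rw [← e, hy, mul_inv_rev, ok.xS_inv]; simp [mul_assoc]⟩
      have := len_congr hn (eqv_of_inDC hn hsn (inDC_trans (inDC_symm h3) h2))
      exact absurd this hlen.ne
    · exact fun h => absurd (Finset.mem_univ _) h
  · refine Finset.sum_eq_zero fun a _ => if_neg fun hmem => hmn ?_
    rw [DoubleCoset.mem_doubleCoset] at hmem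
    obtain ⟨u, hu, v, hv, e⟩ := hmem
    obtain ⟨c, hc, u', hu', eu⟩ : ∃ c, ∃ hc : ok.xS (T.smp i) c ∈ UG D F, ∃ u',
        ok.sG F i * u' * (ok.sG F i)⁻¹ ∈ UG D F ∧ u = u' * ok.xS (T.smp i) c := by
      obtain ⟨w, hw, c, ew⟩ := ok.mem_pos_split hi (show (u : GL D.Idx F) ∈ D.posUnipotent F from hu)
      exact ⟨c, ok.xS_mem (ok.smp_isPos hi) c, ⟨w, ok.toOK.pos_le_group (ok.Up_le hw)⟩,
        ok.Up_le (ok.n_conj_Up hi hw), Subtype.ext ew⟩
    refine ok.dc_inj hm hsn (DoubleCoset.mem_doubleCoset_self _ _ m) (DoubleCoset.mem_doubleCoset.mpr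
      ⟨ok.xS (T.smp i) a * (ok.sG F i * u' * (ok.sG F i)⁻¹), mul_mem (ok.xS_mem (ok.smp_isPos hi) a) hu',
        n⁻¹ * ok.xS (T.smp i) c * n * v, mul_mem (hpass c) hv, ?_⟩)
    calc m = ok.xS (T.smp i) a * ok.sG F i * ((ok.xS (T.smp i) a * ok.sG F i)⁻¹ * m) := by simp [mul_assoc]
      _ = _ := by rw [e, eu]; simp [mul_assoc]

/-- The quadratic relation. -/
theorem dmat_simple_sq [Fintype F] [DecidableEq F] {i : ℕ} (hi : i < D.rank) :
    dmat (UG D F) k (ok.sG F i) * dmat (UG D F) k (ok.sG F i) =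
      (Fintype.card F : k) • dmat (UG D F) k (ok.sG F i * ok.sG F i) +
        ∑ c : Fˣ, dmat (UG D F) k (ok.hS (T.smp i) (-(c : F)) * (ok.sG F i * (ok.sG F i * ok.sG F i))) := by
  classical
  set P := ok.bnPair (F := F) with hP
  set s := ok.sG F i with hs
  set p := T.smp i with hp'
  have hsS : s ∈ P.S := ok.sG_mem hi
  have hp := ok.toOK.smp_lt hi
  have hppos := ok.smp_isPos hi
  have hsq : s * s ∈ tor P := sq_tor hsS
  have hh : ∀ c : Fˣ, ok.hS p (-(c : F)) ∈ tor P := fun c =>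
    ok.mem_tor_iff.mpr (ok.toOK.hG_mem_diag hp (neg_ne_zero.mpr c.ne_zero))
  have hinv2 : IsInv (UG D F) ((Fintype.card F : k) • dmat (UG D F) k (s * s) +
      ∑ c : Fˣ, dmat (UG D F) k (ok.hS p (-(c : F)) * (s * (s * s)))) := fun g y z => by
    simp only [Matrix.add_apply, Matrix.smul_apply, Matrix.sum_apply, isInv_dmat (k := k) _ g y z]
  refine inv_ext (isInv_mul (isInv_dmat _) (isInv_dmat _)) hinv2 fun g => ?_
  set δ : ↥(D.group F) → k := fun z => if z⁻¹ * g ∈ UG D F then 1 else 0 with hδ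
  have hδr : ∀ z, ∀ u ∈ UG D F, δ (z * u) = δ z := fun z u hu => by
    simp only [hδ]
    refine if_congr ?_ rfl rfl
    rw [mul_inv_rev, mul_assoc]
    exact (UG D F).mul_mem_cancel_left (inv_mem hu)
  have hone : ∀ y : ↥(D.group F), mval (UG D F) (1 : Matrix (↥(D.group F) ⧸ UG D F) (↥(D.group F) ⧸ UG D F) k) y =
      if y ∈ UG D F then 1 else 0 := fun y => by
    rw [mval, Matrix.one_apply]
    exact if_congr (by rw [QuotientGroup.eq]; simp) rfl rfl
  -- the three expansions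
  have hdouble : mval (UG D F) (dmat (UG D F) k s * dmat (UG D F) k s) g =
      ∑ a : F, ∑ b : F, δ (ok.xS p a * s * ok.xS p b * s) := by
    have h1 := ok.mval_simple_mul (k := k) hi (one_mem _) (isInv_dmat s) g
    rw [mul_one] at h1
    rw [h1]
    refine Finset.sum_congr rfl fun a _ => ?_
    have h2 := ok.mval_simple_mul (k := k) hi (one_mem _) (isInv_one (U := UG D F))
      ((ok.xS p a * ok.sG F i * 1)⁻¹ * g)
    rw [mul_one, mul_one] at h2
    simp only [mul_one] at h2 ⊢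
    rw [h2]
    exact Finset.sum_congr rfl fun b _ => by simp [hone, hδ, hs, hp', mul_assoc]
  have hsq' : mval (UG D F) (dmat (UG D F) k (s * s)) g = δ (s * s) := by
    rw [mval_dmat, hδ]
    refine if_congr ?_ rfl rfl
    rw [DoubleCoset.mem_doubleCoset]
    exact ⟨fun ⟨a, ha, b, hb, e⟩ => by
        rw [e]; simpa [mul_assoc] using mul_mem (ok.tor_conj' hsq ha) hb,
      fun h => ⟨1, one_mem _, _, h, by rw [one_mul, mul_inv_cancel_left]⟩⟩
  have hterm : ∀ c : Fˣ, mval (UG D F) (dmat (UG D F) k (ok.hS p (-(c : F)) * (s * (s * s)))) g =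
      ∑ a : F, δ (ok.xS p a * ok.hS p (-(c : F)) * (s * (s * s))) := by
    intro c
    rw [← ok.dmat_tor_mul (hh c), mval_dmat_mul (κ := Unit) (fun _ => ok.hS p (-(c : F)))
      (fun _ => DoubleCoset.mem_doubleCoset_self _ _ _) (fun _ _ _ => rfl)
      (fun x hx => by
        obtain ⟨a, ha, b, hb, rfl⟩ := DoubleCoset.mem_doubleCoset.mp hx
        exact ⟨(), by simpa [mul_assoc] using mul_mem (ok.tor_conj' (hh c) ha) hb⟩) (isInv_dmat _),
      Fintype.sum_unique]
    have h1 := ok.mval_simple_mul (k := k) hi hsq (isInv_one (U := UG D F)) ((ok.hS p (-(c : F)))⁻¹ * g)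
    rw [mul_one] at h1
    rw [h1]
    obtain ⟨κ, hκ, hκ'⟩ := (ok.toOK.act_diag (ok.mem_tor_iff.mp (hh c))).2.1 p hp
    refine Fintype.sum_equiv (Equiv.mulLeft₀ κ hκ) _ _ fun a => ?_
    have e : ok.xS p (κ * a) * ok.hS p (-(c : F)) = ok.hS p (-(c : F)) * ok.xS p a := by
      refine Subtype.ext ?_
      show ok.toOK.xG p (κ * a) * ok.toOK.hG p (-(c : F)) = ok.toOK.hG p (-(c : F)) * ok.toOK.xG p a
      have h2 := (hκ' a).1
      simp only [id] at h2
      rw [← h2]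
      exact inv_mul_cancel_right _ _
    show _ = δ (ok.xS p (κ * a) * ok.hS p (-(c : F)) * (s * (s * s)))
    rw [e]
    simp only [hone, hδ, hs, hp', mul_inv_rev, mul_assoc]
  rw [hdouble, Finset.sum_comm]
  have hexp : mval (UG D F) ((Fintype.card F : k) • dmat (UG D F) k (s * s) +
      ∑ c : Fˣ, dmat (UG D F) k (ok.hS p (-(c : F)) * (s * (s * s)))) g =
      (Fintype.card F : k) * δ (s * s) + ∑ c : Fˣ, ∑ a : F, δ (ok.xS p a * ok.hS p (-(c : F)) * (s * (s * s))) := by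
    rw [← hsq', ← Finset.sum_congr rfl fun c _ => hterm c]
    simp only [mval, Matrix.add_apply, Matrix.smul_apply, Matrix.sum_apply, smul_eq_mul]
  rw [hexp, ← Finset.add_sum_erase _ _ (Finset.mem_univ (0 : F))]
  congr 1
  · rw [Finset.sum_congr rfl fun a _ => show δ (ok.xS p a * s * ok.xS p 0 * s) = δ (s * s) by
      rw [ok.xS_zero, mul_one,
        show ok.xS p a * s * s = s * s * ((s * s)⁻¹ * ok.xS p a * (s * s)) by simp [mul_assoc],
        hδr _ _ (ok.tor_conj' hsq (ok.xS_mem hppos a))], Finset.sum_const, Finset.card_univ, nsmul_eq_mul]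
  obtain ⟨e₀, he₀, hs1⟩ := (ok.toOK.act_n (F := F) hi).2.1 _ hp
  have hnz : ∀ b ∈ Finset.univ.erase (0 : F), (e₀ * b)⁻¹ ≠ 0 := fun b hb =>
    inv_ne_zero (mul_ne_zero he₀ (Finset.mem_erase.mp hb).1)
  refine Finset.sum_bij (fun b hb => Units.mk0 _ (hnz b hb)) (fun _ _ => Finset.mem_univ _)
    (fun a _ b _ e => ?_) (fun c _ => ?_) fun b hb => ?_
  · have := congrArg Units.val e
    simp only [Units.val_mk0] at this
    exact mul_left_cancel₀ he₀ (inv_injective this)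
  · refine ⟨e₀⁻¹ * (c : F)⁻¹, Finset.mem_erase.mpr
      ⟨mul_ne_zero (inv_ne_zero he₀) (inv_ne_zero c.ne_zero), Finset.mem_univ _⟩, Units.ext ?_⟩
    simp [← mul_assoc, he₀]
  · have hb0 := (Finset.mem_erase.mp hb).1
    have hstep := ok.n_eq_xGs (F := F) hi (mul_ne_zero he₀ hb0)
    rw [ok.toOK.nG_eq_hG_mul hp] at hstep
    have hkey : ∀ a : F, ok.xS p a * s * ok.xS p b * s =
        ok.xS p (a + (e₀ * b)⁻¹) * ok.hS p (-(e₀ * b)⁻¹) * (s * (s * s)) *
          ((s * s)⁻¹ * ok.xS p (e₀ * b)⁻¹ * (s * s)) := by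
      intro a
      refine Subtype.ext ?_
      show ok.toOK.xG p a * ok.toOK.nG p 1 * ok.toOK.xG p b * ok.toOK.nG p 1 =
        ok.toOK.xG p (a + (e₀ * b)⁻¹) * ok.toOK.hG p (-(e₀ * b)⁻¹) *
          (ok.toOK.nG p 1 * (ok.toOK.nG p 1 * ok.toOK.nG p 1)) *
          ((ok.toOK.nG p 1 * ok.toOK.nG p 1)⁻¹ * ok.toOK.xG p (e₀ * b)⁻¹ * (ok.toOK.nG p 1 * ok.toOK.nG p 1))
      have h1 : ok.toOK.nG p (1 : F) * ok.toOK.xG p b * (ok.toOK.nG p 1)⁻¹ =
          ok.toOK.xG (T.neg p) (e₀ * b) := by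
        rw [(hs1 b).1, (ok.toOK.smp_spec hi).2.2.1]
      have h2 : ok.toOK.xG p a * ok.toOK.nG p 1 * ok.toOK.xG p b * ok.toOK.nG p 1 =
          ok.toOK.xG p a * (ok.toOK.nG p 1 * ok.toOK.xG p b * (ok.toOK.nG p 1)⁻¹) *
            (ok.toOK.nG p 1 * ok.toOK.nG p 1) := by simp [mul_assoc]
      rw [h2, h1, hstep, ← hp', ← ok.toOK.xG_mul]
      simp [mul_assoc]
    simp only [hkey, Units.val_mk0]
    rw [Finset.sum_congr rfl fun a _ => hδr _ _ (ok.tor_conj' hsq (ok.xS_mem hppos _))]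
    exact Fintype.sum_equiv (Equiv.addRight _) _ _ fun a => rfl

omit [Fintype ↥(D.group F)] [Fintype (↥(D.group F) ⧸ UG D F)] in
/-- Commutators of diagonal elements with a simple representative. -/
theorem comm_tor_simple {i : ℕ} (hi : i < D.rank) {t : ↥(D.group F)} (ht : t ∈ tor (ok.bnPair (F := F))) :
    ∃ c : F, c ≠ 0 ∧ t * ok.sG F i * t⁻¹ * (ok.sG F i)⁻¹ = ok.hS (T.smp i) c := by
  have hp := ok.toOK.smp_lt hi
  obtain ⟨κ, hκ, hκ'⟩ := (ok.toOK.act_diag (ok.mem_tor_iff.mp ht)).2.1 _ hp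
  refine ⟨κ, hκ, mul_inv_eq_iff_eq_mul.mpr (Subtype.ext ?_)⟩
  show (t : GL D.Idx F) * ok.toOK.nG (T.smp i) 1 * (t : GL D.Idx F)⁻¹ =
    ok.toOK.hG (T.smp i) κ * ok.toOK.nG (T.smp i) 1
  rw [← ok.toOK.nG_eq_hG_mul hp, ok.toOK.nG_eq hp, ok.toOK.nG_eq hp, ← conj_mul, ← conj_mul, (hκ' 1).1, (hκ' _).2]
  simp

/-- The number of cosets in a double coset. -/
theorem mcount_eq [Fintype F] : ∀ (l : ℕ) (n : ↥(D.group F)), n ∈ (ok.bnPair (F := F)).N →
    len (ok.bnPair (F := F)) n = l → mcount (UG D F) n = Fintype.card F ^ l := by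
  classical
  intro l
  induction l with
  | zero =>
    intro n hn hl
    have htor : n ∈ tor (ok.bnPair (F := F)) := ⟨len_eq_zero hn hl, hn⟩
    rw [pow_zero, mcount, Nat.card_eq_one_iff_unique]
    have key : ∀ z : {z : ↥(D.group F) ⧸ UG D F //
        z.out ∈ DoubleCoset.doubleCoset n (UG D F : Set ↥(D.group F)) (UG D F)},
        z.1 = (n : ↥(D.group F) ⧸ UG D F) := by
      rintro ⟨z, hz⟩
      obtain ⟨a, ha, b, hb, e⟩ := DoubleCoset.mem_doubleCoset.mp hz
      show z = _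
      rw [← QuotientGroup.out_eq' z, e, QuotientGroup.eq]
      simpa [mul_assoc] using mul_mem (inv_mem hb) (ok.tor_conj' htor (inv_mem ha))
    exact ⟨⟨fun a b => Subtype.ext ((key a).trans (key b).symm)⟩,
      ⟨⟨(n : ↥(D.group F) ⧸ UG D F), out_dc_iff.mpr (DoubleCoset.mem_doubleCoset_self _ _ n)⟩⟩⟩
  | succ l ih =>
    intro n hn hl
    set P := ok.bnPair (F := F)
    obtain ⟨w, hw, hwl, e⟩ := exists_reduced hn
    rw [hl] at hwl
    match w, hwl with
    | [], hwl => simp at hwl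
    | s :: m, hwl =>
      obtain ⟨i, hi, rfl⟩ := ok.mem_S.mp (hw s List.mem_cons_self)
      have hm : IsWord P.S m := fun x hx => hw x (List.mem_cons_of_mem _ hx)
      rw [List.length_cons, add_left_inj] at hwl
      set n' := (ok.sG F i)⁻¹ * n with hn'
      have hn'N : n' ∈ P.N := mul_mem (inv_mem (P.subset (ok.sG_mem hi))) hn
      have e' : Eqv P m.prod n' := by
        have := eqv_mul_left (ok.sG F i)⁻¹ e
        simpa [hn', List.prod_cons] using this
      have h1 : len P n' ≤ l := hwl ▸ len_le hm e'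
      have h2 : len P (ok.sG F i * n') = l + 1 := by rw [hn', mul_inv_cancel_left, hl]
      have h3 : len P (ok.sG F i * n') ≤ len P n' + 1 := len_mul_le (ok.sG_mem (F := F) hi) hn'N
      have h4 : len P n' = l := by omega
      have hmul := congrArg (fun A => ∑ z : ↥(D.group F) ⧸ UG D F, mval (UG D F) A z.out)
        (ok.dmat_simple_up (k := ℤ) hi hn'N (show len P n' < len P (ok.sG F i * n') by omega))
      try simp only at hmul
      rw [rowsum_mul (isInv_dmat _), rowsum_dmat, rowsum_dmat, rowsum_dmat, ih n' hn'N h4,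
        show ok.sG F i * n' = n by rw [hn', mul_inv_cancel_left]] at hmul
      have hs : mcount (UG D F) (ok.sG F i) = Fintype.card F := by
        have h5 := rowsum_dmat (U := UG D F) (k := ℤ) (ok.sG F i)
        have h6 : ∑ z : ↥(D.group F) ⧸ UG D F, mval (UG D F) (dmat (UG D F) ℤ (ok.sG F i)) z.out =
            (Fintype.card F : ℤ) := by
          have h7 : ∀ z : ↥(D.group F) ⧸ UG D F, mval (UG D F) (dmat (UG D F) ℤ (ok.sG F i)) z.out =
              ∑ a : F, if ((ok.xS (T.smp i) a * ok.sG F i : ↥(D.group F)) : ↥(D.group F) ⧸ UG D F) = z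
                then 1 else 0 := fun z => by
            have h8 := ok.mval_simple_mul (k := ℤ) hi (one_mem _) (isInv_one (U := UG D F)) z.out
            rw [mul_one, mul_one] at h8
            rw [h8]
            refine Finset.sum_congr rfl fun a _ => ?_
            rw [mul_one, mval, Matrix.one_apply]
            refine if_congr ?_ rfl rfl
            rw [QuotientGroup.eq, inv_one, one_mul]
            conv_rhs => rw [← QuotientGroup.out_eq' z, QuotientGroup.eq]
          simp only [h7]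
          rw [Finset.sum_comm]
          simp
        rw [h6] at h5
        exact_mod_cast h5.symm
      rw [hs] at hmul
      rw [pow_succ']
      exact_mod_cast hmul.symm

end OKX

end Cfsg.Agent.Chev
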