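import Cfsg.Agent.Lib.Chev.StPres
import Cfsg.Agent.Lib.Chev.Order

/-!
The torus of a presented group when the diagonal elements multiply, and the order of the centre.
-/

set_option autoImplicit false

namespace Cfsg.Agent.Chev

open Cfsg.Lie OK

variable {F : Type*} [Field F] {D : ChevalleyDatum} {T : Tabs}

namespace StHyp

variable {ok : OKX D T} {S : Type*} [Group S] {y : ℕ → F → S} {θ : S →* GL D.Idx F}

/-- The diagonal elements of the fundamental roots multiply. -/
def HMul (st : StHyp ok y θ) : Prop :=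
  ∀ i < D.rank, ∀ a b : F, a ≠ 0 → b ≠ 0 → st.hb i a * st.hb i b = st.hb i (a * b)

theorem hb_one (st : StHyp ok y θ) {i : ℕ} (hi : i < D.rank) : st.hb i 1 = 1 := by
  rw [hb, ← st.nb_inv hi, mul_inv_cancel]

theorem hb_conj (st : StHyp ok y θ) {i j : ℕ} (hi : i < D.rank) (hj : j < D.rank) {b : F} (hb0 : b ≠ 0) (a : F) :
    st.hb j b * st.hb i a * (st.hb j b)⁻¹ =
      st.hb i (b ^ T.cA j (T.smp i) * a) * (st.hb i (b ^ T.cA j (T.smp i)))⁻¹ := by
  have hp := ok.toOK.smp_lt hi
  have hc : ∀ x : F, st.hb j b * st.nb i x * (st.hb j b)⁻¹ = st.nb i (b ^ T.cA j (T.smp i) * x) := by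
    intro x
    rw [nb, nb, ← conj_mul, ← conj_mul, st.conj_hb hj hb0 hp, st.conj_hb hj hb0 (ok.toOK.neg_lt hp),
      ok.toOK.cA_neg hp hj, zpow_neg, mul_inv, mul_neg]
  conv_lhs => rw [show st.hb i a = st.nb i a * st.nb i (-1) from rfl]
  rw [← conj_mul, hc, hc, mul_neg_one, show st.hb i (b ^ T.cA j (T.smp i) * a) =
    st.nb i (b ^ T.cA j (T.smp i) * a) * st.nb i (-1) from rfl,
    show st.hb i (b ^ T.cA j (T.smp i)) = st.nb i (b ^ T.cA j (T.smp i)) * st.nb i (-1) from rfl, mul_inv_rev,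
    ← st.nb_inv hi]
  simp [mul_assoc]

theorem hb_comm (st : StHyp ok y θ) (hm : st.HMul) {i j : ℕ} (hi : i < D.rank) (hj : j < D.rank) {a b : F}
    (ha : a ≠ 0) (hb0 : b ≠ 0) : Commute (st.hb j b) (st.hb i a) := by
  have h := st.hb_conj hi hj hb0 a
  have hc := zpow_ne_zero (T.cA j (T.smp i)) hb0
  rw [mul_comm (b ^ _) a, ← hm i hi a _ ha hc, mul_inv_cancel_right] at h
  exact mul_inv_eq_iff_eq_mul.mp h

/-- A family of parameters to the torus element. -/
noncomputable def torHom (st : StHyp ok y θ) (hm : st.HMul) : (Fin D.rank → Fˣ) →* S :=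
  MonoidHom.noncommPiCoprod
    (fun i : Fin D.rank =>
      { toFun := fun a : Fˣ => st.hb i a
        map_one' := by simpa using st.hb_one i.isLt
        map_mul' := fun a b => by rw [Units.val_mul, hm i i.isLt _ _ a.ne_zero b.ne_zero] })
    (fun i j _ a b => st.hb_comm hm j.isLt i.isLt b.ne_zero a.ne_zero)

theorem torHom_single (st : StHyp ok y θ) (hm : st.HMul) (i : Fin D.rank) (a : Fˣ) :
    st.torHom hm (Pi.mulSingle i a) = st.hb i a :=
  by unfold torHom; exact MonoidHom.noncommPiCoprod_mulSingle (N := fun _ : Fin D.rank => Fˣ) _ i a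

theorem torHom_range (st : StHyp ok y θ) (hm : st.HMul) : (st.torHom hm).range = st.Hb := by
  refine le_antisymm ?_ ((Subgroup.closure_le _).mpr ?_)
  · rintro _ ⟨c, rfl⟩
    show c ∈ Subgroup.comap (st.torHom hm) st.Hb
    rw [← Finset.univ_prod_mulSingle c]
    refine Subgroup.prod_mem _ fun i _ => ?_
    rw [Subgroup.mem_comap, st.torHom_single hm]
    exact st.hb_mem i.isLt (c i).ne_zero
  · rintro _ ⟨i, a, hi, ha, rfl⟩
    exact ⟨Pi.mulSingle ⟨i, hi⟩ (Units.mk0 a ha), st.torHom_single hm ⟨i, hi⟩ _⟩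

/-- The torus map of the matrix group. -/
noncomputable def torMap (ok : OKX D T) (F : Type*) [Field F] : (Fin D.rank → Fˣ) →* GL D.Idx F where
  toFun c := ok.toOK.torG (param c)
  map_one' := ok.toOK.torG_eq_one_iff.mpr (map_one _)
  map_mul' a b := by
    rw [ok.toOK.torG_mul (fun i _ => param_ne a i) (fun i _ => param_ne b i)]
    congr 1; funext i
    unfold param; split <;> simp

theorem torG_single (ok : OKX D T) (i : Fin D.rank) (a : Fˣ) :
    torMap ok F (Pi.mulSingle i a) = ok.toOK.hG (T.smp i) (a : F) := by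
  show ok.toOK.torG (param (Pi.mulSingle i a)) = _
  rw [ok.toOK.hG_eq_torG (ok.toOK.smp_lt i.isLt) a.ne_zero]
  have h : ∀ j < D.rank, param (Pi.mulSingle (M := fun _ => Fˣ) i a) j = (a : F) ^ T.cC (T.smp i) j := by
    intro j hj
    rw [param, dif_pos hj, ok.toOK.cC_smp i.isLt hj]
    by_cases e : j = i
    · subst e; simp
    · rw [if_neg e, zpow_zero, Pi.mulSingle_eq_of_ne (fun e' => e (congrArg Fin.val e')), Units.val_one]
  refine Units.ext ?_
  rw [ok.toOK.coe_torG (fun j _ => param_ne _ j), ok.toOK.coe_torG (fun j _ => zpow_ne_zero _ a.ne_zero)]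
  congr 1; funext z
  rcases z with z | z
  · rfl
  · simp only [Sum.elim_inr]
    exact Finset.prod_congr rfl fun j hj => by rw [h j (Finset.mem_range.mp hj)]

theorem map_torHom (st : StHyp ok y θ) (hm : st.HMul) (c : Fin D.rank → Fˣ) :
    θ (st.torHom hm c) = torMap ok F c := by
  suffices h : θ.comp (st.torHom hm) = torMap ok F from DFunLike.congr_fun h c
  refine MonoidHom.pi_ext fun i a => ?_
  rw [MonoidHom.comp_apply, st.torHom_single hm, st.map_hb i.isLt, torG_single]

theorem ker_eq_image (st : StHyp ok y θ) (hm : st.HMul) :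
    θ.ker = ((monoMap (G := Fˣ) (torMat D T)).ker).map (st.torHom hm) := by
  ext k
  rw [Subgroup.mem_map]
  constructor
  · intro hk
    have h := st.ker_le_Hb hk
    rw [← st.torHom_range hm] at h
    obtain ⟨c, rfl⟩ := h
    rw [MonoidHom.mem_ker, st.map_torHom hm] at hk
    change ok.toOK.torG (param c) = 1 at hk
    exact ⟨c, ok.toOK.torG_eq_one_iff.mp hk, rfl⟩
  · rintro ⟨c, hc, rfl⟩
    rw [MonoidHom.mem_ker, st.map_torHom hm]
    exact ok.toOK.torG_eq_one_iff.mpr hc

theorem ker_eq_bot_of_unimodular (st : StHyp ok y θ) (hm : st.HMul)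
    {P P' Q Q' : Matrix (Fin D.rank) (Fin D.rank) ℤ} {e : Fin D.rank → ℕ}
    (hP : P * P' = 1) (hQ : Q * Q' = 1) (h : P * torMat D T * Q = Matrix.diagonal fun i => (e i : ℤ))
    (he : ∀ i, e i = 1) : θ.ker = ⊥ := by
  have hA : (monoMap (G := Fˣ) (torMat D T)).ker = ⊥ := by
    have hPQ : P * torMat D T * Q = 1 := by
      rw [h, ← Matrix.diagonal_one]; congr 1; funext i; rw [he i]; rfl
    have hinj : Function.Injective (monoMap (G := Fˣ) (torMat D T)) := by
      have h1 : torMat D T * (Q * P) = 1 := by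
        have e1 : P * (torMat D T * Q) = 1 := by rw [← mul_assoc]; exact hPQ
        have e2 := mul_eq_one_comm.mp e1
        rwa [mul_assoc] at e2
      exact (monoMap_bijective h1).1
    exact (MonoidHom.ker_eq_bot_iff _).mpr hinj
  rw [st.ker_eq_image hm, hA, Subgroup.map_bot]

end StHyp

theorem steinberg_hmul {R : Set (FreeGroup (Fin D.nroots × F))} (hR : D.steinbergRels F ⊆ R) {ok : OKX D T}
    {θ : PresentedGroup R →* GL D.Idx F}
    (st : StHyp ok (fun r t => PresentedGroup.mk R (D.stX r t)) θ) : st.HMul := by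
  intro i hi a b ha hb
  have hp := ok.toOK.smp_lt hi
  have h := PresentedGroup.one_of_mem (rels := R) (hR (Or.inr ⟨T.smp i, a, b, hp, ha, hb, rfl⟩))
  rw [map_mul, map_mul, map_inv, mul_inv_eq_one] at h
  simpa [StHyp.hb, StHyp.nb, ChevalleyDatum.stH, ChevalleyDatum.stWord, ChevalleyDatum.hWord,
    ChevalleyDatum.nWord, ok.toOK.neg_eq hp, mul_assoc] using h

end Cfsg.Agent.Chev
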