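import Cfsg.Agent.Lib.Chev.Steinberg
import Cfsg.Agent.Lib.Chev.AllX
import Cfsg.Agent.Lib.Char.PermChar
import Cfsg.Agent.Lib.Char.Generalized
import Cfsg.Agent.Lib.Block.Regular
import Cfsg.Agent.Lib.Block.RegInner

/-!
The Steinberg character of a Chevalley group.
-/

set_option autoImplicit false
set_option linter.style.haveILetI false

namespace Cfsg.Agent.Chev

open Cfsg Cfsg.Lie Cfsg.Agent.BN Cfsg.Agent.Char
open scoped ComplexConjugate

theorem isGeneralized_fixedPointCharacter {G : Type*} [Group G] [Fintype G] (H : Subgroup G) :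
    IsGeneralizedCharacter G (fixedPointCharacter H) := by
  have e : fixedPointCharacter H = indFun H (fun _ => (1 : ℂ)) :=
    funext fun g => (indFun_one_eq_card_fixed H g).symm
  rw [e]
  exact isGeneralizedCharacter_indFun H isGeneralizedCharacter_one

variable {F : Type*} [Field F] {D : ChevalleyDatum} {T : Tabs}

namespace OKX

variable (ok : OKX D T)

include ok

theorem steinberg_one [Fintype F] : D.steinbergCharacter F 1 = (Fintype.card F : ℂ) ^ (D.nroots / 2) := by
  rw [ok.steinberg_eq, ok.stS_one]
  norm_cast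

theorem steinberg_irr [Fintype F] : IsIrrCharacter ↥(D.group F) (D.steinbergCharacter F) := by
  classical
  haveI : Finite (GL D.Idx F) := Finite.of_injective _ Units.val_injective
  haveI : Finite ↥(D.group F) := Subtype.finite
  haveI := Fintype.ofFinite ↥(D.group F)
  have hgen : IsGeneralizedCharacter ↥(D.group F) (D.steinbergCharacter F) := by
    have h := isGeneralizedCharacter_sum (Finset.range D.rank).powerset
      (fun J => ((-1 : ℤ) ^ J.card : ℂ) • fixedPointCharacter (D.parabolicIn F J)) fun J _ => by
        simpa using isGeneralizedCharacter_intCast_smul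
          (isGeneralized_fixedPointCharacter (D.parabolicIn F J)) ((-1 : ℤ) ^ J.card)
    convert h using 1
    funext g
    simp [ChevalleyDatum.steinbergCharacter, Finset.sum_apply]
  have h1 : classInner (D.steinbergCharacter F) (D.steinbergCharacter F) = 1 := by
    have hsum : ∑ g, D.steinbergCharacter F g * conj (D.steinbergCharacter F g) =
        ((Nat.card ↥(D.group F) : ℤ) : ℂ) := by
      rw [← ok.stS_one_mul_sq, Int.cast_sum]
      exact Finset.sum_congr rfl fun g _ => by rw [ok.steinberg_eq g, map_intCast, Int.cast_mul]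
    rw [classInner, hsum, Int.cast_natCast, inv_mul_cancel₀]
    exact Nat.cast_ne_zero.mpr Nat.card_pos.ne'
  refine (IsGeneralizedCharacter.irr_or_neg hgen h1).resolve_right fun hn => ?_
  obtain ⟨m, hm⟩ := IsCharacter.exists_degree (IsIrrCharacter.isCharacter hn)
  rw [Pi.neg_apply, ok.steinberg_one] at hm
  have h2 : (((Fintype.card F) ^ (D.nroots / 2) + m : ℕ) : ℂ) = 0 := by
    push_cast
    rw [← hm]; exact add_neg_cancel _
  have h3 := pow_pos (Fintype.card_pos (α := F)) (D.nroots / 2)
  have h4 := Nat.cast_eq_zero.mp h2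
  omega

theorem factorization_card [Fintype F] (p : ℕ) [Fact p.Prime] [CharP F p] :
    p ^ (Nat.card ↥(D.group F)).factorization p = Fintype.card F ^ (D.nroots / 2) := by
  haveI : Finite (GL D.Idx F) := Finite.of_injective _ Units.val_injective
  haveI : Finite ↥(D.group F) := Subtype.finite
  obtain ⟨P, hP⟩ := ok.sylow_pos (F := F) p
  rw [← Sylow.card_eq_multiplicity P, hP, Nat.card_congr (Subgroup.subgroupOfEquivOfLe ok.toOK.pos_le_group).toEquiv,
    ok.card_pos]

theorem steinberg_singular [Fintype F] (p : ℕ) [Fact p.Prime] [CharP F p] (g : ↥(D.group F))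
    (hg : p ∣ orderOf g) : D.steinbergCharacter F g = 0 := by
  haveI : Finite (GL D.Idx F) := Finite.of_injective _ Units.val_injective
  haveI : Finite ↥(D.group F) := Subtype.finite
  have hp : p.Prime := Fact.out
  obtain ⟨M, hM⟩ := Cfsg.Agent.Block.exists_isPModular hp
  set χ : IrrCharacter ↥(D.group F) := ⟨D.steinbergCharacter F, ok.steinberg_irr⟩ with hχ
  have hd : charDegree (χ : ↥(D.group F) → ℂ) = p ^ (Nat.card ↥(D.group F)).factorization p := by
    have h := Cfsg.Agent.Block.charDegree_cast (IsIrrCharacter.isCharacter (ok.steinberg_irr (F := F)))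
    rw [ok.steinberg_one, ← Nat.cast_pow, Nat.cast_inj] at h
    rw [ok.factorization_card p]
    exact h
  have hnd : ¬ p ∣ Nat.card ↥(D.group F) / charDegree (χ : ↥(D.group F) → ℂ) := by
    rw [hd]
    exact Nat.not_dvd_ordCompl hp Nat.card_pos.ne'
  exact Cfsg.Agent.Block.apply_eq_zero_of_singleton hM (Cfsg.Agent.Block.blockOf_eq_singleton hM χ hnd) hg

end OKX

end Cfsg.Agent.Chev
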