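import Cfsg.Agent.Lib.Chev.StAux

/-!
The Steinberg function of a Chevalley group: restriction to the Borel subgroup, degree, norm.
-/

set_option autoImplicit false
set_option linter.style.haveILetI false

namespace Cfsg.Agent.Chev

open Cfsg.Lie Cfsg.Agent.BN

/-- Fixed points on the cosets of a point stabiliser. -/
theorem card_fixedBy_stab {G : Type*} [Group G] {X : Type*} [MulAction G X] (B : Subgroup G) (H : Subgroup ↥B)
    (x₀ : X) (hstab : ∀ c : ↥B, c ∈ H ↔ (c : G) • x₀ = x₀) (b : ↥B) :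
    Nat.card (MulAction.fixedBy (↥B ⧸ H) b) = Nat.card {x : X // (b : G) • x = x ∧ ∃ c ∈ B, c • x₀ = x} := by
  have hfix : ∀ y : ↥B ⧸ H, b • y = y ↔ (b : G) • ((y.out : ↥B) : G) • x₀ = ((y.out : ↥B) : G) • x₀ := by
    intro y
    conv_lhs => rw [← QuotientGroup.out_eq' y]
    rw [MulAction.Quotient.smul_mk, QuotientGroup.eq, ← inv_mem_iff, hstab, smul_eq_mul]
    simp only [mul_inv_rev, inv_inv, Subgroup.coe_mul, Subgroup.coe_inv, mul_smul, inv_smul_eq_iff]
  refine Nat.card_eq_of_bijective (fun y => ⟨((y.1.out : ↥B) : G) • x₀, (hfix _).mp y.2, _, y.1.out.2, rfl⟩)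
    ⟨?_, ?_⟩
  · intro y z e
    have e' := congrArg Subtype.val e
    simp only at e'
    refine Subtype.ext ?_
    rw [← QuotientGroup.out_eq' y.1, ← QuotientGroup.out_eq' z.1, QuotientGroup.eq, hstab]
    simp only [Subgroup.coe_mul, Subgroup.coe_inv, mul_smul, inv_smul_eq_iff]
    exact e'.symm
  · rintro ⟨x, hbx, c, hc, rfl⟩
    obtain ⟨h, hh⟩ := QuotientGroup.mk_out_eq_mul H (⟨c, hc⟩ : ↥B)
    have ey : (((((⟨c, hc⟩ : ↥B) : ↥B ⧸ H)).out : ↥B) : G) • x₀ = c • x₀ := by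
      rw [hh, Subgroup.coe_mul, mul_smul, (hstab _).mp h.2]
    refine ⟨⟨((⟨c, hc⟩ : ↥B) : ↥B ⧸ H), (hfix _).mpr ?_⟩, Subtype.ext ey⟩
    rw [ey]
    exact hbx

theorem card_fixedBy_one {G : Type*} [Group G] (H : Subgroup G) :
    Nat.card (MulAction.fixedBy (G ⧸ H) (1 : G)) * Nat.card ↥H = Nat.card G := by
  rw [show MulAction.fixedBy (G ⧸ H) (1 : G) = Set.univ from Set.eq_univ_of_forall fun y => one_smul _ y,
    Nat.card_congr (Equiv.Set.univ _), ← Subgroup.index, Subgroup.index_mul_card]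

variable {F : Type*} [Field F] {D : ChevalleyDatum} {T : Tabs}

namespace OKX

variable (ok : OKX D T)

include ok

open Classical in
/-- The representatives of a set of indices. -/
noncomputable def sJ (F : Type*) [Field F] (J : Finset ℕ) : Finset ↥(D.group F) := J.image (ok.sG F)

theorem coe_sJ (J : Finset ℕ) : (↑(ok.sJ F J) : Set ↥(D.group F)) = ok.sG F '' (↑J : Set ℕ) := by
  classical
  simp [sJ]

theorem coe_sJ_range : (↑(ok.sJ F (Finset.range D.rank)) : Set ↥(D.group F)) = (ok.bnPair (F := F)).S := by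
  rw [ok.coe_sJ, ok.S_eq, Finset.coe_range]
  rfl

theorem sJ_subset {J : Finset ℕ} (hJ : J ⊆ Finset.range D.rank) :
    (↑(ok.sJ F J) : Set ↥(D.group F)) ⊆ (ok.bnPair (F := F)).S := by
  rw [ok.coe_sJ]; exact ok.image_sG_subset hJ

theorem parabolicIn_eq {J : Finset ℕ} (hJ : J ⊆ Finset.range D.rank) :
    D.parabolicIn F J = (ok.bnPair (F := F)).parabolic (↑(ok.sJ F J) : Set ↥(D.group F)) := by
  have hle : D.parabolicSubgroup F (↑J : Set ℕ) ≤ D.group F := by
    refine sup_le ok.toOK.borel_le_group ((Subgroup.closure_le _).mpr ?_)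
    rintro g ⟨j, _, hjr, hg⟩
    rw [show g = ok.toOK.nG (T.smp j) 1 from Units.ext (hg.trans (ok.toOK.coe_nG_simple hjr 1).symm)]
    exact ok.toOK.wordG_mem _
  refine Subgroup.map_injective (D.group F).subtype_injective ?_
  rw [ok.coe_sJ, ChevalleyDatum.parabolicIn, Subgroup.map_subgroupOf_eq_of_le hle, Cfsg.BNPair.parabolic,
    Subgroup.map_sup, MonoidHom.map_closure]
  show _ = ((D.borelSubgroup F).subgroupOf (D.group F)).map _ ⊔ _
  rw [Subgroup.map_subgroupOf_eq_of_le ok.toOK.borel_le_group, ChevalleyDatum.parabolicSubgroup]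
  congr 2
  ext g
  simp only [Set.mem_ofPred_eq, Set.mem_image, Finset.mem_coe, exists_exists_and_eq_and, Subgroup.coe_subtype]
  constructor
  · rintro ⟨j, hj, hjr, hg⟩
    exact ⟨j, hj, Units.ext ((ok.toOK.coe_nG_simple hjr 1).trans hg.symm)⟩
  · rintro ⟨j, hj, rfl⟩
    have hjr := Finset.mem_range.mp (hJ hj)
    exact ⟨j, hj, hjr, ok.toOK.coe_nG_simple hjr 1⟩

theorem sJ_injOn {J : Finset ℕ} (hJ : J ⊆ Finset.range D.rank) : Set.InjOn (ok.sG F) (↑J : Set ℕ) :=
  fun _ hi _ hj h => ok.sG_inj (Finset.mem_range.mp (hJ hi)) (Finset.mem_range.mp (hJ hj)) h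

theorem steinberg_eq (g : ↥(D.group F)) : D.steinbergCharacter F g =
    (stS (ok.bnPair (F := F)) (ok.sJ F (Finset.range D.rank)) g : ℂ) := by
  classical
  unfold ChevalleyDatum.steinbergCharacter stS
  rw [Int.cast_sum]
  refine Finset.sum_bij (fun K _ => ok.sJ F K) ?_ ?_ ?_ ?_
  · intro K hK
    exact Finset.mem_powerset.mpr (Finset.image_subset_image (Finset.mem_powerset.mp hK))
  · intro K hK L hL e
    have hK' := Finset.mem_powerset.mp hK
    have hL' := Finset.mem_powerset.mp hL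
    ext i
    constructor
    · intro hi
      obtain ⟨j, hj, e'⟩ := Finset.mem_image.mp (show ok.sG F i ∈ ok.sJ F L from e ▸ Finset.mem_image_of_mem _ hi)
      exact ok.sG_inj (F := F) (Finset.mem_range.mp (hL' hj)) (Finset.mem_range.mp (hK' hi)) e' ▸ hj
    · intro hi
      obtain ⟨j, hj, e'⟩ := Finset.mem_image.mp (show ok.sG F i ∈ ok.sJ F K from e ▸ Finset.mem_image_of_mem _ hi)
      exact ok.sG_inj (F := F) (Finset.mem_range.mp (hK' hj)) (Finset.mem_range.mp (hL' hi)) e' ▸ hj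
  · intro K hK
    obtain ⟨L, hL, e⟩ := Finset.subset_image_iff.mp (Finset.mem_powerset.mp hK)
    exact ⟨L, Finset.mem_powerset.mpr hL, e⟩
  · intro K hK
    have hK' := Finset.mem_powerset.mp hK
    rw [sJ, Finset.card_image_of_injOn (ok.sJ_injOn hK')]
    push_cast
    rw [Cfsg.fixedPointCharacter, ok.parabolicIn_eq hK']
    rfl

/-- An element of the Weyl group of `J` with all descents. -/
theorem exists_allDown_J [Finite F] {J : Finset ℕ} (hJ : J ⊆ Finset.range D.rank) :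
    ∃ n ∈ wSub (ok.bnPair (F := F)) (ok.sJ_subset hJ),
      AllDown (ok.bnPair (F := F)) (↑(ok.sJ F J) : Set ↥(D.group F)) n := by
  haveI : Finite (GL D.Idx F) := Finite.of_injective _ Units.val_injective
  haveI : Finite ↥(D.group F) := Subtype.finite
  obtain ⟨⟨n, hn⟩, hmax⟩ := Finite.exists_max
    (fun m : ↥(wSub (ok.bnPair (F := F)) (ok.sJ_subset hJ)) => len (ok.bnPair (F := F)) (m : ↥(D.group F)))
  exact ⟨n, hn, fun s hs => lt_of_le_of_ne (hmax ⟨_, mul_mem (le_wSub _ hs) hn⟩)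
    (len_mul_ne (ok.sJ_subset hJ hs) (wSub_le_N _ hn))⟩

theorem uniq_allDown {J : Finset ℕ} (hJ : J ⊆ Finset.range D.rank) {n m : ↥(D.group F)}
    (hn : n ∈ wSub (ok.bnPair (F := F)) (ok.sJ_subset hJ)) (hm : m ∈ wSub (ok.bnPair (F := F)) (ok.sJ_subset hJ))
    (hnd : AllDown (ok.bnPair (F := F)) (↑(ok.sJ F J) : Set ↥(D.group F)) n)
    (hmd : AllDown (ok.bnPair (F := F)) (↑(ok.sJ F J) : Set ↥(D.group F)) m) : Eqv (ok.bnPair (F := F)) n m := by
  have h : ∀ x, x ∈ wSub (ok.bnPair (F := F)) (ok.sJ_subset hJ) →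
      x ∈ wSub (ok.bnPair (F := F)) (ok.image_sG_subset hJ) := fun x hx => by
    obtain ⟨l, hl, e⟩ := mem_wSub.mp hx
    exact mem_wSub.mpr ⟨l, fun z hz => ok.coe_sJ (F := F) J ▸ hl z hz, e⟩
  rw [ok.coe_sJ] at hnd hmd
  exact ok.allDown_unique hJ (h n hn) (h m hm) hnd hmd

theorem mem_wSub_range {n : ↥(D.group F)} (hn : n ∈ (ok.bnPair (F := F)).N) :
    n ∈ wSub (ok.bnPair (F := F)) (ok.sJ_subset (Finset.Subset.refl (Finset.range D.rank))) := by
  obtain ⟨l, hl, e⟩ := exists_word hn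
  exact mem_wSub.mpr ⟨l, fun z hz => ok.coe_sJ_range (F := F) ▸ hl z hz, e⟩

theorem uniq_top : ∀ n ∈ (ok.bnPair (F := F)).N, ∀ m ∈ (ok.bnPair (F := F)).N,
    AllDown (ok.bnPair (F := F)) (ok.bnPair (F := F)).S n → AllDown (ok.bnPair (F := F)) (ok.bnPair (F := F)).S m →
    Eqv (ok.bnPair (F := F)) n m := fun _ hn _ hm hnd hmd =>
  ok.uniq_allDown (Finset.Subset.refl (Finset.range D.rank)) (ok.mem_wSub_range hn) (ok.mem_wSub_range hm)
    (by rw [ok.coe_sJ_range]; exact hnd) (by rw [ok.coe_sJ_range]; exact hmd)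

omit ok in
theorem supp_range (r : ℕ) : SuppIn D T (Finset.range D.rank) r := fun _ hk h => absurd (Finset.mem_range.mpr hk) h

/-- The intersection of `B` with its conjugate by an element with all descents. -/
theorem borel_inter_opp {n : ↥(D.group F)} (hn : n ∈ (ok.bnPair (F := F)).N)
    (hd : AllDown (ok.bnPair (F := F)) (ok.bnPair (F := F)).S n) {b : ↥(D.group F)}
    (hb : b ∈ (ok.bnPair (F := F)).B) (h : n * b * n⁻¹ ∈ (ok.bnPair (F := F)).B) :
    b ∈ tor (ok.bnPair (F := F)) := by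
  have hsub := Finset.Subset.refl (Finset.range D.rank)
  have hn' : n ∈ wSub (ok.bnPair (F := F)) (ok.image_sG_subset hsub) := by
    obtain ⟨l, hl, e⟩ := exists_word hn
    exact mem_wSub.mpr ⟨l, fun z hz => by rw [Finset.coe_range]; exact ok.S_eq (F := F) ▸ hl z hz, e⟩
  obtain ⟨v, hv, e⟩ := ok.exists_word_J hsub hn'
  have hvr : ∀ i ∈ v, i < D.rank := fun i hi => Finset.mem_range.mp (hv i hi)
  have hvd : AllDown (ok.bnPair (F := F)) (ok.sG F '' (↑(Finset.range D.rank) : Set ℕ)) (ok.gE F v) := by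
    rw [← ok.coe_sJ, ok.coe_sJ_range]
    exact allDown_congr (subset_refl _) hn (eqv_symm e) hd
  have e' := ok.eqv_iff.mp e
  rw [ok.coe_gE] at e'
  set W := ok.toOK.gW F v with hW
  obtain ⟨u, hu, t, ht, hb'⟩ := ok.toOK.mem_borel (show (b : GL D.Idx F) ∈ D.borelSubgroup F from hb)
  set τ := W⁻¹ * (n : GL D.Idx F) with hτ
  have hnW : (n : GL D.Idx F) = W * τ := by simp [hτ]
  have hnN : (n : GL D.Idx F) ∈ D.monomialSubgroup F := hn
  have hu2 : τ * u * τ⁻¹ ∈ D.posUnipotent F :=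
    (Subgroup.mem_normalizer_iff.mp (ok.toOK.diag_normalizes_pos e') u).mp hu
  have hVneg : ∀ x ∈ D.posUnipotent F, W * x * W⁻¹ ∈ D.negUnipotent F := by
    intro x hx
    induction hx using Subgroup.closure_induction with
    | mem y hy =>
      obtain ⟨r, a, hr, hy⟩ := hy
      obtain ⟨hr1, hr0⟩ := ok.toOK.isPos_iff.mp hr
      obtain ⟨c, -, hc⟩ := (ok.toOK.act_gW (F := F) v hvr).2.1 r hr1
      rw [ok.toOK.eq_xG hy, (hc a).1]
      exact ok.toOK.xG_mem_neg (ok.toOK.isNeg_iff.mpr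
        ⟨ok.piW_lt hvr hr1, (ok.neg_of_allDown hsub hv hvd hr1 (supp_range r) hr0).2⟩) _
    | one => simp
    | mul p q _ _ hp hq => rw [← conj_mul]; exact mul_mem hp hq
    | inv p _ hp => rw [← conj_inv]; exact inv_mem hp
  have h1 : (n : GL D.Idx F) * u * (n : GL D.Idx F)⁻¹ ∈ D.borelSubgroup F := by
    have hB : (n : GL D.Idx F) * (b : GL D.Idx F) * (n : GL D.Idx F)⁻¹ ∈ D.borelSubgroup F := by
      simpa [Subgroup.mem_subgroupOf, OKX.bnPair] using h
    rw [hb'] at hB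
    have ht' : (n : GL D.Idx F) * t⁻¹ * (n : GL D.Idx F)⁻¹ ∈ D.borelSubgroup F :=
      Subgroup.mem_sup_right (ok.diag_normal_conj hnN (inv_mem ht))
    have := mul_mem hB ht'
    simpa [mul_assoc] using this
  have h2 : (n : GL D.Idx F) * u * (n : GL D.Idx F)⁻¹ ∈ D.borelSubgroup F ⊓ D.negUnipotent F := by
    refine ⟨h1, ?_⟩
    have := hVneg _ hu2
    rw [hnW]
    simpa [mul_assoc] using this
  rw [ok.toOK.borel_inf_neg, Subgroup.mem_bot, conj_eq_one_iff] at h2
  rw [h2, one_mul] at hb'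
  refine ⟨hb, ?_⟩
  show (b : GL D.Idx F) ∈ D.monomialSubgroup F
  rw [hb']
  exact Subgroup.mem_sup_left ht

/-- The restriction to the Borel subgroup. -/
theorem stS_borel [Finite F] (b : ↥((D.borelSubgroup F).subgroupOf (D.group F))) :
    stS (ok.bnPair (F := F)) (ok.sJ F (Finset.range D.rank)) (b : ↥(D.group F)) =
      Nat.card (MulAction.fixedBy (↥((D.borelSubgroup F).subgroupOf (D.group F)) ⧸
        ((D.diagonalSubgroup F).subgroupOf (D.group F)).subgroupOf ((D.borelSubgroup F).subgroupOf (D.group F))) b) := by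
  haveI : Finite (GL D.Idx F) := Finite.of_injective _ Units.val_injective
  haveI : Finite ↥(D.group F) := Subtype.finite
  set P := ok.bnPair (F := F) with hP
  have hS : (↑(ok.sJ F (Finset.range D.rank)) : Set ↥(D.group F)) = P.S := ok.coe_sJ_range
  obtain ⟨n₀, hn₀, hd, -⟩ := exists_allDown (P := P)
  rw [← stJ_eq_stS hS, stJ_eq_card (le_of_eq hS) (show (b : ↥(D.group F)) ∈ P.B from b.2), hS, parabolic_top]
  congr 1
  set x₀ : ↥(D.group F) ⧸ P.B := ((n₀⁻¹ : ↥(D.group F)) : ↥(D.group F) ⧸ P.B) with hx₀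
  set H' := ((D.diagonalSubgroup F).subgroupOf (D.group F)).subgroupOf ((D.borelSubgroup F).subgroupOf (D.group F))
  have hstab : ∀ c : ↥((D.borelSubgroup F).subgroupOf (D.group F)), c ∈ H' ↔ (c : ↥(D.group F)) • x₀ = x₀ := by
    intro c
    rw [hx₀, MulAction.Quotient.smul_mk, QuotientGroup.eq, smul_eq_mul, mul_inv_rev, inv_inv]
    show (c : GL D.Idx F) ∈ D.diagonalSubgroup F ↔ n₀ * (c : ↥(D.group F))⁻¹ * n₀⁻¹ ∈ P.B
    constructor
    · intro hc
      refine P.conj_mem n₀ hn₀ _ ?_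
      refine inv_mem ⟨c.2, ?_⟩
      exact Subgroup.mem_sup_left hc
    · intro hc
      have h1 := ok.borel_inter_opp hn₀ hd (show (c : ↥(D.group F)) ∈ P.B from c.2) (by
        have := inv_mem hc
        simpa [mul_assoc] using this)
      have h2 : (c : GL D.Idx F) ∈ D.borelSubgroup F ⊓ D.monomialSubgroup F := ⟨h1.1, h1.2⟩
      rwa [ok.toOK.borel_inf_monomial] at h2
  rw [card_fixedBy_stab _ H' x₀ hstab b]
  refine Nat.card_congr (Equiv.subtypeEquivRight fun x => ?_)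
  constructor
  · rintro ⟨⟨hbx, -⟩, hx⟩
    exact ⟨hbx, exists_smul_eq (ok.uniq_top _ (cl_mem x) _ hn₀ hx hd)⟩
  · rintro ⟨hbx, c, hc, rfl⟩
    refine ⟨⟨hbx, Subgroup.mem_top _⟩, allDown_congr (subset_refl _) hn₀ (eqv_symm (eqv_trans (cl_smul hc x₀) ?_)) hd⟩
    exact cl_eqv hn₀ (by rw [inv_inv]; exact inDC_self n₀)

/-- The degree. -/
theorem stS_one [Fintype F] :
    stS (ok.bnPair (F := F)) (ok.sJ F (Finset.range D.rank)) 1 = (Fintype.card F : ℤ) ^ (D.nroots / 2) := by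
  haveI : Finite (GL D.Idx F) := Finite.of_injective _ Units.val_injective
  haveI : Finite ↥(D.group F) := Subtype.finite
  have h := ok.stS_borel (F := F) 1
  rw [OneMemClass.coe_one] at h
  rw [h]
  set B' := (D.borelSubgroup F).subgroupOf (D.group F)
  set H' := ((D.diagonalSubgroup F).subgroupOf (D.group F)).subgroupOf B'
  have h1 := card_fixedBy_one H'
  have hle : (D.diagonalSubgroup F).subgroupOf (D.group F) ≤ B' := fun x hx =>
    (le_sup_right : D.diagonalSubgroup F ≤ D.borelSubgroup F) hx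
  rw [Nat.card_congr (Subgroup.subgroupOfEquivOfLe hle).toEquiv,
    Nat.card_congr (Subgroup.subgroupOfEquivOfLe ok.toOK.diag_le_group).toEquiv,
    Nat.card_congr (Subgroup.subgroupOfEquivOfLe ok.toOK.borel_le_group).toEquiv, ok.card_borel] at h1
  have := Nat.eq_of_mul_eq_mul_right Nat.card_pos h1
  rw [this]
  push_cast
  rfl

theorem stS_one_mul_sq [Fintype F] [Fintype ↥(D.group F)] :
    ∑ g : ↥(D.group F), stS (ok.bnPair (F := F)) (ok.sJ F (Finset.range D.rank)) g *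
      stS (ok.bnPair (F := F)) (ok.sJ F (Finset.range D.rank)) g = Nat.card ↥(D.group F) :=
  sum_stS_sq ok.coe_sJ_range ok.uniq_top

end OKX

end Cfsg.Agent.Chev
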