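import Cfsg.Agent.Lib.BN.Unipotent
import Cfsg.Agent.Lib.Chev.Steinberg
import Cfsg.Agent.Lib.Chev.Para
import Mathlib.GroupTheory.Sylow

/-!
The number of elements of prime power order of the defining characteristic.
-/

set_option autoImplicit false
set_option linter.style.haveILetI false

namespace Cfsg.Agent.Chev

open Cfsg.Lie Cfsg.Agent.BN
open scoped Pointwise

theorem exists_orderOf_eq_pow {G : Type*} [Group G] (p : ℕ) [Fact p.Prime] (S : Sylow p G) {u : G}
    (hu : u ∈ (S : Subgroup G)) : ∃ k, orderOf u = p ^ k := by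
  obtain ⟨k, hk⟩ := IsPGroup.iff_orderOf.mp S.isPGroup' ⟨u, hu⟩
  exact ⟨k, by rw [← hk, ← Subgroup.orderOf_coe]⟩

theorem exists_conj_mem_sylow {G : Type*} [Group G] [Finite G] (p : ℕ) [Fact p.Prime] (S : Sylow p G)
    {H : Subgroup G} (hSH : (S : Subgroup G) ≤ H) {x : G} (hx : x ∈ H) (hord : ∃ k, orderOf x = p ^ k) :
    ∃ h ∈ H, h * x * h⁻¹ ∈ (S : Subgroup G) := by
  have hz : IsPGroup p ↥(Subgroup.zpowers (⟨x, hx⟩ : ↥H)) := by
    obtain ⟨k, hk⟩ := hord
    refine IsPGroup.of_card (n := k) ?_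
    rw [Nat.card_zpowers, ← Subgroup.orderOf_coe]
    exact hk
  obtain ⟨Q, hQ⟩ := hz.exists_le_sylow
  obtain ⟨h, hh⟩ := MulAction.exists_smul_eq ↥H Q (S.subtype hSH)
  refine ⟨h, h.2, ?_⟩
  have h1 : MulAut.conj h • (⟨x, hx⟩ : ↥H) ∈ MulAut.conj h • (Q : Subgroup ↥H) :=
    Subgroup.smul_mem_pointwise_smul _ _ _ (hQ (Subgroup.mem_zpowers _))
  rw [← Sylow.pointwise_smul_def, ← Sylow.smul_def, hh, Sylow.coe_subtype, MulAut.smul_def,
    MulAut.conj_apply, Subgroup.mem_subgroupOf] at h1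
  simpa using h1

variable {F : Type*} [Field F] {D : ChevalleyDatum} {T : Tabs}

namespace OKX

variable (ok : OKX D T) {M : List (List (ℕ × ℤ))} (hM : Tabs.chkCow D T M = true)

include ok

theorem inRootSub_iff_supp {J : Finset ℕ} {r : ℕ} (hr : r < D.nroots) :
    D.InRootSub (↑J : Set ℕ) r ↔ SuppIn D T J r :=
  ok.inSub_iff.trans ⟨fun h k hk hkJ => h.2 k hk hkJ, fun h => ⟨hr, fun k hk hkJ => h k hk hkJ⟩⟩

include hM

/-- The part of `U` staying in `B` under an element with all descents. -/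
theorem conj_mem_borel_iff {J : Finset ℕ} (hJ : J ⊆ Finset.range D.rank) {n : ↥(D.group F)}
    (hn : n ∈ wSub (ok.bnPair (F := F)) (ok.sJ_subset hJ))
    (hd : AllDown (ok.bnPair (F := F)) (↑(ok.sJ F J) : Set ↥(D.group F)) n) {u : GL D.Idx F}
    (hu : u ∈ D.posUnipotent F) :
    (n : GL D.Idx F) * u * (n : GL D.Idx F)⁻¹ ∈ D.borelSubgroup F ↔ u ∈ D.unipotentRadical F (↑J : Set ℕ) := by
  have hn' : n ∈ wSub (ok.bnPair (F := F)) (ok.image_sG_subset hJ) := by
    obtain ⟨l, hl, e⟩ := mem_wSub.mp hn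
    exact mem_wSub.mpr ⟨l, fun z hz => ok.coe_sJ (F := F) J ▸ hl z hz, e⟩
  obtain ⟨v, hv, e⟩ := ok.exists_word_J hJ hn'
  have hvr : ∀ i ∈ v, i < D.rank := fun i hi => Finset.mem_range.mp (hJ (hv i hi))
  have hvd : AllDown (ok.bnPair (F := F)) (ok.sG F '' (↑J : Set ℕ)) (ok.gE F v) := by
    rw [← ok.coe_sJ]
    exact allDown_congr (ok.sJ_subset hJ) (wSub_le_N _ hn) (eqv_symm e) hd
  have e' := ok.eqv_iff.mp e
  rw [ok.coe_gE] at e'
  set W := ok.toOK.gW F v with hW
  set R := D.unipotentRadical F (↑J : Set ℕ) with hR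
  have hWP : W ∈ D.parabolicSubgroup F (↑J : Set ℕ) :=
    ok.gW_mem_parabolic_of_word _ fun i hi => ⟨hvr i hi, hv i hi⟩
  have hnW : (n : GL D.Idx F) = W * (W⁻¹ * n) := by simp
  set τ := W⁻¹ * (n : GL D.Idx F) with hτ
  have hτN := ok.diag_normalizes_uJ (↑J : Set ℕ) e'
  constructor
  · intro h
    have hu2 : τ * u * τ⁻¹ ∈ D.posUnipotent F :=
      (Subgroup.mem_normalizer_iff.mp (ok.toOK.diag_normalizes_pos e') u).mp hu
    rw [Subgroup.mem_normalizer_iff.mp hτN u]
    set u' := τ * u * τ⁻¹ with hu'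
    have hW' : W * u' * W⁻¹ ∈ D.borelSubgroup F := by
      rw [hnW] at h
      simpa [hu', mul_assoc] using h
    set X := Subgroup.closure {g : GL D.Idx F | ∃ (r : ℕ) (t : F), D.IsPosRoot r ∧ D.InRootSub (↑J : Set ℕ) r ∧
      g = ok.toOK.xG r t} with hX
    have hXU : X ≤ D.posUnipotent F :=
      (Subgroup.closure_le _).mpr fun g ⟨r, t, hr, _, hg⟩ => hg ▸ ok.toOK.xG_mem_pos hr t
    have hXN : X ≤ Subgroup.normalizer (R : Set (GL D.Idx F)) := hXU.trans (ok.pos_normalizes_uJ hM _)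
    have hle : D.posUnipotent F ≤ R ⊔ X := (Subgroup.closure_le _).mpr fun g ⟨r, t, hr, hg⟩ => by
      rw [ok.toOK.eq_xG hg]
      by_cases hrJ : D.InRootSub (↑J : Set ℕ) r
      · exact Subgroup.mem_sup_right (Subgroup.subset_closure ⟨r, t, hr, hrJ, rfl⟩)
      · exact Subgroup.mem_sup_left (ok.xG_mem_uJ _ hr hrJ t)
    have hmem := hle hu2
    rw [← SetLike.mem_coe, Subgroup.coe_mul_of_right_le_normalizer_left _ _ hXN] at hmem
    obtain ⟨a, ha, c, hc, hac⟩ := Set.mem_mul.mp hmem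
    have hneg : W * c * W⁻¹ ∈ D.negUnipotent F := by
      clear hac
      induction hc using Subgroup.closure_induction with
      | mem y hy =>
        obtain ⟨r, t, hr, hrJ, rfl⟩ := hy
        obtain ⟨hr1, hr0⟩ := ok.toOK.isPos_iff.mp hr
        obtain ⟨d, -, hd'⟩ := (ok.toOK.act_gW (F := F) v hvr).2.1 r hr1
        rw [(hd' t).1]
        exact ok.toOK.xG_mem_neg (ok.toOK.isNeg_iff.mpr ⟨ok.piW_lt hvr hr1,
          (ok.neg_of_allDown hJ hv hvd hr1 ((ok.inRootSub_iff_supp hr1).mp hrJ) hr0).2⟩) _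
      | one => simp
      | mul p q _ _ hp hq => rw [← conj_mul]; exact mul_mem hp hq
      | inv p _ hp => rw [← conj_inv]; exact inv_mem hp
    have ha' : W * a * W⁻¹ ∈ D.borelSubgroup F := Subgroup.mem_sup_left (ok.uJ_le_pos _
      ((Subgroup.mem_normalizer_iff.mp (ok.parabolic_normalizes hM _ hWP) a).mp ha))
    have hc' : W * c * W⁻¹ ∈ D.borelSubgroup F ⊓ D.negUnipotent F := by
      refine ⟨?_, hneg⟩
      have h1 := mul_mem (inv_mem ha') hW'
      rw [← hac] at h1
      simpa [mul_assoc] using h1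
    rw [ok.toOK.borel_inf_neg, Subgroup.mem_bot, conj_eq_one_iff] at hc'
    rw [← hac, hc', mul_one]
    exact ha
  · intro h
    have h1 := (Subgroup.mem_normalizer_iff.mp hτN u).mp h
    have h2 := (Subgroup.mem_normalizer_iff.mp (ok.parabolic_normalizes hM _ hWP) _).mp h1
    rw [hnW]
    refine Subgroup.mem_sup_left (ok.uJ_le_pos (↑J : Set ℕ) ?_)
    simpa [mul_assoc] using h2

/-- The values of the alternating sum on the unipotent elements of a parabolic subgroup. -/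
theorem sum_stJ_unipotent [Fintype F] [Fintype ↥(D.group F)] (p : ℕ) [Fact p.Prime] [CharP F p] {J : Finset ℕ}
    (hJ : J ⊆ Finset.range D.rank)
    [DecidablePred fun x : ↥(D.group F) => x ∈ (ok.bnPair (F := F)).parabolic (↑(ok.sJ F J) : Set ↥(D.group F)) ∧
      ∃ k, orderOf x = p ^ k] :
    ∑ x ∈ Finset.univ.filter (fun x : ↥(D.group F) =>
        x ∈ (ok.bnPair (F := F)).parabolic (↑(ok.sJ F J) : Set ↥(D.group F)) ∧ ∃ k, orderOf x = p ^ k),
      stJ (ok.bnPair (F := F)) (ok.sJ F J) x = (Fintype.card F : ℤ) ^ (D.nroots / 2) := by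
  classical
  obtain ⟨n₀, hn₀, hd⟩ := ok.exists_allDown_J (F := F) hJ
  obtain ⟨S, hS⟩ := ok.sylow_pos (F := F) p
  have hUB : (D.posUnipotent F).subgroupOf (D.group F) ≤ (ok.bnPair (F := F)).B := fun x hx =>
    (le_sup_left : D.posUnipotent F ≤ D.borelSubgroup F) hx
  have h := sum_stJ_eq (P := ok.bnPair (F := F)) (π := fun x => ∃ k, orderOf x = p ^ k) (J := ok.sJ F J)
    (ok.sJ_subset hJ) hn₀ hd (fun m hm hmd => ok.uniq_allDown hJ hm hn₀ hmd hd)
    (U := (D.posUnipotent F).subgroupOf (D.group F))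
    (R := (D.unipotentRadical F (↑J : Set ℕ)).subgroupOf (D.group F))
    (H := (D.diagonalSubgroup F).subgroupOf (D.group F)) hUB (fun x hx => ok.uJ_le_pos _ hx)
    (fun x hx => ⟨(le_sup_right : D.diagonalSubgroup F ≤ D.borelSubgroup F) hx,
      (le_sup_left : D.diagonalSubgroup F ≤ D.monomialSubgroup F) hx⟩)
    (fun b hb => by
      obtain ⟨a, ha, t, ht, e⟩ := ok.toOK.mem_borel (show (b : GL D.Idx F) ∈ D.borelSubgroup F from hb)
      exact ⟨⟨a, ok.toOK.pos_le_group ha⟩, ha, ⟨t, ok.toOK.diag_le_group ht⟩, ht, Subtype.ext e⟩)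
    (by
      refine (Subgroup.eq_bot_iff_forall _).mpr fun x hx => Subtype.ext ?_
      have h' : (x : GL D.Idx F) ∈ D.posUnipotent F ⊓ D.diagonalSubgroup F := hx
      rw [ok.toOK.pos_inf_diag, Subgroup.mem_bot] at h'
      exact h')
    (fun c hc u hu => by
      obtain ⟨a, ha, t, ht, e⟩ := ok.toOK.mem_borel (show (c : GL D.Idx F) ∈ D.borelSubgroup F from hc)
      rw [Subgroup.mem_subgroupOf, Subgroup.coe_mul, Subgroup.coe_mul, Subgroup.coe_inv, e]
      have := (Subgroup.mem_normalizer_iff.mp (ok.toOK.diag_normalizes_pos (inv_mem ht))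
        (a⁻¹ * (u : GL D.Idx F) * a)).mp (mul_mem (mul_mem (inv_mem ha) hu) ha)
      simpa [mul_assoc] using this)
    (fun h hh x hx => by
      have hh' : h ∈ D.parabolicIn F J := by rw [ok.parabolicIn_eq hJ]; exact hh
      exact (Subgroup.mem_normalizer_iff.mp (ok.parabolic_normalizes hM (↑J : Set ℕ) hh') _).mp hx)
    (fun u hu => ok.conj_mem_borel_iff hM hJ hn₀ hd hu)
    (fun x hx hord => by
      have hSP : (S : Subgroup ↥(D.group F)) ≤ (ok.bnPair (F := F)).parabolic (↑(ok.sJ F J) : Set ↥(D.group F)) := by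
        rw [hS]; exact hUB.trans (borel_le _)
      rw [← hS]
      exact exists_conj_mem_sylow p S hSP hx hord)
    (fun u hu => by
      rw [← hS] at hu
      exact exists_orderOf_eq_pow p S hu)
  have hBcard : Nat.card ↥(ok.bnPair (F := F)).B =
      Fintype.card F ^ (D.nroots / 2) * Nat.card ↥((D.diagonalSubgroup F).subgroupOf (D.group F)) := by
    rw [show Nat.card ↥(ok.bnPair (F := F)).B = Nat.card ↥((D.borelSubgroup F).subgroupOf (D.group F)) from rfl,
      Nat.card_congr (Subgroup.subgroupOfEquivOfLe ok.toOK.borel_le_group).toEquiv, ok.card_borel,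
      Nat.card_congr (Subgroup.subgroupOfEquivOfLe ok.toOK.diag_le_group).toEquiv]
  rw [hBcard] at h
  push_cast at h
  convert mul_right_cancel₀ (Nat.cast_ne_zero.mpr (Nat.card_pos (α :=
    ↥((D.diagonalSubgroup F).subgroupOf (D.group F)))).ne') h using 3

/-- Steinberg's count of the unipotent elements. -/
theorem card_unipotent [Fintype F] (p : ℕ) [Fact p.Prime] [CharP F p] :
    Nat.card {g : ↥(D.group F) // ∃ k : ℕ, orderOf g = p ^ k} = Fintype.card F ^ (2 * (D.nroots / 2)) := by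
  classical
  haveI : Finite (GL D.Idx F) := Finite.of_injective _ Units.val_injective
  haveI : Finite ↥(D.group F) := Subtype.finite
  haveI := Fintype.ofFinite ↥(D.group F)
  set P := ok.bnPair (F := F)
  set π : ↥(D.group F) → Prop := fun g => ∃ k : ℕ, orderOf g = p ^ k with hπ
  have hS : (↑(ok.sJ F (Finset.range D.rank)) : Set ↥(D.group F)) = P.S := ok.coe_sJ_range
  have hmain := cnt_eq (P := P) (π := π) (fun h x ⟨k, hk⟩ => ⟨k, by
      rw [← hk]; exact orderOf_injective (MulAut.conj h).toMonoidHom (MulAut.conj h).injective x⟩)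
    (sS := ok.sJ F (Finset.range D.rank)) (le_of_eq hS) (Q := (Fintype.card F : ℤ) ^ (D.nroots / 2))
    (fun J hJ => by
      obtain ⟨J', hJ', rfl⟩ := Finset.subset_image_iff.mp hJ
      exact ok.sum_stJ_unipotent hM p (by exact_mod_cast hJ'))
    _ (Finset.Subset.refl _)
  rw [stJ_eq_stS hS, ok.stS_one, cnt] at hmain
  have e : Nat.card {x : ↥(D.group F) // x ∈ P.parabolic (↑(ok.sJ F (Finset.range D.rank)) : Set ↥(D.group F)) ∧ π x} =
      Nat.card {g : ↥(D.group F) // ∃ k : ℕ, orderOf g = p ^ k} :=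
    Nat.card_congr (Equiv.subtypeEquivRight fun x => ⟨fun h => h.2, fun h => ⟨by
      rw [hS, parabolic_top]; exact Subgroup.mem_top x, h⟩⟩)
  rw [e] at hmain
  have h2 : Fintype.card F ^ (2 * (D.nroots / 2)) = Fintype.card F ^ (D.nroots / 2) * Fintype.card F ^ (D.nroots / 2) := by
    rw [two_mul, pow_add]
  rw [h2]
  exact_mod_cast hmain

end OKX

end Cfsg.Agent.Chev
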