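import Cfsg.Agent.Lib.BN.HeckeDefectZero
import Cfsg.Agent.Lib.Chev.HeckeRel
import Cfsg.Agent.Lib.Chev.SteinbergChar
import Cfsg.Agent.Lib.Chev.StTor
import Cfsg.Agent.Lib.Chev.UnipotentCount

/-!
The only character of defect zero of a Chevalley group is the Steinberg character.
-/

set_option autoImplicit false
set_option linter.style.haveILetI false

namespace Cfsg.Agent.Chev

open Cfsg Cfsg.Lie Cfsg.Agent.BN Cfsg.Agent.Char Cfsg.Agent.Block OK StHyp

variable {F : Type*} [Field F] {D : ChevalleyDatum} {T : Tabs}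

namespace OKX

variable (ok : OKX D T)

include ok

/-- The diagonal elements of a root as a homomorphism. -/
noncomputable def hHom (F : Type*) [Field F] {r : ℕ} (hr : r < D.nroots) : Fˣ →* ↥(D.group F) where
  toFun c := ok.hS r (c : F)
  map_one' := Subtype.ext (by simpa [hS] using ok.toOK.hG_one (F := F) hr)
  map_mul' a b := Subtype.ext (by simp [hS, ok.toOK.hG_mul hr a.ne_zero b.ne_zero])

theorem hS_mem_tor {r : ℕ} (hr : r < D.nroots) {a : F} (ha : a ≠ 0) : ok.hS r a ∈ tor (ok.bnPair (F := F)) :=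
  ok.mem_tor_iff.mpr (ok.toOK.hG_mem_diag hr ha)

theorem card_posRoots : ((Finset.range D.nroots).filter fun r => 0 < T.htf r).card = D.nroots / 2 := by
  have h := ok.two_half
  have e : (Finset.range D.nroots).filter (fun r => 0 < T.htf r) = Finset.Ico (Tabs.half D) D.nroots := by
    ext r
    simp only [Finset.mem_filter, Finset.mem_range, Finset.mem_Ico]
    exact ⟨fun ⟨hr, h0⟩ => ⟨(ok.pos_iff_half hr).mp h0, hr⟩, fun ⟨h0, hr⟩ => ⟨hr, (ok.pos_iff_half hr).mpr h0⟩⟩
  rw [e, Nat.card_Ico]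
  omega

theorem negCount_le (v : List ℕ) : ok.negCount v ≤ D.nroots / 2 := by
  rw [← ok.card_posRoots, negCount]
  exact Finset.card_le_card fun r hr => by
    simp only [Finset.mem_filter] at hr ⊢
    exact ⟨hr.1, hr.2.1⟩

theorem neg_of_negCount_eq {v : List ℕ} (h : ok.negCount v = D.nroots / 2) {r : ℕ} (hr : r < D.nroots)
    (h0 : 0 < T.htf r) : T.htf (piW T v r) < 0 := by
  rw [← ok.card_posRoots, negCount] at h
  have hsub : (Finset.range D.nroots).filter (fun r => 0 < T.htf r ∧ T.htf (piW T v r) < 0) ⊆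
      (Finset.range D.nroots).filter fun r => 0 < T.htf r := fun x hx => by
    simp only [Finset.mem_filter] at hx ⊢
    exact ⟨hx.1, hx.2.1⟩
  have e := Finset.eq_of_subset_of_card_le hsub h.ge
  have hm : r ∈ (Finset.range D.nroots).filter fun r => 0 < T.htf r := by simp [hr, h0]
  rw [← e, Finset.mem_filter] at hm
  exact hm.2.2

theorem exists_gE {n : ↥(D.group F)} (hn : n ∈ (ok.bnPair (F := F)).N) :
    ∃ v : List ℕ, (∀ i ∈ v, i < D.rank) ∧ Eqv (ok.bnPair (F := F)) (ok.gE F v) n := by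
  obtain ⟨l, hl, -, e⟩ := exists_reduced hn
  rw [ok.S_eq] at hl
  obtain ⟨v, hv, -, ev⟩ := ok.exists_indices hl
  exact ⟨v, hv, ev ▸ e⟩

theorem len_le_half {n : ↥(D.group F)} (hn : n ∈ (ok.bnPair (F := F)).N) :
    len (ok.bnPair (F := F)) n ≤ D.nroots / 2 := by
  obtain ⟨v, hv, e⟩ := ok.exists_gE hn
  rw [← len_congr (ok.gE_mem_N hv) e, ok.len_gE hv]
  exact ok.negCount_le v

theorem allDown_of_len {n : ↥(D.group F)} (hn : n ∈ (ok.bnPair (F := F)).N)
    (h : len (ok.bnPair (F := F)) n = D.nroots / 2) :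
    AllDown (ok.bnPair (F := F)) (ok.bnPair (F := F)).S n := by
  obtain ⟨v, hv, e⟩ := ok.exists_gE hn
  rw [← len_congr (ok.gE_mem_N hv) e, ok.len_gE hv] at h
  refine allDown_congr (subset_refl _) (ok.gE_mem_N hv) e fun s hs => ?_
  obtain ⟨i, hi, rfl⟩ := ok.mem_S.mp hs
  rw [ok.down_iff hv hi]
  have hrev : ∀ k ∈ v.reverse, k < D.rank := fun k hk => hv k (List.mem_reverse.mp hk)
  have hlt := ok.piW_lt hrev (ok.toOK.smp_lt hi)
  by_contra hc
  have h2 := ok.neg_of_negCount_eq h hlt (by have := ok.toOK.ht_ne hlt; omega)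
  rw [ok.piW_rev hv (ok.toOK.smp_lt hi), (ok.toOK.smp_spec hi).1] at h2
  omega

theorem exists_top [Finite F] : ∃ n ∈ (ok.bnPair (F := F)).N,
    len (ok.bnPair (F := F)) n = D.nroots / 2 ∧ AllDown (ok.bnPair (F := F)) (ok.bnPair (F := F)).S n := by
  haveI : Finite (GL D.Idx F) := Finite.of_injective _ Units.val_injective
  haveI : Finite ↥(D.group F) := Subtype.finite
  obtain ⟨n, hn, hd, -⟩ := exists_allDown (P := ok.bnPair (F := F))
  obtain ⟨v, hv, e⟩ := ok.exists_gE hn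
  refine ⟨n, hn, le_antisymm (ok.len_le_half hn) ?_, hd⟩
  rw [← len_congr (ok.gE_mem_N hv) e, ok.len_gE hv, ← ok.card_posRoots, negCount]
  refine Finset.card_le_card fun r hr => ?_
  simp only [Finset.mem_filter, Finset.mem_range] at hr ⊢
  refine ⟨hr.1, hr.2, ?_⟩
  have hd' := allDown_congr (subset_refl _) hn (eqv_symm e) hd
  refine (ok.neg_of_allDown (F := F) (Finset.Subset.refl (Finset.range D.rank))
    (fun i hi => Finset.mem_range.mpr (hv i hi)) ?_ hr.1 (supp_range r) hr.2).2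
  rw [← ok.coe_sJ, ok.coe_sJ_range]
  exact hd'

/-- The relations of the double coset matrices. -/
theorem hRel [Fintype F] [DecidableEq F] [Fintype ↥(D.group F)] [Fintype (↥(D.group F) ⧸ UG D F)]
    {n₀ : ↥(D.group F)} (hn₀ : n₀ ∈ (ok.bnPair (F := F)).N)
    (hlen : len (ok.bnPair (F := F)) n₀ = D.nroots / 2) (k : Type*) [CommRing k] :
    HRel (ok.bnPair (F := F)) (UG D F) (Fintype.card F) (D.nroots / 2) n₀ Fˣ k where
  cover := ok.isCover
  count n hn := ok.mcount_eq _ n hn rfl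
  comm a ha b hb := Subtype.ext (ok.diag_comm (ok.mem_tor_iff.mp ha) (ok.mem_tor_iff.mp hb))
  tor_mul t n ht := ok.dmat_tor_mul ht
  mul_tor t n ht := ok.dmat_mul_tor ht
  up s hs n hn h := by
    obtain ⟨i, hi, rfl⟩ := ok.mem_S.mp hs
    exact ok.dmat_simple_up hi hn h
  simple s hs := by
    obtain ⟨i, hi, rfl⟩ := ok.mem_S.mp hs
    have hp := ok.toOK.smp_lt hi
    refine ⟨ok.hHom F hp, fun c => ok.hS_mem_tor hp c.ne_zero, ?_, fun t ht => ?_, ?_⟩
    · rw [ok.dmat_simple_sq hi]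
      congr 1
      exact Fintype.sum_equiv (Equiv.neg Fˣ) _ _ fun c => by simp [hHom, Units.val_neg]
    · obtain ⟨c, hc, e⟩ := ok.comm_tor_simple hi ht
      exact ⟨Units.mk0 c hc, e⟩
    · refine ⟨(-1 : Fˣ)⁻¹, ?_⟩
      rw [map_inv]
      refine Subtype.ext ?_
      show (ok.toOK.nG (T.smp i) (1 : F) * ok.toOK.nG (T.smp i) 1 : GL D.Idx F) =
        (ok.toOK.hG (T.smp i) ((-1 : Fˣ) : F))⁻¹
      rw [Units.val_neg, Units.val_one, eq_inv_iff_mul_eq_one, mul_eq_one_comm, ← mul_assoc,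
        ← ok.toOK.nG_one_inv hp, inv_mul_cancel]
  gen ℓ h t := by
    let Φ : (Fin D.rank → Fˣ) →* ↥(tor (ok.bnPair (F := F))) :=
      { toFun := fun c => ⟨⟨torMap ok F c, ok.toOK.wordG_mem _⟩,
          ok.mem_tor_iff.mpr (ok.toOK.mem_diag.mpr ⟨param c, fun i _ => param_ne c i, rfl⟩)⟩
        map_one' := Subtype.ext (Subtype.ext (map_one _))
        map_mul' := fun a b => Subtype.ext (Subtype.ext (map_mul _ a b)) }
    have hΦ : ℓ.comp Φ = 1 := by
      refine MonoidHom.pi_ext fun i a => ?_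
      have hp := ok.toOK.smp_lt i.isLt
      have e : Φ (Pi.mulSingle i a) = ⟨ok.hHom F hp a, ok.hS_mem_tor hp a.ne_zero⟩ :=
        Subtype.ext (Subtype.ext (torG_single ok i a))
      rw [MonoidHom.comp_apply, e, MonoidHom.one_apply]
      refine h (ok.sG F i) (ok.sG_mem i.isLt) (ok.hHom F hp) (fun c => ok.hS_mem_tor hp c.ne_zero) ?_ a
      refine ⟨?_, fun t ht => ?_, ?_⟩
      · refine ⟨(-1 : Fˣ)⁻¹, ?_⟩
        rw [map_inv]
        refine Subtype.ext ?_
        show (ok.toOK.nG (T.smp i) (1 : F) * ok.toOK.nG (T.smp i) 1 : GL D.Idx F) =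
          (ok.toOK.hG (T.smp i) ((-1 : Fˣ) : F))⁻¹
        rw [Units.val_neg, Units.val_one, eq_inv_iff_mul_eq_one, mul_eq_one_comm, ← mul_assoc,
          ← ok.toOK.nG_one_inv hp, inv_mul_cancel]
      · obtain ⟨c, hc, e⟩ := ok.comm_tor_simple i.isLt ht
        exact ⟨Units.mk0 c hc, e⟩
      · rw [ok.dmat_simple_sq i.isLt]
        congr 1
        exact Fintype.sum_equiv (Equiv.neg Fˣ) _ _ fun c => by simp [hHom, Units.val_neg]
    obtain ⟨c, hc, e⟩ := ok.toOK.mem_diag.mp (ok.mem_tor_iff.mp t.2)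
    have ht : Φ (fun i => Units.mk0 (c i) (hc i i.isLt)) = t := by
      refine Subtype.ext (Subtype.ext ?_)
      show ok.toOK.torG (param fun i : Fin D.rank => Units.mk0 (c i) (hc i i.isLt)) = _
      rw [e]
      refine Units.ext ?_
      rw [ok.toOK.coe_torG (fun i _ => param_ne _ i), ok.toOK.coe_torG hc]
      congr 1; funext z
      rcases z with z | z
      · rfl
      · simp only [Sum.elim_inr]
        exact Finset.prod_congr rfl fun i hi => by simp [param, Finset.mem_range.mp hi]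
    rw [← ht]
    exact DFunLike.congr_fun hΦ _
  longest_mem := hn₀
  longest_len := hlen
  le_longest n hn := ok.len_le_half hn
  eq_longest n hn h := ok.uniq_top n₀ hn₀ n hn (ok.allDown_of_len hn₀ hlen) (ok.allDown_of_len hn h)

/-- The diagonal group has order prime to `p`. -/
theorem not_dvd_card_tor [Fintype F] (p : ℕ) [Fact p.Prime] [CharP F p] :
    ¬ p ∣ Nat.card ↥(tor (ok.bnPair (F := F))) := by
  haveI : Finite (GL D.Idx F) := Finite.of_injective _ Units.val_injective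
  haveI : Finite ↥(D.group F) := Subtype.finite
  have hp : p.Prime := Fact.out
  obtain ⟨j, hj⟩ := Subgroup.card_subgroup_dvd_card (UG D F)
  have hpj : ¬ p ∣ j := by
    have h := Nat.not_dvd_ordCompl hp (Nat.card_pos (α := ↥(D.group F))).ne'
    have hU : Nat.card ↥(UG D F) = p ^ (Nat.card ↥(D.group F)).factorization p := by
      rw [ok.factorization_card p, Nat.card_congr (Subgroup.subgroupOfEquivOfLe ok.toOK.pos_le_group).toEquiv,
        ok.card_pos]
    rwa [← hU, hj, Nat.mul_div_cancel_left _ Nat.card_pos] at h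
  intro h
  have hinj : Function.Injective fun x : ↥(UG D F) × ↥(tor (ok.bnPair (F := F))) =>
      ((x.1 : ↥(D.group F)) * x.2) := by
    rintro ⟨u, t⟩ ⟨u', t'⟩ e
    have e' : ((u' : ↥(D.group F))⁻¹ * u : ↥(D.group F)) = t' * (t : ↥(D.group F))⁻¹ := by
      rw [eq_mul_inv_iff_mul_eq, mul_assoc, inv_mul_eq_iff_eq_mul]
      exact e
    have h1 : (u' : ↥(D.group F))⁻¹ * u ∈ UG D F := mul_mem (inv_mem u'.2) u.2
    have h2 : (u' : ↥(D.group F))⁻¹ * u ∈ tor (ok.bnPair (F := F)) := e' ▸ mul_mem t'.2 (inv_mem t.2)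
    have h3 : (u' : ↥(D.group F))⁻¹ * u = 1 := Subtype.ext <| Subgroup.mem_bot.mp <|
      ok.pos_inf_diag (F := F) ▸ Subgroup.mem_inf.mpr ⟨h1, ok.mem_tor_iff.mp h2⟩
    have hu : u' = u := Subtype.ext (inv_mul_eq_one.mp h3)
    subst hu
    simpa using e
  have hdiv : Nat.card ↥(UG D F) * Nat.card ↥(tor (ok.bnPair (F := F))) ∣ Nat.card ↥(D.group F) := by
    have hB := Subgroup.card_subgroup_dvd_card (ok.bnPair (F := F)).B
    have hc : Nat.card ↥(ok.bnPair (F := F)).B =
        Nat.card ↥(UG D F) * Nat.card ↥(tor (ok.bnPair (F := F))) := by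
      rw [← Nat.card_prod]
      refine (Nat.card_eq_of_bijective (fun x : ↥(UG D F) × ↥(tor (ok.bnPair (F := F))) =>
        (⟨(x.1 : ↥(D.group F)) * x.2, mul_mem (ok.UG_le x.1.2) x.2.2.1⟩ : ↥(ok.bnPair (F := F)).B))
        ⟨fun x y e => hinj (congrArg Subtype.val e), fun b => ?_⟩).symm
      obtain ⟨u, hu, t, ht, e⟩ := ok.borel_dec b.2
      exact ⟨(⟨u, hu⟩, ⟨t, ht⟩), Subtype.ext e.symm⟩
    rwa [hc] at hB
  rw [hj] at hdiv
  exact hpj (h.trans ((Nat.mul_dvd_mul_iff_left Nat.card_pos).mp hdiv))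

/-- The Steinberg character is the only irreducible character of defect zero. -/
theorem eq_steinberg_of_defect_zero [Fintype F] (p : ℕ) [Fact p.Prime] [CharP F p] (χ : ↥(D.group F) → ℂ)
    (hχ : IsIrrCharacter ↥(D.group F) χ) {d : ℕ} (hd : χ 1 = (d : ℂ))
    (hdvd : p ^ (Nat.card ↥(D.group F)).factorization p ∣ d) : χ = D.steinbergCharacter F := by
  classical
  haveI : Finite (GL D.Idx F) := Finite.of_injective _ Units.val_injective
  haveI : Finite ↥(D.group F) := Subtype.finite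
  haveI := Fintype.ofFinite ↥(D.group F)
  haveI := Fintype.ofFinite (↥(D.group F) ⧸ UG D F)
  haveI := Fintype.ofFinite ↥(ok.bnPair (F := F)).N
  have hp : p.Prime := Fact.out
  obtain ⟨M, hM⟩ := exists_isPModular hp
  haveI := prime_of_isPModular hM
  set q := Fintype.card F with hqdef
  set N := D.nroots / 2 with hN
  have hUcard : Nat.card ↥(UG D F) = q ^ N := by
    rw [Nat.card_congr (Subgroup.subgroupOfEquivOfLe ok.toOK.pos_le_group).toEquiv, ok.card_pos]
  have hfac : p ^ (Nat.card ↥(D.group F)).factorization p = q ^ N := ok.factorization_card p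
  obtain ⟨j, hj⟩ := Subgroup.card_subgroup_dvd_card (UG D F)
  have hG0 : Nat.card ↥(D.group F) ≠ 0 := Nat.card_pos.ne'
  have hpj : ¬ p ∣ j := by
    have h := Nat.not_dvd_ordCompl hp hG0
    rwa [hfac, hj, hUcard, Nat.mul_div_cancel_left _ (pow_pos Fintype.card_pos N)] at h
  obtain ⟨a, ha⟩ := hdvd
  rw [hfac] at ha
  have hdG := degree_dvd_card hχ d hd
  have hpa : ¬ p ∣ a := fun h => hpj <| h.trans <| by
    rw [hj, hUcard, ha] at hdG
    exact (Nat.mul_dvd_mul_iff_left (pow_pos Fintype.card_pos N)).mp hdG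
  have hdeg : χ 1 = ((a * Nat.card ↥(UG D F) : ℕ) : ℂ) := by rw [hd, hUcard, ha, mul_comm]
  have hvan : ∀ u ∈ UG D F, u ≠ 1 → χ u = 0 := by
    intro u hu hne
    have hnd : ¬ p ∣ Nat.card ↥(D.group F) / charDegree χ := by
      have h := charDegree_cast (IsIrrCharacter.isCharacter hχ)
      rw [hd, Nat.cast_inj] at h
      obtain ⟨b, hb⟩ := hdG
      rw [h]
      nth_rewrite 1 [hb]
      rw [Nat.mul_div_cancel_left _ (Nat.pos_of_ne_zero fun h0 => hG0 (by rw [hb, h0, zero_mul]))]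
      intro hpb
      apply hpj
      have hh : q ^ N * j = q ^ N * (a * b) := by rw [← hUcard, ← hj, hb, ha, hUcard, mul_assoc]
      exact (Nat.eq_of_mul_eq_mul_left (pow_pos Fintype.card_pos N) hh) ▸ hpb.mul_left a
    obtain ⟨S, hS⟩ := ok.sylow_pos (F := F) p
    obtain ⟨k, hk⟩ := exists_orderOf_eq_pow p S (show u ∈ (S : Subgroup ↥(D.group F)) by rw [hS]; exact hu)
    refine apply_eq_zero_of_singleton hM (χ := ⟨χ, hχ⟩) (blockOf_eq_singleton hM _ hnd) ?_
    rw [hk]
    refine dvd_pow_self p fun h0 => hne ?_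
    rw [← orderOf_eq_one_iff, hk, h0, pow_zero]
  have hvan' : ∀ u ∈ UG D F, u ≠ 1 → D.steinbergCharacter F u = 0 := by
    intro u hu hne
    obtain ⟨S, hS⟩ := ok.sylow_pos (F := F) p
    obtain ⟨k, hk⟩ := exists_orderOf_eq_pow p S (show u ∈ (S : Subgroup ↥(D.group F)) by rw [hS]; exact hu)
    refine ok.steinberg_singular p u ?_
    rw [hk]
    refine dvd_pow_self p fun h0 => hne ?_
    rw [← orderOf_eq_one_iff, hk, h0, pow_zero]
  obtain ⟨n₀, hn₀, hlen, -⟩ := ok.exists_top (F := F)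
  have hpt := ok.not_dvd_card_tor (F := F) p
  have hqp : p ∣ q := by
    obtain ⟨m, -, e⟩ := FiniteField.card F p
    rw [hqdef, e]
    exact dvd_pow_self p m.ne_zero
  refine defect_zero_unique (p := p) hM hχ ok.steinberg_irr
    (ok.hRel hn₀ hlen (IsLocalRing.ResidueField (locRing M))) hdeg (b := 1) ?_ hvan hvan' hUcard hj hpj hpa
    hp.not_dvd_one hqp hpt ?_
  · rw [one_mul, hUcard, ok.steinberg_one]; push_cast; rfl
  · rw [Fintype.card_units]
    have : 0 < q := Fintype.card_pos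
    omega

end OKX

end Cfsg.Agent.Chev
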