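import Cfsg.Agent.Lib.Chev.Fast

/-!
A small engine for checking identities between products of sparse matrices whose entries are
Laurent monomials in two parameters with integer coefficients.
-/

set_option autoImplicit false

namespace Cfsg.Agent.Chev

/-- An entry: row, coefficient, the two exponents. -/
structure En where
  row : ℕ
  co : ℤ
  ea : ℤ
  eb : ℤ

/-- The key of an entry. -/
def En.key (e : En) : ℕ × ℤ × ℤ := (e.row, e.ea, e.eb)

/-- Equality of keys, computed. -/
noncomputable def En.sameKey (e f : En) : Bool :=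
  andR (Nat.beq e.row f.row) (andR (ieq e.ea f.ea) (ieq e.eb f.eb))

theorem En.sameKey_iff (e f : En) : e.sameKey f = true ↔ e.key = f.key := by
  simp [En.sameKey, En.key]

/-- Equality of entries, computed. -/
noncomputable def En.beq' (e f : En) : Bool := andR (e.sameKey f) (ieq e.co f.co)

theorem En.eq_of_beq' (e f : En) (h : e.beq' f = true) : e = f := by
  cases e; cases f
  simp_all [En.beq', En.sameKey]

/-- Total coefficient of the key of `f`. -/
noncomputable def sumAt (f : En) (L : List En) : ℤ :=
  @List.rec En (fun _ => ℤ) 0 (fun e _ r => Bool.rec r (Int.add e.co r) (e.sameKey f)) L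

/-- The two lists define the same column. -/
noncomputable def eqvEn (A B : List En) : Bool :=
  orR (eqL En.beq' A B) (allL (fun f => ieq (sumAt f A) (sumAt f B)) (appR A B))

/-- The coefficients as a finitely supported function. -/
noncomputable def fsEn (L : List En) : (ℕ × ℤ × ℤ) →₀ ℤ := (L.map fun e => Finsupp.single e.key e.co).sum

theorem fsEn_cons (e : En) (L : List En) : fsEn (e :: L) = Finsupp.single e.key e.co + fsEn L := rfl

theorem fsEn_apply (f : En) : ∀ L : List En, fsEn L f.key = sumAt f L
  | [] => by simp [fsEn, sumAt]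
  | e :: L => by
    show _ = @Bool.rec (fun _ => ℤ) (sumAt f L) (e.co + sumAt f L) (e.sameKey f)
    rw [fsEn_cons, Finsupp.add_apply, fsEn_apply f L, Finsupp.single_apply]
    by_cases hk : e.key = f.key
    · rw [if_pos hk, (En.sameKey_iff e f).mpr hk]
    · rw [if_neg hk, Bool.eq_false_iff.mpr (fun hs => hk ((En.sameKey_iff e f).mp hs)), zero_add]

theorem fsEn_eq_zero {k : ℕ × ℤ × ℤ} : ∀ {L : List En}, (∀ e ∈ L, e.key ≠ k) → fsEn L k = 0
  | [], _ => by simp [fsEn]
  | e :: L, h => by
    have h' := fsEn_eq_zero (k := k) (L := L) fun x hx => h x (List.mem_cons_of_mem _ hx)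
    simp only [fsEn] at h' ⊢
    rw [List.map_cons, List.sum_cons, Finsupp.add_apply, h', Finsupp.single_eq_of_ne (h e List.mem_cons_self).symm,
      zero_add]

theorem fsEn_eq_of_eqv {A B : List En} (h : eqvEn A B = true) : fsEn A = fsEn B := by
  rw [eqvEn, orR_iff, appR_eq, allL_iff] at h
  rcases h with h | h
  · rw [eq_of_eqL En.eq_of_beq' h]
  ext k
  by_cases hk : ∃ f ∈ A ++ B, f.key = k
  · obtain ⟨f, hf, rfl⟩ := hk
    rw [fsEn_apply, fsEn_apply]
    exact ieq_iff.mp (h f hf)
  · push Not at hk
    rw [fsEn_eq_zero fun e he => hk e (List.mem_append_left _ he),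
      fsEn_eq_zero fun e he => hk e (List.mem_append_right _ he)]

/-! ### Evaluation -/

variable {F : Type*} [Field F]

/-- Value of an entry at `(t, u)`. -/
def En.ev (t u : F) (e : En) : F := (e.co : F) * t ^ e.ea * u ^ e.eb

/-- The vector of a column. -/
def valEn (t u : F) (L : List En) (row : ℕ) : F :=
  (L.map fun e => if e.row = row then e.ev t u else 0).sum

theorem valEn_eq_fs (t u : F) (L : List En) (row : ℕ) :
    valEn t u L row = (fsEn L).sum fun k c => if k.1 = row then (c : F) * t ^ k.2.1 * u ^ k.2.2 else 0 := by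
  induction L with
  | nil => simp [valEn, fsEn]
  | cons e L ih =>
    rw [fsEn_cons, Finsupp.sum_add_index' (fun a => by simp) (fun a b c => by split_ifs <;> simp [add_mul]),
      Finsupp.sum_single_index (by simp), ← ih]
    simp only [valEn, List.map_cons, List.sum_cons]
    rfl

theorem valEn_congr {A B : List En} (h : fsEn A = fsEn B) (t u : F) (row : ℕ) :
    valEn t u A row = valEn t u B row := by rw [valEn_eq_fs, valEn_eq_fs, h]

theorem valEn_append (t u : F) (A B : List En) (row : ℕ) :
    valEn t u (A ++ B) row = valEn t u A row + valEn t u B row := by simp [valEn]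

/-! ### Representations of matrices -/

variable {ι : Type*} [Fintype ι] [DecidableEq ι]

/-- `M` has the column lists `C`, indices being numbered by `φ`. -/
def Rep (φ : ι → ℕ) (t u : F) (C : ℕ → List En) (M : Matrix ι ι F) : Prop :=
  ∀ i j, M i j = valEn t u (C (φ j)) (φ i)

/-- All rows of all columns are in range. -/
def InRange (φ : ι → ℕ) (C : ℕ → List En) : Prop := ∀ j, ∀ e ∈ C (φ j), ∃ i, φ i = e.row

/-- The entries of `g` shifted by the entry `e`. -/
noncomputable def En.shift (e g : En) : En :=
  ⟨g.row, Int.mul g.co e.co, Int.add g.ea e.ea, Int.add g.eb e.eb⟩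

/-- Apply the columns `CA` to a vector. -/
noncomputable def actEn (CA : ℕ → List En) (v : List En) : List En := flatR (fun e => mapR e.shift (CA e.row)) v

theorem actEn_eq (CA : ℕ → List En) (v : List En) :
    actEn CA v = v.flatMap fun e => (CA e.row).map e.shift := by simp [actEn]

/-- Columns of a product. -/
noncomputable def comp (CA CB : ℕ → List En) (c : ℕ) : List En := actEn CA (CB c)

theorem valEn_act {φ : ι → ℕ} (hφ : Function.Injective φ) {t u : F} (ht : t ≠ 0) (hu : u ≠ 0)
    {CA : ℕ → List En} {A : Matrix ι ι F} (hA : Rep φ t u CA A) (i : ι) :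
    ∀ v : List En, (∀ e ∈ v, ∃ k, φ k = e.row) →
      valEn t u (actEn CA v) (φ i) = ∑ k, A i k * valEn t u v (φ k)
  | [], _ => by simp [actEn_eq, valEn]
  | e :: v, h => by
    obtain ⟨k₀, hk₀⟩ := h e List.mem_cons_self
    have ih := valEn_act hφ ht hu hA i v fun x hx => h x (List.mem_cons_of_mem _ hx)
    rw [actEn_eq, List.flatMap_cons, valEn_append, ← actEn_eq CA v, ih]
    have hsum : ∀ k, A i k * valEn t u (e :: v) (φ k) =
        (if k = k₀ then A i k * e.ev t u else 0) + A i k * valEn t u v (φ k) := by
      intro k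
      by_cases hk : k = k₀
      · subst hk
        simp [valEn, hk₀, mul_add]
      · have : e.row ≠ φ k := fun h' => hk (hφ (h'.symm.trans hk₀.symm))
        simp [valEn, hk, this]
    rw [Finset.sum_congr rfl (fun k _ => hsum k), Finset.sum_add_distrib, Finset.sum_ite_eq' Finset.univ k₀,
      if_pos (Finset.mem_univ _), hA i k₀, hk₀]
    congr 1
    simp only [valEn, List.map_map]
    rw [← List.sum_map_mul_right]
    congr 1
    refine List.map_congr_left fun g _ => ?_
    show (if (e.shift g).row = φ i then (e.shift g).ev t u else 0) = (if g.row = φ i then g.ev t u else 0) * e.ev t u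
    by_cases hr : g.row = φ i
    · rw [if_pos (show (e.shift g).row = φ i from hr), if_pos hr]
      simp only [En.ev, En.shift]
      simp only [Int.mul_def, Int.add_def]
      rw [zpow_add₀ ht, zpow_add₀ hu, Int.cast_mul]; ring
    · rw [if_neg (show ¬ (e.shift g).row = φ i from hr), if_neg hr, zero_mul]

theorem Rep.comp {φ : ι → ℕ} (hφ : Function.Injective φ) {t u : F} (ht : t ≠ 0) (hu : u ≠ 0)
    {CA CB : ℕ → List En} {A B : Matrix ι ι F} (hA : Rep φ t u CA A) (hB : Rep φ t u CB B)
    (hr : InRange φ CB) : Rep φ t u (Chev.comp CA CB) (A * B) := by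
  intro i j
  rw [Chev.comp, valEn_act hφ ht hu hA i _ (hr j), Matrix.mul_apply]
  exact Finset.sum_congr rfl fun k _ => by rw [hB k j]

theorem InRange.comp {φ : ι → ℕ} {CA CB : ℕ → List En} (hA : InRange φ CA) (hB : InRange φ CB) :
    InRange φ (Chev.comp CA CB) := by
  intro j e he
  simp only [Chev.comp, actEn_eq, List.mem_flatMap, List.mem_map] at he
  obtain ⟨f, hf, g, hg, rfl⟩ := he
  obtain ⟨k, hk⟩ := hB j f hf
  rw [← hk] at hg
  exact hA k g hg

/-- Columnwise comparison. -/
noncomputable def colsEqv (N : ℕ) (CA CB : ℕ → List En) : Bool := allR N fun c => eqvEn (CA c) (CB c)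

theorem Rep.eq_of_colsEqv {φ : ι → ℕ} {N : ℕ} (hN : ∀ i, φ i < N) {t u : F} {CA CB : ℕ → List En}
    {A B : Matrix ι ι F} (hA : Rep φ t u CA A) (hB : Rep φ t u CB B) (h : colsEqv N CA CB = true) :
    A = B := by
  ext i j
  rw [hA i j, hB i j]
  exact valEn_congr (fsEn_eq_of_eqv (allR_iff.mp h _ (hN j))) t u _

/-- Columns of the identity. -/
def idC (c : ℕ) : List En := [⟨c, 1, 0, 0⟩]

theorem Rep.one {φ : ι → ℕ} (hφ : Function.Injective φ) (t u : F) : Rep φ t u idC (1 : Matrix ι ι F) := by
  intro i j
  simp [valEn, idC, En.ev, Matrix.one_apply, hφ.eq_iff, eq_comm]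

theorem InRange.idC (φ : ι → ℕ) : InRange φ Chev.idC := fun j e he => by
  simp only [Chev.idC, List.mem_singleton] at he; exact ⟨j, he ▸ rfl⟩

end Cfsg.Agent.Chev
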