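import Mathlib

/-!
Elementary functions on lists, numbers and trees written with the recursors, so that they are
cheap to evaluate in the kernel, with their usual descriptions.
-/

set_option autoImplicit false

namespace Cfsg.Agent.Chev

/-- A binary tree used as a table indexed by natural numbers. -/
inductive Tr (α : Type) where
  | nil : Tr α
  | node : α → Tr α → Tr α → Tr α

/-- Lookup, with default `d`. -/
noncomputable def Tr.get {α : Type} (d : α) (T : Tr α) : ℕ → α :=
  @Tr.rec α (fun _ => ℕ → α) (fun _ => d)
    (fun v _ _ l r i =>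
      Bool.rec
        (Bool.rec (r (Nat.div (Nat.sub i 1) 2)) (l (Nat.div (Nat.sub i 1) 2))
          (Nat.beq (Nat.mod (Nat.sub i 1) 2) 0))
        v (Nat.beq i 0)) T

/-- Conjunction, lazy in the second argument. -/
noncomputable def andR (a b : Bool) : Bool := Bool.rec false b a

@[simp] theorem andR_iff {a b : Bool} : andR a b = true ↔ a = true ∧ b = true := by
  cases a <;> simp [andR]

/-- Disjunction, lazy in the second argument. -/
noncomputable def orR (a b : Bool) : Bool := Bool.rec b true a

@[simp] theorem orR_iff {a b : Bool} : orR a b = true ↔ a = true ∨ b = true := by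
  cases a <;> simp [orR]

/-- Negation. -/
noncomputable def notR (a : Bool) : Bool := Bool.rec true false a

@[simp] theorem notR_iff {a : Bool} : notR a = true ↔ a = false := by cases a <;> simp [notR]

/-- Strict order of natural numbers. -/
noncomputable def nlt (a b : ℕ) : Bool := Nat.ble (Nat.succ a) b

@[simp] theorem nlt_iff {a b : ℕ} : nlt a b = true ↔ a < b := by
  rw [nlt, Nat.ble_eq]; exact Iff.rfl

theorem nlt_false_iff {a b : ℕ} : nlt a b = false ↔ b ≤ a := by
  rw [Bool.eq_false_iff, Ne, nlt_iff, not_lt]

theorem nbeq_false_iff {a b : ℕ} : Nat.beq a b = false ↔ a ≠ b := by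
  rw [Bool.eq_false_iff, Ne, Nat.beq_eq]

/-- Equality of integers. -/
noncomputable def ieq (a b : ℤ) : Bool :=
  @Int.rec (fun _ => Bool) (fun n => @Int.rec (fun _ => Bool) (fun m => Nat.beq n m) (fun _ => false) b)
    (fun n => @Int.rec (fun _ => Bool) (fun _ => false) (fun m => Nat.beq n m) b) a

@[simp] theorem ieq_iff {a b : ℤ} : ieq a b = true ↔ a = b := by
  cases a <;> cases b <;> simp [ieq]

/-- Sign test. -/
noncomputable def inn (a : ℤ) : Bool := @Int.rec (fun _ => Bool) (fun _ => true) (fun _ => false) a

@[simp] theorem inn_iff {a : ℤ} : inn a = true ↔ 0 ≤ a := by cases a <;> simp [inn]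

/-- Powers of integers. -/
noncomputable def ipow (c : ℤ) (k : ℕ) : ℤ := @Nat.rec (fun _ => ℤ) 1 (fun _ r => Int.mul r c) k

@[simp] theorem ipow_eq (c : ℤ) : ∀ k : ℕ, ipow c k = c ^ k
  | 0 => by rw [pow_zero]; rfl
  | k + 1 => by rw [pow_succ, ← ipow_eq c k]; rfl

/-- All numbers below `N`. -/
noncomputable def allR (N : ℕ) (p : ℕ → Bool) : Bool :=
  @Nat.rec (fun _ => Bool) true (fun n ih => Bool.rec false ih (p n)) N

@[simp] theorem allR_iff {p : ℕ → Bool} : ∀ {N : ℕ}, allR N p = true ↔ ∀ n < N, p n = true
  | 0 => by simp [allR]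
  | N + 1 => by
    have ih := allR_iff (p := p) (N := N)
    show andR (p N) (allR N p) = true ↔ _
    rw [andR_iff, ih]
    exact ⟨fun h n hn => (Nat.lt_succ_iff_lt_or_eq.mp hn).elim (h.2 n) (fun e => e ▸ h.1),
      fun h => ⟨h N (by omega), fun n hn => h n (by omega)⟩⟩

/-- Some number in `[lo, lo + N)`. -/
noncomputable def allFrom (lo N : ℕ) (p : ℕ → Bool) : Bool := allR N fun n => p (Nat.add lo n)

theorem allFrom_iff {p : ℕ → Bool} {lo N : ℕ} :
    allFrom lo N p = true ↔ ∀ n, lo ≤ n → n < lo + N → p n = true := by
  rw [allFrom, allR_iff]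
  refine ⟨fun h n h1 h2 => ?_, fun h n hn => h _ (Nat.le_add_right _ _) (by simp; omega)⟩
  have := h (n - lo) (by omega)
  rwa [Nat.add_eq, Nat.add_sub_cancel' h1] at this

variable {α β : Type}

/-- All members of a list. -/
noncomputable def allL (p : α → Bool) (L : List α) : Bool :=
  @List.rec α (fun _ => Bool) true (fun a _ r => Bool.rec false r (p a)) L

@[simp] theorem allL_iff {p : α → Bool} : ∀ {L : List α}, allL p L = true ↔ ∀ a ∈ L, p a = true
  | [] => by simp [allL]
  | a :: L => by
    show andR (p a) (allL p L) = true ↔ _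
    rw [andR_iff, allL_iff (L := L), List.forall_mem_cons]

/-- Some member of a list. -/
noncomputable def anyL (p : α → Bool) (L : List α) : Bool :=
  @List.rec α (fun _ => Bool) false (fun a _ r => Bool.rec r true (p a)) L

@[simp] theorem anyL_iff {p : α → Bool} : ∀ {L : List α}, anyL p L = true ↔ ∃ a ∈ L, p a = true
  | [] => by simp [anyL]
  | a :: L => by
    show orR (p a) (anyL p L) = true ↔ _
    rw [orR_iff, anyL_iff (L := L), List.exists_mem_cons_iff]

/-- Concatenation. -/
noncomputable def appR (A B : List α) : List α :=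
  @List.rec α (fun _ => List α) B (fun a _ r => a :: r) A

@[simp] theorem appR_eq (B : List α) : ∀ A : List α, appR A B = A ++ B
  | [] => rfl
  | a :: A => by rw [List.cons_append, ← appR_eq B A]; rfl

/-- Image of a list. -/
noncomputable def mapR (f : α → β) (L : List α) : List β :=
  @List.rec α (fun _ => List β) [] (fun a _ r => f a :: r) L

@[simp] theorem mapR_eq (f : α → β) : ∀ L : List α, mapR f L = L.map f
  | [] => rfl
  | a :: L => by rw [List.map_cons, ← mapR_eq f L]; rfl

/-- Image of a list, with positions counted from `k`. -/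
noncomputable def mapIdxR (f : ℕ → α → β) (L : List α) : ℕ → List β :=
  @List.rec α (fun _ => ℕ → List β) (fun _ => []) (fun a _ r k => f k a :: r (Nat.succ k)) L

@[simp] theorem mapIdxR_eq (f : ℕ → α → β) :
    ∀ (L : List α) (k : ℕ), mapIdxR f L k = (L.zipIdx k).map fun q => f q.2 q.1
  | [], _ => rfl
  | a :: L, k => by rw [List.zipIdx_cons, List.map_cons, ← mapIdxR_eq f L (k + 1)]; rfl

/-- Concatenated images. -/
noncomputable def flatR (f : α → List β) (L : List α) : List β :=
  @List.rec α (fun _ => List β) [] (fun a _ r => appR (f a) r) L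

@[simp] theorem flatR_eq (f : α → List β) : ∀ L : List α, flatR f L = L.flatMap f
  | [] => rfl
  | a :: L => by
    show appR (f a) (flatR f L) = _
    rw [appR_eq, flatR_eq f L, List.flatMap_cons]

/-- Sublist of members with a property. -/
noncomputable def filterR (p : α → Bool) (L : List α) : List α :=
  @List.rec α (fun _ => List α) [] (fun a _ r => Bool.rec r (a :: r) (p a)) L

@[simp] theorem filterR_eq (p : α → Bool) : ∀ L : List α, filterR p L = L.filter p
  | [] => rfl
  | a :: L => by
    show @Bool.rec (fun _ => List α) (filterR p L) (a :: filterR p L) (p a) = _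
    rw [filterR_eq p L, List.filter_cons]
    cases p a <;> rfl

/-- The value at the first pair with the given first component. -/
noncomputable def lookR (s : ℕ) (L : List (ℕ × List β)) : List β :=
  @List.rec (ℕ × List β) (fun _ => List β) [] (fun a _ r => Bool.rec r a.2 (Nat.beq a.1 s)) L

theorem lookR_eq (s : ℕ) : ∀ L : List (ℕ × List β),
    lookR s L = match L.find? (fun e => e.1 = s) with | none => [] | some e => e.2
  | [] => rfl
  | a :: L => by
    show @Bool.rec (fun _ => List β) (lookR s L) a.2 (Nat.beq a.1 s) = _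
    by_cases h : a.1 = s
    · rw [Nat.beq_eq.mpr h, List.find?_cons_of_pos (by simpa using h)]
    · rw [nbeq_false_iff.mpr h, List.find?_cons_of_neg (by simpa using h)]
      exact lookR_eq s L

/-- Equality of lists, given a test for members. -/
noncomputable def eqL (q : α → α → Bool) (A : List α) : List α → Bool :=
  @List.rec α (fun _ => List α → Bool)
    (fun B => @List.rec α (fun _ => Bool) true (fun _ _ _ => false) B)
    (fun a _ r B => @List.rec α (fun _ => Bool) false (fun b B' _ => Bool.rec false (r B') (q a b)) B) A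

theorem eq_of_eqL {q : α → α → Bool} (hq : ∀ a b, q a b = true → a = b) :
    ∀ {A B : List α}, eqL q A B = true → A = B
  | [], [], _ => rfl
  | [], _ :: _, h => by cases h
  | _ :: _, [], h => by cases h
  | a :: A, b :: B, h => by
    replace h : andR (q a b) (eqL q A B) = true := h
    rw [andR_iff] at h
    rw [hq a b h.1, eq_of_eqL hq h.2]

/-- Test for an empty list. -/
noncomputable def isNilR (L : List α) : Bool := @List.rec α (fun _ => Bool) true (fun _ _ _ => false) L

@[simp] theorem isNilR_iff {L : List α} : isNilR L = true ↔ L = [] := by cases L <;> simp [isNilR]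

/-- The member in position `k`. -/
noncomputable def nthR (d : α) (L : List α) : ℕ → α :=
  @List.rec α (fun _ => ℕ → α) (fun _ => d) (fun a _ r k => Bool.rec (r (Nat.sub k 1)) a (Nat.beq k 0)) L

theorem nthR_eq (d : α) : ∀ (L : List α) (k : ℕ), nthR d L k = L.getD k d
  | [], k => by simp [nthR]
  | a :: L, 0 => rfl
  | a :: L, k + 1 => by
    rw [List.getD_cons_succ, ← nthR_eq d L k]; rfl

end Cfsg.Agent.Chev
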