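import Cfsg.Agent.Lib.Chev.Functorial
import Cfsg.Agent.Lib.Chev.Bruhat
import Cfsg.Agent.Lib.Chev.Order

/-!
Elements of a Chevalley group fixed by a homomorphism of the field.
-/

set_option autoImplicit false

namespace Cfsg.Agent.Chev

open Cfsg.Lie

variable {D : ChevalleyDatum} {T : Tabs} {F : Type*} [Field F] {K : Type*} [Field K]

namespace OKX

variable (ok : OKX D T) (σ : F →+* F) (f : K →+* F)

include ok

theorem mapG_mem_pos {g : GL D.Idx F} (hg : g ∈ D.posUnipotent F) : mapG σ D g ∈ D.posUnipotent F :=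
  (show D.posUnipotent F ≤ (D.posUnipotent F).comap (mapG σ D) from (Subgroup.closure_le _).mpr
    fun x ⟨r, t, hr, hx⟩ => by
      rw [SetLike.mem_coe, Subgroup.mem_comap, ok.toOK.eq_xG hx, ok.toOK.mapG_xG]
      exact ok.toOK.xG_mem_pos hr _) hg

theorem mapG_mem_diag {g : GL D.Idx F} (hg : g ∈ D.diagonalSubgroup F) : mapG σ D g ∈ D.diagonalSubgroup F := by
  obtain ⟨c, hc, rfl⟩ := ok.toOK.mem_diag.mp hg
  rw [ok.toOK.mapG_torG]
  exact ok.toOK.mem_diag.mpr ⟨_, fun i hi => (map_ne_zero σ).mpr (hc i hi), rfl⟩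

theorem fixed_pos (hfix : ∀ x : F, σ x = x → ∃ y, f y = x) {u : GL D.Idx F} (hu : u ∈ D.posUnipotent F)
    (h : mapG σ D u = u) : u ∈ (D.group K).map (mapG f D) := by
  have hh := ok.two_half
  rw [← ok.K_half] at hu
  obtain ⟨t, ⟨ht, he⟩, huniq⟩ := ok.exists_unique_K (Tabs.half D) (Tabs.half D) (by omega) le_rfl hu
  have h1 := huniq (fun r => σ (t r)) ⟨fun r hr => by show σ (t r) = 0; rw [ht r hr, map_zero], by
    conv_lhs => rw [← h, he, ok.toOK.mapG_wordG, List.map_map]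
    rfl⟩
  choose s hs using fun r => hfix (t r) (congrFun h1 r)
  refine ⟨ok.toOK.wordG ((List.range' (Tabs.half D) (Tabs.half D)).map fun r => (r, s r)),
    ok.toOK.wordG_mem _, ?_⟩
  rw [ok.toOK.mapG_wordG, List.map_map, he]
  congr 1
  exact List.map_congr_left fun r _ => by simp [hs r]

/-- A fixed element is a fixed diagonal element times an element over the smaller field. -/
theorem fixed_split (hfix : ∀ x : F, σ x = x → ∃ y, f y = x) (hσf : ∀ y, σ (f y) = f y)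
    {g : GL D.Idx F} (hg : g ∈ D.group F) (h : mapG σ D g = g) :
    ∃ t ∈ D.diagonalSubgroup F, mapG σ D t = t ∧ ∃ y ∈ D.group K, g = t * mapG f D y := by
  obtain ⟨b₀, hb₀, n, hn, u, hu, rfl⟩ := ok.bruhat_exists hg
  obtain ⟨t₀, ht₀, w, hw, rfl⟩ := ok.toOK.mem_monomial.mp hn
  set W := ok.toOK.gW F w with hWdef
  let S : GL D.Idx F → Set (GL D.Idx F) := fun m => {x | ∃ (r : ℕ) (t : F), D.IsPosRoot r ∧
    (D.rootSubgroup F r).map (MulAut.conj m).toMonoidHom ≤ D.negUnipotent F ∧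
    (x : Matrix D.Idx D.Idx F) = D.x F r t}
  have hS : S (t₀ * W) ⊆ S W := by
    rintro x ⟨r, t, hr, hle, hx⟩
    refine ⟨r, t, hr, ?_, hx⟩
    rintro _ ⟨y, hy, rfl⟩
    have h1 := hle (Subgroup.mem_map_of_mem _ hy)
    have h2 := (Subgroup.mem_normalizer_iff.mp (ok.toOK.diag_normalizes_neg (inv_mem ht₀)) _).mp h1
    simpa [mul_assoc] using h2
  have hu' : u ∈ Subgroup.closure (S W) := Subgroup.closure_mono hS hu
  have hσu : mapG σ D u ∈ Subgroup.closure (S W) :=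
    (show Subgroup.closure (S W) ≤ (Subgroup.closure (S W)).comap (mapG σ D) from (Subgroup.closure_le _).mpr
      fun x ⟨r, t, hr, hle, hx⟩ => by
        rw [SetLike.mem_coe, Subgroup.mem_comap, ok.toOK.eq_xG hx, ok.toOK.mapG_xG]
        exact Subgroup.subset_closure ⟨r, σ t, hr, hle, rfl⟩) hu'
  obtain ⟨v, hv, t₁, ht₁, rfl⟩ := ok.toOK.mem_borel hb₀
  set t := t₁ * t₀ with htdef
  have ht : t ∈ D.diagonalSubgroup F := mul_mem ht₁ ht₀
  have hWm : W ∈ D.monomialSubgroup F := ok.toOK.mem_monomial.mpr ⟨1, one_mem _, w, hw, (one_mul _).symm⟩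
  have he : v * t₁ * (t₀ * W) * u = v * t * W * u := by simp [htdef, mul_assoc]
  rw [he] at h ⊢
  rw [map_mul, map_mul, map_mul, hWdef, ok.toOK.mapG_gW, ← hWdef] at h
  obtain ⟨hb, huf⟩ := (ok.bruhat_unique
    (mul_mem (Subgroup.mem_sup_left (ok.mapG_mem_pos σ hv)) (Subgroup.mem_sup_right (ok.mapG_mem_diag σ ht)))
    (mul_mem (Subgroup.mem_sup_left hv) (Subgroup.mem_sup_right ht)) hWm hWm hσu hu' h).2 rfl
  have h4 : v⁻¹ * mapG σ D v = t * (mapG σ D t)⁻¹ := by
    rw [eq_mul_inv_iff_mul_eq, mul_assoc, hb, inv_mul_cancel_left]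
  have h5 : v⁻¹ * mapG σ D v ∈ D.posUnipotent F ⊓ D.diagonalSubgroup F :=
    Subgroup.mem_inf.mpr ⟨mul_mem (inv_mem hv) (ok.mapG_mem_pos σ hv),
      h4 ▸ mul_mem ht (inv_mem (ok.mapG_mem_diag σ ht))⟩
  rw [ok.toOK.pos_inf_diag, Subgroup.mem_bot, inv_mul_eq_one] at h5
  have htf : mapG σ D t = t := by
    rw [← h5] at hb
    exact mul_left_cancel hb
  have hv' : t⁻¹ * v * t ∈ D.posUnipotent F := by
    have := (Subgroup.mem_normalizer_iff.mp (ok.toOK.diag_normalizes_pos (inv_mem ht)) v).mp hv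
    rwa [inv_inv] at this
  obtain ⟨a, ha, ha'⟩ := ok.fixed_pos σ f hfix hv' (by rw [map_mul, map_mul, map_inv, htf, ← h5])
  have hup : u ∈ D.posUnipotent F := (show Subgroup.closure (S W) ≤ D.posUnipotent F from
    (Subgroup.closure_le _).mpr fun x ⟨r, s, hr, _, hx⟩ => Subgroup.subset_closure ⟨r, s, hr, hx⟩) hu'
  obtain ⟨c, hc, hc'⟩ := ok.fixed_pos σ f hfix hup huf
  refine ⟨t, ht, htf, a * ok.toOK.gW K w * c, mul_mem (mul_mem ha (ok.toOK.monomial_le_group
    (ok.toOK.mem_monomial.mpr ⟨1, one_mem _, w, hw, (one_mul _).symm⟩))) hc, ?_⟩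
  rw [map_mul, map_mul, ha', hc', ok.toOK.mapG_gW, ← hWdef]
  simp [mul_assoc]

/-- When the torus map is injective fixed diagonal elements come from the smaller field. -/
theorem fixed_torus (hfix : ∀ x : F, σ x = x → ∃ y, f y = x)
    (hker : (monoMap (G := Fˣ) (OK.torMat D T)).ker = ⊥) {t : GL D.Idx F} (ht : t ∈ D.diagonalSubgroup F)
    (h : mapG σ D t = t) : t ∈ (D.group K).map (mapG f D) := by
  obtain ⟨c, hc, rfl⟩ := ok.toOK.mem_diag.mp ht
  rw [ok.toOK.mapG_torG] at h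
  have hσc : ∀ i < D.rank, σ (c i) ≠ 0 := fun i hi => (map_ne_zero σ).mpr (hc i hi)
  let d : Fin D.rank → Fˣ := fun i => Units.mk0 (σ (c i) / c i) (div_ne_zero (hσc i i.isLt) (hc i i.isLt))
  have h1 : ok.toOK.torG (OK.param d) = 1 := by
    have h2 : ok.toOK.torG (OK.param d) * ok.toOK.torG c = ok.toOK.torG c := by
      rw [ok.toOK.torG_mul (fun i _ => OK.param_ne d i) hc]
      conv_rhs => rw [← h]
      refine Units.ext ?_
      rw [ok.toOK.coe_torG (fun i hi => mul_ne_zero (OK.param_ne d i) (hc i hi)), ok.toOK.coe_torG hσc]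
      congr 1; funext a
      rcases a with a | s
      · rfl
      · simp only [Sum.elim_inr]
        refine Finset.prod_congr rfl fun i hi => ?_
        rw [OK.param, dif_pos (Finset.mem_range.mp hi), Units.val_mk0, div_mul_cancel₀ _ (hc i (Finset.mem_range.mp hi))]
    exact mul_eq_right.mp h2
  have hd : d = 1 := by
    have h2 : d ∈ (monoMap (G := Fˣ) (OK.torMat D T)).ker := ok.toOK.torG_eq_one_iff.mp h1
    rwa [hker, Subgroup.mem_bot] at h2
  have hfixc : ∀ i < D.rank, σ (c i) = c i := fun i hi => by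
    have h3 : (d ⟨i, hi⟩ : F) = 1 := by rw [hd]; rfl
    exact (div_eq_one_iff_eq (hc i hi)).mp h3
  choose s hs using hfix
  refine ⟨ok.toOK.torG (fun i => if hi : i < D.rank then s (c i) (hfixc i hi) else 1), ok.toOK.wordG_mem _, ?_⟩
  rw [ok.toOK.mapG_torG]
  refine Units.ext ?_
  rw [ok.toOK.coe_torG (fun i hi => by rw [dif_pos hi, hs]; exact hc i hi), ok.toOK.coe_torG hc]
  congr 1; funext a
  rcases a with a | r
  · rfl
  · simp only [Sum.elim_inr]
    exact Finset.prod_congr rfl fun i hi => by rw [dif_pos (Finset.mem_range.mp hi), hs]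

/-- The fixed points are the group over the smaller field. -/
theorem fixed_equiv (hfix : ∀ x : F, σ x = x → ∃ y, f y = x) (hσf : ∀ y, σ (f y) = f y)
    (hker : (monoMap (G := Fˣ) (OK.torMat D T)).ker = ⊥) (S : Subgroup ↥(D.group F))
    (hS : ∀ g, g ∈ S ↔ mapG σ D (g : GL D.Idx F) = g) : Nonempty (↥S ≃* ↥(D.group K)) := by
  have hmem : ∀ y, ok.toOK.groupMap f y ∈ S := fun y => by
    rw [hS, OK.coe_groupMap, mapG_comp]
    exact Units.ext (Matrix.ext fun i j => hσf _)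
  refine ⟨(MulEquiv.ofBijective ((ok.toOK.groupMap f).codRestrict S hmem) ⟨fun a b e => ?_, fun g => ?_⟩).symm⟩
  · exact Subtype.ext (mapG_injective f D (congrArg (fun z : S => ((z : ↥(D.group F)) : GL D.Idx F)) e))
  · obtain ⟨t, ht, htf, y, hy, he⟩ := ok.fixed_split σ f hfix hσf (g : ↥(D.group F)).2 ((hS _).mp g.2)
    obtain ⟨a, ha, hat⟩ := ok.fixed_torus σ f hfix hker ht htf
    refine ⟨⟨a, ha⟩ * ⟨y, hy⟩, Subtype.ext (Subtype.ext ?_)⟩
    show mapG f D (a * y) = _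
    rw [map_mul, hat, ← he]

end OKX

end Cfsg.Agent.Chev
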