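import Cfsg.Agent.Lib.Chev.Perf
import Cfsg.Agent.Lib.Chev.Bruhat
import Cfsg.Agent.Lib.Chev.Poincare

/-!
Generation by the monomial subgroup and few root subgroups.
-/

set_option autoImplicit false

namespace Cfsg.Agent.Chev

open Cfsg.Lie

/-- A derivation of one root: a conjugate of a given fundamental root, or a commutator of two such with coefficient `±k`. -/
noncomputable def Tabs.derOK (D : ChevalleyDatum) (T : Tabs) (k : ℤ) (i R : ℕ) (w : List ℕ) (o : Option (List ℕ)) :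
    Bool :=
  andR (allL (fun j => nlt j D.rank) w) <|
    @Option.rec (List ℕ) (fun _ => Bool) (Nat.beq (T.piR w (T.smp i)) R)
      (fun v => andR (allL (fun j => nlt j D.rank) v) <|
        andR (notR (Nat.beq (T.piR v (T.smp i)) (T.piR w (T.smp i)))) <|
        andR (notR (Nat.beq (T.piR v (T.smp i)) (T.neg (T.piR w (T.smp i))))) <|
          orR (eqL eqQ (T.terms (T.piR w (T.smp i)) (T.piR v (T.smp i))) [(R, k, 1, 1)])
            (eqL eqQ (T.terms (T.piR w (T.smp i)) (T.piR v (T.smp i))) [(R, Int.neg k, 1, 1)])) o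

/-- Every representative root is derived from every node of `S`. -/
noncomputable def Tabs.chkGen (D : ChevalleyDatum) (T : Tabs) (k : ℤ) (S : List ℕ)
    (L : List (ℕ × ℕ × List ℕ × Option (List ℕ))) : Bool :=
  allL (fun i => andR (nlt i D.rank) <| allL (fun R => anyL (fun e =>
    andR (Nat.beq e.1 i) <| andR (Nat.beq e.2.1 R) <| T.derOK D k i R e.2.2.1 e.2.2.2) L) T.reps) S

variable {F : Type*} [Field F] {D : ChevalleyDatum} {T : Tabs}

namespace OKX

variable (ok : OKX D T)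

include ok

theorem mem_of_reps {K : Subgroup (GL D.Idx F)}
    (hn : ∀ i < D.rank, ok.toOK.nG (T.smp i) (1 : F) ∈ K)
    (h : ∀ R ∈ T.reps, R < D.nroots → ∀ t : F, ok.toOK.xG R t ∈ K) :
    ∀ r < D.nroots, ∀ t : F, ok.toOK.xG r t ∈ K := by
  suffices hh : ∀ (L : List (ℕ × Option (ℕ × ℕ))) (seen : List ℕ), T.chkOrder D L seen = true →
      (∀ e ∈ L, e ∈ T.order) → (∀ a ∈ seen, a < D.nroots ∧ ∀ t : F, ok.toOK.xG a t ∈ K) →
      ∀ r < D.nroots, ∀ t : F, ok.toOK.xG r t ∈ K from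
    hh T.order [] ok.toOK.order (fun _ => id) (by simp)
  intro L
  induction L with
  | nil =>
    intro seen hc _ hs a ha
    replace hc : allR D.nroots (fun r => anyL (fun s => Nat.beq s r) seen) = true := hc
    simp only [allR_iff, anyL_iff, Nat.beq_eq] at hc
    obtain ⟨b, hb, rfl⟩ := hc a ha
    exact (hs b hb).2
  | cons p L ih =>
    obtain ⟨a, o⟩ := p
    intro seen hc hL hs
    replace hc : andR (nlt a D.nroots) (andR (@Option.rec (ℕ × ℕ) (fun _ => Bool) true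
        (fun q => andR (nlt q.1 D.rank) <| andR (anyL (fun s => Nat.beq s q.2) seen) <|
          Nat.beq (T.refl q.1 q.2) a) o) (T.chkOrder D L (a :: seen))) = true := hc
    simp only [andR_iff, nlt_iff] at hc
    refine ih (a :: seen) hc.2.2 (fun e he => hL e (List.mem_cons_of_mem _ he)) ?_
    intro b hb
    rcases List.mem_cons.mp hb with rfl | hb
    swap
    · exact hs b hb
    refine ⟨hc.1, fun t => ?_⟩
    rcases o with _ | ⟨i, c⟩
    · exact h b (by
        simp only [Tabs.reps, flatR_eq, List.mem_flatMap]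
        exact ⟨_, hL _ List.mem_cons_self, List.mem_singleton.mpr rfl⟩) hc.1 t
    · have h2 := hc.2.1
      simp only [andR_iff, nlt_iff, anyL_iff, Nat.beq_eq] at h2
      obtain ⟨hi, ⟨c', hc', rfl⟩, rfl⟩ := h2
      obtain ⟨hcn, hcd⟩ := hs _ hc'
      have e := ok.toOK.n_xG hi hcn ((T.eta i c' : F) * t)
      rw [← mul_assoc (T.eta i c' : F), ok.toOK.eta_sq hi hcn, one_mul] at e
      rw [← e]
      exact mul_mem (mul_mem (hn i hi) (hcd _)) (inv_mem (hn i hi))

theorem xG_piW_mem {K : Subgroup (GL D.Idx F)} (hn : ∀ i < D.rank, ok.toOK.nG (T.smp i) (1 : F) ∈ K) {r : ℕ}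
    (hr : r < D.nroots) (h : ∀ t : F, ok.toOK.xG r t ∈ K) {w : List ℕ} (hw : ∀ i ∈ w, i < D.rank) :
    ∀ t : F, ok.toOK.xG (piW T w r) t ∈ K := by
  have hW : ok.toOK.gW F w ∈ K := list_prod_mem fun x hx => by
    obtain ⟨i, hi, rfl⟩ := List.mem_map.mp hx
    exact hn i (hw i hi)
  obtain ⟨a, ha, hc⟩ := (ok.toOK.act_gW (F := F) w hw).2.1 r hr
  intro t
  have := mul_mem (mul_mem hW (h (a⁻¹ * t))) (inv_mem hW)
  rwa [(hc _).1, ← mul_assoc, mul_inv_cancel₀ ha, one_mul] at this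

theorem der_mem {K : Subgroup (GL D.Idx F)} (hn : ∀ i < D.rank, ok.toOK.nG (T.smp i) (1 : F) ∈ K) {k : ℤ}
    {i R : ℕ} (hi : i < D.rank) {w : List ℕ} {o : Option (List ℕ)}
    (hd : T.derOK D k i R w o = true) (hk : o = none ∨ (k : F) ≠ 0) (h : ∀ t : F, ok.toOK.xG (T.smp i) t ∈ K) :
    ∀ t : F, ok.toOK.xG R t ∈ K := by
  simp only [Tabs.derOK, andR_iff, allL_iff, nlt_iff, Tabs.piR_eq] at hd
  have hp := ok.toOK.smp_lt hi
  rcases o with _ | v
  · simp only [Nat.beq_eq] at hd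
    rw [← hd.2]
    exact ok.xG_piW_mem hn hp h hd.1
  simp only [andR_iff, allL_iff, nlt_iff, notR_iff, nbeq_false_iff, orR_iff] at hd
  obtain ⟨hw, hv, h1, h2, hq⟩ := hd
  set a := piW T w (T.smp i)
  set b := piW T v (T.smp i)
  have ha : a < D.nroots := ok.piW_lt hw hp
  have hb : b < D.nroots := ok.piW_lt hv hp
  have hk' : (k : F) ≠ 0 := hk.resolve_left (by simp)
  obtain ⟨C, hC, hterms⟩ : ∃ C : F, C ≠ 0 ∧ ∀ u z : F,
      D.wordMat F (D.commWord F a b u z) = D.x F R (C * (u * z)) := by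
    rcases hq with e | e
    · refine ⟨-(k : F), neg_ne_zero.mpr hk', fun u z => ?_⟩
      simp [ChevalleyDatum.commWord, ok.toOK.terms_eq ha hb, eq_of_eqL eq_of_eqQ e, ChevalleyDatum.wordMat]
      ring_nf
    · refine ⟨(k : F), hk', fun u z => ?_⟩
      simp [ChevalleyDatum.commWord, ok.toOK.terms_eq ha hb, eq_of_eqL eq_of_eqQ e, ChevalleyDatum.wordMat,
        show ∀ x : ℤ, Int.neg x = -x from fun _ => rfl]
      ring_nf
  intro t
  have e : ok.toOK.xG b (1 : F) * ok.toOK.xG a (t / C) =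
      ok.toOK.xG a (t / C) * ok.toOK.xG b 1 * ok.toOK.xG R t := by
    refine Units.ext ?_
    rw [Units.val_mul, Units.val_mul, Units.val_mul, OK.coe_xG, OK.coe_xG, OK.coe_xG,
      ok.toOK.comm ha hb h1 (by rwa [ok.toOK.neg_eq ha]) (t / C) 1, hterms]
    congr 2
    field_simp
  have hb' := ok.xG_piW_mem hn hp h hv (1 : F)
  have ha' := ok.xG_piW_mem hn hp h hw (t / C)
  have e2 : ok.toOK.xG R t = (ok.toOK.xG b 1)⁻¹ * (ok.toOK.xG a (t / C))⁻¹ * (ok.toOK.xG b 1 * ok.toOK.xG a (t / C)) := by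
    rw [e]; simp [mul_assoc]
  rw [e2]
  exact mul_mem (mul_mem (inv_mem hb') (inv_mem ha')) (mul_mem hb' ha')

theorem group_le_gen {k : ℤ} {S : List ℕ} {L : List (ℕ × ℕ × List ℕ × Option (List ℕ))}
    (hc : Tabs.chkGen D T k S L = true) (hk : (k : F) ≠ 0) {i : ℕ} (hiS : i ∈ S) :
    D.group F ≤ D.monomialSubgroup F ⊔ D.rootSubgroup F (D.simple i) := by
  simp only [Tabs.chkGen, allL_iff, andR_iff, nlt_iff, anyL_iff, Nat.beq_eq] at hc
  obtain ⟨hi, hR⟩ := hc i hiS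
  have hn : ∀ j < D.rank, ok.toOK.nG (T.smp j) (1 : F) ∈ D.monomialSubgroup F ⊔ D.rootSubgroup F (D.simple i) :=
    fun j hj => Subgroup.mem_sup_left (ok.toOK.nG_mem_monomial (ok.toOK.smp_lt hj))
  refine ok.toOK.group_le (ok.mem_of_reps hn fun R hR' _ => ?_)
  obtain ⟨e, -, -, -, hd⟩ := hR R hR'
  exact ok.der_mem hn hi hd (Or.inr hk) fun t =>
    Subgroup.mem_sup_right (by rw [ok.toOK.simple_eq hi]; exact ok.toOK.xG_mem_root _ t)

theorem group_le_gen_two {i j : ℕ} (hi : i < D.rank) (hj : j < D.rank)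
    {L : List (ℕ × ℕ × List ℕ × Option (List ℕ))}
    (hc : ∀ R ∈ T.reps, ∃ e ∈ L, (e.1 = i ∨ e.1 = j) ∧ e.2.1 = R ∧ T.derOK D 1 e.1 R e.2.2.1 none = true) :
    D.group F ≤ D.monomialSubgroup F ⊔ D.rootSubgroup F (D.simple i) ⊔ D.rootSubgroup F (D.simple j) := by
  have hn : ∀ l < D.rank, ok.toOK.nG (T.smp l) (1 : F) ∈
      D.monomialSubgroup F ⊔ D.rootSubgroup F (D.simple i) ⊔ D.rootSubgroup F (D.simple j) :=
    fun l hl => Subgroup.mem_sup_left (Subgroup.mem_sup_left (ok.toOK.nG_mem_monomial (ok.toOK.smp_lt hl)))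
  refine ok.toOK.group_le (ok.mem_of_reps hn fun R hR _ => ?_)
  obtain ⟨e, -, he, -, hd⟩ := hc R hR
  rcases he with he | he <;> rw [he] at hd
  · exact ok.der_mem hn hi hd (Or.inl rfl) fun t =>
      Subgroup.mem_sup_left (Subgroup.mem_sup_right (by rw [ok.toOK.simple_eq hi]; exact ok.toOK.xG_mem_root _ t))
  · exact ok.der_mem hn hj hd (Or.inl rfl) fun t =>
      Subgroup.mem_sup_right (by rw [ok.toOK.simple_eq hj]; exact ok.toOK.xG_mem_root _ t)

end OKX

end Cfsg.Agent.Chev
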