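import Cfsg.Agent.Lib.Chev.GenN
import Cfsg.Agent.Lib.Chev.AllX
import Cfsg.Prelude.Def_ChevAutomorphisms

/-! Derivations of the representative roots from a fundamental root. -/

set_option autoImplicit false
set_option maxRecDepth 20000

namespace Cfsg.Agent.Chev

open Cfsg.Lie

def G2.gens : List (ℕ × ℕ × List ℕ × Option (List ℕ)) :=
  [(0, 7, [], none),
    (0, 6, [0], some [1]),
    (1, 6, [], none)]

theorem G2.gens_ok : Tabs.chkGen chevG2 G2.T 3 [0] G2.gens = true := by decide +kernel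

theorem G2.short_nodes : ∀ i < chevG2.rank, chevG2.isLong (chevG2.simple i) = false → i ∈ [0] := by
  decide +kernel

def B2.gens : List (ℕ × ℕ × List ℕ × Option (List ℕ)) :=
  [(0, 5, [], none),
    (0, 4, [0], some [1]),
    (1, 4, [], none)]

theorem B2.gens_ok : Tabs.chkGen chevB2 B2.T 2 [0] B2.gens = true := by decide +kernel

theorem B2.short_nodes : ∀ i < chevB2.rank, chevB2.isLong (chevB2.simple i) = false → i ∈ [0] := by
  decide +kernel

def D4.gens : List (ℕ × ℕ × List ℕ × Option (List ℕ)) :=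
  [(0, 18, [], none),
    (1, 18, [1, 0], none),
    (2, 18, [1, 2, 0, 1], none),
    (3, 18, [1, 3, 0, 1], none)]

theorem D4.gens_ok : Tabs.chkGen chevD4 D4.T 1 [0, 1, 2, 3] D4.gens = true := by decide +kernel

theorem D4.short_nodes : ∀ i < chevD4.rank, chevD4.isLong (chevD4.simple i) = false → i ∈ [0, 1, 2, 3] := by
  decide +kernel

def F4.gens : List (ℕ × ℕ × List ℕ × Option (List ℕ)) :=
  [(0, 33, [], none),
    (0, 25, [1, 0], some [2, 1]),
    (1, 33, [1, 0], none),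
    (1, 25, [1], some [2]),
    (2, 25, [], none),
    (3, 25, [3, 2], none)]

theorem F4.gens_ok : Tabs.chkGen chevF4 F4.T 2 [0, 1] F4.gens = true := by decide +kernel

theorem F4.short_nodes : ∀ i < chevF4.rank, chevF4.isLong (chevF4.simple i) = false → i ∈ [0, 1] := by
  decide +kernel

def E6.gens : List (ℕ × ℕ × List ℕ × Option (List ℕ)) :=
  [(0, 56, [], none),
    (1, 56, [2, 3, 0, 2, 1, 3], none),
    (2, 56, [2, 0], none),
    (3, 56, [2, 3, 0, 2], none),
    (4, 56, [2, 3, 4, 0, 2, 3], none),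
    (5, 56, [2, 3, 4, 5, 0, 2, 3, 4], none)]

theorem E6.gens_ok : Tabs.chkGen chevE6 E6.T 1 [0, 1, 2, 3, 4, 5] E6.gens = true := by decide +kernel

theorem E6.short_nodes : ∀ i < chevE6.rank, chevE6.isLong (chevE6.simple i) = false → i ∈ [0, 1, 2, 3, 4, 5] := by
  decide +kernel

def E7.gens : List (ℕ × ℕ × List ℕ × Option (List ℕ)) :=
  [(0, 93, [], none),
    (1, 93, [2, 3, 0, 2, 1, 3], none),
    (2, 93, [2, 0], none),
    (3, 93, [2, 3, 0, 2], none),
    (4, 93, [2, 3, 4, 0, 2, 3], none),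
    (5, 93, [2, 3, 4, 5, 0, 2, 3, 4], none),
    (6, 93, [2, 3, 4, 5, 6, 0, 2, 3, 4, 5], none)]

theorem E7.gens_ok : Tabs.chkGen chevE7 E7.T 1 [0, 1, 2, 3, 4, 5, 6] E7.gens = true := by decide +kernel

theorem E7.short_nodes : ∀ i < chevE7.rank, chevE7.isLong (chevE7.simple i) = false → i ∈ [0, 1, 2, 3, 4, 5, 6] := by
  decide +kernel

def E8.gens : List (ℕ × ℕ × List ℕ × Option (List ℕ)) :=
  [(0, 162, [], none),
    (1, 162, [2, 3, 0, 2, 1, 3], none),
    (2, 162, [2, 0], none),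
    (3, 162, [2, 3, 0, 2], none),
    (4, 162, [2, 3, 4, 0, 2, 3], none),
    (5, 162, [2, 3, 4, 5, 0, 2, 3, 4], none),
    (6, 162, [2, 3, 4, 5, 6, 0, 2, 3, 4, 5], none),
    (7, 162, [2, 3, 4, 5, 6, 7, 0, 2, 3, 4, 5, 6], none)]

theorem E8.gens_ok : Tabs.chkGen chevE8 E8.T 1 [0, 1, 2, 3, 4, 5, 6, 7] E8.gens = true := by decide +kernel

theorem E8.short_nodes : ∀ i < chevE8.rank, chevE8.isLong (chevE8.simple i) = false → i ∈ [0, 1, 2, 3, 4, 5, 6, 7] := by
  decide +kernel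

end Cfsg.Agent.Chev
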