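import Cfsg.Agent.Lib.Chev.Unip

/-!
The root elements of the fundamental roots and their negatives generate; entrywise field automorphisms.
-/

set_option autoImplicit false

namespace Cfsg.Agent.Chev

open Cfsg.Lie

variable {F : Type*} [Field F] {D : ChevalleyDatum} {T : Tabs}

namespace OK

variable (ok : OK D T)

include ok

theorem group_le_of_simple {K : Subgroup (GL D.Idx F)}
    (h : ∀ i < D.rank, ∀ t : F, ok.xG (T.smp i) t ∈ K ∧ ok.xG (T.neg (T.smp i)) t ∈ K) : D.group F ≤ K := by
  have hn : ∀ i < D.rank, ok.nG (T.smp i) (1 : F) ∈ K := fun i hi => by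
    rw [ok.nG_eq (ok.smp_lt hi)]
    exact mul_mem (mul_mem (h i hi _).1 (h i hi _).2) (h i hi _).1
  refine ok.group_le ?_
  suffices hh : ∀ (L : List (ℕ × Option (ℕ × ℕ))) (seen : List ℕ), T.chkOrder D L seen = true →
      (∀ e ∈ L, e ∈ T.order) → (∀ a ∈ seen, a < D.nroots ∧ ∀ t : F, ok.xG a t ∈ K) →
      ∀ r < D.nroots, ∀ t : F, ok.xG r t ∈ K from hh T.order [] ok.order (fun _ => id) (by simp)
  intro L
  induction L with
  | nil =>
    intro seen hc _ hs a ha
    replace hc : allR D.nroots (fun r => anyL (fun s => Nat.beq s r) seen) = true := hc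
    simp only [allR_iff, anyL_iff, Nat.beq_eq] at hc
    obtain ⟨b, hb, rfl⟩ := hc a ha
    exact (hs b hb).2
  | cons p L ih =>
    obtain ⟨a, o⟩ := p
    intro seen hc hL hs
    replace hc : andR (nlt a D.nroots) (andR (@Option.rec (ℕ × ℕ) (fun _ => Bool) true
        (fun q => andR (nlt q.1 D.rank) <| andR (anyL (fun s => Nat.beq s q.2) seen) <|
          Nat.beq (T.refl q.1 q.2) a) o) (T.chkOrder D L (a :: seen))) = true := hc
    simp only [andR_iff, nlt_iff] at hc
    refine ih (a :: seen) hc.2.2 (fun e he => hL e (List.mem_cons_of_mem _ he)) ?_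
    intro b hb
    rcases List.mem_cons.mp hb with rfl | hb
    swap
    · exact hs b hb
    refine ⟨hc.1, fun t => ?_⟩
    rcases o with _ | ⟨i, c⟩
    · obtain ⟨i, hi, rfl⟩ := ok.rep_simple (r := b) (by
        simp only [Tabs.reps, flatR_eq, List.mem_flatMap]
        exact ⟨_, hL _ List.mem_cons_self, List.mem_singleton.mpr rfl⟩)
      exact (h i hi t).1
    · have h2 := hc.2.1
      simp only [andR_iff, nlt_iff, anyL_iff, Nat.beq_eq] at h2
      obtain ⟨hi, ⟨c', hc', rfl⟩, rfl⟩ := h2
      obtain ⟨hcn, hcd⟩ := hs _ hc'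
      have e := ok.n_xG hi hcn ((T.eta i c' : F) * t)
      rw [← mul_assoc (T.eta i c' : F), ok.eta_sq hi hcn, one_mul] at e
      rw [← e]
      exact mul_mem (mul_mem (hn i hi) (hcd _)) (inv_mem (hn i hi))

/-- Two homomorphisms agreeing on the fundamental root elements and their negatives are equal. -/
theorem hom_ext {H : Type*} [Group H] {a b : ↥(D.group F) →* H}
    (h : ∀ (x : ↥(D.group F)) (i : ℕ) (t : F), i < D.rank →
      ((x : GL D.Idx F) : Matrix D.Idx D.Idx F) = D.x F (D.simple i) t ∨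
      ((x : GL D.Idx F) : Matrix D.Idx D.Idx F) = D.x F (D.neg (D.simple i)) t → a x = b x)
    (y : ↥(D.group F)) : a y = b y := by
  have key : D.group F ≤ (MonoidHom.eqLocus a b).map (D.group F).subtype := by
    refine ok.group_le_of_simple fun i hi t => ⟨?_, ?_⟩
    · refine Subgroup.mem_map.mpr ⟨⟨_, ok.xG_mem_group (T.smp i) t⟩, h _ i t hi (Or.inl ?_), rfl⟩
      rw [ok.simple_eq hi]; rfl
    · refine Subgroup.mem_map.mpr ⟨⟨_, ok.xG_mem_group (T.neg (T.smp i)) t⟩, h _ i t hi (Or.inr ?_), rfl⟩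
      rw [ok.simple_eq hi, ok.neg_eq (ok.smp_lt hi)]; rfl
  obtain ⟨z, hz, e⟩ := Subgroup.mem_map.mp (key y.2)
  rw [← show z = y from Subtype.ext e]
  exact hz

theorem x_injective {r : ℕ} (hr : r < D.nroots) {s t : F} (h : D.x F r s = D.x F r t) : s = t := by
  have e : D.x F r s * D.x F r (-t) = 1 := by rw [h, ok.x_add, add_neg_cancel, ok.x_zero]
  rw [ok.x_add, ok.x_eq_one hr] at e
  linear_combination e

theorem xG_injective {r : ℕ} (hr : r < D.nroots) {s t : F} (h : ok.xG r s = ok.xG r t) : s = t :=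
  ok.x_injective hr (by rw [← ok.coe_xG, h]; rfl)

end OK

/-- The entrywise action of a field automorphism. -/
def fieldMap (D : ChevalleyDatum) (f : F ≃+* F) : GL D.Idx F →* GL D.Idx F :=
  Units.map (f.toRingHom.mapMatrix (m := D.Idx)).toMonoidHom

theorem coe_fieldMap (D : ChevalleyDatum) (f : F ≃+* F) (x : GL D.Idx F) :
    (fieldMap D f x : Matrix D.Idx D.Idx F) = (x : Matrix D.Idx D.Idx F).map f := rfl

theorem fieldMap_symm (D : ChevalleyDatum) (f : F ≃+* F) (x : GL D.Idx F) :
    fieldMap D f.symm (fieldMap D f x) = x := by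
  refine Units.ext (Matrix.ext fun a b => ?_)
  simp [coe_fieldMap]

theorem fieldMap_symm' (D : ChevalleyDatum) (f : F ≃+* F) (x : GL D.Idx F) :
    fieldMap D f (fieldMap D f.symm x) = x := by
  refine Units.ext (Matrix.ext fun a b => ?_)
  simp [coe_fieldMap]

namespace OK

variable (ok : OK D T)

include ok

theorem fieldMap_xG (f : F ≃+* F) (r : ℕ) (t : F) : fieldMap D f (ok.xG r t) = ok.xG r (f t) := by
  refine Units.ext (Matrix.ext fun a b => ?_)
  rw [coe_fieldMap, Matrix.map_apply, coe_xG, coe_xG]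
  by_cases hr : r < D.nroots
  · rw [ok.xMat_eq hr, ok.xMat_eq hr, colVal, colVal, map_list_sum, List.map_map]
    congr 1
    refine List.map_congr_left fun e _ => ?_
    rw [Function.comp_apply]
    split_ifs <;> simp
  · rw [ChevalleyDatum.x, ChevalleyDatum.x, dif_neg hr, dif_neg hr, Matrix.one_apply]
    split_ifs <;> simp

theorem fieldMap_mem (f : F ≃+* F) {x : GL D.Idx F} (hx : x ∈ D.group F) : fieldMap D f x ∈ D.group F := by
  revert x
  suffices D.group F ≤ (D.group F).comap (fieldMap D f) from fun {x} hx => this hx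
  refine ok.group_le fun r _ t => ?_
  rw [Subgroup.mem_comap, ok.fieldMap_xG]
  exact ok.xG_mem_group _ _

end OK

end Cfsg.Agent.Chev
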