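import Cfsg.Agent.Lib.Chev.Graph
import Cfsg.Agent.Lib.Chev.LexD4

/-! A symmetry of the datum of type D4, checked in the kernel. -/

set_option autoImplicit false
set_option maxRecDepth 100000

namespace Cfsg.Agent.Chev.D4

open Cfsg.Lie

def g2 : GTab where
  pr := (.node (0) (.node (1) (.node (6) (.node (4) (.node (16) .nil .nil) (.node (23) .nil .nil)) (.node (10) (.node (15) .nil .nil) .nil)) (.node (11) (.node (9) (.node (21) .nil .nil) .nil) (.node (18) (.node (20) .nil .nil) .nil))) (.node (3) (.node (8) (.node (7) (.node (19) .nil .nil) .nil) (.node (13) (.node (17) .nil .nil) .nil)) (.node (2) (.node (5) (.node (12) .nil .nil) .nil) (.node (14) (.node (22) .nil .nil) .nil))))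
  sg := (.node (1) (.node (1) (.node (-1) (.node (-1) (.node (1) .nil .nil) (.node (1) .nil .nil)) (.node (1) (.node (-1) .nil .nil) .nil)) (.node (1) (.node (1) (.node (-1) .nil .nil) .nil) (.node (1) (.node (1) .nil .nil) .nil))) (.node (1) (.node (-1) (.node (1) (.node (-1) .nil .nil) .nil) (.node (1) (.node (-1) .nil .nil) .nil)) (.node (-1) (.node (1) (.node (1) .nil .nil) .nil) (.node (1) (.node (1) .nil .nil) .nil))))
  ps := (.node (3) (.node (1) (.node (2) .nil .nil) .nil) (.node (0) .nil .nil))
  k := 3

theorem g2ok : GOK chevD4 T g2 := ⟨by decide +kernel⟩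

end Cfsg.Agent.Chev.D4
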