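import Cfsg.Agent.Lib.Chev.GraphSym
import Cfsg.Agent.Lib.Chev.LexE6

/-! All symmetries of the diagram of type E6, checked in the kernel. -/

set_option autoImplicit false
set_option maxRecDepth 100000

namespace Cfsg.Agent.Chev.E6

open Cfsg.Lie

def s0 : GTab where
  pr := (.node (0) (.node (1) (.node (3) (.node (7) (.node (15) (.node (31) (.node (63) .nil .nil) .nil) (.node (47) .nil .nil)) (.node (23) (.node (39) (.node (71) .nil .nil) .nil) (.node (55) .nil .nil))) (.node (11) (.node (19) (.node (35) (.node (67) .nil .nil) .nil) (.node (51) .nil .nil)) (.node (27) (.node (43) .nil .nil) (.node (59) .nil .nil)))) (.node (5) (.node (9) (.node (17) (.node (33) (.node (65) .nil .nil) .nil) (.node (49) .nil .nil)) (.node (25) (.node (41) .nil .nil) (.node (57) .nil .nil))) (.node (13) (.node (21) (.node (37) (.node (69) .nil .nil) .nil) (.node (53) .nil .nil)) (.node (29) (.node (45) .nil .nil) (.node (61) .nil .nil))))) (.node (2) (.node (4) (.node (8) (.node (16) (.node (32) (.node (64) .nil .nil) .nil) (.node (48) .nil .nil)) (.node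 (24) (.node (40) .nil .nil) (.node (56) .nil .nil))) (.node (12) (.node (20) (.node (36) (.node (68) .nil .nil) .nil) (.node (52) .nil .nil)) (.node (28) (.node (44) .nil .nil) (.node (60) .nil .nil)))) (.node (6) (.node (10) (.node (18) (.node (34) (.node (66) .nil .nil) .nil) (.node (50) .nil .nil)) (.node (26) (.node (42) .nil .nil) (.node (58) .nil .nil))) (.node (14) (.node (22) (.node (38) (.node (70) .nil .nil) .nil) (.node (54) .nil .nil)) (.node (30) (.node (46) .nil .nil) (.node (62) .nil .nil))))))
  sg := (.node (1) (.node (1) (.node (1) (.node (1) (.node (1) (.node (1) (.node (1) .nil .nil) .nil) (.node (1) .nil .nil)) (.node (1) (.node (1) (.node (1) .nil .nil) .nil) (.node (1) .nil .nil))) (.node (1) (.node (1) (.node (1) (.node (1) .nil .nil) .nil) (.node (1) .nil .nil)) (.node (1) (.node (1) .nil .nil) (.node (1) .nil .nil)))) (.node (1) (.node (1) (.node (1) (.node (1) (.node (1) .nil .nil) .nil) (.node (1) .nil .nil)) (.node (1) (.node (1) .nil .nil) (.node (1) .nil .nil))) (.node (1) (.node (1) (.node (1) (.node (1)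 .nil .nil) .nil) (.node (1) .nil .nil)) (.node (1) (.node (1) .nil .nil) (.node (1) .nil .nil))))) (.node (1) (.node (1) (.node (1) (.node (1) (.node (1) (.node (1) .nil .nil) .nil) (.node (1) .nil .nil)) (.node (1) (.node (1) .nil .nil) (.node (1) .nil .nil))) (.node (1) (.node (1) (.node (1) (.node (1) .nil .nil) .nil) (.node (1) .nil .nil)) (.node (1) (.node (1) .nil .nil) (.node (1) .nil .nil)))) (.node (1) (.node (1) (.node (1) (.node (1) (.node (1) .nil .nil) .nil) (.node (1) .nil .nil)) (.node (1) (.node (1) .nil .nil) (.node (1) .nil .nil))) (.node (1) (.node (1) (.node (1) (.node (1) .nil .nil) .nil) (.node (1) .nil .nil)) (.node (1) (.node (1) .nil .nil) (.node (1) .nil .nil))))))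
  ps := (.node (0) (.node (1) (.node (3) .nil .nil) (.node (5) .nil .nil)) (.node (2) (.node (4) .nil .nil) .nil))
  k := 1

theorem s0ok : GOK chevE6 T s0 := ⟨by decide +kernel⟩

theorem s0uniq : T.chkUniq chevE6 s0 = true := by decide +kernel

def s1 : GTab where
  pr := (.node (0) (.node (1) (.node (5) (.node (17) (.node (35) (.node (28) (.node (63) .nil .nil) .nil) (.node (47) .nil .nil)) (.node (21) (.node (39) (.node (71) .nil .nil) .nil) (.node (67) .nil .nil))) (.node (11) (.node (9) (.node (15) (.node (55) .nil .nil) .nil) (.node (51) .nil .nil)) (.node (27) (.node (40) .nil .nil) (.node (45) .nil .nil)))) (.node (3) (.node (19) (.node (7) (.node (14) (.node (65) .nil .nil) .nil) (.node (61) .nil .nil)) (.node (25) (.node (58) .nil .nil) (.node (38) .nil .nil))) (.node (30) (.node (23) (.node (42) (.node (69) .nil .nil) .nil) (.node (53) .nil .nil)) (.node (34) (.node (59) .nil .nil) (.node (49) .nil .nil))))) (.node (2) (.node (16) (.node (8) (.node (4) (.node (32) (.node (54) .nil .nil) .nil) (.node (50) .nil .nil)) (.node (24)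 (.node (43) .nil .nil) (.node (36) .nil .nil))) (.node (26) (.node (20) (.node (56) (.node (66) .nil .nil) .nil) (.node (62) .nil .nil)) (.node (31) (.node (44) .nil .nil) (.node (60) .nil .nil)))) (.node (6) (.node (22) (.node (18) (.node (29) (.node (68) .nil .nil) .nil) (.node (48) .nil .nil)) (.node (12) (.node (37) .nil .nil) (.node (41) .nil .nil))) (.node (33) (.node (10) (.node (57) (.node (70) .nil .nil) .nil) (.node (64) .nil .nil)) (.node (13) (.node (46) .nil .nil) (.node (52) .nil .nil))))))
  sg := (.node (1) (.node (1) (.node (1) (.node (-1) (.node (1) (.node (-1) (.node (1) .nil .nil) .nil) (.node (1) .nil .nil)) (.node (1) (.node (1) (.node (1) .nil .nil) .nil) (.node (-1) .nil .nil))) (.node (1) (.node (-1) (.node (1) (.node (-1) .nil .nil) .nil) (.node (1) .nil .nil)) (.node (1) (.node (-1) .nil .nil) (.node (-1) .nil .nil)))) (.node (1) (.node (-1) (.node (-1) (.node (-1) (.node (1) .nil .nil) .nil) (.node (-1) .nil .nil)) (.node (1) (.node (1) .nil .nil) (.node (-1) .nil .nil))) (.node (1) (.node (1) (.node (1) (.node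 (1) .nil .nil) .nil) (.node (1) .nil .nil)) (.node (1) (.node (-1) .nil .nil) (.node (-1) .nil .nil))))) (.node (1) (.node (-1) (.node (1) (.node (-1) (.node (1) (.node (-1) .nil .nil) .nil) (.node (1) .nil .nil)) (.node (1) (.node (-1) .nil .nil) (.node (1) .nil .nil))) (.node (-1) (.node (1) (.node (1) (.node (1) .nil .nil) .nil) (.node (-1) .nil .nil)) (.node (-1) (.node (1) .nil .nil) (.node (1) .nil .nil)))) (.node (1) (.node (-1) (.node (1) (.node (1) (.node (1) .nil .nil) .nil) (.node (1) .nil .nil)) (.node (-1) (.node (1) .nil .nil) (.node (1) .nil .nil))) (.node (-1) (.node (-1) (.node (-1) (.node (1) .nil .nil) .nil) (.node (-1) .nil .nil)) (.node (1) (.node (1) .nil .nil) (.node (-1) .nil .nil))))))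
  ps := (.node (5) (.node (1) (.node (3) .nil .nil) (.node (0) .nil .nil)) (.node (4) (.node (2) .nil .nil) .nil))
  k := 2

theorem s1ok : GOK chevE6 T s1 := ⟨by decide +kernel⟩

theorem s1uniq : T.chkUniq chevE6 s1 = true := by decide +kernel

theorem syms : T.chkSym chevE6 [s0, s1] = true := by decide +kernel

theorem sym_cover : ∀ g ∈ [s0, s1], GOK chevE6 T g ∧ T.chkUniq chevE6 g = true := by
  intro g hg
  simp only [List.mem_cons, List.not_mem_nil, or_false] at hg
  rcases hg with rfl | rfl
  exacts [⟨s0ok, s0uniq⟩, ⟨s1ok, s1uniq⟩]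

end Cfsg.Agent.Chev.E6
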