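import Cfsg.Agent.Lib.Chev.Graph
import Cfsg.Agent.Lib.Chev.Gens
import Cfsg.Prelude.Def_ChevAutomorphisms

/-!
All symmetries of a diagram and the automorphisms attached to them.
-/

set_option autoImplicit false

namespace Cfsg.Agent.Chev

open Cfsg.Lie

namespace Tabs

variable (D : ChevalleyDatum) (T : Tabs)

/-- Number of bonds between two nodes. -/
noncomputable def bnd (i j : ℕ) : ℤ := Int.mul (T.cA i (T.smp j)) (T.cA j (T.smp i))

/-- Injective bond-preserving lists of images of the first `n` nodes. -/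
noncomputable def symList : ℕ → List (List ℕ)
  | 0 => [[]]
  | n + 1 => flatR (fun v => flatR (fun x =>
      @Bool.rec (fun _ => List (List ℕ)) [] [appR v [x]]
        (allR n fun j => andR (notR (Nat.beq (v.getD j 0) x)) (ieq (T.bnd x (v.getD j 0)) (T.bnd n j))))
      (upTo D.rank)) (symList n)

/-- The symmetry list is covered by the given tables. -/
noncomputable def chkSym (gs : List GTab) : Bool :=
  allL (fun v => anyL (fun g => allR D.rank fun i => Nat.beq (g.psi i) (v.getD i 0)) gs) (symList D T D.rank)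

/-- A root is determined by its image coefficients. -/
noncomputable def chkUniq (g : GTab) : Bool :=
  allR D.nroots fun r => allR D.nroots fun s =>
    orR (Nat.beq s (g.per r)) (notR (allR D.rank fun i => ieq (T.cC s (g.psi i)) (T.cC r i)))

end Tabs

variable {D : ChevalleyDatum} {T : Tabs}

theorem OK.mem_symList (ok : OK D T) {π : Equiv.Perm (Fin D.rank)} (hπ : D.IsDiagramSymmetry π) :
    ∀ n, ∀ hn : n ≤ D.rank,
      List.ofFn (fun i : Fin n => (π ⟨i, i.isLt.trans_le hn⟩ : ℕ)) ∈ T.symList D n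
  | 0, _ => by simp [Tabs.symList]
  | n + 1, hn => by
    have ih := mem_symList ok hπ n (Nat.le_of_succ_le hn)
    simp only [Tabs.symList, flatR_eq, List.mem_flatMap, upTo_eq, List.mem_range]
    refine ⟨_, ih, (π ⟨n, hn⟩ : ℕ), (π ⟨n, hn⟩).isLt, ?_⟩
    rw [allR_iff.mpr fun j hj => ?_]
    · show _ ∈ [appR _ _]
      rw [appR_eq, List.mem_singleton, List.ofFn_succ', List.concat_eq_append]
      rfl
    · rw [List.getD_eq_getElem _ _ (by simpa using hj), List.getElem_ofFn]
      have hjr : j < D.rank := hj.trans_le (Nat.le_of_succ_le hn)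
      simp only [andR_iff, notR_iff, nbeq_false_iff, ieq_iff]
      have hne : (⟨j, hjr⟩ : Fin D.rank) ≠ ⟨n, hn⟩ := fun e => by
        have := congrArg Fin.val e; simp only at this; omega
      refine ⟨fun e => hne (π.injective (Fin.ext e)), ?_⟩
      have hb := hπ ⟨n, hn⟩ ⟨j, hjr⟩ (Ne.symm hne)
      simp only [ChevalleyDatum.bonds] at hb
      have e : ∀ a b : Fin D.rank, D.cartan a (D.simple b) = T.cA a (T.smp b) := fun a b => by
        rw [ok.simple_eq b.isLt, ok.cartan_eq a.isLt (ok.smp_lt b.isLt)]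
      rw [e, e, e ⟨n, hn⟩ ⟨j, hjr⟩, e ⟨j, hjr⟩ ⟨n, hn⟩] at hb
      exact hb

theorem OK.exists_gtab (ok : OK D T) {gs : List GTab} (h : T.chkSym D gs = true) {π : Equiv.Perm (Fin D.rank)}
    (hπ : D.IsDiagramSymmetry π) : ∃ g ∈ gs, ∀ i : Fin D.rank, g.psi i = π i := by
  simp only [Tabs.chkSym, allL_iff, anyL_iff, allR_iff, Nat.beq_eq] at h
  obtain ⟨g, hg, hgi⟩ := h _ (ok.mem_symList hπ D.rank le_rfl)
  refine ⟨g, hg, fun i => ?_⟩
  rw [hgi i i.isLt, List.getD_eq_getElem _ _ (by simp), List.getElem_ofFn]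

theorem GOK.permRoot_eq {g : GTab} (hg : GOK D T g) (ok : OK D T) (hu : T.chkUniq D g = true)
    {π : Equiv.Perm (Fin D.rank)} (hπ : ∀ i : Fin D.rank, g.psi i = π i) {r : ℕ} (hr : r < D.nroots) :
    D.permRoot π r = g.per r := by
  simp only [Tabs.chkUniq, allR_iff, orR_iff, Nat.beq_eq, notR_iff] at hu
  have hp : ((List.finRange D.rank).all fun i =>
      (D.coroot.getD (g.per r) #[]).getD (π i).val 0 == (D.coroot.getD r #[]).getD i.val 0) = true := by
    simp only [List.all_eq_true, beq_iff_eq]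
    intro i _
    rw [ok.coroot_eq (hg.per_lt hr) (π i).isLt, ok.coroot_eq hr i.isLt, ← hπ i]
    exact ((hg.root_facts hr).2.2.2.2.2.2.2.2 i i.isLt).1
  rw [ChevalleyDatum.permRoot]
  cases hf : (List.range D.nroots).find? (fun s => (List.finRange D.rank).all fun i =>
      (D.coroot.getD s #[]).getD (π i).val 0 == (D.coroot.getD r #[]).getD i.val 0) with
  | none => exact absurd hp (by simpa using List.find?_eq_none.mp hf (g.per r) (List.mem_range.mpr (hg.per_lt hr)))
  | some s =>
    have hs := List.mem_range.mp (List.mem_of_find?_eq_some hf)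
    have hps := List.find?_some hf
    simp only [List.all_eq_true, beq_iff_eq] at hps
    show s = _
    rcases hu r hr s hs with e | e
    · exact e
    · exfalso
      refine Bool.eq_false_iff.mp e (allR_iff.mpr fun i hi => ieq_iff.mpr ?_)
      have := hps ⟨i, hi⟩ (List.mem_finRange _)
      rw [ok.coroot_eq hs (π ⟨i, hi⟩).isLt, ok.coroot_eq hr hi, ← hπ ⟨i, hi⟩] at this
      exact this

end Cfsg.Agent.Chev
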