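import Cfsg.Agent.Lib.Chev.Ident

/-!
Root subgroups, the subgroup generated by all of them, and the torus.
-/

set_option autoImplicit false

namespace Cfsg.Agent.Chev

open Cfsg.Lie

variable {F : Type*} [Field F]

/-- Exponent of the diagonal element of the root `r` at a coordinate. -/
noncomputable def hExp (D : ChevalleyDatum) (T : Tabs) (r : ℕ) : D.Idx → ℤ :=
  Sum.elim (fun _ => 0) fun s => ∑ k ∈ Finset.range D.rank, T.cC r k * T.cA k s

/-- The diagonal matrix with entries `t` to the exponents. -/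
noncomputable def hDiag (D : ChevalleyDatum) (T : Tabs) (r : ℕ) (t : F) : Matrix D.Idx D.Idx F :=
  Matrix.diagonal fun a => t ^ hExp D T r a

namespace OK

variable {D : ChevalleyDatum} {T : Tabs} (ok : OK D T)

include ok

/-- A root element as an invertible matrix. -/
def xG (r : ℕ) (t : F) : GL D.Idx F where
  val := D.x F r t
  inv := D.x F r (-t)
  val_inv := by rw [ok.x_add, add_neg_cancel, ok.x_zero]
  inv_val := by rw [ok.x_add, neg_add_cancel, ok.x_zero]

theorem coe_xG (r : ℕ) (t : F) : (ok.xG r t : Matrix D.Idx D.Idx F) = D.x F r t := rfl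

theorem eq_xG {g : GL D.Idx F} {r : ℕ} {t : F} (h : (g : Matrix D.Idx D.Idx F) = D.x F r t) : g = ok.xG r t :=
  Units.ext h

theorem xG_mul (r : ℕ) (a b : F) : ok.xG r a * ok.xG r b = ok.xG r (a + b) := Units.ext (ok.x_add r a b)

theorem xG_zero (r : ℕ) : ok.xG r (0 : F) = 1 := Units.ext (ok.x_zero r)

theorem xG_inv (r : ℕ) (a : F) : (ok.xG r a)⁻¹ = ok.xG r (-a) := Units.ext rfl

theorem xG_mem_root (r : ℕ) (t : F) : ok.xG r t ∈ D.rootSubgroup F r := Subgroup.subset_closure ⟨t, rfl⟩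

theorem mem_root {r : ℕ} {g : GL D.Idx F} : g ∈ D.rootSubgroup F r ↔ ∃ t : F, g = ok.xG r t := by
  refine ⟨fun h => ?_, fun ⟨t, e⟩ => e ▸ ok.xG_mem_root r t⟩
  induction h using Subgroup.closure_induction with
  | mem g hg => obtain ⟨t, ht⟩ := hg; exact ⟨t, ok.eq_xG ht⟩
  | one => exact ⟨0, (ok.xG_zero r).symm⟩
  | mul a b _ _ ha hb =>
    obtain ⟨s, rfl⟩ := ha; obtain ⟨t, rfl⟩ := hb
    exact ⟨s + t, ok.xG_mul r s t⟩
  | inv a _ ha => obtain ⟨s, rfl⟩ := ha; exact ⟨-s, ok.xG_inv r s⟩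

theorem xG_mem_group (r : ℕ) (t : F) : ok.xG r t ∈ D.group F := by
  by_cases hr : r < D.nroots
  · exact Subgroup.subset_closure ⟨⟨r, hr⟩, t, by rw [coe_xG, ChevalleyDatum.x, dif_pos hr]⟩
  · have : ok.xG r t = 1 := Units.ext (by rw [coe_xG, ChevalleyDatum.x, dif_neg hr]; rfl)
    rw [this]; exact one_mem _

theorem group_le {K : Subgroup (GL D.Idx F)} (h : ∀ r < D.nroots, ∀ t : F, ok.xG r t ∈ K) : D.group F ≤ K := by
  refine (Subgroup.closure_le K).mpr ?_
  rintro g ⟨r, t, hg⟩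
  rw [ok.eq_xG (r := (r : ℕ)) (t := t) (g := g) (by rw [hg, ChevalleyDatum.x, dif_pos r.isLt])]
  exact h r r.isLt t

theorem xG_mem_pos {r : ℕ} (hr : D.IsPosRoot r) (t : F) : ok.xG r t ∈ D.posUnipotent F :=
  Subgroup.subset_closure ⟨r, t, hr, rfl⟩

theorem xG_mem_neg {r : ℕ} (hr : D.IsNegRoot r) (t : F) : ok.xG r t ∈ D.negUnipotent F :=
  Subgroup.subset_closure ⟨r, t, hr, rfl⟩

theorem pos_or_neg {r : ℕ} (hr : r < D.nroots) : D.IsPosRoot r ∨ D.IsNegRoot r := by
  rw [ok.isPos_iff, ok.isNeg_iff]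
  rcases lt_trichotomy (T.htf r) 0 with h | h | h
  · exact Or.inr ⟨hr, h⟩
  · exact absurd h (ok.ht_ne hr)
  · exact Or.inl ⟨hr, h⟩

theorem pos_le_group : D.posUnipotent F ≤ D.group F :=
  (Subgroup.closure_le _).mpr fun _ ⟨r, t, _, hg⟩ => ok.eq_xG hg ▸ ok.xG_mem_group r t

theorem neg_le_group : D.negUnipotent F ≤ D.group F :=
  (Subgroup.closure_le _).mpr fun _ ⟨r, t, _, hg⟩ => ok.eq_xG hg ▸ ok.xG_mem_group r t

theorem pos_sup_neg : D.posUnipotent F ⊔ D.negUnipotent F = D.group F :=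
  le_antisymm (sup_le ok.pos_le_group ok.neg_le_group) <| ok.group_le fun r hr t => by
    rcases ok.pos_or_neg hr with h | h
    · exact le_sup_left (b := D.negUnipotent F) (ok.xG_mem_pos h t)
    · exact le_sup_right (a := D.posUnipotent F) (ok.xG_mem_neg h t)

/-! ### Words -/

/-- A word as an invertible matrix. -/
def wordG (w : List (ℕ × F)) : GL D.Idx F := (w.map fun p => ok.xG p.1 p.2).prod

theorem coe_wordG : ∀ w : List (ℕ × F), (ok.wordG w : Matrix D.Idx D.Idx F) = D.wordMat F w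
  | [] => by simp [wordG, wordMat_nil]
  | (r, t) :: w => by
    rw [wordMat_cons, ← coe_wordG w, wordG, List.map_cons, List.prod_cons, Units.val_mul]
    rfl

theorem wordG_mem (w : List (ℕ × F)) : ok.wordG w ∈ D.group F := by
  refine list_prod_mem fun g hg => ?_
  obtain ⟨p, -, rfl⟩ := List.mem_map.mp hg
  exact ok.xG_mem_group _ _

/-- `n_r(t)`. -/
def nG (r : ℕ) (t : F) : GL D.Idx F := ok.wordG (D.nWord r t)

/-- `h_r(t)`. -/
def hG (r : ℕ) (t : F) : GL D.Idx F := ok.wordG (D.hWord r t)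

theorem coe_nG (r : ℕ) (t : F) : (ok.nG r t : Matrix D.Idx D.Idx F) = D.nMat F r t := ok.coe_wordG _

theorem coe_hG (r : ℕ) (t : F) : (ok.hG r t : Matrix D.Idx D.Idx F) = D.hMat F r t := ok.coe_wordG _

theorem hG_eq (r : ℕ) (t : F) : ok.hG r t = ok.nG r t * ok.nG r (-1) := by
  simp only [hG, nG, wordG, ChevalleyDatum.hWord, List.map_append, List.prod_append]

theorem nG_eq {r : ℕ} (hr : r < D.nroots) (t : F) :
    ok.nG r t = ok.xG r t * ok.xG (T.neg r) (-t⁻¹) * ok.xG r t := by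
  simp [nG, wordG, ChevalleyDatum.nWord, ok.neg_eq hr, mul_assoc]

theorem nG_inv {r : ℕ} (hr : r < D.nroots) (t : F) : (ok.nG r t)⁻¹ = ok.nG r (-t) := by
  rw [ok.nG_eq hr, ok.nG_eq hr]
  simp [xG_inv, inv_neg, mul_assoc]

theorem hG_one {r : ℕ} (hr : r < D.nroots) : ok.hG r (1 : F) = 1 := by
  rw [hG_eq, ← ok.nG_inv hr, mul_inv_cancel]

theorem nG_mul_nG_neg {r : ℕ} (hr : r < D.nroots) (a b : F) :
    ok.nG r a * ok.nG r (-b) = ok.hG r a * (ok.hG r b)⁻¹ := by
  rw [← ok.nG_inv hr, hG_eq, hG_eq, mul_inv_rev]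
  group

/-! ### Diagonal matrices -/

theorem hExp_simple {i : ℕ} (hi : i < D.rank) (s : Fin D.nroots) :
    hExp D T (T.smp i) (Sum.inr s) = T.cA i s := by
  simp only [hExp, Sum.elim_inr]
  rw [Finset.sum_eq_single i]
  · rw [ok.cC_smp hi hi, if_pos rfl, one_mul]
  · intro k hk hki
    rw [ok.cC_smp hi (Finset.mem_range.mp hk), if_neg hki, zero_mul]
  · intro h; exact absurd (Finset.mem_range.mpr hi) h

theorem hMat_simple {i : ℕ} (hi : i < D.rank) {t : F} (ht : t ≠ 0) :
    D.hMat F (T.smp i) t = hDiag D T (T.smp i) t := by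
  rw [← ok.simple_eq hi, ok.hMat_eq hi ht, hDiag]
  congr 1
  funext a
  rcases a with a | s
  · simp [hExp]
  · rw [Sum.elim_inr, ok.cartan_eq hi s.isLt, ok.simple_eq hi, ok.hExp_simple hi]

theorem sum_pair {i s : ℕ} : T.pair D i s = ∑ k ∈ Finset.range D.rank, T.cC s k * T.cA k (T.smp i) := by
  rw [Tabs.pair]
  induction D.rank with
  | zero => rfl
  | succ n ih =>
    rw [Finset.sum_range_succ]
    show Int.add _ _ = _
    rw [ih]; rfl

theorem cC_refl {i s j : ℕ} (hi : i < D.rank) (hj : j < D.rank) (hs : s < D.nroots) :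
    T.cC (T.refl i s) j = T.cC s j - if j = i then T.pair D i s else 0 := by
  have h := ok.refl_ok i hi s hs
  simp only [Tabs.chkRefl, andR_iff, allR_iff, ieq_iff] at h
  rw [(h.2.2.2.2.2.2.2.2 j hj).2]
  by_cases e : j = i
  · rw [if_pos e, Nat.beq_eq.mpr e]
  · rw [if_neg e, nbeq_false_iff.mpr e]

theorem hExp_refl {i r : ℕ} (hi : i < D.rank) (hr : r < D.nroots) (s : Fin D.nroots) :
    hExp D T (T.refl i r) (Sum.inr s) = ∑ k ∈ Finset.range D.rank, T.cC r k * T.cA k (T.refl i s) := by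
  simp only [hExp, Sum.elim_inr]
  calc ∑ k ∈ Finset.range D.rank, T.cC (T.refl i r) k * T.cA k s
      = ∑ k ∈ Finset.range D.rank, (T.cC r k * T.cA k s - if k = i then T.pair D i r * T.cA i s else 0) := by
        refine Finset.sum_congr rfl fun k hk => ?_
        rw [ok.cC_refl hi (Finset.mem_range.mp hk) hr]
        by_cases e : k = i
        · subst e; simp; ring
        · simp [e]
    _ = (∑ k ∈ Finset.range D.rank, T.cC r k * T.cA k s) - T.pair D i r * T.cA i s := by
        rw [Finset.sum_sub_distrib, Finset.sum_ite_eq' (Finset.range D.rank) i, if_pos (Finset.mem_range.mpr hi)]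
    _ = _ := by
        rw [ok.sum_pair, Finset.sum_mul, ← Finset.sum_sub_distrib]
        refine Finset.sum_congr rfl fun k hk => ?_
        rw [ok.cA_refl hi (Finset.mem_range.mp hk) s.isLt]
        ring

theorem hDiag_mul {r : ℕ} {a b : F} : hDiag D T r a * hDiag D T r b = hDiag D T r (a * b) := by
  simp [hDiag, Matrix.diagonal_mul_diagonal, mul_zpow]

theorem hDiag_one (r : ℕ) : hDiag D T r (1 : F) = 1 := by simp [hDiag, one_zpow]

/-- A fundamental monomial matrix moves a diagonal matrix. -/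
theorem n_mul_diag {i : ℕ} (hi : i < D.rank) (d e : D.Idx → F)
    (hl : ∀ a : Fin D.rank, d (Sum.inl a) = e (Sum.inl a)) (hl' : ∀ a b : Fin D.rank, e (Sum.inl a) = e (Sum.inl b))
    (hr : ∀ s u : Fin D.nroots, (u : ℕ) = T.refl i s → d (Sum.inr s) = e (Sum.inr u)) :
    D.nMat F (D.simple i) 1 * Matrix.diagonal d = Matrix.diagonal e * D.nMat F (D.simple i) 1 := by
  ext a b
  rw [Matrix.mul_diagonal, Matrix.diagonal_mul]
  have h := ok.rep_nMat_one (F := F) hi 1 1 a b
  rcases b with b | s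
  · simp only [Tabs.MC, phi, Sum.elim_inl, nlt_iff.mpr b.isLt, valEn, List.map_cons, List.map_nil] at h
    rcases a with a | u
    · rw [hl b, hl' a b, mul_comm]
    · have h1 : (b : ℕ) ≠ D.rank + (u : ℕ) := by omega
      have h2 : i ≠ D.rank + (u : ℕ) := by omega
      simp [h1, h2] at h
      rw [h, zero_mul, mul_zero]
  · simp only [Tabs.MC, phi, Sum.elim_inr, nlt_false_iff.mpr (Nat.le_add_right D.rank (s : ℕ)), valEn_single,
      Nat.sub_eq, Nat.add_eq, Nat.add_sub_cancel_left] at h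
    rcases a with a | u
    · have h1 : D.rank + T.refl i s ≠ (a : ℕ) := by omega
      simp [h1] at h
      rw [h, zero_mul, mul_zero]
    · by_cases e' : (u : ℕ) = T.refl i s
      · rw [hr s u e', mul_comm]
      · simp [Ne.symm e'] at h
        rw [h, zero_mul, mul_zero]

theorem n_hDiag {i r : ℕ} (hi : i < D.rank) (hr : r < D.nroots) (t : F) :
    D.nMat F (D.simple i) 1 * hDiag D T r t = hDiag D T (T.refl i r) t * D.nMat F (D.simple i) 1 := by
  refine ok.n_mul_diag hi _ _ (fun a => by simp [hExp]) (fun a b => by simp [hExp]) fun s u e => ?_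
  rw [ok.hExp_refl hi hr u, e, ok.refl_refl hi s.isLt]
  rfl

theorem coe_nG_simple {i : ℕ} (hi : i < D.rank) (t : F) :
    (ok.nG (T.smp i) t : Matrix D.Idx D.Idx F) = D.nMat F (D.simple i) t := by
  rw [coe_nG, ok.simple_eq hi]

theorem n_xG {i s : ℕ} (hi : i < D.rank) (hs : s < D.nroots) (t : F) :
    ok.nG (T.smp i) 1 * ok.xG s t * (ok.nG (T.smp i) 1)⁻¹ = ok.xG (T.refl i s) ((T.eta i s : F) * t) := by
  rw [mul_inv_eq_iff_eq_mul]
  refine Units.ext ?_
  rw [Units.val_mul, Units.val_mul, ok.coe_nG_simple hi, coe_xG, coe_xG]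
  exact ok.conj_n hi hs t

theorem n_nG {i r : ℕ} (hi : i < D.rank) (hr : r < D.nroots) (t : F) :
    ok.nG (T.smp i) 1 * ok.nG r t * (ok.nG (T.smp i) 1)⁻¹ = ok.nG (T.refl i r) ((T.eta i r : F) * t) := by
  have e : (T.eta i (T.neg r) : F) = (T.eta i r : F)⁻¹ := by
    refine eq_inv_of_mul_eq_one_right ?_
    rw [← Int.cast_mul, ok.eta_neg hi hr, Int.cast_one]
  rw [ok.nG_eq hr, ok.nG_eq (ok.refl_lt hi hr), ← conj_mul, ← conj_mul, ok.n_xG hi hr,
    ok.n_xG hi (ok.neg_lt hr), ok.refl_neg hi hr, e, mul_inv, mul_neg]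

theorem hMat_all {r : ℕ} (hr : r < D.nroots) : ∀ t : F, t ≠ 0 → D.hMat F r t = hDiag D T r t := by
  suffices h : ∀ (L : List (ℕ × Option (ℕ × ℕ))) (seen : List ℕ), T.chkOrder D L seen = true →
      (∀ e ∈ L, e ∈ T.order) → (∀ a ∈ seen, a < D.nroots ∧ ∀ t : F, t ≠ 0 → D.hMat F a t = hDiag D T a t) →
      ∀ r < D.nroots, ∀ t : F, t ≠ 0 → D.hMat F r t = hDiag D T r t from
    h T.order [] ok.order (fun _ => id) (by simp) r hr
  intro L
  induction L with
  | nil =>
    intro seen h _ hs r hr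
    replace h : allR D.nroots (fun r => anyL (fun s => Nat.beq s r) seen) = true := h
    simp only [allR_iff, anyL_iff, Nat.beq_eq] at h
    obtain ⟨a, ha, rfl⟩ := h r hr
    exact (hs a ha).2
  | cons x L ih =>
    obtain ⟨a, o⟩ := x
    intro seen h hL hs r hr
    replace h : andR (nlt a D.nroots) (andR (@Option.rec (ℕ × ℕ) (fun _ => Bool) true
        (fun q => andR (nlt q.1 D.rank) <| andR (anyL (fun s => Nat.beq s q.2) seen) <|
          Nat.beq (T.refl q.1 q.2) a) o) (T.chkOrder D L (a :: seen))) = true := h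
    simp only [andR_iff, nlt_iff] at h
    refine ih (a :: seen) h.2.2 (fun e he => hL e (List.mem_cons_of_mem _ he)) ?_ r hr
    intro b hb
    rcases List.mem_cons.mp hb with rfl | hb
    swap
    · exact hs b hb
    refine ⟨h.1, ?_⟩
    rcases o with _ | ⟨i, c⟩
    · obtain ⟨i, hi, rfl⟩ := ok.rep_simple (r := b) (by
        simp only [Tabs.reps, flatR_eq, List.mem_flatMap]
        exact ⟨_, hL _ List.mem_cons_self, List.mem_singleton.mpr rfl⟩)
      exact fun t ht => ok.hMat_simple hi ht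
    · have h2 := h.2.1
      simp only [andR_iff, nlt_iff, anyL_iff, Nat.beq_eq] at h2
      obtain ⟨hi, ⟨c', hc, rfl⟩, rfl⟩ := h2
      obtain ⟨hcn, hcd⟩ := hs _ hc
      set η : F := (T.eta i c' : F) with hη
      have key : ∀ t : F, t ≠ 0 →
          ((ok.hG (T.refl i c') (η * t) * (ok.hG (T.refl i c') η)⁻¹ : GL D.Idx F) : Matrix D.Idx D.Idx F) =
            hDiag D T (T.refl i c') t := by
        intro t ht
        have hconj : ok.hG (T.refl i c') (η * t) * (ok.hG (T.refl i c') η)⁻¹ =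
            ok.nG (T.smp i) 1 * ok.hG c' t * (ok.nG (T.smp i) 1)⁻¹ := by
          rw [← ok.nG_mul_nG_neg (ok.refl_lt hi hcn), ok.hG_eq c', ← conj_mul, ok.n_nG hi hcn,
            ok.n_nG hi hcn, mul_neg, mul_one]
        rw [hconj, Units.val_mul, Units.val_mul, ok.coe_nG_simple hi, coe_hG, hcd t ht, ok.n_hDiag hi hcn,
          ← ok.coe_nG_simple hi, mul_assoc, Units.mul_inv, mul_one]
      intro t ht
      rcases ok.eta_unit hi hcn with e | e
      · have := key t ht
        rw [hη, e, Int.cast_one, one_mul, ok.hG_one (ok.refl_lt hi hcn), inv_one, mul_one, coe_hG] at this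
        exact this
      · have hm : η = -1 := by rw [hη, e]; simp
        rw [hm] at key
        have e1 : ∀ u : F, u ≠ 0 → D.hMat F (T.refl i c') u =
            hDiag D T (T.refl i c') (-u) * (ok.hG (T.refl i c') (-1 : F) : Matrix D.Idx D.Idx F) := by
          intro u hu
          rw [← key (-u) (neg_ne_zero.mpr hu), Units.val_mul, neg_one_mul, neg_neg, mul_assoc, Units.inv_mul,
            mul_one, coe_hG]
        have e2 := e1 1 one_ne_zero
        rw [← ok.coe_hG, ok.hG_one (ok.refl_lt hi hcn)] at e2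
        have e3 : (ok.hG (T.refl i c') (-1 : F) : Matrix D.Idx D.Idx F) = hDiag D T (T.refl i c') (-1) := by
          calc (ok.hG (T.refl i c') (-1 : F) : Matrix D.Idx D.Idx F)
              = hDiag D T (T.refl i c') (-1) * hDiag D T (T.refl i c') (-1) *
                  (ok.hG (T.refl i c') (-1 : F) : Matrix D.Idx D.Idx F) := by
                rw [ok.hDiag_mul, show (-1 : F) * -1 = 1 by ring, ok.hDiag_one, one_mul]
            _ = _ := by rw [mul_assoc, ← e2]; simp
        rw [e1 t ht, e3, ok.hDiag_mul, show -t * -1 = t by ring]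

end OK

end Cfsg.Agent.Chev
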