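import Cfsg.Agent.Lib.Chev.Weyl

/-! The order of the Coxeter group, the central words and the generation criterion. -/

set_option autoImplicit false

namespace Cfsg.Agent.Chev

open Cfsg.Lie

variable {D : ChevalleyDatum} {T : Tabs} {M : CoxeterMatrix (Fin D.rank)}

/-- The product of a word in the Coxeter group. -/
def wprod (M : CoxeterMatrix (Fin D.rank)) (w : List (Fin D.rank)) : M.Group := (w.map M.simple).prod

theorem wprod_surjective (g : M.Group) : ∃ w, wprod M w = g := by
  obtain ⟨w, rfl⟩ := M.toCoxeterSystem.wordProd_surjective g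
  exact ⟨w, by simp only [wprod, CoxeterSystem.wordProd, CoxeterMatrix.toCoxeterSystem_simple]⟩

theorem wprod_append (u v : List (Fin D.rank)) : wprod M (u ++ v) = wprod M u * wprod M v := by simp [wprod]

theorem wprod_cons (i : Fin D.rank) (v : List (Fin D.rank)) : wprod M (i :: v) = M.simple i * wprod M v := rfl

theorem simple_sq (i : Fin D.rank) : M.simple i * M.simple i = 1 := by
  rw [← CoxeterMatrix.toCoxeterSystem_simple]
  exact M.toCoxeterSystem.simple_mul_simple_self i

theorem wprod_reverse (u : List (Fin D.rank)) : wprod M u.reverse = (wprod M u)⁻¹ := by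
  induction u with
  | nil => simp [wprod]
  | cons i u ih =>
    rw [List.reverse_cons, wprod_append, ih, wprod_cons, wprod_cons, mul_inv_rev,
      inv_eq_of_mul_eq_one_right (simple_sq i)]
    simp [wprod]

theorem wprod_replicate (u : List (Fin D.rank)) : ∀ k : ℕ, wprod M (List.replicate k u).flatten = wprod M u ^ k
  | 0 => by simp [wprod]
  | k + 1 => by rw [List.replicate_succ, List.flatten_cons, wprod_append, wprod_replicate u k, pow_succ']

/-- A word of numbers as a word of generators. -/
def finW (D : ChevalleyDatum) (w : List ℕ) : List (Fin D.rank) :=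
  w.filterMap fun a => if h : a < D.rank then some ⟨a, h⟩ else none

theorem finW_val {w : List ℕ} (h : ∀ a ∈ w, a < D.rank) : (finW D w).map Fin.val = w := by
  induction w with
  | nil => rfl
  | cons a w ih =>
    have ha := h a List.mem_cons_self
    simp only [finW, List.filterMap_cons, dif_pos ha, List.map_cons]
    congr 1
    exact ih fun b hb => h b (List.mem_cons_of_mem _ hb)

/-- The two words agree on the fundamental roots. -/
noncomputable def Tabs.eqW (D : ChevalleyDatum) (T : Tabs) (u v : List ℕ) : Bool :=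
  eqL Nat.beq (Tabs.imgs D T u) (Tabs.imgs D T v)

namespace OKX

variable (ok : OKX D T) (hM : CoxOK D T M)

include ok hM

theorem wprod_eq_iff (u v : List (Fin D.rank)) :
    wprod M u = wprod M v ↔ Tabs.eqW D T (u.map Fin.val) (v.map Fin.val) = true := by
  have hb : ∀ l l' : List ℕ, eqL Nat.beq l l' = true ↔ l = l' := fun l l' => by
    refine ⟨eq_of_eqL (fun a b h => Nat.eq_of_beq_eq_true h), ?_⟩
    rintro rfl
    induction l with
    | nil => rfl
    | cons x l ih => show andR (Nat.beq x x) (eqL Nat.beq l l) = true; rw [ih]; simp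
  rw [wprod, wprod, ok.word_eq_iff hM, Tabs.eqW, hb, Tabs.imgs, Tabs.imgs, mapR_eq, mapR_eq, upTo_eq,
    List.map_inj_left]
  simp [Tabs.piR_eq, List.mem_range]

theorem card_weyl {K : List ℕ} (hKlt : ∀ k ∈ K, k < D.rank) (hK : ∀ k < D.rank, k ∈ K) {L : List (List ℕ)}
    (hL : Trans D T K L) : Nat.card M.Group = L.length := by
  have hmem : ∀ w ∈ L, ∀ a ∈ w, a < D.rank := fun w hw a ha => hKlt a (hL.mem w hw a ha)
  rw [← Nat.card_fin L.length]
  refine (Nat.card_congr (Equiv.ofBijective (fun k : Fin L.length => wprod M (finW D L[k.val])) ⟨?_, ?_⟩)).symm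
  · intro a b h
    by_contra hne
    simp only at h
    rw [wprod, wprod, ok.word_eq_iff hM, finW_val (hmem _ (List.getElem_mem a.isLt)),
      finW_val (hmem _ (List.getElem_mem b.isLt))] at h
    have key : ∀ i j : Fin L.length, i.val < j.val → (∀ k < D.rank, piW T L[i.val] (T.smp k) = piW T L[j.val] (T.smp k)) →
        False := by
      intro i j hij he
      obtain ⟨r, hr, hrn⟩ := (List.pairwise_iff_getElem.mp hL.distinct) i.val j.val i.isLt j.isLt hij
      exact hrn (ok.piW_ext (hmem _ (List.getElem_mem i.isLt)) (hmem _ (List.getElem_mem j.isLt)) he hr)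
    rcases Nat.lt_or_gt_of_ne (fun e => hne (Fin.ext e)) with hlt | hlt
    · exact key a b hlt h
    · exact key b a hlt fun k hk => (h k hk).symm
  · intro g
    obtain ⟨w, rfl⟩ := wprod_surjective g
    obtain ⟨v, hv, he⟩ := hL.complete (w.map Fin.val) fun i hi => by
      obtain ⟨j, -, rfl⟩ := List.mem_map.mp hi
      exact hK _ j.isLt
    obtain ⟨k, hk, rfl⟩ := List.getElem_of_mem hv
    refine ⟨⟨k, hk⟩, ?_⟩
    show wprod M (finW D L[k]) = wprod M w
    rw [wprod, wprod, ok.word_eq_iff hM, finW_val (hmem _ (List.getElem_mem hk))]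
    exact fun j hj => (he _ (ok.toOK.smp_lt hj)).symm

theorem orderOf_wprod {u : List (Fin D.rank)} {h : ℕ} (h0 : 0 < h)
    (h1 : Tabs.eqW D T ((List.replicate h (u.map Fin.val)).flatten) [] = true)
    (h2 : ∀ k : Fin h, k.val = 0 ∨ Tabs.eqW D T ((List.replicate k.val (u.map Fin.val)).flatten) [] = false) :
    orderOf (wprod M u) = h := by
  have e : ∀ k, wprod M u ^ k = 1 ↔ Tabs.eqW D T ((List.replicate k (u.map Fin.val)).flatten) [] = true := by
    intro k
    rw [← wprod_replicate, show (1 : M.Group) = wprod M ([] : List (Fin D.rank)) from rfl,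
      ok.wprod_eq_iff hM, List.map_flatten, List.map_replicate, List.map_nil]
  rw [orderOf_eq_iff h0]
  refine ⟨(e h).mpr h1, fun k hk hk0 hpow => ?_⟩
  rcases h2 ⟨k, hk⟩ with h' | h'
  · exact absurd (show k = 0 from h') hk0.ne'
  · rw [(e k).mp hpow] at h'
    exact absurd h' (by simp)

end OKX

end Cfsg.Agent.Chev
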