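import Cfsg.Agent.Lib.BN.HeckeCosets
import Cfsg.Agent.Lib.Char.PermCenter
import Cfsg.Agent.Lib.Chev.HeckeRel
import Cfsg.Agent.Lib.Chev.DefectZero
import Cfsg.Agent.Lib.Chev.WeylGroup
import Mathlib.Algebra.Polynomial.Roots
import Mathlib.RingTheory.Localization.FractionRing
import Mathlib.Algebra.Field.ZMod
import Mathlib.LinearAlgebra.Matrix.Rank

/-!
The number of constituents of the permutation character on the cosets of a Borel subgroup of a Chevalley group is
the number of classes of the Weyl group: the two centres are specialisations of one polynomial family.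
-/

set_option autoImplicit false
set_option linter.style.haveILetI false

namespace Cfsg.Agent.Chev

open Cfsg Cfsg.Lie Cfsg.Agent.BN Cfsg.Agent.Char
open scoped Matrix

/-! ### Ranks of specialisations -/

section Rank

variable {m n : Type*} [Fintype m] [Fintype n]

local notation "Kx" => FractionRing (Polynomial ℂ)

theorem rank_eval_le (M : Matrix m n (Polynomial ℂ)) (a : ℂ) :
    (M.map (Polynomial.eval a)).rank ≤ (M.map (algebraMap (Polynomial ℂ) Kx)).rank := by
  classical
  set Ma := M.map (Polynomial.eval a) with hMa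
  let bR := Module.finBasis ℂ (LinearMap.range Ma.mulVecLin)
  have hv : ∀ i, ∃ v, Ma.mulVecLin v = (bR i : m → ℂ) := fun i => LinearMap.mem_range.mp (bR i).2
  choose v hv using hv
  let Q : Matrix n (Fin (Module.finrank ℂ (LinearMap.range Ma.mulVecLin))) ℂ := Matrix.of fun j i => v i j
  have hinj : Function.Injective (Ma * Q).mulVecLin := by
    rw [← LinearMap.ker_eq_bot, LinearMap.ker_eq_bot']
    intro c hc
    have h1 : ∑ i, c i • (bR i : m → ℂ) = 0 := by
      rw [← hc, Matrix.mulVecLin_apply, ← Matrix.mulVec_mulVec]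
      funext j
      simp only [Finset.sum_apply, Pi.smul_apply, smul_eq_mul]
      have hQ : Q *ᵥ c = ∑ i, c i • v i := by
        funext l; simp [Q, Matrix.mulVec, dotProduct, mul_comm]
      rw [hQ, Matrix.mulVec_sum]
      simp only [Matrix.mulVec_smul, Finset.sum_apply, Pi.smul_apply, smul_eq_mul]
      exact Finset.sum_congr rfl fun i _ => by rw [← hv i]; rfl
    have h2 : ∑ i, c i • bR i = 0 := Subtype.ext (by simpa using h1)
    funext i
    exact Fintype.linearIndependent_iff.mp bR.linearIndependent c h2 i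
  obtain ⟨g, hg⟩ := LinearMap.exists_leftInverse_of_injective _ (LinearMap.ker_eq_bot.mpr hinj)
  have hP : LinearMap.toMatrix' g * (Ma * Q) = 1 := by
    apply Matrix.toLin'.injective
    rw [Matrix.toLin'_mul, Matrix.toLin'_toMatrix', Matrix.toLin'_one]
    exact hg
  let φ := algebraMap (Polynomial ℂ) Kx
  set N : Matrix (Fin (Module.finrank ℂ (LinearMap.range Ma.mulVecLin))) (Fin (Module.finrank ℂ (LinearMap.range Ma.mulVecLin))) (Polynomial ℂ) := (LinearMap.toMatrix' g).map Polynomial.C * (M * Q.map Polynomial.C)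
  have hN : (Polynomial.evalRingHom a).mapMatrix N = 1 := by
    rw [← hP]
    simp only [N, RingHom.mapMatrix_apply, Matrix.map_mul, hMa]
    congr 1
    · ext i j; simp [Matrix.map_apply]
    congr 1
    ext i j; simp [Matrix.map_apply]
  have hdet : φ N.det ≠ 0 := by
    rw [Ne, map_eq_zero_iff φ (IsFractionRing.injective (Polynomial ℂ) Kx)]
    intro h0
    have := RingHom.map_det (Polynomial.evalRingHom a) N
    rw [hN, Matrix.det_one, h0, map_zero] at this
    exact zero_ne_one this
  have hu : IsUnit (φ.mapMatrix N) := (Matrix.isUnit_iff_isUnit_det _).mpr (by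
    rw [← RingHom.map_det]; exact isUnit_iff_ne_zero.mpr hdet)
  have h3 := Matrix.rank_of_isUnit _ hu
  rw [Fintype.card_fin] at h3
  calc (M.map (Polynomial.eval a)).rank = (Module.finrank ℂ (LinearMap.range Ma.mulVecLin)) := rfl
    _ = (φ.mapMatrix N).rank := h3.symm
    _ ≤ _ := by
      simp only [N, RingHom.mapMatrix_apply, Matrix.map_mul]
      exact (Matrix.rank_mul_le_right _ _).trans (Matrix.rank_mul_le_left _ _)

theorem rank_mul_zero_le {R : Type*} [Field R] (A : Matrix m n R) (B : Matrix n n R) (h : A * B = 0) :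
    A.rank + B.rank ≤ Fintype.card n := by
  classical
  have h1 : LinearMap.range B.mulVecLin ≤ LinearMap.ker A.mulVecLin := by
    rintro _ ⟨v, rfl⟩
    rw [LinearMap.mem_ker, Matrix.mulVecLin_apply, Matrix.mulVecLin_apply, Matrix.mulVec_mulVec, h, Matrix.zero_mulVec]
  have h2 := LinearMap.finrank_range_add_finrank_ker A.mulVecLin
  rw [Module.finrank_pi] at h2
  calc A.rank + B.rank ≤ A.rank + Module.finrank R (LinearMap.ker A.mulVecLin) :=
        Nat.add_le_add_left (Submodule.finrank_mono h1) _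
    _ = _ := h2

/-- At a point where the kernel is the image, its dimension is the generic rank. -/
theorem finrank_ker_eval (A : Matrix m n (Polynomial ℂ)) (B : Matrix n n (Polynomial ℂ)) (h : A * B = 0) (a : ℂ)
    (hker : LinearMap.ker (A.map (Polynomial.eval a)).mulVecLin ≤ LinearMap.range (B.map (Polynomial.eval a)).mulVecLin) :
    Module.finrank ℂ (LinearMap.ker (A.map (Polynomial.eval a)).mulVecLin) =
      (B.map (algebraMap (Polynomial ℂ) Kx)).rank := by
  classical
  have ha : A.map (Polynomial.eval a) * B.map (Polynomial.eval a) = 0 := by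
    show A.map (Polynomial.evalRingHom a) * B.map (Polynomial.evalRingHom a) = 0
    rw [← Matrix.map_mul, h]
    exact Matrix.map_zero _ (map_zero _)
  have hK : A.map (algebraMap (Polynomial ℂ) Kx) * B.map (algebraMap (Polynomial ℂ) Kx) = 0 := by
    rw [← Matrix.map_mul, h]
    exact Matrix.map_zero _ (map_zero _)
  have h1 := rank_mul_zero_le _ _ ha
  have h2 := rank_mul_zero_le _ _ hK
  have h3 : Module.finrank ℂ (LinearMap.ker (A.map (Polynomial.eval a)).mulVecLin) ≤ (B.map (Polynomial.eval a)).rank :=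
    Submodule.finrank_mono hker
  have h4 := LinearMap.finrank_range_add_finrank_ker (A.map (Polynomial.eval a)).mulVecLin
  rw [Module.finrank_pi] at h4
  have h5 := rank_eval_le A a
  have h6 := rank_eval_le B a
  simp only [Matrix.rank] at h1 h2 h3 h4 h5 h6 ⊢
  omega

end Rank

/-! ### Counting the elements moving two cosets to two cosets -/

section Count

variable {G : Type*} [Group G] {U : Subgroup G} [Fintype G] [Fintype (G ⧸ U)]

open Classical in
theorem count_smul {m : G} {x a y b : G ⧸ U} (hyb : y.out⁻¹ * b.out ∈ DoubleCoset.doubleCoset m (U : Set G) U) :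
    Nat.card {h : G // h • y = x ∧ h • b = a} * mcount U m =
      if x.out⁻¹ * a.out ∈ DoubleCoset.doubleCoset m (U : Set G) U then Nat.card U else 0 := by
  set b' : G ⧸ U := ((y.out⁻¹ * b.out : G) : G ⧸ U) with hb'
  set a' : G ⧸ U := ((x.out⁻¹ * a.out : G) : G ⧸ U) with ha'
  have e1 : Nat.card {h : G // h • y = x ∧ h • b = a} = Nat.card {u : U // u • b' = a'} := by
    refine Nat.card_congr ⟨fun h => ⟨⟨x.out⁻¹ * h.1 * y.out, ?_⟩, ?_⟩,
      fun u => ⟨x.out * u.1.1 * y.out⁻¹, ?_, ?_⟩, fun h => ?_, fun u => ?_⟩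
    · have h1 : ((h.1 * y.out : G) : G ⧸ U) = (x.out : G ⧸ U) := by
        rw [QuotientGroup.out_eq']
        exact (congrArg (h.1 • ·) (QuotientGroup.out_eq' y)).trans h.2.1
      have := inv_mem (QuotientGroup.eq.mp h1)
      simpa [mul_assoc] using this
    · show (x.out⁻¹ * h.1 * y.out) • b' = a'
      have h1 : ((h.1 * b.out : G) : G ⧸ U) = (a.out : G ⧸ U) := by
        rw [QuotientGroup.out_eq']
        exact (congrArg (h.1 • ·) (QuotientGroup.out_eq' b)).trans h.2.2
      rw [hb', ha', MulAction.Quotient.smul_mk, smul_eq_mul,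
        show x.out⁻¹ * h.1 * y.out * (y.out⁻¹ * b.out) = x.out⁻¹ * (h.1 * b.out) by simp [mul_assoc],
        ← smul_eq_mul (x.out⁻¹), ← MulAction.Quotient.smul_mk, h1, MulAction.Quotient.smul_mk]
      rfl
    · refine (congrArg ((x.out * u.1.1 * y.out⁻¹) • ·) (QuotientGroup.out_eq' y).symm).trans ?_
      show (((x.out * u.1.1 * y.out⁻¹) * y.out : G) : G ⧸ U) = x
      rw [inv_mul_cancel_right, QuotientGroup.mk_mul_of_mem _ u.1.2, QuotientGroup.out_eq']
    · have h2 : ((u.1.1 * (y.out⁻¹ * b.out) : G) : G ⧸ U) = ((x.out⁻¹ * a.out : G) : G ⧸ U) := u.2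
      refine (congrArg ((x.out * u.1.1 * y.out⁻¹) • ·) (QuotientGroup.out_eq' b).symm).trans ?_
      show (((x.out * u.1.1 * y.out⁻¹) * b.out : G) : G ⧸ U) = a
      rw [show x.out * u.1.1 * y.out⁻¹ * b.out = x.out * (u.1.1 * (y.out⁻¹ * b.out)) by simp [mul_assoc],
        ← smul_eq_mul x.out, ← MulAction.Quotient.smul_mk, h2, MulAction.Quotient.smul_mk, smul_eq_mul,
        mul_inv_cancel_left, QuotientGroup.out_eq']
    · exact Subtype.ext (by simp [mul_assoc])
    · exact Subtype.ext (Subtype.ext (by simp [mul_assoc]))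
  rw [e1]
  have horb : ∀ z : G ⧸ U, z ∈ MulAction.orbit U b' ↔ z.out ∈ DoubleCoset.doubleCoset m (U : Set G) U := by
    intro z
    obtain ⟨c, hc, d, hd, e⟩ := DoubleCoset.mem_doubleCoset.mp hyb
    have hb'm : b' = ((c * m : G) : G ⧸ U) := by rw [hb', e, QuotientGroup.mk_mul_of_mem _ hd]
    constructor
    · rintro ⟨u, rfl⟩
      show ((u : G) • b').out ∈ _
      rw [hb'm, MulAction.Quotient.smul_mk, out_dc_iff, smul_eq_mul]
      exact DoubleCoset.mem_doubleCoset.mpr ⟨(u : G) * c, mul_mem u.2 hc, 1, one_mem U, by simp [mul_assoc]⟩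
    · intro hz
      obtain ⟨c', hc', d', hd', e'⟩ := DoubleCoset.mem_doubleCoset.mp hz
      refine ⟨⟨c' * c⁻¹, mul_mem hc' (inv_mem hc)⟩, ?_⟩
      show (c' * c⁻¹ : G) • b' = z
      rw [hb'm, MulAction.Quotient.smul_mk, smul_eq_mul, ← mul_assoc, inv_mul_cancel_right]
      conv_rhs => rw [← QuotientGroup.out_eq' z, e', QuotientGroup.mk_mul_of_mem _ hd']
  split_ifs with hxa
  · have ha'o : a' ∈ MulAction.orbit U b' := (horb a').mpr (by rw [ha']; exact out_dc_iff.mpr hxa)
    obtain ⟨u₀, hu₀⟩ := ha'o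
    have e2 : Nat.card {u : U // u • b' = a'} = Nat.card (MulAction.stabilizer U b') :=
      Nat.card_congr ((Equiv.mulLeft u₀).subtypeEquiv fun u => by
        rw [MulAction.mem_stabilizer_iff, Equiv.coe_mulLeft, mul_smul, ← hu₀, smul_left_cancel_iff]).symm
    have e3 : Nat.card (MulAction.orbit U b') = mcount U m := Nat.card_congr (Equiv.subtypeEquivRight horb)
    have := MulAction.card_orbit_mul_card_stabilizer_eq_card_group U b'
    rw [← Nat.card_eq_fintype_card, ← Nat.card_eq_fintype_card, ← Nat.card_eq_fintype_card] at this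
    rw [e2, ← e3, mul_comm, this]
  · refine mul_eq_zero_of_left (Nat.card_eq_zero.mpr (Or.inl ⟨fun u => hxa ?_⟩)) _
    have h := (horb a').mp ⟨u.1, u.2⟩
    rw [ha'] at h
    exact out_dc_iff.mp h

theorem dmat_one' {k : Type*} [CommRing k] [DecidableEq (G ⧸ U)] : dmat U k (1 : G) = 1 := by
  classical
  refine inv_ext (isInv_dmat _) isInv_one fun g => ?_
  rw [mval_dmat, mval, Matrix.one_apply]
  refine if_congr ?_ rfl rfl
  rw [QuotientGroup.eq, inv_one, one_mul, DoubleCoset.mem_doubleCoset]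
  exact ⟨fun ⟨a, ha, b, hb, e⟩ => e ▸ mul_mem (mul_mem ha (one_mem U)) hb,
    fun h => ⟨g, h, 1, one_mem U, by simp⟩⟩

omit [Fintype G] [Fintype (G ⧸ U)] in
theorem dmat_apply_swap {k : Type*} [CommRing k] (n : G) (y z : G ⧸ U) : dmat U k n⁻¹ y z = dmat U k n z y := by
  classical
  simp only [dmat, Matrix.of_apply]
  refine if_congr ?_ rfl rfl
  simp only [DoubleCoset.mem_doubleCoset, SetLike.mem_coe]
  constructor <;> rintro ⟨a, ha, b, hb, e⟩ <;> refine ⟨b⁻¹, inv_mem hb, a⁻¹, inv_mem ha, ?_⟩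
  · rw [show z.out⁻¹ * y.out = (y.out⁻¹ * z.out)⁻¹ by simp, e]; simp [mul_assoc]
  · rw [show y.out⁻¹ * z.out = (z.out⁻¹ * y.out)⁻¹ by simp, e]; simp [mul_assoc]

end Count

variable {F : Type*} [Field F] {D : ChevalleyDatum} {T : Tabs} {M : CoxeterMatrix (Fin D.rank)}

namespace OKX

variable (ok : OKX D T) (hM : CoxOK D T M)

omit ok in
/-- A chosen word of a Weyl group element. -/
noncomputable def wd (M : CoxeterMatrix (Fin D.rank)) (w : M.Group) : List (Fin D.rank) :=
  (wprod_surjective w).choose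

omit ok in
theorem wprod_wd (w : M.Group) : wprod M (wd M w) = w := (wprod_surjective w).choose_spec

include ok hM

theorem eqv_gE_iff (u v : List (Fin D.rank)) :
    Eqv (ok.bnPair (F := F)) (ok.gE F (u.map Fin.val)) (ok.gE F (v.map Fin.val)) ↔ wprod M u = wprod M v := by
  obtain ⟨χ, -, hker, hval, -⟩ := ok.exists_weyl_aux F hM
  have hmem : ∀ l : List (Fin D.rank), ok.toOK.gW F (l.map Fin.val) ∈ D.monomialSubgroup F := fun l => by
    rw [← ok.coe_gE]
    exact ok.gE_mem_N fun i hi => by obtain ⟨j, -, rfl⟩ := List.mem_map.mp hi; exact j.isLt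
  rw [ok.eqv_iff, ok.coe_gE, ok.coe_gE, show wprod M u = χ ⟨_, hmem u⟩ from (hval u _ rfl).symm,
    show wprod M v = χ ⟨_, hmem v⟩ from (hval v _ rfl).symm, ← inv_mul_eq_one, ← map_inv, ← map_mul,
    ← MonoidHom.mem_ker, hker, Subgroup.mem_subgroupOf]
  rfl

omit hM in
/-- The representative of a Weyl group element. -/
noncomputable def repW (F : Type*) [Field F] (w : M.Group) : ↥(D.group F) := ok.gE F ((wd M w).map Fin.val)

omit hM in
/-- The length of a Weyl group element. -/
noncomputable def ell (w : M.Group) : ℕ := ok.negCount ((wd M w).map Fin.val)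

theorem len_repW (w : M.Group) : len (ok.bnPair (F := F)) (ok.repW F w) = ok.ell w :=
  ok.len_gE fun i hi => by obtain ⟨j, -, rfl⟩ := List.mem_map.mp hi; exact j.isLt

theorem repW_mem (w : M.Group) : ok.repW F w ∈ (ok.bnPair (F := F)).N :=
  ok.gE_mem_N fun i hi => by obtain ⟨j, -, rfl⟩ := List.mem_map.mp hi; exact j.isLt

theorem eqv_repW (l : List (Fin D.rank)) :
    Eqv (ok.bnPair (F := F)) (ok.gE F (l.map Fin.val)) (ok.repW F (wprod M l)) :=
  (ok.eqv_gE_iff hM _ _).mpr (wprod_wd _).symm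

theorem eqv_repW_iff (v w : M.Group) : Eqv (ok.bnPair (F := F)) (ok.repW F v) (ok.repW F w) ↔ v = w := by
  rw [repW, repW, ok.eqv_gE_iff hM, wprod_wd, wprod_wd]

theorem eqv_simple_mul (i : Fin D.rank) (w : M.Group) :
    Eqv (ok.bnPair (F := F)) (ok.sG F i * ok.repW F w) (ok.repW F (M.simple i * w)) := by
  have h := ok.eqv_repW (F := F) hM (i :: wd M w)
  rw [wprod_cons, wprod_wd, List.map_cons, ok.gE_cons] at h
  exact h

theorem eqv_repW_inv (w : M.Group) : Eqv (ok.bnPair (F := F)) ((ok.repW F w)⁻¹) (ok.repW F w⁻¹) := by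
  have h := ok.eqv_repW (F := F) hM (wd M w⁻¹ ++ wd M w)
  rw [wprod_append, wprod_wd, wprod_wd, inv_mul_cancel, List.map_append, ok.gE_append] at h
  have h1 : Eqv (ok.bnPair (F := F)) (ok.repW F (1 : M.Group)) 1 := by
    have h2 := ok.eqv_repW (F := F) hM []
    exact eqv_symm (by simpa [gE, wprod] using h2)
  have h3 := eqv_trans h h1
  have h4 : Eqv (ok.bnPair (F := F)) (ok.repW F w⁻¹ * ok.repW F w * (ok.repW F w)⁻¹) (1 * (ok.repW F w)⁻¹) :=
    eqv_mul_right (inv_mem (ok.repW_mem hM w)) h3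
  rw [mul_inv_cancel_right, one_mul] at h4
  exact eqv_symm h4

theorem exists_repW {n : ↥(D.group F)} (hn : n ∈ (ok.bnPair (F := F)).N) :
    ∃ w : M.Group, Eqv (ok.bnPair (F := F)) (ok.repW F w) n := by
  obtain ⟨v, hv, e⟩ := ok.exists_gE hn
  refine ⟨wprod M (finW D v), eqv_trans (eqv_symm (ok.eqv_repW hM (finW D v))) ?_⟩
  rwa [finW_val hv]

theorem ell_simple_ne (i : Fin D.rank) (w : M.Group) : ok.ell (M.simple i * w) ≠ ok.ell w := by
  rw [← ok.len_repW (F := ℚ) hM, ← ok.len_repW (F := ℚ) hM, ← len_congr (mul_mem ((ok.bnPair (F := ℚ)).subset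
    (ok.sG_mem i.isLt)) (ok.repW_mem hM w)) (ok.eqv_simple_mul hM i w)]
  exact len_mul_ne (ok.sG_mem i.isLt) (ok.repW_mem hM w)

theorem ell_wprod_le (l : List (Fin D.rank)) : ok.ell (wprod M l) ≤ l.length := by
  have hv : ∀ a ∈ l.map Fin.val, a < D.rank := fun a ha => by obtain ⟨j, -, rfl⟩ := List.mem_map.mp ha; exact j.isLt
  rw [← ok.len_repW (F := ℚ) hM, ← len_congr (ok.gE_mem_N hv) (ok.eqv_repW hM l), ok.len_gE hv]
  exact (ok.negCount_le_length hv).trans (List.length_map _).le

theorem exists_rwd (w : M.Group) : ∃ l : List (Fin D.rank), wprod M l = w ∧ l.length = ok.ell w := by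
  obtain ⟨l, hl, hll, e⟩ := exists_reduced (ok.repW_mem (F := ℚ) hM w)
  rw [ok.S_eq] at hl
  obtain ⟨u, hu, hul, eu⟩ := ok.exists_indices hl
  rw [← eu] at e
  have hfw : (finW D u).map Fin.val = u := finW_val hu
  refine ⟨finW D u, (ok.eqv_repW_iff (F := ℚ) hM _ _).mp
    (eqv_trans (eqv_symm (ok.eqv_repW hM (finW D u))) (by rw [hfw]; exact e)), ?_⟩
  have hlen := congrArg List.length hfw
  rw [List.length_map] at hlen
  rw [hlen, hul, hll, ok.len_repW hM]

/-- The multiplication by a simple reflection, as a matrix of polynomials. -/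
noncomputable def lmat (i : Fin D.rank) : Matrix M.Group M.Group (Polynomial ℂ) :=
  open Classical in Matrix.of fun u w =>
    if ok.ell w < ok.ell (M.simple i * w) then (if u = M.simple i * w then 1 else 0)
    else (Polynomial.X - 1) * (if u = w then 1 else 0) + Polynomial.X * (if u = M.simple i * w then 1 else 0)

variable [Fintype M.Group]

open Classical in
/-- The multiplication by a word. -/
noncomputable def lword (l : List (Fin D.rank)) : Matrix M.Group M.Group (Polynomial ℂ) :=
  (l.map (ok.lmat)).prod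

/-- The structure constants. -/
noncomputable def cst (v : M.Group) : Matrix M.Group M.Group (Polynomial ℂ) :=
  ok.lword (ok.exists_rwd hM v).choose

/-- The averaging map. -/
noncomputable def phiP : Matrix M.Group M.Group (Polynomial ℂ) :=
  Matrix.of fun u w => ∑ v : M.Group, Polynomial.X ^ (D.nroots / 2 - ok.ell v) *
    ∑ z, ok.cst hM v u z * ok.cst hM w z v⁻¹

/-- The commutators. -/
noncomputable def adP : Matrix (M.Group × M.Group) M.Group (Polynomial ℂ) :=
  Matrix.of fun e w => ok.cst hM w e.2 e.1 - ok.cst hM e.1 e.2 w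

section Finite

variable [Fintype F] [Fintype ↥(D.group F)] [Fintype (↥(D.group F) ⧸ (ok.bnPair (F := F)).B)]

/-- The matrix of a cell. -/
noncomputable def cellMat (F : Type*) [Field F] (w : M.Group) :
    Matrix (↥(D.group F) ⧸ (ok.bnPair (F := F)).B) (↥(D.group F) ⧸ (ok.bnPair (F := F)).B) ℂ :=
  dmat (ok.bnPair (F := F)).B ℂ (ok.repW F w)

/-- The element of the commuting algebra with given coordinates. -/
noncomputable def emb (F : Type*) [Field F] (x : M.Group → ℂ) :
    Matrix (↥(D.group F) ⧸ (ok.bnPair (F := F)).B) (↥(D.group F) ⧸ (ok.bnPair (F := F)).B) ℂ :=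
  ∑ w, x w • ok.cellMat F w

theorem mcount_simple (i : Fin D.rank) : mcount (ok.bnPair (F := F)).B (ok.sG F i) = Fintype.card F := by
  classical
  rw [mcount, ← Nat.card_eq_fintype_card]
  symm
  refine Nat.card_eq_of_bijective (fun a : F => ⟨((ok.xS (T.smp i) a * ok.sG F i : ↥(D.group F)) : ↥(D.group F) ⧸ (ok.bnPair (F := F)).B),
    out_dc_iff.mpr (DoubleCoset.mem_doubleCoset.mpr ⟨ok.xS (T.smp i) a,
      ok.UG_le (ok.xS_mem (ok.smp_isPos i.isLt) a), 1, one_mem _, by simp⟩)⟩) ⟨fun a b e => ?_, fun z => ?_⟩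
  · have h := QuotientGroup.eq.mp (congrArg Subtype.val e)
    have h2 : (ok.sG F i)⁻¹ * ok.xS (T.smp i) (-a + b) * ok.sG F i ∈ (ok.bnPair (F := F)).B := by
      rw [← ok.xS_mul, ← ok.xS_inv]
      simpa [mul_assoc] using h
    exact neg_add_eq_zero.mp (ok.neg_root_not_mem i.isLt h2)
  · obtain ⟨z, hz⟩ := z
    obtain ⟨b, hb, b', hb', e⟩ := DoubleCoset.mem_doubleCoset.mp hz
    obtain ⟨u, hu, t, ht, rfl⟩ := ok.borel_dec hb
    obtain ⟨a, w, hw, rfl⟩ := ok.pos_split_left i.isLt hu
    refine ⟨a, Subtype.ext ?_⟩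
    show ((ok.xS (T.smp i) a * ok.sG F i : ↥(D.group F)) : ↥(D.group F) ⧸ (ok.bnPair (F := F)).B) = z
    conv_rhs => rw [← QuotientGroup.out_eq' z, e]
    rw [QuotientGroup.eq]
    have h1 : (ok.sG F i)⁻¹ * t * ok.sG F i ∈ (ok.bnPair (F := F)).B :=
      (conj_tor' ((ok.bnPair (F := F)).subset (ok.sG_mem i.isLt)) ht).1
    have := mul_mem (mul_mem (ok.UG_le hw) h1) hb'
    simpa [mul_assoc] using this

theorem simple_mul_cell (i : Fin D.rank) (w : M.Group) :
    dmat (ok.bnPair (F := F)).B ℂ (ok.sG F i) * ok.cellMat F w =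
      ∑ u, (ok.lmat i u w).eval (Fintype.card F : ℂ) • ok.cellMat F u := by
  classical
  have hs := ok.sG_mem (F := F) i.isLt
  have e := ok.eqv_simple_mul (F := F) hM i w
  have hlen : len (ok.bnPair (F := F)) (ok.sG F i * ok.repW F w) = ok.ell (M.simple i * w) := by
    rw [len_congr (mul_mem ((ok.bnPair (F := F)).subset hs) (ok.repW_mem hM w)) e, ok.len_repW hM]
  by_cases h : ok.ell w < ok.ell (M.simple i * w)
  · rw [cellMat, dmat_up hs (ok.repW_mem hM w) (by rw [hlen, ok.len_repW hM]; exact h), dmat_congr e,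
      Finset.sum_eq_single (M.simple i * w)]
    · simp [lmat, if_pos h, cellMat]
    · intro u _ hu; simp [lmat, if_pos h, if_neg hu]
    · simp
  · have hne := ok.ell_simple_ne hM i w
    rw [cellMat, dmat_down hs (ok.repW_mem hM w) (by rw [hlen, ok.len_repW hM]; omega), dmat_congr e,
      ok.mcount_simple hM, ← Finset.sum_subset (Finset.subset_univ {w, M.simple i * w}),
      Finset.sum_pair (fun e' => hne (congrArg ok.ell e'.symm))]
    · simp [lmat, if_neg h, cellMat, show w ≠ M.simple i * w from fun e' => hne (congrArg ok.ell e'.symm),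
        Ne.symm (show w ≠ M.simple i * w from fun e' => hne (congrArg ok.ell e'.symm))]
    · intro u _ hu
      simp only [Finset.mem_insert, Finset.mem_singleton, not_or] at hu
      simp [lmat, if_neg h, if_neg hu.1, if_neg hu.2]

open Classical in
theorem word_mul_cell : ∀ (l : List (Fin D.rank)) (w : M.Group),
    (l.map fun i : Fin D.rank => dmat (ok.bnPair (F := F)).B ℂ (ok.sG F i)).prod * ok.cellMat F w =
      ∑ u, (ok.lword l u w).eval (Fintype.card F : ℂ) • ok.cellMat F u
  | [], w => by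
    simp [lword, Matrix.one_apply, ite_smul, apply_ite (Polynomial.eval (Fintype.card F : ℂ))]
  | i :: l, w => by
    rw [List.map_cons, List.prod_cons, mul_assoc, word_mul_cell l w, Finset.mul_sum]
    simp only [mul_smul_comm, ok.simple_mul_cell hM, Finset.smul_sum, smul_smul]
    rw [Finset.sum_comm]
    refine Finset.sum_congr rfl fun u _ => ?_
    rw [← Finset.sum_smul]
    congr 1
    simp only [lword, List.map_cons, List.prod_cons, Matrix.mul_apply, Polynomial.eval_finset_sum,
      Polynomial.eval_mul]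
    exact Finset.sum_congr rfl fun z _ => mul_comm _ _

open Classical in
theorem cell_eq_word : ∀ l : List (Fin D.rank), l.length = ok.ell (wprod M l) →
    ok.cellMat F (wprod M l) = (l.map fun i : Fin D.rank => dmat (ok.bnPair (F := F)).B ℂ (ok.sG F i)).prod
  | [], _ => by
    rw [List.map_nil, List.prod_nil, cellMat]
    have h := ok.eqv_repW (F := F) hM []
    rw [dmat_congr (eqv_symm h)]
    simpa [gE] using dmat_one'
  | i :: l, hl => by
    have h1 := ok.ell_wprod_le hM l
    have h2 := ok.eqv_simple_mul (F := F) hM i (wprod M l)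
    have h3 : len (ok.bnPair (F := F)) (ok.sG F i * ok.repW F (wprod M l)) = ok.ell (wprod M (i :: l)) := by
      rw [len_congr (mul_mem ((ok.bnPair (F := F)).subset (ok.sG_mem i.isLt)) (ok.repW_mem hM _)) h2,
        ok.len_repW hM, wprod_cons]
    have h4 := len_mul_le (ok.sG_mem (F := F) i.isLt) (ok.repW_mem hM (wprod M l))
    rw [h3, ok.len_repW hM] at h4
    rw [List.length_cons] at hl
    rw [List.map_cons, List.prod_cons, ← cell_eq_word l (by omega), cellMat, cellMat, wprod_cons,
      dmat_up (ok.sG_mem i.isLt) (ok.repW_mem hM _) (by rw [h3, ok.len_repW hM]; omega), dmat_congr h2]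

theorem cell_mul (v w : M.Group) : ok.cellMat F v * ok.cellMat F w =
    ∑ u, (ok.cst hM v u w).eval (Fintype.card F : ℂ) • ok.cellMat F u := by
  classical
  obtain ⟨h1, h2⟩ := (ok.exists_rwd hM v).choose_spec
  rw [cst]
  conv_lhs => rw [← h1, ok.cell_eq_word hM _ (by rw [h1]; exact h2)]
  exact ok.word_mul_cell hM _ w

theorem mcount_cell (w : M.Group) : mcount (ok.bnPair (F := F)).B (ok.repW F w) = Fintype.card F ^ ok.ell w := by
  classical
  obtain ⟨l, hl, hll⟩ := ok.exists_rwd hM w
  subst hl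
  rw [← hll]
  have h := ok.cell_eq_word (F := F) hM l hll
  have key : ∀ l : List (Fin D.rank),
      IsInv (ok.bnPair (F := F)).B (l.map fun i : Fin D.rank => dmat (ok.bnPair (F := F)).B ℂ (ok.sG F i)).prod ∧
      ∑ z : ↥(D.group F) ⧸ (ok.bnPair (F := F)).B,
        mval (ok.bnPair (F := F)).B (l.map fun i : Fin D.rank => dmat (ok.bnPair (F := F)).B ℂ (ok.sG F i)).prod z.out =
        (Fintype.card F : ℂ) ^ l.length := by
    intro l
    induction l with
    | nil =>
      refine ⟨isInv_one, ?_⟩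
      rw [List.map_nil, List.prod_nil, ← dmat_one', rowsum_dmat, List.length_nil, pow_zero]
      have : mcount (ok.bnPair (F := F)).B (1 : ↥(D.group F)) = 1 := by
        rw [mcount, Nat.card_eq_one_iff_unique]
        have key : ∀ z : {z : ↥(D.group F) ⧸ (ok.bnPair (F := F)).B //
            z.out ∈ DoubleCoset.doubleCoset 1 ((ok.bnPair (F := F)).B : Set ↥(D.group F)) (ok.bnPair (F := F)).B},
            z.1 = ((1 : ↥(D.group F)) : ↥(D.group F) ⧸ (ok.bnPair (F := F)).B) := by
          rintro ⟨z, hz⟩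
          obtain ⟨a, ha, b, hb, e⟩ := DoubleCoset.mem_doubleCoset.mp hz
          show z = _
          rw [← QuotientGroup.out_eq' z, e, QuotientGroup.eq]
          simpa using inv_mem (mul_mem ha hb)
        exact ⟨⟨fun a b => Subtype.ext ((key a).trans (key b).symm)⟩,
          ⟨⟨_, out_dc_iff.mpr (DoubleCoset.mem_doubleCoset_self _ _ 1)⟩⟩⟩
      rw [this, Nat.cast_one]
    | cons i l ih =>
      refine ⟨isInv_mul (isInv_dmat _) ih.1, ?_⟩
      rw [List.map_cons, List.prod_cons, rowsum_mul ih.1, ih.2, rowsum_dmat, ok.mcount_simple hM, List.length_cons,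
        pow_succ']
  have h1 := rowsum_dmat (U := (ok.bnPair (F := F)).B) (k := ℂ) (ok.repW F (wprod M l))
  rw [show dmat (ok.bnPair (F := F)).B ℂ (ok.repW F (wprod M l)) = ok.cellMat F (wprod M l) from rfl, h,
    (key l).2] at h1
  exact_mod_cast h1.symm

open Classical in
theorem mval_cell (v w : M.Group) :
    mval (ok.bnPair (F := F)).B (ok.cellMat F v) (ok.repW F w) = if w = v then 1 else 0 := by
  rw [cellMat, mval_dmat_cells (ok.repW_mem hM v) (ok.repW_mem hM w)]
  exact if_congr (ok.eqv_repW_iff hM w v) rfl rfl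

theorem isInv_emb (x : M.Group → ℂ) : IsInv (ok.bnPair (F := F)).B (ok.emb F x) :=
  isInv_sum _ fun w _ => isInv_smul _ (isInv_dmat _)

theorem mval_emb (x : M.Group → ℂ) (w : M.Group) :
    mval (ok.bnPair (F := F)).B (ok.emb F x) (ok.repW F w) = x w := by
  classical
  have : mval (ok.bnPair (F := F)).B (ok.emb F x) (ok.repW F w) =
      ∑ v, x v * mval (ok.bnPair (F := F)).B (ok.cellMat F v) (ok.repW F w) := by
    simp [emb, mval, Matrix.sum_apply, Matrix.smul_apply]
  rw [this]
  simp [ok.mval_cell hM]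

theorem emb_injective {x y : M.Group → ℂ} (h : ok.emb F x = ok.emb F y) : x = y := funext fun w => by
  rw [← ok.mval_emb (F := F) hM x w, h, ok.mval_emb hM]

theorem eq_emb {A : Matrix (↥(D.group F) ⧸ (ok.bnPair (F := F)).B) (↥(D.group F) ⧸ (ok.bnPair (F := F)).B) ℂ}
    (hA : IsInv (ok.bnPair (F := F)).B A) :
    A = ok.emb F fun w : M.Group => mval (ok.bnPair (F := F)).B A (ok.repW F w) := by
  refine ext_cells hA (ok.isInv_emb hM _) fun m hm => ?_
  obtain ⟨w, e⟩ := ok.exists_repW hM hm
  have e' : (ok.repW F w)⁻¹ * m ∈ (ok.bnPair (F := F)).B := (Subgroup.mem_inf.mp e).1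
  rw [show m = ok.repW F w * ((ok.repW F w)⁻¹ * m) from (mul_inv_cancel_left _ _).symm, mval_mul_right _ e',
    mval_mul_right _ e', ok.mval_emb hM]

theorem emb_mul_cell (x : M.Group → ℂ) (v : M.Group) : ok.emb F x * ok.cellMat F v =
    ok.emb F fun u => ∑ w, x w * (ok.cst hM w u v).eval (Fintype.card F : ℂ) := by
  simp only [emb, Finset.sum_mul, smul_mul_assoc, ok.cell_mul hM, Finset.smul_sum, smul_smul, Finset.sum_smul]
  exact Finset.sum_comm

theorem cell_mul_emb (x : M.Group → ℂ) (v : M.Group) : ok.cellMat F v * ok.emb F x =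
    ok.emb F fun u => ∑ w, x w * (ok.cst hM v u w).eval (Fintype.card F : ℂ) := by
  simp only [emb, Finset.mul_sum, mul_smul_comm, ok.cell_mul hM, Finset.smul_sum, smul_smul, Finset.sum_smul]
  exact Finset.sum_comm

/-- The averaging map is the averaged trace. -/
theorem sum_cells_eq (A : Matrix (↥(D.group F) ⧸ (ok.bnPair (F := F)).B) (↥(D.group F) ⧸ (ok.bnPair (F := F)).B) ℂ) :
    ∑ v : M.Group, (Fintype.card F : ℂ) ^ (D.nroots / 2 - ok.ell v) •
        (ok.cellMat F v * A * ok.cellMat F v⁻¹) =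
      ((Fintype.card F : ℂ) ^ (D.nroots / 2) / (Nat.card (ok.bnPair (F := F)).B : ℂ)) • avgTrace A := by
  classical
  set q := (Fintype.card F : ℂ) with hq
  set N := D.nroots / 2
  have hB : (Nat.card (ok.bnPair (F := F)).B : ℂ) ≠ 0 := Nat.cast_ne_zero.mpr Nat.card_pos.ne'
  ext x y
  have hL : (∑ v : M.Group, q ^ (N - ok.ell v) • (ok.cellMat F v * A * ok.cellMat F v⁻¹)) x y =
      ∑ a, ∑ b, A a b * ∑ v : M.Group, q ^ (N - ok.ell v) * (ok.cellMat F v x a * ok.cellMat F v y b) := by
    have hsw : ∀ v : M.Group, ∀ b, ok.cellMat F v⁻¹ b y = ok.cellMat F v y b := fun v b => by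
      rw [cellMat, cellMat, ← dmat_congr (ok.eqv_repW_inv hM v), dmat_apply_swap]
    simp only [Matrix.sum_apply, Matrix.smul_apply, Matrix.mul_apply, smul_eq_mul, hsw, Finset.sum_mul,
      Finset.mul_sum]
    rw [Finset.sum_comm]
    conv_lhs => enter [2, b]; rw [Finset.sum_comm]
    rw [Finset.sum_comm]
    exact Finset.sum_congr rfl fun a _ => Finset.sum_congr rfl fun b _ => Finset.sum_congr rfl fun v _ => by ring
  have hR : (avgTrace A) x y = ∑ a, ∑ b, A a b * (Nat.card {h : ↥(D.group F) // h • y = x ∧ h • b = a} : ℂ) := by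
    simp only [avgTrace, rhoHat, Matrix.sum_apply, Matrix.smul_apply, smul_eq_mul, trace_mul_rho]
    simp only [Cfsg.Agent.Char.rho, Matrix.of_apply, mul_ite, mul_one, mul_zero]
    rw [← Finset.sum_filter, Finset.sum_comm]
    refine Finset.sum_congr rfl fun a _ => ?_
    simp only [Nat.card_eq_fintype_card, Fintype.card_subtype, Finset.card_filter, Nat.cast_sum, Nat.cast_ite,
      Nat.cast_one, Nat.cast_zero, Finset.mul_sum, mul_ite, mul_one, mul_zero]
    rw [Finset.sum_comm, Finset.sum_filter]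
    refine Finset.sum_congr rfl fun h _ => ?_
    by_cases hy : h • y = x
    · simp only [hy, true_and, if_true, eq_comm (a := h • _) (b := a), ← inv_smul_eq_iff]
      rw [Finset.sum_ite_eq, if_pos (Finset.mem_univ _)]
    · simp [hy]
  rw [hL, Matrix.smul_apply, hR, smul_eq_mul, Finset.mul_sum]
  refine Finset.sum_congr rfl fun a _ => ?_
  rw [Finset.mul_sum]
  refine Finset.sum_congr rfl fun b _ => ?_
  rw [mul_left_comm]
  congr 1
  obtain ⟨m, hm, hyb⟩ := exists_inDC (P := (ok.bnPair (F := F))) (y.out⁻¹ * b.out)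
  obtain ⟨v₀, e₀⟩ := ok.exists_repW hM hm
  have hyb' : InDC (ok.bnPair (F := F)) (y.out⁻¹ * b.out) (ok.repW F v₀) := (inDC_congr e₀).mpr hyb
  have hcount := count_smul (U := (ok.bnPair (F := F)).B) (x := x) (a := a) (y := y) (b := b) hyb'
  rw [ok.mcount_cell hM] at hcount
  rw [Finset.sum_eq_single v₀]
  · have hyv : ok.cellMat F v₀ y b = 1 := by
      simp only [cellMat, dmat, Matrix.of_apply]
      exact if_pos hyb'
    have hxv : ok.cellMat F v₀ x a =
        if x.out⁻¹ * a.out ∈ DoubleCoset.doubleCoset (ok.repW F v₀) ((ok.bnPair (F := F)).B : Set ↥(D.group F)) (ok.bnPair (F := F)).B then 1 else 0 := by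
      simp only [cellMat, dmat, Matrix.of_apply]
    have hle : ok.ell v₀ ≤ N := by
      rw [← ok.len_repW (F := F) hM]; exact ok.len_le_half (ok.repW_mem hM v₀)
    rw [hyv, mul_one, hxv, eq_comm, div_mul_eq_mul_div, div_eq_iff hB]
    have hc := congrArg (Nat.cast : ℕ → ℂ) hcount
    push_cast at hc
    rw [← Nat.sub_add_cancel hle, pow_add, mul_assoc, mul_comm (q ^ ok.ell v₀), hq, hc, Nat.add_sub_cancel]
    split_ifs <;> simp
  · intro v _ hv
    have : ok.cellMat F v y b = 0 := by
      simp only [cellMat, dmat, Matrix.of_apply]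
      refine if_neg fun h => hv ((ok.eqv_repW_iff (F := F) hM v v₀).mp ?_)
      exact eqv_of_inDC (ok.repW_mem hM v) (ok.repW_mem hM v₀) (inDC_trans (inDC_symm h) hyb')
    rw [this, mul_zero, mul_zero]
  · simp

theorem emb_phi (x : M.Group → ℂ) :
    ok.emb F ((ok.phiP hM).map (Polynomial.eval (Fintype.card F : ℂ)) *ᵥ x) =
      ((Fintype.card F : ℂ) ^ (D.nroots / 2) / (Nat.card (ok.bnPair (F := F)).B : ℂ)) • avgTrace (ok.emb F x) := by
  classical
  rw [← ok.sum_cells_eq hM]
  have e : ∀ v : M.Group, ok.cellMat F v * ok.emb F x * ok.cellMat F v⁻¹ =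
      ok.emb F fun u => ∑ w, x w * ∑ z, (ok.cst hM v u z).eval (Fintype.card F : ℂ) *
        (ok.cst hM w z v⁻¹).eval (Fintype.card F : ℂ) := fun v => by
    rw [mul_assoc, ok.emb_mul_cell hM, ok.cell_mul_emb hM]
    congr 1
    funext u
    simp only [Finset.sum_mul, Finset.mul_sum]
    rw [Finset.sum_comm]
    exact Finset.sum_congr rfl fun w _ => Finset.sum_congr rfl fun z _ => by ring
  simp only [e]
  simp only [emb, Finset.smul_sum, smul_smul]
  rw [Finset.sum_comm]
  refine Finset.sum_congr rfl fun u _ => ?_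
  rw [← Finset.sum_smul]
  congr 1
  simp only [Matrix.mulVec, dotProduct, Matrix.map_apply, phiP, Matrix.of_apply, Polynomial.eval_finset_sum,
    Polynomial.eval_mul, Polynomial.eval_pow, Polynomial.eval_X, Finset.sum_mul, Finset.mul_sum]
  rw [Finset.sum_comm]
  exact Finset.sum_congr rfl fun v _ => Finset.sum_congr rfl fun w _ => Finset.sum_congr rfl fun z _ => by ring

theorem ad_eq_zero_iff (x : M.Group → ℂ) :
    (ok.adP hM).map (Polynomial.eval (Fintype.card F : ℂ)) *ᵥ x = 0 ↔
      ∀ B, IsInv (ok.bnPair (F := F)).B B → ok.emb F x * B = B * ok.emb F x := by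
  have e : ∀ v u, ((ok.adP hM).map (Polynomial.eval (Fintype.card F : ℂ)) *ᵥ x) (v, u) =
      (∑ w, x w * (ok.cst hM w u v).eval (Fintype.card F : ℂ)) -
        ∑ w, x w * (ok.cst hM v u w).eval (Fintype.card F : ℂ) := fun v u => by
    simp only [Matrix.mulVec, dotProduct, Matrix.map_apply, adP, Matrix.of_apply, Polynomial.eval_sub, sub_mul,
      Finset.sum_sub_distrib, mul_comm (x _)]
  constructor
  · intro h B hB
    rw [ok.eq_emb hM hB]
    set b := fun w => mval (ok.bnPair (F := F)).B B (ok.repW F w)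
    have hv : ∀ v, ok.emb F x * ok.cellMat F v = ok.cellMat F v * ok.emb F x := fun v => by
      rw [ok.emb_mul_cell hM, ok.cell_mul_emb hM]
      congr 1
      funext u
      have := congrFun h (v, u)
      rw [e] at this
      exact sub_eq_zero.mp this
    rw [show ok.emb F b = ∑ w, b w • ok.cellMat F w from rfl, Finset.mul_sum, Finset.sum_mul]
    exact Finset.sum_congr rfl fun v _ => by rw [mul_smul_comm, smul_mul_assoc, hv]
  · intro h
    funext ⟨v, u⟩
    have h1 := h _ (isInv_dmat (ok.repW F v))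
    rw [show dmat (ok.bnPair (F := F)).B ℂ (ok.repW F v) = ok.cellMat F v from rfl, ok.emb_mul_cell hM,
      ok.cell_mul_emb hM] at h1
    rw [e, Pi.zero_apply, sub_eq_zero]
    exact congrFun (ok.emb_injective hM h1) u

theorem good_card (x : M.Group → ℂ) :
    ((ok.adP hM).map (Polynomial.eval (Fintype.card F : ℂ)) *ᵥ
      ((ok.phiP hM).map (Polynomial.eval (Fintype.card F : ℂ)) *ᵥ x)) = 0 := by
  rw [ok.ad_eq_zero_iff (F := F) hM, ok.emb_phi hM]
  intro B hB
  rw [smul_mul_assoc, mul_smul_comm]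
  congr 1
  exact rhoHat_comm hB _

theorem ker_le_range_card :
    LinearMap.ker ((ok.adP hM).map (Polynomial.eval (Fintype.card F : ℂ))).mulVecLin ≤
      LinearMap.range ((ok.phiP hM).map (Polynomial.eval (Fintype.card F : ℂ))).mulVecLin := by
  classical
  intro x hx
  rw [LinearMap.mem_ker, Matrix.mulVecLin_apply, ok.ad_eq_zero_iff (F := F) hM] at hx
  obtain ⟨Y, hY, hYc, hΩY⟩ := exists_avgTrace_inverse (U := (ok.bnPair (F := F)).B)
  set c := (Fintype.card F : ℂ) ^ (D.nroots / 2) / (Nat.card (ok.bnPair (F := F)).B : ℂ) with hc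
  have hc0 : c ≠ 0 := div_ne_zero (pow_ne_zero _ (Nat.cast_ne_zero.mpr Fintype.card_pos.ne'))
    (Nat.cast_ne_zero.mpr Nat.card_pos.ne')
  set Z := c⁻¹ • (Y * ok.emb F x) with hZ
  have hZi : IsInv (ok.bnPair (F := F)).B Z := isInv_smul _ (isInv_mul hY (ok.isInv_emb hM x))
  refine ⟨fun w => mval (ok.bnPair (F := F)).B Z (ok.repW F w), ok.emb_injective (F := F) hM ?_⟩
  rw [Matrix.mulVecLin_apply, ok.emb_phi hM, ← ok.eq_emb hM hZi, ← hc]
  have hmul : ∀ B, IsInv (ok.bnPair (F := F)).B B → (Y * ok.emb F x) * B = B * (Y * ok.emb F x) := fun B hB => by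
    rw [mul_assoc, hx B hB, ← mul_assoc, hYc B hB, mul_assoc]
  have h1 := ok.sum_cells_eq (F := F) hM Z
  have h2 := ok.sum_cells_eq (F := F) hM (1 : Matrix _ _ ℂ)
  have key : ∀ v : M.Group, ok.cellMat F v * Z * ok.cellMat F v⁻¹ =
      (ok.cellMat F v * 1 * ok.cellMat F v⁻¹) * Z := fun v => by
    simp only [hZ, mul_smul_comm, smul_mul_assoc, mul_one]
    congr 1
    rw [mul_assoc, hmul (ok.cellMat F v⁻¹) (isInv_dmat _)]
    simp only [cellMat, mul_assoc]
  rw [Finset.sum_congr rfl fun v _ => by rw [key v, ← smul_mul_assoc], ← Finset.sum_mul, h2] at h1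
  rw [← hc] at h1
  rw [← h1, hZ, mul_smul_comm, smul_mul_assoc, smul_smul, inv_mul_cancel₀ hc0, one_smul, ← mul_assoc, hΩY, one_mul]

theorem finrank_ker_card :
    Module.finrank ℂ (LinearMap.ker ((ok.adP hM).map (Polynomial.eval (Fintype.card F : ℂ))).mulVecLin) =
      Nat.card {χ : IrrCharacter ↥(D.group F) // ∃ φ : ↥(D.group F) → ℂ, IsCharacter ↥(D.group F) φ ∧
        fixedPointCharacter (ok.bnPair (F := F)).B = (χ : ↥(D.group F) → ℂ) + φ} := by
  classical
  rw [← finrank_centreSpan]
  let L : (M.Group → ℂ) →ₗ[ℂ] Matrix (↥(D.group F) ⧸ (ok.bnPair (F := F)).B) (↥(D.group F) ⧸ (ok.bnPair (F := F)).B) ℂ :=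
    { toFun := ok.emb F
      map_add' := fun x y => by simp [emb, add_smul, Finset.sum_add_distrib]
      map_smul' := fun c x => by simp [emb, Finset.smul_sum, smul_smul] }
  have hLi : Function.Injective L := fun x y h => ok.emb_injective (F := F) hM h
  rw [(Submodule.equivMapOfInjective L hLi _).finrank_eq]
  have hEq : Submodule.map L (LinearMap.ker ((ok.adP hM).map (Polynomial.eval (Fintype.card F : ℂ))).mulVecLin) =
      centreSpan (ok.bnPair (F := F)).B := by
    refine le_antisymm ?_ fun A hA => ?_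
    · rintro _ ⟨x, hx, rfl⟩
      obtain ⟨y, hy⟩ := ok.ker_le_range_card (F := F) hM hx
      show ok.emb F x ∈ _
      rw [← hy, Matrix.mulVecLin_apply, ok.emb_phi hM]
      exact Submodule.smul_mem _ _ (rhoHat_mem_centreSpan (isClassFunction_trace (ok.isInv_emb hM y)))
    · obtain ⟨h1, h2⟩ := isInv_of_mem_centreSpan hA
      refine ⟨fun w => mval (ok.bnPair (F := F)).B A (ok.repW F w), ?_, (ok.eq_emb hM h1).symm⟩
      rw [SetLike.mem_coe, LinearMap.mem_ker, Matrix.mulVecLin_apply, ok.ad_eq_zero_iff (F := F) hM, ← ok.eq_emb hM h1]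
      exact h2
  rw [hEq]

end Finite

omit [Fintype M.Group] in
theorem finite_weyl : Finite M.Group := by
  haveI : Fact (Nat.Prime 2) := ⟨Nat.prime_two⟩
  haveI : Finite (GL D.Idx (ZMod 2)) := Finite.of_injective _ Units.val_injective
  refine Finite.of_injective (fun w : M.Group => ok.repW (ZMod 2) w) fun v w h => ?_
  exact (ok.eqv_repW_iff (F := ZMod 2) hM v w).mp (by rw [show ok.repW (ZMod 2) v = ok.repW (ZMod 2) w from h]; exact eqv_refl _)

theorem ad_mul_phi : ok.adP hM * ok.phiP hM = 0 := by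
  classical
  refine Matrix.ext fun e w => ?_
  rw [Matrix.zero_apply]
  refine Polynomial.eq_zero_of_infinite_isRoot _ (Set.Infinite.mono ?_
    (Nat.infinite_setOf_prime.image Nat.cast_injective.injOn))
  rintro _ ⟨p, hp, rfl⟩
  haveI : Fact p.Prime := ⟨hp⟩
  haveI : Finite (GL D.Idx (ZMod p)) := Finite.of_injective _ Units.val_injective
  haveI : Finite ↥(D.group (ZMod p)) := Subtype.finite
  haveI := Fintype.ofFinite ↥(D.group (ZMod p))
  haveI := Fintype.ofFinite (↥(D.group (ZMod p)) ⧸ (ok.bnPair (F := ZMod p)).B)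
  have h := congrFun (ok.good_card (F := ZMod p) hM (Pi.single w 1)) e
  rw [ZMod.card, Matrix.mulVec_mulVec, Matrix.mulVec_single_one, Pi.zero_apply] at h
  change ((ok.adP hM).map (Polynomial.evalRingHom (p : ℂ)) * (ok.phiP hM).map (Polynomial.evalRingHom (p : ℂ))) e w = 0 at h
  rw [← Matrix.map_mul] at h
  exact h

open Classical in
theorem cst_one (v u w : M.Group) : (ok.cst hM v u w).eval 1 = if u = v * w then 1 else 0 := by
  have key : ∀ (l : List (Fin D.rank)) (u w : M.Group),
      (ok.lword l u w).eval 1 = if u = wprod M l * w then 1 else 0 := by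
    intro l
    induction l with
    | nil =>
      intro u w
      rw [show wprod M ([] : List (Fin D.rank)) = 1 from rfl, one_mul]
      simp [lword, Matrix.one_apply, apply_ite (Polynomial.eval (1 : ℂ))]
    | cons i l ih =>
      intro u w
      have hl : ∀ a b, (ok.lmat i a b).eval 1 = if a = M.simple i * b then 1 else 0 := fun a b => by
        simp only [lmat, Matrix.of_apply]
        split_ifs <;> simp_all
      show Polynomial.eval 1 (HMul.hMul (α := Matrix M.Group M.Group (Polynomial ℂ)) (β := Matrix M.Group M.Group (Polynomial ℂ)) (γ := Matrix M.Group M.Group (Polynomial ℂ)) (ok.lmat i) (ok.lword l) u w) = _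
      simp only [Matrix.mul_apply, Polynomial.eval_finset_sum, Polynomial.eval_mul, ih, hl, mul_ite, mul_one,
        mul_zero, Finset.sum_ite_eq', Finset.mem_univ, if_true, wprod_cons, mul_assoc]
  rw [cst, key, (ok.exists_rwd hM v).choose_spec.1]

theorem finrank_ker_one :
    LinearMap.ker ((ok.adP hM).map (Polynomial.eval (1 : ℂ))).mulVecLin ≤
        LinearMap.range ((ok.phiP hM).map (Polynomial.eval (1 : ℂ))).mulVecLin ∧
      Module.finrank ℂ (LinearMap.ker ((ok.adP hM).map (Polynomial.eval (1 : ℂ))).mulVecLin) =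
        Nat.card (ConjClasses M.Group) := by
  classical
  have hA : ∀ x, x ∈ LinearMap.ker ((ok.adP hM).map (Polynomial.eval (1 : ℂ))).mulVecLin ↔
      ∀ v w : M.Group, x (v * w * v⁻¹) = x w := by
    intro x
    have e : ∀ v u, ((ok.adP hM).map (Polynomial.eval (1 : ℂ)) *ᵥ x) (v, u) = x (u * v⁻¹) - x (v⁻¹ * u) := fun v u => by
      simp only [Matrix.mulVec, dotProduct, Matrix.map_apply, adP, Matrix.of_apply, Polynomial.eval_sub,
        ok.cst_one hM, sub_mul, ite_mul, one_mul, zero_mul, Finset.sum_sub_distrib]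
      congr 1
      · rw [Finset.sum_eq_single (u * v⁻¹) (fun b _ hb => if_neg fun h => hb (by rw [h, mul_inv_cancel_right]))
          (by simp), if_pos (by simp)]
      · rw [Finset.sum_eq_single (v⁻¹ * u) (fun b _ hb => if_neg fun h => hb (by rw [h, inv_mul_cancel_left]))
          (by simp), if_pos (by simp)]
    rw [LinearMap.mem_ker, Matrix.mulVecLin_apply, funext_iff]
    constructor
    · intro h v w
      have := h (v, v * w)
      rw [e, Pi.zero_apply, sub_eq_zero, inv_mul_cancel_left] at this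
      exact this
    · rintro h ⟨v, u⟩
      rw [e, Pi.zero_apply, sub_eq_zero, ← h v (v⁻¹ * u), mul_inv_cancel_left]
  refine ⟨fun x hx => ?_, ?_⟩
  · rw [hA] at hx
    refine ⟨(Fintype.card M.Group : ℂ)⁻¹ • x, ?_⟩
    funext u
    simp only [Matrix.mulVecLin_apply, Matrix.mulVec, dotProduct, Matrix.map_apply, phiP, Matrix.of_apply,
      Polynomial.eval_finset_sum, Polynomial.eval_mul, Polynomial.eval_pow, Polynomial.eval_X, one_pow, one_mul,
      ok.cst_one hM, Pi.smul_apply, smul_eq_mul]
    rw [Finset.sum_congr rfl fun w _ => show (∑ v : M.Group, ∑ z, (if u = v * z then (1 : ℂ) else 0) *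
        if z = w * v⁻¹ then 1 else 0) * ((Fintype.card M.Group : ℂ)⁻¹ * x w) =
        ∑ v : M.Group, (if u = v * (w * v⁻¹) then (Fintype.card M.Group : ℂ)⁻¹ * x w else 0) by
      simp only [mul_ite, mul_one, mul_zero, Finset.sum_ite_eq', Finset.mem_univ, if_true, Finset.sum_mul, ite_mul,
        one_mul, zero_mul],
      Finset.sum_comm,
      Finset.sum_congr rfl fun v _ => Finset.sum_eq_single (v⁻¹ * u * v) (fun w _ hw => if_neg fun h => hw (by
        rw [h]; simp [mul_assoc])) (by simp)]
    rw [Finset.sum_congr rfl fun v _ => show (if u = v * (v⁻¹ * u * v * v⁻¹) then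
        (Fintype.card M.Group : ℂ)⁻¹ * x (v⁻¹ * u * v) else 0) = (Fintype.card M.Group : ℂ)⁻¹ * x u by
      rw [if_pos (by simp [mul_assoc])]
      congr 1
      conv_lhs => rw [← hx v (v⁻¹ * u * v)]
      simp [mul_assoc],
      Finset.sum_const, Finset.card_univ, nsmul_eq_mul,
      mul_inv_cancel_left₀ (Nat.cast_ne_zero.mpr Fintype.card_pos.ne')]
  · haveI := Fintype.ofFinite (ConjClasses M.Group)
    let e : (ConjClasses M.Group → ℂ) →ₗ[ℂ] (M.Group → ℂ) := LinearMap.funLeft ℂ ℂ ConjClasses.mk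
    have hinj : Function.Injective e := LinearMap.funLeft_injective_of_surjective ℂ ℂ _ ConjClasses.mk_surjective
    have hrange : LinearMap.range e = LinearMap.ker ((ok.adP hM).map (Polynomial.eval (1 : ℂ))).mulVecLin := by
      ext x
      rw [hA]
      constructor
      · rintro ⟨f, rfl⟩ v w
        show f (ConjClasses.mk _) = f (ConjClasses.mk w)
        rw [ConjClasses.mk_eq_mk_iff_isConj.mpr (isConj_iff.mpr ⟨v, rfl⟩).symm]
      · intro h
        refine ⟨fun C => Quotient.liftOn C x fun a b hab => ?_, funext fun w => rfl⟩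
        obtain ⟨c, rfl⟩ := isConj_iff.mp (show IsConj a b from hab)
        exact (h c a).symm
    rw [← hrange, LinearMap.finrank_range_of_inj hinj, Module.finrank_pi, Nat.card_eq_fintype_card]

omit [Fintype M.Group] in
/-- The number of constituents. -/
theorem card_constituents [Fintype F] :
    Nat.card {χ : IrrCharacter ↥(D.group F) // ∃ φ : ↥(D.group F) → ℂ, IsCharacter ↥(D.group F) φ ∧
      fixedPointCharacter (ok.bnPair (F := F)).B = (χ : ↥(D.group F) → ℂ) + φ} = Nat.card (ConjClasses M.Group) := by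
  classical
  haveI := ok.finite_weyl hM
  haveI := Fintype.ofFinite M.Group
  haveI : Finite (GL D.Idx F) := Finite.of_injective _ Units.val_injective
  haveI : Finite ↥(D.group F) := Subtype.finite
  haveI := Fintype.ofFinite ↥(D.group F)
  haveI := Fintype.ofFinite (↥(D.group F) ⧸ (ok.bnPair (F := F)).B)
  have h0 := ok.ad_mul_phi hM
  obtain ⟨h1, h2⟩ := ok.finrank_ker_one hM
  rw [← ok.finrank_ker_card (F := F) hM, ← h2, finrank_ker_eval _ _ h0 _ (ok.ker_le_range_card (F := F) hM),
    finrank_ker_eval _ _ h0 _ h1]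

end OKX

end Cfsg.Agent.Chev
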