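import Cfsg.Agent.Lib.Chev.StPres
import Cfsg.Agent.Lib.Chev.Gens

/-!
Exceptional graph automorphisms in characteristic two, from a check on the tables.
-/

set_option autoImplicit false

namespace Cfsg.Agent.Chev

open Cfsg.Lie

/-- Tables of an exceptional graph map: the permutation of the roots and the exponents. -/
structure ITab where
  per : Tr ℕ
  lam : Tr ℕ

namespace ITab

variable (g : ITab) (D : ChevalleyDatum) (T : Tabs)

noncomputable def perI (r : ℕ) : ℕ := g.per.get 0 r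
noncomputable def lamI (r : ℕ) : ℕ := g.lam.get 0 r

/-- The commutator terms with odd coefficient. -/
noncomputable def oterms (r s : ℕ) : List (ℕ × ℤ × ℕ × ℕ) :=
  filterR (fun q => Nat.beq (Nat.mod q.2.1.natAbs 2) 1) (T.terms r s)

noncomputable def srcL (r s : ℕ) : List (ℕ × ℕ × ℕ) :=
  mapR (fun q => (g.perI q.1, Nat.mul q.2.2.1 (g.lamI q.1), Nat.mul q.2.2.2 (g.lamI q.1))) (oterms T r s)

noncomputable def dstL (r s : ℕ) : List (ℕ × ℕ × ℕ) :=
  mapR (fun q => (q.1, Nat.mul (g.lamI r) q.2.2.1, Nat.mul (g.lamI s) q.2.2.2))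
    (oterms T (g.perI r) (g.perI s))

noncomputable def eq3 (a b : ℕ × ℕ × ℕ) : Bool :=
  andR (Nat.beq a.1 b.1) (andR (Nat.beq a.2.1 b.2.1) (Nat.beq a.2.2 b.2.2))

theorem eq3_imp {a b : ℕ × ℕ × ℕ} (h : eq3 a b = true) : a = b := by
  simp only [eq3, andR_iff, Nat.beq_eq] at h
  obtain ⟨a, a', a''⟩ := a; obtain ⟨b, b', b''⟩ := b
  obtain ⟨rfl, rfl, rfl⟩ := h
  rfl

/-- Equal, or two terms in the other order whose root elements commute. -/
noncomputable def sameW (A B : List (ℕ × ℕ × ℕ)) : Bool :=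
  orR (eqL eq3 A B)
    (@List.rec (ℕ × ℕ × ℕ) (fun _ => Bool) false (fun a A1 _ =>
      @List.rec (ℕ × ℕ × ℕ) (fun _ => Bool) false (fun b A2 _ =>
        andR (isNilR A2) (andR (eqL eq3 B [b, a]) (andR (nlt a.1 D.nroots) (andR (nlt b.1 D.nroots)
          (andR (notR (Nat.beq b.1 a.1)) (andR (notR (Nat.beq b.1 (T.neg a.1)))
            (isNilR (oterms T a.1 b.1)))))))) A1) A)

noncomputable def chk : Bool :=
  allR D.nroots fun r =>
    andR (nlt (g.perI r) D.nroots) <| andR (Nat.beq (g.perI (g.perI r)) r) <|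
    andR (Nat.beq (Nat.mul (g.lamI r) (g.lamI (g.perI r))) 2) <|
    andR (Nat.beq (g.perI (T.neg r)) (T.neg (g.perI r))) <| andR (Nat.beq (g.lamI (T.neg r)) (g.lamI r)) <|
    allR D.nroots fun s =>
      orR (Nat.beq s r) (orR (Nat.beq s (T.neg r)) (sameW D T (g.srcL T r s) (g.dstL T r s)))

end ITab

variable {F : Type*} [Field F] [CharP F 2] {D : ChevalleyDatum} {T : Tabs}

theorem intCast_of_char_two (c : ℤ) : (c : F) = if c.natAbs % 2 = 1 then 1 else 0 := by
  by_cases h : c.natAbs % 2 = 1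
  · obtain ⟨k, hk⟩ : Odd c := Int.natAbs_odd.mp (Nat.odd_iff.mpr h)
    rw [if_pos h, hk, Int.cast_add, Int.cast_mul, Int.cast_one]
    simp [CharTwo.two_eq_zero]
  · rw [if_neg h]
    obtain ⟨k, hk⟩ : Even c := Int.natAbs_even.mp (Nat.even_iff.mpr (by omega))
    rw [hk, Int.cast_add, CharTwo.add_self_eq_zero]

namespace OKX

variable (ok : OKX D T)

include ok

/-- The value of a word given by roots and exponents. -/
def tW (t u : F) (L : List (ℕ × ℕ × ℕ)) : GL D.Idx F :=
  (L.map fun a => ok.toOK.xG a.1 (t ^ a.2.1 * u ^ a.2.2)).prod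

theorem commWord_filter {H : Type*} [Group H] (f : ℕ → F → H) {r s : ℕ} (hr : r < D.nroots) (hs : s < D.nroots)
    (t u : F) (hf : ∀ q ∈ T.terms r s, f q.1 0 = 1) :
    ((D.commWord F r s t u).map fun p => f p.1 p.2).prod =
      ((ITab.oterms T r s).map fun q => f q.1 (t ^ q.2.2.1 * u ^ q.2.2.2)).prod := by
  rw [ChevalleyDatum.commWord, ok.toOK.terms_eq hr hs, List.map_map, ITab.oterms, filterR_eq]
  generalize T.terms r s = L at hf ⊢
  induction L with
  | nil => rfl
  | cons a L ih =>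
    have ih' := ih fun q hq => hf q (List.mem_cons_of_mem _ hq)
    rw [List.map_cons, List.prod_cons, ih', List.filter_cons, Function.comp_apply]
    by_cases h : a.2.1.natAbs % 2 = 1
    · rw [if_pos (show Nat.beq (Nat.mod a.2.1.natAbs 2) 1 = true from Nat.beq_eq.mpr h), List.map_cons, List.prod_cons]
      show f a.1 ((a.2.1 : F) * (-t) ^ a.2.2.1 * u ^ a.2.2.2) * _ = _
      rw [intCast_of_char_two, if_pos h, CharTwo.neg_eq, one_mul]
    · rw [if_neg (show ¬ Nat.beq (Nat.mod a.2.1.natAbs 2) 1 = true from fun e => h (Nat.beq_eq.mp e))]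
      show f a.1 ((a.2.1 : F) * (-t) ^ a.2.2.1 * u ^ a.2.2.2) * _ = _
      rw [intCast_of_char_two, if_neg h, zero_mul, zero_mul, hf a List.mem_cons_self, one_mul]

theorem comm_oterms {r s : ℕ} (hr : r < D.nroots) (hs : s < D.nroots) (h1 : s ≠ r) (h2 : s ≠ T.neg r) (t u : F) :
    ok.toOK.xG s u * ok.toOK.xG r t = ok.toOK.xG r t * ok.toOK.xG s u *
      ((ITab.oterms T r s).map fun q => ok.toOK.xG q.1 (t ^ q.2.2.1 * u ^ q.2.2.2)).prod := by
  rw [← ok.commWord_filter (fun k v => ok.toOK.xG k v) hr hs t u fun q _ => ok.toOK.xG_zero _]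
  refine Units.ext ?_
  show _ = _ * ((ok.toOK.wordG (D.commWord F r s t u) : GL D.Idx F) : Matrix D.Idx D.Idx F)
  rw [OK.coe_wordG]
  exact ok.toOK.comm hr hs h1 (by rwa [ok.toOK.neg_eq hr]) t u

theorem commute_oterms {r s : ℕ} (hr : r < D.nroots) (hs : s < D.nroots) (h1 : s ≠ r) (h2 : s ≠ T.neg r)
    (h3 : ITab.oterms T r s = []) (t u : F) : Commute (ok.toOK.xG r t) (ok.toOK.xG s u) := by
  have := ok.comm_oterms hr hs h1 h2 t u
  rw [h3, List.map_nil, List.prod_nil, mul_one] at this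
  exact this.symm

theorem tW_same (t u : F) {A B : List (ℕ × ℕ × ℕ)} (h : ITab.sameW D T A B = true) : ok.tW t u A = ok.tW t u B := by
  rw [ITab.sameW, orR_iff] at h
  rcases h with h | h
  · rw [eq_of_eqL (fun a b => ITab.eq3_imp) h]
  · match A, h with
    | [], h => cases h
    | [_], h => cases h
    | a :: b :: A2, h =>
      simp only [andR_iff, isNilR_iff, nlt_iff, notR_iff, nbeq_false_iff] at h
      obtain ⟨rfl, hB, ha, hb, h1, h2, h3⟩ := h
      rw [eq_of_eqL (fun a b => ITab.eq3_imp) hB]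
      simp only [tW, List.map_cons, List.map_nil, List.prod_cons, List.prod_nil, mul_one]
      exact ok.commute_oterms ha hb h1 h2 h3 _ _

end OKX

namespace OKX

variable (ok : OKX D T)

include ok

/-- An exceptional graph automorphism. -/
theorem exists_isog (g : ITab) (hg : g.chk D T = true) (hdn : Tabs.chkDn D T = true) (hwit : Tabs.chkWit D T = true)
    {M : List (List (ℕ × ℤ))} (hM : Tabs.chkCow D T M = true) (hperf : ∀ x : F, ∃ y : F, y ^ 2 = x) :
    ∃ α : ↥(D.group F) ≃* ↥(D.group F),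
      (∀ (r : ℕ) (t : F), r < D.nroots → (α ⟨_, ok.toOK.xG_mem_group r t⟩ : GL D.Idx F) =
        ok.toOK.xG (g.perI r) (t ^ g.lamI r)) ∧
      ∀ x : ↥(D.group F), ((α (α x) : GL D.Idx F) : Matrix D.Idx D.Idx F) =
        ((x : GL D.Idx F) : Matrix D.Idx D.Idx F).map (fun a => a ^ 2) := by
  simp only [ITab.chk, allR_iff, andR_iff, orR_iff, nlt_iff, Nat.beq_eq, Nat.mul_eq] at hg
  have plt : ∀ {r}, r < D.nroots → g.perI r < D.nroots := fun h => (hg _ h).1
  have ppr : ∀ {r}, r < D.nroots → g.perI (g.perI r) = r := fun h => (hg _ h).2.1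
  have lmul : ∀ {r}, r < D.nroots → g.lamI r * g.lamI (g.perI r) = 2 := fun h => (hg _ h).2.2.1
  have lne : ∀ {r}, r < D.nroots → g.lamI r ≠ 0 := fun h e => by
    have := lmul h; rw [e, zero_mul] at this; omega
  have ladd : ∀ {r}, r < D.nroots → ∀ a b : F, (a + b) ^ g.lamI r = a ^ g.lamI r + b ^ g.lamI r := by
    intro r h a b
    rcases (Nat.dvd_prime Nat.prime_two).mp (Dvd.intro _ (lmul h)) with e | e <;> rw [e]
    · simp only [pow_one]
    · exact CharTwo.add_sq a b
  set st := ok.presented_hyp (R := D.steinbergRelsAB F) Set.Subset.rfl hdn hwit ok.scHom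
    fun r hr t => ok.scHom_gen hr t with hst
  set f : Fin D.nroots × F → ↥(D.group F) :=
    fun p => ⟨_, ok.toOK.xG_mem_group (g.perI p.1) (p.2 ^ g.lamI p.1)⟩ with hf
  have hX : ∀ (r : ℕ) (t : F) (hr : r < D.nroots), FreeGroup.lift f (D.stX r t) = f (⟨r, hr⟩, t) := by
    intro r t hr
    rw [ChevalleyDatum.stX, dif_pos hr, FreeGroup.lift_apply_of]
  have key : ∀ x ∈ D.steinbergRelsAB F, FreeGroup.lift f x = 1 := by
    rintro x (⟨r, a, b, hr, rfl⟩ | ⟨r, s, a, b, hr, hs, h1, h2, rfl⟩)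
    · rw [map_mul, map_mul, map_inv, hX _ _ hr, hX _ _ hr, hX _ _ hr, mul_inv_eq_one]
      refine Subtype.ext ?_
      show ok.toOK.xG _ _ * ok.toOK.xG _ _ = ok.toOK.xG _ _
      rw [ok.toOK.xG_mul, ← ladd hr]
    · rw [ok.toOK.neg_eq hr] at h2
      have hw : ∀ w : List (ℕ × F), (∀ p ∈ w, p.1 < D.nroots) →
          (FreeGroup.lift f (D.stWord w) : GL D.Idx F) =
            (w.map fun p => ok.toOK.xG (g.perI p.1) (p.2 ^ g.lamI p.1)).prod := by
        intro w
        induction w with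
        | nil => intro _; simp [ChevalleyDatum.stWord]
        | cons p w ih =>
          intro hw
          rw [ChevalleyDatum.stWord, List.map_cons, List.prod_cons, map_mul, Subgroup.coe_mul,
            ← ChevalleyDatum.stWord, ih fun q hq => hw q (List.mem_cons_of_mem _ hq),
            hX _ _ (hw p List.mem_cons_self), List.map_cons, List.prod_cons]
      have hc : ∀ p ∈ D.commWord F r s a b, p.1 < D.nroots := by
        intro p hp
        simp only [ChevalleyDatum.commWord, ok.toOK.terms_eq hr hs, List.mem_map] at hp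
        obtain ⟨q, hq, rfl⟩ := hp
        exact (ok.toOK.term_spec hr hs hq).1
      refine Subtype.ext ?_
      simp only [map_mul, map_inv, Subgroup.coe_mul, Subgroup.coe_inv, hX _ _ hr, hX _ _ hs, hw _ hc,
        OneMemClass.coe_one]
      have h1' : g.perI s ≠ g.perI r := fun e => h1 (by rw [← ppr hs, e, ppr hr])
      have h2' : g.perI s ≠ T.neg (g.perI r) := fun e => h2 (by
        rw [← ppr hs, e, ← (hg r hr).2.2.2.1, ppr (ok.toOK.neg_lt hr)])
      have hsame : ITab.sameW D T (g.srcL T r s) (g.dstL T r s) = true := by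
        rcases (hg r hr).2.2.2.2.2 s hs with e | e | e
        exacts [absurd e h1, absurd e h2, e]
      have e0 := ok.tW_same a b hsame
      have e1 : ((D.commWord F r s a b).map fun p => ok.toOK.xG (g.perI p.1) (p.2 ^ g.lamI p.1)).prod =
          ok.tW a b (g.srcL T r s) := by
        rw [ok.commWord_filter (fun k v => ok.toOK.xG (g.perI k) (v ^ g.lamI k)) hr hs a b
          fun q hq => by rw [zero_pow (lne (ok.toOK.term_spec hr hs hq).1), ok.toOK.xG_zero]]
        rw [OKX.tW, ITab.srcL, mapR_eq, List.map_map]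
        refine congrArg List.prod (List.map_congr_left fun q _ => ?_)
        simp only [Function.comp_apply, Nat.mul_eq, mul_pow, ← pow_mul]
      have e2 : ok.tW a b (g.dstL T r s) = ((ITab.oterms T (g.perI r) (g.perI s)).map fun q =>
          ok.toOK.xG q.1 ((a ^ g.lamI r) ^ q.2.2.1 * (b ^ g.lamI s) ^ q.2.2.2)).prod := by
        rw [OKX.tW, ITab.dstL, mapR_eq, List.map_map]
        refine congrArg List.prod (List.map_congr_left fun q _ => ?_)
        simp only [Function.comp_apply, Nat.mul_eq, ← pow_mul]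
      have := ok.comm_oterms (plt hr) (plt hs) h1' h2' (a ^ g.lamI r) (b ^ g.lamI s)
      rw [e1, e0, e2]
      show (ok.toOK.xG (g.perI s) (b ^ g.lamI s))⁻¹ * (ok.toOK.xG (g.perI r) (a ^ g.lamI r))⁻¹ *
        ok.toOK.xG (g.perI s) (b ^ g.lamI s) * ok.toOK.xG (g.perI r) (a ^ g.lamI r) * _ = 1
      rw [mul_assoc (_ * _) (ok.toOK.xG (g.perI s) (b ^ g.lamI s)) (ok.toOK.xG (g.perI r) (a ^ g.lamI r)), this]
      simp [mul_assoc]
  set ψ : D.SteinbergCover F →* ↥(D.group F) := PresentedGroup.toGroup key with hψ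
  have ψgen : ∀ (r : ℕ) (t : F), r < D.nroots →
      (ψ (D.scGen F r t) : GL D.Idx F) = ok.toOK.xG (g.perI r) (t ^ g.lamI r) := by
    intro r t hr
    rw [ChevalleyDatum.scGen, ChevalleyDatum.stX, dif_pos hr, hψ]
    exact congrArg Subtype.val (PresentedGroup.toGroup.of key)
  have sqr : ∀ x : F, ∀ {k : ℕ}, k ∣ 2 → ∃ y : F, y ^ k = x := by
    intro x k hk
    rcases (Nat.dvd_prime Nat.prime_two).mp hk with rfl | rfl
    exacts [⟨x, pow_one x⟩, hperf x]
  have ψsur : Function.Surjective ψ := by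
    rintro ⟨y, hy⟩
    have : D.group F ≤ ψ.range.map (D.group F).subtype := by
      refine ok.toOK.group_le fun r hr t => ?_
      obtain ⟨u, hu⟩ := sqr t (Dvd.intro _ (lmul (plt hr)))
      refine Subgroup.mem_map.mpr ⟨_, ⟨D.scGen F (g.perI r) u, rfl⟩, ?_⟩
      show (ψ _ : GL D.Idx F) = _
      rw [ψgen _ _ (plt hr), ppr hr, hu]
    obtain ⟨z, ⟨w, rfl⟩, e⟩ := Subgroup.mem_map.mp (this hy)
    exact ⟨w, Subtype.ext e⟩
  have hker : (st.toGrp).ker ≤ ψ.ker := by
    rw [st.ker_toGrp, st.ker_eq_center hM]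
    intro z hz
    have h : ψ z ∈ Subgroup.center ↥(D.group F) := by
      refine Subgroup.mem_center_iff.mpr fun y => ?_
      obtain ⟨x, rfl⟩ := ψsur y
      rw [← map_mul, ← map_mul, Subgroup.mem_center_iff.mp hz x]
    rw [ok.center_group_bot hM, Subgroup.mem_bot] at h
    exact h
  set a : ↥(D.group F) →* ↥(D.group F) := st.toGrp.liftOfSurjective st.toGrp_surjective ⟨ψ, hker⟩ with ha
  have agen : ∀ (r : ℕ) (t : F) (hr : r < D.nroots),
      (a ⟨_, ok.toOK.xG_mem_group r t⟩ : GL D.Idx F) = ok.toOK.xG (g.perI r) (t ^ g.lamI r) := by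
    intro r t hr
    have e : st.toGrp (D.scGen F r t) = ⟨_, ok.toOK.xG_mem_group r t⟩ := Subtype.ext (st.map_y r hr t)
    rw [← e, ha, MonoidHom.liftOfRightInverse_comp_apply]
    exact ψgen r t hr
  haveI : Fact (Nat.Prime 2) := ⟨Nat.prime_two⟩
  haveI : ExpChar F 2 := ExpChar.prime Nat.prime_two
  haveI : PerfectRing F 2 := PerfectRing.ofSurjective F 2 hperf
  set fr : F ≃+* F := frobeniusEquiv F 2 with hfr
  have hfr' : ∀ x, fr x = x ^ 2 := fun x => rfl
  let φ : ↥(D.group F) →* ↥(D.group F) :=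
    { toFun := fun x => ⟨_, ok.toOK.fieldMap_mem fr x.2⟩
      map_one' := Subtype.ext (map_one _)
      map_mul' := fun x y => Subtype.ext (map_mul _ _ _) }
  have haa : ∀ x, (a.comp a) x = φ x := by
    refine ok.toOK.hom_ext fun x i t hi hx => ?_
    have key : ∀ r, r < D.nroots → ((x : GL D.Idx F) : Matrix D.Idx D.Idx F) = D.x F r t → (a.comp a) x = φ x := by
      intro r hr hx
      have ex : x = ⟨_, ok.toOK.xG_mem_group r t⟩ := Subtype.ext (ok.toOK.eq_xG hx)
      subst ex
      refine Subtype.ext ?_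
      show (a (a _) : GL D.Idx F) = fieldMap D fr (ok.toOK.xG r t)
      rw [show a ⟨_, ok.toOK.xG_mem_group r t⟩ = ⟨_, ok.toOK.xG_mem_group (g.perI r) (t ^ g.lamI r)⟩ from
        Subtype.ext (agen r t hr), agen _ _ (plt hr), ppr hr, ← pow_mul, lmul hr, ok.toOK.fieldMap_xG, hfr']
    rcases hx with hx | hx
    · rw [ok.toOK.simple_eq hi] at hx
      exact key _ (ok.toOK.smp_lt hi) hx
    · rw [ok.toOK.simple_eq hi, ok.toOK.neg_eq (ok.toOK.smp_lt hi)] at hx
      exact key _ (ok.toOK.neg_lt (ok.toOK.smp_lt hi)) hx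
  have ainj : Function.Injective a := fun x y h => by
    have := (haa x).symm.trans (show (a.comp a) x = φ y by rw [← haa y]; show a (a x) = a (a y); rw [h])
    refine Subtype.ext ?_
    have h2 := congrArg (fun z : ↥(D.group F) => fieldMap D fr.symm (z : GL D.Idx F)) this
    exact (fieldMap_symm D fr _).symm.trans (h2.trans (fieldMap_symm D fr _))
  have asur : Function.Surjective a := fun y => by
    obtain ⟨w, rfl⟩ := ψsur y
    exact ⟨st.toGrp w, MonoidHom.liftOfRightInverse_comp_apply _ _ _ ⟨ψ, hker⟩ w⟩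
  refine ⟨MulEquiv.ofBijective a ⟨ainj, asur⟩, agen, fun x => ?_⟩
  show ((a (a x) : GL D.Idx F) : Matrix D.Idx D.Idx F) = _
  rw [show a (a x) = φ x from haa x]
  rfl

end OKX

end Cfsg.Agent.Chev
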