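import Cfsg.Agent.Lib.Chev.Isog
import Cfsg.Agent.Lib.Chev.AllX

/-! The exceptional graph maps of B2 and F4. -/

set_option autoImplicit false
set_option maxRecDepth 20000

namespace Cfsg.Agent.Chev

open Cfsg.Lie

noncomputable def B2.isoTab : ITab where
  per := (.node 1 (.node 0 (.node 2 (.node 6 .nil .nil) .nil) (.node 4 .nil .nil)) (.node 3 (.node 5 .nil .nil) (.node 7 .nil .nil)))
  lam := (.node 1 (.node 2 (.node 1 (.node 1 .nil .nil) .nil) (.node 2 .nil .nil)) (.node 2 (.node 1 .nil .nil) (.node 2 .nil .nil)))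

theorem B2.isoTab_ok : B2.isoTab.chk chevB2 B2.T = true := by decide +kernel

noncomputable def F4.isoTab : ITab where
  per := (.node 3 (.node 7 (.node 0 (.node 1 (.node 10 (.node 35 .nil .nil) (.node 44 .nil .nil)) (.node 14 (.node 45 .nil .nil) .nil)) (.node 5 (.node 17 (.node 31 .nil .nil) .nil) (.node 25 (.node 38 .nil .nil) .nil))) (.node 11 (.node 4 (.node 19 (.node 24 .nil .nil) .nil) (.node 27 (.node 29 .nil .nil) .nil)) (.node 21 (.node 13 (.node 32 .nil .nil) .nil) (.node 41 (.node 39 .nil .nil) .nil)))) (.node 8 (.node 9 (.node 2 (.node 12 (.node 37 .nil .nil) .nil) (.node 33 (.node 46 .nil .nil) .nil)) (.node 16 (.node 22 (.node 42 .nil .nil) .nil) (.node 30 (.node 47 .nil .nil) .nil))) (.node 18 (.node 15 (.node 6 (.node 26 .nil .nil) .nil) (.node 34 (.node 36 .nil .nil) .nil)) (.node 23 (.node 20 (.node 43 .nil .nil) .nil) (.node 28 (.node 40 .nil .nil) .nil)))))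
  lam := (.node 1 (.node 1 (.node 2 (.node 2 (.node 1 (.node 1 .nil .nil) (.node 1 .nil .nil)) (.node 1 (.node 2 .nil .nil) .nil)) (.node 2 (.node 2 (.node 2 .nil .nil) .nil) (.node 2 (.node 1 .nil .nil) .nil))) (.node 1 (.node 2 (.node 1 (.node 2 .nil .nil) .nil) (.node 1 (.node 1 .nil .nil) .nil)) (.node 2 (.node 1 (.node 2 .nil .nil) .nil) (.node 2 (.node 1 .nil .nil) .nil)))) (.node 1 (.node 1 (.node 2 (.node 1 (.node 1 .nil .nil) .nil) (.node 1 (.node 2 .nil .nil) .nil)) (.node 2 (.node 2 (.node 2 .nil .nil) .nil) (.node 2 (.node 2 .nil .nil) .nil))) (.node 1 (.node 2 (.node 2 (.node 2 .nil .nil) .nil) (.node 1 (.node 1 .nil .nil) .nil)) (.node 2 (.node 1 (.node 2 .nil .nil) .nil) (.node 1 (.node 1 .nil .nil) .nil)))))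

theorem F4.isoTab_ok : F4.isoTab.chk chevF4 F4.T = true := by decide +kernel

end Cfsg.Agent.Chev
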