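import Cfsg.Agent.Lib.Chev.ParaCent
import Cfsg.Agent.Lib.Chev.CowData

/-! Sums of roots across a node. -/

set_option autoImplicit false
set_option maxRecDepth 20000

namespace Cfsg.Agent.Chev

open Cfsg.Lie

theorem G2.join_ok : Tabs.chkJoin chevG2 G2.T = true := by decide +kernel

theorem B2.join_ok : Tabs.chkJoin chevB2 B2.T = true := by decide +kernel

theorem D4.join_ok : Tabs.chkJoin chevD4 D4.T = true := by decide +kernel

theorem F4.join_ok : Tabs.chkJoin chevF4 F4.T = true := by decide +kernel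

theorem E6.join_ok : Tabs.chkJoin chevE6 E6.T = true := by decide +kernel

theorem E7.join_ok : Tabs.chkJoin chevE7 E7.T = true := by decide +kernel

theorem E8.join_ok : Tabs.chkJoin chevE8 E8.T = true := by decide +kernel

theorem exists_cow_join {D : ChevalleyDatum}
    (hD : D ∈ [chevG2, chevB2, chevD4, chevF4, chevE6, chevE7, chevE8]) :
    ∃ T, OKX D T ∧ (∃ M, Tabs.chkCow D T M = true) ∧ Tabs.chkJoin D T = true := by
  simp only [List.mem_cons, List.not_mem_nil, or_false] at hD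
  rcases hD with rfl | rfl | rfl | rfl | rfl | rfl | rfl
  exacts [⟨_, G2.okx, ⟨_, G2.cow_ok⟩, G2.join_ok⟩, ⟨_, B2.okx, ⟨_, B2.cow_ok⟩, B2.join_ok⟩,
    ⟨_, D4.okx, ⟨_, D4.cow_ok⟩, D4.join_ok⟩, ⟨_, F4.okx, ⟨_, F4.cow_ok⟩, F4.join_ok⟩,
    ⟨_, E6.okx, ⟨_, E6.cow_ok⟩, E6.join_ok⟩, ⟨_, E7.okx, ⟨_, E7.cow_ok⟩, E7.join_ok⟩,
    ⟨_, E8.okx, ⟨_, E8.cow_ok⟩, E8.join_ok⟩]

end Cfsg.Agent.Chev
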