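import Cfsg.Agent.Lib.Chev.Poincare
import Cfsg.Agent.Lib.Chev.DataD4
import Cfsg.Prelude.Def_ChevD4

/-! Generated coset representatives along a chain of parabolic subgroups of type D4. -/

set_option autoImplicit false
set_option maxRecDepth 20000

namespace Cfsg.Agent.Chev.D4

open Cfsg.Lie

def lev0 : Tabs.Level :=
  [([], [(3, .inl [3])]),
   ([3], [(3, .inl [])])]

theorem lev0_ok : Tabs.chkLevel chevD4 T [3] [] lev0 = true := by decide +kernel

theorem lev0_distinct : Tabs.chkDistinct (lev0.map fun f => Tabs.imgs chevD4 T f.1) = true := by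
  have e : (lev0.map fun f => Tabs.imgs chevD4 T f.1) =
      [[18, 14, 13, 12], [18, 15, 13, 11]] := by decide +kernel
  rw [e]
  decide +kernel

def lev1 : Tabs.Level :=
  [([], [(1, .inl [1]), (3, .inr 3)]),
   ([1], [(1, .inl []), (3, .inl [3, 1])]),
   ([3, 1], [(1, .inr 3), (3, .inl [1])])]

theorem lev1_ok : Tabs.chkLevel chevD4 T [1, 3] [3] lev1 = true := by decide +kernel

theorem lev1_distinct : Tabs.chkDistinct (lev1.map fun f => Tabs.imgs chevD4 T f.1) = true := by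
  have e : (lev1.map fun f => Tabs.imgs chevD4 T f.1) =
      [[18, 14, 13, 12], [19, 9, 16, 15], [20, 8, 17, 14]] := by decide +kernel
  rw [e]
  decide +kernel

def lev2 : Tabs.Level :=
  [([], [(1, .inr 1), (2, .inl [2]), (3, .inr 3)]),
   ([2], [(1, .inl [1, 2]), (2, .inl []), (3, .inr 3)]),
   ([1, 2], [(1, .inl [2]), (2, .inr 1), (3, .inl [3, 1, 2])]),
   ([3, 1, 2], [(1, .inr 3), (2, .inr 1), (3, .inl [1, 2])])]

theorem lev2_ok : Tabs.chkLevel chevD4 T [1, 2, 3] [1, 3] lev2 = true := by decide +kernel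

theorem lev2_distinct : Tabs.chkDistinct (lev2.map fun f => Tabs.imgs chevD4 T f.1) = true := by
  have e : (lev2.map fun f => Tabs.imgs chevD4 T f.1) =
      [[18, 14, 13, 12], [18, 16, 10, 12], [19, 13, 7, 15], [20, 13, 6, 14]] := by decide +kernel
  rw [e]
  decide +kernel

def lev3 : Tabs.Level :=
  [([], [(0, .inl [0]), (1, .inr 1), (2, .inr 2), (3, .inr 3)]),
   ([0], [(0, .inl []), (1, .inl [1, 0]), (2, .inr 2), (3, .inr 3)]),
   ([1, 0], [(0, .inr 1), (1, .inl [0]), (2, .inl [2, 1, 0]), (3, .inl [3, 1, 0])]),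
   ([2, 1, 0], [(0, .inr 1), (1, .inr 2), (2, .inl [1, 0]), (3, .inl [3, 2, 1, 0])]),
   ([3, 1, 0], [(0, .inr 1), (1, .inr 3), (2, .inl [3, 2, 1, 0]), (3, .inl [1, 0])]),
   ([3, 2, 1, 0], [(0, .inr 1), (1, .inl [1, 3, 2, 1, 0]), (2, .inl [3, 1, 0]), (3, .inl [2, 1, 0])]),
   ([1, 3, 2, 1, 0], [(0, .inl [0, 1, 3, 2, 1, 0]), (1, .inl [3, 2, 1, 0]), (2, .inr 3), (3, .inr 2)]),
   ([0, 1, 3, 2, 1, 0], [(0, .inl [1, 3, 2, 1, 0]), (1, .inr 1), (2, .inr 3), (3, .inr 2)])]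

theorem lev3_ok : Tabs.chkLevel chevD4 T [0, 1, 2, 3] [1, 2, 3] lev3 = true := by decide +kernel

theorem lev3_distinct : Tabs.chkDistinct (lev3.map fun f => Tabs.imgs chevD4 T f.1) = true := by
  have e : (lev3.map fun f => Tabs.imgs chevD4 T f.1) =
      [[18, 14, 13, 12], [5, 19, 13, 12], [4, 18, 16, 15], [2, 18, 14, 17], [3, 18, 17, 14], [1, 18, 15, 16], [0, 19, 12, 13], [0, 14, 12, 13]] := by decide +kernel
  rw [e]
  decide +kernel

end Cfsg.Agent.Chev.D4
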