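import Cfsg.Agent.Lib.Chev.Poincare
import Cfsg.Agent.Lib.Chev.DataE6
import Cfsg.Prelude.Def_ChevE6

/-! Generated coset representatives along a chain of parabolic subgroups of type E6. -/

set_option autoImplicit false
set_option maxRecDepth 20000

namespace Cfsg.Agent.Chev.E6

open Cfsg.Lie

def lev0 : Tabs.Level :=
  [([], [(4, .inl [4])]),
   ([4], [(4, .inl [])])]

theorem lev0_ok : Tabs.chkLevel chevE6 T [4] [] lev0 = true := by decide +kernel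

theorem lev0_distinct : Tabs.chkDistinct (lev0.map fun f => Tabs.imgs chevE6 T f.1) = true := by
  have e : (lev0.map fun f => Tabs.imgs chevE6 T f.1) =
      [[56, 46, 42, 39, 37, 36], [56, 46, 42, 40, 34, 38]] := by decide +kernel
  rw [e]
  decide +kernel

def lev1 : Tabs.Level :=
  [([], [(3, .inl [3]), (4, .inr 4)]),
   ([3], [(3, .inl []), (4, .inl [4, 3])]),
   ([4, 3], [(3, .inr 4), (4, .inl [3])])]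

theorem lev1_ok : Tabs.chkLevel chevE6 T [3, 4] [4] lev1 = true := by decide +kernel

theorem lev1_distinct : Tabs.chkDistinct (lev1.map fun f => Tabs.imgs chevE6 T f.1) = true := by
  have e : (lev1.map fun f => Tabs.imgs chevE6 T f.1) =
      [[56, 46, 42, 39, 37, 36], [56, 47, 43, 32, 40, 36], [56, 48, 44, 31, 39, 38]] := by decide +kernel
  rw [e]
  decide +kernel

def lev2 : Tabs.Level :=
  [([], [(2, .inl [2]), (3, .inr 3), (4, .inr 4)]),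
   ([2], [(2, .inl []), (3, .inl [3, 2]), (4, .inr 4)]),
   ([3, 2], [(2, .inr 3), (3, .inl [2]), (4, .inl [4, 3, 2])]),
   ([4, 3, 2], [(2, .inr 3), (3, .inr 4), (4, .inl [3, 2])])]

theorem lev2_ok : Tabs.chkLevel chevE6 T [2, 3, 4] [3, 4] lev2 = true := by decide +kernel

theorem lev2_distinct : Tabs.chkDistinct (lev2.map fun f => Tabs.imgs chevE6 T f.1) = true := by
  have e : (lev2.map fun f => Tabs.imgs chevE6 T f.1) =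
      [[56, 46, 42, 39, 37, 36], [57, 46, 29, 43, 37, 36], [58, 47, 28, 42, 40, 36], [59, 48, 27, 42, 39, 38]] := by decide +kernel
  rw [e]
  decide +kernel

def lev3 : Tabs.Level :=
  [([], [(1, .inl [1]), (2, .inr 2), (3, .inr 3), (4, .inr 4)]),
   ([1], [(1, .inl []), (2, .inr 2), (3, .inl [3, 1]), (4, .inr 4)]),
   ([3, 1], [(1, .inr 3), (2, .inl [2, 3, 1]), (3, .inl [1]), (4, .inl [4, 3, 1])]),
   ([2, 3, 1], [(1, .inr 3), (2, .inl [3, 1]), (3, .inr 2), (4, .inl [4, 2, 3, 1])]),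
   ([4, 3, 1], [(1, .inr 3), (2, .inl [4, 2, 3, 1]), (3, .inr 4), (4, .inl [3, 1])]),
   ([4, 2, 3, 1], [(1, .inr 3), (2, .inl [4, 3, 1]), (3, .inl [3, 4, 2, 3, 1]), (4, .inl [2, 3, 1])]),
   ([3, 4, 2, 3, 1], [(1, .inl [1, 3, 4, 2, 3, 1]), (2, .inr 4), (3, .inl [4, 2, 3, 1]), (4, .inr 2)]),
   ([1, 3, 4, 2, 3, 1], [(1, .inl [3, 4, 2, 3, 1]), (2, .inr 4), (3, .inr 3), (4, .inr 2)])]

theorem lev3_ok : Tabs.chkLevel chevE6 T [1, 2, 3, 4] [2, 3, 4] lev3 = true := by decide +kernel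

theorem lev3_distinct : Tabs.chkDistinct (lev3.map fun f => Tabs.imgs chevE6 T f.1) = true := by
  have e : (lev3.map fun f => Tabs.imgs chevE6 T f.1) =
      [[56, 46, 42, 39, 37, 36], [56, 25, 42, 47, 37, 36], [56, 24, 43, 46, 40, 36], [57, 21, 39, 46, 44, 36], [56, 23, 44, 46, 39, 38], [57, 20, 40, 46, 43, 38], [58, 18, 37, 47, 42, 41], [61, 18, 37, 39, 42, 49]] := by decide +kernel
  rw [e]
  decide +kernel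

def lev4 : Tabs.Level :=
  [([], [(1, .inr 1), (2, .inr 2), (3, .inr 3), (4, .inr 4), (5, .inl [5])]),
   ([5], [(1, .inr 1), (2, .inr 2), (3, .inr 3), (4, .inl [4, 5]), (5, .inl [])]),
   ([4, 5], [(1, .inr 1), (2, .inr 2), (3, .inl [3, 4, 5]), (4, .inl [5]), (5, .inr 4)]),
   ([3, 4, 5], [(1, .inl [1, 3, 4, 5]), (2, .inl [2, 3, 4, 5]), (3, .inl [4, 5]), (4, .inr 3), (5, .inr 4)]),
   ([1, 3, 4, 5], [(1, .inl [3, 4, 5]), (2, .inl [2, 1, 3, 4, 5]), (3, .inr 1), (4, .inr 3), (5, .inr 4)]),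
   ([2, 3, 4, 5], [(1, .inl [2, 1, 3, 4, 5]), (2, .inl [3, 4, 5]), (3, .inr 2), (4, .inr 3), (5, .inr 4)]),
   ([2, 1, 3, 4, 5], [(1, .inl [2, 3, 4, 5]), (2, .inl [1, 3, 4, 5]), (3, .inl [3, 2, 1, 3, 4, 5]), (4, .inr 3), (5, .inr 4)]),
   ([3, 2, 1, 3, 4, 5], [(1, .inr 2), (2, .inr 1), (3, .inl [2, 1, 3, 4, 5]), (4, .inl [4, 3, 2, 1, 3, 4, 5]), (5, .inr 4)]),
   ([4, 3, 2, 1, 3, 4, 5], [(1, .inr 2), (2, .inr 1), (3, .inr 3), (4, .inl [3, 2, 1, 3, 4, 5]), (5, .inl [5, 4, 3, 2, 1, 3, 4, 5])]),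
   ([5, 4, 3, 2, 1, 3, 4, 5], [(1, .inr 2), (2, .inr 1), (3, .inr 3), (4, .inr 4), (5, .inl [4, 3, 2, 1, 3, 4, 5])])]

theorem lev4_ok : Tabs.chkLevel chevE6 T [1, 2, 3, 4, 5] [1, 2, 3, 4] lev4 = true := by decide +kernel

theorem lev4_distinct : Tabs.chkDistinct (lev4.map fun f => Tabs.imgs chevE6 T f.1) = true := by
  have e : (lev4.map fun f => Tabs.imgs chevE6 T f.1) =
      [[56, 46, 42, 39, 37, 36], [56, 46, 42, 39, 38, 35], [56, 46, 42, 40, 36, 33], [56, 47, 43, 37, 36, 30], [56, 39, 50, 37, 36, 22], [57, 50, 39, 37, 36, 26], [57, 43, 47, 37, 36, 19], [58, 42, 46, 40, 36, 17], [59, 42, 46, 39, 38, 16], [60, 42, 46, 39, 37, 16]] := by decide +kernel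
  rw [e]
  decide +kernel

def lev5 : Tabs.Level :=
  [([], [(0, .inl [0]), (1, .inr 1), (2, .inr 2), (3, .inr 3), (4, .inr 4), (5, .inr 5)]),
   ([0], [(0, .inl []), (1, .inr 1), (2, .inl [2, 0]), (3, .inr 3), (4, .inr 4), (5, .inr 5)]),
   ([2, 0], [(0, .inr 2), (1, .inr 1), (2, .inl [0]), (3, .inl [3, 2, 0]), (4, .inr 4), (5, .inr 5)]),
   ([3, 2, 0], [(0, .inr 2), (1, .inl [1, 3, 2, 0]), (2, .inr 3), (3, .inl [2, 0]), (4, .inl [4, 3, 2, 0]), (5, .inr 5)]),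
   ([1, 3, 2, 0], [(0, .inr 2), (1, .inl [3, 2, 0]), (2, .inr 3), (3, .inr 1), (4, .inl [4, 1, 3, 2, 0]), (5, .inr 5)]),
   ([4, 3, 2, 0], [(0, .inr 2), (1, .inl [4, 1, 3, 2, 0]), (2, .inr 3), (3, .inr 4), (4, .inl [3, 2, 0]), (5, .inl [5, 4, 3, 2, 0])]),
   ([4, 1, 3, 2, 0], [(0, .inr 2), (1, .inl [4, 3, 2, 0]), (2, .inr 3), (3, .inl [3, 4, 1, 3, 2, 0]), (4, .inl [1, 3, 2, 0]), (5, .inl [5, 4, 1, 3, 2, 0])]),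
   ([5, 4, 3, 2, 0], [(0, .inr 2), (1, .inl [5, 4, 1, 3, 2, 0]), (2, .inr 3), (3, .inr 4), (4, .inr 5), (5, .inl [4, 3, 2, 0])]),
   ([3, 4, 1, 3, 2, 0], [(0, .inr 2), (1, .inr 4), (2, .inl [2, 3, 4, 1, 3, 2, 0]), (3, .inl [4, 1, 3, 2, 0]), (4, .inr 1), (5, .inl [5, 3, 4, 1, 3, 2, 0])]),
   ([5, 4, 1, 3, 2, 0], [(0, .inr 2), (1, .inl [5, 4, 3, 2, 0]), (2, .inr 3), (3, .inl [5, 3, 4, 1, 3, 2, 0]), (4, .inr 5), (5, .inl [4, 1, 3, 2, 0])]),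
   ([2, 3, 4, 1, 3, 2, 0], [(0, .inl [0, 2, 3, 4, 1, 3, 2, 0]), (1, .inr 4), (2, .inl [3, 4, 1, 3, 2, 0]), (3, .inr 3), (4, .inr 1), (5, .inl [5, 2, 3, 4, 1, 3, 2, 0])]),
   ([5, 3, 4, 1, 3, 2, 0], [(0, .inr 2), (1, .inr 4), (2, .inl [5, 2, 3, 4, 1, 3, 2, 0]), (3, .inl [5, 4, 1, 3, 2, 0]), (4, .inl [4, 5, 3, 4, 1, 3, 2, 0]), (5, .inl [3, 4, 1, 3, 2, 0])]),
   ([0, 2, 3, 4, 1, 3, 2, 0], [(0, .inl [2, 3, 4, 1, 3, 2, 0]), (1, .inr 4), (2, .inr 2), (3, .inr 3), (4, .inr 1), (5, .inl [5, 0, 2, 3, 4, 1, 3, 2, 0])]),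
   ([5, 2, 3, 4, 1, 3, 2, 0], [(0, .inl [5, 0, 2, 3, 4, 1, 3, 2, 0]), (1, .inr 4), (2, .inl [5, 3, 4, 1, 3, 2, 0]), (3, .inr 3), (4, .inl [4, 5, 2, 3, 4, 1, 3, 2, 0]), (5, .inl [2, 3, 4, 1, 3, 2, 0])]),
   ([4, 5, 3, 4, 1, 3, 2, 0], [(0, .inr 2), (1, .inr 4), (2, .inl [4, 5, 2, 3, 4, 1, 3, 2, 0]), (3, .inr 5), (4, .inl [5, 3, 4, 1, 3, 2, 0]), (5, .inr 1)]),
   ([5, 0, 2, 3, 4, 1, 3, 2, 0], [(0, .inl [5, 2, 3, 4, 1, 3, 2, 0]), (1, .inr 4), (2, .inr 2), (3, .inr 3), (4, .inl [4, 5, 0, 2, 3, 4, 1, 3, 2, 0]), (5, .inl [0, 2, 3, 4, 1, 3, 2, 0])]),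
   ([4, 5, 2, 3, 4, 1, 3, 2, 0], [(0, .inl [4, 5, 0, 2, 3, 4, 1, 3, 2, 0]), (1, .inr 4), (2, .inl [4, 5, 3, 4, 1, 3, 2, 0]), (3, .inl [3, 4, 5, 2, 3, 4, 1, 3, 2, 0]), (4, .inl [5, 2, 3, 4, 1, 3, 2, 0]), (5, .inr 1)]),
   ([4, 5, 0, 2, 3, 4, 1, 3, 2, 0], [(0, .inl [4, 5, 2, 3, 4, 1, 3, 2, 0]), (1, .inr 4), (2, .inr 2), (3, .inl [3, 4, 5, 0, 2, 3, 4, 1, 3, 2, 0]), (4, .inl [5, 0, 2, 3, 4, 1, 3, 2, 0]), (5, .inr 1)]),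
   ([3, 4, 5, 2, 3, 4, 1, 3, 2, 0], [(0, .inl [3, 4, 5, 0, 2, 3, 4, 1, 3, 2, 0]), (1, .inl [1, 3, 4, 5, 2, 3, 4, 1, 3, 2, 0]), (2, .inr 5), (3, .inl [4, 5, 2, 3, 4, 1, 3, 2, 0]), (4, .inr 3), (5, .inr 1)]),
   ([3, 4, 5, 0, 2, 3, 4, 1, 3, 2, 0], [(0, .inl [3, 4, 5, 2, 3, 4, 1, 3, 2, 0]), (1, .inl [1, 3, 4, 5, 0, 2, 3, 4, 1, 3, 2, 0]), (2, .inl [2, 3, 4, 5, 0, 2, 3, 4, 1, 3, 2, 0]), (3, .inl [4, 5, 0, 2, 3, 4, 1, 3, 2, 0]), (4, .inr 3), (5, .inr 1)]),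
   ([1, 3, 4, 5, 2, 3, 4, 1, 3, 2, 0], [(0, .inl [1, 3, 4, 5, 0, 2, 3, 4, 1, 3, 2, 0]), (1, .inl [3, 4, 5, 2, 3, 4, 1, 3, 2, 0]), (2, .inr 5), (3, .inr 4), (4, .inr 3), (5, .inr 1)]),
   ([1, 3, 4, 5, 0, 2, 3, 4, 1, 3, 2, 0], [(0, .inl [1, 3, 4, 5, 2, 3, 4, 1, 3, 2, 0]), (1, .inl [3, 4, 5, 0, 2, 3, 4, 1, 3, 2, 0]), (2, .inl [2, 1, 3, 4, 5, 0, 2, 3, 4, 1, 3, 2, 0]), (3, .inr 4), (4, .inr 3), (5, .inr 1)]),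
   ([2, 3, 4, 5, 0, 2, 3, 4, 1, 3, 2, 0], [(0, .inr 5), (1, .inl [2, 1, 3, 4, 5, 0, 2, 3, 4, 1, 3, 2, 0]), (2, .inl [3, 4, 5, 0, 2, 3, 4, 1, 3, 2, 0]), (3, .inr 2), (4, .inr 3), (5, .inr 1)]),
   ([2, 1, 3, 4, 5, 0, 2, 3, 4, 1, 3, 2, 0], [(0, .inr 5), (1, .inl [2, 3, 4, 5, 0, 2, 3, 4, 1, 3, 2, 0]), (2, .inl [1, 3, 4, 5, 0, 2, 3, 4, 1, 3, 2, 0]), (3, .inl [3, 2, 1, 3, 4, 5, 0, 2, 3, 4, 1, 3, 2, 0]), (4, .inr 3), (5, .inr 1)]),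
   ([3, 2, 1, 3, 4, 5, 0, 2, 3, 4, 1, 3, 2, 0], [(0, .inr 5), (1, .inr 2), (2, .inr 4), (3, .inl [2, 1, 3, 4, 5, 0, 2, 3, 4, 1, 3, 2, 0]), (4, .inl [4, 3, 2, 1, 3, 4, 5, 0, 2, 3, 4, 1, 3, 2, 0]), (5, .inr 1)]),
   ([4, 3, 2, 1, 3, 4, 5, 0, 2, 3, 4, 1, 3, 2, 0], [(0, .inr 5), (1, .inr 2), (2, .inr 4), (3, .inr 3), (4, .inl [3, 2, 1, 3, 4, 5, 0, 2, 3, 4, 1, 3, 2, 0]), (5, .inl [5, 4, 3, 2, 1, 3, 4, 5, 0, 2, 3, 4, 1, 3, 2, 0])]),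
   ([5, 4, 3, 2, 1, 3, 4, 5, 0, 2, 3, 4, 1, 3, 2, 0], [(0, .inr 5), (1, .inr 2), (2, .inr 4), (3, .inr 3), (4, .inr 1), (5, .inl [4, 3, 2, 1, 3, 4, 5, 0, 2, 3, 4, 1, 3, 2, 0])])]

theorem lev5_ok : Tabs.chkLevel chevE6 T [0, 1, 2, 3, 4, 5] [1, 2, 3, 4, 5] lev5 = true := by decide +kernel

theorem lev5_distinct : Tabs.chkDistinct (lev5.map fun f => Tabs.imgs chevE6 T f.1) = true := by
  have e : (lev5.map fun f => Tabs.imgs chevE6 T f.1) =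
      [[56, 46, 42, 39, 37, 36], [15, 46, 57, 39, 37, 36], [14, 46, 56, 43, 37, 36], [13, 47, 56, 42, 40, 36], [10, 39, 56, 42, 48, 36], [12, 48, 56, 42, 39, 38], [9, 40, 56, 42, 47, 38], [11, 49, 56, 42, 39, 37], [7, 37, 56, 43, 46, 41], [8, 41, 56, 42, 47, 37], [4, 37, 57, 39, 46, 45], [6, 38, 56, 43, 46, 40], [4, 37, 42, 39, 46, 60], [3, 38, 57, 39, 46, 44], [5, 36, 56, 44, 46, 39], [3, 38, 42, 39, 46, 59], [2, 36, 57, 40, 46, 43], [2, 36, 42, 40, 46, 58], [1, 36, 58, 37, 47, 42], [1, 36, 43, 37, 47, 57], [0, 36, 61, 37, 39, 42], [0, 36, 50, 37, 39, 57], [1, 36, 39, 37, 50, 56], [0, 36, 47, 37, 43, 56], [0, 36, 46, 40, 42, 56], [0, 38, 46, 39, 42, 56], [0, 37, 46, 39, 42, 56]] := by decide +kernel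
  rw [e]
  decide +kernel

end Cfsg.Agent.Chev.E6
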