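import Cfsg.Agent.Lib.Chev.Poincare
import Cfsg.Agent.Lib.Chev.DataE7
import Cfsg.Prelude.Def_ChevE7

/-! Generated coset representatives along a chain of parabolic subgroups of type E7. -/

set_option autoImplicit false
set_option maxRecDepth 20000

namespace Cfsg.Agent.Chev.E7

open Cfsg.Lie

def lev0 : Tabs.Level :=
  [([], [(4, .inl [4])]),
   ([4], [(4, .inl [])])]

theorem lev0_ok : Tabs.chkLevel chevE7 T [4] [] lev0 = true := by decide +kernel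

theorem lev0_distinct : Tabs.chkDistinct (lev0.map fun f => Tabs.imgs chevE7 T f.1) = true := by
  have e : (lev0.map fun f => Tabs.imgs chevE7 T f.1) =
      [[93, 78, 73, 69, 66, 64, 63], [93, 78, 73, 70, 59, 67, 63]] := by decide +kernel
  rw [e]
  decide +kernel

def lev1 : Tabs.Level :=
  [([], [(3, .inl [3]), (4, .inr 4)]),
   ([3], [(3, .inl []), (4, .inl [4, 3])]),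
   ([4, 3], [(3, .inr 4), (4, .inl [3])])]

theorem lev1_ok : Tabs.chkLevel chevE7 T [3, 4] [4] lev1 = true := by decide +kernel

theorem lev1_distinct : Tabs.chkDistinct (lev1.map fun f => Tabs.imgs chevE7 T f.1) = true := by
  have e : (lev1.map fun f => Tabs.imgs chevE7 T f.1) =
      [[93, 78, 73, 69, 66, 64, 63], [93, 79, 74, 56, 70, 64, 63], [93, 80, 75, 55, 69, 67, 63]] := by decide +kernel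
  rw [e]
  decide +kernel

def lev2 : Tabs.Level :=
  [([], [(2, .inl [2]), (3, .inr 3), (4, .inr 4)]),
   ([2], [(2, .inl []), (3, .inl [3, 2]), (4, .inr 4)]),
   ([3, 2], [(2, .inr 3), (3, .inl [2]), (4, .inl [4, 3, 2])]),
   ([4, 3, 2], [(2, .inr 3), (3, .inr 4), (4, .inl [3, 2])])]

theorem lev2_ok : Tabs.chkLevel chevE7 T [2, 3, 4] [3, 4] lev2 = true := by decide +kernel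

theorem lev2_distinct : Tabs.chkDistinct (lev2.map fun f => Tabs.imgs chevE7 T f.1) = true := by
  have e : (lev2.map fun f => Tabs.imgs chevE7 T f.1) =
      [[93, 78, 73, 69, 66, 64, 63], [94, 78, 52, 74, 66, 64, 63], [95, 79, 51, 73, 70, 64, 63], [96, 80, 50, 73, 69, 67, 63]] := by decide +kernel
  rw [e]
  decide +kernel

def lev3 : Tabs.Level :=
  [([], [(1, .inl [1]), (2, .inr 2), (3, .inr 3), (4, .inr 4)]),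
   ([1], [(1, .inl []), (2, .inr 2), (3, .inl [3, 1]), (4, .inr 4)]),
   ([3, 1], [(1, .inr 3), (2, .inl [2, 3, 1]), (3, .inl [1]), (4, .inl [4, 3, 1])]),
   ([2, 3, 1], [(1, .inr 3), (2, .inl [3, 1]), (3, .inr 2), (4, .inl [4, 2, 3, 1])]),
   ([4, 3, 1], [(1, .inr 3), (2, .inl [4, 2, 3, 1]), (3, .inr 4), (4, .inl [3, 1])]),
   ([4, 2, 3, 1], [(1, .inr 3), (2, .inl [4, 3, 1]), (3, .inl [3, 4, 2, 3, 1]), (4, .inl [2, 3, 1])]),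
   ([3, 4, 2, 3, 1], [(1, .inl [1, 3, 4, 2, 3, 1]), (2, .inr 4), (3, .inl [4, 2, 3, 1]), (4, .inr 2)]),
   ([1, 3, 4, 2, 3, 1], [(1, .inl [3, 4, 2, 3, 1]), (2, .inr 4), (3, .inr 3), (4, .inr 2)])]

theorem lev3_ok : Tabs.chkLevel chevE7 T [1, 2, 3, 4] [2, 3, 4] lev3 = true := by decide +kernel

theorem lev3_distinct : Tabs.chkDistinct (lev3.map fun f => Tabs.imgs chevE7 T f.1) = true := by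
  have e : (lev3.map fun f => Tabs.imgs chevE7 T f.1) =
      [[93, 78, 73, 69, 66, 64, 63], [93, 47, 73, 79, 66, 64, 63], [93, 46, 74, 78, 70, 64, 63], [94, 42, 69, 78, 75, 64, 63], [93, 45, 75, 78, 69, 67, 63], [94, 41, 70, 78, 74, 67, 63], [95, 38, 66, 79, 73, 71, 63], [99, 38, 66, 69, 73, 81, 63]] := by decide +kernel
  rw [e]
  decide +kernel

def lev4 : Tabs.Level :=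
  [([], [(1, .inr 1), (2, .inr 2), (3, .inr 3), (4, .inr 4), (5, .inl [5])]),
   ([5], [(1, .inr 1), (2, .inr 2), (3, .inr 3), (4, .inl [4, 5]), (5, .inl [])]),
   ([4, 5], [(1, .inr 1), (2, .inr 2), (3, .inl [3, 4, 5]), (4, .inl [5]), (5, .inr 4)]),
   ([3, 4, 5], [(1, .inl [1, 3, 4, 5]), (2, .inl [2, 3, 4, 5]), (3, .inl [4, 5]), (4, .inr 3), (5, .inr 4)]),
   ([1, 3, 4, 5], [(1, .inl [3, 4, 5]), (2, .inl [2, 1, 3, 4, 5]), (3, .inr 1), (4, .inr 3), (5, .inr 4)]),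
   ([2, 3, 4, 5], [(1, .inl [2, 1, 3, 4, 5]), (2, .inl [3, 4, 5]), (3, .inr 2), (4, .inr 3), (5, .inr 4)]),
   ([2, 1, 3, 4, 5], [(1, .inl [2, 3, 4, 5]), (2, .inl [1, 3, 4, 5]), (3, .inl [3, 2, 1, 3, 4, 5]), (4, .inr 3), (5, .inr 4)]),
   ([3, 2, 1, 3, 4, 5], [(1, .inr 2), (2, .inr 1), (3, .inl [2, 1, 3, 4, 5]), (4, .inl [4, 3, 2, 1, 3, 4, 5]), (5, .inr 4)]),
   ([4, 3, 2, 1, 3, 4, 5], [(1, .inr 2), (2, .inr 1), (3, .inr 3), (4, .inl [3, 2, 1, 3, 4, 5]), (5, .inl [5, 4, 3, 2, 1, 3, 4, 5])]),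
   ([5, 4, 3, 2, 1, 3, 4, 5], [(1, .inr 2), (2, .inr 1), (3, .inr 3), (4, .inr 4), (5, .inl [4, 3, 2, 1, 3, 4, 5])])]

theorem lev4_ok : Tabs.chkLevel chevE7 T [1, 2, 3, 4, 5] [1, 2, 3, 4] lev4 = true := by decide +kernel

theorem lev4_distinct : Tabs.chkDistinct (lev4.map fun f => Tabs.imgs chevE7 T f.1) = true := by
  have e : (lev4.map fun f => Tabs.imgs chevE7 T f.1) =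
      [[93, 78, 73, 69, 66, 64, 63], [93, 78, 73, 69, 67, 61, 65], [93, 78, 73, 70, 64, 58, 68], [93, 79, 74, 66, 64, 54, 72], [93, 69, 83, 66, 64, 44, 82], [94, 83, 69, 66, 64, 49, 77], [94, 74, 79, 66, 64, 40, 86], [95, 73, 78, 70, 64, 37, 89], [96, 73, 78, 69, 67, 35, 91], [97, 73, 78, 69, 66, 35, 92]] := by decide +kernel
  rw [e]
  decide +kernel

def lev5 : Tabs.Level :=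
  [([], [(0, .inl [0]), (1, .inr 1), (2, .inr 2), (3, .inr 3), (4, .inr 4), (5, .inr 5)]),
   ([0], [(0, .inl []), (1, .inr 1), (2, .inl [2, 0]), (3, .inr 3), (4, .inr 4), (5, .inr 5)]),
   ([2, 0], [(0, .inr 2), (1, .inr 1), (2, .inl [0]), (3, .inl [3, 2, 0]), (4, .inr 4), (5, .inr 5)]),
   ([3, 2, 0], [(0, .inr 2), (1, .inl [1, 3, 2, 0]), (2, .inr 3), (3, .inl [2, 0]), (4, .inl [4, 3, 2, 0]), (5, .inr 5)]),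
   ([1, 3, 2, 0], [(0, .inr 2), (1, .inl [3, 2, 0]), (2, .inr 3), (3, .inr 1), (4, .inl [4, 1, 3, 2, 0]), (5, .inr 5)]),
   ([4, 3, 2, 0], [(0, .inr 2), (1, .inl [4, 1, 3, 2, 0]), (2, .inr 3), (3, .inr 4), (4, .inl [3, 2, 0]), (5, .inl [5, 4, 3, 2, 0])]),
   ([4, 1, 3, 2, 0], [(0, .inr 2), (1, .inl [4, 3, 2, 0]), (2, .inr 3), (3, .inl [3, 4, 1, 3, 2, 0]), (4, .inl [1, 3, 2, 0]), (5, .inl [5, 4, 1, 3, 2, 0])]),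
   ([5, 4, 3, 2, 0], [(0, .inr 2), (1, .inl [5, 4, 1, 3, 2, 0]), (2, .inr 3), (3, .inr 4), (4, .inr 5), (5, .inl [4, 3, 2, 0])]),
   ([3, 4, 1, 3, 2, 0], [(0, .inr 2), (1, .inr 4), (2, .inl [2, 3, 4, 1, 3, 2, 0]), (3, .inl [4, 1, 3, 2, 0]), (4, .inr 1), (5, .inl [5, 3, 4, 1, 3, 2, 0])]),
   ([5, 4, 1, 3, 2, 0], [(0, .inr 2), (1, .inl [5, 4, 3, 2, 0]), (2, .inr 3), (3, .inl [5, 3, 4, 1, 3, 2, 0]), (4, .inr 5), (5, .inl [4, 1, 3, 2, 0])]),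
   ([2, 3, 4, 1, 3, 2, 0], [(0, .inl [0, 2, 3, 4, 1, 3, 2, 0]), (1, .inr 4), (2, .inl [3, 4, 1, 3, 2, 0]), (3, .inr 3), (4, .inr 1), (5, .inl [5, 2, 3, 4, 1, 3, 2, 0])]),
   ([5, 3, 4, 1, 3, 2, 0], [(0, .inr 2), (1, .inr 4), (2, .inl [5, 2, 3, 4, 1, 3, 2, 0]), (3, .inl [5, 4, 1, 3, 2, 0]), (4, .inl [4, 5, 3, 4, 1, 3, 2, 0]), (5, .inl [3, 4, 1, 3, 2, 0])]),
   ([0, 2, 3, 4, 1, 3, 2, 0], [(0, .inl [2, 3, 4, 1, 3, 2, 0]), (1, .inr 4), (2, .inr 2), (3, .inr 3), (4, .inr 1), (5, .inl [5, 0, 2, 3, 4, 1, 3, 2, 0])]),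
   ([5, 2, 3, 4, 1, 3, 2, 0], [(0, .inl [5, 0, 2, 3, 4, 1, 3, 2, 0]), (1, .inr 4), (2, .inl [5, 3, 4, 1, 3, 2, 0]), (3, .inr 3), (4, .inl [4, 5, 2, 3, 4, 1, 3, 2, 0]), (5, .inl [2, 3, 4, 1, 3, 2, 0])]),
   ([4, 5, 3, 4, 1, 3, 2, 0], [(0, .inr 2), (1, .inr 4), (2, .inl [4, 5, 2, 3, 4, 1, 3, 2, 0]), (3, .inr 5), (4, .inl [5, 3, 4, 1, 3, 2, 0]), (5, .inr 1)]),
   ([5, 0, 2, 3, 4, 1, 3, 2, 0], [(0, .inl [5, 2, 3, 4, 1, 3, 2, 0]), (1, .inr 4), (2, .inr 2), (3, .inr 3), (4, .inl [4, 5, 0, 2, 3, 4, 1, 3, 2, 0]), (5, .inl [0, 2, 3, 4, 1, 3, 2, 0])]),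
   ([4, 5, 2, 3, 4, 1, 3, 2, 0], [(0, .inl [4, 5, 0, 2, 3, 4, 1, 3, 2, 0]), (1, .inr 4), (2, .inl [4, 5, 3, 4, 1, 3, 2, 0]), (3, .inl [3, 4, 5, 2, 3, 4, 1, 3, 2, 0]), (4, .inl [5, 2, 3, 4, 1, 3, 2, 0]), (5, .inr 1)]),
   ([4, 5, 0, 2, 3, 4, 1, 3, 2, 0], [(0, .inl [4, 5, 2, 3, 4, 1, 3, 2, 0]), (1, .inr 4), (2, .inr 2), (3, .inl [3, 4, 5, 0, 2, 3, 4, 1, 3, 2, 0]), (4, .inl [5, 0, 2, 3, 4, 1, 3, 2, 0]), (5, .inr 1)]),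
   ([3, 4, 5, 2, 3, 4, 1, 3, 2, 0], [(0, .inl [3, 4, 5, 0, 2, 3, 4, 1, 3, 2, 0]), (1, .inl [1, 3, 4, 5, 2, 3, 4, 1, 3, 2, 0]), (2, .inr 5), (3, .inl [4, 5, 2, 3, 4, 1, 3, 2, 0]), (4, .inr 3), (5, .inr 1)]),
   ([3, 4, 5, 0, 2, 3, 4, 1, 3, 2, 0], [(0, .inl [3, 4, 5, 2, 3, 4, 1, 3, 2, 0]), (1, .inl [1, 3, 4, 5, 0, 2, 3, 4, 1, 3, 2, 0]), (2, .inl [2, 3, 4, 5, 0, 2, 3, 4, 1, 3, 2, 0]), (3, .inl [4, 5, 0, 2, 3, 4, 1, 3, 2, 0]), (4, .inr 3), (5, .inr 1)]),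
   ([1, 3, 4, 5, 2, 3, 4, 1, 3, 2, 0], [(0, .inl [1, 3, 4, 5, 0, 2, 3, 4, 1, 3, 2, 0]), (1, .inl [3, 4, 5, 2, 3, 4, 1, 3, 2, 0]), (2, .inr 5), (3, .inr 4), (4, .inr 3), (5, .inr 1)]),
   ([1, 3, 4, 5, 0, 2, 3, 4, 1, 3, 2, 0], [(0, .inl [1, 3, 4, 5, 2, 3, 4, 1, 3, 2, 0]), (1, .inl [3, 4, 5, 0, 2, 3, 4, 1, 3, 2, 0]), (2, .inl [2, 1, 3, 4, 5, 0, 2, 3, 4, 1, 3, 2, 0]), (3, .inr 4), (4, .inr 3), (5, .inr 1)]),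
   ([2, 3, 4, 5, 0, 2, 3, 4, 1, 3, 2, 0], [(0, .inr 5), (1, .inl [2, 1, 3, 4, 5, 0, 2, 3, 4, 1, 3, 2, 0]), (2, .inl [3, 4, 5, 0, 2, 3, 4, 1, 3, 2, 0]), (3, .inr 2), (4, .inr 3), (5, .inr 1)]),
   ([2, 1, 3, 4, 5, 0, 2, 3, 4, 1, 3, 2, 0], [(0, .inr 5), (1, .inl [2, 3, 4, 5, 0, 2, 3, 4, 1, 3, 2, 0]), (2, .inl [1, 3, 4, 5, 0, 2, 3, 4, 1, 3, 2, 0]), (3, .inl [3, 2, 1, 3, 4, 5, 0, 2, 3, 4, 1, 3, 2, 0]), (4, .inr 3), (5, .inr 1)]),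
   ([3, 2, 1, 3, 4, 5, 0, 2, 3, 4, 1, 3, 2, 0], [(0, .inr 5), (1, .inr 2), (2, .inr 4), (3, .inl [2, 1, 3, 4, 5, 0, 2, 3, 4, 1, 3, 2, 0]), (4, .inl [4, 3, 2, 1, 3, 4, 5, 0, 2, 3, 4, 1, 3, 2, 0]), (5, .inr 1)]),
   ([4, 3, 2, 1, 3, 4, 5, 0, 2, 3, 4, 1, 3, 2, 0], [(0, .inr 5), (1, .inr 2), (2, .inr 4), (3, .inr 3), (4, .inl [3, 2, 1, 3, 4, 5, 0, 2, 3, 4, 1, 3, 2, 0]), (5, .inl [5, 4, 3, 2, 1, 3, 4, 5, 0, 2, 3, 4, 1, 3, 2, 0])]),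
   ([5, 4, 3, 2, 1, 3, 4, 5, 0, 2, 3, 4, 1, 3, 2, 0], [(0, .inr 5), (1, .inr 2), (2, .inr 4), (3, .inr 3), (4, .inr 1), (5, .inl [4, 3, 2, 1, 3, 4, 5, 0, 2, 3, 4, 1, 3, 2, 0])])]

theorem lev5_ok : Tabs.chkLevel chevE7 T [0, 1, 2, 3, 4, 5] [1, 2, 3, 4, 5] lev5 = true := by decide +kernel

theorem lev5_distinct : Tabs.chkDistinct (lev5.map fun f => Tabs.imgs chevE7 T f.1) = true := by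
  have e : (lev5.map fun f => Tabs.imgs chevE7 T f.1) =
      [[93, 78, 73, 69, 66, 64, 63], [32, 78, 94, 69, 66, 64, 63], [31, 78, 93, 74, 66, 64, 63], [30, 79, 93, 73, 70, 64, 63], [26, 69, 93, 73, 80, 64, 63], [29, 80, 93, 73, 69, 67, 63], [25, 70, 93, 73, 79, 67, 63], [28, 81, 93, 73, 69, 66, 65], [22, 66, 93, 74, 78, 71, 63], [24, 71, 93, 73, 79, 66, 65], [16, 66, 94, 69, 78, 76, 63], [21, 67, 93, 74, 78, 70, 65], [16, 66, 73, 69, 78, 97, 63], [15, 67, 94, 69, 78, 75, 65], [19, 64, 93, 75, 78, 69, 68], [15, 67, 73, 69, 78, 96, 65], [13, 64, 94, 70, 78, 74, 68], [13, 64, 73, 70, 78, 95, 68], [10, 64, 95, 66, 79, 73, 72], [10, 64, 74, 66, 79, 94, 72], [6, 64, 99, 66, 69, 73, 82], [6, 64, 83, 66, 69, 94, 82], [10, 64, 69, 66, 83, 93, 77],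 [6, 64, 79, 66, 74, 93, 86], [6, 64, 78, 70, 73, 93, 89], [6, 67, 78, 69, 73, 93, 91], [6, 66, 78, 69, 73, 93, 92]] := by decide +kernel
  rw [e]
  decide +kernel

def lev6 : Tabs.Level :=
  [([], [(0, .inr 0), (1, .inr 1), (2, .inr 2), (3, .inr 3), (4, .inr 4), (5, .inr 5), (6, .inl [6])]),
   ([6], [(0, .inr 0), (1, .inr 1), (2, .inr 2), (3, .inr 3), (4, .inr 4), (5, .inl [5, 6]), (6, .inl [])]),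
   ([5, 6], [(0, .inr 0), (1, .inr 1), (2, .inr 2), (3, .inr 3), (4, .inl [4, 5, 6]), (5, .inl [6]), (6, .inr 5)]),
   ([4, 5, 6], [(0, .inr 0), (1, .inr 1), (2, .inr 2), (3, .inl [3, 4, 5, 6]), (4, .inl [5, 6]), (5, .inr 4), (6, .inr 5)]),
   ([3, 4, 5, 6], [(0, .inr 0), (1, .inl [1, 3, 4, 5, 6]), (2, .inl [2, 3, 4, 5, 6]), (3, .inl [4, 5, 6]), (4, .inr 3), (5, .inr 4), (6, .inr 5)]),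
   ([1, 3, 4, 5, 6], [(0, .inr 0), (1, .inl [3, 4, 5, 6]), (2, .inl [2, 1, 3, 4, 5, 6]), (3, .inr 1), (4, .inr 3), (5, .inr 4), (6, .inr 5)]),
   ([2, 3, 4, 5, 6], [(0, .inl [0, 2, 3, 4, 5, 6]), (1, .inl [2, 1, 3, 4, 5, 6]), (2, .inl [3, 4, 5, 6]), (3, .inr 2), (4, .inr 3), (5, .inr 4), (6, .inr 5)]),
   ([2, 1, 3, 4, 5, 6], [(0, .inl [0, 2, 1, 3, 4, 5, 6]), (1, .inl [2, 3, 4, 5, 6]), (2, .inl [1, 3, 4, 5, 6]), (3, .inl [3, 2, 1, 3, 4, 5, 6]), (4, .inr 3), (5, .inr 4), (6, .inr 5)]),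
   ([0, 2, 3, 4, 5, 6], [(0, .inl [2, 3, 4, 5, 6]), (1, .inl [0, 2, 1, 3, 4, 5, 6]), (2, .inr 0), (3, .inr 2), (4, .inr 3), (5, .inr 4), (6, .inr 5)]),
   ([0, 2, 1, 3, 4, 5, 6], [(0, .inl [2, 1, 3, 4, 5, 6]), (1, .inl [0, 2, 3, 4, 5, 6]), (2, .inr 0), (3, .inl [3, 0, 2, 1, 3, 4, 5, 6]), (4, .inr 3), (5, .inr 4), (6, .inr 5)]),
   ([3, 2, 1, 3, 4, 5, 6], [(0, .inl [3, 0, 2, 1, 3, 4, 5, 6]), (1, .inr 2), (2, .inr 1), (3, .inl [2, 1, 3, 4, 5, 6]), (4, .inl [4, 3, 2, 1, 3, 4, 5, 6]), (5, .inr 4), (6, .inr 5)]),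
   ([3, 0, 2, 1, 3, 4, 5, 6], [(0, .inl [3, 2, 1, 3, 4, 5, 6]), (1, .inr 2), (2, .inl [2, 3, 0, 2, 1, 3, 4, 5, 6]), (3, .inl [0, 2, 1, 3, 4, 5, 6]), (4, .inl [4, 3, 0, 2, 1, 3, 4, 5, 6]), (5, .inr 4), (6, .inr 5)]),
   ([4, 3, 2, 1, 3, 4, 5, 6], [(0, .inl [4, 3, 0, 2, 1, 3, 4, 5, 6]), (1, .inr 2), (2, .inr 1), (3, .inr 3), (4, .inl [3, 2, 1, 3, 4, 5, 6]), (5, .inl [5, 4, 3, 2, 1, 3, 4, 5, 6]), (6, .inr 5)]),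
   ([2, 3, 0, 2, 1, 3, 4, 5, 6], [(0, .inr 1), (1, .inr 2), (2, .inl [3, 0, 2, 1, 3, 4, 5, 6]), (3, .inr 0), (4, .inl [4, 2, 3, 0, 2, 1, 3, 4, 5, 6]), (5, .inr 4), (6, .inr 5)]),
   ([4, 3, 0, 2, 1, 3, 4, 5, 6], [(0, .inl [4, 3, 2, 1, 3, 4, 5, 6]), (1, .inr 2), (2, .inl [4, 2, 3, 0, 2, 1, 3, 4, 5, 6]), (3, .inr 3), (4, .inl [3, 0, 2, 1, 3, 4, 5, 6]), (5, .inl [5, 4, 3, 0, 2, 1, 3, 4, 5, 6]), (6, .inr 5)]),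
   ([5, 4, 3, 2, 1, 3, 4, 5, 6], [(0, .inl [5, 4, 3, 0, 2, 1, 3, 4, 5, 6]), (1, .inr 2), (2, .inr 1), (3, .inr 3), (4, .inr 4), (5, .inl [4, 3, 2, 1, 3, 4, 5, 6]), (6, .inl [6, 5, 4, 3, 2, 1, 3, 4, 5, 6])]),
   ([4, 2, 3, 0, 2, 1, 3, 4, 5, 6], [(0, .inr 1), (1, .inr 2), (2, .inl [4, 3, 0, 2, 1, 3, 4, 5, 6]), (3, .inl [3, 4, 2, 3, 0, 2, 1, 3, 4, 5, 6]), (4, .inl [2, 3, 0, 2, 1, 3, 4, 5, 6]), (5, .inl [5, 4, 2, 3, 0, 2, 1, 3, 4, 5, 6]), (6, .inr 5)]),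
   ([5, 4, 3, 0, 2, 1, 3, 4, 5, 6], [(0, .inl [5, 4, 3, 2, 1, 3, 4, 5, 6]), (1, .inr 2), (2, .inl [5, 4, 2, 3, 0, 2, 1, 3, 4, 5, 6]), (3, .inr 3), (4, .inr 4), (5, .inl [4, 3, 0, 2, 1, 3, 4, 5, 6]), (6, .inl [6, 5, 4, 3, 0, 2, 1, 3, 4, 5, 6])]),
   ([6, 5, 4, 3, 2, 1, 3, 4, 5, 6], [(0, .inl [6, 5, 4, 3, 0, 2, 1, 3, 4, 5, 6]), (1, .inr 2), (2, .inr 1), (3, .inr 3), (4, .inr 4), (5, .inr 5), (6, .inl [5, 4, 3, 2, 1, 3, 4, 5, 6])]),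
   ([3, 4, 2, 3, 0, 2, 1, 3, 4, 5, 6], [(0, .inr 1), (1, .inl [1, 3, 4, 2, 3, 0, 2, 1, 3, 4, 5, 6]), (2, .inr 3), (3, .inl [4, 2, 3, 0, 2, 1, 3, 4, 5, 6]), (4, .inr 0), (5, .inl [5, 3, 4, 2, 3, 0, 2, 1, 3, 4, 5, 6]), (6, .inr 5)]),
   ([5, 4, 2, 3, 0, 2, 1, 3, 4, 5, 6], [(0, .inr 1), (1, .inr 2), (2, .inl [5, 4, 3, 0, 2, 1, 3, 4, 5, 6]), (3, .inl [5, 3, 4, 2, 3, 0, 2, 1, 3, 4, 5, 6]), (4, .inr 4), (5, .inl [4, 2, 3, 0, 2, 1, 3, 4, 5, 6]), (6, .inl [6, 5, 4, 2, 3, 0, 2, 1, 3, 4, 5, 6])]),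
   ([6, 5, 4, 3, 0, 2, 1, 3, 4, 5, 6], [(0, .inl [6, 5, 4, 3, 2, 1, 3, 4, 5, 6]), (1, .inr 2), (2, .inl [6, 5, 4, 2, 3, 0, 2, 1, 3, 4, 5, 6]), (3, .inr 3), (4, .inr 4), (5, .inr 5), (6, .inl [5, 4, 3, 0, 2, 1, 3, 4, 5, 6])]),
   ([1, 3, 4, 2, 3, 0, 2, 1, 3, 4, 5, 6], [(0, .inr 1), (1, .inl [3, 4, 2, 3, 0, 2, 1, 3, 4, 5, 6]), (2, .inr 3), (3, .inr 2), (4, .inr 0), (5, .inl [5, 1, 3, 4, 2, 3, 0, 2, 1, 3, 4, 5, 6]), (6, .inr 5)]),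
   ([5, 3, 4, 2, 3, 0, 2, 1, 3, 4, 5, 6], [(0, .inr 1), (1, .inl [5, 1, 3, 4, 2, 3, 0, 2, 1, 3, 4, 5, 6]), (2, .inr 3), (3, .inl [5, 4, 2, 3, 0, 2, 1, 3, 4, 5, 6]), (4, .inl [4, 5, 3, 4, 2, 3, 0, 2, 1, 3, 4, 5, 6]), (5, .inl [3, 4, 2, 3, 0, 2, 1, 3, 4, 5, 6]), (6, .inl [6, 5, 3, 4, 2, 3, 0, 2, 1, 3, 4, 5, 6])]),
   ([6, 5, 4, 2, 3, 0, 2, 1, 3, 4, 5, 6], [(0, .inr 1), (1, .inr 2), (2, .inl [6, 5, 4, 3, 0, 2, 1, 3, 4, 5, 6]), (3, .inl [6, 5, 3, 4, 2, 3, 0, 2, 1, 3, 4, 5, 6]), (4, .inr 4), (5, .inr 5), (6, .inl [5, 4, 2, 3, 0, 2, 1, 3, 4, 5, 6])]),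
   ([5, 1, 3, 4, 2, 3, 0, 2, 1, 3, 4, 5, 6], [(0, .inr 1), (1, .inl [5, 3, 4, 2, 3, 0, 2, 1, 3, 4, 5, 6]), (2, .inr 3), (3, .inr 2), (4, .inl [4, 5, 1, 3, 4, 2, 3, 0, 2, 1, 3, 4, 5, 6]), (5, .inl [1, 3, 4, 2, 3, 0, 2, 1, 3, 4, 5, 6]), (6, .inl [6, 5, 1, 3, 4, 2, 3, 0, 2, 1, 3, 4, 5, 6])]),
   ([4, 5, 3, 4, 2, 3, 0, 2, 1, 3, 4, 5, 6], [(0, .inr 1), (1, .inl [4, 5, 1, 3, 4, 2, 3, 0, 2, 1, 3, 4, 5, 6]), (2, .inr 3), (3, .inr 4), (4, .inl [5, 3, 4, 2, 3, 0, 2, 1, 3, 4, 5, 6]), (5, .inr 0), (6, .inl [6, 4, 5, 3, 4, 2, 3, 0, 2, 1, 3, 4, 5, 6])]),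
   ([6, 5, 3, 4, 2, 3, 0, 2, 1, 3, 4, 5, 6], [(0, .inr 1), (1, .inl [6, 5, 1, 3, 4, 2, 3, 0, 2, 1, 3, 4, 5, 6]), (2, .inr 3), (3, .inl [6, 5, 4, 2, 3, 0, 2, 1, 3, 4, 5, 6]), (4, .inl [6, 4, 5, 3, 4, 2, 3, 0, 2, 1, 3, 4, 5, 6]), (5, .inr 5), (6, .inl [5, 3, 4, 2, 3, 0, 2, 1, 3, 4, 5, 6])]),
   ([4, 5, 1, 3, 4, 2, 3, 0, 2, 1, 3, 4, 5, 6], [(0, .inr 1), (1, .inl [4, 5, 3, 4, 2, 3, 0, 2, 1, 3, 4, 5, 6]), (2, .inr 3), (3, .inl [3, 4, 5, 1, 3, 4, 2, 3, 0, 2, 1, 3, 4, 5, 6]), (4, .inl [5, 1, 3, 4, 2, 3, 0, 2, 1, 3, 4, 5, 6]), (5, .inr 0), (6, .inl [6, 4, 5, 1, 3, 4, 2, 3, 0, 2, 1, 3, 4, 5, 6])]),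
   ([6, 5, 1, 3, 4, 2, 3, 0, 2, 1, 3, 4, 5, 6], [(0, .inr 1), (1, .inl [6, 5, 3, 4, 2, 3, 0, 2, 1, 3, 4, 5, 6]), (2, .inr 3), (3, .inr 2), (4, .inl [6, 4, 5, 1, 3, 4, 2, 3, 0, 2, 1, 3, 4, 5, 6]), (5, .inr 5), (6, .inl [5, 1, 3, 4, 2, 3, 0, 2, 1, 3, 4, 5, 6])]),
   ([6, 4, 5, 3, 4, 2, 3, 0, 2, 1, 3, 4, 5, 6], [(0, .inr 1), (1, .inl [6, 4, 5, 1, 3, 4, 2, 3, 0, 2, 1, 3, 4, 5, 6]), (2, .inr 3), (3, .inr 4), (4, .inl [6, 5, 3, 4, 2, 3, 0, 2, 1, 3, 4, 5, 6]), (5, .inl [5, 6, 4, 5, 3, 4, 2, 3, 0, 2, 1, 3, 4, 5, 6]), (6, .inl [4, 5, 3, 4, 2, 3, 0, 2, 1, 3, 4, 5, 6])]),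
   ([3, 4, 5, 1, 3, 4, 2, 3, 0, 2, 1, 3, 4, 5, 6], [(0, .inr 1), (1, .inr 4), (2, .inl [2, 3, 4, 5, 1, 3, 4, 2, 3, 0, 2, 1, 3, 4, 5, 6]), (3, .inl [4, 5, 1, 3, 4, 2, 3, 0, 2, 1, 3, 4, 5, 6]), (4, .inr 2), (5, .inr 0), (6, .inl [6, 3, 4, 5, 1, 3, 4, 2, 3, 0, 2, 1, 3, 4, 5, 6])]),
   ([6, 4, 5, 1, 3, 4, 2, 3, 0, 2, 1, 3, 4, 5, 6], [(0, .inr 1), (1, .inl [6, 4, 5, 3, 4, 2, 3, 0, 2, 1, 3, 4, 5, 6]), (2, .inr 3), (3, .inl [6, 3, 4, 5, 1, 3, 4, 2, 3, 0, 2, 1, 3, 4, 5, 6]), (4, .inl [6, 5, 1, 3, 4, 2, 3, 0, 2, 1, 3, 4, 5, 6]), (5, .inl [5, 6, 4, 5, 1, 3, 4, 2, 3, 0, 2, 1, 3, 4, 5, 6]), (6, .inl [4, 5, 1, 3, 4, 2, 3, 0, 2, 1, 3, 4, 5, 6])]),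
   ([5, 6, 4, 5, 3, 4, 2, 3, 0, 2, 1, 3, 4, 5, 6], [(0, .inr 1), (1, .inl [5, 6, 4, 5, 1, 3, 4, 2, 3, 0, 2, 1, 3, 4, 5, 6]), (2, .inr 3), (3, .inr 4), (4, .inr 5), (5, .inl [6, 4, 5, 3, 4, 2, 3, 0, 2, 1, 3, 4, 5, 6]), (6, .inr 0)]),
   ([2, 3, 4, 5, 1, 3, 4, 2, 3, 0, 2, 1, 3, 4, 5, 6], [(0, .inl [0, 2, 3, 4, 5, 1, 3, 4, 2, 3, 0, 2, 1, 3, 4, 5, 6]), (1, .inr 4), (2, .inl [3, 4, 5, 1, 3, 4, 2, 3, 0, 2, 1, 3, 4, 5, 6]), (3, .inr 3), (4, .inr 2), (5, .inr 0), (6, .inl [6, 2, 3, 4, 5, 1, 3, 4, 2, 3, 0, 2, 1, 3, 4, 5, 6])]),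
   ([6, 3, 4, 5, 1, 3, 4, 2, 3, 0, 2, 1, 3, 4, 5, 6], [(0, .inr 1), (1, .inr 4), (2, .inl [6, 2, 3, 4, 5, 1, 3, 4, 2, 3, 0, 2, 1, 3, 4, 5, 6]), (3, .inl [6, 4, 5, 1, 3, 4, 2, 3, 0, 2, 1, 3, 4, 5, 6]), (4, .inr 2), (5, .inl [5, 6, 3, 4, 5, 1, 3, 4, 2, 3, 0, 2, 1, 3, 4, 5, 6]), (6, .inl [3, 4, 5, 1, 3, 4, 2, 3, 0, 2, 1, 3, 4, 5, 6])]),
   ([5, 6, 4, 5, 1, 3, 4, 2, 3, 0, 2, 1, 3, 4, 5, 6], [(0, .inr 1), (1, .inl [5, 6, 4, 5, 3, 4, 2, 3, 0, 2, 1, 3, 4, 5, 6]), (2, .inr 3), (3, .inl [5, 6, 3, 4, 5, 1, 3, 4, 2, 3, 0, 2, 1, 3, 4, 5, 6]), (4, .inr 5), (5, .inl [6, 4, 5, 1, 3, 4, 2, 3, 0, 2, 1, 3, 4, 5, 6]), (6, .inr 0)]),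
   ([0, 2, 3, 4, 5, 1, 3, 4, 2, 3, 0, 2, 1, 3, 4, 5, 6], [(0, .inl [2, 3, 4, 5, 1, 3, 4, 2, 3, 0, 2, 1, 3, 4, 5, 6]), (1, .inr 4), (2, .inr 1), (3, .inr 3), (4, .inr 2), (5, .inr 0), (6, .inl [6, 0, 2, 3, 4, 5, 1, 3, 4, 2, 3, 0, 2, 1, 3, 4, 5, 6])]),
   ([6, 2, 3, 4, 5, 1, 3, 4, 2, 3, 0, 2, 1, 3, 4, 5, 6], [(0, .inl [6, 0, 2, 3, 4, 5, 1, 3, 4, 2, 3, 0, 2, 1, 3, 4, 5, 6]), (1, .inr 4), (2, .inl [6, 3, 4, 5, 1, 3, 4, 2, 3, 0, 2, 1, 3, 4, 5, 6]), (3, .inr 3), (4, .inr 2), (5, .inl [5, 6, 2, 3, 4, 5, 1, 3, 4, 2, 3, 0, 2, 1, 3, 4, 5, 6]), (6, .inl [2, 3, 4, 5, 1, 3, 4, 2, 3, 0, 2, 1, 3, 4, 5, 6])]),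
   ([5, 6, 3, 4, 5, 1, 3, 4, 2, 3, 0, 2, 1, 3, 4, 5, 6], [(0, .inr 1), (1, .inr 4), (2, .inl [5, 6, 2, 3, 4, 5, 1, 3, 4, 2, 3, 0, 2, 1, 3, 4, 5, 6]), (3, .inl [5, 6, 4, 5, 1, 3, 4, 2, 3, 0, 2, 1, 3, 4, 5, 6]), (4, .inl [4, 5, 6, 3, 4, 5, 1, 3, 4, 2, 3, 0, 2, 1, 3, 4, 5, 6]), (5, .inl [6, 3, 4, 5, 1, 3, 4, 2, 3, 0, 2, 1, 3, 4, 5, 6]), (6, .inr 0)]),
   ([6, 0, 2, 3, 4, 5, 1, 3, 4, 2, 3, 0, 2, 1, 3, 4, 5, 6], [(0, .inl [6, 2, 3, 4, 5, 1, 3, 4, 2, 3, 0, 2, 1, 3, 4, 5, 6]), (1, .inr 4), (2, .inr 1), (3, .inr 3), (4, .inr 2), (5, .inl [5, 6, 0, 2, 3, 4, 5, 1, 3, 4, 2, 3, 0, 2, 1, 3, 4, 5, 6]), (6, .inl [0, 2, 3, 4, 5, 1, 3, 4, 2, 3, 0, 2, 1, 3, 4, 5, 6])]),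
   ([5, 6, 2, 3, 4, 5, 1, 3, 4, 2, 3, 0, 2, 1, 3, 4, 5, 6], [(0, .inl [5, 6, 0, 2, 3, 4, 5, 1, 3, 4, 2, 3, 0, 2, 1, 3, 4, 5, 6]), (1, .inr 4), (2, .inl [5, 6, 3, 4, 5, 1, 3, 4, 2, 3, 0, 2, 1, 3, 4, 5, 6]), (3, .inr 3), (4, .inl [4, 5, 6, 2, 3, 4, 5, 1, 3, 4, 2, 3, 0, 2, 1, 3, 4, 5, 6]), (5, .inl [6, 2, 3, 4, 5, 1, 3, 4, 2, 3, 0, 2, 1, 3, 4, 5, 6]), (6, .inr 0)]),
   ([4, 5, 6, 3, 4, 5, 1, 3, 4, 2, 3, 0, 2, 1, 3, 4, 5, 6], [(0, .inr 1), (1, .inr 4), (2, .inl [4, 5, 6, 2, 3, 4, 5, 1, 3, 4, 2, 3, 0, 2, 1, 3, 4, 5, 6]), (3, .inr 5), (4, .inl [5, 6, 3, 4, 5, 1, 3, 4, 2, 3, 0, 2, 1, 3, 4, 5, 6]), (5, .inr 2), (6, .inr 0)]),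
   ([5, 6, 0, 2, 3, 4, 5, 1, 3, 4, 2, 3, 0, 2, 1, 3, 4, 5, 6], [(0, .inl [5, 6, 2, 3, 4, 5, 1, 3, 4, 2, 3, 0, 2, 1, 3, 4, 5, 6]), (1, .inr 4), (2, .inr 1), (3, .inr 3), (4, .inl [4, 5, 6, 0, 2, 3, 4, 5, 1, 3, 4, 2, 3, 0, 2, 1, 3, 4, 5, 6]), (5, .inl [6, 0, 2, 3, 4, 5, 1, 3, 4, 2, 3, 0, 2, 1, 3, 4, 5, 6]), (6, .inr 0)]),
   ([4, 5, 6, 2, 3, 4, 5, 1, 3, 4, 2, 3, 0, 2, 1, 3, 4, 5, 6], [(0, .inl [4, 5, 6, 0, 2, 3, 4, 5, 1, 3, 4, 2, 3, 0, 2, 1, 3, 4, 5, 6]), (1, .inr 4), (2, .inl [4, 5, 6, 3, 4, 5, 1, 3, 4, 2, 3, 0, 2, 1, 3, 4, 5, 6]), (3, .inl [3, 4, 5, 6, 2, 3, 4, 5, 1, 3, 4, 2, 3, 0, 2, 1, 3, 4, 5, 6]), (4, .inl [5, 6, 2, 3, 4, 5, 1, 3, 4, 2, 3, 0, 2, 1, 3, 4, 5, 6]), (5, .inr 2), (6, .inr 0)]),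
   ([4, 5, 6, 0, 2, 3, 4, 5, 1, 3, 4, 2, 3, 0, 2, 1, 3, 4, 5, 6], [(0, .inl [4, 5, 6, 2, 3, 4, 5, 1, 3, 4, 2, 3, 0, 2, 1, 3, 4, 5, 6]), (1, .inr 4), (2, .inr 1), (3, .inl [3, 4, 5, 6, 0, 2, 3, 4, 5, 1, 3, 4, 2, 3, 0, 2, 1, 3, 4, 5, 6]), (4, .inl [5, 6, 0, 2, 3, 4, 5, 1, 3, 4, 2, 3, 0, 2, 1, 3, 4, 5, 6]), (5, .inr 2), (6, .inr 0)]),
   ([3, 4, 5, 6, 2, 3, 4, 5, 1, 3, 4, 2, 3, 0, 2, 1, 3, 4, 5, 6], [(0, .inl [3, 4, 5, 6, 0, 2, 3, 4, 5, 1, 3, 4, 2, 3, 0, 2, 1, 3, 4, 5, 6]), (1, .inl [1, 3, 4, 5, 6, 2, 3, 4, 5, 1, 3, 4, 2, 3, 0, 2, 1, 3, 4, 5, 6]), (2, .inr 5), (3, .inl [4, 5, 6, 2, 3, 4, 5, 1, 3, 4, 2, 3, 0, 2, 1, 3, 4, 5, 6]), (4, .inr 3), (5, .inr 2), (6, .inr 0)]),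
   ([3, 4, 5, 6, 0, 2, 3, 4, 5, 1, 3, 4, 2, 3, 0, 2, 1, 3, 4, 5, 6], [(0, .inl [3, 4, 5, 6, 2, 3, 4, 5, 1, 3, 4, 2, 3, 0, 2, 1, 3, 4, 5, 6]), (1, .inl [1, 3, 4, 5, 6, 0, 2, 3, 4, 5, 1, 3, 4, 2, 3, 0, 2, 1, 3, 4, 5, 6]), (2, .inl [2, 3, 4, 5, 6, 0, 2, 3, 4, 5, 1, 3, 4, 2, 3, 0, 2, 1, 3, 4, 5, 6]), (3, .inl [4, 5, 6, 0, 2, 3, 4, 5, 1, 3, 4, 2, 3, 0, 2, 1, 3, 4, 5, 6]), (4, .inr 3), (5, .inr 2), (6, .inr 0)]),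
   ([1, 3, 4, 5, 6, 2, 3, 4, 5, 1, 3, 4, 2, 3, 0, 2, 1, 3, 4, 5, 6], [(0, .inl [1, 3, 4, 5, 6, 0, 2, 3, 4, 5, 1, 3, 4, 2, 3, 0, 2, 1, 3, 4, 5, 6]), (1, .inl [3, 4, 5, 6, 2, 3, 4, 5, 1, 3, 4, 2, 3, 0, 2, 1, 3, 4, 5, 6]), (2, .inr 5), (3, .inr 4), (4, .inr 3), (5, .inr 2), (6, .inr 0)]),
   ([1, 3, 4, 5, 6, 0, 2, 3, 4, 5, 1, 3, 4, 2, 3, 0, 2, 1, 3, 4, 5, 6], [(0, .inl [1, 3, 4, 5, 6, 2, 3, 4, 5, 1, 3, 4, 2, 3, 0, 2, 1, 3, 4, 5, 6]), (1, .inl [3, 4, 5, 6, 0, 2, 3, 4, 5, 1, 3, 4, 2, 3, 0, 2, 1, 3, 4, 5, 6]), (2, .inl [2, 1, 3, 4, 5, 6, 0, 2, 3, 4, 5, 1, 3, 4, 2, 3, 0, 2, 1, 3, 4, 5, 6]), (3, .inr 4), (4, .inr 3), (5, .inr 2), (6, .inr 0)]),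
   ([2, 3, 4, 5, 6, 0, 2, 3, 4, 5, 1, 3, 4, 2, 3, 0, 2, 1, 3, 4, 5, 6], [(0, .inr 5), (1, .inl [2, 1, 3, 4, 5, 6, 0, 2, 3, 4, 5, 1, 3, 4, 2, 3, 0, 2, 1, 3, 4, 5, 6]), (2, .inl [3, 4, 5, 6, 0, 2, 3, 4, 5, 1, 3, 4, 2, 3, 0, 2, 1, 3, 4, 5, 6]), (3, .inr 1), (4, .inr 3), (5, .inr 2), (6, .inr 0)]),
   ([2, 1, 3, 4, 5, 6, 0, 2, 3, 4, 5, 1, 3, 4, 2, 3, 0, 2, 1, 3, 4, 5, 6], [(0, .inr 5), (1, .inl [2, 3, 4, 5, 6, 0, 2, 3, 4, 5, 1, 3, 4, 2, 3, 0, 2, 1, 3, 4, 5, 6]), (2, .inl [1, 3, 4, 5, 6, 0, 2, 3, 4, 5, 1, 3, 4, 2, 3, 0, 2, 1, 3, 4, 5, 6]), (3, .inl [3, 2, 1, 3, 4, 5, 6, 0, 2, 3, 4, 5, 1, 3, 4, 2, 3, 0, 2, 1, 3, 4, 5, 6]), (4, .inr 3), (5, .inr 2), (6, .inr 0)]),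
   ([3, 2, 1, 3, 4, 5, 6, 0, 2, 3, 4, 5, 1, 3, 4, 2, 3, 0, 2, 1, 3, 4, 5, 6], [(0, .inr 5), (1, .inr 1), (2, .inr 4), (3, .inl [2, 1, 3, 4, 5, 6, 0, 2, 3, 4, 5, 1, 3, 4, 2, 3, 0, 2, 1, 3, 4, 5, 6]), (4, .inl [4, 3, 2, 1, 3, 4, 5, 6, 0, 2, 3, 4, 5, 1, 3, 4, 2, 3, 0, 2, 1, 3, 4, 5, 6]), (5, .inr 2), (6, .inr 0)]),
   ([4, 3, 2, 1, 3, 4, 5, 6, 0, 2, 3, 4, 5, 1, 3, 4, 2, 3, 0, 2, 1, 3, 4, 5, 6], [(0, .inr 5), (1, .inr 1), (2, .inr 4), (3, .inr 3), (4, .inl [3, 2, 1, 3, 4, 5, 6, 0, 2, 3, 4, 5, 1, 3, 4, 2, 3, 0, 2, 1, 3, 4, 5, 6]), (5, .inl [5, 4, 3, 2, 1, 3, 4, 5, 6, 0, 2, 3, 4, 5, 1, 3, 4, 2, 3, 0, 2, 1, 3, 4, 5, 6]), (6, .inr 0)]),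
   ([5, 4, 3, 2, 1, 3, 4, 5, 6, 0, 2, 3, 4, 5, 1, 3, 4, 2, 3, 0, 2, 1, 3, 4, 5, 6], [(0, .inr 5), (1, .inr 1), (2, .inr 4), (3, .inr 3), (4, .inr 2), (5, .inl [4, 3, 2, 1, 3, 4, 5, 6, 0, 2, 3, 4, 5, 1, 3, 4, 2, 3, 0, 2, 1, 3, 4, 5, 6]), (6, .inl [6, 5, 4, 3, 2, 1, 3, 4, 5, 6, 0, 2, 3, 4, 5, 1, 3, 4, 2, 3, 0, 2, 1, 3, 4, 5, 6])]),
   ([6, 5, 4, 3, 2, 1, 3, 4, 5, 6, 0, 2, 3, 4, 5, 1, 3, 4, 2, 3, 0, 2, 1, 3, 4, 5, 6], [(0, .inr 5), (1, .inr 1), (2, .inr 4), (3, .inr 3), (4, .inr 2), (5, .inr 0), (6, .inl [5, 4, 3, 2, 1, 3, 4, 5, 6, 0, 2, 3, 4, 5, 1, 3, 4, 2, 3, 0, 2, 1, 3, 4, 5, 6])])]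

theorem lev6_ok : Tabs.chkLevel chevE7 T [0, 1, 2, 3, 4, 5, 6] [0, 1, 2, 3, 4, 5] lev6 = true := by decide +kernel

theorem lev6_distinct : Tabs.chkDistinct (lev6.map fun f => Tabs.imgs chevE7 T f.1) = true := by
  have e : (lev6.map fun f => Tabs.imgs chevE7 T f.1) =
      [[93, 78, 73, 69, 66, 64, 63], [93, 78, 73, 69, 66, 65, 62], [93, 78, 73, 69, 67, 63, 60], [93, 78, 73, 70, 64, 63, 57], [93, 79, 74, 66, 64, 63, 53], [93, 69, 83, 66, 64, 63, 43], [94, 83, 69, 66, 64, 63, 48], [94, 74, 79, 66, 64, 63, 39], [73, 99, 69, 66, 64, 63, 27], [73, 95, 79, 66, 64, 63, 23], [95, 73, 78, 70, 64, 63, 36], [74, 94, 78, 70, 64, 63, 20], [96, 73, 78, 69, 67, 63, 34], [69, 93, 78, 75, 64, 63, 14], [75, 94, 78, 69, 67, 63, 18], [97, 73, 78, 69, 66,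 65, 33], [70, 93, 78, 74, 67, 63, 12], [76, 94, 78, 69, 66, 65, 17], [98, 73, 78, 69, 66, 64, 33], [66, 93, 79, 73, 71, 63, 9], [71, 93, 78, 74, 66, 65, 11], [77, 94, 78, 69, 66, 64, 17], [66, 93, 69, 73, 81, 63, 5], [67, 93, 79, 73, 70, 65, 8], [72, 93, 78, 74, 66, 64, 11], [67, 93, 69, 73, 80, 65, 4], [64, 93, 80, 73, 69, 68, 7], [68, 93, 79, 73, 70, 64, 8], [64, 93, 70, 73, 79, 68, 3], [68, 93, 69, 73, 80, 64, 4], [65, 93, 80, 73, 69, 67, 7], [64, 93, 66, 74, 78, 72, 2], [65, 93, 70, 73, 79, 67, 3], [63, 93, 81, 73, 69, 66, 7], [64, 94, 66, 69, 78, 77, 1], [65, 93, 66, 74, 78, 71, 2], [63, 93, 71, 73, 79, 66, 3], [64, 73, 66, 69, 78, 98, 0], [65, 94, 66, 69, 78, 76, 1], [63, 93, 67, 74, 78, 70, 2], [65, 73, 66, 69, 78, 97, 0], [63, 94,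 67, 69, 78, 75, 1], [63, 93, 64, 75, 78, 69, 2], [63, 73, 67, 69, 78, 96, 0], [63, 94, 64, 70, 78, 74, 1], [63, 73, 64, 70, 78, 95, 0], [63, 95, 64, 66, 79, 73, 1], [63, 74, 64, 66, 79, 94, 0], [63, 99, 64, 66, 69, 73, 1], [63, 83, 64, 66, 69, 94, 0], [63, 69, 64, 66, 83, 93, 0], [63, 79, 64, 66, 74, 93, 0], [63, 78, 64, 70, 73, 93, 0], [63, 78, 67, 69, 73, 93, 0], [65, 78, 66, 69, 73, 93, 0], [64, 78, 66, 69, 73, 93, 0]] := by decide +kernel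
  rw [e]
  decide +kernel

end Cfsg.Agent.Chev.E7
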