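import Cfsg.Agent.Lib.Chev.Poincare
import Cfsg.Agent.Lib.Chev.DataE8
import Cfsg.Prelude.Def_ChevE8

/-! Generated coset representatives along a chain of parabolic subgroups of type E8. -/

set_option autoImplicit false
set_option maxRecDepth 20000

namespace Cfsg.Agent.Chev.E8

open Cfsg.Lie

def lev0 : Tabs.Level :=
  [([], [(4, .inl [4])]),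
   ([4], [(4, .inl [])])]

theorem lev0_ok : Tabs.chkLevel chevE8 T [4] [] lev0 = true := by decide +kernel

theorem lev0_distinct : Tabs.chkDistinct (lev0.map fun f => Tabs.imgs chevE8 T f.1) = true := by
  have e : (lev0.map fun f => Tabs.imgs chevE8 T f.1) =
      [[162, 141, 135, 130, 126, 123, 121, 120], [162, 141, 135, 131, 113, 127, 121, 120]] := by decide +kernel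
  rw [e]
  decide +kernel

def lev1 : Tabs.Level :=
  [([], [(3, .inl [3]), (4, .inr 4)]),
   ([3], [(3, .inl []), (4, .inl [4, 3])]),
   ([4, 3], [(3, .inr 4), (4, .inl [3])])]

theorem lev1_ok : Tabs.chkLevel chevE8 T [3, 4] [4] lev1 = true := by decide +kernel

theorem lev1_distinct : Tabs.chkDistinct (lev1.map fun f => Tabs.imgs chevE8 T f.1) = true := by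
  have e : (lev1.map fun f => Tabs.imgs chevE8 T f.1) =
      [[162, 141, 135, 130, 126, 123, 121, 120], [162, 142, 136, 109, 131, 123, 121, 120], [162, 143, 137, 108, 130, 127, 121, 120]] := by decide +kernel
  rw [e]
  decide +kernel

def lev2 : Tabs.Level :=
  [([], [(2, .inl [2]), (3, .inr 3), (4, .inr 4)]),
   ([2], [(2, .inl []), (3, .inl [3, 2]), (4, .inr 4)]),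
   ([3, 2], [(2, .inr 3), (3, .inl [2]), (4, .inl [4, 3, 2])]),
   ([4, 3, 2], [(2, .inr 3), (3, .inr 4), (4, .inl [3, 2])])]

theorem lev2_ok : Tabs.chkLevel chevE8 T [2, 3, 4] [3, 4] lev2 = true := by decide +kernel

theorem lev2_distinct : Tabs.chkDistinct (lev2.map fun f => Tabs.imgs chevE8 T f.1) = true := by
  have e : (lev2.map fun f => Tabs.imgs chevE8 T f.1) =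
      [[162, 141, 135, 130, 126, 123, 121, 120], [163, 141, 104, 136, 126, 123, 121, 120], [164, 142, 103, 135, 131, 123, 121, 120], [165, 143, 102, 135, 130, 127, 121, 120]] := by decide +kernel
  rw [e]
  decide +kernel

def lev3 : Tabs.Level :=
  [([], [(1, .inl [1]), (2, .inr 2), (3, .inr 3), (4, .inr 4)]),
   ([1], [(1, .inl []), (2, .inr 2), (3, .inl [3, 1]), (4, .inr 4)]),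
   ([3, 1], [(1, .inr 3), (2, .inl [2, 3, 1]), (3, .inl [1]), (4, .inl [4, 3, 1])]),
   ([2, 3, 1], [(1, .inr 3), (2, .inl [3, 1]), (3, .inr 2), (4, .inl [4, 2, 3, 1])]),
   ([4, 3, 1], [(1, .inr 3), (2, .inl [4, 2, 3, 1]), (3, .inr 4), (4, .inl [3, 1])]),
   ([4, 2, 3, 1], [(1, .inr 3), (2, .inl [4, 3, 1]), (3, .inl [3, 4, 2, 3, 1]), (4, .inl [2, 3, 1])]),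
   ([3, 4, 2, 3, 1], [(1, .inl [1, 3, 4, 2, 3, 1]), (2, .inr 4), (3, .inl [4, 2, 3, 1]), (4, .inr 2)]),
   ([1, 3, 4, 2, 3, 1], [(1, .inl [3, 4, 2, 3, 1]), (2, .inr 4), (3, .inr 3), (4, .inr 2)])]

theorem lev3_ok : Tabs.chkLevel chevE8 T [1, 2, 3, 4] [2, 3, 4] lev3 = true := by decide +kernel

theorem lev3_distinct : Tabs.chkDistinct (lev3.map fun f => Tabs.imgs chevE8 T f.1) = true := by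
  have e : (lev3.map fun f => Tabs.imgs chevE8 T f.1) =
      [[162, 141, 135, 130, 126, 123, 121, 120], [162, 98, 135, 142, 126, 123, 121, 120], [162, 97, 136, 141, 131, 123, 121, 120], [163, 92, 130, 141, 137, 123, 121, 120], [162, 96, 137, 141, 130, 127, 121, 120], [163, 91, 131, 141, 136, 127, 121, 120], [164, 87, 126, 142, 135, 132, 121, 120], [169, 87, 126, 130, 135, 144, 121, 120]] := by decide +kernel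
  rw [e]
  decide +kernel

def lev4 : Tabs.Level :=
  [([], [(1, .inr 1), (2, .inr 2), (3, .inr 3), (4, .inr 4), (5, .inl [5])]),
   ([5], [(1, .inr 1), (2, .inr 2), (3, .inr 3), (4, .inl [4, 5]), (5, .inl [])]),
   ([4, 5], [(1, .inr 1), (2, .inr 2), (3, .inl [3, 4, 5]), (4, .inl [5]), (5, .inr 4)]),
   ([3, 4, 5], [(1, .inl [1, 3, 4, 5]), (2, .inl [2, 3, 4, 5]), (3, .inl [4, 5]), (4, .inr 3), (5, .inr 4)]),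
   ([1, 3, 4, 5], [(1, .inl [3, 4, 5]), (2, .inl [2, 1, 3, 4, 5]), (3, .inr 1), (4, .inr 3), (5, .inr 4)]),
   ([2, 3, 4, 5], [(1, .inl [2, 1, 3, 4, 5]), (2, .inl [3, 4, 5]), (3, .inr 2), (4, .inr 3), (5, .inr 4)]),
   ([2, 1, 3, 4, 5], [(1, .inl [2, 3, 4, 5]), (2, .inl [1, 3, 4, 5]), (3, .inl [3, 2, 1, 3, 4, 5]), (4, .inr 3), (5, .inr 4)]),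
   ([3, 2, 1, 3, 4, 5], [(1, .inr 2), (2, .inr 1), (3, .inl [2, 1, 3, 4, 5]), (4, .inl [4, 3, 2, 1, 3, 4, 5]), (5, .inr 4)]),
   ([4, 3, 2, 1, 3, 4, 5], [(1, .inr 2), (2, .inr 1), (3, .inr 3), (4, .inl [3, 2, 1, 3, 4, 5]), (5, .inl [5, 4, 3, 2, 1, 3, 4, 5])]),
   ([5, 4, 3, 2, 1, 3, 4, 5], [(1, .inr 2), (2, .inr 1), (3, .inr 3), (4, .inr 4), (5, .inl [4, 3, 2, 1, 3, 4, 5])])]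

theorem lev4_ok : Tabs.chkLevel chevE8 T [1, 2, 3, 4, 5] [1, 2, 3, 4] lev4 = true := by decide +kernel

theorem lev4_distinct : Tabs.chkDistinct (lev4.map fun f => Tabs.imgs chevE8 T f.1) = true := by
  have e : (lev4.map fun f => Tabs.imgs chevE8 T f.1) =
      [[162, 141, 135, 130, 126, 123, 121, 120], [162, 141, 135, 130, 127, 116, 124, 120], [162, 141, 135, 131, 123, 112, 128, 120], [162, 142, 136, 126, 123, 107, 133, 120], [162, 130, 147, 126, 123, 95, 145, 120], [163, 147, 130, 126, 123, 101, 139, 120], [163, 136, 142, 126, 123, 90, 150, 120], [164, 135, 141, 131, 123, 86, 154, 120], [165, 135, 141, 130, 127, 83, 157, 120], [166, 135, 141, 130, 126, 83, 159, 120]] :=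 by decide +kernel
  rw [e]
  decide +kernel

def lev5 : Tabs.Level :=
  [([], [(0, .inl [0]), (1, .inr 1), (2, .inr 2), (3, .inr 3), (4, .inr 4), (5, .inr 5)]),
   ([0], [(0, .inl []), (1, .inr 1), (2, .inl [2, 0]), (3, .inr 3), (4, .inr 4), (5, .inr 5)]),
   ([2, 0], [(0, .inr 2), (1, .inr 1), (2, .inl [0]), (3, .inl [3, 2, 0]), (4, .inr 4), (5, .inr 5)]),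
   ([3, 2, 0], [(0, .inr 2), (1, .inl [1, 3, 2, 0]), (2, .inr 3), (3, .inl [2, 0]), (4, .inl [4, 3, 2, 0]), (5, .inr 5)]),
   ([1, 3, 2, 0], [(0, .inr 2), (1, .inl [3, 2, 0]), (2, .inr 3), (3, .inr 1), (4, .inl [4, 1, 3, 2, 0]), (5, .inr 5)]),
   ([4, 3, 2, 0], [(0, .inr 2), (1, .inl [4, 1, 3, 2, 0]), (2, .inr 3), (3, .inr 4), (4, .inl [3, 2, 0]), (5, .inl [5, 4, 3, 2, 0])]),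
   ([4, 1, 3, 2, 0], [(0, .inr 2), (1, .inl [4, 3, 2, 0]), (2, .inr 3), (3, .inl [3, 4, 1, 3, 2, 0]), (4, .inl [1, 3, 2, 0]), (5, .inl [5, 4, 1, 3, 2, 0])]),
   ([5, 4, 3, 2, 0], [(0, .inr 2), (1, .inl [5, 4, 1, 3, 2, 0]), (2, .inr 3), (3, .inr 4), (4, .inr 5), (5, .inl [4, 3, 2, 0])]),
   ([3, 4, 1, 3, 2, 0], [(0, .inr 2), (1, .inr 4), (2, .inl [2, 3, 4, 1, 3, 2, 0]), (3, .inl [4, 1, 3, 2, 0]), (4, .inr 1), (5, .inl [5, 3, 4, 1, 3, 2, 0])]),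
   ([5, 4, 1, 3, 2, 0], [(0, .inr 2), (1, .inl [5, 4, 3, 2, 0]), (2, .inr 3), (3, .inl [5, 3, 4, 1, 3, 2, 0]), (4, .inr 5), (5, .inl [4, 1, 3, 2, 0])]),
   ([2, 3, 4, 1, 3, 2, 0], [(0, .inl [0, 2, 3, 4, 1, 3, 2, 0]), (1, .inr 4), (2, .inl [3, 4, 1, 3, 2, 0]), (3, .inr 3), (4, .inr 1), (5, .inl [5, 2, 3, 4, 1, 3, 2, 0])]),
   ([5, 3, 4, 1, 3, 2, 0], [(0, .inr 2), (1, .inr 4), (2, .inl [5, 2, 3, 4, 1, 3, 2, 0]), (3, .inl [5, 4, 1, 3, 2, 0]), (4, .inl [4, 5, 3, 4, 1, 3, 2, 0]), (5, .inl [3, 4, 1, 3, 2, 0])]),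
   ([0, 2, 3, 4, 1, 3, 2, 0], [(0, .inl [2, 3, 4, 1, 3, 2, 0]), (1, .inr 4), (2, .inr 2), (3, .inr 3), (4, .inr 1), (5, .inl [5, 0, 2, 3, 4, 1, 3, 2, 0])]),
   ([5, 2, 3, 4, 1, 3, 2, 0], [(0, .inl [5, 0, 2, 3, 4, 1, 3, 2, 0]), (1, .inr 4), (2, .inl [5, 3, 4, 1, 3, 2, 0]), (3, .inr 3), (4, .inl [4, 5, 2, 3, 4, 1, 3, 2, 0]), (5, .inl [2, 3, 4, 1, 3, 2, 0])]),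
   ([4, 5, 3, 4, 1, 3, 2, 0], [(0, .inr 2), (1, .inr 4), (2, .inl [4, 5, 2, 3, 4, 1, 3, 2, 0]), (3, .inr 5), (4, .inl [5, 3, 4, 1, 3, 2, 0]), (5, .inr 1)]),
   ([5, 0, 2, 3, 4, 1, 3, 2, 0], [(0, .inl [5, 2, 3, 4, 1, 3, 2, 0]), (1, .inr 4), (2, .inr 2), (3, .inr 3), (4, .inl [4, 5, 0, 2, 3, 4, 1, 3, 2, 0]), (5, .inl [0, 2, 3, 4, 1, 3, 2, 0])]),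
   ([4, 5, 2, 3, 4, 1, 3, 2, 0], [(0, .inl [4, 5, 0, 2, 3, 4, 1, 3, 2, 0]), (1, .inr 4), (2, .inl [4, 5, 3, 4, 1, 3, 2, 0]), (3, .inl [3, 4, 5, 2, 3, 4, 1, 3, 2, 0]), (4, .inl [5, 2, 3, 4, 1, 3, 2, 0]), (5, .inr 1)]),
   ([4, 5, 0, 2, 3, 4, 1, 3, 2, 0], [(0, .inl [4, 5, 2, 3, 4, 1, 3, 2, 0]), (1, .inr 4), (2, .inr 2), (3, .inl [3, 4, 5, 0, 2, 3, 4, 1, 3, 2, 0]), (4, .inl [5, 0, 2, 3, 4, 1, 3, 2, 0]), (5, .inr 1)]),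
   ([3, 4, 5, 2, 3, 4, 1, 3, 2, 0], [(0, .inl [3, 4, 5, 0, 2, 3, 4, 1, 3, 2, 0]), (1, .inl [1, 3, 4, 5, 2, 3, 4, 1, 3, 2, 0]), (2, .inr 5), (3, .inl [4, 5, 2, 3, 4, 1, 3, 2, 0]), (4, .inr 3), (5, .inr 1)]),
   ([3, 4, 5, 0, 2, 3, 4, 1, 3, 2, 0], [(0, .inl [3, 4, 5, 2, 3, 4, 1, 3, 2, 0]), (1, .inl [1, 3, 4, 5, 0, 2, 3, 4, 1, 3, 2, 0]), (2, .inl [2, 3, 4, 5, 0, 2, 3, 4, 1, 3, 2, 0]), (3, .inl [4, 5, 0, 2, 3, 4, 1, 3, 2, 0]), (4, .inr 3), (5, .inr 1)]),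
   ([1, 3, 4, 5, 2, 3, 4, 1, 3, 2, 0], [(0, .inl [1, 3, 4, 5, 0, 2, 3, 4, 1, 3, 2, 0]), (1, .inl [3, 4, 5, 2, 3, 4, 1, 3, 2, 0]), (2, .inr 5), (3, .inr 4), (4, .inr 3), (5, .inr 1)]),
   ([1, 3, 4, 5, 0, 2, 3, 4, 1, 3, 2, 0], [(0, .inl [1, 3, 4, 5, 2, 3, 4, 1, 3, 2, 0]), (1, .inl [3, 4, 5, 0, 2, 3, 4, 1, 3, 2, 0]), (2, .inl [2, 1, 3, 4, 5, 0, 2, 3, 4, 1, 3, 2, 0]), (3, .inr 4), (4, .inr 3), (5, .inr 1)]),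
   ([2, 3, 4, 5, 0, 2, 3, 4, 1, 3, 2, 0], [(0, .inr 5), (1, .inl [2, 1, 3, 4, 5, 0, 2, 3, 4, 1, 3, 2, 0]), (2, .inl [3, 4, 5, 0, 2, 3, 4, 1, 3, 2, 0]), (3, .inr 2), (4, .inr 3), (5, .inr 1)]),
   ([2, 1, 3, 4, 5, 0, 2, 3, 4, 1, 3, 2, 0], [(0, .inr 5), (1, .inl [2, 3, 4, 5, 0, 2, 3, 4, 1, 3, 2, 0]), (2, .inl [1, 3, 4, 5, 0, 2, 3, 4, 1, 3, 2, 0]), (3, .inl [3, 2, 1, 3, 4, 5, 0, 2, 3, 4, 1, 3, 2, 0]), (4, .inr 3), (5, .inr 1)]),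
   ([3, 2, 1, 3, 4, 5, 0, 2, 3, 4, 1, 3, 2, 0], [(0, .inr 5), (1, .inr 2), (2, .inr 4), (3, .inl [2, 1, 3, 4, 5, 0, 2, 3, 4, 1, 3, 2, 0]), (4, .inl [4, 3, 2, 1, 3, 4, 5, 0, 2, 3, 4, 1, 3, 2, 0]), (5, .inr 1)]),
   ([4, 3, 2, 1, 3, 4, 5, 0, 2, 3, 4, 1, 3, 2, 0], [(0, .inr 5), (1, .inr 2), (2, .inr 4), (3, .inr 3), (4, .inl [3, 2, 1, 3, 4, 5, 0, 2, 3, 4, 1, 3, 2, 0]), (5, .inl [5, 4, 3, 2, 1, 3, 4, 5, 0, 2, 3, 4, 1, 3, 2, 0])]),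
   ([5, 4, 3, 2, 1, 3, 4, 5, 0, 2, 3, 4, 1, 3, 2, 0], [(0, .inr 5), (1, .inr 2), (2, .inr 4), (3, .inr 3), (4, .inr 1), (5, .inl [4, 3, 2, 1, 3, 4, 5, 0, 2, 3, 4, 1, 3, 2, 0])])]

theorem lev5_ok : Tabs.chkLevel chevE8 T [0, 1, 2, 3, 4, 5] [1, 2, 3, 4, 5] lev5 = true := by decide +kernel

theorem lev5_distinct : Tabs.chkDistinct (lev5.map fun f => Tabs.imgs chevE8 T f.1) = true := by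
  have e : (lev5.map fun f => Tabs.imgs chevE8 T f.1) =
      [[162, 141, 135, 130, 126, 123, 121, 120], [77, 141, 163, 130, 126, 123, 121, 120], [76, 141, 162, 136, 126, 123, 121, 120], [75, 142, 162, 135, 131, 123, 121, 120], [70, 130, 162, 135, 143, 123, 121, 120], [74, 143, 162, 135, 130, 127, 121, 120], [69, 131, 162, 135, 142, 127, 121, 120], [73, 144, 162, 135, 130, 126, 124, 120], [65, 126, 162, 136, 141, 132, 121, 120], [68, 132, 162, 135, 142, 126, 124, 120], [55, 126, 163, 130, 141, 138, 121, 120], [64, 127, 162, 136, 141, 131, 124, 120], [55, 126, 135, 130, 141, 166, 121, 120], [54, 127, 163, 130, 141, 137, 124, 120], [61, 123, 162, 137, 141, 130, 128, 120], [54,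 127, 135, 130, 141, 165, 124, 120], [51, 123, 163, 131, 141, 136, 128, 120], [51, 123, 135, 131, 141, 164, 128, 120], [45, 123, 164, 126, 142, 135, 133, 120], [45, 123, 136, 126, 142, 163, 133, 120], [35, 123, 169, 126, 130, 135, 145, 120], [35, 123, 147, 126, 130, 163, 145, 120], [45, 123, 130, 126, 147, 162, 139, 120], [35, 123, 142, 126, 136, 162, 150, 120], [35, 123, 141, 131, 135, 162, 154, 120], [35, 127, 141, 130, 135, 162, 157, 120], [35, 126, 141, 130, 135, 162, 159, 120]] := by decide +kernel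
  rw [e]
  decide +kernel

def lev6 : Tabs.Level :=
  [([], [(0, .inr 0), (1, .inr 1), (2, .inr 2), (3, .inr 3), (4, .inr 4), (5, .inr 5), (6, .inl [6])]),
   ([6], [(0, .inr 0), (1, .inr 1), (2, .inr 2), (3, .inr 3), (4, .inr 4), (5, .inl [5, 6]), (6, .inl [])]),
   ([5, 6], [(0, .inr 0), (1, .inr 1), (2, .inr 2), (3, .inr 3), (4, .inl [4, 5, 6]), (5, .inl [6]), (6, .inr 5)]),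
   ([4, 5, 6], [(0, .inr 0), (1, .inr 1), (2, .inr 2), (3, .inl [3, 4, 5, 6]), (4, .inl [5, 6]), (5, .inr 4), (6, .inr 5)]),
   ([3, 4, 5, 6], [(0, .inr 0), (1, .inl [1, 3, 4, 5, 6]), (2, .inl [2, 3, 4, 5, 6]), (3, .inl [4, 5, 6]), (4, .inr 3), (5, .inr 4), (6, .inr 5)]),
   ([1, 3, 4, 5, 6], [(0, .inr 0), (1, .inl [3, 4, 5, 6]), (2, .inl [2, 1, 3, 4, 5, 6]), (3, .inr 1), (4, .inr 3), (5, .inr 4), (6, .inr 5)]),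
   ([2, 3, 4, 5, 6], [(0, .inl [0, 2, 3, 4, 5, 6]), (1, .inl [2, 1, 3, 4, 5, 6]), (2, .inl [3, 4, 5, 6]), (3, .inr 2), (4, .inr 3), (5, .inr 4), (6, .inr 5)]),
   ([2, 1, 3, 4, 5, 6], [(0, .inl [0, 2, 1, 3, 4, 5, 6]), (1, .inl [2, 3, 4, 5, 6]), (2, .inl [1, 3, 4, 5, 6]), (3, .inl [3, 2, 1, 3, 4, 5, 6]), (4, .inr 3), (5, .inr 4), (6, .inr 5)]),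
   ([0, 2, 3, 4, 5, 6], [(0, .inl [2, 3, 4, 5, 6]), (1, .inl [0, 2, 1, 3, 4, 5, 6]), (2, .inr 0), (3, .inr 2), (4, .inr 3), (5, .inr 4), (6, .inr 5)]),
   ([0, 2, 1, 3, 4, 5, 6], [(0, .inl [2, 1, 3, 4, 5, 6]), (1, .inl [0, 2, 3, 4, 5, 6]), (2, .inr 0), (3, .inl [3, 0, 2, 1, 3, 4, 5, 6]), (4, .inr 3), (5, .inr 4), (6, .inr 5)]),
   ([3, 2, 1, 3, 4, 5, 6], [(0, .inl [3, 0, 2, 1, 3, 4, 5, 6]), (1, .inr 2), (2, .inr 1), (3, .inl [2, 1, 3, 4, 5, 6]), (4, .inl [4, 3, 2, 1, 3, 4, 5, 6]), (5, .inr 4), (6, .inr 5)]),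
   ([3, 0, 2, 1, 3, 4, 5, 6], [(0, .inl [3, 2, 1, 3, 4, 5, 6]), (1, .inr 2), (2, .inl [2, 3, 0, 2, 1, 3, 4, 5, 6]), (3, .inl [0, 2, 1, 3, 4, 5, 6]), (4, .inl [4, 3, 0, 2, 1, 3, 4, 5, 6]), (5, .inr 4), (6, .inr 5)]),
   ([4, 3, 2, 1, 3, 4, 5, 6], [(0, .inl [4, 3, 0, 2, 1, 3, 4, 5, 6]), (1, .inr 2), (2, .inr 1), (3, .inr 3), (4, .inl [3, 2, 1, 3, 4, 5, 6]), (5, .inl [5, 4, 3, 2, 1, 3, 4, 5, 6]), (6, .inr 5)]),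
   ([2, 3, 0, 2, 1, 3, 4, 5, 6], [(0, .inr 1), (1, .inr 2), (2, .inl [3, 0, 2, 1, 3, 4, 5, 6]), (3, .inr 0), (4, .inl [4, 2, 3, 0, 2, 1, 3, 4, 5, 6]), (5, .inr 4), (6, .inr 5)]),
   ([4, 3, 0, 2, 1, 3, 4, 5, 6], [(0, .inl [4, 3, 2, 1, 3, 4, 5, 6]), (1, .inr 2), (2, .inl [4, 2, 3, 0, 2, 1, 3, 4, 5, 6]), (3, .inr 3), (4, .inl [3, 0, 2, 1, 3, 4, 5, 6]), (5, .inl [5, 4, 3, 0, 2, 1, 3, 4, 5, 6]), (6, .inr 5)]),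
   ([5, 4, 3, 2, 1, 3, 4, 5, 6], [(0, .inl [5, 4, 3, 0, 2, 1, 3, 4, 5, 6]), (1, .inr 2), (2, .inr 1), (3, .inr 3), (4, .inr 4), (5, .inl [4, 3, 2, 1, 3, 4, 5, 6]), (6, .inl [6, 5, 4, 3, 2, 1, 3, 4, 5, 6])]),
   ([4, 2, 3, 0, 2, 1, 3, 4, 5, 6], [(0, .inr 1), (1, .inr 2), (2, .inl [4, 3, 0, 2, 1, 3, 4, 5, 6]), (3, .inl [3, 4, 2, 3, 0, 2, 1, 3, 4, 5, 6]), (4, .inl [2, 3, 0, 2, 1, 3, 4, 5, 6]), (5, .inl [5, 4, 2, 3, 0, 2, 1, 3, 4, 5, 6]), (6, .inr 5)]),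
   ([5, 4, 3, 0, 2, 1, 3, 4, 5, 6], [(0, .inl [5, 4, 3, 2, 1, 3, 4, 5, 6]), (1, .inr 2), (2, .inl [5, 4, 2, 3, 0, 2, 1, 3, 4, 5, 6]), (3, .inr 3), (4, .inr 4), (5, .inl [4, 3, 0, 2, 1, 3, 4, 5, 6]), (6, .inl [6, 5, 4, 3, 0, 2, 1, 3, 4, 5, 6])]),
   ([6, 5, 4, 3, 2, 1, 3, 4, 5, 6], [(0, .inl [6, 5, 4, 3, 0, 2, 1, 3, 4, 5, 6]), (1, .inr 2), (2, .inr 1), (3, .inr 3), (4, .inr 4), (5, .inr 5), (6, .inl [5, 4, 3, 2, 1, 3, 4, 5, 6])]),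
   ([3, 4, 2, 3, 0, 2, 1, 3, 4, 5, 6], [(0, .inr 1), (1, .inl [1, 3, 4, 2, 3, 0, 2, 1, 3, 4, 5, 6]), (2, .inr 3), (3, .inl [4, 2, 3, 0, 2, 1, 3, 4, 5, 6]), (4, .inr 0), (5, .inl [5, 3, 4, 2, 3, 0, 2, 1, 3, 4, 5, 6]), (6, .inr 5)]),
   ([5, 4, 2, 3, 0, 2, 1, 3, 4, 5, 6], [(0, .inr 1), (1, .inr 2), (2, .inl [5, 4, 3, 0, 2, 1, 3, 4, 5, 6]), (3, .inl [5, 3, 4, 2, 3, 0, 2, 1, 3, 4, 5, 6]), (4, .inr 4), (5, .inl [4, 2, 3, 0, 2, 1, 3, 4, 5, 6]), (6, .inl [6, 5, 4, 2, 3, 0, 2, 1, 3, 4, 5, 6])]),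
   ([6, 5, 4, 3, 0, 2, 1, 3, 4, 5, 6], [(0, .inl [6, 5, 4, 3, 2, 1, 3, 4, 5, 6]), (1, .inr 2), (2, .inl [6, 5, 4, 2, 3, 0, 2, 1, 3, 4, 5, 6]), (3, .inr 3), (4, .inr 4), (5, .inr 5), (6, .inl [5, 4, 3, 0, 2, 1, 3, 4, 5, 6])]),
   ([1, 3, 4, 2, 3, 0, 2, 1, 3, 4, 5, 6], [(0, .inr 1), (1, .inl [3, 4, 2, 3, 0, 2, 1, 3, 4, 5, 6]), (2, .inr 3), (3, .inr 2), (4, .inr 0), (5, .inl [5, 1, 3, 4, 2, 3, 0, 2, 1, 3, 4, 5, 6]), (6, .inr 5)]),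
   ([5, 3, 4, 2, 3, 0, 2, 1, 3, 4, 5, 6], [(0, .inr 1), (1, .inl [5, 1, 3, 4, 2, 3, 0, 2, 1, 3, 4, 5, 6]), (2, .inr 3), (3, .inl [5, 4, 2, 3, 0, 2, 1, 3, 4, 5, 6]), (4, .inl [4, 5, 3, 4, 2, 3, 0, 2, 1, 3, 4, 5, 6]), (5, .inl [3, 4, 2, 3, 0, 2, 1, 3, 4, 5, 6]), (6, .inl [6, 5, 3, 4, 2, 3, 0, 2, 1, 3, 4, 5, 6])]),
   ([6, 5, 4, 2, 3, 0, 2, 1, 3, 4, 5, 6], [(0, .inr 1), (1, .inr 2), (2, .inl [6, 5, 4, 3, 0, 2, 1, 3, 4, 5, 6]), (3, .inl [6, 5, 3, 4, 2, 3, 0, 2, 1, 3, 4, 5, 6]), (4, .inr 4), (5, .inr 5), (6, .inl [5, 4, 2, 3, 0, 2, 1, 3, 4, 5, 6])]),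
   ([5, 1, 3, 4, 2, 3, 0, 2, 1, 3, 4, 5, 6], [(0, .inr 1), (1, .inl [5, 3, 4, 2, 3, 0, 2, 1, 3, 4, 5, 6]), (2, .inr 3), (3, .inr 2), (4, .inl [4, 5, 1, 3, 4, 2, 3, 0, 2, 1, 3, 4, 5, 6]), (5, .inl [1, 3, 4, 2, 3, 0, 2, 1, 3, 4, 5, 6]), (6, .inl [6, 5, 1, 3, 4, 2, 3, 0, 2, 1, 3, 4, 5, 6])]),
   ([4, 5, 3, 4, 2, 3, 0, 2, 1, 3, 4, 5, 6], [(0, .inr 1), (1, .inl [4, 5, 1, 3, 4, 2, 3, 0, 2, 1, 3, 4, 5, 6]), (2, .inr 3), (3, .inr 4), (4, .inl [5, 3, 4, 2, 3, 0, 2, 1, 3, 4, 5, 6]), (5, .inr 0), (6, .inl [6, 4, 5, 3, 4, 2, 3, 0, 2, 1, 3, 4, 5, 6])]),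
   ([6, 5, 3, 4, 2, 3, 0, 2, 1, 3, 4, 5, 6], [(0, .inr 1), (1, .inl [6, 5, 1, 3, 4, 2, 3, 0, 2, 1, 3, 4, 5, 6]), (2, .inr 3), (3, .inl [6, 5, 4, 2, 3, 0, 2, 1, 3, 4, 5, 6]), (4, .inl [6, 4, 5, 3, 4, 2, 3, 0, 2, 1, 3, 4, 5, 6]), (5, .inr 5), (6, .inl [5, 3, 4, 2, 3, 0, 2, 1, 3, 4, 5, 6])]),
   ([4, 5, 1, 3, 4, 2, 3, 0, 2, 1, 3, 4, 5, 6], [(0, .inr 1), (1, .inl [4, 5, 3, 4, 2, 3, 0, 2, 1, 3, 4, 5, 6]), (2, .inr 3), (3, .inl [3, 4, 5, 1, 3, 4, 2, 3, 0, 2, 1, 3, 4, 5, 6]), (4, .inl [5, 1, 3, 4, 2, 3, 0, 2, 1, 3, 4, 5, 6]), (5, .inr 0), (6, .inl [6, 4, 5, 1, 3, 4, 2, 3, 0, 2, 1, 3, 4, 5, 6])]),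
   ([6, 5, 1, 3, 4, 2, 3, 0, 2, 1, 3, 4, 5, 6], [(0, .inr 1), (1, .inl [6, 5, 3, 4, 2, 3, 0, 2, 1, 3, 4, 5, 6]), (2, .inr 3), (3, .inr 2), (4, .inl [6, 4, 5, 1, 3, 4, 2, 3, 0, 2, 1, 3, 4, 5, 6]), (5, .inr 5), (6, .inl [5, 1, 3, 4, 2, 3, 0, 2, 1, 3, 4, 5, 6])]),
   ([6, 4, 5, 3, 4, 2, 3, 0, 2, 1, 3, 4, 5, 6], [(0, .inr 1), (1, .inl [6, 4, 5, 1, 3, 4, 2, 3, 0, 2, 1, 3, 4, 5, 6]), (2, .inr 3), (3, .inr 4), (4, .inl [6, 5, 3, 4, 2, 3, 0, 2, 1, 3, 4, 5, 6]), (5, .inl [5, 6, 4, 5, 3, 4, 2, 3, 0, 2, 1, 3, 4, 5, 6]), (6, .inl [4, 5, 3, 4, 2, 3, 0, 2, 1, 3, 4, 5, 6])]),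
   ([3, 4, 5, 1, 3, 4, 2, 3, 0, 2, 1, 3, 4, 5, 6], [(0, .inr 1), (1, .inr 4), (2, .inl [2, 3, 4, 5, 1, 3, 4, 2, 3, 0, 2, 1, 3, 4, 5, 6]), (3, .inl [4, 5, 1, 3, 4, 2, 3, 0, 2, 1, 3, 4, 5, 6]), (4, .inr 2), (5, .inr 0), (6, .inl [6, 3, 4, 5, 1, 3, 4, 2, 3, 0, 2, 1, 3, 4, 5, 6])]),
   ([6, 4, 5, 1, 3, 4, 2, 3, 0, 2, 1, 3, 4, 5, 6], [(0, .inr 1), (1, .inl [6, 4, 5, 3, 4, 2, 3, 0, 2, 1, 3, 4, 5, 6]), (2, .inr 3), (3, .inl [6, 3, 4, 5, 1, 3, 4, 2, 3, 0, 2, 1, 3, 4, 5, 6]), (4, .inl [6, 5, 1, 3, 4, 2, 3, 0, 2, 1, 3, 4, 5, 6]), (5, .inl [5, 6, 4, 5, 1, 3, 4, 2, 3, 0, 2, 1, 3, 4, 5, 6]), (6, .inl [4, 5, 1, 3, 4, 2, 3, 0, 2, 1, 3, 4, 5, 6])]),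
   ([5, 6, 4, 5, 3, 4, 2, 3, 0, 2, 1, 3, 4, 5, 6], [(0, .inr 1), (1, .inl [5, 6, 4, 5, 1, 3, 4, 2, 3, 0, 2, 1, 3, 4, 5, 6]), (2, .inr 3), (3, .inr 4), (4, .inr 5), (5, .inl [6, 4, 5, 3, 4, 2, 3, 0, 2, 1, 3, 4, 5, 6]), (6, .inr 0)]),
   ([2, 3, 4, 5, 1, 3, 4, 2, 3, 0, 2, 1, 3, 4, 5, 6], [(0, .inl [0, 2, 3, 4, 5, 1, 3, 4, 2, 3, 0, 2, 1, 3, 4, 5, 6]), (1, .inr 4), (2, .inl [3, 4, 5, 1, 3, 4, 2, 3, 0, 2, 1, 3, 4, 5, 6]), (3, .inr 3), (4, .inr 2), (5, .inr 0), (6, .inl [6, 2, 3, 4, 5, 1, 3, 4, 2, 3, 0, 2, 1, 3, 4, 5, 6])]),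
   ([6, 3, 4, 5, 1, 3, 4, 2, 3, 0, 2, 1, 3, 4, 5, 6], [(0, .inr 1), (1, .inr 4), (2, .inl [6, 2, 3, 4, 5, 1, 3, 4, 2, 3, 0, 2, 1, 3, 4, 5, 6]), (3, .inl [6, 4, 5, 1, 3, 4, 2, 3, 0, 2, 1, 3, 4, 5, 6]), (4, .inr 2), (5, .inl [5, 6, 3, 4, 5, 1, 3, 4, 2, 3, 0, 2, 1, 3, 4, 5, 6]), (6, .inl [3, 4, 5, 1, 3, 4, 2, 3, 0, 2, 1, 3, 4, 5, 6])]),
   ([5, 6, 4, 5, 1, 3, 4, 2, 3, 0, 2, 1, 3, 4, 5, 6], [(0, .inr 1), (1, .inl [5, 6, 4, 5, 3, 4, 2, 3, 0, 2, 1, 3, 4, 5, 6]), (2, .inr 3), (3, .inl [5, 6, 3, 4, 5, 1, 3, 4, 2, 3, 0, 2, 1, 3, 4, 5, 6]), (4, .inr 5), (5, .inl [6, 4, 5, 1, 3, 4, 2, 3, 0, 2, 1, 3, 4, 5, 6]), (6, .inr 0)]),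
   ([0, 2, 3, 4, 5, 1, 3, 4, 2, 3, 0, 2, 1, 3, 4, 5, 6], [(0, .inl [2, 3, 4, 5, 1, 3, 4, 2, 3, 0, 2, 1, 3, 4, 5, 6]), (1, .inr 4), (2, .inr 1), (3, .inr 3), (4, .inr 2), (5, .inr 0), (6, .inl [6, 0, 2, 3, 4, 5, 1, 3, 4, 2, 3, 0, 2, 1, 3, 4, 5, 6])]),
   ([6, 2, 3, 4, 5, 1, 3, 4, 2, 3, 0, 2, 1, 3, 4, 5, 6], [(0, .inl [6, 0, 2, 3, 4, 5, 1, 3, 4, 2, 3, 0, 2, 1, 3, 4, 5, 6]), (1, .inr 4), (2, .inl [6, 3, 4, 5, 1, 3, 4, 2, 3, 0, 2, 1, 3, 4, 5, 6]), (3, .inr 3), (4, .inr 2), (5, .inl [5, 6, 2, 3, 4, 5, 1, 3, 4, 2, 3, 0, 2, 1, 3, 4, 5, 6]), (6, .inl [2, 3, 4, 5, 1, 3, 4, 2, 3, 0, 2, 1, 3, 4, 5, 6])]),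
   ([5, 6, 3, 4, 5, 1, 3, 4, 2, 3, 0, 2, 1, 3, 4, 5, 6], [(0, .inr 1), (1, .inr 4), (2, .inl [5, 6, 2, 3, 4, 5, 1, 3, 4, 2, 3, 0, 2, 1, 3, 4, 5, 6]), (3, .inl [5, 6, 4, 5, 1, 3, 4, 2, 3, 0, 2, 1, 3, 4, 5, 6]), (4, .inl [4, 5, 6, 3, 4, 5, 1, 3, 4, 2, 3, 0, 2, 1, 3, 4, 5, 6]), (5, .inl [6, 3, 4, 5, 1, 3, 4, 2, 3, 0, 2, 1, 3, 4, 5, 6]), (6, .inr 0)]),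
   ([6, 0, 2, 3, 4, 5, 1, 3, 4, 2, 3, 0, 2, 1, 3, 4, 5, 6], [(0, .inl [6, 2, 3, 4, 5, 1, 3, 4, 2, 3, 0, 2, 1, 3, 4, 5, 6]), (1, .inr 4), (2, .inr 1), (3, .inr 3), (4, .inr 2), (5, .inl [5, 6, 0, 2, 3, 4, 5, 1, 3, 4, 2, 3, 0, 2, 1, 3, 4, 5, 6]), (6, .inl [0, 2, 3, 4, 5, 1, 3, 4, 2, 3, 0, 2, 1, 3, 4, 5, 6])]),
   ([5, 6, 2, 3, 4, 5, 1, 3, 4, 2, 3, 0, 2, 1, 3, 4, 5, 6], [(0, .inl [5, 6, 0, 2, 3, 4, 5, 1, 3, 4, 2, 3, 0, 2, 1, 3, 4, 5, 6]), (1, .inr 4), (2, .inl [5, 6, 3, 4, 5, 1, 3, 4, 2, 3, 0, 2, 1, 3, 4, 5, 6]), (3, .inr 3), (4, .inl [4, 5, 6, 2, 3, 4, 5, 1, 3, 4, 2, 3, 0, 2, 1, 3, 4, 5, 6]), (5, .inl [6, 2, 3, 4, 5, 1, 3, 4, 2, 3, 0, 2, 1, 3, 4, 5, 6]), (6, .inr 0)]),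
   ([4, 5, 6, 3, 4, 5, 1, 3, 4, 2, 3, 0, 2, 1, 3, 4, 5, 6], [(0, .inr 1), (1, .inr 4), (2, .inl [4, 5, 6, 2, 3, 4, 5, 1, 3, 4, 2, 3, 0, 2, 1, 3, 4, 5, 6]), (3, .inr 5), (4, .inl [5, 6, 3, 4, 5, 1, 3, 4, 2, 3, 0, 2, 1, 3, 4, 5, 6]), (5, .inr 2), (6, .inr 0)]),
   ([5, 6, 0, 2, 3, 4, 5, 1, 3, 4, 2, 3, 0, 2, 1, 3, 4, 5, 6], [(0, .inl [5, 6, 2, 3, 4, 5, 1, 3, 4, 2, 3, 0, 2, 1, 3, 4, 5, 6]), (1, .inr 4), (2, .inr 1), (3, .inr 3), (4, .inl [4, 5, 6, 0, 2, 3, 4, 5, 1, 3, 4, 2, 3, 0, 2, 1, 3, 4, 5, 6]), (5, .inl [6, 0, 2, 3, 4, 5, 1, 3, 4, 2, 3, 0, 2, 1, 3, 4, 5, 6]), (6, .inr 0)]),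
   ([4, 5, 6, 2, 3, 4, 5, 1, 3, 4, 2, 3, 0, 2, 1, 3, 4, 5, 6], [(0, .inl [4, 5, 6, 0, 2, 3, 4, 5, 1, 3, 4, 2, 3, 0, 2, 1, 3, 4, 5, 6]), (1, .inr 4), (2, .inl [4, 5, 6, 3, 4, 5, 1, 3, 4, 2, 3, 0, 2, 1, 3, 4, 5, 6]), (3, .inl [3, 4, 5, 6, 2, 3, 4, 5, 1, 3, 4, 2, 3, 0, 2, 1, 3, 4, 5, 6]), (4, .inl [5, 6, 2, 3, 4, 5, 1, 3, 4, 2, 3, 0, 2, 1, 3, 4, 5, 6]), (5, .inr 2), (6, .inr 0)]),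
   ([4, 5, 6, 0, 2, 3, 4, 5, 1, 3, 4, 2, 3, 0, 2, 1, 3, 4, 5, 6], [(0, .inl [4, 5, 6, 2, 3, 4, 5, 1, 3, 4, 2, 3, 0, 2, 1, 3, 4, 5, 6]), (1, .inr 4), (2, .inr 1), (3, .inl [3, 4, 5, 6, 0, 2, 3, 4, 5, 1, 3, 4, 2, 3, 0, 2, 1, 3, 4, 5, 6]), (4, .inl [5, 6, 0, 2, 3, 4, 5, 1, 3, 4, 2, 3, 0, 2, 1, 3, 4, 5, 6]), (5, .inr 2), (6, .inr 0)]),
   ([3, 4, 5, 6, 2, 3, 4, 5, 1, 3, 4, 2, 3, 0, 2, 1, 3, 4, 5, 6], [(0, .inl [3, 4, 5, 6, 0, 2, 3, 4, 5, 1, 3, 4, 2, 3, 0, 2, 1, 3, 4, 5, 6]), (1, .inl [1, 3, 4, 5, 6, 2, 3, 4, 5, 1, 3, 4, 2, 3, 0, 2, 1, 3, 4, 5, 6]), (2, .inr 5), (3, .inl [4, 5, 6, 2, 3, 4, 5, 1, 3, 4, 2, 3, 0, 2, 1, 3, 4, 5, 6]), (4, .inr 3), (5, .inr 2), (6, .inr 0)]),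
   ([3, 4, 5, 6, 0, 2, 3, 4, 5, 1, 3, 4, 2, 3, 0, 2, 1, 3, 4, 5, 6], [(0, .inl [3, 4, 5, 6, 2, 3, 4, 5, 1, 3, 4, 2, 3, 0, 2, 1, 3, 4, 5, 6]), (1, .inl [1, 3, 4, 5, 6, 0, 2, 3, 4, 5, 1, 3, 4, 2, 3, 0, 2, 1, 3, 4, 5, 6]), (2, .inl [2, 3, 4, 5, 6, 0, 2, 3, 4, 5, 1, 3, 4, 2, 3, 0, 2, 1, 3, 4, 5, 6]), (3, .inl [4, 5, 6, 0, 2, 3, 4, 5, 1, 3, 4, 2, 3, 0, 2, 1, 3, 4, 5, 6]), (4, .inr 3), (5, .inr 2), (6, .inr 0)]),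
   ([1, 3, 4, 5, 6, 2, 3, 4, 5, 1, 3, 4, 2, 3, 0, 2, 1, 3, 4, 5, 6], [(0, .inl [1, 3, 4, 5, 6, 0, 2, 3, 4, 5, 1, 3, 4, 2, 3, 0, 2, 1, 3, 4, 5, 6]), (1, .inl [3, 4, 5, 6, 2, 3, 4, 5, 1, 3, 4, 2, 3, 0, 2, 1, 3, 4, 5, 6]), (2, .inr 5), (3, .inr 4), (4, .inr 3), (5, .inr 2), (6, .inr 0)]),
   ([1, 3, 4, 5, 6, 0, 2, 3, 4, 5, 1, 3, 4, 2, 3, 0, 2, 1, 3, 4, 5, 6], [(0, .inl [1, 3, 4, 5, 6, 2, 3, 4, 5, 1, 3, 4, 2, 3, 0, 2, 1, 3, 4, 5, 6]), (1, .inl [3, 4, 5, 6, 0, 2, 3, 4, 5, 1, 3, 4, 2, 3, 0, 2, 1, 3, 4, 5, 6]), (2, .inl [2, 1, 3, 4, 5, 6, 0, 2, 3, 4, 5, 1, 3, 4, 2, 3, 0, 2, 1, 3, 4, 5, 6]), (3, .inr 4), (4, .inr 3), (5, .inr 2), (6, .inr 0)]),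
   ([2, 3, 4, 5, 6, 0, 2, 3, 4, 5, 1, 3, 4, 2, 3, 0, 2, 1, 3, 4, 5, 6], [(0, .inr 5), (1, .inl [2, 1, 3, 4, 5, 6, 0, 2, 3, 4, 5, 1, 3, 4, 2, 3, 0, 2, 1, 3, 4, 5, 6]), (2, .inl [3, 4, 5, 6, 0, 2, 3, 4, 5, 1, 3, 4, 2, 3, 0, 2, 1, 3, 4, 5, 6]), (3, .inr 1), (4, .inr 3), (5, .inr 2), (6, .inr 0)]),
   ([2, 1, 3, 4, 5, 6, 0, 2, 3, 4, 5, 1, 3, 4, 2, 3, 0, 2, 1, 3, 4, 5, 6], [(0, .inr 5), (1, .inl [2, 3, 4, 5, 6, 0, 2, 3, 4, 5, 1, 3, 4, 2, 3, 0, 2, 1, 3, 4, 5, 6]), (2, .inl [1, 3, 4, 5, 6, 0, 2, 3, 4, 5, 1, 3, 4, 2, 3, 0, 2, 1, 3, 4, 5, 6]), (3, .inl [3, 2, 1, 3, 4, 5, 6, 0, 2, 3, 4, 5, 1, 3, 4, 2, 3, 0, 2, 1, 3, 4, 5, 6]), (4, .inr 3), (5, .inr 2), (6, .inr 0)]),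
   ([3, 2, 1, 3, 4, 5, 6, 0, 2, 3, 4, 5, 1, 3, 4, 2, 3, 0, 2, 1, 3, 4, 5, 6], [(0, .inr 5), (1, .inr 1), (2, .inr 4), (3, .inl [2, 1, 3, 4, 5, 6, 0, 2, 3, 4, 5, 1, 3, 4, 2, 3, 0, 2, 1, 3, 4, 5, 6]), (4, .inl [4, 3, 2, 1, 3, 4, 5, 6, 0, 2, 3, 4, 5, 1, 3, 4, 2, 3, 0, 2, 1, 3, 4, 5, 6]), (5, .inr 2), (6, .inr 0)]),
   ([4, 3, 2, 1, 3, 4, 5, 6, 0, 2, 3, 4, 5, 1, 3, 4, 2, 3, 0, 2, 1, 3, 4, 5, 6], [(0, .inr 5), (1, .inr 1), (2, .inr 4), (3, .inr 3), (4, .inl [3, 2, 1, 3, 4, 5, 6, 0, 2, 3, 4, 5, 1, 3, 4, 2, 3, 0, 2, 1, 3, 4, 5, 6]), (5, .inl [5, 4, 3, 2, 1, 3, 4, 5, 6, 0, 2, 3, 4, 5, 1, 3, 4, 2, 3, 0, 2, 1, 3, 4, 5, 6]), (6, .inr 0)]),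
   ([5, 4, 3, 2, 1, 3, 4, 5, 6, 0, 2, 3, 4, 5, 1, 3, 4, 2, 3, 0, 2, 1, 3, 4, 5, 6], [(0, .inr 5), (1, .inr 1), (2, .inr 4), (3, .inr 3), (4, .inr 2), (5, .inl [4, 3, 2, 1, 3, 4, 5, 6, 0, 2, 3, 4, 5, 1, 3, 4, 2, 3, 0, 2, 1, 3, 4, 5, 6]), (6, .inl [6, 5, 4, 3, 2, 1, 3, 4, 5, 6, 0, 2, 3, 4, 5, 1, 3, 4, 2, 3, 0, 2, 1, 3, 4, 5, 6])]),
   ([6, 5, 4, 3, 2, 1, 3, 4, 5, 6, 0, 2, 3, 4, 5, 1, 3, 4, 2, 3, 0, 2, 1, 3, 4, 5, 6], [(0, .inr 5), (1, .inr 1), (2, .inr 4), (3, .inr 3), (4, .inr 2), (5, .inr 0), (6, .inl [5, 4, 3, 2, 1, 3, 4, 5, 6, 0, 2, 3, 4, 5, 1, 3, 4, 2, 3, 0, 2, 1, 3, 4, 5, 6])])]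

theorem lev6_ok : Tabs.chkLevel chevE8 T [0, 1, 2, 3, 4, 5, 6] [0, 1, 2, 3, 4, 5] lev6 = true := by decide +kernel

theorem lev6_distinct : Tabs.chkDistinct (lev6.map fun f => Tabs.imgs chevE8 T f.1) = true := by
  have e : (lev6.map fun f => Tabs.imgs chevE8 T f.1) =
      [[162, 141, 135, 130, 126, 123, 121, 120], [162, 141, 135, 130, 126, 124, 118, 122], [162, 141, 135, 130, 127, 121, 115, 125], [162, 141, 135, 131, 123, 121, 111, 129], [162, 142, 136, 126, 123, 121, 106, 134], [162, 130, 147, 126, 123, 121, 94, 146], [163, 147, 130, 126, 123, 121, 100, 140], [163, 136, 142, 126, 123, 121, 89, 151], [135, 169, 130, 126, 123, 121, 72, 168], [135, 164, 142, 126, 123, 121,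 67, 173], [164, 135, 141, 131, 123, 121, 85, 155], [136, 163, 141, 131, 123, 121, 63, 177], [165, 135, 141, 130, 127, 121, 82, 158], [130, 162, 141, 137, 123, 121, 53, 187], [137, 163, 141, 130, 127, 121, 60, 180], [166, 135, 141, 130, 126, 124, 80, 160], [131, 162, 141, 136, 127, 121, 50, 190], [138, 163, 141, 130, 126, 124, 58, 182], [167, 135, 141, 130, 126, 123, 80, 161], [126, 162, 142, 135, 132, 121, 44, 196], [132, 162, 141, 136, 126, 124, 48, 192], [139, 163, 141, 130, 126, 123, 58, 183], [126, 162, 130, 135, 144, 121, 34, 206], [127, 162, 142, 135, 131, 124, 42, 198], [133, 162, 141, 136, 126, 123, 48, 193], [127, 162, 130, 135, 143, 124, 32, 208], [123, 162, 143, 135,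 130, 128, 39, 201], [128, 162, 142, 135, 131, 123, 42, 199], [123, 162, 131, 135, 142, 128, 29, 211], [128, 162, 130, 135, 143, 123, 32, 209], [124, 162, 143, 135, 130, 127, 39, 202], [123, 162, 126, 136, 141, 133, 25, 215], [124, 162, 131, 135, 142, 127, 29, 212], [121, 162, 144, 135, 130, 126, 39, 203], [123, 163, 126, 130, 141, 139, 20, 220], [124, 162, 126, 136, 141, 132, 25, 216], [121, 162, 132, 135, 142, 126, 29, 213], [123, 135, 126, 130, 141, 167, 13, 227], [124, 163, 126, 130, 141, 138, 20, 221], [121, 162, 127, 136, 141, 131, 25, 217], [124, 135, 126, 130, 141, 166, 13, 228], [121, 163, 127, 130, 141, 137, 20, 222], [121, 162, 123, 137, 141, 130, 25, 218], [121, 135,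 127, 130, 141, 165, 13, 229], [121, 163, 123, 131, 141, 136, 20, 223], [121, 135, 123, 131, 141, 164, 13, 230], [121, 164, 123, 126, 142, 135, 20, 224], [121, 136, 123, 126, 142, 163, 13, 231], [121, 169, 123, 126, 130, 135, 20, 225], [121, 147, 123, 126, 130, 163, 13, 233], [121, 130, 123, 126, 147, 162, 13, 232], [121, 142, 123, 126, 136, 162, 13, 234], [121, 141, 123, 131, 135, 162, 13, 235], [121, 141, 127, 130, 135, 162, 13, 236], [124, 141, 126, 130, 135, 162, 13, 237], [123, 141, 126, 130, 135, 162, 13, 238]] := by decide +kernel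
  rw [e]
  decide +kernel

def lev7 : Tabs.Level :=
  [([], [(0, .inr 0), (1, .inr 1), (2, .inr 2), (3, .inr 3), (4, .inr 4), (5, .inr 5), (6, .inr 6), (7, .inl [7])]),
   ([7], [(0, .inr 0), (1, .inr 1), (2, .inr 2), (3, .inr 3), (4, .inr 4), (5, .inr 5), (6, .inl [6, 7]), (7, .inl [])]),
   ([6, 7], [(0, .inr 0), (1, .inr 1), (2, .inr 2), (3, .inr 3), (4, .inr 4), (5, .inl [5, 6, 7]), (6, .inl [7]), (7, .inr 6)]),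
   ([5, 6, 7], [(0, .inr 0), (1, .inr 1), (2, .inr 2), (3, .inr 3), (4, .inl [4, 5, 6, 7]), (5, .inl [6, 7]), (6, .inr 5), (7, .inr 6)]),
   ([4, 5, 6, 7], [(0, .inr 0), (1, .inr 1), (2, .inr 2), (3, .inl [3, 4, 5, 6, 7]), (4, .inl [5, 6, 7]), (5, .inr 4), (6, .inr 5), (7, .inr 6)]),
   ([3, 4, 5, 6, 7], [(0, .inr 0), (1, .inl [1, 3, 4, 5, 6, 7]), (2, .inl [2, 3, 4, 5, 6, 7]), (3, .inl [4, 5, 6, 7]), (4, .inr 3), (5, .inr 4), (6, .inr 5), (7, .inr 6)]),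
   ([1, 3, 4, 5, 6, 7], [(0, .inr 0), (1, .inl [3, 4, 5, 6, 7]), (2, .inl [2, 1, 3, 4, 5, 6, 7]), (3, .inr 1), (4, .inr 3), (5, .inr 4), (6, .inr 5), (7, .inr 6)]),
   ([2, 3, 4, 5, 6, 7], [(0, .inl [0, 2, 3, 4, 5, 6, 7]), (1, .inl [2, 1, 3, 4, 5, 6, 7]), (2, .inl [3, 4, 5, 6, 7]), (3, .inr 2), (4, .inr 3), (5, .inr 4), (6, .inr 5), (7, .inr 6)]),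
   ([2, 1, 3, 4, 5, 6, 7], [(0, .inl [0, 2, 1, 3, 4, 5, 6, 7]), (1, .inl [2, 3, 4, 5, 6, 7]), (2, .inl [1, 3, 4, 5, 6, 7]), (3, .inl [3, 2, 1, 3, 4, 5, 6, 7]), (4, .inr 3), (5, .inr 4), (6, .inr 5), (7, .inr 6)]),
   ([0, 2, 3, 4, 5, 6, 7], [(0, .inl [2, 3, 4, 5, 6, 7]), (1, .inl [0, 2, 1, 3, 4, 5, 6, 7]), (2, .inr 0), (3, .inr 2), (4, .inr 3), (5, .inr 4), (6, .inr 5), (7, .inr 6)]),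
   ([0, 2, 1, 3, 4, 5, 6, 7], [(0, .inl [2, 1, 3, 4, 5, 6, 7]), (1, .inl [0, 2, 3, 4, 5, 6, 7]), (2, .inr 0), (3, .inl [3, 0, 2, 1, 3, 4, 5, 6, 7]), (4, .inr 3), (5, .inr 4), (6, .inr 5), (7, .inr 6)]),
   ([3, 2, 1, 3, 4, 5, 6, 7], [(0, .inl [3, 0, 2, 1, 3, 4, 5, 6, 7]), (1, .inr 2), (2, .inr 1), (3, .inl [2, 1, 3, 4, 5, 6, 7]), (4, .inl [4, 3, 2, 1, 3, 4, 5, 6, 7]), (5, .inr 4), (6, .inr 5), (7, .inr 6)]),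
   ([3, 0, 2, 1, 3, 4, 5, 6, 7], [(0, .inl [3, 2, 1, 3, 4, 5, 6, 7]), (1, .inr 2), (2, .inl [2, 3, 0, 2, 1, 3, 4, 5, 6, 7]), (3, .inl [0, 2, 1, 3, 4, 5, 6, 7]), (4, .inl [4, 3, 0, 2, 1, 3, 4, 5, 6, 7]), (5, .inr 4), (6, .inr 5), (7, .inr 6)]),
   ([4, 3, 2, 1, 3, 4, 5, 6, 7], [(0, .inl [4, 3, 0, 2, 1, 3, 4, 5, 6, 7]), (1, .inr 2), (2, .inr 1), (3, .inr 3), (4, .inl [3, 2, 1, 3, 4, 5, 6, 7]), (5, .inl [5, 4, 3, 2, 1, 3, 4, 5, 6, 7]), (6, .inr 5), (7, .inr 6)]),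
   ([2, 3, 0, 2, 1, 3, 4, 5, 6, 7], [(0, .inr 1), (1, .inr 2), (2, .inl [3, 0, 2, 1, 3, 4, 5, 6, 7]), (3, .inr 0), (4, .inl [4, 2, 3, 0, 2, 1, 3, 4, 5, 6, 7]), (5, .inr 4), (6, .inr 5), (7, .inr 6)]),
   ([4, 3, 0, 2, 1, 3, 4, 5, 6, 7], [(0, .inl [4, 3, 2, 1, 3, 4, 5, 6, 7]), (1, .inr 2), (2, .inl [4, 2, 3, 0, 2, 1, 3, 4, 5, 6, 7]), (3, .inr 3), (4, .inl [3, 0, 2, 1, 3, 4, 5, 6, 7]), (5, .inl [5, 4, 3, 0, 2, 1, 3, 4, 5, 6, 7]), (6, .inr 5), (7, .inr 6)]),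
   ([5, 4, 3, 2, 1, 3, 4, 5, 6, 7], [(0, .inl [5, 4, 3, 0, 2, 1, 3, 4, 5, 6, 7]), (1, .inr 2), (2, .inr 1), (3, .inr 3), (4, .inr 4), (5, .inl [4, 3, 2, 1, 3, 4, 5, 6, 7]), (6, .inl [6, 5, 4, 3, 2, 1, 3, 4, 5, 6, 7]), (7, .inr 6)]),
   ([4, 2, 3, 0, 2, 1, 3, 4, 5, 6, 7], [(0, .inr 1), (1, .inr 2), (2, .inl [4, 3, 0, 2, 1, 3, 4, 5, 6, 7]), (3, .inl [3, 4, 2, 3, 0, 2, 1, 3, 4, 5, 6, 7]), (4, .inl [2, 3, 0, 2, 1, 3, 4, 5, 6, 7]), (5, .inl [5, 4, 2, 3, 0, 2, 1, 3, 4, 5, 6, 7]), (6, .inr 5), (7, .inr 6)]),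
   ([5, 4, 3, 0, 2, 1, 3, 4, 5, 6, 7], [(0, .inl [5, 4, 3, 2, 1, 3, 4, 5, 6, 7]), (1, .inr 2), (2, .inl [5, 4, 2, 3, 0, 2, 1, 3, 4, 5, 6, 7]), (3, .inr 3), (4, .inr 4), (5, .inl [4, 3, 0, 2, 1, 3, 4, 5, 6, 7]), (6, .inl [6, 5, 4, 3, 0, 2, 1, 3, 4, 5, 6, 7]), (7, .inr 6)]),
   ([6, 5, 4, 3, 2, 1, 3, 4, 5, 6, 7], [(0, .inl [6, 5, 4, 3, 0, 2, 1, 3, 4, 5, 6, 7]), (1, .inr 2), (2, .inr 1), (3, .inr 3), (4, .inr 4), (5, .inr 5), (6, .inl [5, 4, 3, 2, 1, 3, 4, 5, 6, 7]), (7, .inl [7, 6, 5, 4, 3, 2, 1, 3, 4, 5, 6, 7])]),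
   ([3, 4, 2, 3, 0, 2, 1, 3, 4, 5, 6, 7], [(0, .inr 1), (1, .inl [1, 3, 4, 2, 3, 0, 2, 1, 3, 4, 5, 6, 7]), (2, .inr 3), (3, .inl [4, 2, 3, 0, 2, 1, 3, 4, 5, 6, 7]), (4, .inr 0), (5, .inl [5, 3, 4, 2, 3, 0, 2, 1, 3, 4, 5, 6, 7]), (6, .inr 5), (7, .inr 6)]),
   ([5, 4, 2, 3, 0, 2, 1, 3, 4, 5, 6, 7], [(0, .inr 1), (1, .inr 2), (2, .inl [5, 4, 3, 0, 2, 1, 3, 4, 5, 6, 7]), (3, .inl [5, 3, 4, 2, 3, 0, 2, 1, 3, 4, 5, 6, 7]), (4, .inr 4), (5, .inl [4, 2, 3, 0, 2, 1, 3, 4, 5, 6, 7]), (6, .inl [6, 5, 4, 2, 3, 0, 2, 1, 3, 4, 5, 6, 7]), (7, .inr 6)]),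
   ([6, 5, 4, 3, 0, 2, 1, 3, 4, 5, 6, 7], [(0, .inl [6, 5, 4, 3, 2, 1, 3, 4, 5, 6, 7]), (1, .inr 2), (2, .inl [6, 5, 4, 2, 3, 0, 2, 1, 3, 4, 5, 6, 7]), (3, .inr 3), (4, .inr 4), (5, .inr 5), (6, .inl [5, 4, 3, 0, 2, 1, 3, 4, 5, 6, 7]), (7, .inl [7, 6, 5, 4, 3, 0, 2, 1, 3, 4, 5, 6, 7])]),
   ([7, 6, 5, 4, 3, 2, 1, 3, 4, 5, 6, 7], [(0, .inl [7, 6, 5, 4, 3, 0, 2, 1, 3, 4, 5, 6, 7]), (1, .inr 2), (2, .inr 1), (3, .inr 3), (4, .inr 4), (5, .inr 5), (6, .inr 6), (7, .inl [6, 5, 4, 3, 2, 1, 3, 4, 5, 6, 7])]),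
   ([1, 3, 4, 2, 3, 0, 2, 1, 3, 4, 5, 6, 7], [(0, .inr 1), (1, .inl [3, 4, 2, 3, 0, 2, 1, 3, 4, 5, 6, 7]), (2, .inr 3), (3, .inr 2), (4, .inr 0), (5, .inl [5, 1, 3, 4, 2, 3, 0, 2, 1, 3, 4, 5, 6, 7]), (6, .inr 5), (7, .inr 6)]),
   ([5, 3, 4, 2, 3, 0, 2, 1, 3, 4, 5, 6, 7], [(0, .inr 1), (1, .inl [5, 1, 3, 4, 2, 3, 0, 2, 1, 3, 4, 5, 6, 7]), (2, .inr 3), (3, .inl [5, 4, 2, 3, 0, 2, 1, 3, 4, 5, 6, 7]), (4, .inl [4, 5, 3, 4, 2, 3, 0, 2, 1, 3, 4, 5, 6, 7]), (5, .inl [3, 4, 2, 3, 0, 2, 1, 3, 4, 5, 6, 7]), (6, .inl [6, 5, 3, 4, 2, 3, 0, 2, 1, 3, 4, 5, 6, 7]), (7, .inr 6)]),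
   ([6, 5, 4, 2, 3, 0, 2, 1, 3, 4, 5, 6, 7], [(0, .inr 1), (1, .inr 2), (2, .inl [6, 5, 4, 3, 0, 2, 1, 3, 4, 5, 6, 7]), (3, .inl [6, 5, 3, 4, 2, 3, 0, 2, 1, 3, 4, 5, 6, 7]), (4, .inr 4), (5, .inr 5), (6, .inl [5, 4, 2, 3, 0, 2, 1, 3, 4, 5, 6, 7]), (7, .inl [7, 6, 5, 4, 2, 3, 0, 2, 1, 3, 4, 5, 6, 7])]),
   ([7, 6, 5, 4, 3, 0, 2, 1, 3, 4, 5, 6, 7], [(0, .inl [7, 6, 5, 4, 3, 2, 1, 3, 4, 5, 6, 7]), (1, .inr 2), (2, .inl [7, 6, 5, 4, 2, 3, 0, 2, 1, 3, 4, 5, 6, 7]), (3, .inr 3), (4, .inr 4), (5, .inr 5), (6, .inr 6), (7, .inl [6, 5, 4, 3, 0, 2, 1, 3, 4, 5, 6, 7])]),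
   ([5, 1, 3, 4, 2, 3, 0, 2, 1, 3, 4, 5, 6, 7], [(0, .inr 1), (1, .inl [5, 3, 4, 2, 3, 0, 2, 1, 3, 4, 5, 6, 7]), (2, .inr 3), (3, .inr 2), (4, .inl [4, 5, 1, 3, 4, 2, 3, 0, 2, 1, 3, 4, 5, 6, 7]), (5, .inl [1, 3, 4, 2, 3, 0, 2, 1, 3, 4, 5, 6, 7]), (6, .inl [6, 5, 1, 3, 4, 2, 3, 0, 2, 1, 3, 4, 5, 6, 7]), (7, .inr 6)]),
   ([4, 5, 3, 4, 2, 3, 0, 2, 1, 3, 4, 5, 6, 7], [(0, .inr 1), (1, .inl [4, 5, 1, 3, 4, 2, 3, 0, 2, 1, 3, 4, 5, 6, 7]), (2, .inr 3), (3, .inr 4), (4, .inl [5, 3, 4, 2, 3, 0, 2, 1, 3, 4, 5, 6, 7]), (5, .inr 0), (6, .inl [6, 4, 5, 3, 4, 2, 3, 0, 2, 1, 3, 4, 5, 6, 7]), (7, .inr 6)]),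
   ([6, 5, 3, 4, 2, 3, 0, 2, 1, 3, 4, 5, 6, 7], [(0, .inr 1), (1, .inl [6, 5, 1, 3, 4, 2, 3, 0, 2, 1, 3, 4, 5, 6, 7]), (2, .inr 3), (3, .inl [6, 5, 4, 2, 3, 0, 2, 1, 3, 4, 5, 6, 7]), (4, .inl [6, 4, 5, 3, 4, 2, 3, 0, 2, 1, 3, 4, 5, 6, 7]), (5, .inr 5), (6, .inl [5, 3, 4, 2, 3, 0, 2, 1, 3, 4, 5, 6, 7]), (7, .inl [7, 6, 5, 3, 4, 2, 3, 0, 2, 1, 3, 4, 5, 6, 7])]),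
   ([7, 6, 5, 4, 2, 3, 0, 2, 1, 3, 4, 5, 6, 7], [(0, .inr 1), (1, .inr 2), (2, .inl [7, 6, 5, 4, 3, 0, 2, 1, 3, 4, 5, 6, 7]), (3, .inl [7, 6, 5, 3, 4, 2, 3, 0, 2, 1, 3, 4, 5, 6, 7]), (4, .inr 4), (5, .inr 5), (6, .inr 6), (7, .inl [6, 5, 4, 2, 3, 0, 2, 1, 3, 4, 5, 6, 7])]),
   ([4, 5, 1, 3, 4, 2, 3, 0, 2, 1, 3, 4, 5, 6, 7], [(0, .inr 1), (1, .inl [4, 5, 3, 4, 2, 3, 0, 2, 1, 3, 4, 5, 6, 7]), (2, .inr 3), (3, .inl [3, 4, 5, 1, 3, 4, 2, 3, 0, 2, 1, 3, 4, 5, 6, 7]), (4, .inl [5, 1, 3, 4, 2, 3, 0, 2, 1, 3, 4, 5, 6, 7]), (5, .inr 0), (6, .inl [6, 4, 5, 1, 3, 4, 2, 3, 0, 2, 1, 3, 4, 5, 6, 7]), (7, .inr 6)]),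
   ([6, 5, 1, 3, 4, 2, 3, 0, 2, 1, 3, 4, 5, 6, 7], [(0, .inr 1), (1, .inl [6, 5, 3, 4, 2, 3, 0, 2, 1, 3, 4, 5, 6, 7]), (2, .inr 3), (3, .inr 2), (4, .inl [6, 4, 5, 1, 3, 4, 2, 3, 0, 2, 1, 3, 4, 5, 6, 7]), (5, .inr 5), (6, .inl [5, 1, 3, 4, 2, 3, 0, 2, 1, 3, 4, 5, 6, 7]), (7, .inl [7, 6, 5, 1, 3, 4, 2, 3, 0, 2, 1, 3, 4, 5, 6, 7])]),
   ([6, 4, 5, 3, 4, 2, 3, 0, 2, 1, 3, 4, 5, 6, 7], [(0, .inr 1), (1, .inl [6, 4, 5, 1, 3, 4, 2, 3, 0, 2, 1, 3, 4, 5, 6, 7]), (2, .inr 3), (3, .inr 4), (4, .inl [6, 5, 3, 4, 2, 3, 0, 2, 1, 3, 4, 5, 6, 7]), (5, .inl [5, 6, 4, 5, 3, 4, 2, 3, 0, 2, 1, 3, 4, 5, 6, 7]), (6, .inl [4, 5, 3, 4, 2, 3, 0, 2, 1, 3, 4, 5, 6, 7]), (7, .inl [7, 6, 4, 5, 3, 4, 2,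 3, 0, 2, 1, 3, 4, 5, 6, 7])]),
   ([7, 6, 5, 3, 4, 2, 3, 0, 2, 1, 3, 4, 5, 6, 7], [(0, .inr 1), (1, .inl [7, 6, 5, 1, 3, 4, 2, 3, 0, 2, 1, 3, 4, 5, 6, 7]), (2, .inr 3), (3, .inl [7, 6, 5, 4, 2, 3, 0, 2, 1, 3, 4, 5, 6, 7]), (4, .inl [7, 6, 4, 5, 3, 4, 2, 3, 0, 2, 1, 3, 4, 5, 6, 7]), (5, .inr 5), (6, .inr 6), (7, .inl [6, 5, 3, 4, 2, 3, 0, 2, 1, 3, 4, 5, 6, 7])]),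
   ([3, 4, 5, 1, 3, 4, 2, 3, 0, 2, 1, 3, 4, 5, 6, 7], [(0, .inr 1), (1, .inr 4), (2, .inl [2, 3, 4, 5, 1, 3, 4, 2, 3, 0, 2, 1, 3, 4, 5, 6, 7]), (3, .inl [4, 5, 1, 3, 4, 2, 3, 0, 2, 1, 3, 4, 5, 6, 7]), (4, .inr 2), (5, .inr 0), (6, .inl [6, 3, 4, 5, 1, 3, 4, 2, 3, 0, 2, 1, 3, 4, 5, 6, 7]), (7, .inr 6)]),
   ([6, 4, 5, 1, 3, 4, 2, 3, 0, 2, 1, 3, 4, 5, 6, 7], [(0, .inr 1), (1, .inl [6, 4, 5, 3, 4, 2, 3, 0, 2, 1, 3, 4, 5, 6, 7]), (2, .inr 3), (3, .inl [6, 3, 4, 5, 1, 3, 4, 2, 3, 0, 2, 1, 3, 4, 5, 6, 7]), (4, .inl [6, 5, 1, 3, 4, 2, 3, 0, 2, 1, 3, 4, 5, 6, 7]), (5, .inl [5, 6, 4, 5, 1, 3, 4, 2, 3, 0, 2, 1, 3, 4, 5, 6, 7]), (6, .inl [4, 5, 1, 3, 4, 2, 3, 0, 2, 1, 3, 4, 5, 6, 7]),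 (7, .inl [7, 6, 4, 5, 1, 3, 4, 2, 3, 0, 2, 1, 3, 4, 5, 6, 7])]),
   ([7, 6, 5, 1, 3, 4, 2, 3, 0, 2, 1, 3, 4, 5, 6, 7], [(0, .inr 1), (1, .inl [7, 6, 5, 3, 4, 2, 3, 0, 2, 1, 3, 4, 5, 6, 7]), (2, .inr 3), (3, .inr 2), (4, .inl [7, 6, 4, 5, 1, 3, 4, 2, 3, 0, 2, 1, 3, 4, 5, 6, 7]), (5, .inr 5), (6, .inr 6), (7, .inl [6, 5, 1, 3, 4, 2, 3, 0, 2, 1, 3, 4, 5, 6, 7])]),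
   ([5, 6, 4, 5, 3, 4, 2, 3, 0, 2, 1, 3, 4, 5, 6, 7], [(0, .inr 1), (1, .inl [5, 6, 4, 5, 1, 3, 4, 2, 3, 0, 2, 1, 3, 4, 5, 6, 7]), (2, .inr 3), (3, .inr 4), (4, .inr 5), (5, .inl [6, 4, 5, 3, 4, 2, 3, 0, 2, 1, 3, 4, 5, 6, 7]), (6, .inr 0), (7, .inl [7, 5, 6, 4, 5, 3, 4, 2, 3, 0, 2, 1, 3, 4, 5, 6, 7])]),
   ([7, 6, 4, 5, 3, 4, 2, 3, 0, 2, 1, 3, 4, 5, 6, 7], [(0, .inr 1), (1, .inl [7, 6, 4, 5, 1, 3, 4, 2, 3, 0, 2, 1, 3, 4, 5, 6, 7]), (2, .inr 3), (3, .inr 4), (4, .inl [7, 6, 5, 3, 4, 2, 3, 0, 2, 1, 3, 4, 5, 6, 7]), (5, .inl [7, 5, 6, 4, 5, 3, 4, 2, 3, 0, 2, 1, 3, 4, 5, 6, 7]), (6, .inr 6), (7, .inl [6, 4, 5, 3, 4, 2, 3, 0, 2, 1, 3, 4, 5, 6, 7])]),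
   ([2, 3, 4, 5, 1, 3, 4, 2, 3, 0, 2, 1, 3, 4, 5, 6, 7], [(0, .inl [0, 2, 3, 4, 5, 1, 3, 4, 2, 3, 0, 2, 1, 3, 4, 5, 6, 7]), (1, .inr 4), (2, .inl [3, 4, 5, 1, 3, 4, 2, 3, 0, 2, 1, 3, 4, 5, 6, 7]), (3, .inr 3), (4, .inr 2), (5, .inr 0), (6, .inl [6, 2, 3, 4, 5, 1, 3, 4, 2, 3, 0, 2, 1, 3, 4, 5, 6, 7]), (7, .inr 6)]),
   ([6, 3, 4, 5, 1, 3, 4, 2, 3, 0, 2, 1, 3, 4, 5, 6, 7], [(0, .inr 1), (1, .inr 4), (2, .inl [6, 2, 3, 4, 5, 1, 3, 4, 2, 3, 0, 2, 1, 3, 4, 5, 6, 7]), (3, .inl [6, 4, 5, 1, 3, 4, 2, 3, 0, 2, 1, 3, 4, 5, 6, 7]), (4, .inr 2), (5, .inl [5, 6, 3, 4, 5, 1, 3, 4, 2, 3, 0, 2, 1, 3, 4, 5, 6, 7]), (6, .inl [3, 4, 5, 1, 3, 4, 2, 3, 0, 2, 1, 3, 4, 5, 6, 7]), (7, .inl [7, 6, 3,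 4, 5, 1, 3, 4, 2, 3, 0, 2, 1, 3, 4, 5, 6, 7])]),
   ([5, 6, 4, 5, 1, 3, 4, 2, 3, 0, 2, 1, 3, 4, 5, 6, 7], [(0, .inr 1), (1, .inl [5, 6, 4, 5, 3, 4, 2, 3, 0, 2, 1, 3, 4, 5, 6, 7]), (2, .inr 3), (3, .inl [5, 6, 3, 4, 5, 1, 3, 4, 2, 3, 0, 2, 1, 3, 4, 5, 6, 7]), (4, .inr 5), (5, .inl [6, 4, 5, 1, 3, 4, 2, 3, 0, 2, 1, 3, 4, 5, 6, 7]), (6, .inr 0), (7, .inl [7, 5, 6, 4, 5, 1, 3, 4, 2, 3, 0, 2, 1, 3, 4, 5, 6, 7])]),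
   ([7, 6, 4, 5, 1, 3, 4, 2, 3, 0, 2, 1, 3, 4, 5, 6, 7], [(0, .inr 1), (1, .inl [7, 6, 4, 5, 3, 4, 2, 3, 0, 2, 1, 3, 4, 5, 6, 7]), (2, .inr 3), (3, .inl [7, 6, 3, 4, 5, 1, 3, 4, 2, 3, 0, 2, 1, 3, 4, 5, 6, 7]), (4, .inl [7, 6, 5, 1, 3, 4, 2, 3, 0, 2, 1, 3, 4, 5, 6, 7]), (5, .inl [7, 5, 6, 4, 5, 1, 3, 4, 2, 3, 0, 2, 1, 3, 4, 5, 6, 7]), (6, .inr 6), (7, .inl [6, 4, 5, 1, 3, 4, 2, 3, 0, 2, 1, 3, 4, 5, 6, 7])]),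
   ([7, 5, 6, 4, 5, 3, 4, 2, 3, 0, 2, 1, 3, 4, 5, 6, 7], [(0, .inr 1), (1, .inl [7, 5, 6, 4, 5, 1, 3, 4, 2, 3, 0, 2, 1, 3, 4, 5, 6, 7]), (2, .inr 3), (3, .inr 4), (4, .inr 5), (5, .inl [7, 6, 4, 5, 3, 4, 2, 3, 0, 2, 1, 3, 4, 5, 6, 7]), (6, .inl [6, 7, 5, 6, 4, 5, 3, 4, 2, 3, 0, 2, 1, 3, 4, 5, 6, 7]), (7, .inl [5, 6, 4, 5, 3, 4, 2, 3, 0, 2, 1, 3, 4, 5, 6, 7])]),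
   ([0, 2, 3, 4, 5, 1, 3, 4, 2, 3, 0, 2, 1, 3, 4, 5, 6, 7], [(0, .inl [2, 3, 4, 5, 1, 3, 4, 2, 3, 0, 2, 1, 3, 4, 5, 6, 7]), (1, .inr 4), (2, .inr 1), (3, .inr 3), (4, .inr 2), (5, .inr 0), (6, .inl [6, 0, 2, 3, 4, 5, 1, 3, 4, 2, 3, 0, 2, 1, 3, 4, 5, 6, 7]), (7, .inr 6)]),
   ([6, 2, 3, 4, 5, 1, 3, 4, 2, 3, 0, 2, 1, 3, 4, 5, 6, 7], [(0, .inl [6, 0, 2, 3, 4, 5, 1, 3, 4, 2, 3, 0, 2, 1, 3, 4, 5, 6, 7]), (1, .inr 4), (2, .inl [6, 3, 4, 5, 1, 3, 4, 2, 3, 0, 2, 1, 3, 4, 5, 6, 7]), (3, .inr 3), (4, .inr 2), (5, .inl [5, 6, 2, 3, 4, 5, 1, 3, 4, 2, 3, 0, 2, 1, 3, 4, 5, 6, 7]), (6, .inl [2, 3, 4, 5, 1, 3, 4, 2, 3, 0, 2, 1, 3, 4, 5, 6, 7]), (7, .inl [7, 6, 2, 3, 4, 5, 1, 3, 4, 2, 3, 0,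 2, 1, 3, 4, 5, 6, 7])]),
   ([5, 6, 3, 4, 5, 1, 3, 4, 2, 3, 0, 2, 1, 3, 4, 5, 6, 7], [(0, .inr 1), (1, .inr 4), (2, .inl [5, 6, 2, 3, 4, 5, 1, 3, 4, 2, 3, 0, 2, 1, 3, 4, 5, 6, 7]), (3, .inl [5, 6, 4, 5, 1, 3, 4, 2, 3, 0, 2, 1, 3, 4, 5, 6, 7]), (4, .inl [4, 5, 6, 3, 4, 5, 1, 3, 4, 2, 3, 0, 2, 1, 3, 4, 5, 6, 7]), (5, .inl [6, 3, 4, 5, 1, 3, 4, 2, 3, 0, 2, 1, 3, 4, 5, 6, 7]), (6, .inr 0), (7, .inl [7, 5, 6, 3, 4, 5, 1, 3, 4, 2, 3, 0, 2, 1, 3, 4, 5, 6, 7])]),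
   ([7, 6, 3, 4, 5, 1, 3, 4, 2, 3, 0, 2, 1, 3, 4, 5, 6, 7], [(0, .inr 1), (1, .inr 4), (2, .inl [7, 6, 2, 3, 4, 5, 1, 3, 4, 2, 3, 0, 2, 1, 3, 4, 5, 6, 7]), (3, .inl [7, 6, 4, 5, 1, 3, 4, 2, 3, 0, 2, 1, 3, 4, 5, 6, 7]), (4, .inr 2), (5, .inl [7, 5, 6, 3, 4, 5, 1, 3, 4, 2, 3, 0, 2, 1, 3, 4, 5, 6, 7]), (6, .inr 6), (7, .inl [6, 3, 4, 5, 1, 3, 4, 2, 3, 0, 2, 1, 3, 4, 5, 6, 7])]),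
   ([7, 5, 6, 4, 5, 1, 3, 4, 2, 3, 0, 2, 1, 3, 4, 5, 6, 7], [(0, .inr 1), (1, .inl [7, 5, 6, 4, 5, 3, 4, 2, 3, 0, 2, 1, 3, 4, 5, 6, 7]), (2, .inr 3), (3, .inl [7, 5, 6, 3, 4, 5, 1, 3, 4, 2, 3, 0, 2, 1, 3, 4, 5, 6, 7]), (4, .inr 5), (5, .inl [7, 6, 4, 5, 1, 3, 4, 2, 3, 0, 2, 1, 3, 4, 5, 6, 7]), (6, .inl [6, 7, 5, 6, 4, 5, 1, 3, 4, 2, 3, 0, 2, 1, 3, 4, 5, 6, 7]), (7, .inl [5, 6, 4, 5, 1, 3, 4, 2, 3, 0, 2, 1, 3, 4, 5, 6, 7])]),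
   ([6, 7, 5, 6, 4, 5, 3, 4, 2, 3, 0, 2, 1, 3, 4, 5, 6, 7], [(0, .inr 1), (1, .inl [6, 7, 5, 6, 4, 5, 1, 3, 4, 2, 3, 0, 2, 1, 3, 4, 5, 6, 7]), (2, .inr 3), (3, .inr 4), (4, .inr 5), (5, .inr 6), (6, .inl [7, 5, 6, 4, 5, 3, 4, 2, 3, 0, 2, 1, 3, 4, 5, 6, 7]), (7, .inr 0)]),
   ([6, 0, 2, 3, 4, 5, 1, 3, 4, 2, 3, 0, 2, 1, 3, 4, 5, 6, 7], [(0, .inl [6, 2, 3, 4, 5, 1, 3, 4, 2, 3, 0, 2, 1, 3, 4, 5, 6, 7]), (1, .inr 4), (2, .inr 1), (3, .inr 3), (4, .inr 2), (5, .inl [5, 6, 0, 2, 3, 4, 5, 1, 3, 4, 2, 3, 0, 2, 1, 3, 4, 5, 6, 7]), (6, .inl [0, 2, 3, 4, 5, 1, 3, 4, 2, 3, 0, 2, 1, 3, 4, 5, 6, 7]), (7, .inl [7, 6, 0, 2, 3, 4, 5, 1, 3, 4, 2, 3, 0, 2, 1, 3, 4, 5, 6, 7])]),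
   ([5, 6, 2, 3, 4, 5, 1, 3, 4, 2, 3, 0, 2, 1, 3, 4, 5, 6, 7], [(0, .inl [5, 6, 0, 2, 3, 4, 5, 1, 3, 4, 2, 3, 0, 2, 1, 3, 4, 5, 6, 7]), (1, .inr 4), (2, .inl [5, 6, 3, 4, 5, 1, 3, 4, 2, 3, 0, 2, 1, 3, 4, 5, 6, 7]), (3, .inr 3), (4, .inl [4, 5, 6, 2, 3, 4, 5, 1, 3, 4, 2, 3, 0, 2, 1, 3, 4, 5, 6, 7]), (5, .inl [6, 2, 3, 4, 5, 1, 3, 4, 2, 3, 0, 2, 1, 3, 4, 5, 6, 7]), (6, .inr 0), (7, .inl [7, 5, 6, 2, 3, 4, 5, 1, 3, 4, 2, 3, 0, 2, 1, 3, 4, 5, 6, 7])]),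
   ([7, 6, 2, 3, 4, 5, 1, 3, 4, 2, 3, 0, 2, 1, 3, 4, 5, 6, 7], [(0, .inl [7, 6, 0, 2, 3, 4, 5, 1, 3, 4, 2, 3, 0, 2, 1, 3, 4, 5, 6, 7]), (1, .inr 4), (2, .inl [7, 6, 3, 4, 5, 1, 3, 4, 2, 3, 0, 2, 1, 3, 4, 5, 6, 7]), (3, .inr 3), (4, .inr 2), (5, .inl [7, 5, 6, 2, 3, 4, 5, 1, 3, 4, 2, 3, 0, 2, 1, 3, 4, 5, 6, 7]), (6, .inr 6), (7, .inl [6, 2, 3, 4, 5, 1, 3, 4, 2, 3, 0, 2, 1, 3, 4, 5, 6, 7])]),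
   ([4, 5, 6, 3, 4, 5, 1, 3, 4, 2, 3, 0, 2, 1, 3, 4, 5, 6, 7], [(0, .inr 1), (1, .inr 4), (2, .inl [4, 5, 6, 2, 3, 4, 5, 1, 3, 4, 2, 3, 0, 2, 1, 3, 4, 5, 6, 7]), (3, .inr 5), (4, .inl [5, 6, 3, 4, 5, 1, 3, 4, 2, 3, 0, 2, 1, 3, 4, 5, 6, 7]), (5, .inr 2), (6, .inr 0), (7, .inl [7, 4, 5, 6, 3, 4, 5, 1, 3, 4, 2, 3, 0, 2, 1, 3, 4, 5, 6, 7])]),
   ([7, 5, 6, 3, 4, 5, 1, 3, 4, 2, 3, 0, 2, 1, 3, 4, 5, 6, 7], [(0, .inr 1), (1, .inr 4), (2, .inl [7, 5, 6, 2, 3, 4, 5, 1, 3, 4, 2, 3, 0, 2, 1, 3, 4, 5, 6, 7]), (3, .inl [7, 5, 6, 4, 5, 1, 3, 4, 2, 3, 0, 2, 1, 3, 4, 5, 6, 7]), (4, .inl [7, 4, 5, 6, 3, 4, 5, 1, 3, 4, 2, 3, 0, 2, 1, 3, 4, 5, 6, 7]), (5, .inl [7, 6, 3, 4, 5, 1, 3, 4, 2, 3, 0,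 2, 1, 3, 4, 5, 6, 7]), (6, .inl [6, 7, 5, 6, 3, 4, 5, 1, 3, 4, 2, 3, 0, 2, 1, 3, 4, 5, 6, 7]), (7, .inl [5, 6, 3, 4, 5, 1, 3, 4, 2, 3, 0, 2, 1, 3, 4, 5, 6, 7])]),
   ([6, 7, 5, 6, 4, 5, 1, 3, 4, 2, 3, 0, 2, 1, 3, 4, 5, 6, 7], [(0, .inr 1), (1, .inl [6, 7, 5, 6, 4, 5, 3, 4, 2, 3, 0, 2, 1, 3, 4, 5, 6, 7]), (2, .inr 3), (3, .inl [6, 7, 5, 6, 3, 4, 5, 1, 3, 4, 2, 3, 0, 2, 1, 3, 4, 5, 6, 7]), (4, .inr 5), (5, .inr 6), (6, .inl [7, 5, 6, 4, 5, 1, 3, 4, 2, 3, 0, 2, 1, 3, 4, 5, 6, 7]), (7, .inr 0)]),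
   ([5, 6, 0, 2, 3, 4, 5, 1, 3, 4, 2, 3, 0, 2, 1, 3, 4, 5, 6, 7], [(0, .inl [5, 6, 2, 3, 4, 5, 1, 3, 4, 2, 3, 0, 2, 1, 3, 4, 5, 6, 7]), (1, .inr 4), (2, .inr 1), (3, .inr 3), (4, .inl [4, 5, 6, 0, 2, 3, 4, 5, 1, 3, 4, 2, 3, 0, 2, 1, 3, 4, 5, 6, 7]), (5, .inl [6, 0, 2, 3, 4, 5, 1, 3, 4, 2, 3, 0, 2, 1, 3, 4, 5, 6, 7]), (6, .inr 0), (7, .inl [7, 5, 6, 0, 2, 3, 4, 5, 1, 3, 4, 2, 3, 0, 2, 1, 3, 4, 5, 6, 7])]),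
   ([7, 6, 0, 2, 3, 4, 5, 1, 3, 4, 2, 3, 0, 2, 1, 3, 4, 5, 6, 7], [(0, .inl [7, 6, 2, 3, 4, 5, 1, 3, 4, 2, 3, 0, 2, 1, 3, 4, 5, 6, 7]), (1, .inr 4), (2, .inr 1), (3, .inr 3), (4, .inr 2), (5, .inl [7, 5, 6, 0, 2, 3, 4, 5, 1, 3, 4, 2, 3, 0, 2, 1, 3, 4, 5, 6, 7]), (6, .inr 6), (7, .inl [6, 0, 2, 3, 4, 5, 1, 3, 4, 2, 3, 0, 2, 1, 3, 4, 5, 6, 7])]),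
   ([4, 5, 6, 2, 3, 4, 5, 1, 3, 4, 2, 3, 0, 2, 1, 3, 4, 5, 6, 7], [(0, .inl [4, 5, 6, 0, 2, 3, 4, 5, 1, 3, 4, 2, 3, 0, 2, 1, 3, 4, 5, 6, 7]), (1, .inr 4), (2, .inl [4, 5, 6, 3, 4, 5, 1, 3, 4, 2, 3, 0, 2, 1, 3, 4, 5, 6, 7]), (3, .inl [3, 4, 5, 6, 2, 3, 4, 5, 1, 3, 4, 2, 3, 0, 2, 1, 3, 4, 5, 6, 7]), (4, .inl [5, 6, 2, 3, 4, 5, 1, 3, 4, 2, 3, 0, 2, 1, 3, 4, 5, 6, 7]), (5, .inr 2), (6, .inr 0), (7, .inl [7, 4, 5, 6, 2, 3, 4, 5, 1, 3, 4, 2, 3, 0, 2, 1, 3, 4, 5, 6, 7])]),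
   ([7, 5, 6, 2, 3, 4, 5, 1, 3, 4, 2, 3, 0, 2, 1, 3, 4, 5, 6, 7], [(0, .inl [7, 5, 6, 0, 2, 3, 4, 5, 1, 3, 4, 2, 3, 0, 2, 1, 3, 4, 5, 6, 7]), (1, .inr 4), (2, .inl [7, 5, 6, 3, 4, 5, 1, 3, 4, 2, 3, 0, 2, 1, 3, 4, 5, 6, 7]), (3, .inr 3), (4, .inl [7, 4, 5, 6, 2, 3, 4, 5, 1, 3, 4, 2, 3, 0, 2, 1, 3, 4, 5, 6, 7]), (5, .inl [7, 6, 2, 3, 4, 5, 1, 3, 4, 2, 3, 0, 2, 1, 3, 4, 5, 6, 7]), (6, .inl [6, 7, 5, 6, 2, 3, 4, 5, 1, 3, 4, 2, 3, 0, 2, 1, 3, 4, 5, 6, 7]), (7, .inl [5, 6, 2, 3, 4, 5, 1, 3, 4, 2, 3, 0, 2, 1, 3, 4, 5, 6, 7])]),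
   ([7, 4, 5, 6, 3, 4, 5, 1, 3, 4, 2, 3, 0, 2, 1, 3, 4, 5, 6, 7], [(0, .inr 1), (1, .inr 4), (2, .inl [7, 4, 5, 6, 2, 3, 4, 5, 1, 3, 4, 2, 3, 0, 2, 1, 3, 4, 5, 6, 7]), (3, .inr 5), (4, .inl [7, 5, 6, 3, 4, 5, 1, 3, 4, 2, 3, 0, 2, 1, 3, 4, 5, 6, 7]), (5, .inr 2), (6, .inl [6, 7, 4, 5, 6, 3, 4, 5, 1, 3, 4, 2, 3, 0, 2, 1, 3, 4, 5, 6, 7]), (7, .inl [4, 5, 6, 3, 4, 5, 1, 3, 4, 2, 3, 0, 2, 1, 3, 4, 5, 6, 7])]),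
   ([6, 7, 5, 6, 3, 4, 5, 1, 3, 4, 2, 3, 0, 2, 1, 3, 4, 5, 6, 7], [(0, .inr 1), (1, .inr 4), (2, .inl [6, 7, 5, 6, 2, 3, 4, 5, 1, 3, 4, 2, 3, 0, 2, 1, 3, 4, 5, 6, 7]), (3, .inl [6, 7, 5, 6, 4, 5, 1, 3, 4, 2, 3, 0, 2, 1, 3, 4, 5, 6, 7]), (4, .inl [6, 7, 4, 5, 6, 3, 4, 5, 1, 3, 4, 2, 3, 0, 2, 1, 3, 4, 5, 6, 7]), (5, .inr 6), (6, .inl [7, 5, 6, 3, 4, 5, 1, 3, 4, 2, 3, 0, 2, 1, 3, 4, 5, 6, 7]), (7, .inr 0)]),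
   ([4, 5, 6, 0, 2, 3, 4, 5, 1, 3, 4, 2, 3, 0, 2, 1, 3, 4, 5, 6, 7], [(0, .inl [4, 5, 6, 2, 3, 4, 5, 1, 3, 4, 2, 3, 0, 2, 1, 3, 4, 5, 6, 7]), (1, .inr 4), (2, .inr 1), (3, .inl [3, 4, 5, 6, 0, 2, 3, 4, 5, 1, 3, 4, 2, 3, 0, 2, 1, 3, 4, 5, 6, 7]), (4, .inl [5, 6, 0, 2, 3, 4, 5, 1, 3, 4, 2, 3, 0, 2, 1, 3, 4, 5, 6, 7]), (5, .inr 2), (6, .inr 0), (7, .inl [7, 4, 5, 6, 0, 2, 3, 4, 5, 1, 3, 4, 2, 3, 0, 2, 1, 3, 4, 5, 6, 7])]),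
   ([7, 5, 6, 0, 2, 3, 4, 5, 1, 3, 4, 2, 3, 0, 2, 1, 3, 4, 5, 6, 7], [(0, .inl [7, 5, 6, 2, 3, 4, 5, 1, 3, 4, 2, 3, 0, 2, 1, 3, 4, 5, 6, 7]), (1, .inr 4), (2, .inr 1), (3, .inr 3), (4, .inl [7, 4, 5, 6, 0, 2, 3, 4, 5, 1, 3, 4, 2, 3, 0, 2, 1, 3, 4, 5, 6, 7]), (5, .inl [7, 6, 0, 2, 3, 4, 5, 1, 3, 4, 2, 3, 0, 2, 1, 3, 4, 5, 6, 7]), (6, .inl [6, 7, 5, 6, 0, 2, 3, 4, 5, 1, 3, 4, 2, 3, 0, 2, 1, 3, 4, 5, 6, 7]), (7, .inl [5, 6, 0, 2, 3, 4, 5, 1, 3, 4, 2, 3, 0, 2, 1, 3, 4, 5, 6, 7])]),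
   ([3, 4, 5, 6, 2, 3, 4, 5, 1, 3, 4, 2, 3, 0, 2, 1, 3, 4, 5, 6, 7], [(0, .inl [3, 4, 5, 6, 0, 2, 3, 4, 5, 1, 3, 4, 2, 3, 0, 2, 1, 3, 4, 5, 6, 7]), (1, .inl [1, 3, 4, 5, 6, 2, 3, 4, 5, 1, 3, 4, 2, 3, 0, 2, 1, 3, 4, 5, 6, 7]), (2, .inr 5), (3, .inl [4, 5, 6, 2, 3, 4, 5, 1, 3, 4, 2, 3, 0, 2, 1, 3, 4, 5, 6, 7]), (4, .inr 3), (5, .inr 2), (6, .inr 0), (7, .inl [7, 3, 4, 5, 6, 2, 3, 4, 5, 1, 3, 4, 2, 3, 0, 2, 1, 3, 4, 5, 6, 7])]),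
   ([7, 4, 5, 6, 2, 3, 4, 5, 1, 3, 4, 2, 3, 0, 2, 1, 3, 4, 5, 6, 7], [(0, .inl [7, 4, 5, 6, 0, 2, 3, 4, 5, 1, 3, 4, 2, 3, 0, 2, 1, 3, 4, 5, 6, 7]), (1, .inr 4), (2, .inl [7, 4, 5, 6, 3, 4, 5, 1, 3, 4, 2, 3, 0, 2, 1, 3, 4, 5, 6, 7]), (3, .inl [7, 3, 4, 5, 6, 2, 3, 4, 5, 1, 3, 4, 2, 3, 0, 2, 1, 3, 4, 5, 6, 7]), (4, .inl [7, 5, 6, 2, 3, 4, 5, 1, 3, 4, 2, 3, 0, 2, 1, 3, 4, 5, 6, 7]), (5, .inr 2), (6, .inl [6, 7, 4, 5, 6, 2, 3, 4, 5, 1, 3, 4, 2, 3, 0, 2, 1, 3, 4, 5, 6, 7]), (7, .inl [4, 5, 6, 2, 3, 4, 5, 1, 3, 4, 2, 3, 0, 2, 1, 3, 4, 5, 6, 7])]),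
   ([6, 7, 5, 6, 2, 3, 4, 5, 1, 3, 4, 2, 3, 0, 2, 1, 3, 4, 5, 6, 7], [(0, .inl [6, 7, 5, 6, 0, 2, 3, 4, 5, 1, 3, 4, 2, 3, 0, 2, 1, 3, 4, 5, 6, 7]), (1, .inr 4), (2, .inl [6, 7, 5, 6, 3, 4, 5, 1, 3, 4, 2, 3, 0, 2, 1, 3, 4, 5, 6, 7]), (3, .inr 3), (4, .inl [6, 7, 4, 5, 6, 2, 3, 4, 5, 1, 3, 4, 2, 3, 0, 2, 1, 3, 4, 5, 6, 7]), (5, .inr 6), (6, .inl [7, 5, 6, 2, 3, 4, 5, 1, 3, 4, 2, 3, 0, 2, 1, 3, 4, 5, 6, 7]), (7, .inr 0)]),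
   ([6, 7, 4, 5, 6, 3, 4, 5, 1, 3, 4, 2, 3, 0, 2, 1, 3, 4, 5, 6, 7], [(0, .inr 1), (1, .inr 4), (2, .inl [6, 7, 4, 5, 6, 2, 3, 4, 5, 1, 3, 4, 2, 3, 0, 2, 1, 3, 4, 5, 6, 7]), (3, .inr 5), (4, .inl [6, 7, 5, 6, 3, 4, 5, 1, 3, 4, 2, 3, 0, 2, 1, 3, 4, 5, 6, 7]), (5, .inl [5, 6, 7, 4, 5, 6, 3, 4, 5, 1, 3, 4, 2, 3, 0, 2, 1, 3, 4, 5, 6, 7]), (6, .inl [7, 4, 5, 6, 3, 4, 5, 1, 3, 4, 2, 3, 0, 2, 1, 3, 4, 5, 6, 7]), (7, .inr 0)]),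
   ([3, 4, 5, 6, 0, 2, 3, 4, 5, 1, 3, 4, 2, 3, 0, 2, 1, 3, 4, 5, 6, 7], [(0, .inl [3, 4, 5, 6, 2, 3, 4, 5, 1, 3, 4, 2, 3, 0, 2, 1, 3, 4, 5, 6, 7]), (1, .inl [1, 3, 4, 5, 6, 0, 2, 3, 4, 5, 1, 3, 4, 2, 3, 0, 2, 1, 3, 4, 5, 6, 7]), (2, .inl [2, 3, 4, 5, 6, 0, 2, 3, 4, 5, 1, 3, 4, 2, 3, 0, 2, 1, 3, 4, 5, 6, 7]), (3, .inl [4, 5, 6, 0, 2, 3, 4, 5, 1, 3, 4, 2, 3, 0, 2, 1, 3, 4, 5, 6, 7]), (4, .inr 3), (5, .inr 2), (6, .inr 0), (7, .inl [7, 3, 4, 5, 6, 0, 2, 3, 4, 5, 1, 3, 4, 2, 3, 0, 2, 1, 3, 4, 5, 6, 7])]),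
   ([7, 4, 5, 6, 0, 2, 3, 4, 5, 1, 3, 4, 2, 3, 0, 2, 1, 3, 4, 5, 6, 7], [(0, .inl [7, 4, 5, 6, 2, 3, 4, 5, 1, 3, 4, 2, 3, 0, 2, 1, 3, 4, 5, 6, 7]), (1, .inr 4), (2, .inr 1), (3, .inl [7, 3, 4, 5, 6, 0, 2, 3, 4, 5, 1, 3, 4, 2, 3, 0, 2, 1, 3, 4, 5, 6, 7]), (4, .inl [7, 5, 6, 0, 2, 3, 4, 5, 1, 3, 4, 2, 3, 0, 2, 1, 3, 4, 5, 6, 7]), (5, .inr 2), (6, .inl [6, 7, 4, 5, 6, 0, 2, 3, 4, 5, 1, 3, 4, 2, 3, 0, 2, 1, 3, 4, 5, 6, 7]), (7, .inl [4, 5, 6, 0, 2, 3, 4, 5, 1, 3, 4, 2, 3, 0, 2, 1, 3, 4, 5, 6, 7])]),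
   ([6, 7, 5, 6, 0, 2, 3, 4, 5, 1, 3, 4, 2, 3, 0, 2, 1, 3, 4, 5, 6, 7], [(0, .inl [6, 7, 5, 6, 2, 3, 4, 5, 1, 3, 4, 2, 3, 0, 2, 1, 3, 4, 5, 6, 7]), (1, .inr 4), (2, .inr 1), (3, .inr 3), (4, .inl [6, 7, 4, 5, 6, 0, 2, 3, 4, 5, 1, 3, 4, 2, 3, 0, 2, 1, 3, 4, 5, 6, 7]), (5, .inr 6), (6, .inl [7, 5, 6, 0, 2, 3, 4, 5, 1, 3, 4, 2, 3, 0, 2, 1, 3, 4, 5, 6, 7]), (7, .inr 0)]),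
   ([1, 3, 4, 5, 6, 2, 3, 4, 5, 1, 3, 4, 2, 3, 0, 2, 1, 3, 4, 5, 6, 7], [(0, .inl [1, 3, 4, 5, 6, 0, 2, 3, 4, 5, 1, 3, 4, 2, 3, 0, 2, 1, 3, 4, 5, 6, 7]), (1, .inl [3, 4, 5, 6, 2, 3, 4, 5, 1, 3, 4, 2, 3, 0, 2, 1, 3, 4, 5, 6, 7]), (2, .inr 5), (3, .inr 4), (4, .inr 3), (5, .inr 2), (6, .inr 0), (7, .inl [7, 1, 3, 4, 5, 6, 2, 3, 4, 5, 1, 3, 4, 2, 3, 0, 2, 1, 3, 4, 5, 6, 7])]),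
   ([7, 3, 4, 5, 6, 2, 3, 4, 5, 1, 3, 4, 2, 3, 0, 2, 1, 3, 4, 5, 6, 7], [(0, .inl [7, 3, 4, 5, 6, 0, 2, 3, 4, 5, 1, 3, 4, 2, 3, 0, 2, 1, 3, 4, 5, 6, 7]), (1, .inl [7, 1, 3, 4, 5, 6, 2, 3, 4, 5, 1, 3, 4, 2, 3, 0, 2, 1, 3, 4, 5, 6, 7]), (2, .inr 5), (3, .inl [7, 4, 5, 6, 2, 3, 4, 5, 1, 3, 4, 2, 3, 0, 2, 1, 3, 4, 5, 6, 7]), (4, .inr 3), (5, .inr 2), (6, .inl [6, 7, 3, 4, 5, 6, 2, 3, 4, 5, 1, 3, 4, 2, 3, 0, 2, 1, 3, 4, 5, 6, 7]), (7, .inl [3, 4, 5, 6, 2, 3, 4, 5, 1, 3, 4, 2, 3, 0, 2, 1, 3, 4, 5, 6, 7])]),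
   ([6, 7, 4, 5, 6, 2, 3, 4, 5, 1, 3, 4, 2, 3, 0, 2, 1, 3, 4, 5, 6, 7], [(0, .inl [6, 7, 4, 5, 6, 0, 2, 3, 4, 5, 1, 3, 4, 2, 3, 0, 2, 1, 3, 4, 5, 6, 7]), (1, .inr 4), (2, .inl [6, 7, 4, 5, 6, 3, 4, 5, 1, 3, 4, 2, 3, 0, 2, 1, 3, 4, 5, 6, 7]), (3, .inl [6, 7, 3, 4, 5, 6, 2, 3, 4, 5, 1, 3, 4, 2, 3, 0, 2, 1, 3, 4, 5, 6, 7]), (4, .inl [6, 7, 5, 6, 2, 3, 4, 5, 1, 3, 4, 2, 3, 0, 2, 1, 3, 4, 5, 6, 7]), (5, .inl [5, 6, 7, 4, 5, 6, 2, 3, 4, 5, 1, 3, 4, 2, 3, 0, 2, 1, 3, 4, 5, 6, 7]), (6, .inl [7, 4, 5, 6, 2, 3, 4, 5, 1, 3, 4, 2, 3, 0, 2, 1, 3, 4, 5, 6, 7]), (7, .inr 0)]),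
   ([5, 6, 7, 4, 5, 6, 3, 4, 5, 1, 3, 4, 2, 3, 0, 2, 1, 3, 4, 5, 6, 7], [(0, .inr 1), (1, .inr 4), (2, .inl [5, 6, 7, 4, 5, 6, 2, 3, 4, 5, 1, 3, 4, 2, 3, 0, 2, 1, 3, 4, 5, 6, 7]), (3, .inr 5), (4, .inr 6), (5, .inl [6, 7, 4, 5, 6, 3, 4, 5, 1, 3, 4, 2, 3, 0, 2, 1, 3, 4, 5, 6, 7]), (6, .inr 2), (7, .inr 0)]),
   ([1, 3, 4, 5, 6, 0, 2, 3, 4, 5, 1, 3, 4, 2, 3, 0, 2, 1, 3, 4, 5, 6, 7], [(0, .inl [1, 3, 4, 5, 6, 2, 3, 4, 5, 1, 3, 4, 2, 3, 0, 2, 1, 3, 4, 5, 6, 7]), (1, .inl [3, 4, 5, 6, 0, 2, 3, 4, 5, 1, 3, 4, 2, 3, 0, 2, 1, 3, 4, 5, 6, 7]), (2, .inl [2, 1, 3, 4, 5, 6, 0, 2, 3, 4, 5, 1, 3, 4, 2, 3, 0, 2, 1, 3, 4, 5, 6, 7]), (3, .inr 4), (4, .inr 3), (5, .inr 2), (6, .inr 0), (7, .inl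 [7, 1, 3, 4, 5, 6, 0, 2, 3, 4, 5, 1, 3, 4, 2, 3, 0, 2, 1, 3, 4, 5, 6, 7])]),
   ([2, 3, 4, 5, 6, 0, 2, 3, 4, 5, 1, 3, 4, 2, 3, 0, 2, 1, 3, 4, 5, 6, 7], [(0, .inr 5), (1, .inl [2, 1, 3, 4, 5, 6, 0, 2, 3, 4, 5, 1, 3, 4, 2, 3, 0, 2, 1, 3, 4, 5, 6, 7]), (2, .inl [3, 4, 5, 6, 0, 2, 3, 4, 5, 1, 3, 4, 2, 3, 0, 2, 1, 3, 4, 5, 6, 7]), (3, .inr 1), (4, .inr 3), (5, .inr 2), (6, .inr 0), (7, .inl [7, 2, 3, 4, 5, 6, 0, 2, 3, 4, 5, 1, 3, 4, 2, 3, 0, 2, 1, 3, 4, 5, 6, 7])]),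
   ([7, 3, 4, 5, 6, 0, 2, 3, 4, 5, 1, 3, 4, 2, 3, 0, 2, 1, 3, 4, 5, 6, 7], [(0, .inl [7, 3, 4, 5, 6, 2, 3, 4, 5, 1, 3, 4, 2, 3, 0, 2, 1, 3, 4, 5, 6, 7]), (1, .inl [7, 1, 3, 4, 5, 6, 0, 2, 3, 4, 5, 1, 3, 4, 2, 3, 0, 2, 1, 3, 4, 5, 6, 7]), (2, .inl [7, 2, 3, 4, 5, 6, 0, 2, 3, 4, 5, 1, 3, 4, 2, 3, 0, 2, 1, 3, 4, 5, 6, 7]), (3, .inl [7, 4, 5, 6, 0, 2, 3, 4, 5, 1, 3, 4, 2, 3, 0, 2, 1, 3, 4, 5, 6, 7]), (4, .inr 3), (5, .inr 2), (6, .inl [6, 7, 3, 4, 5, 6, 0, 2, 3, 4, 5, 1, 3, 4, 2, 3, 0, 2, 1, 3, 4, 5, 6, 7]), (7, .inl [3, 4, 5, 6, 0, 2, 3, 4, 5, 1, 3, 4, 2, 3, 0, 2, 1, 3, 4, 5, 6, 7])]),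
   ([6, 7, 4, 5, 6, 0, 2, 3, 4, 5, 1, 3, 4, 2, 3, 0, 2, 1, 3, 4, 5, 6, 7], [(0, .inl [6, 7, 4, 5, 6, 2, 3, 4, 5, 1, 3, 4, 2, 3, 0, 2, 1, 3, 4, 5, 6, 7]), (1, .inr 4), (2, .inr 1), (3, .inl [6, 7, 3, 4, 5, 6, 0, 2, 3, 4, 5, 1, 3, 4, 2, 3, 0, 2, 1, 3, 4, 5, 6, 7]), (4, .inl [6, 7, 5, 6, 0, 2, 3, 4, 5, 1, 3, 4, 2, 3, 0, 2, 1, 3, 4, 5, 6, 7]), (5, .inl [5, 6, 7, 4, 5, 6, 0, 2, 3, 4, 5, 1, 3, 4, 2, 3, 0, 2, 1, 3, 4, 5, 6, 7]), (6, .inl [7, 4, 5, 6, 0, 2, 3, 4, 5, 1, 3, 4, 2, 3, 0, 2, 1, 3, 4, 5, 6, 7]), (7, .inr 0)]),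
   ([7, 1, 3, 4, 5, 6, 2, 3, 4, 5, 1, 3, 4, 2, 3, 0, 2, 1, 3, 4, 5, 6, 7], [(0, .inl [7, 1, 3, 4, 5, 6, 0, 2, 3, 4, 5, 1, 3, 4, 2, 3, 0, 2, 1, 3, 4, 5, 6, 7]), (1, .inl [7, 3, 4, 5, 6, 2, 3, 4, 5, 1, 3, 4, 2, 3, 0, 2, 1, 3, 4, 5, 6, 7]), (2, .inr 5), (3, .inr 4), (4, .inr 3), (5, .inr 2), (6, .inl [6, 7, 1, 3, 4, 5, 6, 2, 3, 4, 5, 1, 3, 4, 2, 3, 0, 2, 1, 3, 4, 5, 6, 7]), (7, .inl [1, 3, 4, 5, 6, 2, 3, 4, 5, 1, 3, 4, 2, 3, 0, 2, 1, 3, 4, 5, 6, 7])]),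
   ([6, 7, 3, 4, 5, 6, 2, 3, 4, 5, 1, 3, 4, 2, 3, 0, 2, 1, 3, 4, 5, 6, 7], [(0, .inl [6, 7, 3, 4, 5, 6, 0, 2, 3, 4, 5, 1, 3, 4, 2, 3, 0, 2, 1, 3, 4, 5, 6, 7]), (1, .inl [6, 7, 1, 3, 4, 5, 6, 2, 3, 4, 5, 1, 3, 4, 2, 3, 0, 2, 1, 3, 4, 5, 6, 7]), (2, .inr 5), (3, .inl [6, 7, 4, 5, 6, 2, 3, 4, 5, 1, 3, 4, 2, 3, 0, 2, 1, 3, 4, 5, 6, 7]), (4, .inr 3), (5, .inl [5, 6, 7, 3, 4, 5, 6, 2, 3, 4, 5, 1, 3, 4, 2, 3, 0, 2, 1, 3, 4, 5, 6, 7]), (6, .inl [7, 3, 4, 5, 6, 2, 3, 4, 5, 1, 3, 4, 2, 3, 0, 2, 1, 3, 4, 5, 6, 7]), (7, .inr 0)]),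
   ([5, 6, 7, 4, 5, 6, 2, 3, 4, 5, 1, 3, 4, 2, 3, 0, 2, 1, 3, 4, 5, 6, 7], [(0, .inl [5, 6, 7, 4, 5, 6, 0, 2, 3, 4, 5, 1, 3, 4, 2, 3, 0, 2, 1, 3, 4, 5, 6, 7]), (1, .inr 4), (2, .inl [5, 6, 7, 4, 5, 6, 3, 4, 5, 1, 3, 4, 2, 3, 0, 2, 1, 3, 4, 5, 6, 7]), (3, .inl [5, 6, 7, 3, 4, 5, 6, 2, 3, 4, 5, 1, 3, 4, 2, 3, 0, 2, 1, 3, 4, 5, 6, 7]), (4, .inr 6), (5, .inl [6, 7, 4, 5, 6, 2, 3, 4, 5, 1, 3, 4, 2, 3, 0, 2, 1, 3, 4, 5, 6, 7]), (6, .inr 2), (7, .inr 0)]),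
   ([2, 1, 3, 4, 5, 6, 0, 2, 3, 4, 5, 1, 3, 4, 2, 3, 0, 2, 1, 3, 4, 5, 6, 7], [(0, .inr 5), (1, .inl [2, 3, 4, 5, 6, 0, 2, 3, 4, 5, 1, 3, 4, 2, 3, 0, 2, 1, 3, 4, 5, 6, 7]), (2, .inl [1, 3, 4, 5, 6, 0, 2, 3, 4, 5, 1, 3, 4, 2, 3, 0, 2, 1, 3, 4, 5, 6, 7]), (3, .inl [3, 2, 1, 3, 4, 5, 6, 0, 2, 3, 4, 5, 1, 3, 4, 2, 3, 0, 2, 1, 3, 4, 5, 6, 7]), (4, .inr 3), (5, .inr 2), (6, .inr 0), (7, .inl [7, 2, 1, 3, 4, 5, 6, 0, 2, 3, 4, 5, 1, 3, 4, 2, 3, 0, 2, 1, 3, 4, 5, 6, 7])]),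
   ([7, 1, 3, 4, 5, 6, 0, 2, 3, 4, 5, 1, 3, 4, 2, 3, 0, 2, 1, 3, 4, 5, 6, 7], [(0, .inl [7, 1, 3, 4, 5, 6, 2, 3, 4, 5, 1, 3, 4, 2, 3, 0, 2, 1, 3, 4, 5, 6, 7]), (1, .inl [7, 3, 4, 5, 6, 0, 2, 3, 4, 5, 1, 3, 4, 2, 3, 0, 2, 1, 3, 4, 5, 6, 7]), (2, .inl [7, 2, 1, 3, 4, 5, 6, 0, 2, 3, 4, 5, 1, 3, 4, 2, 3, 0, 2, 1, 3, 4, 5, 6, 7]), (3, .inr 4), (4, .inr 3), (5, .inr 2), (6, .inl [6, 7, 1, 3, 4, 5, 6, 0, 2, 3, 4, 5, 1, 3, 4, 2, 3, 0, 2, 1, 3, 4, 5, 6, 7]), (7, .inl [1, 3, 4, 5, 6, 0, 2, 3, 4, 5, 1, 3, 4, 2, 3, 0, 2, 1, 3, 4, 5, 6, 7])]),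
   ([7, 2, 3, 4, 5, 6, 0, 2, 3, 4, 5, 1, 3, 4, 2, 3, 0, 2, 1, 3, 4, 5, 6, 7], [(0, .inr 5), (1, .inl [7, 2, 1, 3, 4, 5, 6, 0, 2, 3, 4, 5, 1, 3, 4, 2, 3, 0, 2, 1, 3, 4, 5, 6, 7]), (2, .inl [7, 3, 4, 5, 6, 0, 2, 3, 4, 5, 1, 3, 4, 2, 3, 0, 2, 1, 3, 4, 5, 6, 7]), (3, .inr 1), (4, .inr 3), (5, .inr 2), (6, .inl [6, 7, 2, 3, 4, 5, 6, 0, 2, 3, 4, 5, 1, 3, 4, 2, 3, 0, 2, 1, 3, 4, 5, 6, 7]), (7, .inl [2, 3, 4, 5, 6, 0, 2, 3, 4, 5, 1, 3, 4, 2, 3, 0, 2, 1, 3, 4, 5, 6, 7])]),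
   ([6, 7, 3, 4, 5, 6, 0, 2, 3, 4, 5, 1, 3, 4, 2, 3, 0, 2, 1, 3, 4, 5, 6, 7], [(0, .inl [6, 7, 3, 4, 5, 6, 2, 3, 4, 5, 1, 3, 4, 2, 3, 0, 2, 1, 3, 4, 5, 6, 7]), (1, .inl [6, 7, 1, 3, 4, 5, 6, 0, 2, 3, 4, 5, 1, 3, 4, 2, 3, 0, 2, 1, 3, 4, 5, 6, 7]), (2, .inl [6, 7, 2, 3, 4, 5, 6, 0, 2, 3, 4, 5, 1, 3, 4, 2, 3, 0, 2, 1, 3, 4, 5, 6, 7]), (3, .inl [6, 7, 4, 5, 6, 0, 2, 3, 4, 5, 1, 3, 4, 2, 3, 0, 2, 1, 3, 4, 5, 6, 7]), (4, .inr 3), (5, .inl [5, 6, 7, 3, 4, 5, 6, 0, 2, 3, 4, 5, 1, 3, 4, 2, 3, 0, 2, 1, 3, 4, 5, 6, 7]), (6, .inl [7, 3, 4, 5, 6, 0, 2, 3, 4, 5, 1, 3, 4, 2, 3, 0, 2, 1, 3, 4, 5, 6, 7]), (7, .inr 0)]),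
   ([5, 6, 7, 4, 5, 6, 0, 2, 3, 4, 5, 1, 3, 4, 2, 3, 0, 2, 1, 3, 4, 5, 6, 7], [(0, .inl [5, 6, 7, 4, 5, 6, 2, 3, 4, 5, 1, 3, 4, 2, 3, 0, 2, 1, 3, 4, 5, 6, 7]), (1, .inr 4), (2, .inr 1), (3, .inl [5, 6, 7, 3, 4, 5, 6, 0, 2, 3, 4, 5, 1, 3, 4, 2, 3, 0, 2, 1, 3, 4, 5, 6, 7]), (4, .inr 6), (5, .inl [6, 7, 4, 5, 6, 0, 2, 3, 4, 5, 1, 3, 4, 2, 3, 0, 2, 1, 3, 4, 5, 6, 7]), (6, .inr 2), (7, .inr 0)]),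
   ([6, 7, 1, 3, 4, 5, 6, 2, 3, 4, 5, 1, 3, 4, 2, 3, 0, 2, 1, 3, 4, 5, 6, 7], [(0, .inl [6, 7, 1, 3, 4, 5, 6, 0, 2, 3, 4, 5, 1, 3, 4, 2, 3, 0, 2, 1, 3, 4, 5, 6, 7]), (1, .inl [6, 7, 3, 4, 5, 6, 2, 3, 4, 5, 1, 3, 4, 2, 3, 0, 2, 1, 3, 4, 5, 6, 7]), (2, .inr 5), (3, .inr 4), (4, .inr 3), (5, .inl [5, 6, 7, 1, 3, 4, 5, 6, 2, 3, 4, 5, 1, 3, 4, 2, 3, 0, 2, 1, 3, 4, 5, 6, 7]), (6, .inl [7, 1, 3, 4, 5, 6, 2, 3, 4, 5, 1, 3, 4, 2, 3, 0, 2, 1, 3, 4, 5, 6, 7]), (7, .inr 0)]),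
   ([5, 6, 7, 3, 4, 5, 6, 2, 3, 4, 5, 1, 3, 4, 2, 3, 0, 2, 1, 3, 4, 5, 6, 7], [(0, .inl [5, 6, 7, 3, 4, 5, 6, 0, 2, 3, 4, 5, 1, 3, 4, 2, 3, 0, 2, 1, 3, 4, 5, 6, 7]), (1, .inl [5, 6, 7, 1, 3, 4, 5, 6, 2, 3, 4, 5, 1, 3, 4, 2, 3, 0, 2, 1, 3, 4, 5, 6, 7]), (2, .inr 5), (3, .inl [5, 6, 7, 4, 5, 6, 2, 3, 4, 5, 1, 3, 4, 2, 3, 0, 2, 1, 3, 4, 5, 6, 7]), (4, .inl [4, 5, 6, 7, 3, 4, 5, 6, 2, 3, 4, 5, 1, 3, 4, 2, 3, 0, 2, 1, 3, 4, 5, 6, 7]), (5, .inl [6, 7, 3, 4, 5, 6, 2, 3, 4, 5, 1, 3, 4, 2, 3, 0, 2, 1, 3, 4, 5, 6, 7]), (6, .inr 2), (7, .inr 0)]),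
   ([3, 2, 1, 3, 4, 5, 6, 0, 2, 3, 4, 5, 1, 3, 4, 2, 3, 0, 2, 1, 3, 4, 5, 6, 7], [(0, .inr 5), (1, .inr 1), (2, .inr 4), (3, .inl [2, 1, 3, 4, 5, 6, 0, 2, 3, 4, 5, 1, 3, 4, 2, 3, 0, 2, 1, 3, 4, 5, 6, 7]), (4, .inl [4, 3, 2, 1, 3, 4, 5, 6, 0, 2, 3, 4, 5, 1, 3, 4, 2, 3, 0, 2, 1, 3, 4, 5, 6, 7]), (5, .inr 2), (6, .inr 0), (7, .inl [7, 3, 2, 1, 3, 4, 5, 6, 0, 2, 3, 4, 5, 1, 3, 4, 2, 3, 0, 2, 1, 3, 4, 5, 6, 7])]),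
   ([7, 2, 1, 3, 4, 5, 6, 0, 2, 3, 4, 5, 1, 3, 4, 2, 3, 0, 2, 1, 3, 4, 5, 6, 7], [(0, .inr 5), (1, .inl [7, 2, 3, 4, 5, 6, 0, 2, 3, 4, 5, 1, 3, 4, 2, 3, 0, 2, 1, 3, 4, 5, 6, 7]), (2, .inl [7, 1, 3, 4, 5, 6, 0, 2, 3, 4, 5, 1, 3, 4, 2, 3, 0, 2, 1, 3, 4, 5, 6, 7]), (3, .inl [7, 3, 2, 1, 3, 4, 5, 6, 0, 2, 3, 4, 5, 1, 3, 4, 2, 3, 0, 2, 1, 3, 4, 5, 6, 7]), (4, .inr 3), (5, .inr 2), (6, .inl [6, 7, 2, 1, 3, 4, 5, 6, 0, 2, 3, 4, 5, 1, 3, 4, 2, 3, 0, 2, 1, 3, 4, 5, 6, 7]), (7, .inl [2, 1, 3, 4, 5, 6, 0, 2, 3, 4, 5, 1, 3, 4, 2, 3, 0, 2, 1, 3, 4, 5, 6, 7])]),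
   ([6, 7, 1, 3, 4, 5, 6, 0, 2, 3, 4, 5, 1, 3, 4, 2, 3, 0, 2, 1, 3, 4, 5, 6, 7], [(0, .inl [6, 7, 1, 3, 4, 5, 6, 2, 3, 4, 5, 1, 3, 4, 2, 3, 0, 2, 1, 3, 4, 5, 6, 7]), (1, .inl [6, 7, 3, 4, 5, 6, 0, 2, 3, 4, 5, 1, 3, 4, 2, 3, 0, 2, 1, 3, 4, 5, 6, 7]), (2, .inl [6, 7, 2, 1, 3, 4, 5, 6, 0, 2, 3, 4, 5, 1, 3, 4, 2, 3, 0, 2, 1, 3, 4, 5, 6, 7]), (3, .inr 4), (4, .inr 3), (5, .inl [5, 6, 7, 1, 3, 4, 5, 6, 0, 2, 3, 4, 5, 1, 3, 4, 2, 3, 0, 2, 1, 3, 4, 5, 6, 7]), (6, .inl [7, 1, 3, 4, 5, 6, 0, 2, 3, 4, 5, 1, 3, 4, 2, 3, 0, 2, 1, 3, 4, 5, 6, 7]), (7, .inr 0)]),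
   ([6, 7, 2, 3, 4, 5, 6, 0, 2, 3, 4, 5, 1, 3, 4, 2, 3, 0, 2, 1, 3, 4, 5, 6, 7], [(0, .inr 5), (1, .inl [6, 7, 2, 1, 3, 4, 5, 6, 0, 2, 3, 4, 5, 1, 3, 4, 2, 3, 0, 2, 1, 3, 4, 5, 6, 7]), (2, .inl [6, 7, 3, 4, 5, 6, 0, 2, 3, 4, 5, 1, 3, 4, 2, 3, 0, 2, 1, 3, 4, 5, 6, 7]), (3, .inr 1), (4, .inr 3), (5, .inl [5, 6, 7, 2, 3, 4, 5, 6, 0, 2, 3, 4, 5, 1, 3, 4, 2, 3, 0, 2, 1, 3, 4, 5, 6, 7]), (6, .inl [7, 2, 3, 4, 5, 6, 0, 2, 3, 4, 5, 1, 3, 4, 2, 3, 0, 2, 1, 3, 4, 5, 6, 7]), (7, .inr 0)]),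
   ([5, 6, 7, 3, 4, 5, 6, 0, 2, 3, 4, 5, 1, 3, 4, 2, 3, 0, 2, 1, 3, 4, 5, 6, 7], [(0, .inl [5, 6, 7, 3, 4, 5, 6, 2, 3, 4, 5, 1, 3, 4, 2, 3, 0, 2, 1, 3, 4, 5, 6, 7]), (1, .inl [5, 6, 7, 1, 3, 4, 5, 6, 0, 2, 3, 4, 5, 1, 3, 4, 2, 3, 0, 2, 1, 3, 4, 5, 6, 7]), (2, .inl [5, 6, 7, 2, 3, 4, 5, 6, 0, 2, 3, 4, 5, 1, 3, 4, 2, 3, 0, 2, 1, 3, 4, 5, 6, 7]), (3, .inl [5, 6, 7, 4, 5, 6, 0, 2, 3, 4, 5, 1, 3, 4, 2, 3, 0, 2, 1, 3, 4, 5, 6, 7]), (4, .inl [4, 5, 6, 7, 3, 4, 5, 6, 0, 2, 3, 4, 5, 1, 3, 4, 2, 3, 0, 2, 1, 3, 4, 5, 6, 7]), (5, .inl [6, 7, 3, 4, 5, 6, 0, 2, 3, 4, 5, 1, 3, 4, 2, 3, 0, 2, 1, 3, 4, 5, 6, 7]), (6, .inr 2), (7, .inr 0)]),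
   ([5, 6, 7, 1, 3, 4, 5, 6, 2, 3, 4, 5, 1, 3, 4, 2, 3, 0, 2, 1, 3, 4, 5, 6, 7], [(0, .inl [5, 6, 7, 1, 3, 4, 5, 6, 0, 2, 3, 4, 5, 1, 3, 4, 2, 3, 0, 2, 1, 3, 4, 5, 6, 7]), (1, .inl [5, 6, 7, 3, 4, 5, 6, 2, 3, 4, 5, 1, 3, 4, 2, 3, 0, 2, 1, 3, 4, 5, 6, 7]), (2, .inr 5), (3, .inr 4), (4, .inl [4, 5, 6, 7, 1, 3, 4, 5, 6, 2, 3, 4, 5, 1, 3, 4, 2, 3, 0, 2, 1, 3, 4, 5, 6, 7]), (5, .inl [6, 7, 1, 3, 4, 5, 6, 2, 3, 4, 5, 1, 3, 4, 2, 3, 0, 2, 1, 3, 4, 5, 6, 7]), (6, .inr 2), (7, .inr 0)]),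
   ([4, 5, 6, 7, 3, 4, 5, 6, 2, 3, 4, 5, 1, 3, 4, 2, 3, 0, 2, 1, 3, 4, 5, 6, 7], [(0, .inl [4, 5, 6, 7, 3, 4, 5, 6, 0, 2, 3, 4, 5, 1, 3, 4, 2, 3, 0, 2, 1, 3, 4, 5, 6, 7]), (1, .inl [4, 5, 6, 7, 1, 3, 4, 5, 6, 2, 3, 4, 5, 1, 3, 4, 2, 3, 0, 2, 1, 3, 4, 5, 6, 7]), (2, .inr 5), (3, .inr 6), (4, .inl [5, 6, 7, 3, 4, 5, 6, 2, 3, 4, 5, 1, 3, 4, 2, 3, 0, 2, 1, 3, 4, 5, 6, 7]), (5, .inr 3), (6, .inr 2), (7, .inr 0)]),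
   ([4, 3, 2, 1, 3, 4, 5, 6, 0, 2, 3, 4, 5, 1, 3, 4, 2, 3, 0, 2, 1, 3, 4, 5, 6, 7], [(0, .inr 5), (1, .inr 1), (2, .inr 4), (3, .inr 3), (4, .inl [3, 2, 1, 3, 4, 5, 6, 0, 2, 3, 4, 5, 1, 3, 4, 2, 3, 0, 2, 1, 3, 4, 5, 6, 7]), (5, .inl [5, 4, 3, 2, 1, 3, 4, 5, 6, 0, 2, 3, 4, 5, 1, 3, 4, 2, 3, 0, 2, 1, 3, 4, 5, 6, 7]), (6, .inr 0), (7, .inl [7, 4, 3, 2, 1, 3, 4, 5, 6, 0, 2, 3, 4, 5, 1, 3, 4, 2, 3, 0, 2, 1, 3, 4, 5, 6, 7])]),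
   ([7, 3, 2, 1, 3, 4, 5, 6, 0, 2, 3, 4, 5, 1, 3, 4, 2, 3, 0, 2, 1, 3, 4, 5, 6, 7], [(0, .inr 5), (1, .inr 1), (2, .inr 4), (3, .inl [7, 2, 1, 3, 4, 5, 6, 0, 2, 3, 4, 5, 1, 3, 4, 2, 3, 0, 2, 1, 3, 4, 5, 6, 7]), (4, .inl [7, 4, 3, 2, 1, 3, 4, 5, 6, 0, 2, 3, 4, 5, 1, 3, 4, 2, 3, 0, 2, 1, 3, 4, 5, 6, 7]), (5, .inr 2), (6, .inl [6, 7, 3, 2, 1, 3, 4, 5, 6, 0, 2, 3, 4, 5, 1, 3, 4, 2, 3, 0, 2, 1, 3, 4, 5, 6, 7]), (7, .inl [3, 2, 1, 3, 4, 5, 6, 0, 2, 3, 4, 5, 1, 3, 4, 2, 3, 0, 2, 1, 3, 4, 5, 6, 7])]),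
   ([6, 7, 2, 1, 3, 4, 5, 6, 0, 2, 3, 4, 5, 1, 3, 4, 2, 3, 0, 2, 1, 3, 4, 5, 6, 7], [(0, .inr 5), (1, .inl [6, 7, 2, 3, 4, 5, 6, 0, 2, 3, 4, 5, 1, 3, 4, 2, 3, 0, 2, 1, 3, 4, 5, 6, 7]), (2, .inl [6, 7, 1, 3, 4, 5, 6, 0, 2, 3, 4, 5, 1, 3, 4, 2, 3, 0, 2, 1, 3, 4, 5, 6, 7]), (3, .inl [6, 7, 3, 2, 1, 3, 4, 5, 6, 0, 2, 3, 4, 5, 1, 3, 4, 2, 3, 0, 2, 1, 3, 4, 5, 6, 7]), (4, .inr 3), (5, .inl [5, 6, 7, 2, 1, 3, 4, 5, 6, 0, 2, 3, 4, 5, 1, 3, 4, 2, 3, 0, 2, 1, 3, 4, 5, 6, 7]), (6, .inl [7, 2, 1, 3, 4, 5, 6, 0, 2, 3, 4, 5, 1, 3, 4, 2, 3, 0, 2, 1, 3, 4, 5, 6, 7]), (7, .inr 0)]),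
   ([5, 6, 7, 1, 3, 4, 5, 6, 0, 2, 3, 4, 5, 1, 3, 4, 2, 3, 0, 2, 1, 3, 4, 5, 6, 7], [(0, .inl [5, 6, 7, 1, 3, 4, 5, 6, 2, 3, 4, 5, 1, 3, 4, 2, 3, 0, 2, 1, 3, 4, 5, 6, 7]), (1, .inl [5, 6, 7, 3, 4, 5, 6, 0, 2, 3, 4, 5, 1, 3, 4, 2, 3, 0, 2, 1, 3, 4, 5, 6, 7]), (2, .inl [5, 6, 7, 2, 1, 3, 4, 5, 6, 0, 2, 3, 4, 5, 1, 3, 4, 2, 3, 0, 2, 1, 3, 4, 5, 6, 7]), (3, .inr 4), (4, .inl [4, 5, 6, 7, 1, 3, 4, 5, 6, 0, 2, 3, 4, 5, 1, 3, 4, 2, 3, 0, 2, 1, 3, 4, 5, 6, 7]), (5, .inl [6, 7, 1, 3, 4, 5, 6, 0, 2, 3, 4, 5, 1, 3, 4, 2, 3, 0, 2, 1, 3, 4, 5, 6, 7]), (6, .inr 2), (7, .inr 0)]),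
   ([5, 6, 7, 2, 3, 4, 5, 6, 0, 2, 3, 4, 5, 1, 3, 4, 2, 3, 0, 2, 1, 3, 4, 5, 6, 7], [(0, .inr 5), (1, .inl [5, 6, 7, 2, 1, 3, 4, 5, 6, 0, 2, 3, 4, 5, 1, 3, 4, 2, 3, 0, 2, 1, 3, 4, 5, 6, 7]), (2, .inl [5, 6, 7, 3, 4, 5, 6, 0, 2, 3, 4, 5, 1, 3, 4, 2, 3, 0, 2, 1, 3, 4, 5, 6, 7]), (3, .inr 1), (4, .inl [4, 5, 6, 7, 2, 3, 4, 5, 6, 0, 2, 3, 4, 5, 1, 3, 4, 2, 3, 0, 2, 1, 3, 4, 5, 6, 7]), (5, .inl [6, 7, 2, 3, 4, 5, 6, 0, 2, 3, 4, 5, 1, 3, 4, 2, 3, 0, 2, 1, 3, 4, 5, 6, 7]), (6, .inr 2), (7, .inr 0)]),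
   ([4, 5, 6, 7, 3, 4, 5, 6, 0, 2, 3, 4, 5, 1, 3, 4, 2, 3, 0, 2, 1, 3, 4, 5, 6, 7], [(0, .inl [4, 5, 6, 7, 3, 4, 5, 6, 2, 3, 4, 5, 1, 3, 4, 2, 3, 0, 2, 1, 3, 4, 5, 6, 7]), (1, .inl [4, 5, 6, 7, 1, 3, 4, 5, 6, 0, 2, 3, 4, 5, 1, 3, 4, 2, 3, 0, 2, 1, 3, 4, 5, 6, 7]), (2, .inl [4, 5, 6, 7, 2, 3, 4, 5, 6, 0, 2, 3, 4, 5, 1, 3, 4, 2, 3, 0, 2, 1, 3, 4, 5, 6, 7]), (3, .inr 6), (4, .inl [5, 6, 7, 3, 4, 5, 6, 0, 2, 3, 4, 5, 1, 3, 4, 2, 3, 0, 2, 1, 3, 4, 5, 6, 7]), (5, .inr 3), (6, .inr 2), (7, .inr 0)]),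
   ([4, 5, 6, 7, 1, 3, 4, 5, 6, 2, 3, 4, 5, 1, 3, 4, 2, 3, 0, 2, 1, 3, 4, 5, 6, 7], [(0, .inl [4, 5, 6, 7, 1, 3, 4, 5, 6, 0, 2, 3, 4, 5, 1, 3, 4, 2, 3, 0, 2, 1, 3, 4, 5, 6, 7]), (1, .inl [4, 5, 6, 7, 3, 4, 5, 6, 2, 3, 4, 5, 1, 3, 4, 2, 3, 0, 2, 1, 3, 4, 5, 6, 7]), (2, .inr 5), (3, .inl [3, 4, 5, 6, 7, 1, 3, 4, 5, 6, 2, 3, 4, 5, 1, 3, 4, 2, 3, 0, 2, 1, 3, 4, 5, 6, 7]), (4, .inl [5, 6, 7, 1, 3, 4, 5, 6, 2, 3, 4, 5, 1, 3, 4, 2, 3, 0, 2, 1, 3, 4, 5, 6, 7]), (5, .inr 3), (6, .inr 2), (7, .inr 0)]),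
   ([5, 4, 3, 2, 1, 3, 4, 5, 6, 0, 2, 3, 4, 5, 1, 3, 4, 2, 3, 0, 2, 1, 3, 4, 5, 6, 7], [(0, .inr 5), (1, .inr 1), (2, .inr 4), (3, .inr 3), (4, .inr 2), (5, .inl [4, 3, 2, 1, 3, 4, 5, 6, 0, 2, 3, 4, 5, 1, 3, 4, 2, 3, 0, 2, 1, 3, 4, 5, 6, 7]), (6, .inl [6, 5, 4, 3, 2, 1, 3, 4, 5, 6, 0, 2, 3, 4, 5, 1, 3, 4, 2, 3, 0, 2, 1, 3, 4, 5, 6, 7]), (7, .inl [7, 5, 4, 3, 2, 1, 3, 4, 5, 6, 0, 2, 3, 4, 5, 1, 3, 4, 2, 3, 0, 2, 1, 3, 4, 5, 6, 7])]),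
   ([7, 4, 3, 2, 1, 3, 4, 5, 6, 0, 2, 3, 4, 5, 1, 3, 4, 2, 3, 0, 2, 1, 3, 4, 5, 6, 7], [(0, .inr 5), (1, .inr 1), (2, .inr 4), (3, .inr 3), (4, .inl [7, 3, 2, 1, 3, 4, 5, 6, 0, 2, 3, 4, 5, 1, 3, 4, 2, 3, 0, 2, 1, 3, 4, 5, 6, 7]), (5, .inl [7, 5, 4, 3, 2, 1, 3, 4, 5, 6, 0, 2, 3, 4, 5, 1, 3, 4, 2, 3, 0, 2, 1, 3, 4, 5, 6, 7]), (6, .inl [6, 7, 4, 3, 2, 1, 3, 4, 5, 6, 0, 2, 3, 4, 5, 1, 3, 4, 2, 3, 0, 2, 1, 3, 4, 5, 6, 7]), (7, .inl [4, 3, 2, 1, 3, 4, 5, 6, 0, 2, 3, 4, 5, 1, 3, 4, 2, 3, 0, 2, 1, 3, 4, 5, 6, 7])]),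
   ([6, 7, 3, 2, 1, 3, 4, 5, 6, 0, 2, 3, 4, 5, 1, 3, 4, 2, 3, 0, 2, 1, 3, 4, 5, 6, 7], [(0, .inr 5), (1, .inr 1), (2, .inr 4), (3, .inl [6, 7, 2, 1, 3, 4, 5, 6, 0, 2, 3, 4, 5, 1, 3, 4, 2, 3, 0, 2, 1, 3, 4, 5, 6, 7]), (4, .inl [6, 7, 4, 3, 2, 1, 3, 4, 5, 6, 0, 2, 3, 4, 5, 1, 3, 4, 2, 3, 0, 2, 1, 3, 4, 5, 6, 7]), (5, .inl [5, 6, 7, 3, 2, 1, 3, 4, 5, 6, 0, 2, 3, 4, 5, 1, 3, 4, 2, 3, 0, 2, 1, 3, 4, 5, 6, 7]), (6, .inl [7, 3, 2, 1, 3, 4, 5, 6, 0, 2, 3, 4, 5, 1, 3, 4, 2, 3, 0, 2, 1, 3, 4, 5, 6, 7]), (7, .inr 0)]),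
   ([5, 6, 7, 2, 1, 3, 4, 5, 6, 0, 2, 3, 4, 5, 1, 3, 4, 2, 3, 0, 2, 1, 3, 4, 5, 6, 7], [(0, .inr 5), (1, .inl [5, 6, 7, 2, 3, 4, 5, 6, 0, 2, 3, 4, 5, 1, 3, 4, 2, 3, 0, 2, 1, 3, 4, 5, 6, 7]), (2, .inl [5, 6, 7, 1, 3, 4, 5, 6, 0, 2, 3, 4, 5, 1, 3, 4, 2, 3, 0, 2, 1, 3, 4, 5, 6, 7]), (3, .inl [5, 6, 7, 3, 2, 1, 3, 4, 5, 6, 0, 2, 3, 4, 5, 1, 3, 4, 2, 3, 0, 2, 1, 3, 4, 5, 6, 7]), (4, .inl [4, 5, 6, 7, 2, 1, 3, 4, 5, 6, 0, 2, 3, 4, 5, 1, 3, 4, 2, 3, 0, 2, 1, 3, 4, 5, 6, 7]), (5, .inl [6, 7, 2, 1, 3, 4, 5, 6, 0, 2, 3, 4, 5, 1, 3, 4, 2, 3, 0, 2, 1, 3, 4, 5, 6, 7]), (6, .inr 2), (7, .inr 0)]),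
   ([4, 5, 6, 7, 1, 3, 4, 5, 6, 0, 2, 3, 4, 5, 1, 3, 4, 2, 3, 0, 2, 1, 3, 4, 5, 6, 7], [(0, .inl [4, 5, 6, 7, 1, 3, 4, 5, 6, 2, 3, 4, 5, 1, 3, 4, 2, 3, 0, 2, 1, 3, 4, 5, 6, 7]), (1, .inl [4, 5, 6, 7, 3, 4, 5, 6, 0, 2, 3, 4, 5, 1, 3, 4, 2, 3, 0, 2, 1, 3, 4, 5, 6, 7]), (2, .inl [4, 5, 6, 7, 2, 1, 3, 4, 5, 6, 0, 2, 3, 4, 5, 1, 3, 4, 2, 3, 0, 2, 1, 3, 4, 5, 6, 7]), (3, .inl [3, 4, 5, 6, 7, 1, 3, 4, 5, 6, 0, 2, 3, 4, 5, 1, 3, 4, 2, 3, 0, 2, 1, 3, 4, 5, 6, 7]), (4, .inl [5, 6, 7, 1, 3, 4, 5, 6, 0, 2, 3, 4, 5, 1, 3, 4, 2, 3, 0, 2, 1, 3, 4, 5, 6, 7]), (5, .inr 3), (6, .inr 2), (7, .inr 0)]),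
   ([4, 5, 6, 7, 2, 3, 4, 5, 6, 0, 2, 3, 4, 5, 1, 3, 4, 2, 3, 0, 2, 1, 3, 4, 5, 6, 7], [(0, .inr 5), (1, .inl [4, 5, 6, 7, 2, 1, 3, 4, 5, 6, 0, 2, 3, 4, 5, 1, 3, 4, 2, 3, 0, 2, 1, 3, 4, 5, 6, 7]), (2, .inl [4, 5, 6, 7, 3, 4, 5, 6, 0, 2, 3, 4, 5, 1, 3, 4, 2, 3, 0, 2, 1, 3, 4, 5, 6, 7]), (3, .inl [3, 4, 5, 6, 7, 2, 3, 4, 5, 6, 0, 2, 3, 4, 5, 1, 3, 4, 2, 3, 0, 2, 1, 3, 4, 5, 6, 7]), (4, .inl [5, 6, 7, 2, 3, 4, 5, 6, 0, 2, 3, 4, 5, 1, 3, 4, 2, 3, 0, 2, 1, 3, 4, 5, 6, 7]), (5, .inr 3), (6, .inr 2), (7, .inr 0)]),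
   ([3, 4, 5, 6, 7, 1, 3, 4, 5, 6, 2, 3, 4, 5, 1, 3, 4, 2, 3, 0, 2, 1, 3, 4, 5, 6, 7], [(0, .inl [3, 4, 5, 6, 7, 1, 3, 4, 5, 6, 0, 2, 3, 4, 5, 1, 3, 4, 2, 3, 0, 2, 1, 3, 4, 5, 6, 7]), (1, .inr 6), (2, .inl [2, 3, 4, 5, 6, 7, 1, 3, 4, 5, 6, 2, 3, 4, 5, 1, 3, 4, 2, 3, 0, 2, 1, 3, 4, 5, 6, 7]), (3, .inl [4, 5, 6, 7, 1, 3, 4, 5, 6, 2, 3, 4, 5, 1, 3, 4, 2, 3, 0, 2, 1, 3, 4, 5, 6, 7]), (4, .inr 4), (5, .inr 3), (6, .inr 2), (7, .inr 0)]),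
   ([6, 5, 4, 3, 2, 1, 3, 4, 5, 6, 0, 2, 3, 4, 5, 1, 3, 4, 2, 3, 0, 2, 1, 3, 4, 5, 6, 7], [(0, .inr 5), (1, .inr 1), (2, .inr 4), (3, .inr 3), (4, .inr 2), (5, .inr 0), (6, .inl [5, 4, 3, 2, 1, 3, 4, 5, 6, 0, 2, 3, 4, 5, 1, 3, 4, 2, 3, 0, 2, 1, 3, 4, 5, 6, 7]), (7, .inl [7, 6, 5, 4, 3, 2, 1, 3, 4, 5, 6, 0, 2, 3, 4, 5, 1, 3, 4, 2, 3, 0, 2, 1, 3, 4, 5, 6, 7])]),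
   ([7, 5, 4, 3, 2, 1, 3, 4, 5, 6, 0, 2, 3, 4, 5, 1, 3, 4, 2, 3, 0, 2, 1, 3, 4, 5, 6, 7], [(0, .inr 5), (1, .inr 1), (2, .inr 4), (3, .inr 3), (4, .inr 2), (5, .inl [7, 4, 3, 2, 1, 3, 4, 5, 6, 0, 2, 3, 4, 5, 1, 3, 4, 2, 3, 0, 2, 1, 3, 4, 5, 6, 7]), (6, .inl [6, 7, 5, 4, 3, 2, 1, 3, 4, 5, 6, 0, 2, 3, 4, 5, 1, 3, 4, 2, 3, 0, 2, 1, 3, 4, 5, 6, 7]), (7, .inl [5, 4, 3, 2, 1, 3, 4, 5, 6, 0, 2, 3, 4, 5, 1, 3, 4, 2, 3, 0, 2, 1, 3, 4, 5, 6, 7])]),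
   ([6, 7, 4, 3, 2, 1, 3, 4, 5, 6, 0, 2, 3, 4, 5, 1, 3, 4, 2, 3, 0, 2, 1, 3, 4, 5, 6, 7], [(0, .inr 5), (1, .inr 1), (2, .inr 4), (3, .inr 3), (4, .inl [6, 7, 3, 2, 1, 3, 4, 5, 6, 0, 2, 3, 4, 5, 1, 3, 4, 2, 3, 0, 2, 1, 3, 4, 5, 6, 7]), (5, .inl [5, 6, 7, 4, 3, 2, 1, 3, 4, 5, 6, 0, 2, 3, 4, 5, 1, 3, 4, 2, 3, 0, 2, 1, 3, 4, 5, 6, 7]), (6, .inl [7, 4, 3, 2, 1, 3, 4, 5, 6, 0, 2, 3, 4, 5, 1, 3, 4, 2, 3, 0, 2, 1, 3, 4, 5, 6, 7]), (7, .inr 0)]),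
   ([5, 6, 7, 3, 2, 1, 3, 4, 5, 6, 0, 2, 3, 4, 5, 1, 3, 4, 2, 3, 0, 2, 1, 3, 4, 5, 6, 7], [(0, .inr 5), (1, .inr 1), (2, .inr 4), (3, .inl [5, 6, 7, 2, 1, 3, 4, 5, 6, 0, 2, 3, 4, 5, 1, 3, 4, 2, 3, 0, 2, 1, 3, 4, 5, 6, 7]), (4, .inl [4, 5, 6, 7, 3, 2, 1, 3, 4, 5, 6, 0, 2, 3, 4, 5, 1, 3, 4, 2, 3, 0, 2, 1, 3, 4, 5, 6, 7]), (5, .inl [6, 7, 3, 2, 1, 3, 4, 5, 6, 0, 2, 3, 4, 5, 1, 3, 4, 2, 3, 0, 2, 1, 3, 4, 5, 6, 7]), (6, .inr 2), (7, .inr 0)]),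
   ([4, 5, 6, 7, 2, 1, 3, 4, 5, 6, 0, 2, 3, 4, 5, 1, 3, 4, 2, 3, 0, 2, 1, 3, 4, 5, 6, 7], [(0, .inr 5), (1, .inl [4, 5, 6, 7, 2, 3, 4, 5, 6, 0, 2, 3, 4, 5, 1, 3, 4, 2, 3, 0, 2, 1, 3, 4, 5, 6, 7]), (2, .inl [4, 5, 6, 7, 1, 3, 4, 5, 6, 0, 2, 3, 4, 5, 1, 3, 4, 2, 3, 0, 2, 1, 3, 4, 5, 6, 7]), (3, .inl [3, 4, 5, 6, 7, 2, 1, 3, 4, 5, 6, 0, 2, 3, 4, 5, 1, 3, 4, 2, 3, 0, 2, 1, 3, 4, 5, 6, 7]), (4, .inl [5, 6, 7, 2, 1, 3, 4, 5, 6, 0, 2, 3, 4, 5, 1, 3, 4, 2, 3, 0, 2, 1, 3, 4, 5, 6, 7]), (5, .inr 3), (6, .inr 2), (7, .inr 0)]),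
   ([3, 4, 5, 6, 7, 1, 3, 4, 5, 6, 0, 2, 3, 4, 5, 1, 3, 4, 2, 3, 0, 2, 1, 3, 4, 5, 6, 7], [(0, .inl [3, 4, 5, 6, 7, 1, 3, 4, 5, 6, 2, 3, 4, 5, 1, 3, 4, 2, 3, 0, 2, 1, 3, 4, 5, 6, 7]), (1, .inr 6), (2, .inl [2, 3, 4, 5, 6, 7, 1, 3, 4, 5, 6, 0, 2, 3, 4, 5, 1, 3, 4, 2, 3, 0, 2, 1, 3, 4, 5, 6, 7]), (3, .inl [4, 5, 6, 7, 1, 3, 4, 5, 6, 0, 2, 3, 4, 5, 1, 3, 4, 2, 3, 0, 2, 1, 3, 4, 5, 6, 7]), (4, .inr 4), (5, .inr 3), (6, .inr 2), (7, .inr 0)]),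
   ([3, 4, 5, 6, 7, 2, 3, 4, 5, 6, 0, 2, 3, 4, 5, 1, 3, 4, 2, 3, 0, 2, 1, 3, 4, 5, 6, 7], [(0, .inr 5), (1, .inl [1, 3, 4, 5, 6, 7, 2, 3, 4, 5, 6, 0, 2, 3, 4, 5, 1, 3, 4, 2, 3, 0, 2, 1, 3, 4, 5, 6, 7]), (2, .inr 6), (3, .inl [4, 5, 6, 7, 2, 3, 4, 5, 6, 0, 2, 3, 4, 5, 1, 3, 4, 2, 3, 0, 2, 1, 3, 4, 5, 6, 7]), (4, .inr 1), (5, .inr 3), (6, .inr 2), (7, .inr 0)]),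
   ([2, 3, 4, 5, 6, 7, 1, 3, 4, 5, 6, 2, 3, 4, 5, 1, 3, 4, 2, 3, 0, 2, 1, 3, 4, 5, 6, 7], [(0, .inl [0, 2, 3, 4, 5, 6, 7, 1, 3, 4, 5, 6, 2, 3, 4, 5, 1, 3, 4, 2, 3, 0, 2, 1, 3, 4, 5, 6, 7]), (1, .inr 6), (2, .inl [3, 4, 5, 6, 7, 1, 3, 4, 5, 6, 2, 3, 4, 5, 1, 3, 4, 2, 3, 0, 2, 1, 3, 4, 5, 6, 7]), (3, .inr 5), (4, .inr 4), (5, .inr 3), (6, .inr 2), (7, .inr 0)]),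
   ([7, 6, 5, 4, 3, 2, 1, 3, 4, 5, 6, 0, 2, 3, 4, 5, 1, 3, 4, 2, 3, 0, 2, 1, 3, 4, 5, 6, 7], [(0, .inr 5), (1, .inr 1), (2, .inr 4), (3, .inr 3), (4, .inr 2), (5, .inr 0), (6, .inl [6, 7, 6, 5, 4, 3, 2, 1, 3, 4, 5, 6, 0, 2, 3, 4, 5, 1, 3, 4, 2, 3, 0, 2, 1, 3, 4, 5, 6, 7]), (7, .inl [6, 5, 4, 3, 2, 1, 3, 4, 5, 6, 0, 2, 3, 4, 5, 1, 3, 4, 2, 3, 0, 2, 1, 3, 4, 5, 6, 7])]),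
   ([6, 7, 5, 4, 3, 2, 1, 3, 4, 5, 6, 0, 2, 3, 4, 5, 1, 3, 4, 2, 3, 0, 2, 1, 3, 4, 5, 6, 7], [(0, .inr 5), (1, .inr 1), (2, .inr 4), (3, .inr 3), (4, .inr 2), (5, .inl [5, 6, 7, 5, 4, 3, 2, 1, 3, 4, 5, 6, 0, 2, 3, 4, 5, 1, 3, 4, 2, 3, 0, 2, 1, 3, 4, 5, 6, 7]), (6, .inl [7, 5, 4, 3, 2, 1, 3, 4, 5, 6, 0, 2, 3, 4, 5, 1, 3, 4, 2, 3, 0, 2, 1, 3, 4, 5, 6, 7]), (7, .inl [6, 7, 6, 5, 4, 3, 2, 1, 3, 4, 5, 6, 0, 2, 3, 4, 5, 1, 3, 4, 2, 3, 0, 2, 1, 3, 4, 5, 6, 7])]),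
   ([5, 6, 7, 4, 3, 2, 1, 3, 4, 5, 6, 0, 2, 3, 4, 5, 1, 3, 4, 2, 3, 0, 2, 1, 3, 4, 5, 6, 7], [(0, .inr 5), (1, .inr 1), (2, .inr 4), (3, .inr 3), (4, .inl [4, 5, 6, 7, 4, 3, 2, 1, 3, 4, 5, 6, 0, 2, 3, 4, 5, 1, 3, 4, 2, 3, 0, 2, 1, 3, 4, 5, 6, 7]), (5, .inl [6, 7, 4, 3, 2, 1, 3, 4, 5, 6, 0, 2, 3, 4, 5, 1, 3, 4, 2, 3, 0, 2, 1, 3, 4, 5, 6, 7]), (6, .inl [5, 6, 7, 5, 4, 3, 2, 1, 3, 4, 5, 6, 0, 2, 3, 4, 5, 1, 3, 4, 2, 3, 0, 2, 1, 3, 4, 5, 6, 7]), (7, .inr 0)]),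
   ([4, 5, 6, 7, 3, 2, 1, 3, 4, 5, 6, 0, 2, 3, 4, 5, 1, 3, 4, 2, 3, 0, 2, 1, 3, 4, 5, 6, 7], [(0, .inr 5), (1, .inr 1), (2, .inr 4), (3, .inl [3, 4, 5, 6, 7, 3, 2, 1, 3, 4, 5, 6, 0, 2, 3, 4, 5, 1, 3, 4, 2, 3, 0, 2, 1, 3, 4, 5, 6, 7]), (4, .inl [5, 6, 7, 3, 2, 1, 3, 4, 5, 6, 0, 2, 3, 4, 5, 1, 3, 4, 2, 3, 0, 2, 1, 3, 4, 5, 6, 7]), (5, .inl [4, 5, 6, 7, 4, 3, 2, 1, 3, 4, 5, 6, 0, 2, 3, 4, 5, 1, 3, 4, 2, 3, 0, 2, 1, 3, 4, 5, 6, 7]), (6, .inr 2), (7, .inr 0)]),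
   ([3, 4, 5, 6, 7, 2, 1, 3, 4, 5, 6, 0, 2, 3, 4, 5, 1, 3, 4, 2, 3, 0, 2, 1, 3, 4, 5, 6, 7], [(0, .inr 5), (1, .inl [1, 3, 4, 5, 6, 7, 2, 1, 3, 4, 5, 6, 0, 2, 3, 4, 5, 1, 3, 4, 2, 3, 0, 2, 1, 3, 4, 5, 6, 7]), (2, .inl [2, 3, 4, 5, 6, 7, 2, 1, 3, 4, 5, 6, 0, 2, 3, 4, 5, 1, 3, 4, 2, 3, 0, 2, 1, 3, 4, 5, 6, 7]), (3, .inl [4, 5, 6, 7, 2, 1, 3, 4, 5, 6, 0, 2, 3, 4, 5, 1, 3, 4, 2, 3, 0, 2, 1, 3, 4, 5, 6, 7]), (4, .inl [3, 4, 5, 6, 7, 3, 2, 1, 3, 4, 5, 6, 0, 2, 3, 4, 5, 1, 3, 4, 2, 3, 0, 2, 1, 3, 4, 5, 6, 7]), (5, .inr 3), (6, .inr 2), (7, .inr 0)]),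
   ([2, 3, 4, 5, 6, 7, 1, 3, 4, 5, 6, 0, 2, 3, 4, 5, 1, 3, 4, 2, 3, 0, 2, 1, 3, 4, 5, 6, 7], [(0, .inl [0, 2, 3, 4, 5, 6, 7, 1, 3, 4, 5, 6, 0, 2, 3, 4, 5, 1, 3, 4, 2, 3, 0, 2, 1, 3, 4, 5, 6, 7]), (1, .inr 6), (2, .inl [3, 4, 5, 6, 7, 1, 3, 4, 5, 6, 0, 2, 3, 4, 5, 1, 3, 4, 2, 3, 0, 2, 1, 3, 4, 5, 6, 7]), (3, .inl [2, 3, 4, 5, 6, 7, 2, 1, 3, 4, 5, 6, 0, 2, 3, 4, 5, 1, 3, 4, 2, 3, 0, 2, 1, 3, 4, 5, 6, 7]), (4, .inr 4), (5, .inr 3), (6, .inr 2), (7, .inr 0)]),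
   ([1, 3, 4, 5, 6, 7, 2, 3, 4, 5, 6, 0, 2, 3, 4, 5, 1, 3, 4, 2, 3, 0, 2, 1, 3, 4, 5, 6, 7], [(0, .inr 5), (1, .inl [3, 4, 5, 6, 7, 2, 3, 4, 5, 6, 0, 2, 3, 4, 5, 1, 3, 4, 2, 3, 0, 2, 1, 3, 4, 5, 6, 7]), (2, .inr 6), (3, .inl [1, 3, 4, 5, 6, 7, 2, 1, 3, 4, 5, 6, 0, 2, 3, 4, 5, 1, 3, 4, 2, 3, 0, 2, 1, 3, 4, 5, 6, 7]), (4, .inr 1), (5, .inr 3), (6, .inr 2), (7, .inr 0)]),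
   ([0, 2, 3, 4, 5, 6, 7, 1, 3, 4, 5, 6, 2, 3, 4, 5, 1, 3, 4, 2, 3, 0, 2, 1, 3, 4, 5, 6, 7], [(0, .inl [2, 3, 4, 5, 6, 7, 1, 3, 4, 5, 6, 2, 3, 4, 5, 1, 3, 4, 2, 3, 0, 2, 1, 3, 4, 5, 6, 7]), (1, .inr 6), (2, .inl [0, 2, 3, 4, 5, 6, 7, 1, 3, 4, 5, 6, 0, 2, 3, 4, 5, 1, 3, 4, 2, 3, 0, 2, 1, 3, 4, 5, 6, 7]), (3, .inr 5), (4, .inr 4), (5, .inr 3), (6, .inr 2), (7, .inr 0)]),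
   ([6, 7, 6, 5, 4, 3, 2, 1, 3, 4, 5, 6, 0, 2, 3, 4, 5, 1, 3, 4, 2, 3, 0, 2, 1, 3, 4, 5, 6, 7], [(0, .inr 5), (1, .inr 1), (2, .inr 4), (3, .inr 3), (4, .inr 2), (5, .inl [5, 6, 7, 6, 5, 4, 3, 2, 1, 3, 4, 5, 6, 0, 2, 3, 4, 5, 1, 3, 4, 2, 3, 0, 2, 1, 3, 4, 5, 6, 7]), (6, .inl [7, 6, 5, 4, 3, 2, 1, 3, 4, 5, 6, 0, 2, 3, 4, 5, 1, 3, 4, 2, 3, 0, 2, 1, 3, 4, 5, 6, 7]), (7, .inl [6, 7, 5, 4, 3, 2, 1, 3, 4, 5, 6, 0, 2, 3, 4, 5, 1, 3, 4, 2, 3, 0, 2, 1, 3, 4, 5, 6, 7])]),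
   ([5, 6, 7, 5, 4, 3, 2, 1, 3, 4, 5, 6, 0, 2, 3, 4, 5, 1, 3, 4, 2, 3, 0, 2, 1, 3, 4, 5, 6, 7], [(0, .inr 5), (1, .inr 1), (2, .inr 4), (3, .inr 3), (4, .inl [4, 5, 6, 7, 5, 4, 3, 2, 1, 3, 4, 5, 6, 0, 2, 3, 4, 5, 1, 3, 4, 2, 3, 0, 2, 1, 3, 4, 5, 6, 7]), (5, .inl [6, 7, 5, 4, 3, 2, 1, 3, 4, 5, 6, 0, 2, 3, 4, 5, 1, 3, 4, 2, 3, 0, 2, 1, 3, 4, 5, 6, 7]), (6, .inl [5, 6, 7, 4, 3, 2, 1, 3, 4, 5, 6, 0, 2, 3, 4, 5, 1, 3, 4, 2, 3, 0, 2, 1, 3, 4, 5, 6, 7]), (7, .inl [5, 6, 7, 6, 5, 4, 3, 2, 1, 3, 4, 5, 6, 0, 2, 3, 4, 5, 1, 3, 4, 2, 3, 0, 2, 1, 3, 4, 5, 6, 7])]),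
   ([4, 5, 6, 7, 4, 3, 2, 1, 3, 4, 5, 6, 0, 2, 3, 4, 5, 1, 3, 4, 2, 3, 0, 2, 1, 3, 4, 5, 6, 7], [(0, .inr 5), (1, .inr 1), (2, .inr 4), (3, .inl [3, 4, 5, 6, 7, 4, 3, 2, 1, 3, 4, 5, 6, 0, 2, 3, 4, 5, 1, 3, 4, 2, 3, 0, 2, 1, 3, 4, 5, 6, 7]), (4, .inl [5, 6, 7, 4, 3, 2, 1, 3, 4, 5, 6, 0, 2, 3, 4, 5, 1, 3, 4, 2, 3, 0, 2, 1, 3, 4, 5, 6, 7]), (5, .inl [4, 5, 6, 7, 3, 2, 1, 3, 4, 5, 6, 0, 2, 3, 4, 5, 1, 3, 4, 2, 3, 0, 2, 1, 3, 4, 5, 6, 7]), (6, .inl [4, 5, 6, 7, 5, 4, 3, 2, 1, 3, 4, 5, 6, 0, 2, 3, 4, 5, 1, 3, 4, 2, 3, 0, 2, 1, 3, 4, 5, 6, 7]), (7, .inr 0)]),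
   ([3, 4, 5, 6, 7, 3, 2, 1, 3, 4, 5, 6, 0, 2, 3, 4, 5, 1, 3, 4, 2, 3, 0, 2, 1, 3, 4, 5, 6, 7], [(0, .inr 5), (1, .inl [1, 3, 4, 5, 6, 7, 3, 2, 1, 3, 4, 5, 6, 0, 2, 3, 4, 5, 1, 3, 4, 2, 3, 0, 2, 1, 3, 4, 5, 6, 7]), (2, .inl [2, 3, 4, 5, 6, 7, 3, 2, 1, 3, 4, 5, 6, 0, 2, 3, 4, 5, 1, 3, 4, 2, 3, 0, 2, 1, 3, 4, 5, 6, 7]), (3, .inl [4, 5, 6, 7, 3, 2, 1, 3, 4, 5, 6, 0, 2, 3, 4, 5, 1, 3, 4, 2, 3, 0, 2, 1, 3, 4, 5, 6, 7]), (4, .inl [3, 4, 5, 6, 7, 2, 1, 3, 4, 5, 6, 0, 2, 3, 4, 5, 1, 3, 4, 2, 3, 0, 2, 1, 3, 4, 5, 6, 7]), (5, .inl [3, 4, 5, 6, 7, 4, 3, 2, 1, 3, 4, 5, 6, 0, 2, 3, 4, 5, 1, 3, 4, 2, 3, 0, 2, 1, 3, 4, 5, 6, 7]), (6, .inr 2), (7, .inr 0)]),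
   ([1, 3, 4, 5, 6, 7, 2, 1, 3, 4, 5, 6, 0, 2, 3, 4, 5, 1, 3, 4, 2, 3, 0, 2, 1, 3, 4, 5, 6, 7], [(0, .inr 5), (1, .inl [3, 4, 5, 6, 7, 2, 1, 3, 4, 5, 6, 0, 2, 3, 4, 5, 1, 3, 4, 2, 3, 0, 2, 1, 3, 4, 5, 6, 7]), (2, .inl [2, 1, 3, 4, 5, 6, 7, 2, 1, 3, 4, 5, 6, 0, 2, 3, 4, 5, 1, 3, 4, 2, 3, 0, 2, 1, 3, 4, 5, 6, 7]), (3, .inl [1, 3, 4, 5, 6, 7, 2, 3, 4, 5, 6, 0, 2, 3, 4, 5, 1, 3, 4, 2, 3, 0, 2, 1, 3, 4, 5, 6, 7]), (4, .inl [1, 3, 4, 5, 6, 7, 3, 2, 1, 3, 4, 5, 6, 0, 2, 3, 4, 5, 1, 3, 4, 2, 3, 0, 2, 1, 3, 4, 5, 6, 7]), (5, .inr 3), (6, .inr 2), (7, .inr 0)]),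
   ([2, 3, 4, 5, 6, 7, 2, 1, 3, 4, 5, 6, 0, 2, 3, 4, 5, 1, 3, 4, 2, 3, 0, 2, 1, 3, 4, 5, 6, 7], [(0, .inl [0, 2, 3, 4, 5, 6, 7, 2, 1, 3, 4, 5, 6, 0, 2, 3, 4, 5, 1, 3, 4, 2, 3, 0, 2, 1, 3, 4, 5, 6, 7]), (1, .inl [2, 1, 3, 4, 5, 6, 7, 2, 1, 3, 4, 5, 6, 0, 2, 3, 4, 5, 1, 3, 4, 2, 3, 0, 2, 1, 3, 4, 5, 6, 7]), (2, .inl [3, 4, 5, 6, 7, 2, 1, 3, 4, 5, 6, 0, 2, 3, 4, 5, 1, 3, 4, 2, 3, 0, 2, 1, 3, 4, 5, 6, 7]), (3, .inl [2, 3, 4, 5, 6, 7, 1, 3, 4, 5, 6, 0, 2, 3, 4, 5, 1, 3, 4, 2, 3, 0, 2, 1, 3, 4, 5, 6, 7]), (4, .inl [2, 3, 4, 5, 6, 7, 3, 2, 1, 3, 4, 5, 6, 0, 2, 3, 4, 5, 1, 3, 4, 2, 3, 0, 2, 1, 3, 4, 5, 6, 7]), (5, .inr 3), (6, .inr 2), (7, .inr 0)]),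
   ([0, 2, 3, 4, 5, 6, 7, 1, 3, 4, 5, 6, 0, 2, 3, 4, 5, 1, 3, 4, 2, 3, 0, 2, 1, 3, 4, 5, 6, 7], [(0, .inl [2, 3, 4, 5, 6, 7, 1, 3, 4, 5, 6, 0, 2, 3, 4, 5, 1, 3, 4, 2, 3, 0, 2, 1, 3, 4, 5, 6, 7]), (1, .inr 6), (2, .inl [0, 2, 3, 4, 5, 6, 7, 1, 3, 4, 5, 6, 2, 3, 4, 5, 1, 3, 4, 2, 3, 0, 2, 1, 3, 4, 5, 6, 7]), (3, .inl [0, 2, 3, 4, 5, 6, 7, 2, 1, 3, 4, 5, 6, 0, 2, 3, 4, 5, 1, 3, 4, 2, 3, 0, 2, 1, 3, 4, 5, 6, 7]), (4, .inr 4), (5, .inr 3), (6, .inr 2), (7, .inr 0)]),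
   ([5, 6, 7, 6, 5, 4, 3, 2, 1, 3, 4, 5, 6, 0, 2, 3, 4, 5, 1, 3, 4, 2, 3, 0, 2, 1, 3, 4, 5, 6, 7], [(0, .inr 5), (1, .inr 1), (2, .inr 4), (3, .inr 3), (4, .inl [4, 5, 6, 7, 6, 5, 4, 3, 2, 1, 3, 4, 5, 6, 0, 2, 3, 4, 5, 1, 3, 4, 2, 3, 0, 2, 1, 3, 4, 5, 6, 7]), (5, .inl [6, 7, 6, 5, 4, 3, 2, 1, 3, 4, 5, 6, 0, 2, 3, 4, 5, 1, 3, 4, 2, 3, 0, 2, 1, 3, 4, 5, 6, 7]), (6, .inr 0), (7, .inl [5, 6, 7, 5, 4, 3, 2, 1, 3, 4, 5, 6, 0, 2, 3, 4, 5, 1, 3, 4, 2, 3, 0, 2, 1, 3, 4, 5, 6, 7])]),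
   ([4, 5, 6, 7, 5, 4, 3, 2, 1, 3, 4, 5, 6, 0, 2, 3, 4, 5, 1, 3, 4, 2, 3, 0, 2, 1, 3, 4, 5, 6, 7], [(0, .inr 5), (1, .inr 1), (2, .inr 4), (3, .inl [3, 4, 5, 6, 7, 5, 4, 3, 2, 1, 3, 4, 5, 6, 0, 2, 3, 4, 5, 1, 3, 4, 2, 3, 0, 2, 1, 3, 4, 5, 6, 7]), (4, .inl [5, 6, 7, 5, 4, 3, 2, 1, 3, 4, 5, 6, 0, 2, 3, 4, 5, 1, 3, 4, 2, 3, 0, 2, 1, 3, 4, 5, 6, 7]), (5, .inr 2), (6, .inl [4, 5, 6, 7, 4, 3, 2, 1, 3, 4, 5, 6, 0, 2, 3, 4, 5, 1, 3, 4, 2, 3, 0, 2, 1, 3, 4, 5, 6, 7]), (7, .inl [4, 5, 6, 7, 6, 5, 4, 3, 2, 1, 3, 4, 5, 6, 0, 2, 3, 4, 5, 1, 3, 4, 2, 3, 0, 2, 1, 3, 4, 5, 6, 7])]),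
   ([3, 4, 5, 6, 7, 4, 3, 2, 1, 3, 4, 5, 6, 0, 2, 3, 4, 5, 1, 3, 4, 2, 3, 0, 2, 1, 3, 4, 5, 6, 7], [(0, .inr 5), (1, .inl [1, 3, 4, 5, 6, 7, 4, 3, 2, 1, 3, 4, 5, 6, 0, 2, 3, 4, 5, 1, 3, 4, 2, 3, 0, 2, 1, 3, 4, 5, 6, 7]), (2, .inl [2, 3, 4, 5, 6, 7, 4, 3, 2, 1, 3, 4, 5, 6, 0, 2, 3, 4, 5, 1, 3, 4, 2, 3, 0, 2, 1, 3, 4, 5, 6, 7]), (3, .inl [4, 5, 6, 7, 4, 3, 2, 1, 3, 4, 5, 6, 0, 2, 3, 4, 5, 1, 3, 4, 2, 3, 0, 2, 1, 3, 4, 5, 6, 7]), (4, .inr 3), (5, .inl [3, 4, 5, 6, 7, 3, 2, 1, 3, 4, 5, 6, 0, 2, 3, 4, 5, 1, 3, 4, 2, 3, 0, 2, 1, 3, 4, 5, 6, 7]), (6, .inl [3, 4, 5, 6, 7, 5, 4, 3, 2, 1, 3, 4, 5, 6, 0, 2, 3, 4, 5, 1, 3, 4, 2, 3, 0, 2, 1, 3, 4, 5, 6, 7]), (7, .inr 0)]),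
   ([1, 3, 4, 5, 6, 7, 3, 2, 1, 3, 4, 5, 6, 0, 2, 3, 4, 5, 1, 3, 4, 2, 3, 0, 2, 1, 3, 4, 5, 6, 7], [(0, .inr 5), (1, .inl [3, 4, 5, 6, 7, 3, 2, 1, 3, 4, 5, 6, 0, 2, 3, 4, 5, 1, 3, 4, 2, 3, 0, 2, 1, 3, 4, 5, 6, 7]), (2, .inl [2, 1, 3, 4, 5, 6, 7, 3, 2, 1, 3, 4, 5, 6, 0, 2, 3, 4, 5, 1, 3, 4, 2, 3, 0, 2, 1, 3, 4, 5, 6, 7]), (3, .inr 1), (4, .inl [1, 3, 4, 5, 6, 7, 2, 1, 3, 4, 5, 6, 0, 2, 3, 4, 5, 1, 3, 4, 2, 3, 0, 2, 1, 3, 4, 5, 6, 7]), (5, .inl [1, 3, 4, 5, 6, 7, 4, 3, 2, 1, 3, 4, 5, 6, 0, 2, 3, 4, 5, 1, 3, 4, 2, 3, 0, 2, 1, 3, 4, 5, 6, 7]), (6, .inr 2), (7, .inr 0)]),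
   ([2, 3, 4, 5, 6, 7, 3, 2, 1, 3, 4, 5, 6, 0, 2, 3, 4, 5, 1, 3, 4, 2, 3, 0, 2, 1, 3, 4, 5, 6, 7], [(0, .inl [0, 2, 3, 4, 5, 6, 7, 3, 2, 1, 3, 4, 5, 6, 0, 2, 3, 4, 5, 1, 3, 4, 2, 3, 0, 2, 1, 3, 4, 5, 6, 7]), (1, .inl [2, 1, 3, 4, 5, 6, 7, 3, 2, 1, 3, 4, 5, 6, 0, 2, 3, 4, 5, 1, 3, 4, 2, 3, 0, 2, 1, 3, 4, 5, 6, 7]), (2, .inl [3, 4, 5, 6, 7, 3, 2, 1, 3, 4, 5, 6, 0, 2, 3, 4, 5, 1, 3, 4, 2, 3, 0, 2, 1, 3, 4, 5, 6, 7]), (3, .inr 4), (4, .inl [2, 3, 4, 5, 6, 7, 2, 1, 3, 4, 5, 6, 0, 2, 3, 4, 5, 1, 3, 4, 2, 3, 0, 2, 1, 3, 4, 5, 6, 7]), (5, .inl [2, 3, 4, 5, 6, 7, 4, 3, 2, 1, 3, 4, 5, 6, 0, 2, 3, 4, 5, 1, 3, 4, 2, 3, 0, 2, 1, 3, 4, 5, 6, 7]), (6, .inr 2), (7, .inr 0)]),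
   ([2, 1, 3, 4, 5, 6, 7, 2, 1, 3, 4, 5, 6, 0, 2, 3, 4, 5, 1, 3, 4, 2, 3, 0, 2, 1, 3, 4, 5, 6, 7], [(0, .inl [0, 2, 1, 3, 4, 5, 6, 7, 2, 1, 3, 4, 5, 6, 0, 2, 3, 4, 5, 1, 3, 4, 2, 3, 0, 2, 1, 3, 4, 5, 6, 7]), (1, .inl [2, 3, 4, 5, 6, 7, 2, 1, 3, 4, 5, 6, 0, 2, 3, 4, 5, 1, 3, 4, 2, 3, 0, 2, 1, 3, 4, 5, 6, 7]), (2, .inl [1, 3, 4, 5, 6, 7, 2, 1, 3, 4, 5, 6, 0, 2, 3, 4, 5, 1, 3, 4, 2, 3, 0, 2, 1, 3, 4, 5, 6, 7]), (3, .inr 6), (4, .inl [2, 1, 3, 4, 5, 6, 7, 3, 2, 1, 3, 4, 5, 6, 0, 2, 3, 4, 5, 1, 3, 4, 2, 3, 0, 2, 1, 3, 4, 5, 6, 7]), (5, .inr 3), (6, .inr 2), (7, .inr 0)]),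
   ([0, 2, 3, 4, 5, 6, 7, 2, 1, 3, 4, 5, 6, 0, 2, 3, 4, 5, 1, 3, 4, 2, 3, 0, 2, 1, 3, 4, 5, 6, 7], [(0, .inl [2, 3, 4, 5, 6, 7, 2, 1, 3, 4, 5, 6, 0, 2, 3, 4, 5, 1, 3, 4, 2, 3, 0, 2, 1, 3, 4, 5, 6, 7]), (1, .inl [0, 2, 1, 3, 4, 5, 6, 7, 2, 1, 3, 4, 5, 6, 0, 2, 3, 4, 5, 1, 3, 4, 2, 3, 0, 2, 1, 3, 4, 5, 6, 7]), (2, .inr 5), (3, .inl [0, 2, 3, 4, 5, 6, 7, 1, 3, 4, 5, 6, 0, 2, 3, 4, 5, 1, 3, 4, 2, 3, 0, 2, 1, 3, 4, 5, 6, 7]), (4, .inl [0, 2, 3, 4, 5, 6, 7, 3, 2, 1, 3, 4, 5, 6, 0, 2, 3, 4, 5, 1, 3, 4, 2, 3, 0, 2, 1, 3, 4, 5, 6, 7]), (5, .inr 3), (6, .inr 2), (7, .inr 0)]),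
   ([4, 5, 6, 7, 6, 5, 4, 3, 2, 1, 3, 4, 5, 6, 0, 2, 3, 4, 5, 1, 3, 4, 2, 3, 0, 2, 1, 3, 4, 5, 6, 7], [(0, .inr 5), (1, .inr 1), (2, .inr 4), (3, .inl [3, 4, 5, 6, 7, 6, 5, 4, 3, 2, 1, 3, 4, 5, 6, 0, 2, 3, 4, 5, 1, 3, 4, 2, 3, 0, 2, 1, 3, 4, 5, 6, 7]), (4, .inl [5, 6, 7, 6, 5, 4, 3, 2, 1, 3, 4, 5, 6, 0, 2, 3, 4, 5, 1, 3, 4, 2, 3, 0, 2, 1, 3, 4, 5, 6, 7]), (5, .inr 2), (6, .inr 0), (7, .inl [4, 5, 6, 7, 5, 4, 3, 2, 1, 3, 4, 5, 6, 0, 2, 3, 4, 5, 1, 3, 4, 2, 3, 0, 2, 1, 3, 4, 5, 6, 7])]),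
   ([3, 4, 5, 6, 7, 5, 4, 3, 2, 1, 3, 4, 5, 6, 0, 2, 3, 4, 5, 1, 3, 4, 2, 3, 0, 2, 1, 3, 4, 5, 6, 7], [(0, .inr 5), (1, .inl [1, 3, 4, 5, 6, 7, 5, 4, 3, 2, 1, 3, 4, 5, 6, 0, 2, 3, 4, 5, 1, 3, 4, 2, 3, 0, 2, 1, 3, 4, 5, 6, 7]), (2, .inl [2, 3, 4, 5, 6, 7, 5, 4, 3, 2, 1, 3, 4, 5, 6, 0, 2, 3, 4, 5, 1, 3, 4, 2, 3, 0, 2, 1, 3, 4, 5, 6, 7]), (3, .inl [4, 5, 6, 7, 5, 4, 3, 2, 1, 3, 4, 5, 6, 0, 2, 3, 4, 5, 1, 3, 4, 2, 3, 0, 2, 1, 3, 4, 5, 6, 7]), (4, .inr 3), (5, .inr 2), (6, .inl [3, 4, 5, 6, 7, 4, 3, 2, 1, 3, 4, 5, 6, 0, 2, 3, 4, 5, 1, 3, 4, 2, 3, 0, 2, 1, 3, 4, 5, 6, 7]), (7, .inl [3, 4, 5, 6, 7, 6, 5, 4, 3, 2, 1, 3, 4, 5, 6, 0, 2, 3, 4, 5, 1, 3, 4, 2, 3, 0, 2, 1, 3, 4, 5, 6, 7])]),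
   ([1, 3, 4, 5, 6, 7, 4, 3, 2, 1, 3, 4, 5, 6, 0, 2, 3, 4, 5, 1, 3, 4, 2, 3, 0, 2, 1, 3, 4, 5, 6, 7], [(0, .inr 5), (1, .inl [3, 4, 5, 6, 7, 4, 3, 2, 1, 3, 4, 5, 6, 0, 2, 3, 4, 5, 1, 3, 4, 2, 3, 0, 2, 1, 3, 4, 5, 6, 7]), (2, .inl [2, 1, 3, 4, 5, 6, 7, 4, 3, 2, 1, 3, 4, 5, 6, 0, 2, 3, 4, 5, 1, 3, 4, 2, 3, 0, 2, 1, 3, 4, 5, 6, 7]), (3, .inr 1), (4, .inr 3), (5, .inl [1, 3, 4, 5, 6, 7, 3, 2, 1, 3, 4, 5, 6, 0, 2, 3, 4, 5, 1, 3, 4, 2, 3, 0, 2, 1, 3, 4, 5, 6, 7]), (6, .inl [1, 3, 4, 5, 6, 7, 5, 4, 3, 2, 1, 3, 4, 5, 6, 0, 2, 3, 4, 5, 1, 3, 4, 2, 3, 0, 2, 1, 3, 4, 5, 6, 7]), (7, .inr 0)]),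
   ([2, 3, 4, 5, 6, 7, 4, 3, 2, 1, 3, 4, 5, 6, 0, 2, 3, 4, 5, 1, 3, 4, 2, 3, 0, 2, 1, 3, 4, 5, 6, 7], [(0, .inl [0, 2, 3, 4, 5, 6, 7, 4, 3, 2, 1, 3, 4, 5, 6, 0, 2, 3, 4, 5, 1, 3, 4, 2, 3, 0, 2, 1, 3, 4, 5, 6, 7]), (1, .inl [2, 1, 3, 4, 5, 6, 7, 4, 3, 2, 1, 3, 4, 5, 6, 0, 2, 3, 4, 5, 1, 3, 4, 2, 3, 0, 2, 1, 3, 4, 5, 6, 7]), (2, .inl [3, 4, 5, 6, 7, 4, 3, 2, 1, 3, 4, 5, 6, 0, 2, 3, 4, 5, 1, 3, 4, 2, 3, 0, 2, 1, 3, 4, 5, 6, 7]), (3, .inr 4), (4, .inr 3), (5, .inl [2, 3, 4, 5, 6, 7, 3, 2, 1, 3, 4, 5, 6, 0, 2, 3, 4, 5, 1, 3, 4, 2, 3, 0, 2, 1, 3, 4, 5, 6, 7]), (6, .inl [2, 3, 4, 5, 6, 7, 5, 4, 3, 2, 1, 3, 4, 5, 6, 0, 2, 3, 4, 5, 1, 3, 4, 2, 3, 0, 2, 1, 3, 4, 5, 6, 7]), (7, .inr 0)]),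
   ([2, 1, 3, 4, 5, 6, 7, 3, 2, 1, 3, 4, 5, 6, 0, 2, 3, 4, 5, 1, 3, 4, 2, 3, 0, 2, 1, 3, 4, 5, 6, 7], [(0, .inl [0, 2, 1, 3, 4, 5, 6, 7, 3, 2, 1, 3, 4, 5, 6, 0, 2, 3, 4, 5, 1, 3, 4, 2, 3, 0, 2, 1, 3, 4, 5, 6, 7]), (1, .inl [2, 3, 4, 5, 6, 7, 3, 2, 1, 3, 4, 5, 6, 0, 2, 3, 4, 5, 1, 3, 4, 2, 3, 0, 2, 1, 3, 4, 5, 6, 7]), (2, .inl [1, 3, 4, 5, 6, 7, 3, 2, 1, 3, 4, 5, 6, 0, 2, 3, 4, 5, 1, 3, 4, 2, 3, 0, 2, 1, 3, 4, 5, 6, 7]), (3, .inl [3, 2, 1, 3, 4, 5, 6, 7, 3, 2, 1, 3, 4, 5, 6, 0, 2, 3, 4, 5, 1, 3, 4, 2, 3, 0, 2, 1, 3, 4, 5, 6, 7]), (4, .inl [2, 1, 3, 4, 5, 6, 7, 2, 1, 3, 4, 5, 6, 0, 2, 3, 4, 5, 1, 3, 4, 2, 3, 0, 2, 1, 3, 4, 5, 6, 7]), (5, .inl [2, 1, 3, 4, 5, 6, 7, 4, 3, 2, 1,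 3, 4, 5, 6, 0, 2, 3, 4, 5, 1, 3, 4, 2, 3, 0, 2, 1, 3, 4, 5, 6, 7]), (6, .inr 2), (7, .inr 0)]),
   ([0, 2, 3, 4, 5, 6, 7, 3, 2, 1, 3, 4, 5, 6, 0, 2, 3, 4, 5, 1, 3, 4, 2, 3, 0, 2, 1, 3, 4, 5, 6, 7], [(0, .inl [2, 3, 4, 5, 6, 7, 3, 2, 1, 3, 4, 5, 6, 0, 2, 3, 4, 5, 1, 3, 4, 2, 3, 0, 2, 1, 3, 4, 5, 6, 7]), (1, .inl [0, 2, 1, 3, 4, 5, 6, 7, 3, 2, 1, 3, 4, 5, 6, 0, 2, 3, 4, 5, 1, 3, 4, 2, 3, 0, 2, 1, 3, 4, 5, 6, 7]), (2, .inr 5), (3, .inr 4), (4, .inl [0, 2, 3, 4, 5, 6, 7, 2, 1, 3, 4, 5, 6, 0, 2, 3, 4, 5, 1, 3, 4, 2, 3, 0, 2, 1, 3, 4, 5, 6, 7]), (5, .inl [0, 2, 3, 4, 5, 6, 7, 4, 3, 2, 1, 3, 4, 5, 6, 0, 2, 3, 4, 5, 1, 3, 4, 2, 3, 0, 2, 1, 3, 4, 5, 6, 7]), (6, .inr 2), (7, .inr 0)]),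
   ([0, 2, 1, 3, 4, 5, 6, 7, 2, 1, 3, 4, 5, 6, 0, 2, 3, 4, 5, 1, 3, 4, 2, 3, 0, 2, 1, 3, 4, 5, 6, 7], [(0, .inl [2, 1, 3, 4, 5, 6, 7, 2, 1, 3, 4, 5, 6, 0, 2, 3, 4, 5, 1, 3, 4, 2, 3, 0, 2, 1, 3, 4, 5, 6, 7]), (1, .inl [0, 2, 3, 4, 5, 6, 7, 2, 1, 3, 4, 5, 6, 0, 2, 3, 4, 5, 1, 3, 4, 2, 3, 0, 2, 1, 3, 4, 5, 6, 7]), (2, .inr 5), (3, .inr 6), (4, .inl [0, 2, 1, 3, 4, 5, 6, 7, 3, 2, 1, 3, 4, 5, 6, 0, 2, 3, 4, 5, 1, 3, 4, 2, 3, 0, 2, 1, 3, 4, 5, 6, 7]), (5, .inr 3), (6, .inr 2), (7, .inr 0)]),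
   ([3, 4, 5, 6, 7, 6, 5, 4, 3, 2, 1, 3, 4, 5, 6, 0, 2, 3, 4, 5, 1, 3, 4, 2, 3, 0, 2, 1, 3, 4, 5, 6, 7], [(0, .inr 5), (1, .inl [1, 3, 4, 5, 6, 7, 6, 5, 4, 3, 2, 1, 3, 4, 5, 6, 0, 2, 3, 4, 5, 1, 3, 4, 2, 3, 0, 2, 1, 3, 4, 5, 6, 7]), (2, .inl [2, 3, 4, 5, 6, 7, 6, 5, 4, 3, 2, 1, 3, 4, 5, 6, 0, 2, 3, 4, 5, 1, 3, 4, 2, 3, 0, 2, 1, 3, 4, 5, 6, 7]), (3, .inl [4, 5, 6, 7, 6, 5, 4, 3, 2, 1, 3, 4, 5, 6, 0, 2, 3, 4, 5, 1, 3, 4, 2, 3, 0, 2, 1, 3, 4, 5, 6, 7]), (4, .inr 3), (5, .inr 2), (6, .inr 0), (7, .inl [3, 4, 5, 6, 7, 5, 4, 3, 2, 1, 3, 4, 5, 6, 0, 2, 3, 4, 5, 1, 3, 4, 2, 3, 0, 2, 1, 3, 4, 5, 6, 7])]),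
   ([1, 3, 4, 5, 6, 7, 5, 4, 3, 2, 1, 3, 4, 5, 6, 0, 2, 3, 4, 5, 1, 3, 4, 2, 3, 0, 2, 1, 3, 4, 5, 6, 7], [(0, .inr 5), (1, .inl [3, 4, 5, 6, 7, 5, 4, 3, 2, 1, 3, 4, 5, 6, 0, 2, 3, 4, 5, 1, 3, 4, 2, 3, 0, 2, 1, 3, 4, 5, 6, 7]), (2, .inl [2, 1, 3, 4, 5, 6, 7, 5, 4, 3, 2, 1, 3, 4, 5, 6, 0, 2, 3, 4, 5, 1, 3, 4, 2, 3, 0, 2, 1, 3, 4, 5, 6, 7]), (3, .inr 1), (4, .inr 3), (5, .inr 2), (6, .inl [1, 3, 4, 5, 6, 7, 4, 3, 2, 1, 3, 4, 5, 6, 0, 2, 3, 4, 5, 1, 3, 4, 2, 3, 0, 2, 1, 3, 4, 5, 6, 7]), (7, .inl [1, 3, 4, 5, 6, 7, 6, 5, 4, 3, 2, 1, 3, 4, 5, 6, 0, 2, 3, 4, 5, 1, 3, 4, 2, 3, 0, 2, 1, 3, 4, 5, 6, 7])]),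
   ([2, 3, 4, 5, 6, 7, 5, 4, 3, 2, 1, 3, 4, 5, 6, 0, 2, 3, 4, 5, 1, 3, 4, 2, 3, 0, 2, 1, 3, 4, 5, 6, 7], [(0, .inl [0, 2, 3, 4, 5, 6, 7, 5, 4, 3, 2, 1, 3, 4, 5, 6, 0, 2, 3, 4, 5, 1, 3, 4, 2, 3, 0, 2, 1, 3, 4, 5, 6, 7]), (1, .inl [2, 1, 3, 4, 5, 6, 7, 5, 4, 3, 2, 1, 3, 4, 5, 6, 0, 2, 3, 4, 5, 1, 3, 4, 2, 3, 0, 2, 1, 3, 4, 5, 6, 7]), (2, .inl [3, 4, 5, 6, 7, 5, 4, 3, 2, 1, 3, 4, 5, 6, 0, 2, 3, 4, 5, 1, 3, 4, 2, 3, 0, 2, 1, 3, 4, 5, 6, 7]), (3, .inr 4), (4, .inr 3), (5, .inr 2), (6, .inl [2, 3, 4, 5, 6, 7, 4, 3, 2, 1, 3, 4, 5, 6, 0, 2, 3, 4, 5, 1, 3, 4, 2, 3, 0, 2, 1, 3, 4, 5, 6, 7]), (7, .inl [2, 3, 4, 5, 6, 7, 6, 5, 4, 3, 2, 1, 3, 4, 5, 6, 0, 2, 3, 4, 5, 1, 3, 4, 2, 3, 0, 2,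 1, 3, 4, 5, 6, 7])]),
   ([2, 1, 3, 4, 5, 6, 7, 4, 3, 2, 1, 3, 4, 5, 6, 0, 2, 3, 4, 5, 1, 3, 4, 2, 3, 0, 2, 1, 3, 4, 5, 6, 7], [(0, .inl [0, 2, 1, 3, 4, 5, 6, 7, 4, 3, 2, 1, 3, 4, 5, 6, 0, 2, 3, 4, 5, 1, 3, 4, 2, 3, 0, 2, 1, 3, 4, 5, 6, 7]), (1, .inl [2, 3, 4, 5, 6, 7, 4, 3, 2, 1, 3, 4, 5, 6, 0, 2, 3, 4, 5, 1, 3, 4, 2, 3, 0, 2, 1, 3, 4, 5, 6, 7]), (2, .inl [1, 3, 4, 5, 6, 7, 4, 3, 2, 1, 3, 4, 5, 6, 0, 2, 3, 4, 5, 1, 3, 4, 2, 3, 0, 2, 1, 3, 4, 5, 6, 7]), (3, .inl [3, 2, 1, 3, 4, 5, 6, 7, 4, 3, 2, 1, 3, 4, 5, 6, 0, 2, 3, 4, 5, 1, 3, 4, 2, 3, 0, 2, 1, 3, 4, 5, 6, 7]), (4, .inr 3), (5, .inl [2, 1, 3, 4, 5, 6, 7, 3, 2, 1, 3, 4, 5, 6, 0, 2, 3, 4, 5, 1, 3, 4, 2, 3, 0, 2, 1, 3, 4, 5,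 6, 7]), (6, .inl [2, 1, 3, 4, 5, 6, 7, 5, 4, 3, 2, 1, 3, 4, 5, 6, 0, 2, 3, 4, 5, 1, 3, 4, 2, 3, 0, 2, 1, 3, 4, 5, 6, 7]), (7, .inr 0)]),
   ([0, 2, 3, 4, 5, 6, 7, 4, 3, 2, 1, 3, 4, 5, 6, 0, 2, 3, 4, 5, 1, 3, 4, 2, 3, 0, 2, 1, 3, 4, 5, 6, 7], [(0, .inl [2, 3, 4, 5, 6, 7, 4, 3, 2, 1, 3, 4, 5, 6, 0, 2, 3, 4, 5, 1, 3, 4, 2, 3, 0, 2, 1, 3, 4, 5, 6, 7]), (1, .inl [0, 2, 1, 3, 4, 5, 6, 7, 4, 3, 2, 1, 3, 4, 5, 6, 0, 2, 3, 4, 5, 1, 3, 4, 2, 3, 0, 2, 1, 3, 4, 5, 6, 7]), (2, .inr 5), (3, .inr 4), (4, .inr 3), (5, .inl [0, 2, 3, 4, 5, 6, 7, 3, 2, 1, 3, 4, 5, 6, 0, 2, 3, 4, 5, 1, 3, 4, 2, 3, 0, 2, 1, 3, 4, 5, 6, 7]), (6, .inl [0, 2, 3, 4, 5, 6, 7, 5, 4, 3, 2, 1, 3, 4, 5, 6, 0, 2, 3, 4, 5,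 1, 3, 4, 2, 3, 0, 2, 1, 3, 4, 5, 6, 7]), (7, .inr 0)]),
   ([0, 2, 1, 3, 4, 5, 6, 7, 3, 2, 1, 3, 4, 5, 6, 0, 2, 3, 4, 5, 1, 3, 4, 2, 3, 0, 2, 1, 3, 4, 5, 6, 7], [(0, .inl [2, 1, 3, 4, 5, 6, 7, 3, 2, 1, 3, 4, 5, 6, 0, 2, 3, 4, 5, 1, 3, 4, 2, 3, 0, 2, 1, 3, 4, 5, 6, 7]), (1, .inl [0, 2, 3, 4, 5, 6, 7, 3, 2, 1, 3, 4, 5, 6, 0, 2, 3, 4, 5, 1, 3, 4, 2, 3, 0, 2, 1, 3, 4, 5, 6, 7]), (2, .inr 5), (3, .inl [3, 0, 2, 1, 3, 4, 5, 6, 7, 3, 2, 1, 3, 4, 5, 6, 0, 2, 3, 4, 5, 1, 3, 4, 2, 3, 0, 2, 1, 3, 4, 5, 6, 7]), (4, .inl [0, 2, 1, 3, 4, 5, 6, 7, 2, 1, 3, 4, 5, 6, 0, 2, 3, 4, 5, 1, 3, 4, 2, 3, 0, 2, 1, 3, 4, 5, 6, 7]), (5, .inl [0, 2, 1, 3, 4, 5, 6, 7, 4, 3, 2, 1, 3, 4, 5, 6, 0, 2, 3, 4,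 5, 1, 3, 4, 2, 3, 0, 2, 1, 3, 4, 5, 6, 7]), (6, .inr 2), (7, .inr 0)]),
   ([3, 2, 1, 3, 4, 5, 6, 7, 3, 2, 1, 3, 4, 5, 6, 0, 2, 3, 4, 5, 1, 3, 4, 2, 3, 0, 2, 1, 3, 4, 5, 6, 7], [(0, .inl [3, 0, 2, 1, 3, 4, 5, 6, 7, 3, 2, 1, 3, 4, 5, 6, 0, 2, 3, 4, 5, 1, 3, 4, 2, 3, 0, 2, 1, 3, 4, 5, 6, 7]), (1, .inr 4), (2, .inr 1), (3, .inl [2, 1, 3, 4, 5, 6, 7, 3, 2, 1, 3, 4, 5, 6, 0, 2, 3, 4, 5, 1, 3, 4, 2, 3, 0, 2, 1, 3, 4, 5, 6, 7]), (4, .inr 6), (5, .inl [3, 2, 1, 3, 4, 5, 6, 7, 4, 3, 2, 1, 3, 4, 5, 6, 0, 2, 3, 4, 5, 1, 3, 4, 2, 3, 0, 2, 1, 3, 4, 5, 6, 7]), (6, .inr 2), (7, .inr 0)]),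
   ([1, 3, 4, 5, 6, 7, 6, 5, 4, 3, 2, 1, 3, 4, 5, 6, 0, 2, 3, 4, 5, 1, 3, 4, 2, 3, 0, 2, 1, 3, 4, 5, 6, 7], [(0, .inr 5), (1, .inl [3, 4, 5, 6, 7, 6, 5, 4, 3, 2, 1, 3, 4, 5, 6, 0, 2, 3, 4, 5, 1, 3, 4, 2, 3, 0, 2, 1, 3, 4, 5, 6, 7]), (2, .inl [2, 1, 3, 4, 5, 6, 7, 6, 5, 4, 3, 2, 1, 3, 4, 5, 6, 0, 2, 3, 4, 5, 1, 3, 4, 2, 3, 0, 2, 1, 3, 4, 5, 6, 7]), (3, .inr 1), (4, .inr 3), (5, .inr 2), (6, .inr 0), (7, .inl [1, 3, 4, 5, 6, 7, 5, 4, 3, 2, 1, 3, 4, 5, 6, 0, 2, 3, 4, 5, 1, 3, 4, 2, 3, 0, 2, 1, 3, 4, 5, 6, 7])]),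
   ([2, 3, 4, 5, 6, 7, 6, 5, 4, 3, 2, 1, 3, 4, 5, 6, 0, 2, 3, 4, 5, 1, 3, 4, 2, 3, 0, 2, 1, 3, 4, 5, 6, 7], [(0, .inl [0, 2, 3, 4, 5, 6, 7, 6, 5, 4, 3, 2, 1, 3, 4, 5, 6, 0, 2, 3, 4, 5, 1, 3, 4, 2, 3, 0, 2, 1, 3, 4, 5, 6, 7]), (1, .inl [2, 1, 3, 4, 5, 6, 7, 6, 5, 4, 3, 2, 1, 3, 4, 5, 6, 0, 2, 3, 4, 5, 1, 3, 4, 2, 3, 0, 2, 1, 3, 4, 5, 6, 7]), (2, .inl [3, 4, 5, 6, 7, 6, 5, 4, 3, 2, 1, 3, 4, 5, 6, 0, 2, 3, 4, 5, 1, 3, 4, 2, 3, 0, 2, 1, 3, 4, 5, 6, 7]), (3, .inr 4), (4, .inr 3), (5, .inr 2), (6, .inr 0), (7, .inl [2, 3, 4, 5, 6, 7, 5, 4, 3, 2, 1, 3, 4, 5, 6, 0, 2, 3, 4, 5, 1, 3, 4, 2, 3, 0, 2, 1, 3, 4, 5, 6, 7])]),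
   ([2, 1, 3, 4, 5, 6, 7, 5, 4, 3, 2, 1, 3, 4, 5, 6, 0, 2, 3, 4, 5, 1, 3, 4, 2, 3, 0, 2, 1, 3, 4, 5, 6, 7], [(0, .inl [0, 2, 1, 3, 4, 5, 6, 7, 5, 4, 3, 2, 1, 3, 4, 5, 6, 0, 2, 3, 4, 5, 1, 3, 4, 2, 3, 0, 2, 1, 3, 4, 5, 6, 7]), (1, .inl [2, 3, 4, 5, 6, 7, 5, 4, 3, 2, 1, 3, 4, 5, 6, 0, 2, 3, 4, 5, 1, 3, 4, 2, 3, 0, 2, 1, 3, 4, 5, 6, 7]), (2, .inl [1, 3, 4, 5, 6, 7, 5, 4, 3, 2, 1, 3, 4, 5, 6, 0, 2, 3, 4, 5, 1, 3, 4, 2, 3, 0, 2, 1, 3, 4, 5, 6, 7]), (3, .inl [3, 2, 1, 3, 4, 5, 6, 7, 5, 4, 3, 2, 1, 3, 4, 5, 6, 0, 2, 3, 4, 5, 1, 3, 4, 2, 3, 0, 2, 1, 3, 4, 5, 6, 7]), (4, .inr 3), (5, .inr 2), (6, .inl [2, 1, 3, 4, 5, 6, 7, 4, 3, 2, 1, 3, 4, 5, 6, 0, 2, 3, 4, 5, 1, 3, 4, 2, 3, 0, 2, 1,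 3, 4, 5, 6, 7]), (7, .inl [2, 1, 3, 4, 5, 6, 7, 6, 5, 4, 3, 2, 1, 3, 4, 5, 6, 0, 2, 3, 4, 5, 1, 3, 4, 2, 3, 0, 2, 1, 3, 4, 5, 6, 7])]),
   ([0, 2, 3, 4, 5, 6, 7, 5, 4, 3, 2, 1, 3, 4, 5, 6, 0, 2, 3, 4, 5, 1, 3, 4, 2, 3, 0, 2, 1, 3, 4, 5, 6, 7], [(0, .inl [2, 3, 4, 5, 6, 7, 5, 4, 3, 2, 1, 3, 4, 5, 6, 0, 2, 3, 4, 5, 1, 3, 4, 2, 3, 0, 2, 1, 3, 4, 5, 6, 7]), (1, .inl [0, 2, 1, 3, 4, 5, 6, 7, 5, 4, 3, 2, 1, 3, 4, 5, 6, 0, 2, 3, 4, 5, 1, 3, 4, 2, 3, 0, 2, 1, 3, 4, 5, 6, 7]), (2, .inr 5), (3, .inr 4), (4, .inr 3), (5, .inr 2), (6, .inl [0, 2, 3, 4, 5, 6, 7, 4, 3, 2, 1, 3, 4, 5, 6, 0, 2, 3, 4, 5, 1, 3, 4, 2, 3, 0, 2, 1, 3, 4, 5, 6, 7]), (7, .inl [0, 2, 3, 4, 5, 6, 7, 6, 5, 4, 3, 2, 1,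 3, 4, 5, 6, 0, 2, 3, 4, 5, 1, 3, 4, 2, 3, 0, 2, 1, 3, 4, 5, 6, 7])]),
   ([0, 2, 1, 3, 4, 5, 6, 7, 4, 3, 2, 1, 3, 4, 5, 6, 0, 2, 3, 4, 5, 1, 3, 4, 2, 3, 0, 2, 1, 3, 4, 5, 6, 7], [(0, .inl [2, 1, 3, 4, 5, 6, 7, 4, 3, 2, 1, 3, 4, 5, 6, 0, 2, 3, 4, 5, 1, 3, 4, 2, 3, 0, 2, 1, 3, 4, 5, 6, 7]), (1, .inl [0, 2, 3, 4, 5, 6, 7, 4, 3, 2, 1, 3, 4, 5, 6, 0, 2, 3, 4, 5, 1, 3, 4, 2, 3, 0, 2, 1, 3, 4, 5, 6, 7]), (2, .inr 5), (3, .inl [3, 0, 2, 1, 3, 4, 5, 6, 7, 4, 3, 2, 1, 3, 4, 5, 6, 0, 2, 3, 4, 5, 1, 3, 4, 2, 3, 0, 2, 1, 3, 4, 5, 6, 7]), (4, .inr 3), (5, .inl [0, 2, 1, 3, 4, 5, 6, 7, 3, 2, 1, 3, 4, 5, 6, 0, 2, 3, 4, 5, 1, 3, 4, 2, 3, 0, 2, 1, 3, 4, 5, 6, 7]), (6, .inl [0, 2, 1, 3, 4, 5,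 6, 7, 5, 4, 3, 2, 1, 3, 4, 5, 6, 0, 2, 3, 4, 5, 1, 3, 4, 2, 3, 0, 2, 1, 3, 4, 5, 6, 7]), (7, .inr 0)]),
   ([3, 2, 1, 3, 4, 5, 6, 7, 4, 3, 2, 1, 3, 4, 5, 6, 0, 2, 3, 4, 5, 1, 3, 4, 2, 3, 0, 2, 1, 3, 4, 5, 6, 7], [(0, .inl [3, 0, 2, 1, 3, 4, 5, 6, 7, 4, 3, 2, 1, 3, 4, 5, 6, 0, 2, 3, 4, 5, 1, 3, 4, 2, 3, 0, 2, 1, 3, 4, 5, 6, 7]), (1, .inr 4), (2, .inr 1), (3, .inl [2, 1, 3, 4, 5, 6, 7, 4, 3, 2, 1, 3, 4, 5, 6, 0, 2, 3, 4, 5, 1, 3, 4, 2, 3, 0, 2, 1, 3, 4, 5, 6, 7]), (4, .inl [4, 3, 2, 1, 3, 4, 5, 6, 7, 4, 3, 2, 1, 3, 4, 5, 6, 0, 2, 3, 4, 5, 1, 3, 4, 2, 3, 0, 2, 1, 3, 4, 5, 6, 7]), (5, .inl [3, 2, 1, 3, 4, 5, 6, 7, 3, 2, 1, 3, 4, 5, 6, 0, 2, 3, 4, 5, 1, 3, 4, 2, 3, 0, 2, 1, 3, 4,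 5, 6, 7]), (6, .inl [3, 2, 1, 3, 4, 5, 6, 7, 5, 4, 3, 2, 1, 3, 4, 5, 6, 0, 2, 3, 4, 5, 1, 3, 4, 2, 3, 0, 2, 1, 3, 4, 5, 6, 7]), (7, .inr 0)]),
   ([3, 0, 2, 1, 3, 4, 5, 6, 7, 3, 2, 1, 3, 4, 5, 6, 0, 2, 3, 4, 5, 1, 3, 4, 2, 3, 0, 2, 1, 3, 4, 5, 6, 7], [(0, .inl [3, 2, 1, 3, 4, 5, 6, 7, 3, 2, 1, 3, 4, 5, 6, 0, 2, 3, 4, 5, 1, 3, 4, 2, 3, 0, 2, 1, 3, 4, 5, 6, 7]), (1, .inr 4), (2, .inl [2, 3, 0, 2, 1, 3, 4, 5, 6, 7, 3, 2, 1, 3, 4, 5, 6, 0, 2, 3, 4, 5, 1, 3, 4, 2, 3, 0, 2, 1, 3, 4, 5, 6, 7]), (3, .inl [0, 2, 1, 3, 4, 5, 6, 7, 3, 2, 1, 3, 4, 5, 6, 0, 2, 3, 4, 5, 1, 3, 4, 2, 3, 0, 2, 1, 3, 4, 5, 6, 7]), (4, .inr 6), (5, .inl [3, 0, 2, 1, 3, 4, 5, 6, 7, 4, 3, 2, 1, 3, 4, 5, 6, 0, 2,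 3, 4, 5, 1, 3, 4, 2, 3, 0, 2, 1, 3, 4, 5, 6, 7]), (6, .inr 2), (7, .inr 0)]),
   ([2, 1, 3, 4, 5, 6, 7, 6, 5, 4, 3, 2, 1, 3, 4, 5, 6, 0, 2, 3, 4, 5, 1, 3, 4, 2, 3, 0, 2, 1, 3, 4, 5, 6, 7], [(0, .inl [0, 2, 1, 3, 4, 5, 6, 7, 6, 5, 4, 3, 2, 1, 3, 4, 5, 6, 0, 2, 3, 4, 5, 1, 3, 4, 2, 3, 0, 2, 1, 3, 4, 5, 6, 7]), (1, .inl [2, 3, 4, 5, 6, 7, 6, 5, 4, 3, 2, 1, 3, 4, 5, 6, 0, 2, 3, 4, 5, 1, 3, 4, 2, 3, 0, 2, 1, 3, 4, 5, 6, 7]), (2, .inl [1, 3, 4, 5, 6, 7, 6, 5, 4, 3, 2, 1, 3, 4, 5, 6, 0, 2, 3, 4, 5, 1, 3, 4, 2, 3, 0, 2, 1, 3, 4, 5, 6, 7]), (3, .inl [3, 2, 1, 3, 4, 5, 6, 7, 6, 5, 4, 3, 2, 1, 3, 4, 5, 6, 0, 2, 3, 4, 5, 1, 3, 4, 2, 3, 0, 2, 1, 3, 4, 5, 6, 7]), (4, .inr 3), (5, .inr 2),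 (6, .inr 0), (7, .inl [2, 1, 3, 4, 5, 6, 7, 5, 4, 3, 2, 1, 3, 4, 5, 6, 0, 2, 3, 4, 5, 1, 3, 4, 2, 3, 0, 2, 1, 3, 4, 5, 6, 7])]),
   ([0, 2, 3, 4, 5, 6, 7, 6, 5, 4, 3, 2, 1, 3, 4, 5, 6, 0, 2, 3, 4, 5, 1, 3, 4, 2, 3, 0, 2, 1, 3, 4, 5, 6, 7], [(0, .inl [2, 3, 4, 5, 6, 7, 6, 5, 4, 3, 2, 1, 3, 4, 5, 6, 0, 2, 3, 4, 5, 1, 3, 4, 2, 3, 0, 2, 1, 3, 4, 5, 6, 7]), (1, .inl [0, 2, 1, 3, 4, 5, 6, 7, 6, 5, 4, 3, 2, 1, 3, 4, 5, 6, 0, 2, 3, 4, 5, 1, 3, 4, 2, 3, 0, 2, 1, 3, 4, 5, 6, 7]), (2, .inr 5), (3, .inr 4), (4, .inr 3), (5, .inr 2), (6, .inr 0), (7, .inl [0, 2, 3, 4, 5, 6, 7, 5, 4, 3, 2, 1, 3, 4, 5, 6, 0, 2, 3, 4, 5, 1, 3, 4, 2, 3, 0, 2, 1, 3, 4, 5, 6, 7])]),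
   ([0, 2, 1, 3, 4, 5, 6, 7, 5, 4, 3, 2, 1, 3, 4, 5, 6, 0, 2, 3, 4, 5, 1, 3, 4, 2, 3, 0, 2, 1, 3, 4, 5, 6, 7], [(0, .inl [2, 1, 3, 4, 5, 6, 7, 5, 4, 3, 2, 1, 3, 4, 5, 6, 0, 2, 3, 4, 5, 1, 3, 4, 2, 3, 0, 2, 1, 3, 4, 5, 6, 7]), (1, .inl [0, 2, 3, 4, 5, 6, 7, 5, 4, 3, 2, 1, 3, 4, 5, 6, 0, 2, 3, 4, 5, 1, 3, 4, 2, 3, 0, 2, 1, 3, 4, 5, 6, 7]), (2, .inr 5), (3, .inl [3, 0, 2, 1, 3, 4, 5, 6, 7, 5, 4, 3, 2, 1, 3, 4, 5, 6, 0, 2, 3, 4, 5, 1, 3, 4, 2, 3, 0, 2, 1, 3, 4, 5, 6, 7]), (4, .inr 3), (5, .inr 2), (6, .inl [0, 2, 1, 3, 4, 5, 6, 7, 4, 3, 2, 1, 3, 4, 5, 6, 0, 2, 3, 4, 5, 1, 3, 4, 2, 3, 0, 2, 1, 3, 4, 5, 6, 7]), (7, .inl [0, 2, 1, 3, 4, 5, 6, 7, 6, 5, 4, 3, 2, 1, 3, 4, 5, 6, 0, 2,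 3, 4, 5, 1, 3, 4, 2, 3, 0, 2, 1, 3, 4, 5, 6, 7])]),
   ([3, 2, 1, 3, 4, 5, 6, 7, 5, 4, 3, 2, 1, 3, 4, 5, 6, 0, 2, 3, 4, 5, 1, 3, 4, 2, 3, 0, 2, 1, 3, 4, 5, 6, 7], [(0, .inl [3, 0, 2, 1, 3, 4, 5, 6, 7, 5, 4, 3, 2, 1, 3, 4, 5, 6, 0, 2, 3, 4, 5, 1, 3, 4, 2, 3, 0, 2, 1, 3, 4, 5, 6, 7]), (1, .inr 4), (2, .inr 1), (3, .inl [2, 1, 3, 4, 5, 6, 7, 5, 4, 3, 2, 1, 3, 4, 5, 6, 0, 2, 3, 4, 5, 1, 3, 4, 2, 3, 0, 2, 1, 3, 4, 5, 6, 7]), (4, .inl [4, 3, 2, 1, 3, 4, 5, 6, 7, 5, 4, 3, 2, 1, 3, 4, 5, 6, 0, 2, 3, 4, 5, 1, 3, 4, 2, 3, 0, 2, 1, 3, 4, 5, 6, 7]), (5, .inr 2), (6, .inl [3, 2, 1, 3, 4, 5, 6, 7, 4, 3, 2, 1, 3, 4, 5, 6, 0, 2, 3, 4, 5, 1, 3, 4, 2, 3, 0, 2, 1, 3, 4, 5, 6, 7]), (7, .inl [3,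 2, 1, 3, 4, 5, 6, 7, 6, 5, 4, 3, 2, 1, 3, 4, 5, 6, 0, 2, 3, 4, 5, 1, 3, 4, 2, 3, 0, 2, 1, 3, 4, 5, 6, 7])]),
   ([3, 0, 2, 1, 3, 4, 5, 6, 7, 4, 3, 2, 1, 3, 4, 5, 6, 0, 2, 3, 4, 5, 1, 3, 4, 2, 3, 0, 2, 1, 3, 4, 5, 6, 7], [(0, .inl [3, 2, 1, 3, 4, 5, 6, 7, 4, 3, 2, 1, 3, 4, 5, 6, 0, 2, 3, 4, 5, 1, 3, 4, 2, 3, 0, 2, 1, 3, 4, 5, 6, 7]), (1, .inr 4), (2, .inl [2, 3, 0, 2, 1, 3, 4, 5, 6, 7, 4, 3, 2, 1, 3, 4, 5, 6, 0, 2, 3, 4, 5, 1, 3, 4, 2, 3, 0, 2, 1, 3, 4, 5, 6, 7]), (3, .inl [0, 2, 1, 3, 4, 5, 6, 7, 4, 3, 2, 1, 3, 4, 5, 6, 0, 2, 3, 4, 5, 1, 3, 4, 2, 3, 0, 2, 1, 3, 4, 5, 6, 7]), (4, .inl [4, 3, 0, 2, 1, 3, 4, 5, 6, 7, 4, 3, 2, 1, 3, 4, 5, 6, 0, 2, 3, 4, 5, 1, 3, 4, 2, 3, 0, 2, 1,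 3, 4, 5, 6, 7]), (5, .inl [3, 0, 2, 1, 3, 4, 5, 6, 7, 3, 2, 1, 3, 4, 5, 6, 0, 2, 3, 4, 5, 1, 3, 4, 2, 3, 0, 2, 1, 3, 4, 5, 6, 7]), (6, .inl [3, 0, 2, 1, 3, 4, 5, 6, 7, 5, 4, 3, 2, 1, 3, 4, 5, 6, 0, 2, 3, 4, 5, 1, 3, 4, 2, 3, 0, 2, 1, 3, 4, 5, 6, 7]), (7, .inr 0)]),
   ([4, 3, 2, 1, 3, 4, 5, 6, 7, 4, 3, 2, 1, 3, 4, 5, 6, 0, 2, 3, 4, 5, 1, 3, 4, 2, 3, 0, 2, 1, 3, 4, 5, 6, 7], [(0, .inl [4, 3, 0, 2, 1, 3, 4, 5, 6, 7, 4, 3, 2, 1, 3, 4, 5, 6, 0, 2, 3, 4, 5, 1, 3, 4, 2, 3, 0, 2, 1, 3, 4, 5, 6, 7]), (1, .inr 4), (2, .inr 1), (3, .inr 3), (4, .inl [3, 2, 1, 3, 4, 5, 6, 7, 4, 3, 2, 1, 3, 4, 5, 6, 0, 2, 3, 4, 5, 1, 3, 4, 2, 3, 0, 2, 1, 3, 4, 5, 6, 7]), (5, .inr 6), (6, .inl [4, 3, 2,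 1, 3, 4, 5, 6, 7, 5, 4, 3, 2, 1, 3, 4, 5, 6, 0, 2, 3, 4, 5, 1, 3, 4, 2, 3, 0, 2, 1, 3, 4, 5, 6, 7]), (7, .inr 0)]),
   ([2, 3, 0, 2, 1, 3, 4, 5, 6, 7, 3, 2, 1, 3, 4, 5, 6, 0, 2, 3, 4, 5, 1, 3, 4, 2, 3, 0, 2, 1, 3, 4, 5, 6, 7], [(0, .inr 1), (1, .inr 4), (2, .inl [3, 0, 2, 1, 3, 4, 5, 6, 7, 3, 2, 1, 3, 4, 5, 6, 0, 2, 3, 4, 5, 1, 3, 4, 2, 3, 0, 2, 1, 3, 4, 5, 6, 7]), (3, .inr 5), (4, .inr 6), (5, .inl [2, 3, 0, 2, 1, 3, 4, 5, 6, 7, 4, 3, 2, 1, 3, 4, 5, 6, 0, 2, 3, 4, 5, 1, 3, 4, 2, 3, 0, 2, 1, 3, 4, 5, 6, 7]), (6, .inr 2), (7, .inr 0)]),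
   ([0, 2, 1, 3, 4, 5, 6, 7, 6, 5, 4, 3, 2, 1, 3, 4, 5, 6, 0, 2, 3, 4, 5, 1, 3, 4, 2, 3, 0, 2, 1, 3, 4, 5, 6, 7], [(0, .inl [2, 1, 3, 4, 5, 6, 7, 6, 5, 4, 3, 2, 1, 3, 4, 5, 6, 0, 2, 3, 4, 5, 1, 3, 4, 2, 3, 0, 2, 1, 3, 4, 5, 6, 7]), (1, .inl [0, 2, 3, 4, 5, 6, 7, 6, 5, 4, 3, 2, 1, 3, 4, 5, 6, 0, 2, 3, 4, 5, 1, 3, 4, 2, 3, 0, 2, 1, 3, 4, 5, 6, 7]), (2, .inr 5), (3, .inl [3, 0, 2, 1, 3, 4, 5, 6, 7, 6, 5, 4, 3, 2, 1, 3, 4, 5, 6, 0, 2, 3, 4, 5, 1, 3, 4, 2, 3, 0, 2, 1, 3, 4, 5, 6, 7]), (4, .inr 3), (5, .inr 2), (6, .inr 0), (7, .inl [0, 2, 1, 3, 4, 5, 6, 7, 5, 4, 3, 2, 1, 3, 4, 5, 6, 0, 2, 3, 4, 5, 1, 3, 4, 2, 3, 0, 2, 1, 3, 4, 5, 6, 7])]),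
   ([3, 2, 1, 3, 4, 5, 6, 7, 6, 5, 4, 3, 2, 1, 3, 4, 5, 6, 0, 2, 3, 4, 5, 1, 3, 4, 2, 3, 0, 2, 1, 3, 4, 5, 6, 7], [(0, .inl [3, 0, 2, 1, 3, 4, 5, 6, 7, 6, 5, 4, 3, 2, 1, 3, 4, 5, 6, 0, 2, 3, 4, 5, 1, 3, 4, 2, 3, 0, 2, 1, 3, 4, 5, 6, 7]), (1, .inr 4), (2, .inr 1), (3, .inl [2, 1, 3, 4, 5, 6, 7, 6, 5, 4, 3, 2, 1, 3, 4, 5, 6, 0, 2, 3, 4, 5, 1, 3, 4, 2, 3, 0, 2, 1, 3, 4, 5, 6, 7]), (4, .inl [4, 3, 2, 1, 3, 4, 5, 6, 7, 6, 5, 4, 3, 2, 1, 3, 4, 5, 6, 0, 2, 3, 4, 5, 1, 3, 4, 2, 3, 0, 2, 1, 3, 4, 5, 6, 7]), (5, .inr 2), (6, .inr 0), (7, .inl [3, 2, 1, 3, 4, 5, 6, 7, 5, 4, 3, 2, 1, 3, 4, 5, 6, 0, 2, 3, 4, 5, 1, 3, 4, 2, 3, 0, 2, 1, 3, 4, 5, 6, 7])]),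
   ([3, 0, 2, 1, 3, 4, 5, 6, 7, 5, 4, 3, 2, 1, 3, 4, 5, 6, 0, 2, 3, 4, 5, 1, 3, 4, 2, 3, 0, 2, 1, 3, 4, 5, 6, 7], [(0, .inl [3, 2, 1, 3, 4, 5, 6, 7, 5, 4, 3, 2, 1, 3, 4, 5, 6, 0, 2, 3, 4, 5, 1, 3, 4, 2, 3, 0, 2, 1, 3, 4, 5, 6, 7]), (1, .inr 4), (2, .inl [2, 3, 0, 2, 1, 3, 4, 5, 6, 7, 5, 4, 3, 2, 1, 3, 4, 5, 6, 0, 2, 3, 4, 5, 1, 3, 4, 2, 3, 0, 2, 1, 3, 4, 5, 6, 7]), (3, .inl [0, 2, 1, 3, 4, 5, 6, 7, 5, 4, 3, 2, 1, 3, 4, 5, 6, 0, 2, 3, 4, 5, 1, 3, 4, 2, 3, 0, 2, 1, 3, 4, 5, 6, 7]), (4, .inl [4, 3, 0, 2, 1, 3, 4, 5, 6, 7, 5, 4, 3, 2, 1, 3, 4, 5, 6, 0, 2, 3, 4, 5, 1, 3, 4, 2, 3, 0, 2, 1, 3, 4, 5, 6, 7]), (5, .inr 2), (6, .inl [3, 0, 2, 1, 3, 4, 5, 6, 7, 4, 3, 2, 1, 3, 4, 5, 6, 0,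 2, 3, 4, 5, 1, 3, 4, 2, 3, 0, 2, 1, 3, 4, 5, 6, 7]), (7, .inl [3, 0, 2, 1, 3, 4, 5, 6, 7, 6, 5, 4, 3, 2, 1, 3, 4, 5, 6, 0, 2, 3, 4, 5, 1, 3, 4, 2, 3, 0, 2, 1, 3, 4, 5, 6, 7])]),
   ([4, 3, 2, 1, 3, 4, 5, 6, 7, 5, 4, 3, 2, 1, 3, 4, 5, 6, 0, 2, 3, 4, 5, 1, 3, 4, 2, 3, 0, 2, 1, 3, 4, 5, 6, 7], [(0, .inl [4, 3, 0, 2, 1, 3, 4, 5, 6, 7, 5, 4, 3, 2, 1, 3, 4, 5, 6, 0, 2, 3, 4, 5, 1, 3, 4, 2, 3, 0, 2, 1, 3, 4, 5, 6, 7]), (1, .inr 4), (2, .inr 1), (3, .inr 3), (4, .inl [3, 2, 1, 3, 4, 5, 6, 7, 5, 4, 3, 2, 1, 3, 4, 5, 6, 0, 2, 3, 4, 5, 1, 3, 4, 2, 3, 0, 2, 1, 3, 4, 5, 6, 7]), (5, .inl [5, 4, 3, 2, 1, 3, 4, 5, 6, 7, 5, 4, 3, 2, 1, 3, 4, 5, 6, 0, 2, 3, 4, 5, 1, 3, 4, 2, 3, 0, 2, 1, 3, 4,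 5, 6, 7]), (6, .inl [4, 3, 2, 1, 3, 4, 5, 6, 7, 4, 3, 2, 1, 3, 4, 5, 6, 0, 2, 3, 4, 5, 1, 3, 4, 2, 3, 0, 2, 1, 3, 4, 5, 6, 7]), (7, .inl [4, 3, 2, 1, 3, 4, 5, 6, 7, 6, 5, 4, 3, 2, 1, 3, 4, 5, 6, 0, 2, 3, 4, 5, 1, 3, 4, 2, 3, 0, 2, 1, 3, 4, 5, 6, 7])]),
   ([2, 3, 0, 2, 1, 3, 4, 5, 6, 7, 4, 3, 2, 1, 3, 4, 5, 6, 0, 2, 3, 4, 5, 1, 3, 4, 2, 3, 0, 2, 1, 3, 4, 5, 6, 7], [(0, .inr 1), (1, .inr 4), (2, .inl [3, 0, 2, 1, 3, 4, 5, 6, 7, 4, 3, 2, 1, 3, 4, 5, 6, 0, 2, 3, 4, 5, 1, 3, 4, 2, 3, 0, 2, 1, 3, 4, 5, 6, 7]), (3, .inr 5), (4, .inl [4, 2, 3, 0, 2, 1, 3, 4, 5, 6, 7, 4, 3, 2, 1, 3, 4, 5, 6, 0, 2, 3, 4, 5, 1, 3, 4, 2, 3, 0, 2, 1, 3, 4, 5, 6, 7]), (5, .inl [2, 3, 0, 2, 1, 3, 4, 5, 6,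 7, 3, 2, 1, 3, 4, 5, 6, 0, 2, 3, 4, 5, 1, 3, 4, 2, 3, 0, 2, 1, 3, 4, 5, 6, 7]), (6, .inl [2, 3, 0, 2, 1, 3, 4, 5, 6, 7, 5, 4, 3, 2, 1, 3, 4, 5, 6, 0, 2, 3, 4, 5, 1, 3, 4, 2, 3, 0, 2, 1, 3, 4, 5, 6, 7]), (7, .inr 0)]),
   ([4, 3, 0, 2, 1, 3, 4, 5, 6, 7, 4, 3, 2, 1, 3, 4, 5, 6, 0, 2, 3, 4, 5, 1, 3, 4, 2, 3, 0, 2, 1, 3, 4, 5, 6, 7], [(0, .inl [4, 3, 2, 1, 3, 4, 5, 6, 7, 4, 3, 2, 1, 3, 4, 5, 6, 0, 2, 3, 4, 5, 1, 3, 4, 2, 3, 0, 2, 1, 3, 4, 5, 6, 7]), (1, .inr 4), (2, .inl [4, 2, 3, 0, 2, 1, 3, 4, 5, 6, 7, 4, 3, 2, 1, 3, 4, 5, 6, 0, 2, 3, 4, 5, 1, 3, 4, 2, 3, 0, 2, 1, 3, 4, 5, 6, 7]), (3, .inr 3), (4, .inl [3, 0, 2, 1, 3, 4, 5, 6, 7, 4, 3, 2, 1, 3, 4, 5, 6, 0, 2, 3, 4, 5, 1, 3, 4,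 2, 3, 0, 2, 1, 3, 4, 5, 6, 7]), (5, .inr 6), (6, .inl [4, 3, 0, 2, 1, 3, 4, 5, 6, 7, 5, 4, 3, 2, 1, 3, 4, 5, 6, 0, 2, 3, 4, 5, 1, 3, 4, 2, 3, 0, 2, 1, 3, 4, 5, 6, 7]), (7, .inr 0)]),
   ([3, 0, 2, 1, 3, 4, 5, 6, 7, 6, 5, 4, 3, 2, 1, 3, 4, 5, 6, 0, 2, 3, 4, 5, 1, 3, 4, 2, 3, 0, 2, 1, 3, 4, 5, 6, 7], [(0, .inl [3, 2, 1, 3, 4, 5, 6, 7, 6, 5, 4, 3, 2, 1, 3, 4, 5, 6, 0, 2, 3, 4, 5, 1, 3, 4, 2, 3, 0, 2, 1, 3, 4, 5, 6, 7]), (1, .inr 4), (2, .inl [2, 3, 0, 2, 1, 3, 4, 5, 6, 7, 6, 5, 4, 3, 2, 1, 3, 4, 5, 6, 0, 2, 3, 4, 5, 1, 3, 4, 2, 3, 0, 2, 1, 3, 4, 5, 6, 7]), (3, .inl [0, 2, 1, 3, 4, 5, 6, 7, 6, 5, 4, 3, 2, 1, 3, 4, 5, 6, 0, 2, 3, 4, 5, 1, 3, 4, 2, 3, 0, 2, 1, 3, 4, 5, 6, 7]), (4,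 .inl [4, 3, 0, 2, 1, 3, 4, 5, 6, 7, 6, 5, 4, 3, 2, 1, 3, 4, 5, 6, 0, 2, 3, 4, 5, 1, 3, 4, 2, 3, 0, 2, 1, 3, 4, 5, 6, 7]), (5, .inr 2), (6, .inr 0), (7, .inl [3, 0, 2, 1, 3, 4, 5, 6, 7, 5, 4, 3, 2, 1, 3, 4, 5, 6, 0, 2, 3, 4, 5, 1, 3, 4, 2, 3, 0, 2, 1, 3, 4, 5, 6, 7])]),
   ([4, 3, 2, 1, 3, 4, 5, 6, 7, 6, 5, 4, 3, 2, 1, 3, 4, 5, 6, 0, 2, 3, 4, 5, 1, 3, 4, 2, 3, 0, 2, 1, 3, 4, 5, 6, 7], [(0, .inl [4, 3, 0, 2, 1, 3, 4, 5, 6, 7, 6, 5, 4, 3, 2, 1, 3, 4, 5, 6, 0, 2, 3, 4, 5, 1, 3, 4, 2, 3, 0, 2, 1, 3, 4, 5, 6, 7]), (1, .inr 4), (2, .inr 1), (3, .inr 3), (4, .inl [3, 2, 1, 3, 4, 5, 6, 7, 6, 5, 4, 3, 2, 1, 3, 4, 5, 6, 0, 2, 3, 4, 5, 1, 3, 4, 2, 3, 0, 2, 1, 3, 4, 5, 6, 7]), (5, .inl [5,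 4, 3, 2, 1, 3, 4, 5, 6, 7, 6, 5, 4, 3, 2, 1, 3, 4, 5, 6, 0, 2, 3, 4, 5, 1, 3, 4, 2, 3, 0, 2, 1, 3, 4, 5, 6, 7]), (6, .inr 0), (7, .inl [4, 3, 2, 1, 3, 4, 5, 6, 7, 5, 4, 3, 2, 1, 3, 4, 5, 6, 0, 2, 3, 4, 5, 1, 3, 4, 2, 3, 0, 2, 1, 3, 4, 5, 6, 7])]),
   ([2, 3, 0, 2, 1, 3, 4, 5, 6, 7, 5, 4, 3, 2, 1, 3, 4, 5, 6, 0, 2, 3, 4, 5, 1, 3, 4, 2, 3, 0, 2, 1, 3, 4, 5, 6, 7], [(0, .inr 1), (1, .inr 4), (2, .inl [3, 0, 2, 1, 3, 4, 5, 6, 7, 5, 4, 3, 2, 1, 3, 4, 5, 6, 0, 2, 3, 4, 5, 1, 3, 4, 2, 3, 0, 2, 1, 3, 4, 5, 6, 7]), (3, .inr 5), (4, .inl [4, 2, 3, 0, 2, 1, 3, 4, 5, 6, 7, 5, 4, 3, 2, 1, 3, 4, 5, 6, 0, 2, 3, 4, 5, 1, 3, 4, 2, 3, 0, 2, 1, 3, 4, 5, 6, 7]), (5, .inr 2), (6, .inl [2, 3, 0,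 2, 1, 3, 4, 5, 6, 7, 4, 3, 2, 1, 3, 4, 5, 6, 0, 2, 3, 4, 5, 1, 3, 4, 2, 3, 0, 2, 1, 3, 4, 5, 6, 7]), (7, .inl [2, 3, 0, 2, 1, 3, 4, 5, 6, 7, 6, 5, 4, 3, 2, 1, 3, 4, 5, 6, 0, 2, 3, 4, 5, 1, 3, 4, 2, 3, 0, 2, 1, 3, 4, 5, 6, 7])]),
   ([4, 3, 0, 2, 1, 3, 4, 5, 6, 7, 5, 4, 3, 2, 1, 3, 4, 5, 6, 0, 2, 3, 4, 5, 1, 3, 4, 2, 3, 0, 2, 1, 3, 4, 5, 6, 7], [(0, .inl [4, 3, 2, 1, 3, 4, 5, 6, 7, 5, 4, 3, 2, 1, 3, 4, 5, 6, 0, 2, 3, 4, 5, 1, 3, 4, 2, 3, 0, 2, 1, 3, 4, 5, 6, 7]), (1, .inr 4), (2, .inl [4, 2, 3, 0, 2, 1, 3, 4, 5, 6, 7, 5, 4, 3, 2, 1, 3, 4, 5, 6, 0, 2, 3, 4, 5, 1, 3, 4, 2, 3, 0, 2, 1, 3, 4, 5, 6, 7]), (3, .inr 3), (4, .inl [3, 0, 2, 1, 3, 4, 5, 6, 7, 5, 4, 3, 2, 1, 3, 4, 5, 6,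 0, 2, 3, 4, 5, 1, 3, 4, 2, 3, 0, 2, 1, 3, 4, 5, 6, 7]), (5, .inl [5, 4, 3, 0, 2, 1, 3, 4, 5, 6, 7, 5, 4, 3, 2, 1, 3, 4, 5, 6, 0, 2, 3, 4, 5, 1, 3, 4, 2, 3, 0, 2, 1, 3, 4, 5, 6, 7]), (6, .inl [4, 3, 0, 2, 1, 3, 4, 5, 6, 7, 4, 3, 2, 1, 3, 4, 5, 6, 0, 2, 3, 4, 5, 1, 3, 4, 2, 3, 0, 2, 1, 3, 4, 5, 6, 7]), (7, .inl [4, 3, 0, 2, 1, 3, 4, 5, 6, 7, 6, 5, 4, 3, 2, 1, 3, 4, 5, 6, 0, 2, 3, 4, 5, 1, 3, 4, 2, 3, 0, 2, 1, 3, 4, 5, 6, 7])]),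
   ([5, 4, 3, 2, 1, 3, 4, 5, 6, 7, 5, 4, 3, 2, 1, 3, 4, 5, 6, 0, 2, 3, 4, 5, 1, 3, 4, 2, 3, 0, 2, 1, 3, 4, 5, 6, 7], [(0, .inl [5, 4, 3, 0, 2, 1, 3, 4, 5, 6, 7, 5, 4, 3, 2, 1, 3, 4, 5, 6, 0, 2, 3, 4, 5, 1, 3, 4, 2, 3, 0, 2, 1, 3, 4, 5, 6, 7]), (1, .inr 4), (2, .inr 1), (3, .inr 3), (4, .inr 2), (5, .inl [4, 3, 2, 1, 3, 4, 5, 6, 7, 5, 4, 3, 2, 1, 3, 4, 5, 6, 0, 2, 3, 4, 5, 1, 3, 4, 2, 3, 0, 2, 1, 3, 4, 5, 6, 7]), (6, .inr 6), (7, .inl [5, 4, 3, 2, 1, 3, 4, 5, 6, 7, 6, 5, 4, 3, 2, 1, 3, 4, 5, 6, 0, 2, 3, 4, 5, 1, 3, 4, 2, 3, 0, 2, 1, 3, 4, 5, 6, 7])]),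
   ([4, 2, 3, 0, 2, 1, 3, 4, 5, 6, 7, 4, 3, 2, 1, 3, 4, 5, 6, 0, 2, 3, 4, 5, 1, 3, 4, 2, 3, 0, 2, 1, 3, 4, 5, 6, 7], [(0, .inr 1), (1, .inr 4), (2, .inl [4, 3, 0, 2, 1, 3, 4, 5, 6, 7, 4, 3, 2, 1, 3, 4, 5, 6, 0, 2, 3, 4, 5, 1, 3, 4, 2, 3, 0, 2, 1, 3, 4, 5, 6, 7]), (3, .inl [3, 4, 2, 3, 0, 2, 1, 3, 4, 5, 6, 7, 4, 3, 2, 1, 3, 4, 5, 6, 0, 2, 3, 4, 5, 1, 3, 4, 2, 3, 0, 2, 1, 3, 4, 5, 6, 7]), (4, .inl [2, 3, 0, 2, 1, 3, 4, 5, 6, 7, 4, 3, 2, 1, 3, 4, 5, 6, 0, 2, 3, 4, 5, 1, 3, 4, 2, 3, 0, 2, 1, 3, 4, 5, 6, 7]), (5, .inr 6), (6, .inl [4, 2, 3, 0, 2, 1, 3, 4, 5, 6, 7, 5, 4, 3, 2, 1, 3, 4, 5, 6, 0, 2, 3, 4, 5, 1, 3, 4, 2, 3, 0, 2, 1, 3, 4, 5, 6, 7]), (7, .inr 0)]),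
   ([2, 3, 0, 2, 1, 3, 4, 5, 6, 7, 6, 5, 4, 3, 2, 1, 3, 4, 5, 6, 0, 2, 3, 4, 5, 1, 3, 4, 2, 3, 0, 2, 1, 3, 4, 5, 6, 7], [(0, .inr 1), (1, .inr 4), (2, .inl [3, 0, 2, 1, 3, 4, 5, 6, 7, 6, 5, 4, 3, 2, 1, 3, 4, 5, 6, 0, 2, 3, 4, 5, 1, 3, 4, 2, 3, 0, 2, 1, 3, 4, 5, 6, 7]), (3, .inr 5), (4, .inl [4, 2, 3, 0, 2, 1, 3, 4, 5, 6, 7, 6, 5, 4, 3, 2, 1, 3, 4, 5, 6, 0, 2, 3, 4, 5, 1, 3, 4, 2, 3, 0, 2, 1, 3, 4, 5, 6, 7]), (5, .inr 2), (6, .inr 0), (7, .inl [2, 3, 0, 2, 1, 3, 4, 5, 6, 7, 5, 4, 3, 2, 1, 3, 4, 5, 6, 0, 2, 3, 4, 5, 1, 3, 4, 2, 3, 0, 2, 1, 3, 4, 5, 6, 7])]),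
   ([4, 3, 0, 2, 1, 3, 4, 5, 6, 7, 6, 5, 4, 3, 2, 1, 3, 4, 5, 6, 0, 2, 3, 4, 5, 1, 3, 4, 2, 3, 0, 2, 1, 3, 4, 5, 6, 7], [(0, .inl [4, 3, 2, 1, 3, 4, 5, 6, 7, 6, 5, 4, 3, 2, 1, 3, 4, 5, 6, 0, 2, 3, 4, 5, 1, 3, 4, 2, 3, 0, 2, 1, 3, 4, 5, 6, 7]), (1, .inr 4), (2, .inl [4, 2, 3, 0, 2, 1, 3, 4, 5, 6, 7, 6, 5, 4, 3, 2, 1, 3, 4, 5, 6, 0, 2, 3, 4, 5, 1, 3, 4, 2, 3, 0, 2, 1, 3, 4, 5, 6, 7]), (3, .inr 3), (4, .inl [3, 0, 2, 1, 3, 4, 5, 6, 7, 6, 5, 4, 3, 2, 1, 3, 4, 5, 6, 0, 2, 3, 4, 5, 1, 3, 4, 2, 3, 0, 2, 1, 3, 4, 5, 6, 7]), (5, .inl [5, 4, 3, 0, 2, 1, 3, 4, 5, 6, 7, 6, 5, 4, 3, 2, 1, 3, 4, 5, 6, 0, 2, 3, 4, 5, 1, 3, 4, 2, 3, 0, 2, 1, 3, 4, 5, 6, 7]), (6, .inr 0), (7, .inl [4, 3, 0,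 2, 1, 3, 4, 5, 6, 7, 5, 4, 3, 2, 1, 3, 4, 5, 6, 0, 2, 3, 4, 5, 1, 3, 4, 2, 3, 0, 2, 1, 3, 4, 5, 6, 7])]),
   ([5, 4, 3, 2, 1, 3, 4, 5, 6, 7, 6, 5, 4, 3, 2, 1, 3, 4, 5, 6, 0, 2, 3, 4, 5, 1, 3, 4, 2, 3, 0, 2, 1, 3, 4, 5, 6, 7], [(0, .inl [5, 4, 3, 0, 2, 1, 3, 4, 5, 6, 7, 6, 5, 4, 3, 2, 1, 3, 4, 5, 6, 0, 2, 3, 4, 5, 1, 3, 4, 2, 3, 0, 2, 1, 3, 4, 5, 6, 7]), (1, .inr 4), (2, .inr 1), (3, .inr 3), (4, .inr 2), (5, .inl [4, 3, 2, 1, 3, 4, 5, 6, 7, 6, 5, 4, 3, 2, 1, 3, 4, 5, 6, 0, 2, 3, 4, 5, 1, 3, 4, 2, 3, 0, 2, 1, 3, 4, 5, 6, 7]), (6, .inl [6, 5, 4, 3, 2, 1, 3, 4, 5, 6, 7, 6, 5, 4, 3, 2, 1, 3, 4, 5, 6, 0, 2, 3, 4, 5, 1, 3, 4, 2, 3, 0, 2, 1, 3, 4, 5, 6, 7]), (7, .inl [5, 4, 3, 2, 1,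 3, 4, 5, 6, 7, 5, 4, 3, 2, 1, 3, 4, 5, 6, 0, 2, 3, 4, 5, 1, 3, 4, 2, 3, 0, 2, 1, 3, 4, 5, 6, 7])]),
   ([4, 2, 3, 0, 2, 1, 3, 4, 5, 6, 7, 5, 4, 3, 2, 1, 3, 4, 5, 6, 0, 2, 3, 4, 5, 1, 3, 4, 2, 3, 0, 2, 1, 3, 4, 5, 6, 7], [(0, .inr 1), (1, .inr 4), (2, .inl [4, 3, 0, 2, 1, 3, 4, 5, 6, 7, 5, 4, 3, 2, 1, 3, 4, 5, 6, 0, 2, 3, 4, 5, 1, 3, 4, 2, 3, 0, 2, 1, 3, 4, 5, 6, 7]), (3, .inl [3, 4, 2, 3, 0, 2, 1, 3, 4, 5, 6, 7, 5, 4, 3, 2, 1, 3, 4, 5, 6, 0, 2, 3, 4, 5, 1, 3, 4, 2, 3, 0, 2, 1, 3, 4, 5, 6, 7]), (4, .inl [2, 3, 0, 2, 1, 3, 4, 5, 6, 7, 5, 4, 3, 2, 1, 3, 4, 5, 6, 0, 2, 3, 4, 5, 1, 3, 4, 2, 3, 0, 2, 1, 3, 4, 5, 6, 7]), (5, .inl [5, 4, 2, 3, 0, 2, 1, 3, 4, 5, 6, 7, 5, 4, 3, 2, 1,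 3, 4, 5, 6, 0, 2, 3, 4, 5, 1, 3, 4, 2, 3, 0, 2, 1, 3, 4, 5, 6, 7]), (6, .inl [4, 2, 3, 0, 2, 1, 3, 4, 5, 6, 7, 4, 3, 2, 1, 3, 4, 5, 6, 0, 2, 3, 4, 5, 1, 3, 4, 2, 3, 0, 2, 1, 3, 4, 5, 6, 7]), (7, .inl [4, 2, 3, 0, 2, 1, 3, 4, 5, 6, 7, 6, 5, 4, 3, 2, 1, 3, 4, 5, 6, 0, 2, 3, 4, 5, 1, 3, 4, 2, 3, 0, 2, 1, 3, 4, 5, 6, 7])]),
   ([5, 4, 3, 0, 2, 1, 3, 4, 5, 6, 7, 5, 4, 3, 2, 1, 3, 4, 5, 6, 0, 2, 3, 4, 5, 1, 3, 4, 2, 3, 0, 2, 1, 3, 4, 5, 6, 7], [(0, .inl [5, 4, 3, 2, 1, 3, 4, 5, 6, 7, 5, 4, 3, 2, 1, 3, 4, 5, 6, 0, 2, 3, 4, 5, 1, 3, 4, 2, 3, 0, 2, 1, 3, 4, 5, 6, 7]), (1, .inr 4), (2, .inl [5, 4, 2, 3, 0, 2, 1, 3, 4, 5, 6, 7, 5, 4, 3, 2, 1, 3, 4, 5, 6, 0, 2, 3, 4, 5, 1, 3, 4, 2, 3, 0,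 2, 1, 3, 4, 5, 6, 7]), (3, .inr 3), (4, .inr 2), (5, .inl [4, 3, 0, 2, 1, 3, 4, 5, 6, 7, 5, 4, 3, 2, 1, 3, 4, 5, 6, 0, 2, 3, 4, 5, 1, 3, 4, 2, 3, 0, 2, 1, 3, 4, 5, 6, 7]), (6, .inr 6), (7, .inl [5, 4, 3, 0, 2, 1, 3, 4, 5, 6, 7, 6, 5, 4, 3, 2, 1, 3, 4, 5, 6, 0, 2, 3, 4, 5, 1, 3, 4, 2, 3, 0, 2, 1, 3, 4, 5, 6, 7])]),
   ([3, 4, 2, 3, 0, 2, 1, 3, 4, 5, 6, 7, 4, 3, 2, 1, 3, 4, 5, 6, 0, 2, 3, 4, 5, 1, 3, 4, 2, 3, 0, 2, 1, 3, 4, 5, 6, 7], [(0, .inr 1), (1, .inl [1, 3, 4, 2, 3, 0, 2, 1, 3, 4, 5, 6, 7, 4, 3, 2, 1, 3, 4, 5, 6, 0, 2, 3, 4, 5, 1, 3, 4, 2, 3, 0, 2, 1, 3, 4, 5, 6, 7]), (2, .inr 3), (3, .inl [4, 2, 3, 0, 2, 1, 3, 4, 5, 6, 7, 4, 3, 2, 1, 3, 4, 5, 6, 0, 2, 3, 4, 5, 1, 3, 4,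 2, 3, 0, 2, 1, 3, 4, 5, 6, 7]), (4, .inr 5), (5, .inr 6), (6, .inl [3, 4, 2, 3, 0, 2, 1, 3, 4, 5, 6, 7, 5, 4, 3, 2, 1, 3, 4, 5, 6, 0, 2, 3, 4, 5, 1, 3, 4, 2, 3, 0, 2, 1, 3, 4, 5, 6, 7]), (7, .inr 0)]),
   ([4, 2, 3, 0, 2, 1, 3, 4, 5, 6, 7, 6, 5, 4, 3, 2, 1, 3, 4, 5, 6, 0, 2, 3, 4, 5, 1, 3, 4, 2, 3, 0, 2, 1, 3, 4, 5, 6, 7], [(0, .inr 1), (1, .inr 4), (2, .inl [4, 3, 0, 2, 1, 3, 4, 5, 6, 7, 6, 5, 4, 3, 2, 1, 3, 4, 5, 6, 0, 2, 3, 4, 5, 1, 3, 4, 2, 3, 0, 2, 1, 3, 4, 5, 6, 7]), (3, .inl [3, 4, 2, 3, 0, 2, 1, 3, 4, 5, 6, 7, 6, 5, 4, 3, 2, 1, 3, 4, 5, 6, 0, 2, 3, 4, 5, 1, 3, 4, 2, 3, 0, 2, 1, 3, 4, 5, 6, 7]), (4, .inl [2, 3, 0, 2, 1, 3, 4, 5, 6, 7, 6, 5, 4, 3, 2, 1, 3, 4, 5, 6, 0,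 2, 3, 4, 5, 1, 3, 4, 2, 3, 0, 2, 1, 3, 4, 5, 6, 7]), (5, .inl [5, 4, 2, 3, 0, 2, 1, 3, 4, 5, 6, 7, 6, 5, 4, 3, 2, 1, 3, 4, 5, 6, 0, 2, 3, 4, 5, 1, 3, 4, 2, 3, 0, 2, 1, 3, 4, 5, 6, 7]), (6, .inr 0), (7, .inl [4, 2, 3, 0, 2, 1, 3, 4, 5, 6, 7, 5, 4, 3, 2, 1, 3, 4, 5, 6, 0, 2, 3, 4, 5, 1, 3, 4, 2, 3, 0, 2, 1, 3, 4, 5, 6, 7])]),
   ([5, 4, 3, 0, 2, 1, 3, 4, 5, 6, 7, 6, 5, 4, 3, 2, 1, 3, 4, 5, 6, 0, 2, 3, 4, 5, 1, 3, 4, 2, 3, 0, 2, 1, 3, 4, 5, 6, 7], [(0, .inl [5, 4, 3, 2, 1, 3, 4, 5, 6, 7, 6, 5, 4, 3, 2, 1, 3, 4, 5, 6, 0, 2, 3, 4, 5, 1, 3, 4, 2, 3, 0, 2, 1, 3, 4, 5, 6, 7]), (1, .inr 4), (2, .inl [5, 4, 2, 3, 0, 2, 1, 3, 4, 5, 6, 7, 6, 5, 4, 3, 2, 1, 3, 4, 5, 6, 0, 2, 3, 4, 5, 1,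 3, 4, 2, 3, 0, 2, 1, 3, 4, 5, 6, 7]), (3, .inr 3), (4, .inr 2), (5, .inl [4, 3, 0, 2, 1, 3, 4, 5, 6, 7, 6, 5, 4, 3, 2, 1, 3, 4, 5, 6, 0, 2, 3, 4, 5, 1, 3, 4, 2, 3, 0, 2, 1, 3, 4, 5, 6, 7]), (6, .inl [6, 5, 4, 3, 0, 2, 1, 3, 4, 5, 6, 7, 6, 5, 4, 3, 2, 1, 3, 4, 5, 6, 0, 2, 3, 4, 5, 1, 3, 4, 2, 3, 0, 2, 1, 3, 4, 5, 6, 7]), (7, .inl [5, 4, 3, 0, 2, 1, 3, 4, 5, 6, 7, 5, 4, 3, 2, 1, 3, 4, 5, 6, 0, 2, 3, 4, 5, 1, 3, 4, 2, 3, 0, 2, 1, 3, 4, 5, 6, 7])]),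
   ([6, 5, 4, 3, 2, 1, 3, 4, 5, 6, 7, 6, 5, 4, 3, 2, 1, 3, 4, 5, 6, 0, 2, 3, 4, 5, 1, 3, 4, 2, 3, 0, 2, 1, 3, 4, 5, 6, 7], [(0, .inl [6, 5, 4, 3, 0, 2, 1, 3, 4, 5, 6, 7, 6, 5, 4, 3, 2, 1, 3, 4, 5, 6, 0, 2, 3, 4, 5, 1, 3, 4, 2, 3, 0, 2, 1, 3, 4, 5, 6, 7]), (1, .inr 4), (2, .inr 1), (3, .inr 3), (4, .inr 2), (5, .inr 0), (6, .inl [5, 4, 3, 2, 1, 3, 4, 5, 6, 7, 6, 5, 4, 3, 2, 1, 3, 4, 5, 6, 0, 2, 3, 4, 5, 1, 3, 4, 2, 3, 0, 2, 1, 3, 4, 5, 6, 7]), (7, .inr 6)]),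
   ([3, 4, 2, 3, 0, 2, 1, 3, 4, 5, 6, 7, 5, 4, 3, 2, 1, 3, 4, 5, 6, 0, 2, 3, 4, 5, 1, 3, 4, 2, 3, 0, 2, 1, 3, 4, 5, 6, 7], [(0, .inr 1), (1, .inl [1, 3, 4, 2, 3, 0, 2, 1, 3, 4, 5, 6, 7, 5, 4, 3, 2, 1, 3, 4, 5, 6, 0, 2, 3, 4, 5, 1, 3, 4, 2, 3, 0, 2, 1, 3, 4, 5, 6, 7]), (2, .inr 3), (3, .inl [4, 2, 3, 0, 2, 1, 3, 4, 5, 6, 7, 5, 4, 3, 2, 1, 3, 4, 5, 6, 0, 2, 3, 4, 5, 1, 3, 4, 2, 3, 0, 2, 1, 3, 4, 5, 6, 7]), (4, .inr 5), (5, .inl [5, 3, 4, 2, 3, 0, 2, 1, 3, 4, 5, 6, 7, 5, 4, 3, 2, 1, 3, 4, 5, 6, 0, 2, 3, 4, 5, 1, 3, 4, 2, 3, 0, 2, 1, 3, 4, 5, 6, 7]), (6, .inl [3, 4, 2, 3, 0, 2, 1, 3, 4, 5, 6, 7, 4, 3, 2, 1, 3, 4, 5, 6, 0, 2, 3, 4, 5, 1, 3, 4, 2, 3, 0, 2, 1, 3, 4, 5, 6, 7]), (7,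 .inl [3, 4, 2, 3, 0, 2, 1, 3, 4, 5, 6, 7, 6, 5, 4, 3, 2, 1, 3, 4, 5, 6, 0, 2, 3, 4, 5, 1, 3, 4, 2, 3, 0, 2, 1, 3, 4, 5, 6, 7])]),
   ([5, 4, 2, 3, 0, 2, 1, 3, 4, 5, 6, 7, 5, 4, 3, 2, 1, 3, 4, 5, 6, 0, 2, 3, 4, 5, 1, 3, 4, 2, 3, 0, 2, 1, 3, 4, 5, 6, 7], [(0, .inr 1), (1, .inr 4), (2, .inl [5, 4, 3, 0, 2, 1, 3, 4, 5, 6, 7, 5, 4, 3, 2, 1, 3, 4, 5, 6, 0, 2, 3, 4, 5, 1, 3, 4, 2, 3, 0, 2, 1, 3, 4, 5, 6, 7]), (3, .inl [5, 3, 4, 2, 3, 0, 2, 1, 3, 4, 5, 6, 7, 5, 4, 3, 2, 1, 3, 4, 5, 6, 0, 2, 3, 4, 5, 1, 3, 4, 2, 3, 0, 2, 1, 3, 4, 5, 6, 7]), (4, .inr 2), (5, .inl [4, 2, 3, 0, 2, 1, 3, 4, 5, 6, 7, 5, 4, 3, 2, 1, 3, 4, 5, 6, 0, 2, 3, 4, 5, 1, 3, 4, 2, 3, 0, 2, 1, 3, 4, 5, 6, 7]), (6, .inr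 6), (7, .inl [5, 4, 2, 3, 0, 2, 1, 3, 4, 5, 6, 7, 6, 5, 4, 3, 2, 1, 3, 4, 5, 6, 0, 2, 3, 4, 5, 1, 3, 4, 2, 3, 0, 2, 1, 3, 4, 5, 6, 7])]),
   ([1, 3, 4, 2, 3, 0, 2, 1, 3, 4, 5, 6, 7, 4, 3, 2, 1, 3, 4, 5, 6, 0, 2, 3, 4, 5, 1, 3, 4, 2, 3, 0, 2, 1, 3, 4, 5, 6, 7], [(0, .inr 1), (1, .inl [3, 4, 2, 3, 0, 2, 1, 3, 4, 5, 6, 7, 4, 3, 2, 1, 3, 4, 5, 6, 0, 2, 3, 4, 5, 1, 3, 4, 2, 3, 0, 2, 1, 3, 4, 5, 6, 7]), (2, .inr 3), (3, .inr 4), (4, .inr 5), (5, .inr 6), (6, .inl [1, 3, 4, 2, 3, 0, 2, 1, 3, 4, 5, 6, 7, 5, 4, 3, 2, 1, 3, 4, 5, 6, 0, 2, 3, 4, 5, 1, 3, 4, 2, 3, 0, 2, 1, 3, 4, 5, 6, 7]), (7, .inr 0)]),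
   ([3, 4, 2, 3, 0, 2, 1, 3, 4, 5, 6, 7, 6, 5, 4, 3, 2, 1, 3, 4, 5, 6, 0, 2, 3, 4, 5, 1, 3, 4, 2, 3, 0, 2, 1, 3, 4, 5, 6, 7], [(0, .inr 1), (1, .inl [1, 3, 4, 2, 3, 0, 2, 1, 3, 4, 5, 6, 7, 6, 5, 4, 3, 2, 1, 3, 4, 5, 6, 0, 2, 3, 4, 5, 1, 3, 4, 2, 3, 0, 2, 1, 3, 4, 5, 6, 7]), (2, .inr 3), (3, .inl [4, 2, 3, 0, 2, 1, 3, 4, 5, 6, 7, 6, 5, 4, 3, 2, 1, 3, 4, 5, 6, 0, 2, 3, 4, 5, 1, 3, 4, 2, 3, 0, 2, 1, 3, 4, 5, 6, 7]), (4, .inr 5), (5, .inl [5, 3, 4, 2, 3, 0, 2, 1, 3, 4, 5, 6, 7, 6, 5, 4, 3, 2, 1, 3, 4, 5, 6, 0, 2, 3, 4, 5, 1, 3, 4, 2, 3, 0, 2, 1, 3, 4, 5, 6, 7]), (6, .inr 0), (7, .inl [3, 4, 2, 3, 0, 2, 1, 3, 4, 5, 6, 7, 5, 4, 3, 2, 1, 3, 4, 5, 6, 0, 2, 3, 4, 5, 1, 3, 4, 2, 3, 0,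 2, 1, 3, 4, 5, 6, 7])]),
   ([5, 4, 2, 3, 0, 2, 1, 3, 4, 5, 6, 7, 6, 5, 4, 3, 2, 1, 3, 4, 5, 6, 0, 2, 3, 4, 5, 1, 3, 4, 2, 3, 0, 2, 1, 3, 4, 5, 6, 7], [(0, .inr 1), (1, .inr 4), (2, .inl [5, 4, 3, 0, 2, 1, 3, 4, 5, 6, 7, 6, 5, 4, 3, 2, 1, 3, 4, 5, 6, 0, 2, 3, 4, 5, 1, 3, 4, 2, 3, 0, 2, 1, 3, 4, 5, 6, 7]), (3, .inl [5, 3, 4, 2, 3, 0, 2, 1, 3, 4, 5, 6, 7, 6, 5, 4, 3, 2, 1, 3, 4, 5, 6, 0, 2, 3, 4, 5, 1, 3, 4, 2, 3, 0, 2, 1, 3, 4, 5, 6, 7]), (4, .inr 2), (5, .inl [4, 2, 3, 0, 2, 1, 3, 4, 5, 6, 7, 6, 5, 4, 3, 2, 1, 3, 4, 5, 6, 0, 2, 3, 4, 5, 1, 3, 4, 2, 3, 0, 2, 1, 3, 4, 5, 6, 7]), (6, .inl [6, 5, 4, 2, 3, 0, 2, 1, 3, 4, 5, 6, 7, 6, 5, 4, 3, 2, 1, 3, 4, 5, 6, 0, 2, 3, 4, 5, 1, 3,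 4, 2, 3, 0, 2, 1, 3, 4, 5, 6, 7]), (7, .inl [5, 4, 2, 3, 0, 2, 1, 3, 4, 5, 6, 7, 5, 4, 3, 2, 1, 3, 4, 5, 6, 0, 2, 3, 4, 5, 1, 3, 4, 2, 3, 0, 2, 1, 3, 4, 5, 6, 7])]),
   ([6, 5, 4, 3, 0, 2, 1, 3, 4, 5, 6, 7, 6, 5, 4, 3, 2, 1, 3, 4, 5, 6, 0, 2, 3, 4, 5, 1, 3, 4, 2, 3, 0, 2, 1, 3, 4, 5, 6, 7], [(0, .inl [6, 5, 4, 3, 2, 1, 3, 4, 5, 6, 7, 6, 5, 4, 3, 2, 1, 3, 4, 5, 6, 0, 2, 3, 4, 5, 1, 3, 4, 2, 3, 0, 2, 1, 3, 4, 5, 6, 7]), (1, .inr 4), (2, .inl [6, 5, 4, 2, 3, 0, 2, 1, 3, 4, 5, 6, 7, 6, 5, 4, 3, 2, 1, 3, 4, 5, 6, 0, 2, 3, 4, 5, 1, 3, 4, 2, 3, 0, 2, 1, 3, 4, 5, 6, 7]), (3, .inr 3), (4, .inr 2), (5, .inr 0), (6, .inl [5, 4, 3, 0, 2, 1, 3, 4, 5, 6, 7, 6, 5, 4, 3, 2, 1, 3, 4, 5, 6, 0,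 2, 3, 4, 5, 1, 3, 4, 2, 3, 0, 2, 1, 3, 4, 5, 6, 7]), (7, .inr 6)]),
   ([1, 3, 4, 2, 3, 0, 2, 1, 3, 4, 5, 6, 7, 5, 4, 3, 2, 1, 3, 4, 5, 6, 0, 2, 3, 4, 5, 1, 3, 4, 2, 3, 0, 2, 1, 3, 4, 5, 6, 7], [(0, .inr 1), (1, .inl [3, 4, 2, 3, 0, 2, 1, 3, 4, 5, 6, 7, 5, 4, 3, 2, 1, 3, 4, 5, 6, 0, 2, 3, 4, 5, 1, 3, 4, 2, 3, 0, 2, 1, 3, 4, 5, 6, 7]), (2, .inr 3), (3, .inr 4), (4, .inr 5), (5, .inl [5, 1, 3, 4, 2, 3, 0, 2, 1, 3, 4, 5, 6, 7, 5, 4, 3, 2, 1, 3, 4, 5, 6, 0, 2, 3, 4, 5, 1, 3, 4, 2, 3, 0, 2, 1, 3, 4, 5, 6, 7]), (6, .inl [1, 3, 4, 2, 3, 0, 2, 1, 3, 4, 5, 6, 7, 4, 3, 2, 1, 3, 4, 5, 6, 0, 2, 3, 4, 5, 1, 3, 4, 2, 3, 0, 2, 1, 3, 4, 5, 6, 7]), (7, .inl [1, 3, 4, 2, 3, 0, 2, 1, 3, 4, 5,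 6, 7, 6, 5, 4, 3, 2, 1, 3, 4, 5, 6, 0, 2, 3, 4, 5, 1, 3, 4, 2, 3, 0, 2, 1, 3, 4, 5, 6, 7])]),
   ([5, 3, 4, 2, 3, 0, 2, 1, 3, 4, 5, 6, 7, 5, 4, 3, 2, 1, 3, 4, 5, 6, 0, 2, 3, 4, 5, 1, 3, 4, 2, 3, 0, 2, 1, 3, 4, 5, 6, 7], [(0, .inr 1), (1, .inl [5, 1, 3, 4, 2, 3, 0, 2, 1, 3, 4, 5, 6, 7, 5, 4, 3, 2, 1, 3, 4, 5, 6, 0, 2, 3, 4, 5, 1, 3, 4, 2, 3, 0, 2, 1, 3, 4, 5, 6, 7]), (2, .inr 3), (3, .inl [5, 4, 2, 3, 0, 2, 1, 3, 4, 5, 6, 7, 5, 4, 3, 2, 1, 3, 4, 5, 6, 0, 2, 3, 4, 5, 1, 3, 4, 2, 3, 0, 2, 1, 3, 4, 5, 6, 7]), (4, .inl [4, 5, 3, 4, 2, 3, 0, 2, 1, 3, 4, 5, 6, 7, 5, 4, 3, 2, 1, 3, 4, 5, 6, 0, 2, 3, 4, 5, 1, 3, 4, 2, 3, 0, 2, 1, 3, 4, 5, 6, 7]), (5, .inl [3, 4, 2, 3, 0, 2, 1, 3, 4,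 5, 6, 7, 5, 4, 3, 2, 1, 3, 4, 5, 6, 0, 2, 3, 4, 5, 1, 3, 4, 2, 3, 0, 2, 1, 3, 4, 5, 6, 7]), (6, .inr 6), (7, .inl [5, 3, 4, 2, 3, 0, 2, 1, 3, 4, 5, 6, 7, 6, 5, 4, 3, 2, 1, 3, 4, 5, 6, 0, 2, 3, 4, 5, 1, 3, 4, 2, 3, 0, 2, 1, 3, 4, 5, 6, 7])]),
   ([1, 3, 4, 2, 3, 0, 2, 1, 3, 4, 5, 6, 7, 6, 5, 4, 3, 2, 1, 3, 4, 5, 6, 0, 2, 3, 4, 5, 1, 3, 4, 2, 3, 0, 2, 1, 3, 4, 5, 6, 7], [(0, .inr 1), (1, .inl [3, 4, 2, 3, 0, 2, 1, 3, 4, 5, 6, 7, 6, 5, 4, 3, 2, 1, 3, 4, 5, 6, 0, 2, 3, 4, 5, 1, 3, 4, 2, 3, 0, 2, 1, 3, 4, 5, 6, 7]), (2, .inr 3), (3, .inr 4), (4, .inr 5), (5, .inl [5, 1, 3, 4, 2, 3, 0, 2, 1, 3, 4, 5, 6, 7, 6, 5, 4, 3, 2, 1, 3, 4, 5, 6, 0, 2, 3, 4, 5, 1, 3, 4, 2, 3, 0, 2, 1, 3, 4,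 5, 6, 7]), (6, .inr 0), (7, .inl [1, 3, 4, 2, 3, 0, 2, 1, 3, 4, 5, 6, 7, 5, 4, 3, 2, 1, 3, 4, 5, 6, 0, 2, 3, 4, 5, 1, 3, 4, 2, 3, 0, 2, 1, 3, 4, 5, 6, 7])]),
   ([5, 3, 4, 2, 3, 0, 2, 1, 3, 4, 5, 6, 7, 6, 5, 4, 3, 2, 1, 3, 4, 5, 6, 0, 2, 3, 4, 5, 1, 3, 4, 2, 3, 0, 2, 1, 3, 4, 5, 6, 7], [(0, .inr 1), (1, .inl [5, 1, 3, 4, 2, 3, 0, 2, 1, 3, 4, 5, 6, 7, 6, 5, 4, 3, 2, 1, 3, 4, 5, 6, 0, 2, 3, 4, 5, 1, 3, 4, 2, 3, 0, 2, 1, 3, 4, 5, 6, 7]), (2, .inr 3), (3, .inl [5, 4, 2, 3, 0, 2, 1, 3, 4, 5, 6, 7, 6, 5, 4, 3, 2, 1, 3, 4, 5, 6, 0, 2, 3, 4, 5, 1, 3, 4, 2, 3, 0, 2, 1, 3, 4, 5, 6, 7]), (4, .inl [4, 5, 3, 4, 2, 3, 0, 2, 1, 3, 4, 5, 6, 7, 6, 5, 4, 3, 2, 1, 3, 4, 5, 6, 0, 2, 3, 4, 5, 1,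 3, 4, 2, 3, 0, 2, 1, 3, 4, 5, 6, 7]), (5, .inl [3, 4, 2, 3, 0, 2, 1, 3, 4, 5, 6, 7, 6, 5, 4, 3, 2, 1, 3, 4, 5, 6, 0, 2, 3, 4, 5, 1, 3, 4, 2, 3, 0, 2, 1, 3, 4, 5, 6, 7]), (6, .inl [6, 5, 3, 4, 2, 3, 0, 2, 1, 3, 4, 5, 6, 7, 6, 5, 4, 3, 2, 1, 3, 4, 5, 6, 0, 2, 3, 4, 5, 1, 3, 4, 2, 3, 0, 2, 1, 3, 4, 5, 6, 7]), (7, .inl [5, 3, 4, 2, 3, 0, 2, 1, 3, 4, 5, 6, 7, 5, 4, 3, 2, 1, 3, 4, 5, 6, 0, 2, 3, 4, 5, 1, 3, 4, 2, 3, 0, 2, 1, 3, 4, 5, 6, 7])]),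
   ([6, 5, 4, 2, 3, 0, 2, 1, 3, 4, 5, 6, 7, 6, 5, 4, 3, 2, 1, 3, 4, 5, 6, 0, 2, 3, 4, 5, 1, 3, 4, 2, 3, 0, 2, 1, 3, 4, 5, 6, 7], [(0, .inr 1), (1, .inr 4), (2, .inl [6, 5, 4, 3, 0, 2, 1, 3, 4, 5, 6, 7, 6, 5, 4, 3, 2, 1, 3, 4, 5, 6, 0, 2, 3, 4, 5, 1, 3, 4, 2, 3, 0, 2, 1, 3, 4, 5, 6, 7]), (3, .inl [6, 5, 3, 4, 2, 3, 0, 2, 1, 3, 4, 5, 6, 7, 6, 5, 4, 3, 2, 1, 3, 4, 5, 6, 0, 2, 3, 4, 5, 1, 3, 4, 2, 3, 0, 2, 1, 3, 4, 5, 6, 7]), (4, .inr 2), (5, .inr 0), (6, .inl [5, 4, 2, 3, 0, 2, 1, 3, 4, 5, 6, 7, 6, 5, 4, 3, 2, 1, 3, 4, 5, 6, 0, 2, 3, 4, 5, 1, 3, 4, 2, 3, 0, 2, 1, 3, 4, 5, 6, 7]), (7, .inr 6)]),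
   ([5, 1, 3, 4, 2, 3, 0, 2, 1, 3, 4, 5, 6, 7, 5, 4, 3, 2, 1, 3, 4, 5, 6, 0, 2, 3, 4, 5, 1, 3, 4, 2, 3, 0, 2, 1, 3, 4, 5, 6, 7], [(0, .inr 1), (1, .inl [5, 3, 4, 2, 3, 0, 2, 1, 3, 4, 5, 6, 7, 5, 4, 3, 2, 1, 3, 4, 5, 6, 0, 2, 3, 4, 5, 1, 3, 4, 2, 3, 0, 2, 1, 3, 4, 5, 6, 7]), (2, .inr 3), (3, .inr 4), (4, .inl [4, 5, 1, 3, 4, 2, 3, 0, 2, 1, 3, 4, 5, 6, 7, 5, 4, 3, 2, 1, 3, 4, 5, 6, 0, 2, 3, 4, 5, 1, 3, 4, 2, 3, 0, 2, 1, 3, 4, 5, 6, 7]), (5, .inl [1, 3, 4, 2, 3, 0, 2, 1, 3, 4, 5, 6, 7, 5, 4, 3, 2, 1, 3, 4, 5, 6, 0, 2, 3, 4, 5, 1, 3, 4, 2, 3, 0, 2, 1, 3, 4, 5, 6, 7]), (6, .inr 6), (7, .inl [5, 1, 3, 4, 2, 3, 0, 2, 1, 3, 4, 5, 6, 7, 6, 5, 4, 3, 2, 1, 3, 4, 5, 6, 0, 2, 3, 4, 5, 1,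 3, 4, 2, 3, 0, 2, 1, 3, 4, 5, 6, 7])]),
   ([4, 5, 3, 4, 2, 3, 0, 2, 1, 3, 4, 5, 6, 7, 5, 4, 3, 2, 1, 3, 4, 5, 6, 0, 2, 3, 4, 5, 1, 3, 4, 2, 3, 0, 2, 1, 3, 4, 5, 6, 7], [(0, .inr 1), (1, .inl [4, 5, 1, 3, 4, 2, 3, 0, 2, 1, 3, 4, 5, 6, 7, 5, 4, 3, 2, 1, 3, 4, 5, 6, 0, 2, 3, 4, 5, 1, 3, 4, 2, 3, 0, 2, 1, 3, 4, 5, 6, 7]), (2, .inr 3), (3, .inr 2), (4, .inl [5, 3, 4, 2, 3, 0, 2, 1, 3, 4, 5, 6, 7, 5, 4, 3, 2, 1, 3, 4, 5, 6, 0, 2, 3, 4, 5, 1, 3, 4, 2, 3, 0, 2, 1, 3, 4, 5, 6, 7]), (5, .inr 5), (6, .inr 6), (7, .inl [4, 5, 3, 4, 2, 3, 0, 2, 1, 3, 4, 5, 6, 7, 6, 5, 4, 3, 2, 1, 3, 4, 5, 6, 0, 2, 3, 4, 5, 1, 3, 4, 2, 3, 0, 2, 1, 3, 4, 5, 6, 7])]),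
   ([5, 1, 3, 4, 2, 3, 0, 2, 1, 3, 4, 5, 6, 7, 6, 5, 4, 3, 2, 1, 3, 4, 5, 6, 0, 2, 3, 4, 5, 1, 3, 4, 2, 3, 0, 2, 1, 3, 4, 5, 6, 7], [(0, .inr 1), (1, .inl [5, 3, 4, 2, 3, 0, 2, 1, 3, 4, 5, 6, 7, 6, 5, 4, 3, 2, 1, 3, 4, 5, 6, 0, 2, 3, 4, 5, 1, 3, 4, 2, 3, 0, 2, 1, 3, 4, 5, 6, 7]), (2, .inr 3), (3, .inr 4), (4, .inl [4, 5, 1, 3, 4, 2, 3, 0, 2, 1, 3, 4, 5, 6, 7, 6, 5, 4, 3, 2, 1, 3, 4, 5, 6, 0, 2, 3, 4, 5, 1, 3, 4, 2, 3, 0, 2, 1, 3, 4, 5, 6, 7]), (5, .inl [1, 3, 4, 2, 3, 0, 2, 1, 3, 4, 5, 6, 7, 6, 5, 4, 3, 2, 1, 3, 4, 5, 6, 0, 2, 3, 4, 5, 1, 3, 4, 2, 3, 0, 2, 1, 3, 4, 5, 6, 7]), (6, .inl [6, 5, 1, 3, 4, 2, 3, 0, 2, 1, 3, 4, 5, 6, 7, 6, 5, 4, 3, 2, 1, 3, 4, 5, 6, 0, 2, 3, 4, 5,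 1, 3, 4, 2, 3, 0, 2, 1, 3, 4, 5, 6, 7]), (7, .inl [5, 1, 3, 4, 2, 3, 0, 2, 1, 3, 4, 5, 6, 7, 5, 4, 3, 2, 1, 3, 4, 5, 6, 0, 2, 3, 4, 5, 1, 3, 4, 2, 3, 0, 2, 1, 3, 4, 5, 6, 7])]),
   ([4, 5, 3, 4, 2, 3, 0, 2, 1, 3, 4, 5, 6, 7, 6, 5, 4, 3, 2, 1, 3, 4, 5, 6, 0, 2, 3, 4, 5, 1, 3, 4, 2, 3, 0, 2, 1, 3, 4, 5, 6, 7], [(0, .inr 1), (1, .inl [4, 5, 1, 3, 4, 2, 3, 0, 2, 1, 3, 4, 5, 6, 7, 6, 5, 4, 3, 2, 1, 3, 4, 5, 6, 0, 2, 3, 4, 5, 1, 3, 4, 2, 3, 0, 2, 1, 3, 4, 5, 6, 7]), (2, .inr 3), (3, .inr 2), (4, .inl [5, 3, 4, 2, 3, 0, 2, 1, 3, 4, 5, 6, 7, 6, 5, 4, 3, 2, 1, 3, 4, 5, 6, 0, 2, 3, 4, 5, 1, 3, 4, 2, 3, 0, 2, 1, 3, 4, 5, 6, 7]), (5, .inr 5), (6, .inl [6, 4, 5, 3, 4, 2, 3, 0, 2, 1, 3, 4,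 5, 6, 7, 6, 5, 4, 3, 2, 1, 3, 4, 5, 6, 0, 2, 3, 4, 5, 1, 3, 4, 2, 3, 0, 2, 1, 3, 4, 5, 6, 7]), (7, .inl [4, 5, 3, 4, 2, 3, 0, 2, 1, 3, 4, 5, 6, 7, 5, 4, 3, 2, 1, 3, 4, 5, 6, 0, 2, 3, 4, 5, 1, 3, 4, 2, 3, 0, 2, 1, 3, 4, 5, 6, 7])]),
   ([6, 5, 3, 4, 2, 3, 0, 2, 1, 3, 4, 5, 6, 7, 6, 5, 4, 3, 2, 1, 3, 4, 5, 6, 0, 2, 3, 4, 5, 1, 3, 4, 2, 3, 0, 2, 1, 3, 4, 5, 6, 7], [(0, .inr 1), (1, .inl [6, 5, 1, 3, 4, 2, 3, 0, 2, 1, 3, 4, 5, 6, 7, 6, 5, 4, 3, 2, 1, 3, 4, 5, 6, 0, 2, 3, 4, 5, 1, 3, 4, 2, 3, 0, 2, 1, 3, 4, 5, 6, 7]), (2, .inr 3), (3, .inl [6, 5, 4, 2, 3, 0, 2, 1, 3, 4, 5, 6, 7, 6, 5, 4, 3, 2, 1, 3, 4, 5, 6, 0, 2, 3, 4, 5, 1, 3, 4, 2, 3, 0, 2, 1, 3, 4, 5, 6, 7]), (4, .inl [6, 4,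 5, 3, 4, 2, 3, 0, 2, 1, 3, 4, 5, 6, 7, 6, 5, 4, 3, 2, 1, 3, 4, 5, 6, 0, 2, 3, 4, 5, 1, 3, 4, 2, 3, 0, 2, 1, 3, 4, 5, 6, 7]), (5, .inr 0), (6, .inl [5, 3, 4, 2, 3, 0, 2, 1, 3, 4, 5, 6, 7, 6, 5, 4, 3, 2, 1, 3, 4, 5, 6, 0, 2, 3, 4, 5, 1, 3, 4, 2, 3, 0, 2, 1, 3, 4, 5, 6, 7]), (7, .inr 6)]),
   ([4, 5, 1, 3, 4, 2, 3, 0, 2, 1, 3, 4, 5, 6, 7, 5, 4, 3, 2, 1, 3, 4, 5, 6, 0, 2, 3, 4, 5, 1, 3, 4, 2, 3, 0, 2, 1, 3, 4, 5, 6, 7], [(0, .inr 1), (1, .inl [4, 5, 3, 4, 2, 3, 0, 2, 1, 3, 4, 5, 6, 7, 5, 4, 3, 2, 1, 3, 4, 5, 6, 0, 2, 3, 4, 5, 1, 3, 4, 2, 3, 0, 2, 1, 3, 4, 5, 6, 7]), (2, .inr 3), (3, .inl [3, 4, 5, 1, 3, 4, 2, 3, 0, 2, 1, 3, 4, 5, 6, 7, 5, 4, 3, 2, 1, 3, 4, 5, 6, 0, 2, 3, 4, 5, 1,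 3, 4, 2, 3, 0, 2, 1, 3, 4, 5, 6, 7]), (4, .inl [5, 1, 3, 4, 2, 3, 0, 2, 1, 3, 4, 5, 6, 7, 5, 4, 3, 2, 1, 3, 4, 5, 6, 0, 2, 3, 4, 5, 1, 3, 4, 2, 3, 0, 2, 1, 3, 4, 5, 6, 7]), (5, .inr 5), (6, .inr 6), (7, .inl [4, 5, 1, 3, 4, 2, 3, 0, 2, 1, 3, 4, 5, 6, 7, 6, 5, 4, 3, 2, 1, 3, 4, 5, 6, 0, 2, 3, 4, 5, 1, 3, 4, 2, 3, 0, 2, 1, 3, 4, 5, 6, 7])]),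
   ([4, 5, 1, 3, 4, 2, 3, 0, 2, 1, 3, 4, 5, 6, 7, 6, 5, 4, 3, 2, 1, 3, 4, 5, 6, 0, 2, 3, 4, 5, 1, 3, 4, 2, 3, 0, 2, 1, 3, 4, 5, 6, 7], [(0, .inr 1), (1, .inl [4, 5, 3, 4, 2, 3, 0, 2, 1, 3, 4, 5, 6, 7, 6, 5, 4, 3, 2, 1, 3, 4, 5, 6, 0, 2, 3, 4, 5, 1, 3, 4, 2, 3, 0, 2, 1, 3, 4, 5, 6, 7]), (2, .inr 3), (3, .inl [3, 4, 5, 1, 3, 4, 2, 3, 0, 2, 1, 3, 4, 5, 6, 7, 6, 5, 4, 3, 2, 1, 3, 4, 5, 6, 0, 2, 3, 4, 5, 1, 3, 4, 2, 3, 0, 2, 1, 3, 4, 5, 6, 7]), (4, .inl [5, 1, 3, 4, 2, 3, 0, 2, 1, 3, 4, 5, 6, 7, 6, 5, 4, 3, 2, 1, 3, 4, 5, 6, 0, 2, 3, 4, 5, 1, 3, 4, 2, 3, 0, 2, 1, 3, 4, 5, 6, 7]), (5, .inr 5), (6, .inl [6, 4, 5, 1, 3, 4, 2, 3, 0, 2, 1, 3, 4, 5, 6, 7, 6, 5, 4, 3, 2, 1, 3, 4, 5, 6,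 0, 2, 3, 4, 5, 1, 3, 4, 2, 3, 0, 2, 1, 3, 4, 5, 6, 7]), (7, .inl [4, 5, 1, 3, 4, 2, 3, 0, 2, 1, 3, 4, 5, 6, 7, 5, 4, 3, 2, 1, 3, 4, 5, 6, 0, 2, 3, 4, 5, 1, 3, 4, 2, 3, 0, 2, 1, 3, 4, 5, 6, 7])]),
   ([6, 5, 1, 3, 4, 2, 3, 0, 2, 1, 3, 4, 5, 6, 7, 6, 5, 4, 3, 2, 1, 3, 4, 5, 6, 0, 2, 3, 4, 5, 1, 3, 4, 2, 3, 0, 2, 1, 3, 4, 5, 6, 7], [(0, .inr 1), (1, .inl [6, 5, 3, 4, 2, 3, 0, 2, 1, 3, 4, 5, 6, 7, 6, 5, 4, 3, 2, 1, 3, 4, 5, 6, 0, 2, 3, 4, 5, 1, 3, 4, 2, 3, 0, 2, 1, 3, 4, 5, 6, 7]), (2, .inr 3), (3, .inr 4), (4, .inl [6, 4, 5, 1, 3, 4, 2, 3, 0, 2, 1, 3, 4, 5, 6, 7, 6, 5, 4, 3, 2, 1, 3, 4, 5, 6, 0, 2, 3, 4, 5, 1, 3, 4, 2, 3, 0, 2, 1, 3, 4, 5, 6, 7]), (5, .inr 0), (6, .inl [5, 1, 3,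 4, 2, 3, 0, 2, 1, 3, 4, 5, 6, 7, 6, 5, 4, 3, 2, 1, 3, 4, 5, 6, 0, 2, 3, 4, 5, 1, 3, 4, 2, 3, 0, 2, 1, 3, 4, 5, 6, 7]), (7, .inr 6)]),
   ([6, 4, 5, 3, 4, 2, 3, 0, 2, 1, 3, 4, 5, 6, 7, 6, 5, 4, 3, 2, 1, 3, 4, 5, 6, 0, 2, 3, 4, 5, 1, 3, 4, 2, 3, 0, 2, 1, 3, 4, 5, 6, 7], [(0, .inr 1), (1, .inl [6, 4, 5, 1, 3, 4, 2, 3, 0, 2, 1, 3, 4, 5, 6, 7, 6, 5, 4, 3, 2, 1, 3, 4, 5, 6, 0, 2, 3, 4, 5, 1, 3, 4, 2, 3, 0, 2, 1, 3, 4, 5, 6, 7]), (2, .inr 3), (3, .inr 2), (4, .inl [6, 5, 3, 4, 2, 3, 0, 2, 1, 3, 4, 5, 6, 7, 6, 5, 4, 3, 2, 1, 3, 4, 5, 6, 0, 2, 3, 4, 5, 1, 3, 4, 2, 3, 0, 2, 1, 3, 4, 5, 6, 7]), (5, .inl [5, 6, 4, 5, 3, 4, 2, 3, 0, 2, 1, 3, 4, 5, 6, 7, 6, 5, 4, 3, 2, 1, 3, 4, 5, 6, 0, 2,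 3, 4, 5, 1, 3, 4, 2, 3, 0, 2, 1, 3, 4, 5, 6, 7]), (6, .inl [4, 5, 3, 4, 2, 3, 0, 2, 1, 3, 4, 5, 6, 7, 6, 5, 4, 3, 2, 1, 3, 4, 5, 6, 0, 2, 3, 4, 5, 1, 3, 4, 2, 3, 0, 2, 1, 3, 4, 5, 6, 7]), (7, .inr 6)]),
   ([3, 4, 5, 1, 3, 4, 2, 3, 0, 2, 1, 3, 4, 5, 6, 7, 5, 4, 3, 2, 1, 3, 4, 5, 6, 0, 2, 3, 4, 5, 1, 3, 4, 2, 3, 0, 2, 1, 3, 4, 5, 6, 7], [(0, .inr 1), (1, .inr 2), (2, .inl [2, 3, 4, 5, 1, 3, 4, 2, 3, 0, 2, 1, 3, 4, 5, 6, 7, 5, 4, 3, 2, 1, 3, 4, 5, 6, 0, 2, 3, 4, 5, 1, 3, 4, 2, 3, 0, 2, 1, 3, 4, 5, 6, 7]), (3, .inl [4, 5, 1, 3, 4, 2, 3, 0, 2, 1, 3, 4, 5, 6, 7, 5, 4, 3, 2, 1, 3, 4, 5, 6, 0, 2, 3, 4, 5, 1, 3, 4, 2, 3, 0, 2, 1, 3, 4, 5, 6, 7]), (4, .inr 4), (5, .inr 5), (6, .inr 6),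 (7, .inl [3, 4, 5, 1, 3, 4, 2, 3, 0, 2, 1, 3, 4, 5, 6, 7, 6, 5, 4, 3, 2, 1, 3, 4, 5, 6, 0, 2, 3, 4, 5, 1, 3, 4, 2, 3, 0, 2, 1, 3, 4, 5, 6, 7])]),
   ([3, 4, 5, 1, 3, 4, 2, 3, 0, 2, 1, 3, 4, 5, 6, 7, 6, 5, 4, 3, 2, 1, 3, 4, 5, 6, 0, 2, 3, 4, 5, 1, 3, 4, 2, 3, 0, 2, 1, 3, 4, 5, 6, 7], [(0, .inr 1), (1, .inr 2), (2, .inl [2, 3, 4, 5, 1, 3, 4, 2, 3, 0, 2, 1, 3, 4, 5, 6, 7, 6, 5, 4, 3, 2, 1, 3, 4, 5, 6, 0, 2, 3, 4, 5, 1, 3, 4, 2, 3, 0, 2, 1, 3, 4, 5, 6, 7]), (3, .inl [4, 5, 1, 3, 4, 2, 3, 0, 2, 1, 3, 4, 5, 6, 7, 6, 5, 4, 3, 2, 1, 3, 4, 5, 6, 0, 2, 3, 4, 5, 1, 3, 4, 2, 3, 0, 2, 1, 3, 4, 5, 6, 7]), (4, .inr 4), (5, .inr 5), (6, .inl [6, 3, 4, 5, 1, 3, 4, 2, 3, 0, 2, 1, 3, 4, 5, 6,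 7, 6, 5, 4, 3, 2, 1, 3, 4, 5, 6, 0, 2, 3, 4, 5, 1, 3, 4, 2, 3, 0, 2, 1, 3, 4, 5, 6, 7]), (7, .inl [3, 4, 5, 1, 3, 4, 2, 3, 0, 2, 1, 3, 4, 5, 6, 7, 5, 4, 3, 2, 1, 3, 4, 5, 6, 0, 2, 3, 4, 5, 1, 3, 4, 2, 3, 0, 2, 1, 3, 4, 5, 6, 7])]),
   ([6, 4, 5, 1, 3, 4, 2, 3, 0, 2, 1, 3, 4, 5, 6, 7, 6, 5, 4, 3, 2, 1, 3, 4, 5, 6, 0, 2, 3, 4, 5, 1, 3, 4, 2, 3, 0, 2, 1, 3, 4, 5, 6, 7], [(0, .inr 1), (1, .inl [6, 4, 5, 3, 4, 2, 3, 0, 2, 1, 3, 4, 5, 6, 7, 6, 5, 4, 3, 2, 1, 3, 4, 5, 6, 0, 2, 3, 4, 5, 1, 3, 4, 2, 3, 0, 2, 1, 3, 4, 5, 6, 7]), (2, .inr 3), (3, .inl [6, 3, 4, 5, 1, 3, 4, 2, 3, 0, 2, 1, 3, 4, 5, 6, 7, 6, 5, 4, 3, 2, 1, 3, 4, 5, 6, 0, 2, 3, 4, 5, 1, 3, 4, 2, 3, 0, 2, 1, 3, 4, 5, 6, 7]),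 (4, .inl [6, 5, 1, 3, 4, 2, 3, 0, 2, 1, 3, 4, 5, 6, 7, 6, 5, 4, 3, 2, 1, 3, 4, 5, 6, 0, 2, 3, 4, 5, 1, 3, 4, 2, 3, 0, 2, 1, 3, 4, 5, 6, 7]), (5, .inl [5, 6, 4, 5, 1, 3, 4, 2, 3, 0, 2, 1, 3, 4, 5, 6, 7, 6, 5, 4, 3, 2, 1, 3, 4, 5, 6, 0, 2, 3, 4, 5, 1, 3, 4, 2, 3, 0, 2, 1, 3, 4, 5, 6, 7]), (6, .inl [4, 5, 1, 3, 4, 2, 3, 0, 2, 1, 3, 4, 5, 6, 7, 6, 5, 4, 3, 2, 1, 3, 4, 5, 6, 0, 2, 3, 4, 5, 1, 3, 4, 2, 3, 0, 2, 1, 3, 4, 5, 6, 7]), (7, .inr 6)]),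
   ([5, 6, 4, 5, 3, 4, 2, 3, 0, 2, 1, 3, 4, 5, 6, 7, 6, 5, 4, 3, 2, 1, 3, 4, 5, 6, 0, 2, 3, 4, 5, 1, 3, 4, 2, 3, 0, 2, 1, 3, 4, 5, 6, 7], [(0, .inr 1), (1, .inl [5, 6, 4, 5, 1, 3, 4, 2, 3, 0, 2, 1, 3, 4, 5, 6, 7, 6, 5, 4, 3, 2, 1, 3, 4, 5, 6, 0, 2, 3, 4, 5, 1, 3, 4, 2, 3, 0, 2, 1, 3, 4, 5, 6, 7]), (2, .inr 3), (3, .inr 2), (4, .inr 0), (5, .inl [6, 4, 5, 3, 4, 2, 3, 0, 2, 1, 3, 4, 5, 6, 7, 6, 5, 4, 3, 2, 1, 3, 4, 5, 6, 0, 2, 3, 4, 5, 1, 3, 4, 2, 3, 0, 2, 1, 3, 4, 5, 6, 7]), (6, .inr 5), (7, .inr 6)]),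
   ([2, 3, 4, 5, 1, 3, 4, 2, 3, 0, 2, 1, 3, 4, 5, 6, 7, 5, 4, 3, 2, 1, 3, 4, 5, 6, 0, 2, 3, 4, 5, 1, 3, 4, 2, 3, 0, 2, 1, 3, 4, 5, 6, 7], [(0, .inl [0, 2, 3, 4, 5, 1, 3, 4, 2, 3, 0, 2, 1, 3, 4, 5, 6, 7, 5, 4, 3, 2, 1, 3, 4, 5, 6, 0, 2, 3, 4, 5, 1, 3, 4, 2, 3, 0, 2, 1, 3, 4, 5, 6, 7]), (1, .inr 2), (2, .inl [3, 4, 5, 1, 3, 4, 2, 3, 0, 2, 1, 3, 4, 5, 6, 7, 5, 4, 3, 2, 1, 3, 4, 5, 6, 0, 2, 3, 4, 5, 1, 3, 4, 2, 3, 0, 2, 1, 3, 4, 5, 6, 7]), (3, .inr 3), (4, .inr 4), (5, .inr 5), (6, .inr 6), (7, .inl [2, 3, 4, 5, 1, 3, 4, 2, 3, 0, 2, 1, 3, 4, 5, 6, 7, 6, 5, 4, 3, 2, 1, 3, 4, 5, 6, 0, 2, 3, 4, 5, 1, 3, 4, 2, 3, 0, 2, 1, 3, 4, 5, 6, 7])]),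
   ([2, 3, 4, 5, 1, 3, 4, 2, 3, 0, 2, 1, 3, 4, 5, 6, 7, 6, 5, 4, 3, 2, 1, 3, 4, 5, 6, 0, 2, 3, 4, 5, 1, 3, 4, 2, 3, 0, 2, 1, 3, 4, 5, 6, 7], [(0, .inl [0, 2, 3, 4, 5, 1, 3, 4, 2, 3, 0, 2, 1, 3, 4, 5, 6, 7, 6, 5, 4, 3, 2, 1, 3, 4, 5, 6, 0, 2, 3, 4, 5, 1, 3, 4, 2, 3, 0, 2, 1, 3, 4, 5, 6, 7]), (1, .inr 2), (2, .inl [3, 4, 5, 1, 3, 4, 2, 3, 0, 2, 1, 3, 4, 5, 6, 7, 6, 5, 4, 3, 2, 1, 3, 4, 5, 6, 0, 2, 3, 4, 5, 1, 3, 4, 2, 3, 0, 2, 1, 3, 4, 5, 6, 7]), (3, .inr 3), (4, .inr 4), (5, .inr 5), (6, .inl [6, 2, 3, 4, 5, 1, 3, 4, 2, 3, 0, 2, 1, 3, 4, 5, 6, 7, 6, 5, 4, 3, 2, 1, 3, 4, 5, 6, 0, 2, 3, 4, 5, 1, 3, 4, 2, 3, 0, 2, 1, 3, 4, 5, 6, 7]), (7, .inl [2, 3, 4, 5, 1, 3, 4, 2, 3, 0, 2, 1,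 3, 4, 5, 6, 7, 5, 4, 3, 2, 1, 3, 4, 5, 6, 0, 2, 3, 4, 5, 1, 3, 4, 2, 3, 0, 2, 1, 3, 4, 5, 6, 7])]),
   ([6, 3, 4, 5, 1, 3, 4, 2, 3, 0, 2, 1, 3, 4, 5, 6, 7, 6, 5, 4, 3, 2, 1, 3, 4, 5, 6, 0, 2, 3, 4, 5, 1, 3, 4, 2, 3, 0, 2, 1, 3, 4, 5, 6, 7], [(0, .inr 1), (1, .inr 2), (2, .inl [6, 2, 3, 4, 5, 1, 3, 4, 2, 3, 0, 2, 1, 3, 4, 5, 6, 7, 6, 5, 4, 3, 2, 1, 3, 4, 5, 6, 0, 2, 3, 4, 5, 1, 3, 4, 2, 3, 0, 2, 1, 3, 4, 5, 6, 7]), (3, .inl [6, 4, 5, 1, 3, 4, 2, 3, 0, 2, 1, 3, 4, 5, 6, 7, 6, 5, 4, 3, 2, 1, 3, 4, 5, 6, 0, 2, 3, 4, 5, 1, 3, 4, 2, 3, 0, 2, 1, 3, 4, 5, 6, 7]), (4, .inr 4), (5, .inl [5, 6, 3, 4, 5, 1, 3, 4, 2, 3, 0, 2, 1, 3, 4, 5, 6, 7, 6, 5, 4, 3, 2, 1, 3, 4, 5, 6, 0, 2, 3, 4, 5,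 1, 3, 4, 2, 3, 0, 2, 1, 3, 4, 5, 6, 7]), (6, .inl [3, 4, 5, 1, 3, 4, 2, 3, 0, 2, 1, 3, 4, 5, 6, 7, 6, 5, 4, 3, 2, 1, 3, 4, 5, 6, 0, 2, 3, 4, 5, 1, 3, 4, 2, 3, 0, 2, 1, 3, 4, 5, 6, 7]), (7, .inr 6)]),
   ([5, 6, 4, 5, 1, 3, 4, 2, 3, 0, 2, 1, 3, 4, 5, 6, 7, 6, 5, 4, 3, 2, 1, 3, 4, 5, 6, 0, 2, 3, 4, 5, 1, 3, 4, 2, 3, 0, 2, 1, 3, 4, 5, 6, 7], [(0, .inr 1), (1, .inl [5, 6, 4, 5, 3, 4, 2, 3, 0, 2, 1, 3, 4, 5, 6, 7, 6, 5, 4, 3, 2, 1, 3, 4, 5, 6, 0, 2, 3, 4, 5, 1, 3, 4, 2, 3, 0, 2, 1, 3, 4, 5, 6, 7]), (2, .inr 3), (3, .inl [5, 6, 3, 4, 5, 1, 3, 4, 2, 3, 0, 2, 1, 3, 4, 5, 6, 7, 6, 5, 4, 3, 2, 1, 3, 4, 5, 6, 0, 2, 3, 4, 5, 1, 3, 4, 2, 3, 0, 2, 1, 3, 4, 5, 6, 7]), (4, .inr 0), (5, .inl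 [6, 4, 5, 1, 3, 4, 2, 3, 0, 2, 1, 3, 4, 5, 6, 7, 6, 5, 4, 3, 2, 1, 3, 4, 5, 6, 0, 2, 3, 4, 5, 1, 3, 4, 2, 3, 0, 2, 1, 3, 4, 5, 6, 7]), (6, .inr 5), (7, .inr 6)]),
   ([0, 2, 3, 4, 5, 1, 3, 4, 2, 3, 0, 2, 1, 3, 4, 5, 6, 7, 5, 4, 3, 2, 1, 3, 4, 5, 6, 0, 2, 3, 4, 5, 1, 3, 4, 2, 3, 0, 2, 1, 3, 4, 5, 6, 7], [(0, .inl [2, 3, 4, 5, 1, 3, 4, 2, 3, 0, 2, 1, 3, 4, 5, 6, 7, 5, 4, 3, 2, 1, 3, 4, 5, 6, 0, 2, 3, 4, 5, 1, 3, 4, 2, 3, 0, 2, 1, 3, 4, 5, 6, 7]), (1, .inr 2), (2, .inr 1), (3, .inr 3), (4, .inr 4), (5, .inr 5), (6, .inr 6), (7, .inl [0, 2, 3, 4, 5, 1, 3, 4, 2, 3, 0, 2, 1, 3, 4, 5, 6, 7, 6, 5, 4, 3, 2, 1, 3, 4, 5, 6, 0, 2, 3, 4, 5, 1, 3, 4, 2, 3, 0, 2, 1, 3, 4, 5, 6, 7])]),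
   ([0, 2, 3, 4, 5, 1, 3, 4, 2, 3, 0, 2, 1, 3, 4, 5, 6, 7, 6, 5, 4, 3, 2, 1, 3, 4, 5, 6, 0, 2, 3, 4, 5, 1, 3, 4, 2, 3, 0, 2, 1, 3, 4, 5, 6, 7], [(0, .inl [2, 3, 4, 5, 1, 3, 4, 2, 3, 0, 2, 1, 3, 4, 5, 6, 7, 6, 5, 4, 3, 2, 1, 3, 4, 5, 6, 0, 2, 3, 4, 5, 1, 3, 4, 2, 3, 0, 2, 1, 3, 4, 5, 6, 7]), (1, .inr 2), (2, .inr 1), (3, .inr 3), (4, .inr 4), (5, .inr 5), (6, .inl [6, 0, 2, 3, 4, 5, 1, 3, 4, 2, 3, 0, 2, 1, 3, 4, 5, 6, 7, 6, 5, 4, 3, 2, 1, 3, 4, 5, 6, 0, 2, 3, 4, 5, 1, 3, 4, 2, 3, 0, 2, 1, 3, 4, 5, 6, 7]), (7, .inl [0, 2, 3, 4, 5, 1, 3, 4, 2, 3, 0, 2, 1, 3, 4, 5, 6, 7, 5, 4, 3, 2, 1, 3, 4, 5, 6, 0, 2, 3, 4, 5, 1, 3, 4, 2, 3, 0, 2, 1, 3, 4, 5, 6, 7])]),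
   ([6, 2, 3, 4, 5, 1, 3, 4, 2, 3, 0, 2, 1, 3, 4, 5, 6, 7, 6, 5, 4, 3, 2, 1, 3, 4, 5, 6, 0, 2, 3, 4, 5, 1, 3, 4, 2, 3, 0, 2, 1, 3, 4, 5, 6, 7], [(0, .inl [6, 0, 2, 3, 4, 5, 1, 3, 4, 2, 3, 0, 2, 1, 3, 4, 5, 6, 7, 6, 5, 4, 3, 2, 1, 3, 4, 5, 6, 0, 2, 3, 4, 5, 1, 3, 4, 2, 3, 0, 2, 1, 3, 4, 5, 6, 7]), (1, .inr 2), (2, .inl [6, 3, 4, 5, 1, 3, 4, 2, 3, 0, 2, 1, 3, 4, 5, 6, 7, 6, 5, 4, 3, 2, 1, 3, 4, 5, 6, 0, 2, 3, 4, 5, 1, 3, 4, 2, 3, 0, 2, 1, 3, 4, 5, 6, 7]), (3, .inr 3), (4, .inr 4), (5, .inl [5, 6, 2, 3, 4, 5, 1, 3, 4, 2, 3, 0, 2, 1, 3, 4, 5, 6, 7, 6, 5, 4, 3, 2, 1, 3, 4, 5, 6, 0, 2, 3, 4, 5, 1, 3, 4, 2, 3, 0, 2, 1, 3, 4, 5, 6, 7]), (6, .inl [2, 3, 4, 5, 1, 3, 4, 2, 3, 0, 2, 1,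 3, 4, 5, 6, 7, 6, 5, 4, 3, 2, 1, 3, 4, 5, 6, 0, 2, 3, 4, 5, 1, 3, 4, 2, 3, 0, 2, 1, 3, 4, 5, 6, 7]), (7, .inr 6)]),
   ([5, 6, 3, 4, 5, 1, 3, 4, 2, 3, 0, 2, 1, 3, 4, 5, 6, 7, 6, 5, 4, 3, 2, 1, 3, 4, 5, 6, 0, 2, 3, 4, 5, 1, 3, 4, 2, 3, 0, 2, 1, 3, 4, 5, 6, 7], [(0, .inr 1), (1, .inr 2), (2, .inl [5, 6, 2, 3, 4, 5, 1, 3, 4, 2, 3, 0, 2, 1, 3, 4, 5, 6, 7, 6, 5, 4, 3, 2, 1, 3, 4, 5, 6, 0, 2, 3, 4, 5, 1, 3, 4, 2, 3, 0, 2, 1, 3, 4, 5, 6, 7]), (3, .inl [5, 6, 4, 5, 1, 3, 4, 2, 3, 0, 2, 1, 3, 4, 5, 6, 7, 6, 5, 4, 3, 2, 1, 3, 4, 5, 6, 0, 2, 3, 4, 5, 1, 3, 4, 2, 3, 0, 2, 1, 3, 4, 5, 6, 7]), (4, .inl [4, 5, 6, 3, 4, 5, 1, 3, 4, 2, 3, 0, 2, 1, 3, 4, 5, 6, 7, 6, 5, 4, 3, 2, 1, 3, 4, 5, 6,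 0, 2, 3, 4, 5, 1, 3, 4, 2, 3, 0, 2, 1, 3, 4, 5, 6, 7]), (5, .inl [6, 3, 4, 5, 1, 3, 4, 2, 3, 0, 2, 1, 3, 4, 5, 6, 7, 6, 5, 4, 3, 2, 1, 3, 4, 5, 6, 0, 2, 3, 4, 5, 1, 3, 4, 2, 3, 0, 2, 1, 3, 4, 5, 6, 7]), (6, .inr 5), (7, .inr 6)]),
   ([6, 0, 2, 3, 4, 5, 1, 3, 4, 2, 3, 0, 2, 1, 3, 4, 5, 6, 7, 6, 5, 4, 3, 2, 1, 3, 4, 5, 6, 0, 2, 3, 4, 5, 1, 3, 4, 2, 3, 0, 2, 1, 3, 4, 5, 6, 7], [(0, .inl [6, 2, 3, 4, 5, 1, 3, 4, 2, 3, 0, 2, 1, 3, 4, 5, 6, 7, 6, 5, 4, 3, 2, 1, 3, 4, 5, 6, 0, 2, 3, 4, 5, 1, 3, 4, 2, 3, 0, 2, 1, 3, 4, 5, 6, 7]), (1, .inr 2), (2, .inr 1), (3, .inr 3), (4, .inr 4), (5, .inl [5, 6, 0, 2, 3, 4, 5, 1, 3, 4, 2, 3, 0, 2, 1, 3, 4, 5, 6, 7, 6, 5, 4, 3, 2, 1, 3, 4, 5, 6, 0,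 2, 3, 4, 5, 1, 3, 4, 2, 3, 0, 2, 1, 3, 4, 5, 6, 7]), (6, .inl [0, 2, 3, 4, 5, 1, 3, 4, 2, 3, 0, 2, 1, 3, 4, 5, 6, 7, 6, 5, 4, 3, 2, 1, 3, 4, 5, 6, 0, 2, 3, 4, 5, 1, 3, 4, 2, 3, 0, 2, 1, 3, 4, 5, 6, 7]), (7, .inr 6)]),
   ([5, 6, 2, 3, 4, 5, 1, 3, 4, 2, 3, 0, 2, 1, 3, 4, 5, 6, 7, 6, 5, 4, 3, 2, 1, 3, 4, 5, 6, 0, 2, 3, 4, 5, 1, 3, 4, 2, 3, 0, 2, 1, 3, 4, 5, 6, 7], [(0, .inl [5, 6, 0, 2, 3, 4, 5, 1, 3, 4, 2, 3, 0, 2, 1, 3, 4, 5, 6, 7, 6, 5, 4, 3, 2, 1, 3, 4, 5, 6, 0, 2, 3, 4, 5, 1, 3, 4, 2, 3, 0, 2, 1, 3, 4, 5, 6, 7]), (1, .inr 2), (2, .inl [5, 6, 3, 4, 5, 1, 3, 4, 2, 3, 0, 2, 1, 3, 4, 5, 6, 7, 6, 5, 4, 3, 2, 1, 3, 4, 5, 6, 0, 2, 3, 4, 5, 1, 3, 4, 2, 3, 0, 2, 1, 3, 4, 5, 6, 7]),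 (3, .inr 3), (4, .inl [4, 5, 6, 2, 3, 4, 5, 1, 3, 4, 2, 3, 0, 2, 1, 3, 4, 5, 6, 7, 6, 5, 4, 3, 2, 1, 3, 4, 5, 6, 0, 2, 3, 4, 5, 1, 3, 4, 2, 3, 0, 2, 1, 3, 4, 5, 6, 7]), (5, .inl [6, 2, 3, 4, 5, 1, 3, 4, 2, 3, 0, 2, 1, 3, 4, 5, 6, 7, 6, 5, 4, 3, 2, 1, 3, 4, 5, 6, 0, 2, 3, 4, 5, 1, 3, 4, 2, 3, 0, 2, 1, 3, 4, 5, 6, 7]), (6, .inr 5), (7, .inr 6)]),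
   ([4, 5, 6, 3, 4, 5, 1, 3, 4, 2, 3, 0, 2, 1, 3, 4, 5, 6, 7, 6, 5, 4, 3, 2, 1, 3, 4, 5, 6, 0, 2, 3, 4, 5, 1, 3, 4, 2, 3, 0, 2, 1, 3, 4, 5, 6, 7], [(0, .inr 1), (1, .inr 2), (2, .inl [4, 5, 6, 2, 3, 4, 5, 1, 3, 4, 2, 3, 0, 2, 1, 3, 4, 5, 6, 7, 6, 5, 4, 3, 2, 1, 3, 4, 5, 6, 0, 2, 3, 4, 5, 1, 3, 4, 2, 3, 0, 2, 1, 3, 4, 5, 6, 7]), (3, .inr 0), (4, .inl [5, 6, 3, 4, 5, 1, 3, 4, 2, 3, 0, 2, 1, 3, 4, 5, 6, 7, 6, 5, 4, 3, 2, 1, 3, 4, 5, 6, 0, 2, 3, 4, 5, 1, 3, 4, 2, 3, 0, 2, 1, 3, 4, 5, 6, 7]), (5, .inr 4), (6, .inr 5), (7, .inr 6)]),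
   ([5, 6, 0, 2, 3, 4, 5, 1, 3, 4, 2, 3, 0, 2, 1, 3, 4, 5, 6, 7, 6, 5, 4, 3, 2, 1, 3, 4, 5, 6, 0, 2, 3, 4, 5, 1, 3, 4, 2, 3, 0, 2, 1, 3, 4, 5, 6, 7], [(0, .inl [5, 6, 2, 3, 4, 5, 1, 3, 4, 2, 3, 0, 2, 1, 3, 4, 5, 6, 7, 6, 5, 4, 3, 2, 1, 3, 4, 5, 6, 0, 2, 3, 4, 5, 1, 3, 4, 2, 3, 0, 2, 1, 3, 4, 5, 6, 7]), (1, .inr 2), (2, .inr 1), (3, .inr 3), (4, .inl [4, 5, 6, 0, 2, 3, 4, 5, 1, 3, 4, 2, 3, 0, 2, 1, 3, 4, 5, 6, 7, 6, 5, 4, 3, 2, 1, 3, 4, 5, 6, 0, 2, 3, 4, 5, 1, 3, 4, 2, 3, 0, 2, 1, 3, 4, 5, 6, 7]), (5, .inl [6, 0, 2, 3, 4, 5, 1, 3, 4, 2, 3, 0, 2, 1, 3, 4, 5, 6, 7, 6, 5, 4, 3, 2, 1, 3, 4, 5, 6, 0, 2, 3, 4, 5, 1, 3, 4, 2, 3, 0, 2, 1, 3, 4, 5, 6, 7]), (6, .inr 5), (7, .inr 6)]),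
   ([4, 5, 6, 2, 3, 4, 5, 1, 3, 4, 2, 3, 0, 2, 1, 3, 4, 5, 6, 7, 6, 5, 4, 3, 2, 1, 3, 4, 5, 6, 0, 2, 3, 4, 5, 1, 3, 4, 2, 3, 0, 2, 1, 3, 4, 5, 6, 7], [(0, .inl [4, 5, 6, 0, 2, 3, 4, 5, 1, 3, 4, 2, 3, 0, 2, 1, 3, 4, 5, 6, 7, 6, 5, 4, 3, 2, 1, 3, 4, 5, 6, 0, 2, 3, 4, 5, 1, 3, 4, 2, 3, 0, 2, 1, 3, 4, 5, 6, 7]), (1, .inr 2), (2, .inl [4, 5, 6, 3, 4, 5, 1, 3, 4, 2, 3, 0, 2, 1, 3, 4, 5, 6, 7, 6, 5, 4, 3, 2, 1, 3, 4, 5, 6, 0, 2, 3, 4, 5, 1, 3, 4, 2, 3, 0, 2, 1, 3, 4, 5, 6, 7]), (3, .inl [3, 4, 5, 6, 2, 3, 4, 5, 1, 3, 4, 2, 3, 0, 2, 1, 3, 4, 5, 6, 7, 6, 5, 4, 3, 2, 1, 3, 4, 5, 6, 0, 2, 3, 4, 5, 1, 3, 4, 2, 3, 0, 2, 1, 3, 4, 5, 6, 7]), (4, .inl [5, 6, 2, 3, 4, 5, 1, 3, 4, 2, 3, 0, 2,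 1, 3, 4, 5, 6, 7, 6, 5, 4, 3, 2, 1, 3, 4, 5, 6, 0, 2, 3, 4, 5, 1, 3, 4, 2, 3, 0, 2, 1, 3, 4, 5, 6, 7]), (5, .inr 4), (6, .inr 5), (7, .inr 6)]),
   ([4, 5, 6, 0, 2, 3, 4, 5, 1, 3, 4, 2, 3, 0, 2, 1, 3, 4, 5, 6, 7, 6, 5, 4, 3, 2, 1, 3, 4, 5, 6, 0, 2, 3, 4, 5, 1, 3, 4, 2, 3, 0, 2, 1, 3, 4, 5, 6, 7], [(0, .inl [4, 5, 6, 2, 3, 4, 5, 1, 3, 4, 2, 3, 0, 2, 1, 3, 4, 5, 6, 7, 6, 5, 4, 3, 2, 1, 3, 4, 5, 6, 0, 2, 3, 4, 5, 1, 3, 4, 2, 3, 0, 2, 1, 3, 4, 5, 6, 7]), (1, .inr 2), (2, .inr 1), (3, .inl [3, 4, 5, 6, 0, 2, 3, 4, 5, 1, 3, 4, 2, 3, 0, 2, 1, 3, 4, 5, 6, 7, 6, 5, 4, 3, 2, 1, 3, 4, 5, 6, 0, 2, 3, 4, 5, 1, 3, 4, 2, 3, 0, 2, 1, 3, 4, 5, 6, 7]), (4, .inl [5, 6, 0, 2, 3, 4, 5, 1, 3, 4,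 2, 3, 0, 2, 1, 3, 4, 5, 6, 7, 6, 5, 4, 3, 2, 1, 3, 4, 5, 6, 0, 2, 3, 4, 5, 1, 3, 4, 2, 3, 0, 2, 1, 3, 4, 5, 6, 7]), (5, .inr 4), (6, .inr 5), (7, .inr 6)]),
   ([3, 4, 5, 6, 2, 3, 4, 5, 1, 3, 4, 2, 3, 0, 2, 1, 3, 4, 5, 6, 7, 6, 5, 4, 3, 2, 1, 3, 4, 5, 6, 0, 2, 3, 4, 5, 1, 3, 4, 2, 3, 0, 2, 1, 3, 4, 5, 6, 7], [(0, .inl [3, 4, 5, 6, 0, 2, 3, 4, 5, 1, 3, 4, 2, 3, 0, 2, 1, 3, 4, 5, 6, 7, 6, 5, 4, 3, 2, 1, 3, 4, 5, 6, 0, 2, 3, 4, 5, 1, 3, 4, 2, 3, 0, 2, 1, 3, 4, 5, 6, 7]), (1, .inl [1, 3, 4, 5, 6, 2, 3, 4, 5, 1, 3, 4, 2, 3, 0, 2, 1, 3, 4, 5, 6, 7, 6, 5, 4, 3, 2, 1, 3, 4, 5, 6, 0, 2, 3, 4, 5, 1, 3, 4, 2, 3, 0, 2, 1, 3, 4, 5, 6, 7]), (2, .inr 0), (3, .inl [4, 5, 6, 2, 3, 4, 5, 1, 3,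 4, 2, 3, 0, 2, 1, 3, 4, 5, 6, 7, 6, 5, 4, 3, 2, 1, 3, 4, 5, 6, 0, 2, 3, 4, 5, 1, 3, 4, 2, 3, 0, 2, 1, 3, 4, 5, 6, 7]), (4, .inr 3), (5, .inr 4), (6, .inr 5), (7, .inr 6)]),
   ([3, 4, 5, 6, 0, 2, 3, 4, 5, 1, 3, 4, 2, 3, 0, 2, 1, 3, 4, 5, 6, 7, 6, 5, 4, 3, 2, 1, 3, 4, 5, 6, 0, 2, 3, 4, 5, 1, 3, 4, 2, 3, 0, 2, 1, 3, 4, 5, 6, 7], [(0, .inl [3, 4, 5, 6, 2, 3, 4, 5, 1, 3, 4, 2, 3, 0, 2, 1, 3, 4, 5, 6, 7, 6, 5, 4, 3, 2, 1, 3, 4, 5, 6, 0, 2, 3, 4, 5, 1, 3, 4, 2, 3, 0, 2, 1, 3, 4, 5, 6, 7]), (1, .inl [1, 3, 4, 5, 6, 0, 2, 3, 4, 5, 1, 3, 4, 2, 3, 0, 2, 1, 3, 4, 5, 6, 7, 6, 5, 4, 3, 2, 1, 3, 4, 5, 6, 0, 2, 3, 4, 5, 1, 3, 4, 2, 3, 0, 2, 1, 3, 4, 5, 6, 7]), (2, .inl [2, 3, 4, 5, 6, 0, 2,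 3, 4, 5, 1, 3, 4, 2, 3, 0, 2, 1, 3, 4, 5, 6, 7, 6, 5, 4, 3, 2, 1, 3, 4, 5, 6, 0, 2, 3, 4, 5, 1, 3, 4, 2, 3, 0, 2, 1, 3, 4, 5, 6, 7]), (3, .inl [4, 5, 6, 0, 2, 3, 4, 5, 1, 3, 4, 2, 3, 0, 2, 1, 3, 4, 5, 6, 7, 6, 5, 4, 3, 2, 1, 3, 4, 5, 6, 0, 2, 3, 4, 5, 1, 3, 4, 2, 3, 0, 2, 1, 3, 4, 5, 6, 7]), (4, .inr 3), (5, .inr 4), (6, .inr 5), (7, .inr 6)]),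
   ([1, 3, 4, 5, 6, 2, 3, 4, 5, 1, 3, 4, 2, 3, 0, 2, 1, 3, 4, 5, 6, 7, 6, 5, 4, 3, 2, 1, 3, 4, 5, 6, 0, 2, 3, 4, 5, 1, 3, 4, 2, 3, 0, 2, 1, 3, 4, 5, 6, 7], [(0, .inl [1, 3, 4, 5, 6, 0, 2, 3, 4, 5, 1, 3, 4, 2, 3, 0, 2, 1, 3, 4, 5, 6, 7, 6, 5, 4, 3, 2, 1, 3, 4, 5, 6, 0, 2, 3, 4, 5, 1, 3, 4, 2, 3, 0, 2, 1, 3, 4, 5, 6, 7]), (1, .inl [3, 4, 5, 6, 2, 3, 4, 5, 1, 3, 4, 2, 3, 0, 2, 1, 3, 4, 5, 6, 7, 6, 5, 4, 3, 2, 1, 3, 4, 5, 6, 0, 2, 3, 4, 5, 1, 3, 4, 2, 3, 0, 2, 1, 3, 4, 5, 6, 7]), (2, .inr 0), (3, .inr 2), (4, .inr 3), (5, .inr 4), (6, .inr 5), (7, .inr 6)]),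
   ([1, 3, 4, 5, 6, 0, 2, 3, 4, 5, 1, 3, 4, 2, 3, 0, 2, 1, 3, 4, 5, 6, 7, 6, 5, 4, 3, 2, 1, 3, 4, 5, 6, 0, 2, 3, 4, 5, 1, 3, 4, 2, 3, 0, 2, 1, 3, 4, 5, 6, 7], [(0, .inl [1, 3, 4, 5, 6, 2, 3, 4, 5, 1, 3, 4, 2, 3, 0, 2, 1, 3, 4, 5, 6, 7, 6, 5, 4, 3, 2, 1, 3, 4, 5, 6, 0, 2, 3, 4, 5, 1, 3, 4, 2, 3, 0, 2, 1, 3, 4, 5, 6, 7]), (1, .inl [3, 4, 5, 6, 0, 2, 3, 4, 5, 1, 3, 4, 2, 3, 0, 2, 1, 3, 4, 5, 6, 7, 6, 5, 4, 3, 2, 1, 3, 4, 5, 6, 0, 2, 3, 4, 5, 1, 3, 4, 2, 3, 0, 2, 1, 3, 4, 5, 6, 7]), (2, .inl [2, 1, 3, 4, 5, 6, 0, 2, 3, 4, 5, 1, 3, 4, 2, 3, 0, 2, 1, 3, 4, 5, 6, 7, 6, 5, 4, 3, 2, 1, 3, 4, 5, 6, 0, 2, 3, 4, 5, 1, 3, 4, 2, 3, 0, 2, 1, 3, 4, 5, 6, 7]), (3, .inr 2), (4, .inr 3), (5, .inr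 4), (6, .inr 5), (7, .inr 6)]),
   ([2, 3, 4, 5, 6, 0, 2, 3, 4, 5, 1, 3, 4, 2, 3, 0, 2, 1, 3, 4, 5, 6, 7, 6, 5, 4, 3, 2, 1, 3, 4, 5, 6, 0, 2, 3, 4, 5, 1, 3, 4, 2, 3, 0, 2, 1, 3, 4, 5, 6, 7], [(0, .inr 0), (1, .inl [2, 1, 3, 4, 5, 6, 0, 2, 3, 4, 5, 1, 3, 4, 2, 3, 0, 2, 1, 3, 4, 5, 6, 7, 6, 5, 4, 3, 2, 1, 3, 4, 5, 6, 0, 2, 3, 4, 5, 1, 3, 4, 2, 3, 0, 2, 1, 3, 4, 5, 6, 7]), (2, .inl [3, 4, 5, 6, 0, 2, 3, 4, 5, 1, 3, 4, 2, 3, 0, 2, 1, 3, 4, 5, 6, 7, 6, 5, 4, 3, 2, 1, 3, 4, 5, 6, 0, 2, 3, 4, 5, 1, 3, 4, 2, 3, 0, 2, 1, 3, 4, 5, 6, 7]), (3, .inr 1), (4, .inr 3), (5, .inr 4), (6, .inr 5), (7, .inr 6)]),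
   ([2, 1, 3, 4, 5, 6, 0, 2, 3, 4, 5, 1, 3, 4, 2, 3, 0, 2, 1, 3, 4, 5, 6, 7, 6, 5, 4, 3, 2, 1, 3, 4, 5, 6, 0, 2, 3, 4, 5, 1, 3, 4, 2, 3, 0, 2, 1, 3, 4, 5, 6, 7], [(0, .inr 0), (1, .inl [2, 3, 4, 5, 6, 0, 2, 3, 4, 5, 1, 3, 4, 2, 3, 0, 2, 1, 3, 4, 5, 6, 7, 6, 5, 4, 3, 2, 1, 3, 4, 5, 6, 0, 2, 3, 4, 5, 1, 3, 4, 2, 3, 0, 2, 1, 3, 4, 5, 6, 7]), (2, .inl [1, 3, 4, 5, 6, 0, 2, 3, 4, 5, 1, 3, 4, 2, 3, 0, 2, 1, 3, 4, 5, 6, 7, 6, 5, 4, 3, 2, 1, 3, 4, 5, 6, 0, 2, 3, 4, 5, 1, 3, 4, 2, 3, 0, 2, 1, 3, 4, 5, 6, 7]), (3, .inl [3, 2, 1, 3, 4, 5, 6, 0, 2, 3, 4, 5, 1, 3, 4, 2, 3, 0, 2, 1, 3, 4, 5, 6, 7, 6, 5, 4, 3, 2, 1, 3, 4, 5, 6, 0, 2, 3, 4, 5, 1, 3, 4, 2, 3, 0, 2, 1, 3, 4, 5, 6, 7]), (4, .inr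 3), (5, .inr 4), (6, .inr 5), (7, .inr 6)]),
   ([3, 2, 1, 3, 4, 5, 6, 0, 2, 3, 4, 5, 1, 3, 4, 2, 3, 0, 2, 1, 3, 4, 5, 6, 7, 6, 5, 4, 3, 2, 1, 3, 4, 5, 6, 0, 2, 3, 4, 5, 1, 3, 4, 2, 3, 0, 2, 1, 3, 4, 5, 6, 7], [(0, .inr 0), (1, .inr 1), (2, .inr 2), (3, .inl [2, 1, 3, 4, 5, 6, 0, 2, 3, 4, 5, 1, 3, 4, 2, 3, 0, 2, 1, 3, 4, 5, 6, 7, 6, 5, 4, 3, 2, 1, 3, 4, 5, 6, 0, 2, 3, 4, 5, 1, 3, 4, 2, 3, 0, 2, 1, 3, 4, 5, 6, 7]), (4, .inl [4, 3, 2, 1, 3, 4, 5, 6, 0, 2, 3, 4, 5, 1, 3, 4, 2, 3, 0, 2, 1, 3, 4, 5, 6, 7, 6, 5, 4, 3, 2, 1, 3, 4, 5, 6, 0, 2, 3, 4, 5, 1, 3, 4, 2, 3, 0, 2, 1, 3, 4, 5, 6, 7]), (5, .inr 4), (6, .inr 5), (7, .inr 6)]),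
   ([4, 3, 2, 1, 3, 4, 5, 6, 0, 2, 3, 4, 5, 1, 3, 4, 2, 3, 0, 2, 1, 3, 4, 5, 6, 7, 6, 5, 4, 3, 2, 1, 3, 4, 5, 6, 0, 2, 3, 4, 5, 1, 3, 4, 2, 3, 0, 2, 1, 3, 4, 5, 6, 7], [(0, .inr 0), (1, .inr 1), (2, .inr 2), (3, .inr 3), (4, .inl [3, 2, 1, 3, 4, 5, 6, 0, 2, 3, 4, 5, 1, 3, 4, 2, 3, 0, 2, 1, 3, 4, 5, 6, 7, 6, 5, 4, 3, 2, 1, 3, 4, 5, 6, 0, 2, 3, 4, 5, 1, 3, 4, 2, 3, 0, 2, 1, 3, 4, 5, 6, 7]), (5, .inl [5, 4, 3, 2, 1, 3, 4, 5, 6, 0, 2, 3, 4, 5, 1, 3, 4, 2, 3, 0, 2, 1, 3, 4, 5, 6, 7, 6, 5, 4, 3, 2, 1, 3, 4, 5, 6, 0, 2, 3, 4, 5, 1, 3, 4, 2, 3, 0, 2, 1, 3, 4, 5, 6, 7]), (6, .inr 5), (7, .inr 6)]),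
   ([5, 4, 3, 2, 1, 3, 4, 5, 6, 0, 2, 3, 4, 5, 1, 3, 4, 2, 3, 0, 2, 1, 3, 4, 5, 6, 7, 6, 5, 4, 3, 2, 1, 3, 4, 5, 6, 0, 2, 3, 4, 5, 1, 3, 4, 2, 3, 0, 2, 1, 3, 4, 5, 6, 7], [(0, .inr 0), (1, .inr 1), (2, .inr 2), (3, .inr 3), (4, .inr 4), (5, .inl [4, 3, 2, 1, 3, 4, 5, 6, 0, 2, 3, 4, 5, 1, 3, 4, 2, 3, 0, 2, 1, 3, 4, 5, 6, 7, 6, 5, 4, 3, 2, 1, 3, 4, 5, 6, 0, 2, 3, 4, 5, 1, 3, 4, 2, 3, 0, 2, 1, 3, 4, 5, 6, 7]), (6, .inl [6, 5, 4, 3, 2, 1, 3, 4, 5, 6, 0, 2, 3, 4, 5, 1, 3, 4, 2, 3, 0, 2, 1, 3, 4, 5, 6, 7, 6, 5, 4, 3, 2, 1, 3, 4, 5, 6, 0, 2, 3, 4, 5, 1, 3, 4, 2, 3, 0, 2, 1, 3, 4, 5, 6, 7]), (7, .inr 6)]),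
   ([6, 5, 4, 3, 2, 1, 3, 4, 5, 6, 0, 2, 3, 4, 5, 1, 3, 4, 2, 3, 0, 2, 1, 3, 4, 5, 6, 7, 6, 5, 4, 3, 2, 1, 3, 4, 5, 6, 0, 2, 3, 4, 5, 1, 3, 4, 2, 3, 0, 2, 1, 3, 4, 5, 6, 7], [(0, .inr 0), (1, .inr 1), (2, .inr 2), (3, .inr 3), (4, .inr 4), (5, .inr 5), (6, .inl [5, 4, 3, 2, 1, 3, 4, 5, 6, 0, 2, 3, 4, 5, 1, 3, 4, 2, 3, 0, 2, 1, 3, 4, 5, 6, 7, 6, 5, 4, 3, 2, 1, 3, 4, 5, 6, 0, 2, 3, 4, 5, 1, 3, 4, 2, 3, 0, 2, 1, 3, 4, 5, 6, 7]), (7, .inl [7, 6, 5, 4, 3, 2, 1, 3, 4, 5, 6, 0, 2, 3, 4, 5, 1, 3, 4, 2, 3, 0, 2, 1, 3, 4, 5, 6, 7, 6, 5, 4, 3, 2, 1, 3, 4, 5, 6, 0, 2, 3, 4, 5, 1, 3, 4, 2, 3, 0, 2, 1, 3, 4, 5, 6, 7])]),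
   ([7, 6, 5, 4, 3, 2, 1, 3, 4, 5, 6, 0, 2, 3, 4, 5, 1, 3, 4, 2, 3, 0, 2, 1, 3, 4, 5, 6, 7, 6, 5, 4, 3, 2, 1, 3, 4, 5, 6, 0, 2, 3, 4, 5, 1, 3, 4, 2, 3, 0, 2, 1, 3, 4, 5, 6, 7], [(0, .inr 0), (1, .inr 1), (2, .inr 2), (3, .inr 3), (4, .inr 4), (5, .inr 5), (6, .inr 6), (7, .inl [6, 5, 4, 3, 2, 1, 3, 4, 5, 6, 0, 2, 3, 4, 5, 1, 3, 4, 2, 3, 0, 2, 1, 3, 4, 5, 6, 7, 6, 5, 4, 3, 2, 1, 3, 4, 5, 6, 0, 2, 3, 4, 5, 1, 3, 4, 2, 3, 0, 2, 1, 3, 4, 5, 6, 7])])]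

theorem lev7_ok : Tabs.chkLevel chevE8 T [0, 1, 2, 3, 4, 5, 6, 7] [0, 1, 2, 3, 4, 5, 6] lev7 = true := by decide +kernel

theorem lev7_distinct : Tabs.chkDistinct (lev7.map fun f => Tabs.imgs chevE8 T f.1) = true := by
  have e : (lev7.map fun f => Tabs.imgs chevE8 T f.1) =
      [[162, 141, 135, 130, 126, 123, 121, 120], [162, 141, 135, 130, 126, 123, 122, 119], [162, 141, 135, 130, 126, 124, 120, 117], [162, 141, 135, 130, 127, 121, 120, 114], [162, 141, 135, 131, 123, 121, 120, 110], [162, 142, 136, 126, 123, 121, 120, 105], [162, 130, 147, 126, 123, 121, 120, 93], [163, 147, 130, 126, 123, 121, 120, 99], [163, 136, 142, 126, 123, 121, 120, 88], [135, 169, 130, 126, 123,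 121, 120, 71], [135, 164, 142, 126, 123, 121, 120, 66], [164, 135, 141, 131, 123, 121, 120, 84], [136, 163, 141, 131, 123, 121, 120, 62], [165, 135, 141, 130, 127, 121, 120, 81], [130, 162, 141, 137, 123, 121, 120, 52], [137, 163, 141, 130, 127, 121, 120, 59], [166, 135, 141, 130, 126, 124, 120, 79], [131, 162, 141, 136, 127, 121, 120, 49], [138, 163, 141, 130, 126, 124, 120, 57], [167, 135, 141, 130, 126, 123, 122, 78], [126, 162, 142, 135, 132, 121, 120, 43], [132, 162, 141, 136, 126, 124, 120, 47], [139, 163, 141, 130, 126, 123, 122, 56], [168, 135, 141, 130, 126, 123, 121, 78], [126, 162, 130, 135, 144, 121, 120, 33], [127, 162, 142, 135, 131, 124, 120, 41], [133, 162, 141,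 136, 126, 123, 122, 46], [140, 163, 141, 130, 126, 123, 121, 56], [127, 162, 130, 135, 143, 124, 120, 31], [123, 162, 143, 135, 130, 128, 120, 38], [128, 162, 142, 135, 131, 123, 122, 40], [134, 162, 141, 136, 126, 123, 121, 46], [123, 162, 131, 135, 142, 128, 120, 28], [128, 162, 130, 135, 143, 123, 122, 30], [124, 162, 143, 135, 130, 127, 122, 37], [129, 162, 142, 135, 131, 123, 121, 40], [123, 162, 126, 136, 141, 133, 120, 24], [124, 162, 131, 135, 142, 127, 122, 27], [129, 162, 130, 135, 143, 123, 121, 30], [121, 162, 144, 135, 130, 126, 125, 36], [125, 162, 143, 135, 130, 127, 121, 37], [123, 163, 126, 130, 141, 139, 120, 19], [124, 162, 126, 136, 141, 132, 122, 23], [121,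 162, 132, 135, 142, 126, 125, 26], [125, 162, 131, 135, 142, 127, 121, 27], [122, 162, 144, 135, 130, 126, 124, 36], [123, 135, 126, 130, 141, 167, 120, 12], [124, 163, 126, 130, 141, 138, 122, 18], [121, 162, 127, 136, 141, 131, 125, 22], [125, 162, 126, 136, 141, 132, 121, 23], [122, 162, 132, 135, 142, 126, 124, 26], [120, 162, 145, 135, 130, 126, 123, 36], [124, 135, 126, 130, 141, 166, 122, 11], [121, 163, 127, 130, 141, 137, 125, 17], [125, 163, 126, 130, 141, 138, 121, 18], [121, 162, 123, 137, 141, 130, 129, 21], [122, 162, 127, 136, 141, 131, 124, 22], [120, 162, 133, 135, 142, 126, 123, 26], [121, 135, 127, 130, 141, 165, 125, 10], [125, 135, 126, 130, 141, 166, 121,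 11], [121, 163, 123, 131, 141, 136, 129, 16], [122, 163, 127, 130, 141, 137, 124, 17], [122, 162, 123, 137, 141, 130, 128, 21], [120, 162, 128, 136, 141, 131, 123, 22], [121, 135, 123, 131, 141, 164, 129, 9], [122, 135, 127, 130, 141, 165, 124, 10], [121, 164, 123, 126, 142, 135, 134, 15], [122, 163, 123, 131, 141, 136, 128, 16], [120, 163, 128, 130, 141, 137, 123, 17], [120, 162, 124, 137, 141, 130, 127, 21], [121, 136, 123, 126, 142, 163, 134, 8], [122, 135, 123, 131, 141, 164, 128, 9], [120, 135, 128, 130, 141, 165, 123, 10], [121, 169, 123, 126, 130, 135, 146, 14], [122, 164, 123, 126, 142, 135, 133, 15], [120, 163, 124, 131, 141, 136, 127, 16], [120, 162, 121, 138, 141,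 130, 126, 21], [121, 147, 123, 126, 130, 163, 146, 6], [121, 130, 123, 126, 147, 162, 140, 7], [122, 136, 123, 126, 142, 163, 133, 8], [120, 135, 124, 131, 141, 164, 127, 9], [122, 169, 123, 126, 130, 135, 145, 14], [120, 164, 124, 126, 142, 135, 132, 15], [120, 163, 121, 132, 141, 136, 126, 16], [121, 142, 123, 126, 136, 162, 151, 5], [122, 147, 123, 126, 130, 163, 145, 6], [122, 130, 123, 126, 147, 162, 139, 7], [120, 136, 124, 126, 142, 163, 132, 8], [120, 135, 121, 132, 141, 164, 126, 9], [120, 169, 124, 126, 130, 135, 144, 14], [120, 164, 121, 127, 142, 135, 131, 15], [121, 141, 123, 131, 135, 162, 155, 4], [122, 142, 123, 126, 136, 162, 150, 5], [120, 147, 124, 126, 130,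 163, 144, 6], [120, 130, 124, 126, 147, 162, 138, 7], [120, 136, 121, 127, 142, 163, 131, 8], [120, 169, 121, 127, 130, 135, 143, 14], [120, 165, 121, 123, 143, 135, 130, 15], [121, 141, 127, 130, 135, 162, 158, 3], [122, 141, 123, 131, 135, 162, 154, 4], [120, 142, 124, 126, 136, 162, 149, 5], [120, 147, 121, 127, 130, 163, 143, 6], [120, 130, 121, 127, 147, 162, 137, 7], [120, 137, 121, 123, 143, 163, 130, 8], [120, 170, 121, 123, 131, 135, 142, 14], [124, 141, 126, 130, 135, 162, 160, 2], [122, 141, 127, 130, 135, 162, 157, 3], [120, 141, 124, 131, 135, 162, 153, 4], [120, 142, 121, 127, 136, 162, 148, 5], [120, 148, 121, 123, 131, 163, 142, 6], [120, 131, 121, 123, 148,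 162, 136, 7], [120, 174, 121, 123, 126, 136, 141, 14], [123, 141, 126, 130, 135, 162, 161, 1], [125, 141, 126, 130, 135, 162, 159, 2], [120, 141, 128, 130, 135, 162, 156, 3], [120, 141, 121, 132, 135, 162, 152, 4], [120, 143, 121, 123, 137, 162, 147, 5], [120, 152, 121, 123, 126, 164, 141, 6], [120, 126, 121, 123, 152, 162, 135, 7], [120, 184, 121, 123, 126, 130, 141, 14], [123, 141, 126, 130, 135, 162, 161, 0], [125, 141, 126, 130, 135, 162, 159, 1], [120, 141, 128, 130, 135, 162, 156, 2], [120, 141, 121, 132, 135, 162, 152, 3], [120, 143, 121, 123, 137, 162, 147, 4], [120, 152, 121, 123, 126, 164, 141, 5], [120, 126, 121, 123, 152, 162, 135, 5], [120, 184, 121, 123, 126, 130,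 141, 6], [124, 141, 126, 130, 135, 162, 160, 0], [122, 141, 127, 130, 135, 162, 157, 1], [120, 141, 124, 131, 135, 162, 153, 2], [120, 142, 121, 127, 136, 162, 148, 3], [120, 131, 121, 123, 148, 162, 136, 4], [120, 148, 121, 123, 131, 163, 142, 4], [120, 174, 121, 123, 126, 136, 141, 5], [121, 141, 127, 130, 135, 162, 158, 0], [122, 141, 123, 131, 135, 162, 154, 1], [120, 142, 124, 126, 136, 162, 149, 2], [120, 130, 121, 127, 147, 162, 137, 3], [120, 147, 121, 127, 130, 163, 143, 3], [120, 137, 121, 123, 143, 163, 130, 4], [120, 170, 121, 123, 131, 135, 142, 4], [121, 141, 123, 131, 135, 162, 155, 0], [122, 142, 123, 126, 136, 162, 150, 1], [120, 130, 124, 126, 147, 162, 138,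 2], [120, 147, 124, 126, 130, 163, 144, 2], [120, 136, 121, 127, 142, 163, 131, 3], [120, 169, 121, 127, 130, 135, 143, 3], [120, 165, 121, 123, 143, 135, 130, 4], [121, 142, 123, 126, 136, 162, 151, 0], [122, 130, 123, 126, 147, 162, 139, 1], [122, 147, 123, 126, 130, 163, 145, 1], [120, 136, 124, 126, 142, 163, 132, 2], [120, 169, 124, 126, 130, 135, 144, 2], [120, 164, 121, 127, 142, 135, 131, 3], [120, 135, 121, 132, 141, 164, 126, 3], [121, 130, 123, 126, 147, 162, 140, 0], [121, 147, 123, 126, 130, 163, 146, 0], [122, 136, 123, 126, 142, 163, 133, 1], [122, 169, 123, 126, 130, 135, 145, 1], [120, 164, 124, 126, 142, 135, 132, 2], [120, 135, 124, 131, 141, 164, 127, 2],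 [120, 163, 121, 132, 141, 136, 126, 3], [121, 136, 123, 126, 142, 163, 134, 0], [121, 169, 123, 126, 130, 135, 146, 0], [122, 164, 123, 126, 142, 135, 133, 1], [122, 135, 123, 131, 141, 164, 128, 1], [120, 163, 124, 131, 141, 136, 127, 2], [120, 135, 128, 130, 141, 165, 123, 2], [120, 162, 121, 138, 141, 130, 126, 3], [121, 164, 123, 126, 142, 135, 134, 0], [121, 135, 123, 131, 141, 164, 129, 0], [122, 163, 123, 131, 141, 136, 128, 1], [122, 135, 127, 130, 141, 165, 124, 1], [120, 162, 124, 137, 141, 130, 127, 2], [120, 163, 128, 130, 141, 137, 123, 2], [121, 163, 123, 131, 141, 136, 129, 0], [121, 135, 127, 130, 141, 165, 125, 0], [122, 162, 123, 137, 141, 130, 128, 1], [122,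 163, 127, 130, 141, 137, 124, 1], [125, 135, 126, 130, 141, 166, 121, 1], [120, 162, 128, 136, 141, 131, 123, 2], [121, 162, 123, 137, 141, 130, 129, 0], [121, 163, 127, 130, 141, 137, 125, 0], [124, 135, 126, 130, 141, 166, 122, 0], [122, 162, 127, 136, 141, 131, 124, 1], [125, 163, 126, 130, 141, 138, 121, 1], [120, 162, 133, 135, 142, 126, 123, 2], [121, 162, 127, 136, 141, 131, 125, 0], [124, 163, 126, 130, 141, 138, 122, 0], [123, 135, 126, 130, 141, 167, 120, 0], [122, 162, 132, 135, 142, 126, 124, 1], [125, 162, 126, 136, 141, 132, 121, 1], [120, 162, 145, 135, 130, 126, 123, 2], [121, 162, 132, 135, 142, 126, 125, 0], [124, 162, 126, 136, 141, 132, 122, 0], [123, 163,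 126, 130, 141, 139, 120, 0], [122, 162, 144, 135, 130, 126, 124, 1], [125, 162, 131, 135, 142, 127, 121, 1], [121, 162, 144, 135, 130, 126, 125, 0], [124, 162, 131, 135, 142, 127, 122, 0], [123, 162, 126, 136, 141, 133, 120, 0], [125, 162, 143, 135, 130, 127, 121, 1], [129, 162, 130, 135, 143, 123, 121, 1], [124, 162, 143, 135, 130, 127, 122, 0], [128, 162, 130, 135, 143, 123, 122, 0], [123, 162, 131, 135, 142, 128, 120, 0], [129, 162, 142, 135, 131, 123, 121, 1], [128, 162, 142, 135, 131, 123, 122, 0], [123, 162, 143, 135, 130, 128, 120, 0], [127, 162, 130, 135, 143, 124, 120, 0], [134, 162, 141, 136, 126, 123, 121, 1], [133, 162, 141, 136, 126, 123, 122, 0], [127, 162, 142,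 135, 131, 124, 120, 0], [126, 162, 130, 135, 144, 121, 120, 0], [140, 163, 141, 130, 126, 123, 121, 1], [139, 163, 141, 130, 126, 123, 122, 0], [132, 162, 141, 136, 126, 124, 120, 0], [126, 162, 142, 135, 132, 121, 120, 0], [168, 135, 141, 130, 126, 123, 121, 1], [167, 135, 141, 130, 126, 123, 122, 0], [138, 163, 141, 130, 126, 124, 120, 0], [131, 162, 141, 136, 127, 121, 120, 0], [166, 135, 141, 130, 126, 124, 120, 0], [137, 163, 141, 130, 127, 121, 120, 0], [130, 162, 141, 137, 123, 121, 120, 0], [165, 135, 141, 130, 127, 121, 120, 0], [136, 163, 141, 131, 123, 121, 120, 0], [164, 135, 141, 131, 123, 121, 120, 0], [135, 164, 142, 126, 123, 121, 120, 0], [163, 136, 142, 126,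 123, 121, 120, 0], [135, 169, 130, 126, 123, 121, 120, 0], [163, 147, 130, 126, 123, 121, 120, 0], [162, 130, 147, 126, 123, 121, 120, 0], [162, 142, 136, 126, 123, 121, 120, 0], [162, 141, 135, 131, 123, 121, 120, 0], [162, 141, 135, 130, 127, 121, 120, 0], [162, 141, 135, 130, 126, 124, 120, 0], [162, 141, 135, 130, 126, 123, 122, 0], [162, 141, 135, 130, 126, 123, 121, 1]] := by decide +kernel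
  rw [e]
  decide +kernel

end Cfsg.Agent.Chev.E8
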