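import Cfsg.Agent.Lib.Chev.Poincare
import Cfsg.Agent.Lib.Chev.DataF4
import Cfsg.Prelude.Def_ChevF4

/-! Generated coset representatives along a chain of parabolic subgroups of type F4. -/

set_option autoImplicit false
set_option maxRecDepth 20000

namespace Cfsg.Agent.Chev.F4

open Cfsg.Lie

def lev0 : Tabs.Level :=
  [([], [(2, .inl [2])]),
   ([2], [(2, .inl [])])]

theorem lev0_ok : Tabs.chkLevel chevF4 T [2] [] lev0 = true := by decide +kernel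

theorem lev0_distinct : Tabs.chkDistinct (lev0.map fun f => Tabs.imgs chevF4 T f.1) = true := by
  have e : (lev0.map fun f => Tabs.imgs chevF4 T f.1) =
      [[33, 27, 25, 24], [33, 28, 22, 26]] := by decide +kernel
  rw [e]
  decide +kernel

def lev1 : Tabs.Level :=
  [([], [(1, .inl [1]), (2, .inr 2)]),
   ([1], [(1, .inl []), (2, .inl [2, 1])]),
   ([2, 1], [(1, .inl [1, 2, 1]), (2, .inl [1])]),
   ([1, 2, 1], [(1, .inl [2, 1]), (2, .inr 2)])]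

theorem lev1_ok : Tabs.chkLevel chevF4 T [1, 2] [2] lev1 = true := by decide +kernel

theorem lev1_distinct : Tabs.chkDistinct (lev1.map fun f => Tabs.imgs chevF4 T f.1) = true := by
  have e : (lev1.map fun f => Tabs.imgs chevF4 T f.1) =
      [[33, 27, 25, 24], [34, 20, 30, 24], [35, 19, 30, 26], [37, 19, 25, 31]] := by decide +kernel
  rw [e]
  decide +kernel

def lev2 : Tabs.Level :=
  [([], [(1, .inr 1), (2, .inr 2), (3, .inl [3])]),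
   ([3], [(1, .inr 1), (2, .inl [2, 3]), (3, .inl [])]),
   ([2, 3], [(1, .inl [1, 2, 3]), (2, .inl [3]), (3, .inr 2)]),
   ([1, 2, 3], [(1, .inl [2, 3]), (2, .inl [2, 1, 2, 3]), (3, .inr 2)]),
   ([2, 1, 2, 3], [(1, .inr 1), (2, .inl [1, 2, 3]), (3, .inl [3, 2, 1, 2, 3])]),
   ([3, 2, 1, 2, 3], [(1, .inr 1), (2, .inr 2), (3, .inl [2, 1, 2, 3])])]

theorem lev2_ok : Tabs.chkLevel chevF4 T [1, 2, 3] [1, 2] lev2 = true := by decide +kernel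

theorem lev2_distinct : Tabs.chkDistinct (lev2.map fun f => Tabs.imgs chevF4 T f.1) = true := by
  have e : (lev2.map fun f => Tabs.imgs chevF4 T f.1) =
      [[33, 27, 25, 24], [33, 27, 26, 23], [33, 28, 24, 21], [34, 28, 24, 16], [35, 27, 26, 15], [36, 27, 25, 15]] := by decide +kernel
  rw [e]
  decide +kernel

def lev3 : Tabs.Level :=
  [([], [(0, .inl [0]), (1, .inr 1), (2, .inr 2), (3, .inr 3)]),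
   ([0], [(0, .inl []), (1, .inl [1, 0]), (2, .inr 2), (3, .inr 3)]),
   ([1, 0], [(0, .inr 1), (1, .inl [0]), (2, .inl [2, 1, 0]), (3, .inr 3)]),
   ([2, 1, 0], [(0, .inr 1), (1, .inl [1, 2, 1, 0]), (2, .inl [1, 0]), (3, .inl [3, 2, 1, 0])]),
   ([1, 2, 1, 0], [(0, .inl [0, 1, 2, 1, 0]), (1, .inl [2, 1, 0]), (2, .inr 2), (3, .inl [3, 1, 2, 1, 0])]),
   ([3, 2, 1, 0], [(0, .inr 1), (1, .inl [3, 1, 2, 1, 0]), (2, .inr 3), (3, .inl [2, 1, 0])]),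
   ([0, 1, 2, 1, 0], [(0, .inl [1, 2, 1, 0]), (1, .inr 1), (2, .inr 2), (3, .inl [3, 0, 1, 2, 1, 0])]),
   ([3, 1, 2, 1, 0], [(0, .inl [3, 0, 1, 2, 1, 0]), (1, .inl [3, 2, 1, 0]), (2, .inl [2, 3, 1, 2, 1, 0]), (3, .inl [1, 2, 1, 0])]),
   ([3, 0, 1, 2, 1, 0], [(0, .inl [3, 1, 2, 1, 0]), (1, .inr 1), (2, .inl [2, 3, 0, 1, 2, 1, 0]), (3, .inl [0, 1, 2, 1, 0])]),
   ([2, 3, 1, 2, 1, 0], [(0, .inl [2, 3, 0, 1, 2, 1, 0]), (1, .inl [1, 2, 3, 1, 2, 1, 0]), (2, .inl [3, 1, 2, 1, 0]), (3, .inr 2)]),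
   ([2, 3, 0, 1, 2, 1, 0], [(0, .inl [2, 3, 1, 2, 1, 0]), (1, .inl [1, 2, 3, 0, 1, 2, 1, 0]), (2, .inl [3, 0, 1, 2, 1, 0]), (3, .inr 2)]),
   ([1, 2, 3, 1, 2, 1, 0], [(0, .inl [0, 1, 2, 3, 1, 2, 1, 0]), (1, .inl [2, 3, 1, 2, 1, 0]), (2, .inr 3), (3, .inr 2)]),
   ([1, 2, 3, 0, 1, 2, 1, 0], [(0, .inl [0, 1, 2, 3, 0, 1, 2, 1, 0]), (1, .inl [2, 3, 0, 1, 2, 1, 0]), (2, .inl [2, 1, 2, 3, 0, 1, 2, 1, 0]), (3, .inr 2)]),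
   ([0, 1, 2, 3, 1, 2, 1, 0], [(0, .inl [1, 2, 3, 1, 2, 1, 0]), (1, .inl [0, 1, 2, 3, 0, 1, 2, 1, 0]), (2, .inr 3), (3, .inr 2)]),
   ([0, 1, 2, 3, 0, 1, 2, 1, 0], [(0, .inl [1, 2, 3, 0, 1, 2, 1, 0]), (1, .inl [0, 1, 2, 3, 1, 2, 1, 0]), (2, .inl [2, 0, 1, 2, 3, 0, 1, 2, 1, 0]), (3, .inr 2)]),
   ([2, 1, 2, 3, 0, 1, 2, 1, 0], [(0, .inl [2, 0, 1, 2, 3, 0, 1, 2, 1, 0]), (1, .inr 1), (2, .inl [1, 2, 3, 0, 1, 2, 1, 0]), (3, .inl [3, 2, 1, 2, 3, 0, 1, 2, 1, 0])]),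
   ([2, 0, 1, 2, 3, 0, 1, 2, 1, 0], [(0, .inl [2, 1, 2, 3, 0, 1, 2, 1, 0]), (1, .inl [1, 2, 0, 1, 2, 3, 0, 1, 2, 1, 0]), (2, .inl [0, 1, 2, 3, 0, 1, 2, 1, 0]), (3, .inl [3, 2, 0, 1, 2, 3, 0, 1, 2, 1, 0])]),
   ([3, 2, 1, 2, 3, 0, 1, 2, 1, 0], [(0, .inl [3, 2, 0, 1, 2, 3, 0, 1, 2, 1, 0]), (1, .inr 1), (2, .inr 2), (3, .inl [2, 1, 2, 3, 0, 1, 2, 1, 0])]),
   ([1, 2, 0, 1, 2, 3, 0, 1, 2, 1, 0], [(0, .inr 1), (1, .inl [2, 0, 1, 2, 3, 0, 1, 2, 1, 0]), (2, .inr 3), (3, .inl [3, 1, 2, 0, 1, 2, 3, 0, 1, 2, 1, 0])]),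
   ([3, 2, 0, 1, 2, 3, 0, 1, 2, 1, 0], [(0, .inl [3, 2, 1, 2, 3, 0, 1, 2, 1, 0]), (1, .inl [3, 1, 2, 0, 1, 2, 3, 0, 1, 2, 1, 0]), (2, .inr 2), (3, .inl [2, 0, 1, 2, 3, 0, 1, 2, 1, 0])]),
   ([3, 1, 2, 0, 1, 2, 3, 0, 1, 2, 1, 0], [(0, .inr 1), (1, .inl [3, 2, 0, 1, 2, 3, 0, 1, 2, 1, 0]), (2, .inl [2, 3, 1, 2, 0, 1, 2, 3, 0, 1, 2, 1, 0]), (3, .inl [1, 2, 0, 1, 2, 3, 0, 1, 2, 1, 0])]),
   ([2, 3, 1, 2, 0, 1, 2, 3, 0, 1, 2, 1, 0], [(0, .inr 1), (1, .inl [1, 2, 3, 1, 2, 0, 1, 2, 3, 0, 1, 2, 1, 0]), (2, .inl [3, 1, 2, 0, 1, 2, 3, 0, 1, 2, 1, 0]), (3, .inr 3)]),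
   ([1, 2, 3, 1, 2, 0, 1, 2, 3, 0, 1, 2, 1, 0], [(0, .inl [0, 1, 2, 3, 1, 2, 0, 1, 2, 3, 0, 1, 2, 1, 0]), (1, .inl [2, 3, 1, 2, 0, 1, 2, 3, 0, 1, 2, 1, 0]), (2, .inr 2), (3, .inr 3)]),
   ([0, 1, 2, 3, 1, 2, 0, 1, 2, 3, 0, 1, 2, 1, 0], [(0, .inl [1, 2, 3, 1, 2, 0, 1, 2, 3, 0, 1, 2, 1, 0]), (1, .inr 1), (2, .inr 2), (3, .inr 3)])]

theorem lev3_ok : Tabs.chkLevel chevF4 T [0, 1, 2, 3] [1, 2, 3] lev3 = true := by decide +kernel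

theorem lev3_distinct : Tabs.chkDistinct (lev3.map fun f => Tabs.imgs chevF4 T f.1) = true := by
  have e : (lev3.map fun f => Tabs.imgs chevF4 T f.1) =
      [[33, 27, 25, 24], [14, 34, 25, 24], [13, 33, 30, 24], [12, 33, 30, 26], [10, 34, 25, 31], [11, 33, 31, 25], [10, 27, 25, 42], [9, 34, 26, 30], [9, 27, 26, 41], [8, 35, 24, 30], [8, 28, 24, 41], [7, 37, 24, 25], [7, 28, 24, 41], [3, 37, 24, 25], [3, 35, 24, 30], [7, 27, 26, 41], [3, 34, 26, 30], [7, 27, 25, 42], [3, 33, 31, 25], [3, 34, 25, 31], [3, 33, 30, 26], [3, 33, 30, 24], [3, 34, 25, 24], [7, 27, 25, 24]] := by decide +kernel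
  rw [e]
  decide +kernel

end Cfsg.Agent.Chev.F4
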