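import Cfsg.Agent.Lib.Chev.Poincare
import Cfsg.Agent.Lib.Chev.DataG2
import Cfsg.Prelude.Def_ChevG2

/-! Generated coset representatives along a chain of parabolic subgroups of type G2. -/

set_option autoImplicit false
set_option maxRecDepth 20000

namespace Cfsg.Agent.Chev.G2

open Cfsg.Lie

def lev0 : Tabs.Level :=
  [([], [(1, .inl [1])]),
   ([1], [(1, .inl [])])]

theorem lev0_ok : Tabs.chkLevel chevG2 T [1] [] lev0 = true := by decide +kernel

theorem lev0_distinct : Tabs.chkDistinct (lev0.map fun f => Tabs.imgs chevG2 T f.1) = true := by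
  have e : (lev0.map fun f => Tabs.imgs chevG2 T f.1) =
      [[7, 6], [8, 5]] := by decide +kernel
  rw [e]
  decide +kernel

def lev1 : Tabs.Level :=
  [([], [(0, .inl [0]), (1, .inr 1)]),
   ([0], [(0, .inl []), (1, .inl [1, 0])]),
   ([1, 0], [(0, .inl [0, 1, 0]), (1, .inl [0])]),
   ([0, 1, 0], [(0, .inl [1, 0]), (1, .inl [1, 0, 1, 0])]),
   ([1, 0, 1, 0], [(0, .inl [0, 1, 0, 1, 0]), (1, .inl [0, 1, 0])]),
   ([0, 1, 0, 1, 0], [(0, .inl [1, 0, 1, 0]), (1, .inr 1)])]

theorem lev1_ok : Tabs.chkLevel chevG2 T [0, 1] [1] lev1 = true := by decide +kernel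

theorem lev1_distinct : Tabs.chkDistinct (lev1.map fun f => Tabs.imgs chevG2 T f.1) = true := by
  have e : (lev1.map fun f => Tabs.imgs chevG2 T f.1) =
      [[7, 6], [4, 10], [3, 11], [2, 11], [2, 10], [3, 6]] := by decide +kernel
  rw [e]
  decide +kernel

end Cfsg.Agent.Chev.G2
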