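import Cfsg.Agent.Lib.Chev.Tri

/-!
The monomial subgroup acts on the roots; it meets the Borel subgroup in the diagonal subgroup.
-/

set_option autoImplicit false

namespace Cfsg.Agent.Chev

open Cfsg.Lie

variable {F : Type*} [Field F]

/-- The permutation of the roots given by a word in the fundamental reflections. -/
noncomputable def piW (T : Tabs) : List ℕ → ℕ → ℕ
  | [], r => r
  | i :: w, r => T.refl i (piW T w r)

theorem piW_append (T : Tabs) : ∀ (v w : List ℕ) (r : ℕ), piW T (v ++ w) r = piW T v (piW T w r)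
  | [], _, _ => rfl
  | i :: v, w, r => by rw [List.cons_append, piW, piW_append T v w r, piW]

namespace OK

variable {D : ChevalleyDatum} {T : Tabs} (ok : OK D T)

include ok

/-- `g` moves the root elements and root vectors by `π`. -/
def Act (g : GL D.Idx F) (π : ℕ → ℕ) : Prop :=
  (∀ r < D.nroots, π r < D.nroots ∧ π (T.neg r) = T.neg (π r)) ∧
  (∀ r < D.nroots, ∃ a : F, a ≠ 0 ∧ ∀ t : F, g * ok.xG r t * g⁻¹ = ok.xG (π r) (a * t) ∧
    g * ok.xG (T.neg r) t * g⁻¹ = ok.xG (T.neg (π r)) (a⁻¹ * t)) ∧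
  ∀ (i : D.Idx) (s : Fin D.nroots), (g : Matrix D.Idx D.Idx F) i (Sum.inr s) ≠ 0 →
    ∃ u : Fin D.nroots, i = Sum.inr u ∧ (u : ℕ) = π s

theorem Act.mul {g h : GL D.Idx F} {π σ : ℕ → ℕ} (hg : ok.Act g π) (hh : ok.Act h σ) :
    ok.Act (g * h) (π ∘ σ) := by
  refine ⟨fun r hr => ?_, fun r hr => ?_, fun i s hne => ?_⟩
  · obtain ⟨h1, h2⟩ := hh.1 r hr
    simp only [Function.comp_apply]
    exact ⟨(hg.1 _ h1).1, by rw [h2, (hg.1 _ h1).2]⟩
  · obtain ⟨b, hb, hb'⟩ := hh.2.1 r hr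
    obtain ⟨a, ha, ha'⟩ := hg.2.1 _ (hh.1 r hr).1
    refine ⟨a * b, mul_ne_zero ha hb, fun t => ⟨?_, ?_⟩⟩
    · rw [mul_assoc a b t, Function.comp_apply, ← (ha' (b * t)).1, ← (hb' t).1]
      simp [mul_assoc]
    · rw [mul_inv, mul_assoc a⁻¹ b⁻¹ t, Function.comp_apply, ← (ha' (b⁻¹ * t)).2, ← (hb' t).2]
      simp [mul_assoc]
  · rw [Units.val_mul, Matrix.mul_apply] at hne
    obtain ⟨c, -, hc⟩ := Finset.exists_ne_zero_of_sum_ne_zero hne
    obtain ⟨v, rfl, hv⟩ := hh.2.2 c s (right_ne_zero_of_mul hc)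
    obtain ⟨u, rfl, hu⟩ := hg.2.2 i v (left_ne_zero_of_mul hc)
    exact ⟨u, rfl, by rw [hu, hv]; rfl⟩

theorem act_diag {g : GL D.Idx F} (hg : g ∈ D.diagonalSubgroup F) : ok.Act g id := by
  refine ⟨fun r hr => ⟨hr, rfl⟩, fun r hr => ?_, fun i s hne => ⟨s, ?_, rfl⟩⟩
  · obtain ⟨a, ha, -⟩ := ok.diag_conj_xG hg hr (1 : F)
    obtain ⟨c, hc, rfl⟩ := ok.mem_diag.mp hg
    have key : ∀ s < D.nroots, ∀ t : F, ok.torG c * ok.xG s t * (ok.torG c)⁻¹ =
        ok.xG s ((∏ i ∈ Finset.range D.rank, c i ^ T.cA i s) * t) := by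
      intro s hs t
      rw [mul_inv_eq_iff_eq_mul]
      refine Units.ext ?_
      rw [Units.val_mul, Units.val_mul, coe_xG, coe_xG, ok.coe_torG hc]
      ext p q
      rw [Matrix.diagonal_mul, Matrix.mul_diagonal, ok.xMat_eq hs, ok.xMat_eq hs, colVal, colVal,
        ← List.sum_map_mul_left, ← List.sum_map_mul_right]
      congr 1
      refine List.map_congr_left fun e he => ?_
      by_cases hp : e.1 = phi D p
      swap
      · rw [if_neg hp, if_neg hp, mul_zero, zero_mul]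
      rw [if_pos hp, if_pos hp, mul_pow, ← Finset.prod_pow]
      have hd : ∀ z : D.Idx, Sum.elim (fun _ => (1 : F))
          (fun s : Fin D.nroots => ∏ i ∈ Finset.range D.rank, c i ^ T.cA i s) z =
          ∏ i ∈ Finset.range D.rank, c i ^ Tabs.wt D (T.cA i) (phi D z) := by
        rintro (z | z)
        · simp [Tabs.wt, phi, nlt_iff.mpr z.isLt]
        · simp [Tabs.wt, phi, nlt_false_iff.mpr (Nat.le_add_right D.rank (z : ℕ))]
      rw [hd, hd]
      simp only [Tabs.colT, List.mem_cons] at he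
      have hw : ∀ i < D.rank, Tabs.wt D (T.cA i) (phi D p) = Tabs.wt D (T.cA i) (phi D q) + e.2.2 * T.cA i s := by
        intro i hi
        rw [← hp]
        rcases he with rfl | he
        · simp
        · exact (ok.ext_spec hs (phi_lt D q) he).2.2.2.2 i hi
      rw [Finset.prod_congr rfl fun i hi => by
        rw [hw i (Finset.mem_range.mp hi), zpow_add₀ (hc i (Finset.mem_range.mp hi)), mul_comm (e.2.2 : ℤ),
          zpow_mul, zpow_natCast], Finset.prod_mul_distrib]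
      ring
    refine ⟨∏ i ∈ Finset.range D.rank, c i ^ T.cA i r,
      Finset.prod_ne_zero_iff.mpr fun i hi => zpow_ne_zero _ (hc i (Finset.mem_range.mp hi)),
      fun t => ⟨key r hr t, ?_⟩⟩
    rw [key _ (ok.neg_lt hr) t]
    congr 2
    rw [← Finset.prod_inv_distrib]
    exact Finset.prod_congr rfl fun i hi => by rw [ok.cA_neg hr (Finset.mem_range.mp hi), zpow_neg]
  · by_contra h
    exact hne (ok.diag_apply_ne hg h)

theorem act_one : ok.Act (1 : GL D.Idx F) id := ok.act_diag (one_mem _)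

theorem act_n {i : ℕ} (hi : i < D.rank) : ok.Act (ok.nG (T.smp i) (1 : F)) (T.refl i) := by
  refine ⟨fun r hr => ⟨ok.refl_lt hi hr, ok.refl_neg hi hr⟩, fun r hr => ?_, fun a s hne => ?_⟩
  · refine ⟨(T.eta i r : F), left_ne_zero_of_mul_eq_one (ok.eta_sq hi hr), fun t => ⟨ok.n_xG hi hr t, ?_⟩⟩
    rw [ok.n_xG hi (ok.neg_lt hr), ok.refl_neg hi hr]
    congr 2
    refine eq_inv_of_mul_eq_one_right ?_
    rw [← Int.cast_mul, ok.eta_neg hi hr, Int.cast_one]
  · rw [ok.coe_nG_simple hi, ok.rep_nMat_one hi 1 1 a (Sum.inr s)] at hne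
    simp only [Tabs.MC, phi, Sum.elim_inr, nlt_false_iff.mpr (Nat.le_add_right D.rank (s : ℕ)), valEn_single,
      Nat.sub_eq, Nat.add_eq, Nat.add_sub_cancel_left] at hne
    rcases a with a | u
    · exact absurd (if_neg (show D.rank + T.refl i s ≠ (a : ℕ) by omega)) hne
    · refine ⟨u, rfl, ?_⟩
      by_contra h
      exact hne (if_neg (show D.rank + T.refl i s ≠ D.rank + (u : ℕ) by omega))

theorem act_unique {g : GL D.Idx F} {π σ : ℕ → ℕ} (h₁ : ok.Act g π) (h₂ : ok.Act g σ) {r : ℕ}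
    (hr : r < D.nroots) : π r = σ r := by
  obtain ⟨a, ha⟩ : ∃ a, (g : Matrix D.Idx D.Idx F) a (Sum.inr ⟨r, hr⟩) ≠ 0 := by
    by_contra h
    push Not at h
    have e := congrFun (congrFun (Units.inv_mul g) (Sum.inr ⟨r, hr⟩)) (Sum.inr ⟨r, hr⟩)
    rw [Matrix.mul_apply, Matrix.one_apply_eq, Finset.sum_eq_zero (fun c _ => by rw [h c, mul_zero])] at e
    exact zero_ne_one e
  obtain ⟨u, rfl, hu⟩ := h₁.2.2 a _ ha
  obtain ⟨v, hv, hv'⟩ := h₂.2.2 _ _ ha
  rw [Sum.inr.inj hv] at hu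
  exact hu.symm.trans hv'

theorem act_borel {g : GL D.Idx F} {π : ℕ → ℕ} (h : ok.Act g π) (hg : g ∈ D.borelSubgroup F) {r : ℕ}
    (hr : r < D.nroots) : π r = r := by
  obtain ⟨u, hu, t, ht, rfl⟩ := ok.mem_borel hg
  have hne : ((u * t : GL D.Idx F) : Matrix D.Idx D.Idx F) (Sum.inr ⟨r, hr⟩) (Sum.inr ⟨r, hr⟩) ≠ 0 := by
    rw [ok.diag_apply (ok.pos_le_uTri hu) ht]
    obtain ⟨c, hc, rfl⟩ := ok.mem_diag.mp ht
    rw [ok.coe_torG hc, Matrix.diagonal_apply_eq, Sum.elim_inr]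
    exact Finset.prod_ne_zero_iff.mpr fun i hi => zpow_ne_zero _ (hc i (Finset.mem_range.mp hi))
  obtain ⟨v, hv, hv'⟩ := h.2.2 _ _ hne
  rw [← Sum.inr.inj hv] at hv'
  exact hv'.symm

/-- The product of fundamental monomial elements along a word. -/
noncomputable def gW (F : Type*) [Field F] (w : List ℕ) : GL D.Idx F := (w.map fun i => ok.nG (T.smp i) 1).prod

theorem gW_cons (i : ℕ) (w : List ℕ) : ok.gW F (i :: w) = ok.nG (T.smp i) 1 * ok.gW F w := by simp [gW]

theorem gW_append (v w : List ℕ) : ok.gW F (v ++ w) = ok.gW F v * ok.gW F w := by simp [gW]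

theorem act_gW : ∀ w : List ℕ, (∀ i ∈ w, i < D.rank) → ok.Act (ok.gW F w) (piW T w)
  | [], _ => by
    have : piW T [] = id := rfl
    rw [this, show ok.gW F [] = 1 from rfl]
    exact ok.act_one
  | i :: w, h => by
    rw [gW_cons, show piW T (i :: w) = T.refl i ∘ piW T w from rfl]
    exact ok.act_n (h i List.mem_cons_self) |>.mul ok (act_gW w fun j hj => h j (List.mem_cons_of_mem _ hj))

theorem nG_eq_hG_mul {r : ℕ} (hr : r < D.nroots) (a : F) : ok.nG r a = ok.hG r a * ok.nG r 1 := by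
  rw [hG_eq, mul_assoc, ← neg_neg (1 : F), ← ok.nG_inv hr, neg_neg, inv_mul_cancel, mul_one]

theorem nG_one_inv {r : ℕ} (hr : r < D.nroots) : (ok.nG r (1 : F))⁻¹ = ok.hG r (-1) * ok.nG r 1 := by
  rw [ok.nG_inv hr, ← ok.nG_eq_hG_mul hr]

theorem nG_sq {r : ℕ} (hr : r < D.nroots) : ok.nG r (1 : F) * ok.nG r 1 ∈ D.diagonalSubgroup F := by
  have : ok.nG r (1 : F) * ok.nG r 1 = (ok.hG r (-1))⁻¹ := by
    rw [eq_inv_iff_mul_eq_one, mul_eq_one_comm, ← mul_assoc, ← ok.nG_one_inv hr, inv_mul_cancel]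
  rw [this]
  exact inv_mem (ok.hG_mem_diag hr (neg_ne_zero.mpr one_ne_zero))

theorem gW_normalizes : ∀ (w : List ℕ), (∀ i ∈ w, i < D.rank) → ∀ t ∈ D.diagonalSubgroup F,
    ok.gW F w * t * (ok.gW F w)⁻¹ ∈ D.diagonalSubgroup F
  | [], _, t, ht => by simpa [gW] using ht
  | i :: w, h, t, ht => by
    have h1 := gW_normalizes w (fun j hj => h j (List.mem_cons_of_mem _ hj)) t ht
    have h2 := ok.nG_normalizes_diag (F := F) (ok.smp_lt (h i List.mem_cons_self)) h1
    rw [gW_cons]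
    simpa [mul_assoc] using h2

/-- Elements written as a diagonal element times a word. -/
def IsHW (g : GL D.Idx F) : Prop :=
  ∃ t ∈ D.diagonalSubgroup F, ∃ w : List ℕ, (∀ i ∈ w, i < D.rank) ∧ g = t * ok.gW F w

theorem isHW_mul {g h : GL D.Idx F} (hg : ok.IsHW g) (hh : ok.IsHW h) : ok.IsHW (g * h) := by
  obtain ⟨t, ht, v, hv, rfl⟩ := hg
  obtain ⟨u, hu, w, hw, rfl⟩ := hh
  refine ⟨t * (ok.gW F v * u * (ok.gW F v)⁻¹), mul_mem ht (ok.gW_normalizes v hv u hu), v ++ w,
    fun i hi => (List.mem_append.mp hi).elim (hv i) (hw i), ?_⟩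
  rw [gW_append]
  simp [mul_assoc]

theorem isHW_diag {g : GL D.Idx F} (hg : g ∈ D.diagonalSubgroup F) : ok.IsHW g :=
  ⟨g, hg, [], by simp, by simp [gW]⟩

theorem isHW_n {i : ℕ} (hi : i < D.rank) : ok.IsHW (ok.nG (T.smp i) (1 : F)) :=
  ⟨1, one_mem _, [i], by simpa using hi, by simp [gW]⟩

theorem isHW_n_inv {i : ℕ} (hi : i < D.rank) : ok.IsHW (ok.nG (T.smp i) (1 : F))⁻¹ := by
  rw [ok.nG_one_inv (ok.smp_lt hi)]
  exact ok.isHW_mul (ok.isHW_diag (ok.hG_mem_diag (ok.smp_lt hi) (neg_ne_zero.mpr one_ne_zero))) (ok.isHW_n hi)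

theorem isHW_gW_inv : ∀ w : List ℕ, (∀ i ∈ w, i < D.rank) → ok.IsHW (ok.gW F w)⁻¹
  | [], _ => by rw [show ok.gW F [] = 1 from rfl, inv_one]; exact ok.isHW_diag (one_mem _)
  | i :: w, h => by
    rw [gW_cons, mul_inv_rev]
    exact ok.isHW_mul (isHW_gW_inv w fun j hj => h j (List.mem_cons_of_mem _ hj))
      (ok.isHW_n_inv (h i List.mem_cons_self))

theorem isHW_inv {g : GL D.Idx F} (hg : ok.IsHW g) : ok.IsHW g⁻¹ := by
  obtain ⟨t, ht, w, hw, rfl⟩ := hg
  rw [mul_inv_rev]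
  exact ok.isHW_mul (ok.isHW_gW_inv w hw) (ok.isHW_diag (inv_mem ht))

theorem isHW_nG {r : ℕ} (hr : r < D.nroots) {u : F} (hu : u ≠ 0) : ok.IsHW (ok.nG r u) := by
  suffices h : ∀ (L : List (ℕ × Option (ℕ × ℕ))) (seen : List ℕ), T.chkOrder D L seen = true →
      (∀ e ∈ L, e ∈ T.order) → (∀ a ∈ seen, a < D.nroots ∧ ∀ u : F, u ≠ 0 → ok.IsHW (ok.nG a u)) →
      ∀ a < D.nroots, ∀ u : F, u ≠ 0 → ok.IsHW (ok.nG a u) from
    h T.order [] ok.order (fun _ => id) (by simp) r hr u hu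
  intro L
  induction L with
  | nil =>
    intro seen h _ hs a ha
    replace h : allR D.nroots (fun r => anyL (fun s => Nat.beq s r) seen) = true := h
    simp only [allR_iff, anyL_iff, Nat.beq_eq] at h
    obtain ⟨b, hb, rfl⟩ := h a ha
    exact (hs b hb).2
  | cons p L ih =>
    obtain ⟨a, o⟩ := p
    intro seen h hL hs
    replace h : andR (nlt a D.nroots) (andR (@Option.rec (ℕ × ℕ) (fun _ => Bool) true
        (fun q => andR (nlt q.1 D.rank) <| andR (anyL (fun s => Nat.beq s q.2) seen) <|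
          Nat.beq (T.refl q.1 q.2) a) o) (T.chkOrder D L (a :: seen))) = true := h
    simp only [andR_iff, nlt_iff] at h
    refine ih (a :: seen) h.2.2 (fun e he => hL e (List.mem_cons_of_mem _ he)) ?_
    intro b hb
    rcases List.mem_cons.mp hb with rfl | hb
    swap
    · exact hs b hb
    refine ⟨h.1, fun v hv => ?_⟩
    rcases o with _ | ⟨i, c⟩
    · obtain ⟨i, hi, rfl⟩ := ok.rep_simple (r := b) (by
        simp only [Tabs.reps, flatR_eq, List.mem_flatMap]
        exact ⟨_, hL _ List.mem_cons_self, List.mem_singleton.mpr rfl⟩)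
      rw [ok.nG_eq_hG_mul h.1]
      exact ok.isHW_mul (ok.isHW_diag (ok.hG_mem_diag h.1 hv)) (ok.isHW_n hi)
    · have h2 := h.2.1
      simp only [andR_iff, nlt_iff, anyL_iff, Nat.beq_eq] at h2
      obtain ⟨hi, ⟨c', hc, rfl⟩, rfl⟩ := h2
      obtain ⟨hcn, hcd⟩ := hs _ hc
      have e1 := ok.n_nG hi hcn ((T.eta i c' : F) * v)
      rw [← mul_assoc (T.eta i c' : F), ok.eta_sq hi hcn, one_mul] at e1
      rw [← e1]
      exact ok.isHW_mul (ok.isHW_mul (ok.isHW_n hi)
        (hcd _ (mul_ne_zero (left_ne_zero_of_mul_eq_one (ok.eta_sq hi hcn)) hv))) (ok.isHW_n_inv hi)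

theorem mem_monomial {g : GL D.Idx F} : g ∈ D.monomialSubgroup F ↔ ok.IsHW g := by
  constructor
  · intro h
    rw [ChevalleyDatum.monomialSubgroup, Subgroup.sup_eq_closure] at h
    induction h using Subgroup.closure_induction with
    | mem x hx =>
      rcases hx with hx | hx
      · exact ok.isHW_diag hx
      · revert hx
        intro hx
        induction hx using Subgroup.closure_induction with
        | mem y hy =>
          obtain ⟨r, hr, hy⟩ := hy
          rw [show y = ok.nG r 1 from Units.ext (hy.trans (ok.coe_nG r 1).symm)]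
          exact ok.isHW_nG hr one_ne_zero
        | one => exact ok.isHW_diag (one_mem _)
        | mul a b _ _ ha hb => exact ok.isHW_mul ha hb
        | inv a _ ha => exact ok.isHW_inv ha
    | one => exact ok.isHW_diag (one_mem _)
    | mul a b _ _ ha hb => exact ok.isHW_mul ha hb
    | inv a _ ha => exact ok.isHW_inv ha
  · rintro ⟨t, ht, w, hw, rfl⟩
    refine mul_mem (Subgroup.mem_sup_left ht) (list_prod_mem fun x hx => ?_)
    obtain ⟨i, hi, rfl⟩ := List.mem_map.mp hx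
    exact ok.nG_mem_monomial (ok.smp_lt (hw i hi))

theorem refl_pos_iff {i s : ℕ} (hi : i < D.rank) (hs : s < D.nroots) (h1 : s ≠ T.smp i) (h2 : s ≠ T.neg (T.smp i)) :
    0 < T.htf (T.refl i s) ↔ 0 < T.htf s := by
  refine ⟨fun h => ?_, ok.refl_pos hi hs h1⟩
  by_contra h0
  have h3 : 0 < T.htf (T.neg s) := by
    rw [ok.ht_neg hs]; have := ok.ht_ne hs; omega
  have h4 := ok.refl_pos hi (ok.neg_lt hs) (fun e => h2 (by rw [← e, ok.neg_neg' hs])) h3
  rw [ok.refl_neg hi hs, ok.ht_neg (ok.refl_lt hi hs)] at h4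
  omega

theorem sign_change : ∀ (v : List ℕ), (∀ j ∈ v, j < D.rank) → ∀ s < D.nroots, 0 < T.htf s →
    T.htf (piW T v s) < 0 → ∃ a j b, v = a ++ j :: b ∧ piW T b s = T.smp j
  | [], _, s, _, h0, h => by simp only [piW] at h; omega
  | j :: b, hv, s, hs, h0, h => by
    have hj := hv j List.mem_cons_self
    have hb : ∀ k ∈ b, k < D.rank := fun k hk => hv k (List.mem_cons_of_mem _ hk)
    have hlt := ((ok.act_gW (F := ℚ) b hb).1 s hs).1
    by_cases hneg : T.htf (piW T b s) < 0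
    · obtain ⟨a, k, c, e, hc⟩ := sign_change b hb s hs h0 hneg
      exact ⟨j :: a, k, c, by rw [e]; rfl, hc⟩
    · refine ⟨[], j, b, rfl, ?_⟩
      by_contra hne
      have hp : 0 < T.htf (piW T b s) := by have := ok.ht_ne hlt; omega
      have := ok.refl_pos hj hlt hne hp
      simp only [piW] at h
      omega

theorem gW_mem_diag : ∀ (n : ℕ) (w : List ℕ), w.length = n → (∀ i ∈ w, i < D.rank) →
    (∀ r < D.nroots, piW T w r = r) → ok.gW F w ∈ D.diagonalSubgroup F := by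
  intro n
  induction n using Nat.strong_induction_on with
  | _ n ih =>
    intro w hn hw hid
    rcases List.eq_nil_or_concat w with rfl | ⟨v, i, rfl⟩
    · rw [show ok.gW F [] = 1 from rfl]; exact one_mem _
    rw [List.concat_eq_append] at *
    have hi : i < D.rank := hw i (by simp)
    have hv : ∀ j ∈ v, j < D.rank := fun j hj => hw j (by simp [hj])
    have hp := ok.smp_lt hi
    have h1 : piW T v (T.neg (T.smp i)) = T.smp i := by
      have := hid _ hp
      rwa [piW_append, piW, piW, (ok.smp_spec hi).2.2.1] at this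
    have h2 : piW T v (T.smp i) = T.neg (T.smp i) := by
      have := ((ok.act_gW (F := F) v hv).1 _ hp).2
      rw [h1] at this
      conv_rhs => rw [this]
      rw [ok.neg_neg' ((ok.act_gW (F := F) v hv).1 _ hp).1]
    have h3 : T.htf (piW T v (T.smp i)) < 0 := by
      rw [h2, ok.ht_neg hp, (ok.smp_spec hi).1]; norm_num
    obtain ⟨a, j, b, rfl, hb⟩ := ok.sign_change v hv _ hp (by rw [(ok.smp_spec hi).1]; norm_num) h3
    have hb' : ∀ k ∈ b, k < D.rank := fun k hk => hv k (by simp [hk])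
    have ha' : ∀ k ∈ a, k < D.rank := fun k hk => hv k (by simp [hk])
    have hj : j < D.rank := hv j (by simp)
    obtain ⟨c, hc, hc'⟩ := (ok.act_gW (F := F) b hb').2.1 _ hp
    have hconj : ok.gW F b * ok.nG (T.smp i) 1 * (ok.gW F b)⁻¹ = ok.nG (T.smp j) c := by
      rw [ok.nG_eq hp, ok.nG_eq (ok.smp_lt hj), ← conj_mul, ← conj_mul, (hc' 1).1, (hc' _).2, hb]
      simp
    set G := ok.gW F a with hG
    set B := ok.gW F b with hB
    set nj := ok.nG (T.smp j) (1 : F) with hnj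
    have hw' : ok.gW F (a ++ j :: b ++ [i]) = G * (nj * ok.hG (T.smp j) c * nj) * B := by
      rw [gW_append, gW_append, gW_cons, show ok.gW F [i] = ok.nG (T.smp i) 1 by simp [gW]]
      have : B * ok.nG (T.smp i) 1 = ok.hG (T.smp j) c * nj * B := by
        rw [← ok.nG_eq_hG_mul (ok.smp_lt hj), ← hconj, inv_mul_cancel_right]
      rw [← hG, ← hB, ← hnj, mul_assoc G, mul_assoc nj B, this]
      simp [mul_assoc]
    have hx : nj * ok.hG (T.smp j) c * nj ∈ D.diagonalSubgroup F := by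
      have := mul_mem (ok.nG_normalizes_diag (F := F) (ok.smp_lt hj) (ok.hG_mem_diag (ok.smp_lt hj) hc))
        (ok.nG_sq (F := F) (ok.smp_lt hj))
      simpa [mul_assoc] using this
    have hy := ok.gW_normalizes a ha' _ hx
    rw [← hG] at hy
    set y := G * (nj * ok.hG (T.smp j) c * nj) * G⁻¹ with hy'
    have hshort : ok.gW F (a ++ b) = y⁻¹ * ok.gW F (a ++ j :: b ++ [i]) := by
      rw [hw', hy', gW_append, ← hG, ← hB]; simp [mul_assoc]
    have hab : ∀ k ∈ a ++ b, k < D.rank := fun k hk => (List.mem_append.mp hk).elim (ha' k) (hb' k)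
    have hid' : ∀ r < D.nroots, piW T (a ++ b) r = r := by
      intro r hr
      have A1 := ok.act_gW (F := F) (a ++ b) hab
      have A2 := (ok.act_diag (inv_mem hy)).mul ok (ok.act_gW (F := F) _ hw)
      rw [← hshort] at A2
      rw [ok.act_unique A1 A2 hr]
      exact hid r hr
    have := ih (a ++ b).length (by subst hn; simp) (a ++ b) rfl hab hid'
    rw [hshort] at this
    have h5 := mul_mem hy this
    rwa [mul_inv_cancel_left] at h5

theorem borel_inf_monomial : D.borelSubgroup F ⊓ D.monomialSubgroup F = D.diagonalSubgroup F := by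
  refine le_antisymm ?_ (le_inf le_sup_right le_sup_left)
  intro g hg
  obtain ⟨hB, hN⟩ := Subgroup.mem_inf.mp hg
  obtain ⟨t, ht, w, hw, rfl⟩ := ok.mem_monomial.mp hN
  have hwB : ok.gW F w ∈ D.borelSubgroup F := by
    have := mul_mem (Subgroup.mem_sup_right (inv_mem ht) : t⁻¹ ∈ D.borelSubgroup F) hB
    rwa [inv_mul_cancel_left] at this
  exact mul_mem ht (ok.gW_mem_diag _ w rfl hw fun r hr => ok.act_borel (ok.act_gW w hw) hwB hr)

theorem pos_inf_monomial : D.posUnipotent F ⊓ D.monomialSubgroup F = ⊥ := by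
  refine eq_bot_iff.mpr fun g hg => ?_
  obtain ⟨hU, hN⟩ := Subgroup.mem_inf.mp hg
  have : g ∈ D.diagonalSubgroup F := by
    rw [← ok.borel_inf_monomial]; exact ⟨Subgroup.mem_sup_left hU, hN⟩
  rw [← ok.pos_inf_diag]
  exact ⟨hU, this⟩

end OK

end Cfsg.Agent.Chev
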