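import Cfsg.Agent.Lib.Chev.OrthTab
import Cfsg.Agent.Lib.Chev.StPerf
import Cfsg.Agent.Lib.Classical.OrthSplit
import Cfsg.Prelude.Def_Classical

/-!
The presented group of a datum, represented by isometries, covers the commutator subgroup of the isometry group; so the
matrix group of the datum is that commutator subgroup modulo its centre.
-/

set_option autoImplicit false

open Matrix

namespace Cfsg.Agent.Chev

open Cfsg.Lie Cfsg.Agent.Classical

section Cols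

variable {F : Type*} [Field F] {ι : Type*} [Fintype ι] [DecidableEq ι] {m : ℕ}

/-- The expected column of an elementary transformation. -/
def opExt (φ : ι → ℕ) (p : Fin m ⊕ Fin m → ι) (a b : Fin m ⊕ Fin m) (s : ℤ) (j : ι) : List (ℕ × ℤ × ℕ) :=
  if j = p b then [(φ (p a), s, 1)] else if j = p a.swap then [(φ (p b.swap), -s, 1)] else []

/-- The expected column of a short transformation. -/
def shortExt (φ : ι → ℕ) (p : Fin m ⊕ Fin m → ι) (z : ι) (a : Fin m ⊕ Fin m) (s : ℤ) (j : ι) : List (ℕ × ℤ × ℕ) :=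
  if j = z then [(φ (p a), -2 * s, 1)] else if j = p a.swap then [(φ z, s, 1), (φ (p a), -1, 2)] else []

variable {φ : ι → ℕ} {p : Fin m ⊕ Fin m → ι} {R : Tabs} {r : ℕ}

theorem mRep_eq_opM (hφ : Function.Injective φ) (hp : Function.Injective p) {a b : Fin m ⊕ Fin m} (h2 : b ≠ a.swap)
    {s : ℤ} (hc : ∀ j, R.ext r (φ j) = opExt φ p a b s j) (t : F) :
    mRep R φ r t = OrthGen.opM p a b ((s : F) * t) := by
  ext i j
  have hba : p b ≠ p a.swap := fun e => h2 (hp e)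
  rw [mRep, Matrix.of_apply, Tabs.colT, colVal_cons, hc j, OrthGen.opM, Matrix.add_apply, Matrix.of_apply]
  congr 1
  · simp [Matrix.one_apply, hφ.eq_iff, eq_comm]
  rw [opExt]
  by_cases j1 : j = p b
  · subst j1
    simp [colVal, hφ.eq_iff, hba, eq_comm]
  by_cases j2 : j = p a.swap
  · subst j2
    simp [colVal, hφ.eq_iff, hba.symm, eq_comm, neg_ite]
  simp [colVal, j1, j2]

theorem mRep_eq_shortM (hφ : Function.Injective φ) {z : ι} (hz : ∀ a, z ≠ p a)
    {a : Fin m ⊕ Fin m} {s : ℤ} (hs : s * s = 1) (hc : ∀ j, R.ext r (φ j) = shortExt φ p z a s j) (t : F) :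
    mRep R φ r t = OrthGen.shortM p z a ((s : F) * t) := by
  ext i j
  rw [mRep, Matrix.of_apply, Tabs.colT, colVal_cons, hc j, OrthGen.shortM, Matrix.add_apply, Matrix.of_apply]
  congr 1
  · simp [Matrix.one_apply, hφ.eq_iff, eq_comm]
  rw [shortExt]
  by_cases j1 : j = z
  · subst j1
    simp [colVal, hφ.eq_iff, hz, eq_comm, mul_assoc]
  by_cases j2 : j = p a.swap
  · subst j2
    have hs' : ((s : F) * t) ^ 2 = t ^ 2 := by
      rw [mul_pow, sq (s : F), ← Int.cast_mul, hs, Int.cast_one, one_mul]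
    simp [colVal, hφ.eq_iff, (hz _).symm, eq_comm, hs']
  simp [colVal, j1, j2]

end Cols

namespace StHyp

variable {F : Type*} [Field F] {D : ChevalleyDatum} {T : Tabs} {ok : OKX D T} {S : Type*} [Group S] {y : ℕ → F → S}
  {θ : S →* GL D.Idx F}

/-- The matrix group is the commutator subgroup of the isometry group modulo its centre. -/
theorem nonempty_equiv_pomega (st : StHyp ok y θ) {M : List (List (ℕ × ℤ))} (hM : Tabs.chkCow D T M = true)
    (hperf : commutator S = ⊤) (hconn : T.chkConn D = true) {ι : Type} [Fintype ι] [DecidableEq ι]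
    (Q : (ι → F) → F) (ψ : S →* GL ι F) (hiso : ∀ x, ψ x ∈ Cfsg.isometryGroup F Q)
    (hcomm : ∀ g ∈ Cfsg.isometryGroup F Q, ∀ h ∈ Cfsg.isometryGroup F Q, g * h * g⁻¹ * h⁻¹ ∈ ψ.range)
    (hne : ∃ x, ψ x ≠ 1) : Nonempty (↥(D.group F) ≃* Cfsg.POmega F Q) := by
  let ψ' : S →* ↥(Cfsg.isometryGroup F Q) := ψ.codRestrict _ hiso
  have hval : ∀ x, (ψ' x : GL ι F) = ψ x := fun _ => rfl
  have hle : ∀ x, ψ' x ∈ Cfsg.Omega F Q := by
    intro x
    have h : ψ' x ∈ (commutator S).map ψ' := Subgroup.mem_map_of_mem ψ' (by rw [hperf]; exact Subgroup.mem_top x)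
    rw [commutator_def, Subgroup.map_commutator] at h
    exact Subgroup.commutator_mono le_top le_top h
  let ω : S →* ↥(Cfsg.Omega F Q) := ψ'.codRestrict _ hle
  have hsurj : Function.Surjective ω := by
    have hr : (commutator ↥(Cfsg.isometryGroup F Q)) ≤ ψ'.range := by
      rw [commutator_def]
      refine Subgroup.commutator_le.mpr fun g _ h _ => ?_
      obtain ⟨x, hx⟩ := hcomm g.1 g.2 h.1 h.2
      refine ⟨x, Subtype.ext ?_⟩
      rw [hval, hx]
      rfl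
    rintro ⟨g, hg⟩
    obtain ⟨x, rfl⟩ := hr hg
    exact ⟨x, rfl⟩
  let q : S →* Cfsg.POmega F Q := (QuotientGroup.mk' _).comp ω
  have hq : Function.Surjective q := (QuotientGroup.mk'_surjective _).comp hsurj
  have hmem : ∀ x, x ∈ q.ker ↔ ω x ∈ Subgroup.center ↥(Cfsg.Omega F Q) := fun x => by
    rw [MonoidHom.mem_ker]; exact QuotientGroup.eq_one_iff (ω x)
  have hperfG : commutator ↥(D.group F) = ⊤ := by
    rw [commutator_def, ← Subgroup.map_top_of_surjective st.toGrp st.toGrp_surjective, ← Subgroup.map_commutator,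
      ← commutator_def, hperf]
  have hsimple := (ok.simple_of hconn hperfG).1
  have hcen : Subgroup.center S ≤ q.ker := by
    intro z hz
    rw [hmem, Subgroup.mem_center_iff]
    intro g
    obtain ⟨x, rfl⟩ := hsurj g
    rw [← map_mul, ← map_mul, Subgroup.mem_center_iff.mp hz x]
  have hker : q.ker = Subgroup.center S := by
    refine le_antisymm ?_ hcen
    have hn : (q.ker.map st.toGrp).Normal := Subgroup.Normal.map inferInstance _ st.toGrp_surjective
    rcases hsimple.eq_bot_or_eq_top_of_normal _ hn with h | h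
    · rwa [Subgroup.map_eq_bot_iff, st.ker_toGrp, st.ker_eq_center hM] at h
    · exfalso
      have htop : ∀ x, ω x ∈ Subgroup.center ↥(Cfsg.Omega F Q) := by
        intro x
        obtain ⟨k, hk, hkx⟩ := (h ▸ Subgroup.mem_top (st.toGrp x) : st.toGrp x ∈ q.ker.map st.toGrp)
        have : k⁻¹ * x ∈ q.ker := hcen (by
          rw [← st.ker_eq_center hM, ← st.ker_toGrp, MonoidHom.mem_ker, map_mul, map_inv, hkx, inv_mul_cancel])
        rw [← hmem, show x = k * (k⁻¹ * x) by group]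
        exact mul_mem hk this
      have hone : commutator S ≤ ω.ker := by
        rw [commutator_def]
        refine Subgroup.commutator_le.mpr fun a _ b _ => ?_
        rw [MonoidHom.mem_ker, map_commutatorElement, commutatorElement_eq_one_iff_mul_comm]
        exact Subgroup.mem_center_iff.mp (htop b) (ω a)
      obtain ⟨x, hx⟩ := hne
      refine hx ?_
      have := hone (hperf.symm ▸ Subgroup.mem_top x : x ∈ commutator S)
      rw [MonoidHom.mem_ker] at this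
      exact congrArg (fun w : ↥(Cfsg.Omega F Q) => ((w : ↥(Cfsg.isometryGroup F Q)) : GL ι F)) this
  have hkk : st.toGrp.ker = q.ker := by rw [hker, st.ker_toGrp, st.ker_eq_center hM]
  exact ⟨(QuotientGroup.quotientKerEquivOfSurjective st.toGrp st.toGrp_surjective).symm.trans
    ((QuotientGroup.quotientMulEquivOfEq hkk).trans (QuotientGroup.quotientKerEquivOfSurjective q hq))⟩

end StHyp

namespace RepOK

variable {F : Type*} [Field F] {D : ChevalleyDatum} {T R : Tabs} {ι : Type} [Fintype ι] [DecidableEq ι] {φ : ι → ℕ}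
  {N : ℕ}

theorem mem_range (rk : RepOK D T R φ N) (ok : OKX D T) {r : ℕ} (hr : r < D.nroots) (t : F) {g : GL ι F}
    (hg : (g : Matrix ι ι F) = mRep R φ r t) : g ∈ (rk.hom ok (F := F)).range :=
  ⟨D.scGen F r t, Units.ext (by rw [rk.hom_gen ok hr, hg])⟩

theorem isOp_gen (rk : RepOK D T R φ N) (ok : OKX D T) {m : ℕ} {p : Fin m ⊕ Fin m → ι} (hp : Function.Injective p)
    {r : ℕ} (hr : r < D.nroots) {a b : Fin m ⊕ Fin m} (h2 : b ≠ a.swap) {s : ℤ}
    (hc : ∀ j, R.ext r (φ j) = opExt φ p a b s j) (t : F) :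
    OrthGen.IsOp p a b ((s : F) * t) (rk.hom ok (D.scGen F r t)) :=
  OrthGen.isOp_of_matrix (by rw [rk.hom_gen ok hr, mRep_eq_opM rk.inj hp h2 hc])

theorem isShort_gen (rk : RepOK D T R φ N) (ok : OKX D T) {m : ℕ} {p : Fin m ⊕ Fin m → ι} {z : ι}
    (hz : ∀ a, z ≠ p a) {r : ℕ} (hr : r < D.nroots) {a : Fin m ⊕ Fin m} {s : ℤ} (hs : s * s = 1)
    (hc : ∀ j, R.ext r (φ j) = shortExt φ p z a s j) (t : F) :
    OrthGen.IsShort p z a ((s : F) * t) (rk.hom ok (D.scGen F r t)) :=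
  OrthGen.isShort_of_matrix (by rw [rk.hom_gen ok hr, mRep_eq_shortM rk.inj hz hs hc])

end RepOK

theorem isOp_flip {F : Type*} [Field F] {ι : Type*} [Fintype ι] [DecidableEq ι] {m : ℕ} {p : Fin m ⊕ Fin m → ι}
    {a b : Fin m ⊕ Fin m} {t : F} {ε : GL ι F} (h : OrthGen.IsOp p b.swap a.swap t ε) :
    OrthGen.IsOp p a b (-t) ε := by
  intro v k
  rw [h, Sum.swap_swap, Sum.swap_swap]
  split_ifs <;> ring

theorem isOp_unique {F : Type*} [Field F] {ι : Type*} [Fintype ι] [DecidableEq ι] {m : ℕ} {p : Fin m ⊕ Fin m → ι}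
    {a b : Fin m ⊕ Fin m} {t : F} {ε ε' : GL ι F} (h : OrthGen.IsOp p a b t ε) (h' : OrthGen.IsOp p a b t ε') :
    ε = ε' := OrthGen.eq_of_mulVec fun v => funext fun k => by rw [h, h']

theorem isShort_unique {F : Type*} [Field F] {ι : Type*} [Fintype ι] [DecidableEq ι] {m : ℕ} {p : Fin m ⊕ Fin m → ι}
    {z : ι} {a : Fin m ⊕ Fin m} {t : F} {ε ε' : GL ι F} (h : OrthGen.IsShort p z a t ε)
    (h' : OrthGen.IsShort p z a t ε') : ε = ε' := OrthGen.eq_of_mulVec fun v => funext fun k => by rw [h, h']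

/-- The numbering of the eight coordinates. -/
def D4.φ : Fin 4 ⊕ Fin 4 → ℕ := fun i => match i with
  | .inl k => k.val
  | .inr k => 4 + k.val

/-- The entry of a root. -/
def D4.rtF (r : Fin 24) : (Fin 4 ⊕ Fin 4) × Option (Fin 4 ⊕ Fin 4) × ℤ := D4.rt.getD r.val (.inl 0, none, 0)

theorem D4.rk : RepOK chevD4 D4.T D4.R D4.φ 8 where
  inj := by decide
  lt := by decide
  surj := by decide
  chk := D4.rep_ok

set_option synthInstance.maxSize 2000 in
theorem D4.col_ok' : ∀ r : Fin 24, ((D4.rtF r).2.2 = 1 ∨ (D4.rtF r).2.2 = -1) ∧ (D4.rtF r).2.1.isSome = true ∧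
    (D4.rtF r).2.1.getD (D4.rtF r).1 ≠ (D4.rtF r).1 ∧ (D4.rtF r).2.1.getD (D4.rtF r).1 ≠ (D4.rtF r).1.swap := by
  decide +kernel

theorem D4.col_eq : ∀ r : Fin 24, ∀ j : Fin 4 ⊕ Fin 4, D4.R.ext r.val (D4.φ j) =
    opExt D4.φ id (D4.rtF r).1 ((D4.rtF r).2.1.getD (D4.rtF r).1) (D4.rtF r).2.2 j := by decide +kernel

theorem D4.col_ok : ∀ r : Fin 24, ∃ a b : Fin 4 ⊕ Fin 4, ∃ s : Bool, D4.rtF r = (a, some b, if s then 1 else -1) ∧
    b ≠ a ∧ b ≠ a.swap ∧ ∀ j, D4.R.ext r.val (D4.φ j) = opExt D4.φ id a b (if s then 1 else -1) j := by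
  intro r
  have h := D4.col_ok' r
  have hj := D4.col_eq r
  revert h hj
  generalize D4.rtF r = e
  obtain ⟨a, ob, s⟩ := e
  cases ob with
  | none => rintro ⟨-, h, -⟩; simp at h
  | some b =>
    rintro ⟨hs, -, h1, h2⟩ hj
    rcases hs with h | h <;> subst h
    · exact ⟨a, b, true, rfl, h1, h2, hj⟩
    · exact ⟨a, b, false, rfl, h1, h2, hj⟩

theorem D4.cover : ∀ a b : Fin 4 ⊕ Fin 4, b ≠ a → b ≠ a.swap → ∃ r : Fin 24,
    ((D4.rtF r).1 = a ∧ (D4.rtF r).2.1 = some b) ∨ ((D4.rtF r).1 = b.swap ∧ (D4.rtF r).2.1 = some a.swap) := by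
  decide +kernel

/-- The numbering of the five coordinates. -/
def B2.φ : Unit ⊕ (Fin 2 ⊕ Fin 2) → ℕ := fun i => match i with
  | .inl _ => 0
  | .inr (.inl k) => 1 + k.val
  | .inr (.inr k) => 3 + k.val

/-- The entry of a root. -/
def B2.rtF (r : Fin 8) : (Fin 2 ⊕ Fin 2) × Option (Fin 2 ⊕ Fin 2) × ℤ := B2.rt.getD r.val (.inl 0, none, 0)

theorem B2.rk : RepOK chevB2 B2.T B2.R B2.φ 5 where
  inj := by decide
  lt := by decide
  surj := by decide
  chk := B2.rep_ok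

set_option synthInstance.maxSize 5000 in
theorem B2.col_ok : ∀ r : Fin 8, ((B2.rtF r).2.2 = 1 ∨ (B2.rtF r).2.2 = -1) ∧
    (∀ b, (B2.rtF r).2.1 = some b → b ≠ (B2.rtF r).1 ∧ b ≠ (B2.rtF r).1.swap ∧
      ∀ j, B2.R.ext r.val (B2.φ j) = opExt B2.φ Sum.inr (B2.rtF r).1 b (B2.rtF r).2.2 j) ∧
    ((B2.rtF r).2.1 = none →
      ∀ j, B2.R.ext r.val (B2.φ j) = shortExt B2.φ Sum.inr (.inl ()) (B2.rtF r).1 (B2.rtF r).2.2 j) := by
  decide +kernel

theorem B2.cover : (∀ a b : Fin 2 ⊕ Fin 2, b ≠ a → b ≠ a.swap → ∃ r : Fin 8,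
    ((B2.rtF r).1 = a ∧ (B2.rtF r).2.1 = some b) ∨ ((B2.rtF r).1 = b.swap ∧ (B2.rtF r).2.1 = some a.swap)) ∧
    (∀ a : Fin 2 ⊕ Fin 2, ∃ r : Fin 8, (B2.rtF r).1 = a ∧ (B2.rtF r).2.1 = none) := by decide +kernel

theorem mem_isometryGroup {F : Type*} [Field F] {ι : Type} [Fintype ι] [DecidableEq ι] {Q : (ι → F) → F}
    {g : GL ι F} : g ∈ Cfsg.isometryGroup F Q ↔ ∀ v, Q ((g : Matrix ι ι F) *ᵥ v) = Q v :=
  ⟨fun h v => h v v, fun h u _ => h u⟩

theorem D4.nonempty_equiv {F : Type*} [Field F] :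
    Nonempty (↥(chevD4.group F) ≃* Cfsg.POmega F (Cfsg.quadFormPlus 4 F)) := by
  have ok := D4.okx
  have rk := D4.rk
  have st := ok.presented_hyp (R := chevD4.steinbergRelsAB F) (Set.Subset.refl _) D4.dn_ok D4.wit_ok ok.scHom
    fun r hr t => ok.scHom_gen hr t
  have hop : ∀ (a b : Fin 4 ⊕ Fin 4) (t : F), b ≠ a → b ≠ a.swap →
      ∃ ε ∈ (rk.hom ok (F := F)).range, OrthGen.IsOp id a b t ε := by
    intro a b t h1 h2
    obtain ⟨r, hr⟩ := D4.cover a b h1 h2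
    obtain ⟨a', b', s, he, -, i2, hc⟩ := D4.col_ok r
    have hs : ((if s then 1 else -1 : ℤ) : F) * ((if s then 1 else -1 : ℤ) : F) = 1 := by cases s <;> simp
    set c : F := ((if s then 1 else -1 : ℤ) : F) with hcdef
    rcases hr with ⟨e1, e2⟩ | ⟨e1, e2⟩
    · rw [he] at e1 e2
      dsimp only at e1 e2
      obtain rfl := e1
      obtain rfl := Option.some.inj e2
      refine ⟨rk.hom ok (chevD4.scGen F r (c * t)), ⟨_, rfl⟩, ?_⟩
      have := rk.isOp_gen ok Function.injective_id r.isLt i2 hc (c * t)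
      rwa [← mul_assoc, ← hcdef, hs, one_mul] at this
    · rw [he] at e1 e2
      dsimp only at e1 e2
      obtain rfl := e1
      obtain rfl := Option.some.inj e2
      refine ⟨rk.hom ok (chevD4.scGen F r (c * -t)), ⟨_, rfl⟩, ?_⟩
      have := isOp_flip (rk.isOp_gen ok Function.injective_id r.isLt i2 hc (c * -t))
      rwa [← mul_assoc, ← hcdef, hs, one_mul, neg_neg] at this
  have hops : ∀ (a b : Fin (2 + 2) ⊕ Fin (2 + 2)) (t : F), b ≠ a → b ≠ a.swap → ∃ ε, OrthGen.IsOp id a b t ε :=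
    fun a b t h1 h2 => let ⟨ε, _, h⟩ := hop a b t h1 h2; ⟨ε, h⟩
  refine st.nonempty_equiv_pomega D4.cow_ok (st.perfect (Or.inl D4.perf)) D4.conn _ (rk.hom ok) ?_ ?_ ?_
  · refine rk.hom_range_le ok fun r hr t g hg => ?_
    obtain ⟨a, b, s, -, h1, h2, hc⟩ := D4.col_ok ⟨r, hr⟩
    have he := rk.isOp_gen ok Function.injective_id hr h2 hc t
    obtain rfl : g = rk.hom ok (chevD4.scGen F r t) := Units.ext (by rw [rk.hom_gen ok hr, hg])
    exact mem_isometryGroup.mpr fun v => OrthGen.iso_op Function.injective_id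
      (fun v k c => OrthGen.qPlus_add_single (n := 2) v k c) he h1 v
  · intro g hg h hh
    have hmem := OrthGen.plus_commutator (n := 2) hops (mem_isometryGroup.mp hg) (mem_isometryGroup.mp hh)
    refine (Subgroup.closure_le _).mpr ?_ hmem
    rintro ε ⟨a, b, t, h1, h2, hε⟩
    obtain ⟨ε', hε', h'⟩ := hop a b t h1 h2
    rwa [isOp_unique hε h']
  · obtain ⟨ε, ⟨x, rfl⟩, h⟩ := hop (Sum.inl 0) (Sum.inl 1) 1 (by decide) (by decide)
    refine ⟨x, fun e => ?_⟩
    have he := h (OrthGen.ev F (Sum.inl 1)) (Sum.inl 0)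
    rw [e, Units.val_one, Matrix.one_mulVec] at he
    simp [OrthGen.ev] at he

theorem B2.nonempty_equiv {F : Type*} [Field F] (hF : ∃ a : F, a ≠ 0 ∧ a ≠ 1) :
    Nonempty (↥(chevB2.group F) ≃* Cfsg.POmega F (Cfsg.quadFormOdd 2 F)) := by
  have ok := B2.okx
  have rk := B2.rk
  have st := ok.presented_hyp (R := chevB2.steinbergRelsAB F) (Set.Subset.refl _) B2.dn_ok B2.wit_ok ok.scHom
    fun r hr t => ok.scHom_gen hr t
  have hz : ∀ a : Fin 2 ⊕ Fin 2, (Sum.inl () : Unit ⊕ (Fin 2 ⊕ Fin 2)) ≠ Sum.inr a := fun _ => Sum.inl_ne_inr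
  have hinj : Function.Injective (Sum.inr : Fin 2 ⊕ Fin 2 → Unit ⊕ (Fin 2 ⊕ Fin 2)) := Sum.inr_injective
  have hsq : ∀ r : Fin 8, ((B2.rtF r).2.2 * (B2.rtF r).2.2 = 1) ∧
      ((((B2.rtF r).2.2 : ℤ) : F) * (((B2.rtF r).2.2 : ℤ) : F) = 1) := fun r => by
    rcases (B2.col_ok r).1 with e | e <;> simp [e]
  have hop : ∀ (a b : Fin 2 ⊕ Fin 2) (t : F), b ≠ a → b ≠ a.swap → ∃ ε ∈ (rk.hom ok (F := F)).range,
      OrthGen.IsOp (Sum.inr : Fin 2 ⊕ Fin 2 → Unit ⊕ (Fin 2 ⊕ Fin 2)) a b t ε := by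
    intro a b t h1 h2
    obtain ⟨r, hr⟩ := B2.cover.1 a b h1 h2
    rcases hr with ⟨e1, e2⟩ | ⟨e1, e2⟩
    · obtain ⟨-, i2, hc⟩ := (B2.col_ok r).2.1 _ e2
      refine ⟨rk.hom ok (chevB2.scGen F r (((B2.rtF r).2.2 : F) * t)), ⟨_, rfl⟩, ?_⟩
      have := rk.isOp_gen ok hinj r.isLt i2 hc (((B2.rtF r).2.2 : F) * t)
      rwa [← mul_assoc, (hsq r).2, one_mul, e1] at this
    · obtain ⟨-, i2, hc⟩ := (B2.col_ok r).2.1 _ e2
      refine ⟨rk.hom ok (chevB2.scGen F r (((B2.rtF r).2.2 : F) * -t)), ⟨_, rfl⟩, ?_⟩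
      have := rk.isOp_gen ok hinj r.isLt i2 hc (((B2.rtF r).2.2 : F) * -t)
      rw [← mul_assoc, (hsq r).2, one_mul, e1] at this
      simpa using isOp_flip this
  have hsho : ∀ (a : Fin 2 ⊕ Fin 2) (t : F), ∃ ε ∈ (rk.hom ok (F := F)).range,
      OrthGen.IsShort (Sum.inr : Fin 2 ⊕ Fin 2 → Unit ⊕ (Fin 2 ⊕ Fin 2)) (Sum.inl ()) a t ε := by
    intro a t
    obtain ⟨r, e1, e2⟩ := B2.cover.2 a
    refine ⟨rk.hom ok (chevB2.scGen F r (((B2.rtF r).2.2 : F) * t)), ⟨_, rfl⟩, ?_⟩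
    have := rk.isShort_gen ok hz r.isLt (hsq r).1 ((B2.col_ok r).2.2 e2) (((B2.rtF r).2.2 : F) * t)
    rwa [← mul_assoc, (hsq r).2, one_mul, e1] at this
  refine st.nonempty_equiv_pomega B2.cow_ok (st.perfect (Or.inr ⟨B2.perf, hF⟩)) B2.conn _ (rk.hom ok) ?_ ?_ ?_
  · refine rk.hom_range_le ok fun r hr t g hg => ?_
    obtain rfl : g = rk.hom ok (chevB2.scGen F r t) := Units.ext (by rw [rk.hom_gen ok hr, hg])
    refine mem_isometryGroup.mpr fun v => ?_
    obtain ⟨-, hlong, hshort⟩ := B2.col_ok ⟨r, hr⟩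
    cases e : (B2.rtF ⟨r, hr⟩).2.1 with
    | some b =>
      obtain ⟨h1, h2, hc⟩ := hlong b e
      exact OrthGen.iso_op hinj (fun v k c => OrthGen.qOdd_add_single (n := 0) v k c)
        (rk.isOp_gen ok hinj hr h2 hc t) h1 v
    | none =>
      exact OrthGen.qOdd_short (n := 0) (rk.isShort_gen ok hz hr (hsq ⟨r, hr⟩).1 (hshort e) t) v
  · intro g hg h hh
    have hmem := OrthGen.odd_commutator (n := 0) (fun a b t h1 h2 => let ⟨ε, _, h⟩ := hop a b t h1 h2; ⟨ε, h⟩)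
      (fun a t => let ⟨ε, _, h⟩ := hsho a t; ⟨ε, h⟩) (mem_isometryGroup.mp hg) (mem_isometryGroup.mp hh)
    refine (Subgroup.closure_le _).mpr ?_ hmem
    rintro ε (⟨a, b, t, h1, h2, hε⟩ | ⟨a, t, hε⟩)
    · obtain ⟨ε', hε', h'⟩ := hop a b t h1 h2
      rwa [isOp_unique hε h']
    · obtain ⟨ε', hε', h'⟩ := hsho a t
      rwa [isShort_unique hε h']
  · obtain ⟨ε, ⟨x, rfl⟩, h⟩ := hop (Sum.inl 0) (Sum.inl 1) 1 (by decide) (by decide)
    refine ⟨x, fun e => ?_⟩
    have he := h (OrthGen.ev F (Sum.inr (Sum.inl 1))) (Sum.inr (Sum.inl 0))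
    rw [e, Units.val_one, Matrix.one_mulVec] at he
    simp [OrthGen.ev] at he

end Cfsg.Agent.Chev
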