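import Cfsg.Agent.Lib.Chev.RepTab

/-!
Columns of the root elements of types D4 and B2 in the orthogonal representations, and the elementary transformation
each one is.
-/

set_option autoImplicit false

namespace Cfsg.Agent.Chev

open Cfsg.Lie

/-- The tables of type D4 with the columns of the eight-dimensional representation. -/
noncomputable def D4.R : Tabs := { D4.T with X := (.node (.node [(5, (1), 1)] (.node [(4, (-1), 1)] (.node [] (.node [] .nil .nil) .nil) (.node [] .nil .nil)) (.node [] (.node [] .nil .nil) (.node [] .nil .nil))) (.node (.node [(6, (1), 1)] (.node [] (.node [] (.node [] .nil .nil) .nil) (.node [] .nil .nil)) (.node [(4, (-1), 1)] (.node [] .nil .nil) (.node [] .nil .nil))) (.node (.node [(3, (1), 1)] (.node [] (.node [] (.node [(4, (-1), 1)] .nil .nil) .nil) (.node [] .nil .nil)) (.node [] (.node [] .nil .nil) (.node [] .nil .nil))) (.node (.node [] (.node [(7, (-1), 1)] (.node [(5, (1), 1)] (.node [] .nil .nil) .nil) (.node [] .nil .nil)) (.node [] (.node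 [] .nil .nil) (.node [] .nil .nil))) (.node (.node [] (.node [] (.node [(1, (-1), 1)] (.node [] .nil .nil) .nil) (.node [(7, (1), 1)] .nil .nil)) (.node [] (.node [] .nil .nil) (.node [] .nil .nil))) .nil .nil) (.node (.node [] (.node [] (.node [] (.node [] .nil .nil) .nil) (.node [(0, (1), 1)] .nil .nil)) (.node [] (.node [(1, (-1), 1)] .nil .nil) (.node [] .nil .nil))) .nil .nil)) (.node (.node [] (.node [] (.node [] (.node [(6, (-1), 1)] .nil .nil) .nil) (.node [] .nil .nil)) (.node [(3, (1), 1)] (.node [] .nil .nil) (.node [] .nil .nil))) (.node (.node [] (.node [] (.node [] (.node [] .nil .nil) .nil) (.node [] .nil .nil)) (.node [(0, (-1), 1)] (.node [(6, (1), 1)] .nil .nil) (.node [] .nil .nil))) .nil .nil) .nil)) (.node (.node [(1, (1), 1)] (.node [] (.node [] (.node [] .nil .nil) .nil) (.node [(4, (-1), 1)] .nil .nil)) (.node [] (.node [] .nil .nil) (.node [] .nil .nil))) (.node (.node [] (.node [(2, (1), 1)] (.node [] (.node [] .nil .nil) .nil) (.node [] .nil .nil)) (.node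 [] (.node [] .nil .nil) (.node [(5, (-1), 1)] .nil .nil))) (.node (.node [] (.node [] (.node [] (.node [] .nil .nil) .nil) (.node [(2, (1), 1)] .nil .nil)) (.node [] (.node [] .nil .nil) (.node [(1, (-1), 1)] .nil .nil))) .nil .nil) .nil) (.node (.node [] (.node [] (.node [] (.node [(2, (1), 1)] .nil .nil) .nil) (.node [] .nil .nil)) (.node [] (.node [] .nil .nil) (.node [(3, (-1), 1)] .nil .nil))) (.node (.node [] (.node [] (.node [] (.node [(0, (1), 1)] .nil .nil) .nil) (.node [] .nil .nil)) (.node [] (.node [(3, (-1), 1)] .nil .nil) (.node [] .nil .nil))) .nil .nil) .nil))) (.node (.node [(7, (1), 1)] (.node [] (.node [(4, (-1), 1)] (.node [] .nil .nil) .nil) (.node [] .nil .nil)) (.node [] (.node [] .nil .nil) (.node [] .nil .nil))) (.node (.node [(2, (-1), 1)] (.node [] (.node [] (.node [] .nil .nil) .nil) (.node [] .nil .nil)) (.node [] (.node [] .nil .nil) (.node [(4, (1), 1)] .nil .nil))) (.node (.node [] (.node [(3, (-1), 1)] (.node [] (.node [(5, (1), 1)] .nil .nil) .nil)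 (.node [] .nil .nil)) (.node [] (.node [] .nil .nil) (.node [] .nil .nil))) (.node (.node [] (.node [] (.node [] (.node [(1, (-1), 1)] .nil .nil) .nil) (.node [(3, (1), 1)] .nil .nil)) (.node [] (.node [] .nil .nil) (.node [] .nil .nil))) .nil .nil) .nil) (.node (.node [] (.node [] (.node [(2, (1), 1)] (.node [] .nil .nil) .nil) (.node [] .nil .nil)) (.node [] (.node [] .nil .nil) (.node [(7, (-1), 1)] .nil .nil))) (.node (.node [] (.node [] (.node [(0, (1), 1)] (.node [] .nil .nil) .nil) (.node [] .nil .nil)) (.node [] (.node [(7, (-1), 1)] .nil .nil) (.node [] .nil .nil))) .nil .nil) .nil)) (.node (.node [] (.node [(6, (-1), 1)] (.node [] (.node [] .nil .nil) .nil) (.node [] .nil .nil)) (.node [(5, (1), 1)] (.node [] .nil .nil) (.node [] .nil .nil))) (.node (.node [] (.node [] (.node [(6, (-1), 1)] (.node [] .nil .nil) .nil) (.node [] .nil .nil)) (.node [(7, (1), 1)] (.node [] .nil .nil) (.node [] .nil .nil))) (.node (.node [] (.node [(0, (1), 1)] (.node [] (.node [] .nil .nil) .nil)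 (.node [] .nil .nil)) (.node [] (.node [(5, (-1), 1)] .nil .nil) (.node [] .nil .nil))) .nil .nil) .nil) (.node (.node [] (.node [] (.node [] (.node [] .nil .nil) .nil) (.node [(6, (-1), 1)] .nil .nil)) (.node [(1, (1), 1)] (.node [] .nil .nil) (.node [] .nil .nil))) (.node (.node [] (.node [] (.node [] (.node [] .nil .nil) .nil) (.node [] .nil .nil)) (.node [] (.node [(2, (-1), 1)] .nil .nil) (.node [(0, (1), 1)] .nil .nil))) .nil .nil) .nil)))) }

/-- The pair and sign of each root. -/
def D4.rt : List ((Fin 4 ⊕ Fin 4) × Option (Fin 4 ⊕ Fin 4) × ℤ) := [((Sum.inr 0), some (Sum.inl 1), -1),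
  ((Sum.inr 0), some (Sum.inl 2), -1),
  ((Sum.inr 0), some (Sum.inl 3), -1),
  ((Sum.inr 0), some (Sum.inr 3), -1),
  ((Sum.inr 0), some (Sum.inr 2), 1),
  ((Sum.inr 0), some (Sum.inr 1), -1),
  ((Sum.inr 1), some (Sum.inl 2), 1),
  ((Sum.inr 1), some (Sum.inl 3), 1),
  ((Sum.inr 1), some (Sum.inr 3), 1),
  ((Sum.inr 1), some (Sum.inr 2), -1),
  ((Sum.inr 2), some (Sum.inl 3), -1),
  ((Sum.inr 2), some (Sum.inr 3), -1),
  ((Sum.inl 2), some (Sum.inl 3), 1),
  ((Sum.inl 2), some (Sum.inr 3), 1),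
  ((Sum.inl 1), some (Sum.inl 2), 1),
  ((Sum.inl 1), some (Sum.inl 3), -1),
  ((Sum.inl 1), some (Sum.inr 3), -1),
  ((Sum.inl 1), some (Sum.inr 2), -1),
  ((Sum.inl 0), some (Sum.inl 1), 1),
  ((Sum.inl 0), some (Sum.inl 2), -1),
  ((Sum.inl 0), some (Sum.inl 3), 1),
  ((Sum.inl 0), some (Sum.inr 3), 1),
  ((Sum.inl 0), some (Sum.inr 2), 1),
  ((Sum.inl 0), some (Sum.inr 1), 1)]

/-- The tables of type B2 with the columns of the five-dimensional representation. -/
noncomputable def B2.R : Tabs := { B2.T with X := (.node (.node [] (.node [(4, (1), 1)] (.node [] .nil .nil) .nil) (.node [(3, (-1), 1)] (.node [] .nil .nil) .nil)) (.node (.node [(3, (2), 1)] (.node [(0, (-1), 1), (3, (-1), 2)] (.node [] .nil .nil) .nil) (.node [] (.node [] .nil .nil) .nil)) (.node (.node [] (.node [(2, (1), 1)] (.node [] .nil .nil) .nil) (.node [] (.node [(3, (-1), 1)] .nil .nil) .nil)) (.node (.node [] (.node [] (.node [(2, (-1), 1)] .nil .nil) .nil) (.node [] (.node [(1, (1), 1)] .nil .nil) .nil)) .nil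 .nil) .nil) (.node (.node [(2, (-2), 1)] (.node [] (.node [] .nil .nil) .nil) (.node [] (.node [(0, (1), 1), (2, (-1), 2)] .nil .nil) .nil)) .nil .nil)) (.node (.node [(4, (2), 1)] (.node [] (.node [] .nil .nil) .nil) (.node [(0, (-1), 1), (4, (-1), 2)] (.node [] .nil .nil) .nil)) (.node (.node [] (.node [] (.node [(4, (-1), 1)] .nil .nil) .nil) (.node [(1, (1), 1)] (.node [] .nil .nil) .nil)) .nil .nil) (.node (.node [(1, (-2), 1)] (.node [] (.node [(0, (1), 1), (1, (-1), 2)] .nil .nil) .nil) (.node [] (.node [] .nil .nil) .nil)) .nil .nil))) }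

/-- The pair and sign of each root, `none` for the short roots. -/
def B2.rt : List ((Fin 2 ⊕ Fin 2) × Option (Fin 2 ⊕ Fin 2) × ℤ) := [((Sum.inr 0), some (Sum.inl 1), -1),
  ((Sum.inr 0), none, -1),
  ((Sum.inr 1), none, -1),
  ((Sum.inr 0), some (Sum.inr 1), -1),
  ((Sum.inl 0), some (Sum.inl 1), 1),
  ((Sum.inl 1), none, 1),
  ((Sum.inl 0), none, 1),
  ((Sum.inl 0), some (Sum.inr 1), 1)]

theorem D4.rep_ok : Tabs.chkRep chevD4 D4.T D4.R 8 = true := by decide +kernel

theorem B2.rep_ok : Tabs.chkRep chevB2 B2.T B2.R 5 = true := by decide +kernel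

end Cfsg.Agent.Chev
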