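import Cfsg.Agent.Lib.Chev.Para
import Cfsg.Agent.Lib.Chev.RootCent

/-!
The centraliser of the unipotent radical in its parabolic subgroup lies in the radical.
-/

set_option autoImplicit false

namespace Cfsg.Agent.Chev

open Cfsg.Lie

/-- Each positive root not involving the node `k` is added to some root involving `k` to give a root involving `k`. -/
noncomputable def Tabs.chkJoin (D : ChevalleyDatum) (T : Tabs) : Bool :=
  allR D.nroots fun r => orR (notR (ipos (T.htf r))) <| allR D.rank fun k => orR (notR (ieq (T.cC r k) 0)) <|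
    anyL (fun s => andR (ipos (T.htf s)) <| andR (ipos (T.cC s k)) <| anyL (fun q =>
      andR (ipos (T.htf q.1)) <| andR (ipos (T.cC q.1 k)) <|
        allR D.rank fun i => ieq (T.cA i q.1) (Int.add (T.cA i s) (T.cA i r))) (T.terms r s)) (upTo D.nroots)

variable {F : Type*} [Field F] {D : ChevalleyDatum} {T : Tabs}

namespace OKX

variable (ok : OKX D T) {M : List (List (ℕ × ℤ))} (hM : Tabs.chkCow D T M = true)
  (hJn : Tabs.chkJoin D T = true) (J : Set ℕ)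

include ok

theorem join_spec (hJn : Tabs.chkJoin D T = true) {r k : ℕ} (hr : r < D.nroots) (h0 : 0 < T.htf r)
    (hk : k < D.rank) (hrk : T.cC r k = 0) :
    ∃ s q, D.IsPosRoot s ∧ 0 < T.cC s k ∧ D.IsPosRoot q ∧ 0 < T.cC q k ∧
      ∀ i < D.rank, T.cA i q = T.cA i s + T.cA i r := by
  simp only [Tabs.chkJoin, allR_iff, orR_iff, notR_iff, anyL_iff, andR_iff, ipos_iff, ieq_iff, upTo_eq,
    List.mem_range] at hJn
  rcases hJn r hr with e | e
  · rw [ipos_iff.mpr h0] at e; simp at e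
  rcases e k hk with e | ⟨s, hs, h1, h2, q, hq, h3, h4, h5⟩
  · rw [ieq_iff.mpr hrk] at e; simp at e
  exact ⟨s, q.1, ok.toOK.isPos_iff.mpr ⟨hs, h1⟩, h2,
    ok.toOK.isPos_iff.mpr ⟨(ok.toOK.term_spec hr hs hq).1, h3⟩, h4, h5⟩

/-- The positive unipotent subgroup fixes a root element modulo the later ones. -/
theorem pos_conj_xG {v : GL D.Idx F} (hv : v ∈ D.posUnipotent F) {s : ℕ} (hs : D.IsPosRoot s) :
    ∀ a : F, (ok.toOK.xG s a)⁻¹ * (v * ok.toOK.xG s a * v⁻¹) ∈ ok.K F (s + 1) := by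
  obtain ⟨hs1, hs2⟩ := ok.isPos_iff_half.mp hs
  have hnorm : ∀ v ∈ D.posUnipotent F, ∀ k ∈ ok.K F (s + 1), v * k * v⁻¹ ∈ ok.K F (s + 1) := by
    have hle : D.posUnipotent F ≤ Subgroup.normalizer (ok.K F (s + 1) : Set (GL D.Idx F)) := by
      refine (Subgroup.closure_le _).mpr ?_
      rintro g ⟨r, t, hr, hg⟩
      rw [ok.toOK.eq_xG hg]
      by_cases h : r < s + 1
      · exact ok.xG_normalizes_K hr h t
      · exact Subgroup.le_normalizer (ok.xG_mem_K hr (by omega) t)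
    exact fun v hv k hk => (Subgroup.mem_normalizer_iff.mp (hle hv) k).mp hk
  induction hv using Subgroup.closure_induction with
  | mem x hx =>
    obtain ⟨r, t, hr, hx⟩ := hx
    obtain ⟨hr1, hr2⟩ := ok.isPos_iff_half.mp hr
    rw [ok.toOK.eq_xG hx]
    intro a
    by_cases hrs : s = r
    · subst hrs
      rw [ok.toOK.xG_inv, ok.toOK.xG_inv, ok.toOK.xG_mul, ok.toOK.xG_mul, ok.toOK.xG_mul,
        show -a + (t + a + -t) = (0 : F) by ring, ok.toOK.xG_zero]
      exact one_mem _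
    · have hne : s ≠ T.neg r := by rw [ok.neg_eq_sub hr2]; have := ok.two_half; omega
      have e : ok.toOK.xG s a * ok.toOK.xG r (-t) =
          ok.toOK.xG r (-t) * ok.toOK.xG s a * ok.toOK.wordG (D.commWord F r s (-t) a) := by
        refine Units.ext ?_
        rw [Units.val_mul, Units.val_mul, Units.val_mul, OK.coe_wordG]
        exact ok.toOK.comm hr2 hs2 hrs (by rwa [ok.toOK.neg_eq hr2]) (-t) a
      rw [ok.toOK.xG_inv r t, mul_assoc (ok.toOK.xG r t), e, ← mul_assoc (ok.toOK.xG r t),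
        ← mul_assoc (ok.toOK.xG r t), ok.toOK.xG_mul, add_neg_cancel, ok.toOK.xG_zero, one_mul,
        inv_mul_cancel_left]
      refine list_prod_mem fun x hx => ?_
      obtain ⟨p, hp, rfl⟩ := List.mem_map.mp hx
      simp only [ChevalleyDatum.commWord, ok.toOK.terms_eq hr2 hs2, List.mem_map] at hp
      obtain ⟨q, hq, rfl⟩ := hp
      have := ok.terms_up hr2 hr1 hs2 hs1 hq
      exact ok.xG_mem_K (ok.isPos_iff_half.mpr ⟨by omega, (ok.toOK.term_spec hr2 hs2 hq).1⟩) (by omega) _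
  | one => intro a; simp
  | mul x y hx' _ hx hy =>
    intro a
    have h1 := hx a
    have h2 := hnorm x hx' _ (hy a)
    have := mul_mem h1 h2
    rwa [show (ok.toOK.xG s a)⁻¹ * (x * ok.toOK.xG s a * x⁻¹) *
        (x * ((ok.toOK.xG s a)⁻¹ * (y * ok.toOK.xG s a * y⁻¹)) * x⁻¹) =
        (ok.toOK.xG s a)⁻¹ * (x * y * ok.toOK.xG s a * (x * y)⁻¹) by simp [mul_assoc]] at this
  | inv x hx' hx =>
    intro a
    have h2 := hnorm x⁻¹ (inv_mem hx') _ (inv_mem (hx a))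
    rwa [show x⁻¹ * ((ok.toOK.xG s a)⁻¹ * (x * ok.toOK.xG s a * x⁻¹))⁻¹ * x⁻¹⁻¹ =
        (ok.toOK.xG s a)⁻¹ * ((ok.toOK.xG s a) * (x⁻¹ * (x * ((ok.toOK.xG s a)⁻¹ * x⁻¹ * ok.toOK.xG s a) * x))) by
          simp [mul_assoc],
      show (ok.toOK.xG s a)⁻¹ * ((ok.toOK.xG s a) * (x⁻¹ * (x * ((ok.toOK.xG s a)⁻¹ * x⁻¹ * ok.toOK.xG s a) * x))) =
        (ok.toOK.xG s a)⁻¹ * (x⁻¹ * ok.toOK.xG s a * x⁻¹⁻¹) by simp [mul_assoc]] at h2

theorem torG_prod_cA {c : ℕ → F} (hc : ∀ i < D.rank, c i ≠ 0) {s q r : ℕ}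
    (h : ∀ i < D.rank, T.cA i q = T.cA i s + T.cA i r) :
    (∏ i ∈ Finset.range D.rank, c i ^ T.cA i q) =
      (∏ i ∈ Finset.range D.rank, c i ^ T.cA i s) * ∏ i ∈ Finset.range D.rank, c i ^ T.cA i r := by
  rw [← Finset.prod_mul_distrib]
  refine Finset.prod_congr rfl fun i hi => ?_
  rw [h i (Finset.mem_range.mp hi), zpow_add₀ (hc i (Finset.mem_range.mp hi))]

/-- The centraliser of the radical in the parabolic subgroup. -/
def cJ (_ : OKX D T) (F : Type*) [Field F] (J : Set ℕ) : Subgroup (GL D.Idx F) :=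
  D.parabolicSubgroup F J ⊓ Subgroup.centralizer (D.unipotentRadical F J : Set (GL D.Idx F))

include hM

theorem parabolic_normalizes_cJ :
    D.parabolicSubgroup F J ≤ Subgroup.normalizer (ok.cJ F J : Set (GL D.Idx F)) := by
  have key : ∀ g ∈ D.parabolicSubgroup F J, ∀ c ∈ ok.cJ F J, g * c * g⁻¹ ∈ ok.cJ F J := by
    intro g hg c hc
    obtain ⟨h1, h2⟩ := Subgroup.mem_inf.mp hc
    refine Subgroup.mem_inf.mpr ⟨mul_mem (mul_mem hg h1) (inv_mem hg), fun x hx => ?_⟩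
    have h3 : g⁻¹ * x * g ∈ D.unipotentRadical F J := by
      have := (Subgroup.mem_normalizer_iff.mp (ok.parabolic_normalizes hM J (inv_mem hg)) x).mp hx
      simpa using this
    have h4 : g⁻¹ * x * g * c = c * (g⁻¹ * x * g) := h2 _ h3
    calc x * (g * c * g⁻¹) = g * (g⁻¹ * x * g * c) * g⁻¹ := by simp [mul_assoc]
      _ = _ := by rw [h4]; simp [mul_assoc]
  intro g hg
  rw [Subgroup.mem_normalizer_iff]
  refine fun c => ⟨key g hg c, fun hc => ?_⟩
  have := key g⁻¹ (inv_mem hg) _ hc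
  simpa [mul_assoc] using this

omit hM
include hJn

theorem move_spec {j k : ℕ} (hj : j < D.rank) (hjJ : j ∈ J) (hk : k < D.rank) (hkJ : k ∉ J) :
    ∃ s, D.IsPosRoot s ∧ ¬ D.InRootSub J s ∧ T.refl j s ≠ s := by
  have hp := ok.toOK.smp_lt hj
  have hjk : T.cC (T.smp j) k = 0 := by
    rw [ok.toOK.cC_smp hj hk, if_neg]; rintro rfl; exact hkJ hjJ
  obtain ⟨s, q, hs, hsk, hq, hqk, hA⟩ :=
    ok.join_spec hJn hp (by rw [(ok.toOK.smp_spec hj).1]; norm_num) hk hjk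
  have hsJ : ¬ D.InRootSub J s := fun h => by
    have := (ok.inSub_iff.mp h).2 k hk hkJ; omega
  have hqJ : ¬ D.InRootSub J q := fun h => by
    have := (ok.inSub_iff.mp h).2 k hk hkJ; omega
  have fix : ∀ s < D.nroots, T.refl j s = s → T.cA j s = 0 := by
    intro s hs e
    have h1 := ok.toOK.cA_refl hj hj hs
    have h3 := ok.toOK.simp_ok j hj
    simp only [Tabs.chkSimple, andR_iff, ieq_iff] at h3
    rw [e, h3.2.2.1] at h1
    omega
  by_cases e : T.refl j s = s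
  · refine ⟨q, hq, hqJ, fun e' => ?_⟩
    have h1 := fix s hs.1 e
    have h2 := fix q hq.1 e'
    have h3 := ok.toOK.simp_ok j hj
    simp only [Tabs.chkSimple, andR_iff, ieq_iff] at h3
    have := hA j hj
    rw [h1, h2, h3.2.2.1] at this
    omega
  · exact ⟨s, hs, hsJ, e⟩

include hM

theorem cJ_le_borel (hJ : ∃ k, k < D.rank ∧ k ∉ J) : ok.cJ F J ≤ D.borelSubgroup F := by
  obtain ⟨k, hk, hkJ⟩ := hJ
  intro c hc
  by_contra hcB
  set C := ok.cJ F J
  have hCP : C ≤ D.parabolicSubgroup F J := inf_le_left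
  have hBP := ok.borel_le_parabolic (F := F) J
  have hCB : C ⊔ D.borelSubgroup F ≤ D.parabolicSubgroup F J := sup_le hCP hBP
  have hsplit : ∀ g ∈ C ⊔ D.borelSubgroup F, ∃ a ∈ C, ∃ b ∈ D.borelSubgroup F, g = a * b := by
    intro g hg
    rw [← SetLike.mem_coe, Subgroup.coe_mul_of_right_le_normalizer_left _ _
      (hBP.trans (ok.parabolic_normalizes_cJ hM J))] at hg
    obtain ⟨a, ha, b, hb, e⟩ := Set.mem_mul.mp hg
    exact ⟨a, ha, b, hb, e.symm⟩
  have hG : D.parabolicSubgroup F J ≤ D.group F := by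
    rw [← ok.normalizer_uJ (F := F) hM J]; exact inf_le_right
  obtain ⟨b, hb, n, hn, u, hu, e⟩ := ok.bruhat_exists (hG (hCP hc))
  have hu' : u ∈ D.borelSubgroup F := Subgroup.mem_sup_left ((Subgroup.closure_le _).mpr
    (by rintro y ⟨r, t, hr, -, hy⟩; exact Subgroup.subset_closure ⟨r, t, hr, hy⟩) hu)
  obtain ⟨t₀, ht₀, w, hw, rfl⟩ := ok.toOK.mem_monomial.mp hn
  have hW : ok.toOK.gW F w ∈ C ⊔ D.borelSubgroup F := by
    have h1 := mul_mem (mul_mem (mul_mem (Subgroup.mem_sup_right (inv_mem (Subgroup.mem_sup_right ht₀)) :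
      t₀⁻¹ ∈ C ⊔ D.borelSubgroup F) (Subgroup.mem_sup_right (inv_mem hb))) (Subgroup.mem_sup_left hc))
      (Subgroup.mem_sup_right (inv_mem hu'))
    rw [e] at h1
    simpa [mul_assoc] using h1
  by_cases hpos : ∀ i < D.rank, ¬ T.htf (piW T w (T.smp i)) < 0
  · have hd := ok.gW_mem_diag_of_pos (F := F) _ w rfl hw fun r hr h0 => ok.pos_of_simple hw hpos hr h0
    exact hcB (e ▸ mul_mem (mul_mem hb (Subgroup.mem_sup_right (mul_mem ht₀ hd))) hu')
  push Not at hpos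
  obtain ⟨j, hj, hneg⟩ := hpos
  have hp := ok.toOK.smp_lt hj
  have hlt := ok.piW_lt hw hp
  obtain ⟨a, ha, hconj⟩ := (ok.toOK.act_gW (F := F) w hw).2.1 _ hp
  have hxneg : ∀ t : F, ok.toOK.xG (T.neg (T.smp j)) t ∈ C ⊔ D.borelSubgroup F := by
    intro t
    have h2 := (hconj t).2
    have hpp : D.IsPosRoot (T.neg (piW T w (T.smp j))) :=
      ok.toOK.isPos_iff.mpr ⟨ok.toOK.neg_lt hlt, by rw [ok.toOK.ht_neg hlt]; omega⟩
    have h3 : ok.toOK.xG (T.neg (piW T w (T.smp j))) (a⁻¹ * t) ∈ C ⊔ D.borelSubgroup F :=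
      Subgroup.mem_sup_right (Subgroup.mem_sup_left (ok.toOK.xG_mem_pos hpp _))
    have := mul_mem (mul_mem (inv_mem hW) (h2 ▸ h3)) hW
    simpa [mul_assoc] using this
  have hn : ok.toOK.nG (T.smp j) (1 : F) ∈ C ⊔ D.borelSubgroup F := by
    rw [ok.toOK.nG_eq hp]
    have hx : ∀ t : F, ok.toOK.xG (T.smp j) (t : F) ∈ C ⊔ D.borelSubgroup F := fun t =>
      Subgroup.mem_sup_right (Subgroup.mem_sup_left (ok.toOK.xG_mem_pos (ok.smp_isPos hj) (t : F)))
    exact mul_mem (mul_mem (hx _) (hxneg _)) (hx _)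
  have hjJ : j ∈ J := by
    by_contra hjJ
    have hxU : ok.toOK.xG (T.smp j) (1 : F) ∈ D.unipotentRadical F J :=
      ok.xG_mem_uJ J (ok.smp_isPos hj) (fun h => hjJ ((ok.smp_inSub J hj).mp h)) 1
    have h3 := (Subgroup.mem_normalizer_iff.mp (ok.parabolic_normalizes hM J (hCB hn)) _).mp hxU
    rw [ok.toOK.n_xG hj hp, (ok.toOK.smp_spec hj).2.2.1] at h3
    have h4 : ok.toOK.xG (T.neg (T.smp j)) ((T.eta j (T.smp j) : F) * 1) ∈
        D.borelSubgroup F ⊓ D.negUnipotent F :=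
      ⟨Subgroup.mem_sup_left (ok.uJ_le_pos J h3), ok.toOK.xG_mem_neg (ok.toOK.isNeg_iff.mpr
        ⟨ok.toOK.neg_lt hp, by rw [ok.toOK.ht_neg hp, (ok.toOK.smp_spec hj).1]; norm_num⟩) _⟩
    rw [ok.toOK.borel_inf_neg, Subgroup.mem_bot] at h4
    have h5 := (ok.toOK.x_eq_one (ok.toOK.neg_lt hp) ((T.eta j (T.smp j) : F) * 1)).mp (by rw [← ok.toOK.coe_xG, h4]; rfl)
    exact (mul_ne_zero (left_ne_zero_of_mul_eq_one (ok.toOK.eta_sq hj hp)) one_ne_zero) h5
  obtain ⟨s₀, hs₀, hs₀J, hs₀ne⟩ := ok.move_spec hJn J hj hjJ hk hkJ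
  obtain ⟨hs₀', hs₀'J⟩ := ok.refl_outside J hj hjJ hs₀ hs₀J
  -- the larger of the two roots
  obtain ⟨s, hs, hsJ, hlt'⟩ : ∃ s, D.IsPosRoot s ∧ ¬ D.InRootSub J s ∧ T.refl j s < s := by
    rcases lt_or_gt_of_ne hs₀ne with h | h
    · exact ⟨s₀, hs₀, hs₀J, h⟩
    · exact ⟨_, hs₀', hs₀'J, by rw [ok.toOK.refl_refl hj hs₀.1]; exact h⟩
  obtain ⟨hs', hs'J⟩ := ok.refl_outside J hj hjJ hs hsJ
  obtain ⟨a', ha', b', hb', e'⟩ := hsplit _ hn
  obtain ⟨v, hv, t, ht, rfl⟩ := ok.toOK.mem_borel hb'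
  obtain ⟨ch, hch, hcht⟩ := ok.toOK.diag_conj_xG ht hs.1 (1 : F)
  have hx : ok.toOK.xG s (1 : F) ∈ D.unipotentRadical F J := ok.xG_mem_uJ J hs hsJ 1
  have hbx : v * t * ok.toOK.xG s 1 * (v * t)⁻¹ ∈ D.unipotentRadical F J :=
    (Subgroup.mem_normalizer_iff.mp (ok.parabolic_normalizes hM J (hBP hb')) _).mp hx
  have hmain : ok.toOK.xG (T.refl j s) ((T.eta j s : F) * 1) = v * t * ok.toOK.xG s 1 * (v * t)⁻¹ := by
    have h5 := (Subgroup.mem_inf.mp ha').2 _ hbx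
    rw [← ok.toOK.n_xG hj hs.1, e']
    calc a' * (v * t) * ok.toOK.xG s 1 * (a' * (v * t))⁻¹
        = a' * (v * t * ok.toOK.xG s 1 * (v * t)⁻¹) * a'⁻¹ := by simp [mul_assoc]
      _ = v * t * ok.toOK.xG s 1 * (v * t)⁻¹ * a' * a'⁻¹ := by rw [← h5]
      _ = _ := by simp [mul_assoc]
  have hK : v * t * ok.toOK.xG s 1 * (v * t)⁻¹ ∈ ok.K F (T.refl j s + 1) := by
    have h6 := ok.pos_conj_xG hv hs (ch * 1)
    have h7 := mul_mem (ok.xG_mem_K (k := T.refl j s + 1) hs (by omega) (ch * 1))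
      (ok.K_mono (by omega) h6)
    rw [mul_inv_cancel_left, ← hcht] at h7
    simpa [mul_assoc] using h7
  obtain ⟨h8, h9⟩ := ok.isPos_iff_half.mp hs'
  have h10 := ok.K_split_unique h8 h9 (hmain ▸ hK)
  exact (mul_ne_zero (left_ne_zero_of_mul_eq_one (ok.toOK.eta_sq hj hs.1)) one_ne_zero) h10

theorem cJ_le_uJ (hJ : ∃ k, k < D.rank ∧ k ∉ J) : ok.cJ F J ≤ D.unipotentRadical F J := by
  have hB := ok.cJ_le_borel (F := F) hM hJn J hJ
  obtain ⟨k, hk, hkJ⟩ := hJ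
  have hU : ok.cJ F J ≤ D.posUnipotent F := by
    intro g hg
    obtain ⟨v, hv, t, ht, rfl⟩ := ok.toOK.mem_borel (hB hg)
    suffices h : t = 1 by rw [h, mul_one]; exact hv
    obtain ⟨c, hc, rfl⟩ := ok.toOK.mem_diag.mp ht
    set χ : ℕ → F := fun r => ∏ i ∈ Finset.range D.rank, c i ^ T.cA i r with hχ
    have hout : ∀ s, D.IsPosRoot s → ¬ D.InRootSub J s → χ s = 1 := by
      intro s hs hsJ
      have h1 := (Subgroup.mem_inf.mp hg).2 _ (ok.xG_mem_uJ (F := F) J hs hsJ 1)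
      have h2 : v * ok.toOK.xG s (χ s * 1) * v⁻¹ = ok.toOK.xG s 1 := by
        rw [hχ, ← ok.toOK.torG_xG hc hs.1]
        calc v * (ok.toOK.torG c * ok.toOK.xG s 1 * (ok.toOK.torG c)⁻¹) * v⁻¹
            = v * ok.toOK.torG c * ok.toOK.xG s 1 * (v * ok.toOK.torG c)⁻¹ := by simp [mul_assoc]
          _ = _ := by rw [← h1, mul_inv_cancel_right]
      have h3 := ok.pos_conj_xG hv hs (χ s * 1)
      rw [h2, ok.toOK.xG_inv, ok.toOK.xG_mul] at h3
      obtain ⟨h4, h5⟩ := ok.isPos_iff_half.mp hs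
      have := ok.K_split_unique h4 h5 h3
      linear_combination -this
    have hall : ∀ r < D.nroots, χ r = 1 := by
      have hpos : ∀ r, D.IsPosRoot r → χ r = 1 := by
        intro r hr
        by_cases hrJ : D.InRootSub J r
        · obtain ⟨h1, h2⟩ := ok.toOK.isPos_iff.mp hr
          obtain ⟨s, q, hs, hsk, hq, hqk, hA⟩ :=
            ok.join_spec hJn h1 h2 hk ((ok.inSub_iff.mp hrJ).2 k hk hkJ)
          have hsJ : ¬ D.InRootSub J s := fun h => by
            have := (ok.inSub_iff.mp h).2 k hk hkJ; omega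
          have hqJ : ¬ D.InRootSub J q := fun h => by
            have := (ok.inSub_iff.mp h).2 k hk hkJ; omega
          have := ok.torG_prod_cA hc hA
          rw [show (∏ i ∈ Finset.range D.rank, c i ^ T.cA i q) = 1 from hout q hq hqJ,
            show (∏ i ∈ Finset.range D.rank, c i ^ T.cA i s) = 1 from hout s hs hsJ, one_mul] at this
          exact this.symm
        · exact hout r hr hrJ
      intro r hr
      rcases ok.toOK.pos_or_neg hr with h | h
      · exact hpos r h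
      · have h0 := (ok.toOK.isNeg_iff.mp h).2
        have h1 : χ (T.neg r) = 1 :=
          hpos _ (ok.toOK.isPos_iff.mpr ⟨ok.toOK.neg_lt hr, by rw [ok.toOK.ht_neg hr]; omega⟩)
        have h2 : χ (T.neg r) = (χ r)⁻¹ := by
          rw [hχ, ← Finset.prod_inv_distrib]
          exact Finset.prod_congr rfl fun i hi => by rw [ok.toOK.cA_neg hr (Finset.mem_range.mp hi), zpow_neg]
        rw [h1, eq_comm, inv_eq_one] at h2
        exact h2
    refine Units.ext ?_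
    rw [ok.toOK.coe_torG hc, Units.val_one, ← Matrix.diagonal_one]
    congr 1
    funext z
    rcases z with z | z
    · rfl
    · exact hall z z.isLt
  obtain ⟨w, hw, hlong⟩ := ok.exists_longest_in J
  have hw' : ∀ i ∈ w, i < D.rank := fun i hi => (hw i hi).1
  intro g hg
  set W := ok.toOK.gW F w
  have hWP : W ∈ D.parabolicSubgroup F J := ok.gW_mem_parabolic_of_word J hw
  have hg' : W * g * W⁻¹ ∈ D.posUnipotent F :=
    hU ((Subgroup.mem_normalizer_iff.mp (ok.parabolic_normalizes_cJ hM J hWP) g).mp hg)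
  set L := Subgroup.closure {g : GL D.Idx F | ∃ (r : ℕ) (t : F), (D.IsPosRoot r ∧ D.InRootSub J r) ∧
    (g : Matrix D.Idx D.Idx F) = D.x F r t}
  have hLU : L ≤ D.posUnipotent F :=
    (Subgroup.closure_le _).mpr fun y ⟨r, t, hr, hy⟩ => Subgroup.subset_closure ⟨r, t, hr.1, hy⟩
  have hUeq : D.posUnipotent F ≤ L ⊔ D.unipotentRadical F J := by
    refine (Subgroup.closure_le _).mpr ?_
    rintro y ⟨r, t, hr, hy⟩
    by_cases hrJ : D.InRootSub J r
    · exact Subgroup.mem_sup_left (Subgroup.subset_closure ⟨r, t, ⟨hr, hrJ⟩, hy⟩)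
    · exact Subgroup.mem_sup_right (Subgroup.subset_closure ⟨r, t, hr, hrJ, hy⟩)
  have hg1 := hUeq (hU hg)
  rw [← SetLike.mem_coe, Subgroup.coe_mul_of_left_le_normalizer_right _ _
    (hLU.trans (ok.pos_normalizes_uJ hM J))] at hg1
  obtain ⟨a, ha, u, hu, rfl⟩ := Set.mem_mul.mp hg1
  have hneg : W * a * W⁻¹ ∈ D.negUnipotent F := by
    clear hg hg' hg1
    induction ha using Subgroup.closure_induction with
    | mem y hy =>
      obtain ⟨r, t, ⟨hr, hrJ⟩, hy⟩ := hy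
      obtain ⟨α, -, hα⟩ := (ok.toOK.act_gW (F := F) w hw').2.1 r hr.1
      rw [ok.toOK.eq_xG hy, (hα t).1]
      exact ok.toOK.xG_mem_neg (ok.toOK.isNeg_iff.mpr ⟨ok.piW_lt hw' hr.1, hlong r hr hrJ⟩) _
    | one => simp
    | mul p q _ _ hp hq => rw [← conj_mul]; exact mul_mem hp hq
    | inv p _ hp => rw [← conj_inv]; exact inv_mem hp
  have hu' : W * u * W⁻¹ ∈ D.posUnipotent F :=
    ok.uJ_le_pos J ((Subgroup.mem_normalizer_iff.mp (ok.parabolic_normalizes hM J hWP) u).mp hu)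
  have h2 : W * a * W⁻¹ ∈ D.borelSubgroup F ⊓ D.negUnipotent F := by
    refine ⟨Subgroup.mem_sup_left ?_, hneg⟩
    have := mul_mem hg' (inv_mem hu')
    simpa [mul_assoc] using this
  rw [ok.toOK.borel_inf_neg, Subgroup.mem_bot, conj_eq_one_iff] at h2
  rw [h2, one_mul]
  exact hu

end OKX

end Cfsg.Agent.Chev
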