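import Cfsg.Agent.Lib.Chev.Mono
import Mathlib.LinearAlgebra.Matrix.SpecialLinearGroup

/-!
The homomorphism from the two by two special linear group onto the subgroup of a root and its negative.
-/

set_option autoImplicit false

namespace Cfsg.Agent.Chev

open Cfsg.Lie

variable {F : Type*} [Field F]

namespace RankOne

variable {G : Type*} [Group G]

/-- The monomial element of a pair of one parameter families. -/
def nE (X Y : F → G) (t : F) : G := X t * Y (-t⁻¹) * X t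

/-- The diagonal element of a pair of one parameter families. -/
def hE (X Y : F → G) (t : F) : G := nE X Y t * nE X Y (-1)

/-- Relations of rank one. -/
structure Rel (X Y : F → G) : Prop where
  xadd : ∀ a b, X a * X b = X (a + b)
  yadd : ∀ a b, Y a * Y b = Y (a + b)
  hmul : ∀ a b, a ≠ 0 → b ≠ 0 → hE X Y a * hE X Y b = hE X Y (a * b)
  nx : ∀ u, nE X Y 1 * X u * (nE X Y 1)⁻¹ = Y (-u)
  hx : ∀ a, a ≠ 0 → ∀ u, hE X Y a * X u * (hE X Y a)⁻¹ = X (a ^ 2 * u)
  hy : ∀ a, a ≠ 0 → ∀ u, hE X Y a * Y u * (hE X Y a)⁻¹ = Y (a⁻¹ ^ 2 * u)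

namespace Rel

variable {X Y : F → G} (R : Rel X Y)

include R

theorem x0 : X 0 = 1 := mul_eq_left.mp (by rw [R.xadd, add_zero] : X 0 * X 0 = X 0)
theorem y0 : Y 0 = 1 := mul_eq_left.mp (by rw [R.yadd, add_zero] : Y 0 * Y 0 = Y 0)
theorem xinv (a : F) : (X a)⁻¹ = X (-a) := inv_eq_of_mul_eq_one_right (by rw [R.xadd, add_neg_cancel, R.x0])
theorem yinv (a : F) : (Y a)⁻¹ = Y (-a) := inv_eq_of_mul_eq_one_right (by rw [R.yadd, add_neg_cancel, R.y0])

theorem h1 : hE X Y 1 = 1 :=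
  mul_eq_left.mp (by rw [R.hmul 1 1 one_ne_zero one_ne_zero, one_mul] : hE X Y 1 * hE X Y 1 = hE X Y 1)

theorem ninv (t : F) : (nE X Y t)⁻¹ = nE X Y (-t) := by
  simp [nE, R.xinv, R.yinv, inv_neg, mul_assoc]

theorem n_eq (a : F) : nE X Y a = hE X Y a * nE X Y 1 := by
  rw [hE, ← R.ninv, inv_mul_cancel_right]

theorem hinv {a : F} (ha : a ≠ 0) : (hE X Y a)⁻¹ = hE X Y a⁻¹ :=
  inv_eq_of_mul_eq_one_right (by rw [R.hmul _ _ ha (inv_ne_zero ha), mul_inv_cancel₀ ha, R.h1])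

theorem nn : nE X Y 1 * nE X Y 1 = hE X Y (-1) := by
  have h : (nE X Y 1 * nE X Y 1)⁻¹ = hE X Y (-1) := by rw [mul_inv_rev, R.ninv]; rfl
  rw [← inv_inv (nE X Y 1 * nE X Y 1), h, R.hinv (neg_ne_zero.mpr one_ne_zero), inv_neg, inv_one]

theorem ny (u : F) : nE X Y 1 * Y u * (nE X Y 1)⁻¹ = X (-u) := by
  rw [← neg_neg u, ← R.nx (-u)]
  calc _ = (nE X Y 1 * nE X Y 1) * X (-u) * (nE X Y 1 * nE X Y 1)⁻¹ := by simp [mul_assoc]
    _ = _ := by rw [R.nn, R.hx _ (neg_ne_zero.mpr one_ne_zero)]; simp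

theorem nbx {b : F} (hb : b ≠ 0) (u : F) : nE X Y b * X u * (nE X Y b)⁻¹ = Y (-(b⁻¹ ^ 2 * u)) := by
  rw [R.n_eq b, mul_inv_rev]
  calc _ = hE X Y b * (nE X Y 1 * X u * (nE X Y 1)⁻¹) * (hE X Y b)⁻¹ := by simp [mul_assoc]
    _ = _ := by rw [R.nx, R.hy b hb, mul_neg]

theorem nby {b : F} (hb : b ≠ 0) (u : F) : nE X Y b * Y u * (nE X Y b)⁻¹ = X (-(b ^ 2 * u)) := by
  rw [R.n_eq b, mul_inv_rev]
  calc _ = hE X Y b * (nE X Y 1 * Y u * (nE X Y 1)⁻¹) * (hE X Y b)⁻¹ := by simp [mul_assoc]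
    _ = _ := by rw [R.ny, R.hx b hb, mul_neg]

theorem n_swap {b : F} (hb : b ≠ 0) : nE X Y b = Y (-b⁻¹) * X b * Y (-b⁻¹) := by
  calc nE X Y b = nE X Y b * (X b * Y (-b⁻¹) * X b) * (nE X Y b)⁻¹ := by
        rw [show X b * Y (-b⁻¹) * X b = nE X Y b from rfl, mul_inv_cancel_right]
    _ = (nE X Y b * X b * (nE X Y b)⁻¹) * (nE X Y b * Y (-b⁻¹) * (nE X Y b)⁻¹) *
        (nE X Y b * X b * (nE X Y b)⁻¹) := by simp [mul_assoc]
    _ = _ := by
      rw [R.nbx hb, R.nby hb, show b⁻¹ ^ 2 * b = b⁻¹ by field_simp, show -(b ^ 2 * -b⁻¹) = b by field_simp]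

theorem nh {a : F} (ha : a ≠ 0) : nE X Y 1 * hE X Y a * (nE X Y 1)⁻¹ = hE X Y a⁻¹ := by
  have hn : ∀ c : F, c ≠ 0 → nE X Y 1 * nE X Y c * (nE X Y 1)⁻¹ = nE X Y c⁻¹ := by
    intro c hc
    rw [R.n_swap (inv_ne_zero hc), show nE X Y c = X c * Y (-c⁻¹) * X c from rfl, inv_inv]
    calc _ = (nE X Y 1 * X c * (nE X Y 1)⁻¹) * (nE X Y 1 * Y (-c⁻¹) * (nE X Y 1)⁻¹) *
          (nE X Y 1 * X c * (nE X Y 1)⁻¹) := by simp [mul_assoc]
      _ = _ := by rw [R.nx, R.ny, neg_neg]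
  rw [show hE X Y a = nE X Y a * nE X Y (-1) from rfl, show hE X Y a⁻¹ = nE X Y a⁻¹ * nE X Y (-1) from rfl]
  calc _ = (nE X Y 1 * nE X Y a * (nE X Y 1)⁻¹) * (nE X Y 1 * nE X Y (-1) * (nE X Y 1)⁻¹) := by simp [mul_assoc]
    _ = _ := by rw [hn a ha, hn (-1) (neg_ne_zero.mpr one_ne_zero), inv_neg, inv_one]

open Classical in
/-- The map on matrices. -/
noncomputable def toG (X Y : F → G) (g : Matrix.SpecialLinearGroup (Fin 2) F) : G :=
  if g.1 1 0 = 0 then X (g.1 0 0 * g.1 0 1) * hE X Y (g.1 0 0)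
  else X (g.1 0 0 / g.1 1 0) * nE X Y (-(g.1 1 0)⁻¹) * X (g.1 1 1 / g.1 1 0)

omit R in
/-- Upper unitriangular matrices. -/
def uu (t : F) : Matrix.SpecialLinearGroup (Fin 2) F := ⟨!![1, t; 0, 1], by simp [Matrix.det_fin_two]⟩

omit R in
/-- Monomial matrices. -/
def ww (t : F) (ht : t ≠ 0) : Matrix.SpecialLinearGroup (Fin 2) F :=
  ⟨!![0, t; -t⁻¹, 0], by simp [Matrix.det_fin_two, ht]⟩

omit R in
theorem coe_uu (t : F) : (uu t : Matrix (Fin 2) (Fin 2) F) = !![1, t; 0, 1] := rfl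

omit R in
theorem coe_ww (t : F) (ht : t ≠ 0) : (ww t ht : Matrix (Fin 2) (Fin 2) F) = !![0, t; -t⁻¹, 0] := rfl

theorem toG_uu (t : F) (g : Matrix.SpecialLinearGroup (Fin 2) F) : toG X Y (uu t * g) = X t * toG X Y g := by
  have hdet := g.2
  rw [Matrix.det_fin_two] at hdet
  have e00 : (uu t * g).1 0 0 = g.1 0 0 + t * g.1 1 0 := by
    simp [coe_uu, Matrix.SpecialLinearGroup.coe_mul, Matrix.mul_apply, Fin.sum_univ_two]
  have e01 : (uu t * g).1 0 1 = g.1 0 1 + t * g.1 1 1 := by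
    simp [coe_uu, Matrix.SpecialLinearGroup.coe_mul, Matrix.mul_apply, Fin.sum_univ_two]
  have e10 : (uu t * g).1 1 0 = g.1 1 0 := by
    simp [coe_uu, Matrix.SpecialLinearGroup.coe_mul, Matrix.mul_apply, Fin.sum_univ_two]
  have e11 : (uu t * g).1 1 1 = g.1 1 1 := by
    simp [coe_uu, Matrix.SpecialLinearGroup.coe_mul, Matrix.mul_apply, Fin.sum_univ_two]
  rw [toG, toG, e00, e01, e10, e11]
  by_cases hc : g.1 1 0 = 0
  · rw [hc, mul_zero, sub_zero] at hdet
    rw [if_pos hc, if_pos hc, hc, mul_zero, add_zero, ← mul_assoc, R.xadd]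
    congr 2
    linear_combination t * hdet
  · rw [if_neg hc, if_neg hc, ← mul_assoc, ← mul_assoc, R.xadd]
    congr 3
    field_simp
    ring

open Classical in
theorem toG_ww {t : F} (ht : t ≠ 0) (g : Matrix.SpecialLinearGroup (Fin 2) F) :
    toG X Y (ww t ht * g) = nE X Y t * toG X Y g := by
  have hdet := g.2
  rw [Matrix.det_fin_two] at hdet
  have e00 : (ww t ht * g).1 0 0 = t * g.1 1 0 := by
    simp [coe_ww, Matrix.SpecialLinearGroup.coe_mul, Matrix.mul_apply, Fin.sum_univ_two]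
  have e01 : (ww t ht * g).1 0 1 = t * g.1 1 1 := by
    simp [coe_ww, Matrix.SpecialLinearGroup.coe_mul, Matrix.mul_apply, Fin.sum_univ_two]
  have e10 : (ww t ht * g).1 1 0 = -t⁻¹ * g.1 0 0 := by
    simp [coe_ww, Matrix.SpecialLinearGroup.coe_mul, Matrix.mul_apply, Fin.sum_univ_two]
  have e11 : (ww t ht * g).1 1 1 = -t⁻¹ * g.1 0 1 := by
    simp [coe_ww, Matrix.SpecialLinearGroup.coe_mul, Matrix.mul_apply, Fin.sum_univ_two]
  set a := g.1 0 0
  set b := g.1 0 1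
  set c := g.1 1 0
  set d := g.1 1 1
  rw [toG, toG, e00, e01, e10, e11]
  change _ = nE X Y t * if c = 0 then X (a * b) * hE X Y a else X (a / c) * nE X Y (-c⁻¹) * X (d / c)
  by_cases hc : c = 0
  · rw [hc, mul_zero, sub_zero] at hdet
    have ha : a ≠ 0 := left_ne_zero_of_mul_eq_one hdet
    rw [if_pos hc, if_neg (mul_ne_zero (neg_ne_zero.mpr (inv_ne_zero ht)) ha), hc, mul_zero, zero_div, R.x0, one_mul]
    have e1 : X (a * b) * hE X Y a = hE X Y a * X (b / a) := by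
      rw [mul_inv_eq_iff_eq_mul.mp (R.hx a ha (b / a))]
      congr 2
      field_simp
    have e2 : nE X Y t * hE X Y a = nE X Y (t / a) := by
      have h := mul_inv_eq_iff_eq_mul.mp (R.nh ha)
      rw [R.n_eq t, mul_assoc, h, ← mul_assoc, R.hmul _ _ ht (inv_ne_zero ha), ← div_eq_mul_inv,
        ← R.n_eq]
    rw [e1, ← mul_assoc, e2]
    congr 2 <;> field_simp
  · rw [if_neg hc]
    by_cases ha : a = 0
    · rw [ha, zero_div, R.x0, one_mul, if_pos (mul_zero _), R.n_eq t, R.n_eq (-c⁻¹)]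
      have hc' : (-c⁻¹) ≠ 0 := neg_ne_zero.mpr (inv_ne_zero hc)
      have h : nE X Y 1 * (hE X Y (-c⁻¹) * nE X Y 1) = hE X Y c := by
        rw [← mul_assoc, mul_inv_eq_iff_eq_mul.mp (R.nh hc'), mul_assoc, R.nn,
          R.hmul _ _ (inv_ne_zero hc') (neg_ne_zero.mpr one_ne_zero)]
        congr 1
        field_simp
      rw [mul_assoc (hE X Y t), ← mul_assoc (nE X Y 1), ← mul_assoc (hE X Y t), ← mul_assoc (hE X Y t),
        mul_assoc (hE X Y t), h, R.hmul _ _ ht hc, mul_inv_eq_iff_eq_mul.mp (R.hx _ (mul_ne_zero ht hc) (d / c))]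
      congr 2
      field_simp
    · rw [if_neg (mul_ne_zero (neg_ne_zero.mpr (inv_ne_zero ht)) ha)]
      set s := a / c with hs
      have hs0 : s ≠ 0 := div_ne_zero ha hc
      have hq : (-c⁻¹) ≠ 0 := neg_ne_zero.mpr (inv_ne_zero hc)
      have e1 : nE X Y 1 * X s = X (-s⁻¹) * nE X Y s⁻¹ * X (-s⁻¹) * nE X Y 1 := by
        rw [mul_inv_eq_iff_eq_mul.mp (R.nx s)]
        congr 1
        rw [show nE X Y s⁻¹ = X s⁻¹ * Y (-(s⁻¹)⁻¹) * X s⁻¹ from rfl, inv_inv, ← mul_assoc, ← mul_assoc, R.xadd, neg_add_cancel, R.x0, one_mul, mul_assoc,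
          R.xadd, add_neg_cancel, R.x0, mul_one]
      have e2 : nE X Y 1 * nE X Y (-c⁻¹) = hE X Y c := by
        rw [R.n_eq (-c⁻¹), ← mul_assoc, mul_inv_eq_iff_eq_mul.mp (R.nh hq), mul_assoc, R.nn,
          R.hmul _ _ (inv_ne_zero hq) (neg_ne_zero.mpr one_ne_zero)]
        congr 1
        field_simp
      have e3 : X (-s⁻¹) * hE X Y c = hE X Y c * X (-(s⁻¹ * c⁻¹ ^ 2)) := by
        rw [mul_inv_eq_iff_eq_mul.mp (R.hx c hc _)]
        congr 2
        field_simp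
      have e4 : hE X Y t * nE X Y s⁻¹ * hE X Y c = nE X Y (t / a) := by
        rw [R.n_eq s⁻¹, ← mul_assoc, R.hmul _ _ ht (inv_ne_zero hs0), mul_assoc,
          mul_inv_eq_iff_eq_mul.mp (R.nh hc), ← mul_assoc,
          R.hmul _ _ (mul_ne_zero ht (inv_ne_zero hs0)) (inv_ne_zero hc), R.n_eq (t / a)]
        congr 2
        rw [hs]
        field_simp
      have e5 : hE X Y t * X (-s⁻¹) = X (-(t ^ 2 * s⁻¹)) * hE X Y t := by
        rw [mul_inv_eq_iff_eq_mul.mp (R.hx t ht (-s⁻¹)), mul_neg]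
      have key : nE X Y t * (X s * nE X Y (-c⁻¹) * X (d / c)) =
          X (-(t ^ 2 * s⁻¹)) * nE X Y (t / a) * X (-(s⁻¹ * c⁻¹ ^ 2) + d / c) := by
        calc nE X Y t * (X s * nE X Y (-c⁻¹) * X (d / c))
            = hE X Y t * (nE X Y 1 * X s) * nE X Y (-c⁻¹) * X (d / c) := by
              rw [R.n_eq t]; simp only [mul_assoc]
          _ = hE X Y t * X (-s⁻¹) * nE X Y s⁻¹ * X (-s⁻¹) * (nE X Y 1 * nE X Y (-c⁻¹)) * X (d / c) := by
              rw [e1]; simp only [mul_assoc]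
          _ = X (-(t ^ 2 * s⁻¹)) * hE X Y t * nE X Y s⁻¹ * (X (-s⁻¹) * hE X Y c) * X (d / c) := by
              rw [e2, e5]; simp only [mul_assoc]
          _ = X (-(t ^ 2 * s⁻¹)) * (hE X Y t * nE X Y s⁻¹ * hE X Y c) * (X (-(s⁻¹ * c⁻¹ ^ 2)) * X (d / c)) := by
              rw [e3]; simp only [mul_assoc]
          _ = _ := by rw [e4, R.xadd]
      rw [key, hs]
      congr 1
      · congr 1
        · congr 1; field_simp
        · congr 1; field_simp
      · congr 1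
        field_simp
        linear_combination -hdet

theorem toG_one : toG X Y (1 : Matrix.SpecialLinearGroup (Fin 2) F) = 1 := by
  simp [toG, R.x0, R.h1]

theorem toG_mul (g g' : Matrix.SpecialLinearGroup (Fin 2) F) : toG X Y (g * g') = toG X Y g * toG X Y g' := by
  let S : Submonoid (Matrix.SpecialLinearGroup (Fin 2) F) :=
    { carrier := {g | ∀ g', toG X Y (g * g') = toG X Y g * toG X Y g'}
      one_mem' := fun g' => by rw [one_mul, R.toG_one, one_mul]
      mul_mem' := fun {p q} hp hq g' => by rw [mul_assoc, hp, hq, hp, mul_assoc] }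
  have hu : ∀ t, uu t ∈ S := fun t g' => by
    rw [R.toG_uu, ← mul_one (uu t), R.toG_uu, R.toG_one, mul_one]
  have hw : ∀ t (ht : t ≠ 0), ww t ht ∈ S := fun t ht g' => by
    rw [R.toG_ww ht, ← mul_one (ww t ht), R.toG_ww ht, R.toG_one, mul_one]
  suffices h : g ∈ S from h g'
  have hdet := g.2
  rw [Matrix.det_fin_two] at hdet
  by_cases hc : g.1 1 0 = 0
  · rw [hc, mul_zero, sub_zero] at hdet
    have ha : g.1 0 0 ≠ 0 := left_ne_zero_of_mul_eq_one hdet
    have e : g = uu (g.1 0 0 * g.1 0 1) * (ww (g.1 0 0) ha * ww (-1) (neg_ne_zero.mpr one_ne_zero)) := by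
      ext i j
      fin_cases i <;> fin_cases j <;> simp [coe_uu, coe_ww, Matrix.SpecialLinearGroup.coe_mul, Matrix.mul_apply, Fin.sum_univ_two, hc] <;> field_simp <;>
        first
        | linear_combination g.1 0 1 * hdet
        | linear_combination hdet
        | linear_combination (1 - g.1 0 1) * hdet
        | linear_combination (g.1 0 1 - 1) * hdet
        | ring
    rw [e]
    exact mul_mem (hu _) (mul_mem (hw _ _) (hw _ _))
  · have e : g = uu (g.1 0 0 / g.1 1 0) * ww (-(g.1 1 0)⁻¹) (neg_ne_zero.mpr (inv_ne_zero hc)) *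
        uu (g.1 1 1 / g.1 1 0) := by
      ext i j
      fin_cases i <;> fin_cases j <;> simp [coe_uu, coe_ww, Matrix.SpecialLinearGroup.coe_mul, Matrix.mul_apply, Fin.sum_univ_two] <;> field_simp
      linear_combination -hdet
    rw [e]
    exact mul_mem (mul_mem (hu _) (hw _ _)) (hu _)

/-- The homomorphism. -/
theorem exists_hom : ∃ φ : Matrix.SpecialLinearGroup (Fin 2) F →* G,
    φ.range = Subgroup.closure (Set.range X ∪ Set.range Y) ∧
    ∀ (g : Matrix.SpecialLinearGroup (Fin 2) F) (t : F),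
      (g.1 = !![1, t; 0, 1] → φ g = X t) ∧ (g.1 = !![1, 0; t, 1] → φ g = Y t) := by
  let φ : Matrix.SpecialLinearGroup (Fin 2) F →* G :=
    { toFun := toG X Y, map_one' := R.toG_one, map_mul' := R.toG_mul }
  have hval : ∀ (g : Matrix.SpecialLinearGroup (Fin 2) F) (t : F),
      (g.1 = !![1, t; 0, 1] → φ g = X t) ∧ (g.1 = !![1, 0; t, 1] → φ g = Y t) := by
    refine fun g t => ⟨fun e => ?_, fun e => ?_⟩
    · show toG X Y g = _
      simp [toG, e, R.h1]
    · show toG X Y g = _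
      by_cases ht : t = 0
      · subst ht
        simp [toG, e, R.h1, R.x0, R.y0]
      · simp [toG, e, ht, nE]
        rw [← mul_assoc, ← mul_assoc, R.xadd, add_neg_cancel, R.x0, one_mul, mul_assoc, R.xadd, neg_add_cancel,
          R.x0, mul_one]
  refine ⟨φ, le_antisymm ?_ ((Subgroup.closure_le _).mpr ?_), hval⟩
  · rintro _ ⟨g, rfl⟩
    set K := Subgroup.closure (Set.range X ∪ Set.range Y)
    have hx : ∀ t, X t ∈ K := fun t => Subgroup.subset_closure (Or.inl ⟨t, rfl⟩)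
    have hy : ∀ t, Y t ∈ K := fun t => Subgroup.subset_closure (Or.inr ⟨t, rfl⟩)
    have hn : ∀ t, nE X Y t ∈ K := fun t => mul_mem (mul_mem (hx _) (hy _)) (hx _)
    show toG X Y g ∈ K
    unfold toG
    split
    · exact mul_mem (hx _) (mul_mem (hn _) (hn _))
    · exact mul_mem (mul_mem (hx _) (hn _)) (hx _)
  · rintro _ (⟨t, rfl⟩ | ⟨t, rfl⟩)
    · exact ⟨uu t, (hval (uu t) t).1 rfl⟩
    · exact ⟨⟨!![1, 0; t, 1], by simp [Matrix.det_fin_two]⟩, (hval _ t).2 rfl⟩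

end Rel

end RankOne

namespace OK

variable {D : ChevalleyDatum} {T : Tabs} (ok : OK D T)

include ok

theorem rankOne_facts {r : ℕ} (hr : r < D.nroots) :
    (∀ a : F, a ≠ 0 → ∀ u, ok.hG r a * ok.xG r u * (ok.hG r a)⁻¹ = ok.xG r (a ^ 2 * u) ∧
      ok.hG r a * ok.xG (T.neg r) u * (ok.hG r a)⁻¹ = ok.xG (T.neg r) (a⁻¹ ^ 2 * u)) ∧
    ∀ u : F, ok.nG r 1 * ok.xG r u * (ok.nG r 1)⁻¹ = ok.xG (T.neg r) (-u) := by
  let P : ℕ → Prop := fun r => (∀ a : F, a ≠ 0 → ∀ u, ok.hG r a * ok.xG r u * (ok.hG r a)⁻¹ = ok.xG r (a ^ 2 * u) ∧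
      ok.hG r a * ok.xG (T.neg r) u * (ok.hG r a)⁻¹ = ok.xG (T.neg r) (a⁻¹ ^ 2 * u)) ∧
    ∀ u : F, ok.nG r 1 * ok.xG r u * (ok.nG r 1)⁻¹ = ok.xG (T.neg r) (-u)
  suffices h : ∀ (L : List (ℕ × Option (ℕ × ℕ))) (seen : List ℕ), T.chkOrder D L seen = true →
      (∀ e ∈ L, e ∈ T.order) → (∀ a ∈ seen, a < D.nroots ∧ P a) → ∀ a < D.nroots, P a from
    h T.order [] ok.order (fun _ => id) (by simp) r hr
  intro L
  induction L with
  | nil =>
    intro seen h _ hs a ha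
    replace h : allR D.nroots (fun r => anyL (fun s => Nat.beq s r) seen) = true := h
    simp only [allR_iff, anyL_iff, Nat.beq_eq] at h
    obtain ⟨b, hb, rfl⟩ := h a ha
    exact (hs b hb).2
  | cons p L ih =>
    obtain ⟨a, o⟩ := p
    intro seen h hL hs
    replace h : andR (nlt a D.nroots) (andR (@Option.rec (ℕ × ℕ) (fun _ => Bool) true
        (fun q => andR (nlt q.1 D.rank) <| andR (anyL (fun s => Nat.beq s q.2) seen) <|
          Nat.beq (T.refl q.1 q.2) a) o) (T.chkOrder D L (a :: seen))) = true := h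
    simp only [andR_iff, nlt_iff] at h
    refine ih (a :: seen) h.2.2 (fun e he => hL e (List.mem_cons_of_mem _ he)) ?_
    intro b hb
    rcases List.mem_cons.mp hb with rfl | hb
    swap
    · exact hs b hb
    refine ⟨h.1, ?_⟩
    rcases o with _ | ⟨i, c⟩
    · obtain ⟨i, hi, rfl⟩ := ok.rep_simple (r := b) (by
        simp only [Tabs.reps, flatR_eq, List.mem_flatMap]
        exact ⟨_, hL _ List.mem_cons_self, List.mem_singleton.mpr rfl⟩)
      obtain ⟨-, h2, h3, h4, -⟩ := ok.smp_spec hi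
      have hc : ∀ s < D.nroots, ∀ a : F, a ≠ 0 → ∀ u,
          ok.hG (T.smp i) a * ok.xG s u * (ok.hG (T.smp i) a)⁻¹ = ok.xG s (a ^ T.cA i s * u) := by
        intro s hs a ha u
        rw [mul_inv_eq_iff_eq_mul]
        refine Units.ext ?_
        rw [Units.val_mul, Units.val_mul, coe_xG, coe_xG, coe_hG, ← ok.simple_eq hi]
        exact ok.conj_h hi hs ha u
      refine ⟨fun a ha u => ⟨?_, ?_⟩, fun u => ?_⟩
      · rw [hc _ h.1 a ha, h2]; norm_cast
      · rw [hc _ (ok.neg_lt h.1) a ha, ok.cA_neg h.1 hi, h2, zpow_neg, inv_pow]; norm_cast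
      · rw [ok.n_xG hi h.1, h3, h4]; simp
    · have h2 := h.2.1
      simp only [andR_iff, nlt_iff, anyL_iff, Nat.beq_eq] at h2
      obtain ⟨hi, ⟨c', hc, rfl⟩, rfl⟩ := h2
      obtain ⟨hcn, hP1, hP2⟩ := hs _ hc
      set η : F := (T.eta i c' : F) with hη
      have hη2 : η * η = 1 := ok.eta_sq hi hcn
      have hη0 : η ≠ 0 := left_ne_zero_of_mul_eq_one hη2
      have hη' : (T.eta i (T.neg c') : F) = η := by
        have h1 : η * (T.eta i (T.neg c') : F) = 1 := by rw [hη, ← Int.cast_mul, ok.eta_neg hi hcn, Int.cast_one]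
        exact mul_left_cancel₀ hη0 (h1.trans hη2.symm)
      set M := ok.nG (T.smp i) (1 : F)
      have hMn : ∀ t, M * ok.nG c' t * M⁻¹ = ok.nG (T.refl i c') (η * t) := fun t => ok.n_nG hi hcn t
      have hMh : ∀ a : F, a ≠ 0 → M * ok.hG c' a * M⁻¹ = ok.hG (T.refl i c') a := by
        intro a ha
        rw [ok.hG_eq c', ← conj_mul, hMn, hMn, mul_neg, mul_one, ok.nG_mul_nG_neg h.1, ok.hG_inv h.1 hη0,
          ok.hG_mul h.1 (mul_ne_zero hη0 ha) (inv_ne_zero hη0)]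
        congr 1
        field_simp
      have hMx : ∀ t, M * ok.xG c' t * M⁻¹ = ok.xG (T.refl i c') (η * t) := fun t => ok.n_xG hi hcn t
      have hMy : ∀ t, M * ok.xG (T.neg c') t * M⁻¹ = ok.xG (T.neg (T.refl i c')) (η * t) := fun t => by
        rw [ok.n_xG hi (ok.neg_lt hcn), ok.refl_neg hi hcn, hη']
      refine ⟨fun a ha u => ⟨?_, ?_⟩, fun u => ?_⟩
      · have e := hMx (η * u)
        rw [← mul_assoc η η, hη2, one_mul] at e
        rw [← e, ← hMh a ha, conj_inv, conj_mul, conj_mul, (hP1 a ha _).1, hMx]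
        congr 1
        linear_combination (a ^ 2 * u) * hη2
      · have e := hMy (η * u)
        rw [← mul_assoc η η, hη2, one_mul] at e
        rw [← e, ← hMh a ha, conj_inv, conj_mul, conj_mul, (hP1 a ha _).2, hMy]
        congr 1
        linear_combination (a⁻¹ ^ 2 * u) * hη2
      · have hc' : ∀ v, ok.nG c' η * ok.xG c' v * (ok.nG c' η)⁻¹ = ok.xG (T.neg c') (-v) := by
          intro v
          rw [ok.nG_eq_hG_mul hcn η, mul_inv_rev]
          calc _ = ok.hG c' η * (ok.nG c' 1 * ok.xG c' v * (ok.nG c' 1)⁻¹) * (ok.hG c' η)⁻¹ := by simp [mul_assoc]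
            _ = _ := by rw [hP2, (hP1 η hη0 _).2, inv_pow, pow_two, hη2, inv_one, one_mul]
        have e := hMx (η * u)
        rw [← mul_assoc η η, hη2, one_mul] at e
        have e2 := hMn η
        rw [hη2] at e2
        rw [← e, ← e2, conj_inv, conj_mul, conj_mul, hc', hMy, mul_neg, ← mul_assoc, hη2, one_mul]

theorem rankOne {r : ℕ} (hr : r < D.nroots) :
    RankOne.Rel (fun t : F => ok.xG r t) (fun t : F => ok.xG (T.neg r) t) := by
  obtain ⟨h1, h2⟩ := ok.rankOne_facts (F := F) hr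
  have hn : ∀ t : F, RankOne.nE (fun t : F => ok.xG r t) (fun t : F => ok.xG (T.neg r) t) t = ok.nG r t :=
    fun t => (ok.nG_eq hr t).symm
  have hh : ∀ t : F, RankOne.hE (fun t : F => ok.xG r t) (fun t : F => ok.xG (T.neg r) t) t = ok.hG r t :=
    fun t => by rw [RankOne.hE, hn, hn, ok.hG_eq]
  constructor
  · exact fun a b => ok.xG_mul r a b
  · exact fun a b => ok.xG_mul _ a b
  · intro a b ha hb; rw [hh, hh, hh, ok.hG_mul hr ha hb]
  · intro u; rw [hn]; exact h2 u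
  · intro a ha u; rw [hh]; exact (h1 a ha u).1
  · intro a ha u; rw [hh]; exact (h1 a ha u).2

/-- The rank one homomorphism. -/
theorem exists_sl2_hom {r : ℕ} (hr : r < D.nroots) :
    ∃ φ : Matrix.SpecialLinearGroup (Fin 2) F →* GL D.Idx F,
      φ.range = D.rootSubgroup F r ⊔ D.rootSubgroup F (D.neg r) ∧
      ∀ (g : Matrix.SpecialLinearGroup (Fin 2) F) (t : F),
        ((g : Matrix (Fin 2) (Fin 2) F) = !![1, t; 0, 1] → (φ g : Matrix D.Idx D.Idx F) = D.x F r t) ∧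
        ((g : Matrix (Fin 2) (Fin 2) F) = !![1, 0; t, 1] → (φ g : Matrix D.Idx D.Idx F) = D.x F (D.neg r) t) := by
  obtain ⟨φ, h1, h2⟩ := (ok.rankOne (F := F) hr).exists_hom
  rw [ok.neg_eq hr]
  refine ⟨φ, ?_, fun g t => ⟨fun e => by rw [(h2 g t).1 e]; rfl, fun e => by rw [(h2 g t).2 e]; rfl⟩⟩
  rw [h1, Subgroup.closure_union]
  have : ∀ s, Subgroup.closure (Set.range fun t : F => ok.xG s t) = D.rootSubgroup F s := fun s =>
    le_antisymm ((Subgroup.closure_le _).mpr fun _ ⟨t, e⟩ => e ▸ ok.xG_mem_root s t)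
      fun g hg => by obtain ⟨t, rfl⟩ := ok.mem_root.mp hg; exact Subgroup.subset_closure ⟨t, rfl⟩
  rw [this, this]

end OK

end Cfsg.Agent.Chev
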