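import Cfsg.Agent.Lib.Chev.AllX
import Cfsg.Agent.Lib.Chev.FieldAut

/-!
Kernels of the torus maps: trivial without torsion, and in characteristic two.
-/

set_option autoImplicit false
set_option maxRecDepth 20000

namespace Cfsg.Agent.Chev

open Cfsg.Lie

noncomputable def G2.torAM : Matrix (Fin 2) (Fin 2) ℤ := fun k i => G2.T.cA i.val (G2.T.smp k.val)

theorem G2.torus_ker (F : Type*) [Field F] [Finite F] :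
    (monoMap (G := Fˣ) (OK.torMat chevG2 G2.T)).ker = ⊥ := by
  refine ker_tor_bot (D := chevG2) (T := G2.T) (P := (!![(-1), 0; 2, 1] : Matrix (Fin 2) (Fin 2) ℤ)) (P' := (!![(-1), 0; 2, 1] : Matrix (Fin 2) (Fin 2) ℤ))
    (Q := (!![0, 1; 1, 2] : Matrix (Fin 2) (Fin 2) ℤ)) (Q' := (!![(-2), 1; 1, 0] : Matrix (Fin 2) (Fin 2) ℤ)) (e := (![1, 1] : Fin 2 → ℕ))
    (show (!![(-1), 0; 2, 1] : Matrix (Fin 2) (Fin 2) ℤ) * !![(-1), 0; 2, 1] = 1 by decide +kernel)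
    (show (!![0, 1; 1, 2] : Matrix (Fin 2) (Fin 2) ℤ) * !![(-2), 1; 1, 0] = 1 by decide +kernel)
    (show (!![(-1), 0; 2, 1] : Matrix (Fin 2) (Fin 2) ℤ) * G2.torAM * (!![0, 1; 1, 2] : Matrix (Fin 2) (Fin 2) ℤ) =
      Matrix.diagonal fun i => ((![1, 1] : Fin 2 → ℕ) i : ℤ) by decide +kernel) fun i x hx => ?_
  fin_cases i <;> exact (pow_one x).symm.trans hx

noncomputable def B2.torAM : Matrix (Fin 2) (Fin 2) ℤ := fun k i => B2.T.cA i.val (B2.T.smp k.val)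

theorem B2.torus_ker_two (F : Type*) [Field F] [Finite F] [CharP F 2] :
    (monoMap (G := Fˣ) (OK.torMat chevB2 B2.T)).ker = ⊥ := by
  refine ker_tor_bot (D := chevB2) (T := B2.T) (P := (!![(-1), 0; 2, 1] : Matrix (Fin 2) (Fin 2) ℤ)) (P' := (!![(-1), 0; 2, 1] : Matrix (Fin 2) (Fin 2) ℤ))
    (Q := (!![0, 1; 1, 2] : Matrix (Fin 2) (Fin 2) ℤ)) (Q' := (!![(-2), 1; 1, 0] : Matrix (Fin 2) (Fin 2) ℤ)) (e := (![1, 2] : Fin 2 → ℕ))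
    (show (!![(-1), 0; 2, 1] : Matrix (Fin 2) (Fin 2) ℤ) * !![(-1), 0; 2, 1] = 1 by decide +kernel)
    (show (!![0, 1; 1, 2] : Matrix (Fin 2) (Fin 2) ℤ) * !![(-2), 1; 1, 0] = 1 by decide +kernel)
    (show (!![(-1), 0; 2, 1] : Matrix (Fin 2) (Fin 2) ℤ) * B2.torAM * (!![0, 1; 1, 2] : Matrix (Fin 2) (Fin 2) ℤ) =
      Matrix.diagonal fun i => ((![1, 2] : Fin 2 → ℕ) i : ℤ) by decide +kernel) fun i x hx => ?_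
  fin_cases i <;> first
    | exact (pow_one x).symm.trans hx
    | exact units_sq_eq_one x hx

noncomputable def D4.torAM : Matrix (Fin 4) (Fin 4) ℤ := fun k i => D4.T.cA i.val (D4.T.smp k.val)

theorem D4.torus_ker_two (F : Type*) [Field F] [Finite F] [CharP F 2] :
    (monoMap (G := Fˣ) (OK.torMat chevD4 D4.T)).ker = ⊥ := by
  refine ker_tor_bot (D := chevD4) (T := D4.T) (P := (!![(-1), 0, 0, 0; (-2), (-1), 0, 0; (-3), (-2), (-1), 0; 2, 2, 1, 1] : Matrix (Fin 4) (Fin 4) ℤ)) (P' := (!![(-1), 0, 0, 0; 2, (-1), 0, 0; (-1), 2, (-1), 0; (-1), 0, 1, 1] : Matrix (Fin 4) (Fin 4) ℤ))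
    (Q := (!![0, 0, 0, 1; 1, 0, 0, 2; 0, 1, (-1), 1; 0, 0, 1, 2] : Matrix (Fin 4) (Fin 4) ℤ)) (Q' := (!![(-2), 1, 0, 0; (-3), 0, 1, 1; (-2), 0, 0, 1; 1, 0, 0, 0] : Matrix (Fin 4) (Fin 4) ℤ)) (e := (![1, 1, 2, 2] : Fin 4 → ℕ))
    (show (!![(-1), 0, 0, 0; (-2), (-1), 0, 0; (-3), (-2), (-1), 0; 2, 2, 1, 1] : Matrix (Fin 4) (Fin 4) ℤ) * !![(-1), 0, 0, 0; 2, (-1), 0, 0; (-1), 2, (-1), 0; (-1), 0, 1, 1] = 1 by decide +kernel)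
    (show (!![0, 0, 0, 1; 1, 0, 0, 2; 0, 1, (-1), 1; 0, 0, 1, 2] : Matrix (Fin 4) (Fin 4) ℤ) * !![(-2), 1, 0, 0; (-3), 0, 1, 1; (-2), 0, 0, 1; 1, 0, 0, 0] = 1 by decide +kernel)
    (show (!![(-1), 0, 0, 0; (-2), (-1), 0, 0; (-3), (-2), (-1), 0; 2, 2, 1, 1] : Matrix (Fin 4) (Fin 4) ℤ) * D4.torAM * (!![0, 0, 0, 1; 1, 0, 0, 2; 0, 1, (-1), 1; 0, 0, 1, 2] : Matrix (Fin 4) (Fin 4) ℤ) =
      Matrix.diagonal fun i => ((![1, 1, 2, 2] : Fin 4 → ℕ) i : ℤ) by decide +kernel) fun i x hx => ?_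
  fin_cases i <;> first
    | exact (pow_one x).symm.trans hx
    | exact units_sq_eq_one x hx

noncomputable def F4.torAM : Matrix (Fin 4) (Fin 4) ℤ := fun k i => F4.T.cA i.val (F4.T.smp k.val)

theorem F4.torus_ker (F : Type*) [Field F] [Finite F] :
    (monoMap (G := Fˣ) (OK.torMat chevF4 F4.T)).ker = ⊥ := by
  refine ker_tor_bot (D := chevF4) (T := F4.T) (P := (!![(-1), 0, 0, 0; (-2), (-1), 0, 0; (-2), (-2), (-1), 0; 2, 3, 2, 1] : Matrix (Fin 4) (Fin 4) ℤ)) (P' := (!![(-1), 0, 0, 0; 2, (-1), 0, 0; (-2), 2, (-1), 0; 0, (-1), 2, 1] : Matrix (Fin 4) (Fin 4) ℤ))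
    (Q := (!![0, 0, 0, 1; 1, 0, 0, 2; 0, 1, 0, 3; 0, 0, 1, 2] : Matrix (Fin 4) (Fin 4) ℤ)) (Q' := (!![(-2), 1, 0, 0; (-3), 0, 1, 0; (-2), 0, 0, 1; 1, 0, 0, 0] : Matrix (Fin 4) (Fin 4) ℤ)) (e := (![1, 1, 1, 1] : Fin 4 → ℕ))
    (show (!![(-1), 0, 0, 0; (-2), (-1), 0, 0; (-2), (-2), (-1), 0; 2, 3, 2, 1] : Matrix (Fin 4) (Fin 4) ℤ) * !![(-1), 0, 0, 0; 2, (-1), 0, 0; (-2), 2, (-1), 0; 0, (-1), 2, 1] = 1 by decide +kernel)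
    (show (!![0, 0, 0, 1; 1, 0, 0, 2; 0, 1, 0, 3; 0, 0, 1, 2] : Matrix (Fin 4) (Fin 4) ℤ) * !![(-2), 1, 0, 0; (-3), 0, 1, 0; (-2), 0, 0, 1; 1, 0, 0, 0] = 1 by decide +kernel)
    (show (!![(-1), 0, 0, 0; (-2), (-1), 0, 0; (-2), (-2), (-1), 0; 2, 3, 2, 1] : Matrix (Fin 4) (Fin 4) ℤ) * F4.torAM * (!![0, 0, 0, 1; 1, 0, 0, 2; 0, 1, 0, 3; 0, 0, 1, 2] : Matrix (Fin 4) (Fin 4) ℤ) =
      Matrix.diagonal fun i => ((![1, 1, 1, 1] : Fin 4 → ℕ) i : ℤ) by decide +kernel) fun i x hx => ?_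
  fin_cases i <;> exact (pow_one x).symm.trans hx

noncomputable def E7.torAM : Matrix (Fin 7) (Fin 7) ℤ := fun k i => E7.T.cA i.val (E7.T.smp k.val)

theorem E7.torus_ker_two (F : Type*) [Field F] [Finite F] [CharP F 2] :
    (monoMap (G := Fˣ) (OK.torMat chevE7 E7.T)).ker = ⊥ := by
  refine ker_tor_bot (D := chevE7) (T := E7.T) (P := (!![(-1), 0, 0, 0, 0, 0, 0; 0, (-1), 0, 0, 0, 0, 0; 1, (-2), 0, (-1), 0, 0, 0; 2, (-3), 0, (-2), (-1), 0, 0; 3, (-4), 0, (-3), (-2), (-1), 0; (-2), 1, (-1), 0, 0, 0, 0; (-4), (-1), (-4), (-4), (-3), (-2), (-1)] : Matrix (Fin 7) (Fin 7) ℤ)) (P' := (!![(-1), 0, 0, 0, 0, 0, 0; 0, (-1), 0, 0, 0, 0, 0; 2, (-1), 0, 0, 0, (-1), 0; (-1), 2, (-1), 0, 0, 0, 0; 0, (-1), 2, (-1), 0, 0, 0; 0, 0, (-1), 2, (-1), 0, 0; 0, 0, 0, (-1), 2, 4, (-1)] : Matrix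 (Fin 7) (Fin 7) ℤ))
    (Q := (!![0, 0, 0, 0, 0, 1, (-2); 0, 0, 0, 0, 0, 2, (-3); 1, 0, 0, 0, 0, 2, (-4); 0, 1, 0, 0, 0, 4, (-6); 0, 0, 1, 0, 0, 4, (-5); 0, 0, 0, 1, 0, 4, (-4); 0, 0, 0, 0, 1, 4, (-3)] : Matrix (Fin 7) (Fin 7) ℤ)) (Q' := (!![(-2), 0, 1, 0, 0, 0, 0; 0, (-2), 0, 1, 0, 0, 0; 2, (-3), 0, 0, 1, 0, 0; 4, (-4), 0, 0, 0, 1, 0; 6, (-5), 0, 0, 0, 0, 1; (-3), 2, 0, 0, 0, 0, 0; (-2), 1, 0, 0, 0, 0, 0] : Matrix (Fin 7) (Fin 7) ℤ)) (e := (![1, 1, 1, 1, 1, 1, 2] : Fin 7 → ℕ))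
    (show (!![(-1), 0, 0, 0, 0, 0, 0; 0, (-1), 0, 0, 0, 0, 0; 1, (-2), 0, (-1), 0, 0, 0; 2, (-3), 0, (-2), (-1), 0, 0; 3, (-4), 0, (-3), (-2), (-1), 0; (-2), 1, (-1), 0, 0, 0, 0; (-4), (-1), (-4), (-4), (-3), (-2), (-1)] : Matrix (Fin 7) (Fin 7) ℤ) * !![(-1), 0, 0, 0, 0, 0, 0; 0, (-1), 0, 0, 0, 0, 0; 2, (-1), 0, 0, 0, (-1), 0; (-1), 2, (-1), 0, 0, 0, 0; 0, (-1), 2, (-1), 0, 0, 0; 0, 0, (-1), 2, (-1), 0, 0; 0, 0, 0, (-1), 2, 4, (-1)] = 1 by decide +kernel)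
    (show (!![0, 0, 0, 0, 0, 1, (-2); 0, 0, 0, 0, 0, 2, (-3); 1, 0, 0, 0, 0, 2, (-4); 0, 1, 0, 0, 0, 4, (-6); 0, 0, 1, 0, 0, 4, (-5); 0, 0, 0, 1, 0, 4, (-4); 0, 0, 0, 0, 1, 4, (-3)] : Matrix (Fin 7) (Fin 7) ℤ) * !![(-2), 0, 1, 0, 0, 0, 0; 0, (-2), 0, 1, 0, 0, 0; 2, (-3), 0, 0, 1, 0, 0; 4, (-4), 0, 0, 0, 1, 0; 6, (-5), 0, 0, 0, 0, 1; (-3), 2, 0, 0, 0, 0, 0; (-2), 1, 0, 0, 0, 0, 0] = 1 by decide +kernel)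
    (show (!![(-1), 0, 0, 0, 0, 0, 0; 0, (-1), 0, 0, 0, 0, 0; 1, (-2), 0, (-1), 0, 0, 0; 2, (-3), 0, (-2), (-1), 0, 0; 3, (-4), 0, (-3), (-2), (-1), 0; (-2), 1, (-1), 0, 0, 0, 0; (-4), (-1), (-4), (-4), (-3), (-2), (-1)] : Matrix (Fin 7) (Fin 7) ℤ) * E7.torAM * (!![0, 0, 0, 0, 0, 1, (-2); 0, 0, 0, 0, 0, 2, (-3); 1, 0, 0, 0, 0, 2, (-4); 0, 1, 0, 0, 0, 4, (-6); 0, 0, 1, 0, 0, 4, (-5); 0, 0, 0, 1, 0, 4, (-4); 0, 0, 0, 0, 1, 4, (-3)] : Matrix (Fin 7) (Fin 7) ℤ) =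
      Matrix.diagonal fun i => ((![1, 1, 1, 1, 1, 1, 2] : Fin 7 → ℕ) i : ℤ) by decide +kernel) fun i x hx => ?_
  fin_cases i <;> first
    | exact (pow_one x).symm.trans hx
    | exact units_sq_eq_one x hx

noncomputable def E8.torAM : Matrix (Fin 8) (Fin 8) ℤ := fun k i => E8.T.cA i.val (E8.T.smp k.val)

theorem E8.torus_ker (F : Type*) [Field F] [Finite F] :
    (monoMap (G := Fˣ) (OK.torMat chevE8 E8.T)).ker = ⊥ := by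
  refine ker_tor_bot (D := chevE8) (T := E8.T) (P := (!![(-1), 0, 0, 0, 0, 0, 0, 0; 0, (-1), 0, 0, 0, 0, 0, 0; 1, (-2), 0, (-1), 0, 0, 0, 0; 2, (-3), 0, (-2), (-1), 0, 0, 0; 3, (-4), 0, (-3), (-2), (-1), 0, 0; 4, (-5), 0, (-4), (-3), (-2), (-1), 0; (-2), 1, (-1), 0, 0, 0, 0, 0; (-3), (-2), (-4), (-5), (-4), (-3), (-2), (-1)] : Matrix (Fin 8) (Fin 8) ℤ)) (P' := (!![(-1), 0, 0, 0, 0, 0, 0, 0; 0, (-1), 0, 0, 0, 0, 0, 0; 2, (-1), 0, 0, 0, 0, (-1), 0; (-1), 2, (-1), 0, 0, 0, 0, 0; 0, (-1), 2, (-1), 0, 0, 0, 0; 0, 0, (-1), 2, (-1), 0, 0, 0; 0, 0, 0, (-1), 2, (-1), 0, 0; 0, 0, 0, 0, (-1), 2, 4, (-1)] : Matrix (Fin 8) (Fin 8) ℤ))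
    (Q := (!![0, 0, 0, 0, 0, 0, 1, (-2); 0, 0, 0, 0, 0, 0, 2, (-3); 1, 0, 0, 0, 0, 0, 2, (-4); 0, 1, 0, 0, 0, 0, 4, (-6); 0, 0, 1, 0, 0, 0, 4, (-5); 0, 0, 0, 1, 0, 0, 4, (-4); 0, 0, 0, 0, 1, 0, 4, (-3); 0, 0, 0, 0, 0, 1, 4, (-2)] : Matrix (Fin 8) (Fin 8) ℤ)) (Q' := (!![(-2), 0, 1, 0, 0, 0, 0, 0; 0, (-2), 0, 1, 0, 0, 0, 0; 2, (-3), 0, 0, 1, 0, 0, 0; 4, (-4), 0, 0, 0, 1, 0, 0; 6, (-5), 0, 0, 0, 0, 1, 0; 8, (-6), 0, 0, 0, 0, 0, 1; (-3), 2, 0, 0, 0, 0, 0, 0; (-2), 1, 0, 0, 0, 0, 0, 0] : Matrix (Fin 8) (Fin 8) ℤ)) (e := (![1, 1, 1, 1, 1, 1, 1, 1] : Fin 8 → ℕ))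
    (show (!![(-1), 0, 0, 0, 0, 0, 0, 0; 0, (-1), 0, 0, 0, 0, 0, 0; 1, (-2), 0, (-1), 0, 0, 0, 0; 2, (-3), 0, (-2), (-1), 0, 0, 0; 3, (-4), 0, (-3), (-2), (-1), 0, 0; 4, (-5), 0, (-4), (-3), (-2), (-1), 0; (-2), 1, (-1), 0, 0, 0, 0, 0; (-3), (-2), (-4), (-5), (-4), (-3), (-2), (-1)] : Matrix (Fin 8) (Fin 8) ℤ) * !![(-1), 0, 0, 0, 0, 0, 0, 0; 0, (-1), 0, 0, 0, 0, 0, 0; 2, (-1), 0, 0, 0, 0, (-1), 0; (-1), 2, (-1), 0, 0, 0, 0, 0; 0, (-1), 2, (-1), 0, 0, 0, 0; 0, 0, (-1), 2, (-1), 0, 0, 0; 0, 0, 0, (-1), 2, (-1), 0, 0; 0, 0, 0, 0, (-1), 2, 4, (-1)] = 1 by decide +kernel)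
    (show (!![0, 0, 0, 0, 0, 0, 1, (-2); 0, 0, 0, 0, 0, 0, 2, (-3); 1, 0, 0, 0, 0, 0, 2, (-4); 0, 1, 0, 0, 0, 0, 4, (-6); 0, 0, 1, 0, 0, 0, 4, (-5); 0, 0, 0, 1, 0, 0, 4, (-4); 0, 0, 0, 0, 1, 0, 4, (-3); 0, 0, 0, 0, 0, 1, 4, (-2)] : Matrix (Fin 8) (Fin 8) ℤ) * !![(-2), 0, 1, 0, 0, 0, 0, 0; 0, (-2), 0, 1, 0, 0, 0, 0; 2, (-3), 0, 0, 1, 0, 0, 0; 4, (-4), 0, 0, 0, 1, 0, 0; 6, (-5), 0, 0, 0, 0, 1, 0; 8, (-6), 0, 0, 0, 0, 0, 1; (-3), 2, 0, 0, 0, 0, 0, 0; (-2), 1, 0, 0, 0, 0, 0, 0] = 1 by decide +kernel)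
    (show (!![(-1), 0, 0, 0, 0, 0, 0, 0; 0, (-1), 0, 0, 0, 0, 0, 0; 1, (-2), 0, (-1), 0, 0, 0, 0; 2, (-3), 0, (-2), (-1), 0, 0, 0; 3, (-4), 0, (-3), (-2), (-1), 0, 0; 4, (-5), 0, (-4), (-3), (-2), (-1), 0; (-2), 1, (-1), 0, 0, 0, 0, 0; (-3), (-2), (-4), (-5), (-4), (-3), (-2), (-1)] : Matrix (Fin 8) (Fin 8) ℤ) * E8.torAM * (!![0, 0, 0, 0, 0, 0, 1, (-2); 0, 0, 0, 0, 0, 0, 2, (-3); 1, 0, 0, 0, 0, 0, 2, (-4); 0, 1, 0, 0, 0, 0, 4, (-6); 0, 0, 1, 0, 0, 0, 4, (-5); 0, 0, 0, 1, 0, 0, 4, (-4); 0, 0, 0, 0, 1, 0, 4, (-3); 0, 0, 0, 0, 0, 1, 4, (-2)] : Matrix (Fin 8) (Fin 8) ℤ) =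
      Matrix.diagonal fun i => ((![1, 1, 1, 1, 1, 1, 1, 1] : Fin 8 → ℕ) i : ℤ) by decide +kernel) fun i x hx => ?_
  fin_cases i <;> exact (pow_one x).symm.trans hx

end Cfsg.Agent.Chev
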