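import Cfsg.Agent.Lib.Chev.TwistU

/-!
The diagonal and monomial subgroups of a twisted group.
-/

set_option autoImplicit false

namespace Cfsg.Agent.Chev

open Cfsg.Lie

variable {F : Type*} [Field F] {D : ChevalleyDatum} {T : Tabs}

namespace OK

variable (ok : OK D T)

include ok

theorem torG_congr {c d : ℕ → F} (hc : ∀ i < D.rank, c i ≠ 0) (h : ∀ i < D.rank, c i = d i) :
    ok.torG c = ok.torG d := by
  refine Units.ext ?_
  rw [ok.coe_torG hc, ok.coe_torG (fun i hi => h i hi ▸ hc i hi)]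
  congr 1; funext a
  rcases a with a | s
  · rfl
  · simp only [Sum.elim_inr]
    exact Finset.prod_congr rfl fun i hi => by rw [h i (Finset.mem_range.mp hi)]

theorem torG_list {ι : Type*} (f : ι → ℕ → F) : ∀ L : List ι, (∀ a ∈ L, ∀ i < D.rank, f a i ≠ 0) →
    (L.map fun a => ok.torG (f a)).prod = ok.torG (fun i => (L.map fun a => f a i).prod)
  | [], _ => by simp [ok.torG_one]
  | a :: L, h => by
    rw [List.map_cons, List.prod_cons, torG_list f L fun b hb => h b (List.mem_cons_of_mem _ hb),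
      ok.torG_mul (h a List.mem_cons_self)]
    · simp
    · intro i hi
      refine List.prod_ne_zero ?_
      intro h0
      obtain ⟨b, hb, e⟩ := List.mem_map.mp h0
      exact h b (List.mem_cons_of_mem _ hb) i hi e

theorem gW_conj_hG : ∀ (w : List ℕ), (∀ i ∈ w, i < D.rank) → ∀ {r : ℕ}, r < D.nroots → ∀ {t : F}, t ≠ 0 →
    ok.gW F w * ok.hG r t * (ok.gW F w)⁻¹ = ok.hG (piW T w r) t
  | [], _, r, _, t, _ => by simp [gW, piW]
  | i :: w, hw, r, hr, t, ht => by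
    have hi := hw i List.mem_cons_self
    have hw' : ∀ j ∈ w, j < D.rank := fun j hj => hw j (List.mem_cons_of_mem _ hj)
    have hlt := ((ok.act_gW (F := F) w hw').1 r hr).1
    rw [gW_cons, mul_inv_rev]
    calc ok.nG (T.smp i) 1 * ok.gW F w * ok.hG r t * ((ok.gW F w)⁻¹ * (ok.nG (T.smp i) 1)⁻¹)
        = ok.nG (T.smp i) 1 * (ok.gW F w * ok.hG r t * (ok.gW F w)⁻¹) * (ok.nG (T.smp i) 1)⁻¹ := by
          simp [mul_assoc]
      _ = ok.hG (T.refl i (piW T w r)) t := by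
        rw [gW_conj_hG w hw' hr ht, mul_inv_eq_iff_eq_mul]
        refine Units.ext ?_
        rw [Units.val_mul, Units.val_mul, ok.coe_nG_simple hi, ok.coe_hG_diag hlt ht,
          ok.coe_hG_diag (ok.refl_lt hi hlt) ht, ok.n_hDiag hi hlt]
      _ = ok.hG (piW T (i :: w) r) t := rfl

theorem torG_eq_prod (c : ℕ → F) :
    ok.torG c = ((List.range D.rank).map fun i => ok.hG (D.simple i) (c i)).prod := by
  rw [torG, wordG, List.map_flatMap, List.flatMap_def, List.prod_flatten, List.map_map]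
  rfl

theorem gW_conj_torG {w : List ℕ} (hw : ∀ i ∈ w, i < D.rank) {c : ℕ → F} (hc : ∀ i < D.rank, c i ≠ 0) :
    ok.gW F w * ok.torG c * (ok.gW F w)⁻¹ =
      ok.torG (fun j => ∏ k ∈ Finset.range D.rank, c k ^ T.cC (piW T w (T.smp k)) j) := by
  rw [ok.torG_eq_prod c, ← MulAut.conj_apply, map_list_prod, List.map_map]
  have e : ∀ k ∈ List.range D.rank, ((MulAut.conj (ok.gW F w)) ∘ fun i => ok.hG (D.simple i) (c i)) k =
      ok.torG (fun j => c k ^ T.cC (piW T w (T.smp k)) j) := fun k hk => by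
    have hk := List.mem_range.mp hk
    rw [Function.comp_apply, MulAut.conj_apply, ok.simple_eq hk, ok.gW_conj_hG w hw (ok.smp_lt hk) (hc k hk),
      ok.hG_eq_torG ((ok.act_gW (F := F) w hw).1 _ (ok.smp_lt hk)).1 (hc k hk)]
  rw [List.map_congr_left e, ok.torG_list (fun k j => c k ^ T.cC (piW T w (T.smp k)) j) _
    fun k hk i _ => zpow_ne_zero _ (hc k (List.mem_range.mp hk))]
  refine congrArg ok.torG (funext fun j => ?_)
  rw [← List.prod_toFinset _ List.nodup_range, List.toFinset_range]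

end OK

namespace Tw

variable (S : Tw F D T)

include S

theorem Sol.mul {r : ℕ} {a b : F} (ha : S.Sol r a) (hb : S.Sol r b) : S.Sol r (a * b) := fun e => by
  rw [map_mul, ha e, hb e]

/-- An orbit representative among the fundamental roots. -/
def IsR (i : ℕ) : Prop := i < D.rank ∧ S.g.repS i = true

/-- The word of a list of representatives. -/
noncomputable def wd (v : List ℕ) : List ℕ := v.flatMap S.g.orbJ

theorem wd_cons (i : ℕ) (v : List ℕ) : S.wd (i :: v) = S.g.orbJ i ++ S.wd v := rfl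

theorem wd_append (v v' : List ℕ) : S.wd (v ++ v') = S.wd v ++ S.wd v' := List.flatMap_append

theorem wd_lt {v : List ℕ} (hv : ∀ i ∈ v, S.IsR i) : ∀ j ∈ S.wd v, j < D.rank := by
  intro j hj
  obtain ⟨i, hi, hj⟩ := List.mem_flatMap.mp hj
  exact S.orbJ_lt (hv i hi).1 j hj

theorem wd_per : ∀ {v : List ℕ}, (∀ i ∈ v, S.IsR i) → ∀ r < D.nroots,
    piW T (S.wd v) (S.g.per r) = S.g.per (piW T (S.wd v) r)
  | [], _, _, _ => rfl
  | i :: v, hv, r, hr => by
    have hv' : ∀ j ∈ v, S.IsR j := fun j hj => hv j (List.mem_cons_of_mem _ hj)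
    rw [wd_cons, piW_append, piW_append, wd_per hv' r hr,
      ((S.orbJ_facts (hv i List.mem_cons_self).1).2.2 _ (S.okx.piW_lt (S.wd_lt hv') hr)).1]

theorem orbJ_R {i : ℕ} (hi : S.IsR i) : ∀ j ∈ [i], S.IsR j := fun j hj => by
  rw [List.mem_singleton.mp hj]; exact hi

theorem psi_inj {a b : ℕ} (ha : a < D.rank) (hb : b < D.rank) (h : S.g.psi a = S.g.psi b) : a = b := by
  have h2 := congrArg T.smp h
  rw [← (S.gok.simple_facts ha).2.1, ← (S.gok.simple_facts hb).2.1] at h2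
  have h3 := S.gok.per_inj (S.ok.smp_lt ha) (S.ok.smp_lt hb) h2
  by_contra hne
  have h4 := S.ok.cC_smp ha ha
  rw [h3, S.ok.cC_smp hb ha, if_neg hne, if_pos rfl] at h4
  exact zero_ne_one h4

theorem smp_inj {a b : ℕ} (ha : a < D.rank) (hb : b < D.rank) (h : T.smp a = T.smp b) : a = b := by
  by_contra hne
  have h4 := S.ok.cC_smp ha ha
  rw [h, S.ok.cC_smp hb ha, if_neg hne, if_pos rfl] at h4
  exact zero_ne_one h4

theorem psiI_inj : ∀ (j : ℕ) {a b : ℕ}, a < D.rank → b < D.rank → S.g.psiI j a = S.g.psiI j b → a = b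
  | 0, _, _, _, _, h => h
  | j + 1, _, _, ha, hb, h => psiI_inj j ha hb (S.psi_inj (S.gok.psiI_lt j ha) (S.gok.psiI_lt j hb) h)

omit S in
theorem psiI_add (g : GTab) (j : ℕ) : ∀ (i a : ℕ), g.psiI (i + j) a = g.psiI i (g.psiI j a)
  | 0, a => by rw [Nat.zero_add]; rfl
  | i + 1, a => by
    rw [Nat.add_right_comm]
    show g.psi (g.psiI (i + j) a) = g.psi (g.psiI i (g.psiI j a))
    rw [psiI_add g j i a]

theorem mI_le (i : ℕ) : S.g.mI i ≤ S.g.k := by
  unfold GTab.mI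
  cases Nat.beq (S.g.psi i) i
  · exact le_refl _
  · exact S.gok.k_pos

theorem mI_pos {i : ℕ} (hi : i < D.rank) : 0 < S.g.mI i := by rw [← S.mR_smp hi]; exact S.mR_pos _

theorem psiI_ne {i j : ℕ} (hi : i < D.rank) (hj0 : 0 < j) (hj : j < S.g.mI i) : S.g.psiI j i ≠ i := fun e => by
  have := (S.orbit_facts (S.ok.smp_lt hi) hj0 (by rwa [S.mR_smp hi])).1
  rw [S.gok.perI_smp j hi, e] at this
  exact this rfl

theorem psiI_mI {i : ℕ} (hi : i < D.rank) : S.g.psiI (S.g.mI i) i = i := by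
  unfold GTab.mI
  cases h : Nat.beq (S.g.psi i) i
  · exact (S.gok.simple_facts hi).2.2.2
  · exact (Nat.beq_eq.mp h : S.g.psi i = i)

theorem fr_mI {i : ℕ} (hi : i < D.rank) {t : F} (ht : S.Sol (T.smp i) t) : S.fr^[S.g.mI i] t = t := by
  rw [← S.mR_smp hi]
  rcases S.mR_cases (T.smp i) with h | h <;> rw [h.2]
  · exact ht h.1
  · exact S.frk t

theorem repS_unique {a b j : ℕ} (hb : b < D.rank) (h1 : S.g.repS a = true) (h2 : S.g.repS b = true)
    (hj : j < S.g.k) (e : S.g.psiI j b = a) : b = a := by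
  simp only [GTab.repS, allR_iff, Nat.ble_eq] at h1 h2
  have e1 := h2 j hj
  rw [e] at e1
  rcases Nat.eq_zero_or_pos j with rfl | hj0
  · exact e
  have e2 := h1 (S.g.k - j) (by omega)
  rw [← e, ← psiI_add, Nat.sub_add_cancel hj.le, (S.gok.simple_facts hb).2.2.2] at e2
  omega

theorem exists_orbit_simple {k : ℕ} (hk : k < D.rank) : ∃ i j, S.IsR i ∧ j < S.g.mI i ∧ S.g.psiI j i = k := by
  obtain ⟨j, hj, hrep⟩ := (S.orbJ_facts hk).2.1
  have hi := S.gok.psiI_lt j hk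
  rcases S.mR_cases (T.smp k) with h | h
  · have hfix : S.g.psi k = k := S.smp_inj (S.gok.simple_facts hk).1 hk (by rw [← (S.gok.simple_facts hk).2.1, h.1])
    have : ∀ n, S.g.psiI n k = k := by
      intro n
      induction n with
      | zero => rfl
      | succ n ih => show S.g.psi (S.g.psiI n k) = k; rw [ih, hfix]
    rw [this j] at hrep
    exact ⟨k, 0, ⟨hk, hrep⟩, S.mI_pos hk, rfl⟩
  · refine ⟨_, (S.g.k - j) % S.g.k, ⟨hi, hrep⟩, ?_, ?_⟩
    · rw [← S.mR_smp hi, ← S.gok.perI_smp j hk, S.mR_perI j (S.ok.smp_lt hk), h.2]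
      exact Nat.mod_lt _ S.gok.k_pos
    · rcases Nat.eq_zero_or_pos j with rfl | hj0
      · rw [Nat.sub_zero, Nat.mod_self]; rfl
      · rw [Nat.mod_eq_of_lt (by omega), ← psiI_add, Nat.sub_add_cancel hj.le, (S.gok.simple_facts hk).2.2.2]

theorem orbit_simple_unique {i i' j j' : ℕ} (hi : S.IsR i) (hi' : S.IsR i') (hj : j < S.g.mI i)
    (hj' : j' < S.g.mI i') (e : S.g.psiI j i = S.g.psiI j' i') : i = i' ∧ j = j' := by
  have h1 := S.mI_le i
  have h2 := S.mI_le i'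
  rcases le_total j j' with hle | hle
  · rw [show j' = j + (j' - j) by omega, psiI_add] at e
    have e' := S.psiI_inj j hi.1 (S.gok.psiI_lt _ hi'.1) e
    have := S.repS_unique hi'.1 hi.2 hi'.2 (by omega) e'.symm
    subst this
    refine ⟨rfl, ?_⟩
    by_contra hne
    exact S.psiI_ne hi.1 (by omega) (by omega) e'.symm
  · rw [show j = j' + (j - j') by omega, psiI_add] at e
    have e' := S.psiI_inj j' (S.gok.psiI_lt _ hi.1) hi'.1 e
    have := S.repS_unique hi.1 hi'.2 hi.2 (by omega) e'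
    subst this
    refine ⟨rfl, ?_⟩
    by_contra hne
    exact S.psiI_ne hi.1 (by omega) (by omega) e'

/-- Parameters supported on one orbit. -/
noncomputable def ov (i : ℕ) (t : F) (k : ℕ) : F :=
  ((List.range (S.g.mI i)).map fun j => if k = S.g.psiI j i then S.fr^[j] t else 1).prod

theorem fr_iter_ne {t : F} (ht : t ≠ 0) : ∀ j, S.fr^[j] t ≠ 0
  | 0 => ht
  | j + 1 => by
    rw [Function.iterate_succ_apply']
    exact fun e => fr_iter_ne ht j ((map_eq_zero_iff S.fr S.fr.injective).mp e)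

theorem ov_ne {i : ℕ} {t : F} (ht : t ≠ 0) (k : ℕ) : S.ov i t k ≠ 0 := by
  refine List.prod_ne_zero fun h0 => ?_
  obtain ⟨j, -, e⟩ := List.mem_map.mp h0
  split_ifs at e
  · exact S.fr_iter_ne ht j e
  · exact one_ne_zero e

theorem ov_at {i j : ℕ} (hi : S.IsR i) (hj : j < S.g.mI i) (t : F) : S.ov i t (S.g.psiI j i) = S.fr^[j] t := by
  rw [ov, ← List.prod_toFinset _ List.nodup_range, List.toFinset_range, Finset.prod_eq_single j]
  · rw [if_pos rfl]
  · intro l hl hne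
    rw [if_neg]
    exact fun e => hne (S.orbit_simple_unique hi hi hj (Finset.mem_range.mp hl) e).2.symm
  · intro h; exact absurd (Finset.mem_range.mpr hj) h

theorem ov_off {i k : ℕ} (t : F) (h : ∀ j < S.g.mI i, k ≠ S.g.psiI j i) : S.ov i t k = 1 := by
  refine List.prod_eq_one fun x hx => ?_
  obtain ⟨j, hj, rfl⟩ := List.mem_map.mp hx
  rw [if_neg (h j (List.mem_range.mp hj))]

theorem hG_smp {i : ℕ} (hi : i < D.rank) {t : F} (ht : t ≠ 0) :
    S.ok.hG (T.smp i) t = S.ok.torG (fun k => if k = i then t else 1) := by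
  rw [S.ok.hG_eq_torG (S.ok.smp_lt hi) ht]
  refine S.ok.torG_congr (fun k _ => zpow_ne_zero _ ht) fun k hk => ?_
  rw [S.ok.cC_smp hi hk]
  split_ifs <;> simp

theorem sigI_hG_smp {i : ℕ} (hi : i < D.rank) (j : ℕ) (a : F) :
    S.sigI j (S.ok.hG (T.smp i) a) = S.ok.hG (T.smp (S.g.psiI j i)) (S.fr^[j] a) := by
  rw [OK.hG_eq, OK.hG_eq, map_mul, S.sigI_nG_smp hi, S.sigI_nG_smp hi, iterate_map_neg, iterate_map_one]

theorem hel_smp {i : ℕ} (hi : i < D.rank) {t : F} (ht : t ≠ 0) :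
    S.hel (T.smp i) t = S.ok.torG (S.ov i t) := by
  rw [S.hel_eq (S.ok.smp_lt hi), orbP, S.mR_smp hi,
    List.map_congr_left (fun j hj => (S.sigI_hG_smp hi j t).trans
      (S.hG_smp (S.gok.psiI_lt j hi) (S.fr_iter_ne ht j))),
    S.ok.torG_list (fun j k => if k = S.g.psiI j i then S.fr^[j] t else 1) _ fun j _ k _ => by
      split_ifs
      exacts [S.fr_iter_ne ht j, one_ne_zero]]
  rfl

/-- Equivariant parameters. -/
def Equi (c : ℕ → F) : Prop := (∀ i < D.rank, c i ≠ 0) ∧ ∀ i < D.rank, c (S.g.psi i) = S.fr (c i)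

theorem equi_iter {c : ℕ → F} (hc : S.Equi c) : ∀ (j : ℕ) {i : ℕ}, i < D.rank → c (S.g.psiI j i) = S.fr^[j] (c i)
  | 0, _, _ => rfl
  | j + 1, i, hi => by
    show c (S.g.psi (S.g.psiI j i)) = _
    rw [hc.2 _ (S.gok.psiI_lt j hi), equi_iter hc j hi, Function.iterate_succ_apply']

theorem equi_sol {c : ℕ → F} (hc : S.Equi c) {i : ℕ} (hi : i < D.rank) : S.Sol (T.smp i) (c i) := fun e => by
  have : S.g.psi i = i := S.smp_inj (S.gok.simple_facts hi).1 hi (by rw [← (S.gok.simple_facts hi).2.1, e])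
  conv_rhs => rw [← this]
  exact (hc.2 i hi).symm

theorem equi_ov {i : ℕ} (hi : S.IsR i) {t : F} (ht : t ≠ 0) (hs : S.Sol (T.smp i) t) : S.Equi (S.ov i t) := by
  refine ⟨fun k _ => S.ov_ne ht k, fun k hk => ?_⟩
  obtain ⟨i', j, hi', hj, rfl⟩ := S.exists_orbit_simple hk
  show S.ov i t (S.g.psiI (j + 1) i') = _
  by_cases e : i' = i
  · subst e
    rw [S.ov_at hi hj]
    show _ = S.fr (S.fr^[j] t)
    rw [← Function.iterate_succ_apply' S.fr j t]
    by_cases hj' : j + 1 < S.g.mI i'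
    · exact S.ov_at hi hj' t
    · have hjm : j + 1 = S.g.mI i' := by omega
      have h0 := S.ov_at hi (S.mI_pos hi.1) t
      show S.ov i' t (S.g.psiI (j + 1) i') = S.fr^[j + 1] t
      rw [hjm, S.psiI_mI hi.1, S.fr_mI hi.1 hs]
      exact h0
  · rw [S.ov_off t, S.ov_off t, map_one]
    · intro l hl e'
      exact e (S.orbit_simple_unique hi' hi hj hl e').1
    · intro l hl e'
      by_cases hj' : j + 1 < S.g.mI i'
      · exact e (S.orbit_simple_unique hi' hi hj' hl e').1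
      · have hjm : j + 1 = S.g.mI i' := by omega
        rw [hjm, S.psiI_mI hi'.1] at e'
        exact e (S.orbit_simple_unique hi' hi (S.mI_pos hi'.1) hl e').1

/-- The diagonal subgroup of the twisted group. -/
noncomputable def H0 : Subgroup (GL D.Idx F) where
  carrier := {x | ∃ c, S.Equi c ∧ x = S.ok.torG c}
  one_mem' := ⟨fun _ => 1, ⟨fun _ _ => one_ne_zero, fun _ _ => (map_one S.fr).symm⟩, S.ok.torG_one.symm⟩
  mul_mem' := by
    rintro a b ⟨c, hc, rfl⟩ ⟨d, hd, rfl⟩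
    exact ⟨fun i => c i * d i, ⟨fun i hi => mul_ne_zero (hc.1 i hi) (hd.1 i hi),
      fun i hi => by show c _ * d _ = S.fr (c i * d i); rw [hc.2 i hi, hd.2 i hi, map_mul]⟩, S.ok.torG_mul hc.1 hd.1⟩
  inv_mem' := by
    rintro a ⟨c, hc, rfl⟩
    exact ⟨fun i => (c i)⁻¹, ⟨fun i hi => inv_ne_zero (hc.1 i hi), fun i hi => by
      show (c _)⁻¹ = S.fr (c i)⁻¹
      rw [hc.2 i hi, map_inv₀]⟩,
      S.ok.torG_inv hc.1⟩

theorem hel_mem_H0 {i : ℕ} (hi : S.IsR i) {t : F} (ht : t ≠ 0) (hs : S.Sol (T.smp i) t) :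
    S.hel (T.smp i) t ∈ S.H0 := ⟨_, S.equi_ov hi ht hs, S.hel_smp hi.1 ht⟩

theorem nel_mem_G1 {r : ℕ} (hr : r < D.nroots) {t : F} (hs : S.Sol r t) : S.nel r t ∈ S.G1 :=
  mul_mem (mul_mem (S.oel_mem hr hs) (S.oel_mem (S.ok.neg_lt hr) ((S.sol_neg hr).mpr (Sol.neg S (Sol.inv S hs)))))
    (S.oel_mem hr hs)

theorem H0_le_diag : S.H0 ≤ D.diagonalSubgroup F := by
  rintro x ⟨c, hc, rfl⟩
  exact S.ok.mem_diag.mpr ⟨c, hc.1, rfl⟩

/-- The list of representatives. -/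
noncomputable def repsL : List ℕ := (List.range D.rank).filter fun i => S.g.repS i

theorem mem_repsL {i : ℕ} : i ∈ S.repsL ↔ S.IsR i := by simp [repsL, IsR]

theorem H0_le_G1 : S.H0 ≤ S.G1 := by
  rintro x ⟨c, hc, rfl⟩
  have hR : ∀ i ∈ S.repsL, S.IsR i := fun i hi => S.mem_repsL.mp hi
  have e : S.ok.torG c = (S.repsL.map fun i => S.ok.torG (S.ov i (c i))).prod := by
    rw [S.ok.torG_list (fun i => S.ov i (c i)) _ fun i hi k _ => S.ov_ne (hc.1 i (hR i hi).1) k]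
    refine S.ok.torG_congr hc.1 fun k hk => ?_
    obtain ⟨i, j, hi, hj, rfl⟩ := S.exists_orbit_simple hk
    have hnd : S.repsL.Nodup := List.nodup_range.filter _
    rw [← List.prod_toFinset _ hnd, Finset.prod_eq_single i]
    · rw [S.ov_at hi hj, S.equi_iter hc j hi.1]
    · intro b hb hne
      refine S.ov_off _ fun l hl e' => ?_
      exact hne (S.orbit_simple_unique hi (hR b (List.mem_toFinset.mp hb)) hj hl e').1.symm
    · intro h; exact absurd (List.mem_toFinset.mpr (S.mem_repsL.mpr hi)) h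
  rw [e]
  refine list_prod_mem fun y hy => ?_
  obtain ⟨i, hi, rfl⟩ := List.mem_map.mp hy
  have hi := hR i hi
  rw [← S.hel_smp hi.1 (hc.1 i hi.1)]
  exact mul_mem (S.nel_mem_G1 (S.ok.smp_lt hi.1) (S.equi_sol hc hi.1))
    (S.nel_mem_G1 (S.ok.smp_lt hi.1) (Sol.neg S (Sol.one S _)))

theorem H0_le_Fx : S.H0 ≤ S.Fx := S.H0_le_G1.trans S.G1_le_Fx

theorem cC_per {r i : ℕ} (hr : r < D.nroots) (hi : i < D.rank) :
    T.cC (S.g.per r) (S.g.psi i) = T.cC r i := ((S.gok.root_facts hr).2.2.2.2.2.2.2.2 i hi).1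

theorem conj_H0 {v : List ℕ} (hv : ∀ i ∈ v, S.IsR i) {x : GL D.Idx F} (hx : x ∈ S.H0) :
    S.ok.gW F (S.wd v) * x * (S.ok.gW F (S.wd v))⁻¹ ∈ S.H0 := by
  obtain ⟨c, hc, rfl⟩ := hx
  have hw := S.wd_lt hv
  refine ⟨_, ⟨fun j _ => Finset.prod_ne_zero_iff.mpr fun k hk => zpow_ne_zero _ (hc.1 k (Finset.mem_range.mp hk)),
    fun j hj => ?_⟩, S.ok.gW_conj_torG hw hc.1⟩
  rw [map_prod]
  symm
  refine Finset.prod_bij (fun k _ => S.g.psi k) (fun k hk => ?_) (fun a ha b hb e => ?_) (fun k hk => ?_)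
    (fun k hk => ?_)
  · exact Finset.mem_range.mpr (S.gok.simple_facts (Finset.mem_range.mp hk)).1
  · exact S.psi_inj (Finset.mem_range.mp ha) (Finset.mem_range.mp hb) e
  · have hk := Finset.mem_range.mp hk
    refine ⟨S.g.psiI (S.g.k - 1) k, Finset.mem_range.mpr (S.gok.psiI_lt _ hk), ?_⟩
    show S.g.psiI (S.g.k - 1 + 1) k = k
    rw [Nat.sub_add_cancel S.gok.k_pos, (S.gok.simple_facts hk).2.2.2]
  · have hk := Finset.mem_range.mp hk
    rw [map_zpow₀, hc.2 k hk, ← (S.gok.simple_facts hk).2.1, S.wd_per hv _ (S.ok.smp_lt hk),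
      S.cC_per (S.okx.piW_lt hw (S.ok.smp_lt hk)) hj]

theorem gW_wd_mem {v : List ℕ} (hv : ∀ i ∈ v, S.IsR i) : S.ok.gW F (S.wd v) ∈ S.G1 := by
  induction v with
  | nil => exact one_mem _
  | cons i v ih =>
    rw [wd_cons, OK.gW_append]
    exact mul_mem (S.gW_orbJ_mem (hv i List.mem_cons_self).1 (hv i List.mem_cons_self).2)
      (ih fun j hj => hv j (List.mem_cons_of_mem _ hj))

theorem gW_orbJ_sq {i : ℕ} (hi : S.IsR i) :
    S.ok.gW F (S.g.orbJ i) * S.ok.gW F (S.g.orbJ i) ∈ S.H0 := by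
  have hp := S.ok.smp_lt hi.1
  have e : S.ok.gW F (S.g.orbJ i) * S.ok.gW F (S.g.orbJ i) = (S.hel (T.smp i) (-1))⁻¹ := by
    rw [hel, ← S.nel_inv hp, mul_inv_rev, inv_inv, S.gW_orbJ hi.1]
  rw [e]
  exact inv_mem (S.hel_mem_H0 hi (neg_ne_zero.mpr one_ne_zero) (Sol.neg S (Sol.one S _)))

/-- Elements written as a diagonal element times a word. -/
def IsN (x : GL D.Idx F) : Prop :=
  ∃ h ∈ S.H0, ∃ v : List ℕ, (∀ i ∈ v, S.IsR i) ∧ x = h * S.ok.gW F (S.wd v)

theorem isN_mul {x y : GL D.Idx F} (hx : S.IsN x) (hy : S.IsN y) : S.IsN (x * y) := by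
  obtain ⟨h, hh, v, hv, rfl⟩ := hx
  obtain ⟨h', hh', v', hv', rfl⟩ := hy
  refine ⟨h * (S.ok.gW F (S.wd v) * h' * (S.ok.gW F (S.wd v))⁻¹), mul_mem hh (S.conj_H0 hv hh'), v ++ v',
    fun i hi => (List.mem_append.mp hi).elim (hv i) (hv' i), ?_⟩
  rw [wd_append, OK.gW_append]
  simp [mul_assoc]

theorem isN_H0 {x : GL D.Idx F} (hx : x ∈ S.H0) : S.IsN x :=
  ⟨x, hx, [], by simp, by simp [wd, OK.gW]⟩

theorem isN_orbJ {i : ℕ} (hi : S.IsR i) : S.IsN (S.ok.gW F (S.g.orbJ i)) :=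
  ⟨1, one_mem _, [i], S.orbJ_R hi, by simp [wd]⟩

theorem isN_inv {x : GL D.Idx F} (hx : S.IsN x) : S.IsN x⁻¹ := by
  obtain ⟨h, hh, v, hv, rfl⟩ := hx
  rw [mul_inv_rev]
  refine S.isN_mul ?_ (S.isN_H0 (inv_mem hh))
  clear hh h
  induction v with
  | nil => rw [show S.ok.gW F (S.wd []) = 1 from rfl, inv_one]; exact S.isN_H0 (one_mem _)
  | cons i v ih =>
    have hi := hv i List.mem_cons_self
    rw [wd_cons, OK.gW_append, mul_inv_rev]
    refine S.isN_mul (ih fun j hj => hv j (List.mem_cons_of_mem _ hj)) ?_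
    have e : (S.ok.gW F (S.g.orbJ i))⁻¹ =
        (S.ok.gW F (S.g.orbJ i) * S.ok.gW F (S.g.orbJ i))⁻¹ * S.ok.gW F (S.g.orbJ i) := by simp
    rw [e]
    exact S.isN_mul (S.isN_H0 (inv_mem (S.gW_orbJ_sq hi))) (S.isN_orbJ hi)

/-- The monomial subgroup of the twisted group. -/
noncomputable def N1 : Subgroup (GL D.Idx F) where
  carrier := {x | S.IsN x}
  one_mem' := S.isN_H0 (one_mem _)
  mul_mem' := S.isN_mul
  inv_mem' := S.isN_inv

theorem N1_le_G1 : S.N1 ≤ S.G1 := by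
  rintro x ⟨h, hh, v, hv, rfl⟩
  exact mul_mem (S.H0_le_G1 hh) (S.gW_wd_mem hv)

theorem N1_le_monomial : S.N1 ≤ D.monomialSubgroup F := by
  rintro x ⟨h, hh, v, hv, rfl⟩
  exact S.ok.mem_monomial.mpr ⟨h, S.H0_le_diag hh, S.wd v, S.wd_lt hv, rfl⟩

theorem H0_le_N1 : S.H0 ≤ S.N1 := fun _ hx => S.isN_H0 hx

theorem N1_conj_H0 {n x : GL D.Idx F} (hn : n ∈ S.N1) (hx : x ∈ S.H0) : n * x * n⁻¹ ∈ S.H0 := by
  obtain ⟨h, hh, v, hv, rfl⟩ := hn
  have := mul_mem (mul_mem hh (S.conj_H0 hv hx)) (inv_mem hh)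
  simpa [mul_assoc] using this

theorem N1_act {n : GL D.Idx F} (hn : n ∈ S.N1) : ∃ v : List ℕ, (∀ i ∈ v, S.IsR i) ∧
    S.ok.Act n (piW T (S.wd v)) := by
  obtain ⟨h, hh, v, hv, rfl⟩ := hn
  exact ⟨v, hv, (S.ok.act_diag (S.H0_le_diag hh)).mul S.ok (S.ok.act_gW _ (S.wd_lt hv))⟩

/-- Conjugation of orbit products by a monomial element of the twisted group. -/
theorem oel_conj {n : GL D.Idx F} {v : List ℕ} (hn : n ∈ S.Fx) (hv : ∀ i ∈ v, S.IsR i)
    (hA : S.ok.Act n (piW T (S.wd v))) {r : ℕ} (hr : r < D.nroots) :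
    piW T (S.wd v) r < D.nroots ∧ S.g.mR (piW T (S.wd v) r) = S.g.mR r ∧
      ∃ a : F, a ≠ 0 ∧ S.Sol (piW T (S.wd v) r) a ∧ ∀ t : F,
        n * S.oel r t * n⁻¹ = S.oel (piW T (S.wd v) r) (a * t) ∧
        n * S.oel (T.neg r) t * n⁻¹ = S.oel (T.neg (piW T (S.wd v) r)) (a⁻¹ * t) := by
  have hw := S.wd_lt hv
  have hlt := S.okx.piW_lt hw hr
  have hm : S.g.mR (piW T (S.wd v) r) = S.g.mR r := by
    rcases S.mR_cases r with h | h <;> rcases S.mR_cases (piW T (S.wd v) r) with h' | h' <;> rw [h.2, h'.2]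
    · exact absurd (by rw [← S.wd_per hv r hr, h.1]) h'.1
    · exact absurd (S.okx.piW_inj hw (S.gok.per_lt hr) hr (by rw [S.wd_per hv r hr, h'.1])) h.1
  refine ⟨hlt, hm, ?_⟩
  obtain ⟨a, ha0, ha⟩ := hA.2.1 r hr
  refine ⟨a, ha0, ?_, fun t => ⟨?_, ?_⟩⟩
  · refine (S.sol_iff hlt).mpr ?_
    have h1 := (ha 1).1
    rw [mul_one] at h1
    rw [← h1, map_mul, map_mul, map_inv, S.sigI_fixed hn, hm, S.sigI_mR hr (Sol.one S r)]
  · rw [oel, oel, S.orbP_conj hn, (ha t).1, hm]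
  · rw [oel, oel, S.orbP_conj hn, (ha t).2, S.mR_neg hr, S.mR_neg hlt, hm]

end Tw

end Cfsg.Agent.Chev
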