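import Cfsg.Agent.Lib.Chev.Ree4Chk
import Cfsg.Agent.Lib.Chev.Char2Mono
import Cfsg.Agent.Lib.Chev.TorusKer
import Cfsg.Agent.Lib.Chev.TwistH
import Cfsg.Agent.Lib.Chev.Bruhat
import Cfsg.Prelude.Def_LieTwisted

/-!
The large Ree groups: the endomorphism, its fixed points, representatives and the torus.
-/

set_option autoImplicit false
set_option maxRecDepth 20000

namespace Cfsg.Agent.Chev.Ree4

open Cfsg.Lie

/-- The data of a large Ree group. -/
structure Ctx (K : Type*) [Field K] [Fintype K] where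
  m : ℕ
  hK : Fintype.card K = 2 ^ (2 * m + 1)

variable {K : Type*} [Field K] [Fintype K] [CharP K 2]

theorem perf2 (x : K) : ∃ y : K, y ^ 2 = x := by
  haveI : Fact (Nat.Prime 2) := ⟨Nat.prime_two⟩
  haveI : ExpChar K 2 := ExpChar.prime Nat.prime_two
  obtain ⟨y, hy⟩ := (bijective_frobenius K 2).2 x
  exact ⟨y, hy⟩

/-- The exceptional graph automorphism. -/
noncomputable def alpha : ↥(chevF4.group K) ≃* ↥(chevF4.group K) :=
  (F4.okx.exists_isog F4.isoTab F4.isoTab_ok F4.dn_ok F4.wit_ok F4.cow_ok perf2).choose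

theorem alpha_xG {r : ℕ} (hr : r < 48) (t : K) :
    (alpha ⟨_, F4.okx.toOK.xG_mem_group r t⟩ : GL chevF4.Idx K) =
      F4.okx.toOK.xG (per r) (t ^ F4.isoTab.lamI r) :=
  (F4.okx.exists_isog F4.isoTab F4.isoTab_ok F4.dn_ok F4.wit_ok F4.cow_ok perf2).choose_spec.1 r t hr

theorem per_facts {r : ℕ} (hr : r < 48) :
    per r < 48 ∧ per (per r) = r ∧ F4.isoTab.lamI r * F4.isoTab.lamI (per r) = 2 ∧
      per (F4.T.neg r) = F4.T.neg (per r) ∧ F4.isoTab.lamI (F4.T.neg r) = F4.isoTab.lamI r := by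
  have h := F4.isoTab_ok
  simp only [ITab.chk, allR_iff, andR_iff, nlt_iff, Nat.beq_eq, Nat.mul_eq] at h
  obtain ⟨h1, h2, h3, h4, h5, -⟩ := h r hr
  exact ⟨h1, h2, h3, h4, h5⟩

theorem per_pos {r : ℕ} (hr : r < 48) : 0 < F4.T.htf (per r) ↔ 0 < F4.T.htf r := by
  have h := per_ok
  simp only [chkPer, andR_iff, allR_iff, beqB_iff] at h
  have := h.1 r hr
  rw [← ipos_iff, this, ipos_iff]

theorem per_smp {i : ℕ} (hi : i < 4) : per (F4.T.smp i) = F4.T.smp (3 - i) ∧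
    F4.isoTab.lamI (F4.T.smp i) = if i < 2 then 2 else 1 := by
  have h := per_ok
  simp only [chkPer, andR_iff, allR_iff, Nat.beq_eq, Nat.sub_eq] at h
  obtain ⟨h1, h2⟩ := h.2.1 i hi
  refine ⟨h1, h2.trans ?_⟩
  by_cases e : i < 2
  · rw [if_pos e, nlt_iff.mpr e]
  · rw [if_neg e, nlt_false_iff.mpr (by omega)]

theorem per_inj {a b : ℕ} (ha : a < 48) (hb : b < 48) (h : per a = per b) : a = b := by
  rw [← (per_facts ha).2.1, h, (per_facts hb).2.1]

variable (K) in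
/-- A root element. -/
noncomputable abbrev X (r : ℕ) (t : K) : GL chevF4.Idx K := F4.okx.toOK.xG r t

variable (K) in
/-- A representative. -/
noncomputable abbrev W (w : List ℕ) : GL chevF4.Idx K := F4.okx.toOK.gW K w

/-- A word in the fundamental reflections. -/
abbrev IsW (w : List ℕ) : Prop := ∀ i ∈ w, i < 4

theorem W_conj {w : List ℕ} (hw : IsW w) {r : ℕ} (hr : r < 48) (t : K) :
    W K w * X K r t * (W K w)⁻¹ = X K (piW F4.T w r) t := F4.okx.gW_conj_xG hw hr t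

theorem W_eq {v w : List ℕ} (hv : IsW v) (hw : IsW w) (h : sameI v w = true) : W K v = W K w :=
  F4.okx.gW_eq_of_imgs F4.cow_ok hv hw h

theorem isW_jw (b : Bool) : IsW (jw b) := by
  cases b
  · show ∀ i ∈ [0, 3], i < 4; decide
  · show ∀ i ∈ [1, 2, 1, 2], i < 4; decide

theorem wd_eq (v : List Bool) : wd v = v.flatMap jw := flatR_eq _ _

theorem isW_wd (v : List Bool) : IsW (wd v) := by
  intro i hi
  rw [wd_eq, List.mem_flatMap] at hi
  obtain ⟨b, -, hb⟩ := hi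
  exact isW_jw b i hb

theorem isW_app {v w : List ℕ} (hv : IsW v) (hw : IsW w) : IsW (v ++ w) := fun i hi =>
  (List.mem_append.mp hi).elim (hv i) (hw i)

theorem isW_rev {v : List ℕ} (hv : IsW v) : IsW v.reverse := fun i hi => hv i (List.mem_reverse.mp hi)

theorem W_app (v w : List ℕ) : W K (v ++ w) = W K v * W K w := F4.okx.toOK.gW_append v w

theorem wd_cons (b : Bool) (v : List Bool) : wd (b :: v) = jw b ++ wd v := by simp [wd_eq]

theorem wd_app (u v : List Bool) : wd (u ++ v) = wd u ++ wd v := by simp [wd_eq]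

theorem W_sq (b : Bool) : W K (jw b) * W K (jw b) = 1 := by
  rw [← W_app]
  have h := per_ok
  simp only [chkPer, andR_iff, appR_eq] at h
  have e : sameI (jw b ++ jw b) [] = true := by
    cases b
    · exact h.2.2.2.2.1
    · exact h.2.2.2.2.2
  exact (W_eq (isW_app (isW_jw b) (isW_jw b)) (fun i hi => absurd hi List.not_mem_nil) e).trans rfl

theorem W_jw_inv (b : Bool) : (W K (jw b))⁻¹ = W K (jw b) := inv_eq_of_mul_eq_one_right (W_sq b)

theorem W_rev {v : List ℕ} (hv : IsW v) : (W K v)⁻¹ = W K v.reverse := by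
  refine inv_eq_of_mul_eq_one_right ?_
  rw [← W_app]
  refine (W_eq (isW_app hv (isW_rev hv)) (fun i hi => absurd hi List.not_mem_nil)
    (F4.okx.sameI_of_piW fun k hk => ?_)).trans rfl
  rw [piW_append, F4.okx.piW_rev hv (F4.okx.toOK.smp_lt hk)]
  rfl

theorem piW_same {v w : List ℕ} (hv : IsW v) (hw : IsW w) (h : sameI v w = true) {r : ℕ} (hr : r < 48) :
    piW F4.T v r = piW F4.T w r := F4.okx.piW_eq_of_sameI hv hw h hr

theorem hG_smp {i : ℕ} (hi : i < 4) {t : K} (ht : t ≠ 0) :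
    F4.okx.toOK.hG (F4.T.smp i) t = F4.okx.toOK.torG (fun k => if k = i then t else 1) := by
  rw [F4.okx.toOK.hG_eq_torG (F4.okx.toOK.smp_lt hi) ht]
  refine F4.okx.toOK.torG_congr (fun k _ => zpow_ne_zero _ ht) fun k hk => ?_
  rw [F4.okx.toOK.cC_smp hi hk]
  split_ifs with h <;> simp

namespace Ctx

variable (S : Ctx K)

/-- The exponent of the field automorphism. -/
abbrev e : ℕ := 2 ^ S.m

theorem e_pos : 0 < S.e := Nat.two_pow_pos S.m

theorem e_sq (x : K) : x ^ (2 * (S.e * S.e)) = x := by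
  have h : 2 * (S.e * S.e) = Fintype.card K := by
    rw [S.hK, Ctx.e, ← pow_add, ← pow_succ']; ring_nf
  rw [h, FiniteField.pow_card]

theorem pow_2e_e (x : K) : (x ^ (2 * S.e)) ^ S.e = x := by rw [← pow_mul, mul_assoc, S.e_sq]

theorem pow_e_2e (x : K) : (x ^ S.e) ^ (2 * S.e) = x := by
  rw [← pow_mul, show S.e * (2 * S.e) = 2 * (S.e * S.e) by ring, S.e_sq]

/-- The field automorphism. -/
noncomputable def fr (S : Ctx K) : K ≃+* K :=
  haveI : Fact (Nat.Prime 2) := ⟨Nat.prime_two⟩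
  haveI : ExpChar K 2 := ExpChar.prime Nat.prime_two
  haveI : PerfectRing K 2 := PerfectRing.ofSurjective K 2 perf2
  iterateFrobeniusEquiv K 2 S.m

theorem fr_apply (x : K) : S.fr x = x ^ S.e := rfl

/-- The endomorphism of the group. -/
noncomputable def sgH : ↥(chevF4.group K) →* ↥(chevF4.group K) :=
  alpha.toMonoidHom.comp
    { toFun := fun x => ⟨_, F4.okx.toOK.fieldMap_mem S.fr x.2⟩
      map_one' := Subtype.ext (map_one _)
      map_mul' := fun x y => Subtype.ext (map_mul _ _ _) }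

open scoped Classical in
/-- The endomorphism, extended by one. -/
noncomputable def sg (x : GL chevF4.Idx K) : GL chevF4.Idx K :=
  if h : x ∈ chevF4.group K then (S.sgH ⟨x, h⟩ : GL chevF4.Idx K) else 1

theorem sg_eq {x : GL chevF4.Idx K} (h : x ∈ chevF4.group K) : S.sg x = (S.sgH ⟨x, h⟩ : GL chevF4.Idx K) :=
  dif_pos h

theorem sg_mem {x : GL chevF4.Idx K} (h : x ∈ chevF4.group K) : S.sg x ∈ chevF4.group K := by
  rw [S.sg_eq h]; exact (S.sgH ⟨x, h⟩).2

theorem sg_one : S.sg 1 = 1 := by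
  rw [S.sg_eq (one_mem _), show (⟨1, one_mem _⟩ : ↥(chevF4.group K)) = 1 from rfl, map_one]
  rfl

theorem sg_mul {x y : GL chevF4.Idx K} (hx : x ∈ chevF4.group K) (hy : y ∈ chevF4.group K) :
    S.sg (x * y) = S.sg x * S.sg y := by
  rw [S.sg_eq (mul_mem hx hy), S.sg_eq hx, S.sg_eq hy, ← Subgroup.coe_mul, ← map_mul]
  rfl

theorem sg_inv {x : GL chevF4.Idx K} (hx : x ∈ chevF4.group K) : S.sg x⁻¹ = (S.sg x)⁻¹ := by
  refine eq_inv_of_mul_eq_one_right ?_
  rw [← S.sg_mul hx (inv_mem hx), mul_inv_cancel, S.sg_one]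

theorem X_mem (r : ℕ) (t : K) : X K r t ∈ chevF4.group K := F4.okx.toOK.xG_mem_group r t

theorem sg_X {r : ℕ} (hr : r < 48) (t : K) :
    S.sg (X K r t) = X K (per r) ((t ^ S.e) ^ F4.isoTab.lamI r) := by
  rw [S.sg_eq (X_mem r t)]
  have e1 : (⟨fieldMap chevF4 S.fr (X K r t), F4.okx.toOK.fieldMap_mem S.fr (X_mem r t)⟩ : ↥(chevF4.group K)) =
      ⟨_, X_mem r (t ^ S.e)⟩ := Subtype.ext ((F4.okx.toOK.fieldMap_xG S.fr r t).trans (congrArg (X K r) (S.fr_apply t)))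
  show (alpha ⟨fieldMap chevF4 S.fr (X K r t), _⟩ : GL chevF4.Idx K) = _
  rw [e1]
  exact alpha_xG hr _

/-- The fixed subgroup. -/
noncomputable def Fx : Subgroup (GL chevF4.Idx K) where
  carrier := {x | x ∈ chevF4.group K ∧ S.sg x = x}
  one_mem' := ⟨one_mem _, S.sg_one⟩
  mul_mem' := fun {a b} ha hb => ⟨mul_mem ha.1 hb.1, by rw [S.sg_mul ha.1 hb.1, ha.2, hb.2]⟩
  inv_mem' := fun {a} ha => ⟨inv_mem ha.1, by rw [S.sg_inv ha.1, ha.2]⟩

theorem mem_Fx {x : GL chevF4.Idx K} : x ∈ S.Fx ↔ x ∈ chevF4.group K ∧ S.sg x = x := Iff.rfl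

theorem sg_closure {P : ℕ → Prop} (hP : ∀ r, P r → r < 48 ∧ P (per r)) {x : GL chevF4.Idx K}
    (hx : x ∈ Subgroup.closure {y | ∃ (r : ℕ) (t : K), P r ∧ y = X K r t}) :
    S.sg x ∈ Subgroup.closure {y | ∃ (r : ℕ) (t : K), P r ∧ y = X K r t} := by
  have hle : Subgroup.closure {y | ∃ (r : ℕ) (t : K), P r ∧ y = X K r t} ≤ chevF4.group K :=
    (Subgroup.closure_le _).mpr fun y ⟨r, t, _, e⟩ => e ▸ X_mem r t
  induction hx using Subgroup.closure_induction with
  | mem y hy =>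
    obtain ⟨r, t, hr, rfl⟩ := hy
    rw [S.sg_X (hP r hr).1]
    exact Subgroup.subset_closure ⟨_, _, (hP r hr).2, rfl⟩
  | one => rw [S.sg_one]; exact one_mem _
  | mul a b ha hb iha ihb => rw [S.sg_mul (hle ha) (hle hb)]; exact mul_mem iha ihb
  | inv a ha iha => rw [S.sg_inv (hle ha)]; exact inv_mem iha

theorem sg_pos {x : GL chevF4.Idx K} (hx : x ∈ chevF4.posUnipotent K) : S.sg x ∈ chevF4.posUnipotent K := by
  have e : chevF4.posUnipotent K = Subgroup.closure {y | ∃ (r : ℕ) (t : K), chevF4.IsPosRoot r ∧ y = X K r t} := by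
    rw [ChevalleyDatum.posUnipotent]
    congr 1
    ext y
    exact ⟨fun ⟨r, t, hr, hy⟩ => ⟨r, t, hr, F4.okx.toOK.eq_xG hy⟩, fun ⟨r, t, hr, hy⟩ => ⟨r, t, hr, hy ▸ rfl⟩⟩
  rw [e] at hx ⊢
  refine S.sg_closure (fun r hr => ?_) hx
  obtain ⟨h1, h2⟩ := F4.okx.toOK.isPos_iff.mp hr
  exact ⟨h1, F4.okx.toOK.isPos_iff.mpr ⟨(per_facts h1).1, (per_pos h1).mpr h2⟩⟩

theorem sg_nG {r : ℕ} (hr : r < 48) (t : K) :
    S.sg (F4.okx.toOK.nG r t) = F4.okx.toOK.nG (per r) ((t ^ S.e) ^ F4.isoTab.lamI r) := by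
  have hn := F4.okx.toOK.neg_lt hr
  rw [F4.okx.toOK.nG_eq hr, F4.okx.toOK.nG_eq (per_facts hr).1,
    S.sg_mul (mul_mem (X_mem _ _) (X_mem _ _)) (X_mem _ _), S.sg_mul (X_mem _ _) (X_mem _ _), S.sg_X hr,
    S.sg_X hn, (per_facts hr).2.2.2.1, (per_facts hr).2.2.2.2, CharTwo.neg_eq, inv_pow, inv_pow, CharTwo.neg_eq]

theorem nG_mem (r : ℕ) (t : K) : F4.okx.toOK.nG r t ∈ chevF4.group K := F4.okx.toOK.wordG_mem _

theorem sg_hG {r : ℕ} (hr : r < 48) (t : K) :
    S.sg (F4.okx.toOK.hG r t) = F4.okx.toOK.hG (per r) ((t ^ S.e) ^ F4.isoTab.lamI r) := by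
  rw [OK.hG_eq, OK.hG_eq, S.sg_mul (nG_mem _ _) (nG_mem _ _), S.sg_nG hr, S.sg_nG hr, CharTwo.neg_eq, one_pow,
    one_pow]

theorem W_mem {w : List ℕ} (hw : IsW w) : W K w ∈ chevF4.group K := F4.okx.gW_mem_group hw

theorem sg_W {w : List ℕ} (hw : IsW w) : S.sg (W K w) = W K (w.map fun i => 3 - i) := by
  induction w with
  | nil => exact S.sg_one
  | cons i w ih =>
    have hi : i < 4 := hw i List.mem_cons_self
    have hw' : IsW w := fun j hj => hw j (List.mem_cons_of_mem _ hj)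
    show S.sg (F4.okx.toOK.gW K (i :: w)) = _
    rw [F4.okx.toOK.gW_cons, S.sg_mul (nG_mem _ _) (W_mem hw'), ih hw', S.sg_nG (F4.okx.toOK.smp_lt hi),
      (per_smp hi).1, one_pow, one_pow, List.map_cons]
    exact (F4.okx.toOK.gW_cons _ _).symm

theorem piW_rho {w : List ℕ} (hw : IsW w) {r : ℕ} (hr : r < 48) :
    piW F4.T (w.map fun i => 3 - i) (per r) = per (piW F4.T w r) := by
  induction w with
  | nil => rfl
  | cons i w ih =>
    have hw' : IsW w := fun j hj => hw j (List.mem_cons_of_mem _ hj)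
    have h := rho_ok
    simp only [chkRho, allR_iff, Nat.beq_eq, Nat.sub_eq] at h
    show F4.T.refl (3 - i) (piW F4.T (w.map fun i => 3 - i) (per r)) = per (F4.T.refl i (piW F4.T w r))
    rw [ih hw']
    exact h i (hw i List.mem_cons_self) _ (F4.okx.piW_lt hw' hr)

end Ctx

end Cfsg.Agent.Chev.Ree4
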