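import Cfsg.Agent.Lib.Chev.Ree4G
import Cfsg.Agent.Lib.Chev.Perf
import Cfsg.Agent.S0319

/-!
The large Ree groups: the Tits system, the core, the Weyl group, perfectness and simplicity.
-/

set_option autoImplicit false
set_option maxRecDepth 20000

namespace Cfsg.Agent.Chev.Ree4

open Cfsg.Lie

variable {K : Type*} [Field K] [Fintype K] [CharP K 2]

theorem hG_conj_X {i r : ℕ} (hi : i < 4) (hr : r < 48) {t : K} (ht : t ≠ 0) (x : K) :
    F4.okx.toOK.hG (F4.T.smp i) t * X K r x * (F4.okx.toOK.hG (F4.T.smp i) t)⁻¹ =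
      X K r (t ^ F4.T.cA i r * x) := by
  rw [mul_inv_eq_iff_eq_mul]
  refine Units.ext ?_
  rw [Units.val_mul, Units.val_mul, OK.coe_xG, OK.coe_xG, OK.coe_hG]
  have := F4.okx.toOK.conj_h hi hr ht x
  rw [F4.okx.toOK.simple_eq hi] at this
  exact this

theorem rev_pos_conj {b : Bool} {w : List ℕ} (hw : IsW w)
    (h : ∀ r < 48, negd (jw b) r = true → 0 < F4.T.htf (piW F4.T w.reverse r)) {x : GL chevF4.Idx K}
    (hx : x ∈ F4.okx.Um K (jw b)) : (W K w)⁻¹ * x * W K w ∈ chevF4.posUnipotent K := by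
  induction hx using Subgroup.closure_induction with
  | mem y hy =>
    obtain ⟨r, t, hr, hneg, rfl⟩ := hy
    obtain ⟨h1, h2⟩ := F4.okx.toOK.isPos_iff.mp hr
    have e : (W K w)⁻¹ * X K r t * W K w = X K (piW F4.T w.reverse r) t := by
      rw [← W_conj (isW_rev hw) h1, ← W_rev hw, inv_inv]
    rw [show F4.okx.toOK.xG r t = X K r t from rfl, e]
    exact X_pos (F4.okx.piW_lt (isW_rev hw) h1) (h r h1 ((negd_iff (isW_jw b) h1).mpr ⟨h2, hneg⟩)) t
  | one => simp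
  | mul p q _ _ hp hq =>
    have := mul_mem hp hq
    simpa [mul_assoc] using this
  | inv p _ hp =>
    have := inv_mem hp
    simpa [mul_assoc] using this

theorem side (b : Bool) {v : List Bool} (hv : v ∈ L16) :
    (∀ r < 48, negd (jw b) r = true → 0 < F4.T.htf (piW F4.T (wd v).reverse r)) ∨
      ∀ r < 48, negd (jw b) r = true → 0 < F4.T.htf (piW F4.T (jw b ++ wd v).reverse r) := by
  have h := allL_iff.mp (allL_iff.mp side_ok v hv) b (by cases b <;> decide)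
  simp only [orR_iff, allR_iff, notR_iff, ipos_iff, Tabs.piR_eq, appR_eq] at h
  rcases h with h | h
  · exact Or.inl fun r hr hn => (h r hr).resolve_left (by simp [hn])
  · exact Or.inr fun r hr hn => (h r hr).resolve_left (by simp [hn])

namespace Ctx

variable (S : Ctx K)

theorem hst_conj_X {s t : K} (hs : s ≠ 0) (ht : t ≠ 0) {r : ℕ} (hr : r < 48) (x : K) :
    S.hst s t * X K r x * (S.hst s t)⁻¹ =
      X K r ((s ^ S.e) ^ F4.T.cA 0 r * ((t ^ S.e) ^ F4.T.cA 1 r * (t ^ F4.T.cA 2 r * (s ^ F4.T.cA 3 r * x)))) := by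
  have e : S.hst s t = F4.okx.toOK.hG (F4.T.smp 0) (s ^ S.e) * F4.okx.toOK.hG (F4.T.smp 1) (t ^ S.e) *
      F4.okx.toOK.hG (F4.T.smp 2) t * F4.okx.toOK.hG (F4.T.smp 3) s := by
    rw [hst, F4.okx.toOK.torG_eq_prod]
    show ((List.range 4).map _).prod = _
    simp only [List.range_succ, List.range_zero, List.nil_append, List.cons_append, List.map_cons, List.map_nil,
      List.prod_cons, List.prod_nil, mul_one, mul_assoc]
    rw [F4.okx.toOK.simple_eq (show 0 < 4 by omega), F4.okx.toOK.simple_eq (show 1 < 4 by omega),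
      F4.okx.toOK.simple_eq (show 2 < 4 by omega), F4.okx.toOK.simple_eq (show 3 < 4 by omega)]
    simp [hv]
  rw [e, ← hG_conj_X (show 0 < 4 by omega) hr (pow_ne_zero _ hs),
    ← hG_conj_X (show 1 < 4 by omega) hr (pow_ne_zero _ ht), ← hG_conj_X (show 2 < 4 by omega) hr ht,
    ← hG_conj_X (show 3 < 4 by omega) hr hs]
  simp [mul_assoc]

theorem monomial_form {n : GL chevF4.Idx K} (hn : n ∈ chevF4.monomialSubgroup K) (hF : n ∈ S.Fx) :
    ∃ v ∈ L16, ∃ h ∈ S.Hs, n = h * W K (wd v) := by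
  obtain ⟨t, ht, w, hw, rfl⟩ := F4.okx.toOK.mem_monomial.mp hn
  set w₂ := w.map (fun i => 3 - i) with hw₂
  have hw₂' : IsW w₂ := fun i hi => by obtain ⟨j, -, rfl⟩ := List.mem_map.mp hi; omega
  have htG := F4.okx.toOK.diag_le_group ht
  have hF2 := hF.2
  rw [show F4.okx.toOK.gW K w = W K w from rfl, S.sg_mul htG (W_mem hw), S.sg_W hw] at hF2
  have A1 := (F4.okx.toOK.act_diag ht).mul F4.okx.toOK (F4.okx.toOK.act_gW (F := K) w hw)
  have A2 := (F4.okx.toOK.act_diag (S.sg_diag ht)).mul F4.okx.toOK (F4.okx.toOK.act_gW (F := K) w₂ hw₂')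
  rw [show F4.okx.toOK.gW K w₂ = W K w₂ from rfl, hF2] at A2
  have hperm : ∀ r < 48, piW F4.T w r = piW F4.T w₂ r := fun r hr => by
    simpa using F4.okx.toOK.act_unique A1 A2 hr
  obtain ⟨v, hv, hve⟩ := fixed_word _ w hw le_rfl fun r hr => by
    rw [hperm _ (per_facts hr).1, piW_rho hw hr]
  have hWv : W K w = W K (wd v) := W_eq hw (isW_wd v)
    (F4.okx.sameI_of_piW fun k hk => hve _ (F4.okx.toOK.smp_lt hk))
  have hW2 : W K w = W K w₂ := W_eq hw hw₂' (F4.okx.sameI_of_piW fun k hk => hperm _ (F4.okx.toOK.smp_lt hk))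
  refine ⟨v, hv, t, ⟨ht, htG, ?_⟩, by rw [← hWv]⟩
  rw [← hW2] at hF2
  exact mul_right_cancel hF2

theorem W_conj_Hs (v : List Bool) {h : GL chevF4.Idx K} (hh : h ∈ S.Hs) :
    W K (wd v) * h * (W K (wd v))⁻¹ ∈ S.Hs :=
  Subgroup.mem_inf.mpr ⟨F4.okx.toOK.gW_normalizes (wd v) (isW_wd v) h hh.1,
    mul_mem (mul_mem (S.W_wd_fixed v) hh.2) (inv_mem (S.W_wd_fixed v))⟩

theorem W_conj_Hs' (v : List Bool) {h : GL chevF4.Idx K} (hh : h ∈ S.Hs) :
    (W K (wd v))⁻¹ * h * W K (wd v) ∈ S.Hs := by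
  refine Subgroup.mem_inf.mpr ⟨?_, mul_mem (mul_mem (inv_mem (S.W_wd_fixed v)) hh.2) (S.W_wd_fixed v)⟩
  have := F4.okx.toOK.gW_normalizes (wd v).reverse (isW_rev (isW_wd v)) h hh.1
  rwa [show F4.okx.toOK.gW K (wd v).reverse = W K (wd v).reverse from rfl, ← W_rev (isW_wd v), inv_inv] at this

theorem Hs_le_B1 : S.Hs ≤ S.B1 := fun _ hh =>
  Subgroup.mem_inf.mpr ⟨Subgroup.mem_sup_right hh.1, hh.2⟩

theorem U_le_B1 {x : GL chevF4.Idx K} (hx : x ∈ chevF4.posUnipotent K) (hF : x ∈ S.Fx) : x ∈ S.B1 :=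
  Subgroup.mem_inf.mpr ⟨Subgroup.mem_sup_left hx, hF⟩

theorem wd_single (b : Bool) : wd [b] = jw b := by simp [wd_eq]

/-- The rank one step. -/
theorem levi_step (b : Bool) {c : GL chevF4.Idx K} (hc : c ∈ F4.okx.Um K (jw b)) (hcF : c ∈ S.Fx) (hc1 : c ≠ 1) :
    ∃ b₁ ∈ S.B1, ∃ u₁ ∈ F4.okx.Um K (jw b) ⊓ S.Fx,
      W K (jw b) * c * W K (jw b) = b₁ * W K (jw b) * u₁ := by
  set s := W K (jw b) with hs
  have hsF := S.W_jw_fixed b
  obtain ⟨v, hv, b₁, hb₁, u₁, hu₁, e⟩ := S.exists_form (mul_mem (mul_mem hsF hcF) hsF)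
  set J : Set ℕ := {k | k ∈ jw b} with hJ
  have hsP : s ∈ chevF4.parabolicSubgroup K J :=
    F4.okx.gW_mem_parabolic_of_word J fun i hi => ⟨isW_jw b i hi, hi⟩
  have hBP := F4.okx.borel_le_parabolic (F := K) J
  have hWP : W K (wd v) ∈ chevF4.parabolicSubgroup K J := by
    have h1 : W K (wd v) = b₁⁻¹ * (s * c * s) * u₁⁻¹ := by rw [e]; simp [mul_assoc]
    rw [h1]
    exact mul_mem (mul_mem (inv_mem (hBP hb₁.1))
      (mul_mem (mul_mem hsP (hBP (Subgroup.mem_sup_left (F4.okx.Um_le _ hc)))) hsP))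
      (inv_mem (hBP (Subgroup.mem_sup_left (F4.okx.Um_le _ hu₁.1))))
  have hN := F4.okx.parabolic_normalizes (F := K) F4.cow_ok J hWP
  have hpar := allL_iff.mp (allL_iff.mp para_ok v hv) b (by cases b <;> decide)
  simp only [orR_iff, notR_iff] at hpar
  have hkeep : (allR 48 fun r => orR (notR (ipos (F4.T.htf r))) <| orR (inJB b r)
      (ipos (F4.T.htf (F4.T.piR (wd v) r)))) = true := by
    simp only [allR_iff, orR_iff, notR_iff, ipos_iff, Tabs.piR_eq, Bool.eq_false_iff, ne_eq]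
    intro r hr
    by_cases h0 : 0 < F4.T.htf r
    swap
    · exact Or.inl h0
    by_cases hin : inJB b r = true
    · exact Or.inr (Or.inl hin)
    refine Or.inr (Or.inr ?_)
    have hnot : ¬ chevF4.InRootSub J r := by
      intro hsub
      refine hin ?_
      simp only [inJB, allR_iff, orR_iff, anyL_iff, Nat.beq_eq, ieq_iff]
      intro k hk
      by_cases hkJ : k ∈ jw b
      · exact Or.inl ⟨k, hkJ, rfl⟩
      · exact Or.inr ((F4.okx.inSub_iff.mp hsub).2 k hk hkJ)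
    have hmem := (Subgroup.mem_normalizer_iff.mp hN _).mp
      (F4.okx.xG_mem_uJ J (F4.okx.toOK.isPos_iff.mpr ⟨hr, h0⟩) hnot (1 : K))
    rw [show W K (wd v) * F4.okx.toOK.xG r 1 * (W K (wd v))⁻¹ = X K (piW F4.T (wd v) r) 1 from
      W_conj (isW_wd v) hr 1] at hmem
    have hl := F4.okx.piW_lt (isW_wd v) hr
    by_contra hneg
    exact one_ne_zero (zero_of_neg_borel (K := K) hl
      (by have := F4.okx.toOK.ht_ne hl; omega) (Subgroup.mem_sup_left (F4.okx.uJ_le_pos J hmem)))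
  rcases hpar with h | h | h
  · exfalso
    have hW1 : W K (wd v) = 1 := (W_eq (isW_wd v) (fun i hi => absurd hi List.not_mem_nil) h).trans rfl
    rw [hW1, mul_one] at e
    have h1 : s * c * s ∈ chevF4.borelSubgroup K ⊓ chevF4.negUnipotent K := by
      refine Subgroup.mem_inf.mpr ⟨e ▸ mul_mem hb₁.1 (Subgroup.mem_sup_left (F4.okx.Um_le _ hu₁.1)), ?_⟩
      have := F4.okx.Um_conj_neg (isW_jw b) hc
      rwa [show F4.okx.toOK.gW K (jw b) = s from rfl, hs, W_jw_inv] at this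
    rw [F4.okx.toOK.borel_inf_neg, Subgroup.mem_bot] at h1
    refine hc1 ?_
    have h2 : s * (s * c * s) * s = c := by
      calc s * (s * c * s) * s = (s * s) * c * (s * s) := by simp [mul_assoc]
        _ = c := by rw [hs, W_sq, one_mul, mul_one]
    rw [← h2, h1, mul_one, hs, W_sq]
  · have hWv : W K (wd v) = s := W_eq (isW_wd v) (isW_jw b) h
    have hUm : F4.okx.Um K (wd v) = F4.okx.Um K (jw b) :=
      Um_congr fun r hr => piW_same (isW_wd v) (isW_jw b) h hr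
    rw [hWv] at e
    rw [hUm] at hu₁
    exact ⟨b₁, hb₁, u₁, hu₁, e⟩
  · rw [hkeep] at h; exact Bool.noConfusion h

theorem W_pair (b : Bool) (v : List Bool) : W K (jw b ++ wd v) = W K (jw b) * W K (wd v) := W_app _ _

/-- The step in the double cosets. -/
theorem bn_step (b : Bool) {v : List Bool} (hv : v ∈ L16) {u : GL chevF4.Idx K}
    (hu : u ∈ chevF4.posUnipotent K) (hF : u ∈ S.Fx) :
    (∃ c ∈ S.B1, ∃ d ∈ S.B1, W K (jw b) * u * W K (wd v) = c * (W K (jw b) * W K (wd v)) * d) ∨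
      ∃ c ∈ S.B1, ∃ d ∈ S.B1, W K (jw b) * u * W K (wd v) = c * W K (wd v) * d := by
  obtain ⟨a, ha, haF, ha', c, hc, hcF, rfl⟩ := S.split [b] hu hF
  rw [wd_single] at ha' hc
  set s := W K (jw b) with hs
  set n := W K (wd v) with hn
  have hsF := S.W_jw_fixed b
  have hnF := S.W_wd_fixed v
  have hA : s * a * s⁻¹ ∈ S.B1 := S.U_le_B1 ha' (mul_mem (mul_mem hsF haF) (inv_mem hsF))
  rcases side b hv with h | h
  · refine Or.inl ⟨_, hA, n⁻¹ * c * n, S.U_le_B1 (rev_pos_conj (isW_wd v) h hc)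
      (mul_mem (mul_mem (inv_mem hnF) hcF) hnF), ?_⟩
    simp [mul_assoc]
  · by_cases hc1 : c = 1
    · refine Or.inl ⟨_, hA, 1, one_mem _, ?_⟩
      rw [hc1]
      simp [mul_assoc]
    obtain ⟨b₁, hb₁, u₁, hu₁, e⟩ := S.levi_step b hc hcF hc1
    rw [← hs] at e
    have hsn := isW_app (isW_jw b) (isW_wd v)
    have hx := rev_pos_conj (K := K) hsn h hu₁.1
    rw [W_app, ← hs, ← hn] at hx
    refine Or.inr ⟨_, mul_mem hA hb₁, (s * n)⁻¹ * u₁ * (s * n),
      S.U_le_B1 hx (mul_mem (mul_mem (inv_mem (mul_mem hsF hnF)) hu₁.2) (mul_mem hsF hnF)), ?_⟩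
    have hss : s * s = 1 := W_sq b
    have hsi : s⁻¹ = s := W_jw_inv b
    calc s * (a * c) * n = s * a * s⁻¹ * (s * c * (s * s) * n) := by rw [hss]; simp [mul_assoc]
      _ = s * a * s⁻¹ * (b₁ * s * u₁ * (s * n)) := by rw [← e]; simp [mul_assoc]
      _ = _ := by rw [mul_inv_rev, hsi]; simp [mul_assoc]

/-- The Tits system of the fixed points. -/
noncomputable def bn : Cfsg.BNPair ↥S.Fx where
  B := (chevF4.borelSubgroup K).subgroupOf S.Fx
  N := (chevF4.monomialSubgroup K).subgroupOf S.Fx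
  S := {n | ∃ b, (n : GL chevF4.Idx K) = W K (jw b)}
  sup_eq_top := by
    rw [eq_top_iff]
    rintro ⟨g, hg⟩ -
    obtain ⟨v, -, b, hb, u, hu, rfl⟩ := S.exists_form hg
    have hbm : (⟨b, hb.2⟩ : ↥S.Fx) ∈ (chevF4.borelSubgroup K).subgroupOf S.Fx := hb.1
    have hnm : (⟨W K (wd v), S.W_wd_fixed v⟩ : ↥S.Fx) ∈ (chevF4.monomialSubgroup K).subgroupOf S.Fx :=
      W_monomial (isW_wd v)
    have hum : (⟨u, hu.2⟩ : ↥S.Fx) ∈ (chevF4.borelSubgroup K).subgroupOf S.Fx :=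
      Subgroup.mem_sup_left (F4.okx.Um_le _ hu.1)
    exact mul_mem (mul_mem (Subgroup.mem_sup_left hbm) (Subgroup.mem_sup_right hnm)) (Subgroup.mem_sup_left hum)
  conj_mem := by
    intro n hn t ht
    obtain ⟨htB, htN⟩ := Subgroup.mem_inf.mp ht
    rw [Subgroup.mem_subgroupOf] at hn htB htN ⊢
    have hd : (t : GL chevF4.Idx K) ∈ chevF4.diagonalSubgroup K := by
      rw [← F4.okx.toOK.borel_inf_monomial]; exact ⟨htB, htN⟩
    simp only [Subgroup.coe_mul, Subgroup.coe_inv]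
    exact Subgroup.mem_sup_right (F4.okx.diag_normal_conj hn hd)
  subset := by
    rintro n ⟨b, hb⟩
    show (n : GL chevF4.Idx K) ∈ chevF4.monomialSubgroup K
    rw [hb]; exact W_monomial (isW_jw b)
  sq_mem := by
    rintro n ⟨b, hb⟩
    rw [Subgroup.mem_subgroupOf, Subgroup.coe_mul, hb, W_sq]
    exact one_mem _
  inj := by
    rintro s ⟨b, hb⟩ s' ⟨b', hb'⟩ h
    rw [Subgroup.mem_subgroupOf, Subgroup.coe_mul, Subgroup.coe_inv, hb, hb'] at h
    have hd : (W K (jw b))⁻¹ * W K (jw b') ∈ chevF4.diagonalSubgroup K := by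
      rw [← F4.okx.toOK.borel_inf_monomial]
      exact Subgroup.mem_inf.mpr ⟨h, mul_mem (inv_mem (W_monomial (isW_jw b))) (W_monomial (isW_jw b'))⟩
    have hp := perm_of_diag (isW_jw b) (isW_jw b') hd 33 (by omega)
    have hbb : b = b' := by
      have key : ∀ b b', piW F4.T (jw b) 33 = piW F4.T (jw b') 33 → b = b' := by decide +kernel
      exact key b b' hp
    subst hbb
    exact Subtype.ext (hb.trans hb'.symm)
  closure_sup := by
    refine le_antisymm (sup_le ((Subgroup.closure_le _).mpr ?_) inf_le_right) fun n hn => ?_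
    · rintro n ⟨b, hb⟩
      show (n : GL chevF4.Idx K) ∈ chevF4.monomialSubgroup K
      rw [hb]; exact W_monomial (isW_jw b)
    obtain ⟨v, -, h, hh, e⟩ := S.monomial_form (show (n : GL chevF4.Idx K) ∈ _ from hn) n.2
    have key : ∀ v : List Bool, (⟨W K (wd v), S.W_wd_fixed v⟩ : ↥S.Fx) ∈
        Subgroup.closure {n : ↥S.Fx | ∃ b, (n : GL chevF4.Idx K) = W K (jw b)} := by
      intro v
      induction v with
      | nil => exact one_mem _
      | cons b v ih =>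
        have : (⟨W K (wd (b :: v)), S.W_wd_fixed (b :: v)⟩ : ↥S.Fx) =
            ⟨W K (jw b), S.W_jw_fixed b⟩ * ⟨W K (wd v), S.W_wd_fixed v⟩ :=
          Subtype.ext (by show W K (wd (b :: v)) = W K (jw b) * W K (wd v); rw [wd_cons, W_app])
        rw [this]
        exact mul_mem (Subgroup.subset_closure ⟨b, rfl⟩) ih
    have : n = ⟨h, hh.2⟩ * ⟨W K (wd v), S.W_wd_fixed v⟩ := Subtype.ext e
    rw [this]
    refine mul_mem (Subgroup.mem_sup_right (Subgroup.mem_inf.mpr ⟨?_, ?_⟩)) (Subgroup.mem_sup_left (key v))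
    · exact Subgroup.mem_subgroupOf.mpr (Subgroup.mem_sup_right hh.1)
    · exact Subgroup.mem_subgroupOf.mpr (Subgroup.mem_sup_left hh.1)
  mul_mem_union := by
    rintro s ⟨b, hb⟩ n hn x hx
    obtain ⟨v, hv, h', hh', en⟩ := S.monomial_form (show (n : GL chevF4.Idx K) ∈ _ from hn) n.2
    obtain ⟨u, hu, h, hh, ex⟩ := S.B1_split (Subgroup.mem_inf.mpr ⟨(show (x : GL chevF4.Idx K) ∈ _ from hx), x.2⟩)
    have hH2 := S.W_conj_Hs' v (mul_mem hh hh')
    have hs1 : W K (jw b) * h' * (W K (jw b))⁻¹ ∈ S.Hs := by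
      have := S.W_conj_Hs [b] hh'
      rwa [wd_single] at this
    have hs1' : (W K (jw b) * h' * (W K (jw b))⁻¹)⁻¹ ∈ chevF4.borelSubgroup K ⊓ S.Fx := inv_mem (S.Hs_le_B1 hs1)
    have hh'' : h'⁻¹ ∈ chevF4.borelSubgroup K ⊓ S.Fx := inv_mem (S.Hs_le_B1 hh')
    rcases S.bn_step b hv hu.1 hu.2 with ⟨c, hc, d, hd, e⟩ | ⟨c, hc, d, hd, e⟩
    · refine Or.inl (DoubleCoset.mem_doubleCoset.mpr
        ⟨⟨c * (W K (jw b) * h' * (W K (jw b))⁻¹)⁻¹, (mul_mem hc hs1').2⟩,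
          (mul_mem hc hs1').1,
          ⟨d * ((W K (wd v))⁻¹ * (h * h') * W K (wd v)), mul_mem hd.2 hH2.2⟩,
          mul_mem hd.1 (Subgroup.mem_sup_right hH2.1), Subtype.ext ?_⟩)
      simp only [Subgroup.coe_mul, hb, en, ex]
      calc W K (jw b) * (u * h) * (h' * W K (wd v))
          = W K (jw b) * u * W K (wd v) * ((W K (wd v))⁻¹ * (h * h') * W K (wd v)) := by simp [mul_assoc]
        _ = c * (W K (jw b) * W K (wd v)) * d * ((W K (wd v))⁻¹ * (h * h') * W K (wd v)) := by rw [e]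
        _ = _ := by simp [mul_assoc]
    · refine Or.inr (DoubleCoset.mem_doubleCoset.mpr
        ⟨⟨c * h'⁻¹, (mul_mem hc hh'').2⟩, (mul_mem hc hh'').1,
          ⟨d * ((W K (wd v))⁻¹ * (h * h') * W K (wd v)), mul_mem hd.2 hH2.2⟩,
          mul_mem hd.1 (Subgroup.mem_sup_right hH2.1), Subtype.ext ?_⟩)
      simp only [Subgroup.coe_mul, hb, en, ex]
      calc W K (jw b) * (u * h) * (h' * W K (wd v))
          = W K (jw b) * u * W K (wd v) * ((W K (wd v))⁻¹ * (h * h') * W K (wd v)) := by simp [mul_assoc]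
        _ = c * W K (wd v) * d * ((W K (wd v))⁻¹ * (h * h') * W K (wd v)) := by rw [e]
        _ = _ := by simp [mul_assoc]
  conj_ne := by
    rintro s ⟨b, hb⟩ hE
    obtain ⟨x, hx, hxF, hx1⟩ : ∃ x : GL chevF4.Idx K, x ∈ F4.okx.Um K (jw b) ∧ x ∈ S.Fx ∧ x ≠ 1 := by
      cases b
      · exact ⟨S.pA 1, nA_mem _ _, S.pA_fixed 1, fun e => one_ne_zero (nA_eq_one e).2⟩
      · exact ⟨S.pB 1 0, nB_mem _ _ _ _, S.pB_fixed 1 0, fun e => one_ne_zero (nB_eq_one e).2.1⟩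
    have hxB : (⟨x, hxF⟩ : ↥S.Fx) ∈ ((chevF4.borelSubgroup K).subgroupOf S.Fx : Set ↥S.Fx) :=
      Subgroup.mem_sup_left (F4.okx.Um_le _ hx)
    have h1 : s * (⟨x, hxF⟩ : ↥S.Fx) * s ∈ ((chevF4.borelSubgroup K).subgroupOf S.Fx : Set ↥S.Fx) :=
      hE ▸ ⟨_, hxB, rfl⟩
    rw [SetLike.mem_coe, Subgroup.mem_subgroupOf, Subgroup.coe_mul, Subgroup.coe_mul, hb] at h1
    have h2 : W K (jw b) * x * W K (jw b) ∈ chevF4.borelSubgroup K ⊓ chevF4.negUnipotent K := by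
      refine Subgroup.mem_inf.mpr ⟨h1, ?_⟩
      have := F4.okx.Um_conj_neg (isW_jw b) hx
      rwa [show F4.okx.toOK.gW K (jw b) = W K (jw b) from rfl, W_jw_inv] at this
    rw [F4.okx.toOK.borel_inf_neg, Subgroup.mem_bot] at h2
    refine hx1 ?_
    calc x = (W K (jw b) * W K (jw b)) * x * (W K (jw b) * W K (jw b)) := by rw [W_sq, one_mul, mul_one]
      _ = W K (jw b) * (W K (jw b) * x * W K (jw b)) * W K (jw b) := by simp [mul_assoc]
      _ = 1 := by rw [h2, mul_one, W_sq]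

theorem exists_bn : ∃ P : Cfsg.BNPair ↥S.G1,
    P.B = (chevF4.borelSubgroup K ⊓ S.G1).subgroupOf S.G1 ∧
      P.N = (chevF4.monomialSubgroup K ⊓ S.G1).subgroupOf S.G1 := by
  rw [← S.Fx_eq]
  exact ⟨S.bn, (Subgroup.inf_subgroupOf_right _ _).symm, (Subgroup.inf_subgroupOf_right _ _).symm⟩

theorem bn_core : S.bn.B.normalCore = ⊥ := by
  set C := S.bn.B.normalCore
  have hCB : C ≤ S.bn.B := Subgroup.normalCore_le _
  have hCn : C.Normal := Subgroup.normalCore_normal _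
  set n₀ : ↥S.Fx := ⟨W K (wd long), S.W_wd_fixed long⟩ with hn₀
  have hH : ∀ g ∈ C, (g : GL chevF4.Idx K) ∈ S.Hs := by
    intro g hg
    obtain ⟨u, hu, h, hh, e⟩ := S.B1_split (Subgroup.mem_inf.mpr ⟨hCB hg, g.2⟩)
    have h2 : (n₀ : GL chevF4.Idx K) * g * (n₀ : GL chevF4.Idx K)⁻¹ ∈ chevF4.borelSubgroup K :=
      hCB (hCn.conj_mem g hg n₀)
    simp only [Subgroup.coe_subtype] at e
    rw [e] at h2
    have h3 : W K (wd long) * u * (W K (wd long))⁻¹ ∈ chevF4.borelSubgroup K ⊓ chevF4.negUnipotent K := by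
      refine Subgroup.mem_inf.mpr ⟨?_, F4.okx.Um_conj_neg (isW_wd long) (by rw [Um_long]; exact hu.1)⟩
      have hh' : W K (wd long) * h * (W K (wd long))⁻¹ ∈ chevF4.borelSubgroup K :=
        Subgroup.mem_sup_right (S.W_conj_Hs long hh).1
      have := mul_mem h2 (inv_mem hh')
      simpa [hn₀, mul_assoc] using this
    rw [F4.okx.toOK.borel_inf_neg, Subgroup.mem_bot, mul_inv_eq_one] at h3
    rw [e, mul_eq_left.mp h3, one_mul]
    exact hh
  refine (Subgroup.eq_bot_iff_forall _).mpr fun g hg => ?_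
  obtain ⟨s, t, hs, ht, e⟩ := S.mem_Hs.mp (hH g hg)
  have hcomm : ∀ y : GL chevF4.Idx K, y ∈ chevF4.posUnipotent K → ∀ hyF : y ∈ S.Fx,
      S.hst s t * y * (S.hst s t)⁻¹ = y := by
    intro y hy hyF
    have hk : g * ⟨y, hyF⟩ * g⁻¹ * (⟨y, hyF⟩ : ↥S.Fx)⁻¹ ∈ C := by
      have := mul_mem hg (hCn.conj_mem g⁻¹ (inv_mem hg) ⟨y, hyF⟩)
      simpa [mul_assoc] using this
    have h1 := (hH _ hk).1
    simp only [Subgroup.coe_mul, Subgroup.coe_inv, e] at h1
    have h2 : S.hst s t * y * (S.hst s t)⁻¹ * y⁻¹ ∈ chevF4.posUnipotent K ⊓ chevF4.diagonalSubgroup K :=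
      Subgroup.mem_inf.mpr ⟨mul_mem ((Subgroup.mem_normalizer_iff.mp
        (F4.okx.toOK.diag_normalizes_pos (S.hst_diag hs ht)) y).mp hy) (inv_mem hy), h1⟩
    rw [F4.okx.toOK.pos_inf_diag, Subgroup.mem_bot, mul_inv_eq_one] at h2
    exact h2
  have hA := hcomm (S.pA 1) (F4.okx.Um_le _ (nA_mem _ _)) (S.pA_fixed 1)
  rw [pA, nA, ← conj_mul, S.hst_conj_X hs ht (by omega), S.hst_conj_X hs ht (by omega)] at hA
  obtain ⟨a1, a2⟩ := nA_inj hA
  have hB := hcomm (S.pB 1 0) (F4.okx.Um_le _ (nB_mem _ _ _ _)) (S.pB_fixed 1 0)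
  rw [pB, nB, ← conj_mul, ← conj_mul, ← conj_mul, S.hst_conj_X hs ht (by omega), S.hst_conj_X hs ht (by omega),
    S.hst_conj_X hs ht (by omega), S.hst_conj_X hs ht (by omega)] at hB
  obtain ⟨b1, b2, -, -⟩ := nB_inj hB
  simp only [one_pow, mul_one] at a1 a2 b1 b2
  refine Subtype.ext ?_
  rw [e, hst]
  show F4.okx.toOK.torG (S.hv s t) = 1
  let c : Fin chevF4.rank → Kˣ := fun i => Units.mk0 (S.hv s t i) (S.hv_ne hs ht i i.isLt)
  have e2 : F4.okx.toOK.torG (S.hv s t) = F4.okx.toOK.torG (OK.param c) :=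
    F4.okx.toOK.torG_congr (S.hv_ne hs ht) fun i hi => by rw [OK.param, dif_pos hi]; rfl
  rw [e2, F4.okx.toOK.torG_eq_one_iff]
  funext k
  refine Units.ext ?_
  rw [monoMap_apply, Units.coe_prod]
  show ∏ i : Fin 4, (((c i) ^ OK.torMat chevF4 F4.T k i : Kˣ) : K) = 1
  rw [Fin.prod_univ_four]
  simp only [Units.val_zpow_eq_zpow_val, c, Units.val_mk0, OK.torMat]
  have hk : (k : ℕ) < 4 := k.isLt
  have r0 : F4.T.smp 0 = 33 := by decide +kernel
  have r1 : F4.T.smp 1 = 27 := by decide +kernel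
  have r2 : F4.T.smp 2 = 25 := by decide +kernel
  have r3 : F4.T.smp 3 = 24 := by decide +kernel
  obtain ⟨k, hk'⟩ := k
  interval_cases k <;> simp only [r0, r1, r2, r3] <;> simp only [hv] <;> simp [mul_assoc, *]

theorem core_G1 : ((chevF4.borelSubgroup K ⊓ S.G1).subgroupOf S.G1).normalCore = ⊥ := by
  rw [← S.Fx_eq, Subgroup.inf_subgroupOf_right]
  exact S.bn_core

/-! ### The Weyl group -/

theorem exists_weyl : ∃ φ : ↥(chevF4.monomialSubgroup K ⊓ S.G1) →* DihedralGroup 8, Function.Surjective φ ∧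
    φ.ker = (chevF4.diagonalSubgroup K ⊓ S.G1).subgroupOf (chevF4.monomialSubgroup K ⊓ S.G1) := by
  rw [← S.Fx_eq]
  set M := chevF4.monomialSubgroup K ⊓ S.Fx
  set f : DihedralGroup 8 → GL chevF4.Idx K := fun d => W K (wd (dwd d)) with hf
  have hmul : ∀ d d', f d * f d' = f (d * d') := fun d d' => by
    rw [hf]; simp only
    rw [← W_app, ← wd_app]
    exact W_eq (isW_wd _) (isW_wd _) (dih_mul d d')
  have hone : ∀ d, f d ∈ S.Hs → d = 1 := fun d hd => by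
    refine dih_inj d (F4.okx.sameI_of_piW fun k hk => ?_)
    exact F4.okx.toOK.act_unique (F4.okx.toOK.act_gW (F := K) _ (isW_wd _)) (F4.okx.toOK.act_diag hd.1)
      (F4.okx.toOK.smp_lt hk)
  have hex : ∀ n : ↥M, ∃ d, (n : GL chevF4.Idx K) * (f d)⁻¹ ∈ S.Hs := by
    intro n
    obtain ⟨v, hv, h, hh, e⟩ := S.monomial_form (Subgroup.mem_inf.mp n.2).1 (Subgroup.mem_inf.mp n.2).2
    obtain ⟨d, hd⟩ := dih_sur v hv
    refine ⟨d, ?_⟩
    rw [e, hf]; simp only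
    rw [← W_eq (isW_wd v) (isW_wd _) hd, mul_inv_cancel_right]
    exact hh
  have huniq : ∀ (x : GL chevF4.Idx K) d d', x * (f d)⁻¹ ∈ S.Hs → x * (f d')⁻¹ ∈ S.Hs → d = d' := by
    intro x d d' h h'
    have h1 : f d * (f d')⁻¹ ∈ S.Hs := by
      have := mul_mem (inv_mem h) h'
      simpa [mul_assoc] using this
    have h2 : f d' ⁻¹ = (f d')⁻¹ := by
      refine eq_inv_of_mul_eq_one_right ?_
      rw [hmul, mul_inv_cancel]
      rfl
    rw [← h2, hmul] at h1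
    exact mul_inv_eq_one.mp (hone _ h1)
  choose φ hφ using hex
  have hconj : ∀ d, ∀ h ∈ S.Hs, f d * h * (f d)⁻¹ ∈ S.Hs := fun d h hh => S.W_conj_Hs (dwd d) hh
  let Φ : ↥M →* DihedralGroup 8 := MonoidHom.mk' φ fun a b => huniq _ _ _ (hφ (a * b)) (by
    have := mul_mem (hφ a) (hconj (φ a) _ (hφ b))
    rw [← hmul, mul_inv_rev]
    simpa [mul_assoc] using this)
  refine ⟨Φ, fun d => ?_, ?_⟩
  · have hm : f d ∈ M := Subgroup.mem_inf.mpr ⟨W_monomial (isW_wd _), S.W_wd_fixed _⟩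
    exact ⟨⟨f d, hm⟩, huniq (f d) _ _ (hφ ⟨f d, hm⟩) (by rw [mul_inv_cancel]; exact one_mem _)⟩
  · have f1 : f 1 = 1 := rfl
    ext n
    rw [MonoidHom.mem_ker, Subgroup.mem_subgroupOf]
    show φ n = 1 ↔ _
    constructor
    · intro h
      have := hφ n
      rwa [h, f1, inv_one, mul_one] at this
    · intro h
      exact huniq n _ _ (hφ n) (by rw [f1, inv_one, mul_one]; exact h)

end Ctx

end Cfsg.Agent.Chev.Ree4
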