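import Cfsg.Agent.Lib.Chev.IsogData
import Cfsg.Agent.Lib.Chev.Poincare
import Cfsg.Agent.Lib.Chev.Cow

/-! Checks on the tables of F4 for the large Ree groups. -/

set_option autoImplicit false
set_option maxRecDepth 20000

namespace Cfsg.Agent.Chev.Ree4

open Cfsg.Lie

/-- The word of a class of fundamental roots. -/
noncomputable def jw (b : Bool) : List ℕ := @Bool.rec (fun _ => List ℕ) [0, 3] [1, 2, 1, 2] b

/-- The word of a list of classes. -/
noncomputable def wd (v : List Bool) : List ℕ := flatR jw v

/-- Representatives of the Weyl group of the fixed points. -/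
def L16 : List (List Bool) :=
  [[], [false], [true], [false, true], [true, false], [false, true, false], [true, false, true],
    [false, true, false, true], [true, false, true, false], [false, true, false, true, false],
    [true, false, true, false, true], [false, true, false, true, false, true], [true, false, true, false, true, false],
    [false, true, false, true, false, true, false], [true, false, true, false, true, false, true],
    [false, true, false, true, false, true, false, true]]

noncomputable def per (r : ℕ) : ℕ := F4.isoTab.perI r

noncomputable def imgs (w : List ℕ) : List ℕ := Tabs.imgs chevF4 F4.T w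

noncomputable def sameI (v w : List ℕ) : Bool := eqL Nat.beq (imgs v) (imgs w)

/-- Positive and moved to negative. -/
noncomputable def negd (w : List ℕ) (r : ℕ) : Bool :=
  andR (ipos (F4.T.htf r)) (notR (ipos (F4.T.htf (F4.T.piR w r))))

noncomputable def chkPer : Bool :=
  andR (allR 48 fun r => beqB (ipos (F4.T.htf (per r))) (ipos (F4.T.htf r))) <|
  andR (allR 4 fun i => andR (Nat.beq (per (F4.T.smp i)) (F4.T.smp (Nat.sub 3 i)))
    (Nat.beq (F4.isoTab.lamI (F4.T.smp i)) (@Bool.rec (fun _ => ℕ) 1 2 (nlt i 2)))) <|
  andR (sameI [2, 1, 2, 1] [1, 2, 1, 2]) <| andR (sameI [3, 0] [0, 3]) <|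
  andR (sameI (appR (jw false) (jw false)) []) <| sameI (appR (jw true) (jw true)) []

/-- The conditions on one class followed by a word. -/
noncomputable def chkStep (b : Bool) (v : List Bool) : Bool :=
  allR 48 fun r =>
    andR (orR (notR (negd (wd v) r)) (negd (appR (jw b) (wd v)) r))
      (orR (notR (negd (jw b) r)) (ipos (F4.T.htf (F4.T.piR (wd v).reverse r))))

noncomputable def chkRed : Bool :=
  allL (fun v => @List.rec Bool (fun _ => Bool) true
    (fun b v' _ => andR (chkStep b v') (anyL (fun u => eqL beqB u v') L16)) v) L16

noncomputable def chkClosed : Bool :=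
  allL (fun v => allL (fun b => anyL (fun u => sameI (appR (jw b) (wd v)) (wd u)) L16) [false, true]) L16

noncomputable def chkDist : Bool :=
  Tabs.chkDistinct (mapR (fun v => imgs (wd v)) L16)

/-- Either all positive roots of a class stay positive under the inverse, or all become negative. -/
noncomputable def chkSide : Bool :=
  allL (fun v => allL (fun b =>
    orR (allR 48 fun r => orR (notR (negd (jw b) r)) (ipos (F4.T.htf (F4.T.piR (wd v).reverse r))))
      (allR 48 fun r => orR (notR (negd (jw b) r))
        (ipos (F4.T.htf (F4.T.piR (appR (jw b) (wd v)).reverse r))))) [false, true]) L16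

noncomputable def inJB (b : Bool) (r : ℕ) : Bool :=
  allR 4 fun k => orR (anyL (Nat.beq k) (jw b)) (ieq (F4.T.cC r k) 0)

/-- Only two representatives keep the radical positive. -/
noncomputable def chkPara : Bool :=
  allL (fun v => allL (fun b => orR (sameI (wd v) []) <| orR (sameI (wd v) (jw b)) <|
    notR (allR 48 fun r => orR (notR (ipos (F4.T.htf r))) <| orR (inJB b r)
      (ipos (F4.T.htf (F4.T.piR (wd v) r))))) [false, true]) L16

/-- The class of a root, or membership of the radical. -/
noncomputable def chkClass : Bool :=
  allL (fun b => allR 48 fun r => orR (notR (negd (jw b) r)) (inJB b r)) [false, true]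

noncomputable def chkLong : Bool :=
  allR 48 fun r => orR (notR (ipos (F4.T.htf r)))
    (negd (wd [false, true, false, true, false, true, false, true]) r)

noncomputable def chkCount : Bool :=
  allL (fun v => Nat.beq (negCountR (wd v)) (lenR v)) L16
where
  negCountR (w : List ℕ) : ℕ :=
    @Nat.rec (fun _ => ℕ) 0 (fun r acc => @Bool.rec (fun _ => ℕ) acc (Nat.succ acc) (negd w r)) 48
  lenR (v : List Bool) : ℕ :=
    @List.rec Bool (fun _ => ℕ) 0 (fun b _ acc => Nat.add (@Bool.rec (fun _ => ℕ) 2 4 b) acc) v

noncomputable def chkRho : Bool :=
  allR 4 fun i => allR 48 fun r => Nat.beq (F4.T.refl (Nat.sub 3 i) (per r)) (per (F4.T.refl i r))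

theorem rho_ok : chkRho = true := by decide +kernel
theorem per_ok : chkPer = true := by decide +kernel
theorem red_ok : chkRed = true := by decide +kernel
theorem closed_ok : chkClosed = true := by decide +kernel
theorem dist_ok : chkDist = true := by decide +kernel
theorem side_ok : chkSide = true := by decide +kernel
theorem para_ok : chkPara = true := by decide +kernel
theorem class_ok : chkClass = true := by decide +kernel
theorem long_ok : chkLong = true := by decide +kernel
theorem count_ok : chkCount = true := by decide +kernel

/-- The word of an element of the dihedral group. -/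
def dwd : DihedralGroup 8 → List Bool
  | .r i => (List.replicate i.val [false, true]).flatten
  | .sr i => false :: (List.replicate i.val [false, true]).flatten

theorem dih_mul : ∀ d d' : DihedralGroup 8, sameI (wd (dwd d ++ dwd d')) (wd (dwd (d * d'))) = true := by
  decide +kernel

theorem dih_inj : ∀ d : DihedralGroup 8, sameI (wd (dwd d)) [] = true → d = 1 := by decide +kernel

theorem dih_sur : ∀ v ∈ L16, ∃ d : DihedralGroup 8, sameI (wd v) (wd (dwd d)) = true := by decide +kernel

end Cfsg.Agent.Chev.Ree4
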