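import Cfsg.Agent.Lib.Chev.Ree4U
import Cfsg.Agent.Lib.Chev.Para

/-!
The large Ree groups: the group of the fixed points is the group generated by the given elements; normal forms.
-/

set_option autoImplicit false
set_option maxRecDepth 20000

namespace Cfsg.Agent.Chev.Ree4

open Cfsg.Lie

variable {K : Type*} [Field K] [Fintype K] [CharP K 2]

theorem charP_of_card {m : ℕ} {F : Type*} [Field F] [Fintype F] (h : Fintype.card F = 2 ^ (2 * m + 1)) :
    CharP F 2 := by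
  obtain ⟨p, hp⟩ := CharP.exists F
  obtain ⟨n, hn, hcard⟩ := FiniteField.card F p
  have hd : p ∣ 2 ^ (2 * m + 1) := by rw [← h, hcard]; exact dvd_pow_self p n.ne_zero
  have := (Nat.prime_dvd_prime_iff_eq hn Nat.prime_two).mp (hn.dvd_of_dvd_pow hd)
  exact this ▸ hp

theorem nG_X (r : ℕ) (hr : r < 48) (t : K) :
    F4.okx.toOK.nG r t = X K r t * X K (F4.T.neg r) t⁻¹ * X K r t := by
  rw [F4.okx.toOK.nG_eq hr, CharTwo.neg_eq]

theorem hG_nn (r : ℕ) (t : K) : F4.okx.toOK.hG r t = F4.okx.toOK.nG r t * F4.okx.toOK.nG r 1 := by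
  rw [OK.hG_eq, CharTwo.neg_eq]

theorem complete : ∀ v : List Bool, ∃ u ∈ L16, ∀ r < 48, piW F4.T (wd v) r = piW F4.T (wd u) r
  | [] => ⟨[], by decide, fun _ _ => rfl⟩
  | b :: v => by
    obtain ⟨u, hu, hue⟩ := complete v
    have h := allL_iff.mp (allL_iff.mp closed_ok u hu) b (by cases b <;> decide)
    rw [anyL_iff] at h
    obtain ⟨u', hu', he⟩ := h
    rw [appR_eq] at he
    refine ⟨u', hu', fun r hr => ?_⟩
    rw [wd_cons, piW_append, hue r hr, ← piW_append]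
    exact piW_same (isW_app (isW_jw b) (isW_wd u)) (isW_wd u') he hr

theorem distinct {u v : List Bool} (hu : u ∈ L16) (hv : v ∈ L16)
    (h : ∀ r < 48, piW F4.T (wd u) r = piW F4.T (wd v) r) : u = v := by
  have hd := dist_ok
  rw [chkDist, mapR_eq] at hd
  have hp : ∀ L : List (List Bool), Tabs.chkDistinct (L.map fun v => imgs (wd v)) = true →
      L.Pairwise fun a b => sameI (wd a) (wd b) = false := by
    intro L
    induction L with
    | nil => intro _; exact List.Pairwise.nil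
    | cons a L ih =>
      intro h
      replace h : andR (allL (fun b => notR (eqL Nat.beq (imgs (wd a)) b)) (L.map fun v => imgs (wd v)))
          (Tabs.chkDistinct (L.map fun v => imgs (wd v))) = true := h
      simp only [andR_iff, allL_iff, List.mem_map, notR_iff] at h
      exact List.pairwise_cons.mpr ⟨fun b hb => h.1 _ ⟨b, hb, rfl⟩, ih h.2⟩
  have hs : sameI (wd u) (wd v) = true :=
    F4.okx.sameI_of_piW fun k hk => h _ (F4.okx.toOK.smp_lt hk)
  have hs' : sameI (wd v) (wd u) = true :=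
    F4.okx.sameI_of_piW fun k hk => (h _ (F4.okx.toOK.smp_lt hk)).symm
  by_contra hne
  obtain ⟨i, hi, rfl⟩ := List.mem_iff_getElem.mp hu
  obtain ⟨j, hj, rfl⟩ := List.mem_iff_getElem.mp hv
  rcases Nat.lt_or_ge i j with h' | h'
  · rw [List.pairwise_iff_getElem.mp (hp L16 hd) i j hi hj h'] at hs; exact Bool.false_ne_true hs
  · rcases Nat.eq_or_lt_of_le h' with rfl | h''
    · exact hne rfl
    · rw [List.pairwise_iff_getElem.mp (hp L16 hd) j i hj hi h''] at hs'; exact Bool.false_ne_true hs'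

theorem Um_congr {v w : List ℕ} (h : ∀ r < 48, piW F4.T v r = piW F4.T w r) :
    F4.okx.Um K v = F4.okx.Um K w := by
  rw [OKX.Um, OKX.Um]
  congr 1
  ext y
  exact ⟨fun ⟨r, t, h1, h2, e⟩ => ⟨r, t, h1, by rw [← h r h1.1]; exact h2, e⟩,
    fun ⟨r, t, h1, h2, e⟩ => ⟨r, t, h1, by rw [h r h1.1]; exact h2, e⟩⟩

/-- A word negative on the fundamental roots of a class is negative on the positive roots of the class. -/
theorem neg_of_class {b : Bool} {w : List ℕ} (hw : IsW w)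
    (h : ∀ k ∈ jw b, F4.T.htf (piW F4.T w (F4.T.smp k)) < 0) {r : ℕ} (hr : r < 48)
    (hn : negd (jw b) r = true) : F4.T.htf (piW F4.T w r) < 0 := by
  obtain ⟨h0, -⟩ := (negd_iff (isW_jw b) hr).mp hn
  have hin : inJB b r = true := by
    have := allR_iff.mp (allL_iff.mp class_ok b (by cases b <;> decide)) r hr
    rw [orR_iff, notR_iff] at this
    exact this.resolve_left (by simp [hn])
  simp only [inJB, allR_iff, orR_iff, anyL_iff, Nat.beq_eq, ieq_iff] at hin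
  have hlt := F4.okx.piW_lt hw hr
  by_contra hc
  have hp : chevF4.IsPosRoot (piW F4.T w r) :=
    F4.okx.toOK.isPos_iff.mpr ⟨hlt, by have := F4.okx.toOK.ht_ne hlt; omega⟩
  have hrp : ∀ k < chevF4.rank, 0 ≤ F4.T.cC r k := fun k hk =>
    ((F4.okx.toOK.isPos_iff (r := r)).mpr ⟨hr, h0⟩).2 _
      (by rw [F4.okx.toOK.coroot_list hr]; exact List.mem_map.mpr ⟨k, List.mem_range.mpr hk, rfl⟩)
  obtain ⟨a, ha, b', hb', x, y, hxy⟩ := F4.okx.toOK.bezout hlt
  have hz : ∀ j < chevF4.rank, F4.T.cC (piW F4.T w r) j = 0 := by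
    intro j hj
    refine le_antisymm ?_
      (hp.2 _ (by rw [F4.okx.toOK.coroot_list hlt]; exact List.mem_map.mpr ⟨j, List.mem_range.mpr hj, rfl⟩))
    rw [F4.okx.cC_piW hw hr hj]
    refine Finset.sum_nonpos fun k hk => ?_
    rcases hin k (Finset.mem_range.mp hk) with ⟨k', hk', rfl⟩ | e
    · refine mul_nonpos_of_nonneg_of_nonpos (hrp k (Finset.mem_range.mp hk)) ?_
      have hk'' := F4.okx.piW_lt hw (F4.okx.toOK.smp_lt (isW_jw b k hk'))
      have hng : chevF4.IsNegRoot (piW F4.T w (F4.T.smp k)) := F4.okx.toOK.isNeg_iff.mpr ⟨hk'', h k hk'⟩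
      exact hng.2 _ (by rw [F4.okx.toOK.coroot_list hk'']; exact List.mem_map.mpr ⟨j, List.mem_range.mpr hj, rfl⟩)
    · rw [e, zero_mul]
  rw [hz a ha, hz b' hb'] at hxy
  simp at hxy

theorem mem_jw {i : ℕ} (hi : i < 4) : ∃ b, i ∈ jw b ∧ ∀ k ∈ jw b, k = i ∨ k = 3 - i := by
  interval_cases i
  · exact ⟨false, by decide +kernel, by decide +kernel⟩
  · exact ⟨true, by decide +kernel, by decide +kernel⟩
  · exact ⟨true, by decide +kernel, by decide +kernel⟩
  · exact ⟨false, by decide +kernel, by decide +kernel⟩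

theorem jw_jw {b : Bool} {r : ℕ} (hr : r < 48) : piW F4.T (jw b) (piW F4.T (jw b) r) = r := by
  rw [← piW_append]
  have h := per_ok
  simp only [chkPer, andR_iff, appR_eq] at h
  have e : sameI (jw b ++ jw b) [] = true := by
    cases b
    · exact h.2.2.2.2.1
    · exact h.2.2.2.2.2
  exact piW_same (isW_app (isW_jw b) (isW_jw b)) (fun i hi => absurd hi List.not_mem_nil) e hr

/-- Words commuting with the symmetry are products of the class representatives. -/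
theorem fixed_word : ∀ (n : ℕ) (w : List ℕ), IsW w → F4.okx.negCount w ≤ n →
    (∀ r < 48, piW F4.T w (per r) = per (piW F4.T w r)) →
    ∃ v ∈ L16, ∀ r < 48, piW F4.T w r = piW F4.T (wd v) r := by
  intro n
  induction n using Nat.strong_induction_on with
  | _ n ih =>
    intro w hw hn hc
    by_cases h : ∀ i < chevF4.rank, ¬ F4.T.htf (piW F4.T w (F4.T.smp i)) < 0
    · refine ⟨[], by decide, fun r hr => ?_⟩
      have hd := F4.okx.gW_mem_diag_of_pos (F := ℚ) _ w rfl hw fun s hs h0 => F4.okx.pos_of_simple hw h hs h0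
      exact F4.okx.toOK.act_unique (F4.okx.toOK.act_gW (F := ℚ) w hw) (F4.okx.toOK.act_diag hd) hr
    push Not at h
    obtain ⟨i, hi, hneg⟩ := h
    have hi' : i < 4 := hi
    obtain ⟨b, hib, hb⟩ := mem_jw hi'
    have hsm : ∀ k ∈ jw b, F4.T.htf (piW F4.T w (F4.T.smp k)) < 0 := by
      intro k hk
      rcases hb k hk with rfl | rfl
      · exact hneg
      · have hs := F4.okx.toOK.smp_lt hi
        rw [← (per_smp hi').1, hc _ hs]
        have hl := F4.okx.piW_lt hw hs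
        have := per_pos hl
        have := F4.okx.toOK.ht_ne (per_facts hl).1
        omega
    set w' := w ++ jw b with hw'
    have hww : IsW w' := isW_app hw (isW_jw b)
    have hlt : F4.okx.negCount w' < F4.okx.negCount w := by
      classical
      refine lt_of_le_of_lt
        (b := (((Finset.range chevF4.nroots).filter fun r =>
          0 < F4.T.htf r ∧ F4.T.htf (piW F4.T w r) < 0).erase (F4.T.smp i)).card)
        (Finset.card_le_card_of_injOn (piW F4.T (jw b)) ?_ ?_) (Finset.card_erase_lt_of_mem ?_)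
      · intro r hr
        simp only [Finset.coe_filter, Set.mem_setOf_eq, Finset.mem_range] at hr
        obtain ⟨hr1, hr2, hr3⟩ := hr
        have hr1' : r < 48 := hr1
        have hl := F4.okx.piW_lt (isW_jw b) hr1
        rw [hw', piW_append] at hr3
        have hJ : 0 < F4.T.htf (piW F4.T (jw b) r) := by
          by_contra hneg'
          have hne := F4.okx.toOK.ht_ne hl
          have hnn := F4.okx.toOK.neg_lt hl
          have h1 : negd (jw b) (F4.T.neg (piW F4.T (jw b) r)) = true := by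
            refine (negd_iff (isW_jw b) hnn).mpr ⟨by rw [F4.okx.toOK.ht_neg hl]; omega, ?_⟩
            rw [F4.okx.piW_neg (isW_jw b) hl, jw_jw hr1', F4.okx.toOK.ht_neg hr1]
            omega
          have h2 := neg_of_class hw hsm hnn h1
          rw [F4.okx.piW_neg hw hl, F4.okx.toOK.ht_neg (F4.okx.piW_lt hw hl)] at h2
          omega
        simp only [Finset.coe_erase, Set.mem_diff, Finset.mem_coe, Finset.mem_filter, Finset.mem_range,
          Set.mem_singleton_iff]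
        refine ⟨⟨hl, hJ, hr3⟩, fun e => ?_⟩
        have key : ∀ b : Bool, ∀ k ∈ jw b, negd (jw b) (F4.T.smp k) = true := by decide +kernel
        have h3 := ((negd_iff (isW_jw b) (F4.okx.toOK.smp_lt hi)).mp (key b i hib)).2
        rw [← e, jw_jw hr1'] at h3
        omega
      · intro r hr s hs e
        simp only [Finset.coe_filter, Set.mem_setOf_eq, Finset.mem_range] at hr hs
        rw [← jw_jw (b := b) hr.1, e, jw_jw hs.1]
      · simp only [Finset.mem_filter, Finset.mem_range]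
        exact ⟨F4.okx.toOK.smp_lt hi, by rw [(F4.okx.toOK.smp_spec hi).1]; norm_num, hneg⟩
    have hjper : ∀ r < 48, piW F4.T (jw b) (per r) = per (piW F4.T (jw b) r) := fun r hr => by
      have := Ctx.wd_per [b] hr
      rwa [show wd [b] = jw b by simp [wd_eq]] at this
    obtain ⟨v, hv, hve⟩ := ih _ (lt_of_lt_of_le hlt hn) w' hww le_rfl fun r hr => by
      rw [hw', piW_append, piW_append, hjper r hr, hc _ (F4.okx.piW_lt (isW_jw b) hr)]
    obtain ⟨u, hu, hue⟩ := complete (v ++ [b])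
    refine ⟨u, hu, fun r hr => ?_⟩
    rw [← hue r hr, wd_app, piW_append, show wd [b] = jw b by simp [wd_eq],
      ← hve _ (F4.okx.piW_lt (isW_jw b) hr), hw', piW_append, jw_jw hr]

namespace Ctx

variable (S : Ctx K)

/-- A negative element of the class of type A₁ × A₁. -/
noncomputable def cA (t : K) : GL chevF4.Idx K := X K 14 (t ^ S.e) * X K 23 t

/-- A negative element of the class of type B₂. -/
noncomputable def cB (t u : K) : GL chevF4.Idx K :=
  X K 20 (t ^ S.e) * X K 22 t * (X K 19 (t ^ (S.e + 1) + u) * X K 17 (u ^ (2 * S.e)))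

theorem cA_eq (t : K) : W K (jw false) * S.pA t * (W K (jw false))⁻¹ = S.cA t := by
  rw [pA, nA, ← conj_mul, W_conj (isW_jw _) (by omega), W_conj (isW_jw _) (by omega),
    show piW F4.T (jw false) 33 = 14 by decide +kernel, show piW F4.T (jw false) 24 = 23 by decide +kernel, cA]

theorem cB_eq (t u : K) : W K (jw true) * S.pB t u * (W K (jw true))⁻¹ = S.cB t u := by
  rw [pB, nB, ← conj_mul, ← conj_mul, ← conj_mul, W_conj (isW_jw _) (by omega), W_conj (isW_jw _) (by omega),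
    W_conj (isW_jw _) (by omega), W_conj (isW_jw _) (by omega), show piW F4.T (jw true) 27 = 20 by decide +kernel,
    show piW F4.T (jw true) 25 = 22 by decide +kernel, show piW F4.T (jw true) 28 = 19 by decide +kernel,
    show piW F4.T (jw true) 30 = 17 by decide +kernel, cB]

/-- The given group. -/
abbrev G1 : Subgroup (GL chevF4.Idx K) := twistedF4 K S.e

theorem word_mem_G1 {w : List (ℕ × K)} (hw : w ∈ f4Words K S.e) : F4.okx.toOK.wordG w ∈ S.G1 :=
  Subgroup.subset_closure ⟨w, hw, F4.okx.toOK.coe_wordG w⟩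

theorem pA_word (t : K) : F4.okx.toOK.wordG (f4PairWord S.e f4p1 f4p4 t) = S.pA t := by
  simp [OK.wordG, f4PairWord, f4p1, f4p4, pA, nA]

theorem cA_word (t : K) : F4.okx.toOK.wordG (f4PairWord S.e f4m1 f4m4 t) = S.cA t := by
  simp [OK.wordG, f4PairWord, f4m1, f4m4, cA]

theorem pB_word (t u : K) : F4.okx.toOK.wordG (b2ClassWord S.e f4a f4b f4ab f4aab t u) = S.pB t u := by
  simp [OK.wordG, b2ClassWord, f4a, f4b, f4ab, f4aab, pB, nB, mul_assoc]

theorem cB_word (t u : K) : F4.okx.toOK.wordG (b2ClassWord S.e f4ma f4mb f4mab f4maab t u) = S.cB t u := by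
  simp [OK.wordG, b2ClassWord, f4ma, f4mb, f4mab, f4maab, cB, mul_assoc]

theorem pA_mem (t : K) : S.pA t ∈ S.G1 := S.pA_word t ▸ S.word_mem_G1 (Or.inl ⟨t, Or.inl rfl⟩)

theorem cA_mem (t : K) : S.cA t ∈ S.G1 := S.cA_word t ▸ S.word_mem_G1 (Or.inl ⟨t, Or.inr rfl⟩)

theorem pB_mem (t u : K) : S.pB t u ∈ S.G1 := S.pB_word t u ▸ S.word_mem_G1 (Or.inr ⟨t, u, Or.inl rfl⟩)

theorem cB_mem (t u : K) : S.cB t u ∈ S.G1 := S.cB_word t u ▸ S.word_mem_G1 (Or.inr ⟨t, u, Or.inr rfl⟩)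

theorem W_jw_fixed (b : Bool) : W K (jw b) ∈ S.Fx := ⟨W_mem (isW_jw b), S.sg_W_jw b⟩

theorem G1_le_Fx : S.G1 ≤ S.Fx := by
  refine (Subgroup.closure_le _).mpr ?_
  rintro x ⟨w, hw, hx⟩
  have hA := S.W_jw_fixed false
  have hB := S.W_jw_fixed true
  have e : x = F4.okx.toOK.wordG w := Units.ext (hx.trans (F4.okx.toOK.coe_wordG w).symm)
  subst e
  rcases hw with ⟨t, rfl | rfl⟩ | ⟨t, u, rfl | rfl⟩
  · rw [S.pA_word]; exact S.pA_fixed t
  · rw [S.cA_word, ← S.cA_eq]; exact mul_mem (mul_mem hA (S.pA_fixed t)) (inv_mem hA)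
  · rw [S.pB_word]; exact S.pB_fixed t u
  · rw [S.cB_word, ← S.cB_eq]; exact mul_mem (mul_mem hB (S.pB_fixed t u)) (inv_mem hB)

theorem nel_A (t : K) : S.pA t * S.cA t⁻¹ * S.pA t =
    F4.okx.toOK.nG 33 (t ^ S.e) * F4.okx.toOK.nG 24 t := by
  have c1 : ∀ x y : K, X K 24 x * X K 14 y = X K 14 y * X K 24 x := X_comm (by decide +kernel)
  have c2 : ∀ x y : K, X K 23 x * X K 33 y = X K 33 y * X K 23 x := X_comm (by decide +kernel)
  have c3 : ∀ x y : K, X K 24 x * X K 33 y = X K 33 y * X K 24 x := X_comm (by decide +kernel)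
  rw [pA, cA, nA, nG_X 33 (by omega), nG_X 24 (by omega), show F4.T.neg 33 = 14 by decide +kernel,
    show F4.T.neg 24 = 23 by decide +kernel, inv_pow]
  simp only [mul_assoc]
  congr 1
  rw [← mul_assoc (X K 24 t), c1, mul_assoc, ← mul_assoc (X K 23 t⁻¹), c2, mul_assoc, ← mul_assoc (X K 24 t), c3,
    mul_assoc]

theorem W_A_mem : W K (jw false) ∈ S.G1 := by
  have h : S.pA 1 * S.cA 1⁻¹ * S.pA 1 ∈ S.G1 := mul_mem (mul_mem (S.pA_mem 1) (S.cA_mem _)) (S.pA_mem 1)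
  rw [S.nel_A 1, one_pow] at h
  have e : W K (jw false) = F4.okx.toOK.nG 33 (1 : K) * F4.okx.toOK.nG 24 1 := by
    show F4.okx.toOK.gW K [0, 3] = _
    rw [F4.okx.toOK.gW_cons, F4.okx.toOK.gW_cons, show F4.T.smp 0 = 33 by decide +kernel,
      show F4.T.smp 3 = 24 by decide +kernel, show F4.okx.toOK.gW K ([] : List ℕ) = 1 from rfl, mul_one]
  rwa [e]

theorem W_nil : W K [] = 1 := rfl

theorem nG_smp_W {i : ℕ} : F4.okx.toOK.nG (F4.T.smp i) (1 : K) = W K [i] := by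
  simp [W, OK.gW]

theorem nG_W {i k r : ℕ} (hi : i < 4) (hk : k < 4) (h : piW F4.T [i] (F4.T.smp k) = r) :
    F4.okx.toOK.nG r (1 : K) = W K [i, k, i] := by
  have hw : IsW [i] := fun j hj => by rw [List.mem_singleton.mp hj]; exact hi
  rw [← h, ← F4.okx.gW_conj_nG hw (F4.okx.toOK.smp_lt hk), show F4.okx.toOK.gW K [i] = W K [i] from rfl, W_rev hw,
    nG_smp_W]
  simp [W, OK.gW, mul_assoc]

theorem X_neg_one {r s : ℕ} (hr : r < 48) (h : F4.T.neg r = s) :
    X K s (1 : K) = X K r 1 * F4.okx.toOK.nG r 1 * X K r 1 := by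
  have e : X K r (1 : K) * X K r 1 = 1 := by rw [X_mul, CharTwo.add_self_eq_zero, X_zero]
  rw [nG_X r hr, inv_one, h]
  calc X K s (1 : K) = (X K r 1 * X K r 1) * X K s 1 * (X K r 1 * X K r 1) := by rw [e, one_mul, mul_one]
    _ = _ := by simp only [mul_assoc]

theorem move_left {w : List ℕ} (hw : IsW w) {r s : ℕ} (hr : r < 48) (h : piW F4.T w r = s)
    (g : GL chevF4.Idx K) (t : K) : W K w * (X K r t * g) = X K s t * (W K w * g) := by
  rw [← h, ← W_conj hw hr t]; simp [mul_assoc]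

theorem move_right {w : List ℕ} (hw : IsW w) {r s : ℕ} (hr : r < 48) (h : piW F4.T w r = s)
    (g : GL chevF4.Idx K) (t : K) : X K s t * (W K w * g) = W K w * (X K r t * g) :=
  (move_left hw hr h g t).symm

theorem cB_identity : S.cB 0 1 = S.pB 1 1 * W K (jw true) * S.pB 1 0 := by
  have z : (0 : K) ^ S.e = 0 := zero_pow S.e_pos.ne'
  have z2 : (0 : K) ^ (2 * S.e) = 0 := zero_pow (by have := S.e_pos; omega)
  have eL : S.cB 0 1 = X K 19 1 * X K 17 1 := by
    rw [cB, z, zero_pow (Nat.succ_ne_zero _), zero_add, one_pow, X_zero, X_zero, one_mul, one_mul]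
  have e11 : S.pB 1 1 = X K 28 1 * X K 25 1 * X K 27 1 := by
    have e1 : X K 28 (1 : K) = nB 0 0 1 0 := by simp [nB, X_zero]
    have e2 : X K 25 (1 : K) = nB 0 1 0 0 := by simp [nB, X_zero]
    have e3 : X K 27 (1 : K) = nB 1 0 0 0 := by simp [nB, X_zero]
    rw [pB, e1, e2, e3, nB_mul, nB_mul]
    simp [CharTwo.add_self_eq_zero]
  have e10 : S.pB 1 0 = X K 25 1 * X K 27 1 * X K 30 1 := by
    have e1 : X K 30 (1 : K) = nB 0 0 0 1 := by simp [nB, X_zero]
    have e2 : X K 25 (1 : K) = nB 0 1 0 0 := by simp [nB, X_zero]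
    have e3 : X K 27 (1 : K) = nB 1 0 0 0 := by simp [nB, X_zero]
    rw [pB, e1, e2, e3, nB_mul, nB_mul, z2]
    simp [CharTwo.add_self_eq_zero]
  rw [eL, e11, e10, X_neg_one (r := 28) (s := 19) (by omega) (by decide +kernel),
    X_neg_one (r := 30) (s := 17) (by omega) (by decide +kernel),
    nG_W (i := 2) (k := 1) (r := 28) (by omega) (by omega) (by decide +kernel),
    nG_W (i := 1) (k := 2) (r := 30) (by omega) (by omega) (by decide +kernel)]
  simp only [mul_assoc]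
  congr 1
  rw [← mul_assoc (X K 28 (1 : K)) (X K 30 1), X_comm (r := 28) (s := 30) (by decide +kernel), mul_assoc,
    move_left (w := [2, 1, 2]) (by decide) (r := 30) (s := 22) (by omega) (by decide +kernel),
    move_right (w := [1, 2, 1]) (by decide) (r := 20) (s := 28) (by omega) (by decide +kernel),
    X_neg_one (r := 25) (s := 22) (by omega) (by decide +kernel),
    X_neg_one (r := 27) (s := 20) (by omega) (by decide +kernel),
    show F4.okx.toOK.nG 25 (1 : K) = W K [2] by rw [← show F4.T.smp 2 = 25 by decide +kernel, nG_smp_W],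
    show F4.okx.toOK.nG 27 (1 : K) = W K [1] by rw [← show F4.T.smp 1 = 27 by decide +kernel, nG_smp_W]]
  simp only [mul_assoc]
  congr 1
  have e6 : W K [2, 1, 2] * W K [1, 2, 1] = W K [2, 1, 2, 1, 2, 1] := (W_app _ _).symm
  rw [← mul_assoc (W K [2, 1, 2]), e6,
    move_left (w := [2, 1, 2, 1, 2, 1]) (by decide) (r := 27) (s := 28) (by omega) (by decide +kernel),
    ← mul_assoc (X K 25 (1 : K)) (X K 28 1), X_comm (r := 25) (s := 28) (by decide +kernel), mul_assoc,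
    move_left (w := [2]) (by decide) (r := 28) (s := 27) (by omega) (by decide +kernel)]
  congr 1
  have e7 : W K [2, 1, 2, 1, 2, 1] * W K [1] = W K [2, 1, 2, 1, 2, 1, 1] := (W_app _ _).symm
  rw [← mul_assoc (W K [2, 1, 2, 1, 2, 1]), e7,
    move_right (w := [2, 1, 2, 1, 2, 1, 1]) (by decide) (r := 25) (s := 25) (by omega) (by decide +kernel),
    ← mul_assoc (W K [2]), ← W_app,
    W_eq (v := [2] ++ [2, 1, 2, 1, 2, 1, 1]) (w := jw true) (by decide) (isW_jw _) (by decide +kernel)]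

theorem W_B_mem : W K (jw true) ∈ S.G1 := by
  have := mul_mem (mul_mem (inv_mem (S.pB_mem 1 1)) (S.cB_mem 0 1)) (inv_mem (S.pB_mem 1 0))
  rw [S.cB_identity] at this
  simpa [mul_assoc] using this

theorem W_jw_mem : ∀ b : Bool, W K (jw b) ∈ S.G1
  | false => S.W_A_mem
  | true => S.W_B_mem

theorem W_wd_mem : ∀ v : List Bool, W K (wd v) ∈ S.G1
  | [] => one_mem _
  | b :: v => by rw [wd_cons, W_app]; exact mul_mem (S.W_jw_mem b) (W_wd_mem v)

theorem hst_A_mem {t : K} (ht : t ≠ 0) : S.hst t 1 ∈ S.G1 := by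
  have h := mul_mem (mul_mem (mul_mem (S.pA_mem t) (S.cA_mem t⁻¹)) (S.pA_mem t)) S.W_A_mem
  rw [S.nel_A] at h
  have hcomm : ∀ a c : K, F4.okx.toOK.nG 24 a * F4.okx.toOK.nG 33 c =
      F4.okx.toOK.nG 33 c * F4.okx.toOK.nG 24 a := by
    intro a c
    have key : ∀ r s : ℕ, (r = 24 ∨ r = 23) → (s = 33 ∨ s = 14) → ∀ x y : K,
        Commute (X K r x) (X K s y) := by
      rintro r s (rfl | rfl) (rfl | rfl) x y <;> exact X_comm (by decide +kernel) x y
    have hA : ∀ r : ℕ, (r = 24 ∨ r = 23) → ∀ x : K, Commute (X K r x) (F4.okx.toOK.nG 33 c) := by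
      intro r hr x
      rw [nG_X 33 (by omega), show F4.T.neg 33 = 14 by decide +kernel]
      exact ((key r 33 hr (Or.inl rfl) x c).mul_right (key r 14 hr (Or.inr rfl) x c⁻¹)).mul_right
        (key r 33 hr (Or.inl rfl) x c)
    rw [nG_X 24 (by omega), show F4.T.neg 24 = 23 by decide +kernel]
    exact (((hA 24 (Or.inl rfl) a).mul_left (hA 23 (Or.inr rfl) a⁻¹)).mul_left (hA 24 (Or.inl rfl) a)).eq
  have e : W K (jw false) = F4.okx.toOK.nG 33 (1 : K) * F4.okx.toOK.nG 24 1 := by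
    show F4.okx.toOK.gW K [0, 3] = _
    rw [F4.okx.toOK.gW_cons, F4.okx.toOK.gW_cons, show F4.T.smp 0 = 33 by decide +kernel,
      show F4.T.smp 3 = 24 by decide +kernel, show F4.okx.toOK.gW K ([] : List ℕ) = 1 from rfl, mul_one]
  rw [e] at h
  have h2 : F4.okx.toOK.hG 33 (t ^ S.e) * F4.okx.toOK.hG 24 t ∈ S.G1 := by
    have e2 : ∀ A : GL chevF4.Idx K, A * F4.okx.toOK.nG 33 (1 : K) * (F4.okx.toOK.nG 24 t * F4.okx.toOK.nG 24 1) =
        A * F4.okx.toOK.nG 24 t * (F4.okx.toOK.nG 33 1 * F4.okx.toOK.nG 24 1) := by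
      intro A
      rw [mul_assoc A, mul_assoc A, ← mul_assoc (F4.okx.toOK.nG 33 (1 : K)), ← hcomm t 1,
        mul_assoc (F4.okx.toOK.nG 24 t)]
    rw [hG_nn, hG_nn, e2]
    exact h
  rw [← show F4.T.smp 0 = 33 by decide +kernel, ← show F4.T.smp 3 = 24 by decide +kernel,
    hG_smp (show 0 < 4 by omega) (pow_ne_zero _ ht), hG_smp (show 3 < 4 by omega) ht,
    F4.okx.toOK.torG_mul (fun i _ => by split_ifs <;> simp [ht]) (fun i _ => by split_ifs <;> simp [ht])] at h2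
  convert h2 using 1
  refine F4.okx.toOK.torG_congr (S.hv_ne ht one_ne_zero) fun i hi => ?_
  have hi' : i < 4 := hi
  interval_cases i <;> simp [hv]

theorem hst_mul {s t s' t' : K} (hs : s ≠ 0) (ht : t ≠ 0) (hs' : s' ≠ 0) (ht' : t' ≠ 0) :
    S.hst s t * S.hst s' t' = S.hst (s * s') (t * t') := by
  rw [hst, hst, F4.okx.toOK.torG_mul (S.hv_ne hs ht) (S.hv_ne hs' ht'), hst]
  refine F4.okx.toOK.torG_congr (fun i hi => mul_ne_zero (S.hv_ne hs ht i hi) (S.hv_ne hs' ht' i hi)) fun i hi => ?_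
  have hi' : i < 4 := hi
  interval_cases i <;> simp [hv, mul_pow]

theorem hst_B_mem {t : K} (ht : t ≠ 0) : S.hst 1 (t ^ (2 * S.e + 2)) ∈ S.G1 := by
  have h := mul_mem (mul_mem S.W_B_mem (S.hst_A_mem ht)) (inv_mem S.W_B_mem)
  have e : W K (jw true) * S.hst t 1 * (W K (jw true))⁻¹ = S.hst t (t ^ (2 * S.e + 2)) := by
    rw [hst, show W K (jw true) = F4.okx.toOK.gW K (jw true) from rfl,
      F4.okx.toOK.gW_conj_torG (isW_jw _) (S.hv_ne ht one_ne_zero), hst]
    symm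
    refine F4.okx.toOK.torG_congr (S.hv_ne ht (pow_ne_zero _ ht)) fun i hi => ?_
    have hi' : i < 4 := hi
    show S.hv t (t ^ (2 * S.e + 2)) i =
      ∏ k ∈ Finset.range 4, S.hv t 1 k ^ F4.T.cC (piW F4.T (jw true) (F4.T.smp k)) i
    simp only [Finset.prod_range_succ, Finset.prod_range_zero, one_mul]
    rw [show piW F4.T (jw true) (F4.T.smp 0) = piW F4.T (jw true) 33 by decide +kernel,
      show piW F4.T (jw true) (F4.T.smp 3) = piW F4.T (jw true) 24 by decide +kernel]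
    have c0 : ∀ i < 4, F4.T.cC (piW F4.T (jw true) 33) i = ([1, 2, 2, 0] : List ℤ).getD i 0 := by decide +kernel
    have c3 : ∀ i < 4, F4.T.cC (piW F4.T (jw true) 24) i = ([0, 1, 2, 1] : List ℤ).getD i 0 := by decide +kernel
    rw [c0 i hi', c3 i hi']
    have e1 : (t ^ (2 * S.e + 2)) ^ S.e = (t ^ S.e) ^ 2 * t := by
      rw [← pow_mul, show (2 * S.e + 2) * S.e = 2 * (S.e * S.e) + S.e * 2 by ring, pow_add, S.e_sq, pow_mul, mul_comm]
    have e2 : t ^ (2 * S.e + 2) = (t ^ S.e) ^ 2 * t ^ 2 := by rw [pow_add, ← pow_mul, mul_comm S.e 2]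
    interval_cases i <;> simp [hv, e1, zpow_ofNat]
    · exact e2
  rw [e] at h
  have h2 := mul_mem (inv_mem (S.hst_A_mem ht)) h
  have e2 : (S.hst t 1)⁻¹ * S.hst t (t ^ (2 * S.e + 2)) = S.hst 1 (t ^ (2 * S.e + 2)) := by
    rw [inv_mul_eq_iff_eq_mul, S.hst_mul ht one_ne_zero one_ne_zero (pow_ne_zero _ ht), mul_one, one_mul]
  rwa [e2] at h2

theorem exists_root {y : K} (hy : y ≠ 0) : ∃ t : K, t ≠ 0 ∧ t ^ (2 * S.e + 2) = y := by
  obtain ⟨z, hz⟩ := perf2 y
  have hz0 : z ≠ 0 := fun h => hy (by rw [← hz, h, zero_pow two_ne_zero])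
  refine ⟨z⁻¹ ^ (2 * S.e - 2), pow_ne_zero _ (inv_ne_zero hz0), ?_⟩
  have h1 := FiniteField.pow_card_sub_one_eq_one z hz0
  have hq : Fintype.card K = 2 * (S.e * S.e) := by rw [S.hK, Ctx.e, ← pow_add, ← pow_succ']; ring_nf
  obtain ⟨k, hk⟩ : ∃ k, S.e = k + 1 := ⟨S.e - 1, by have := S.e_pos; omega⟩
  have h3 : (2 * S.e - 2) * (S.e + 1) + 1 = Fintype.card K - 1 := by
    rw [hq, hk, show 2 * (k + 1) - 2 = 2 * k by omega,
      show 2 * ((k + 1) * (k + 1)) = 2 * k * (k + 1 + 1) + 2 by ring]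
    omega
  rw [← h3, pow_succ] at h1
  rw [show 2 * S.e + 2 = (S.e + 1) * 2 by ring, ← pow_mul, ← mul_assoc, pow_mul z⁻¹, inv_pow,
    inv_eq_of_mul_eq_one_right h1, hz]

theorem Hs_le_G1 : S.Hs ≤ S.G1 := by
  intro x hx
  obtain ⟨s, t, hs, ht, rfl⟩ := S.mem_Hs.mp hx
  obtain ⟨r, hr, hrt⟩ := S.exists_root ht
  have e : S.hst s t = S.hst s 1 * S.hst 1 t := by
    rw [S.hst_mul hs one_ne_zero one_ne_zero ht, mul_one, one_mul]
  rw [e, ← hrt]
  exact mul_mem (S.hst_A_mem hs) (S.hst_B_mem hr)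

theorem Um_le_G1 : ∀ v : List Bool, v ∈ L16 → F4.okx.Um K (wd v) ⊓ S.Fx ≤ S.G1
  | [], _ => by rw [Um_nil, bot_inf_eq]; exact bot_le
  | b :: v, h => by
    intro c hc
    obtain ⟨hc1, hc2⟩ := Subgroup.mem_inf.mp hc
    obtain ⟨hv16, H1, -⟩ := red_facts h
    have hv := isW_wd v
    have hw := isW_wd (b :: v)
    obtain ⟨a, ha, haF, ha', d, hd, hdF, rfl⟩ := S.split v (F4.okx.Um_le _ hc1) hc2
    have hdw : d ∈ F4.okx.Um K (wd (b :: v)) := by
      refine (Subgroup.closure_le _).mpr ?_ hd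
      rintro y ⟨r, t, hr, hneg, rfl⟩
      obtain ⟨h1, h2⟩ := F4.okx.toOK.isPos_iff.mp hr
      exact X_mem_Um hw h1 (by rw [wd_cons]; exact H1 r h1 ((negd_iff hv h1).mpr ⟨h2, hneg⟩)) t
    have hnF := S.W_wd_fixed v
    set n := W K (wd v) with hn
    have haw : a ∈ F4.okx.Um K (wd (b :: v)) := by
      have := mul_mem hc1 (inv_mem hdw)
      simpa using this
    have hxU : n * a * n⁻¹ ∈ F4.okx.Um K (jw b) := by
      refine mem_Um_of_neg (isW_jw b) ha' ?_
      have := F4.okx.Um_conj_neg hw haw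
      rw [show F4.okx.toOK.gW K (wd (b :: v)) = W K (jw b) * n by rw [hn, ← W_app, wd_cons]] at this
      simpa [mul_assoc] using this
    have hxF : n * a * n⁻¹ ∈ S.Fx := mul_mem (mul_mem hnF haF) (inv_mem hnF)
    have hx : n * a * n⁻¹ ∈ S.G1 := by
      cases b
      · obtain ⟨t, ht⟩ := S.Um_A_fixed hxU hxF
        rw [ht]; exact S.pA_mem t
      · obtain ⟨t, u, ht⟩ := S.Um_B_fixed hxU hxF
        rw [ht]; exact S.pB_mem t u
    refine mul_mem ?_ (Um_le_G1 v hv16 ⟨hd, hdF⟩)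
    have hm := S.W_wd_mem v
    have := mul_mem (mul_mem (inv_mem hm) hx) hm
    simpa [hn, mul_assoc] using this

/-- The word of the longest element. -/
def long : List Bool := [false, true, false, true, false, true, false, true]

theorem long_neg {r : ℕ} (hr : r < 48) (h : 0 < F4.T.htf r) : F4.T.htf (piW F4.T (wd long) r) < 0 := by
  have h1 := allR_iff.mp long_ok r hr
  rw [orR_iff, notR_iff] at h1
  exact ((negd_iff (isW_wd long) hr).mp (h1.resolve_left (by simp [ipos_iff.mpr h]))).2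

theorem Um_long : F4.okx.Um K (wd long) = chevF4.posUnipotent K := by
  refine le_antisymm (F4.okx.Um_le _) ((Subgroup.closure_le _).mpr ?_)
  rintro x ⟨r, t, hr, hx⟩
  obtain ⟨h1, h2⟩ := F4.okx.toOK.isPos_iff.mp hr
  exact Subgroup.subset_closure ⟨r, t, hr, long_neg h1 h2, F4.okx.toOK.eq_xG hx⟩

theorem U_le_G1 : chevF4.posUnipotent K ⊓ S.Fx ≤ S.G1 := by
  rw [← Um_long]
  exact S.Um_le_G1 long (by decide)

theorem card_U : Nat.card ↥(chevF4.posUnipotent K ⊓ S.Fx) = Fintype.card K ^ 12 := by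
  rw [← Um_long]
  exact S.card_Um long (by decide)

/-- The Borel subgroup of the fixed points. -/
noncomputable def B1 : Subgroup (GL chevF4.Idx K) := chevF4.borelSubgroup K ⊓ S.Fx

theorem sg_diag {x : GL chevF4.Idx K} (hx : x ∈ chevF4.diagonalSubgroup K) :
    S.sg x ∈ chevF4.diagonalSubgroup K := by
  obtain ⟨c, hc, rfl⟩ := F4.okx.toOK.mem_diag.mp hx
  rw [S.sg_torG hc]
  refine F4.okx.toOK.mem_diag.mpr ⟨_, fun i hi => ?_, rfl⟩
  have hi' : i < 4 := hi
  have n0 := hc 0 (by decide)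
  have n1 := hc 1 (by decide)
  have n2 := hc 2 (by decide)
  have n3 := hc 3 (by decide)
  interval_cases i <;> simp [cimg, n0, n1, n2, n3]

theorem B1_split {x : GL chevF4.Idx K} (hx : x ∈ S.B1) :
    ∃ u ∈ chevF4.posUnipotent K ⊓ S.Fx, ∃ h ∈ S.Hs, x = u * h := by
  obtain ⟨hB, hG, hF⟩ := hx
  obtain ⟨u, hu, h, hh, rfl⟩ := F4.okx.toOK.mem_borel hB
  rw [S.sg_mul (F4.okx.toOK.pos_le_group hu) (F4.okx.toOK.diag_le_group hh)] at hF
  have h1 : u⁻¹ * S.sg u = h * (S.sg h)⁻¹ := by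
    rw [eq_mul_inv_iff_mul_eq, mul_assoc, hF, inv_mul_cancel_left]
  have h2 : u⁻¹ * S.sg u ∈ chevF4.posUnipotent K ⊓ chevF4.diagonalSubgroup K :=
    Subgroup.mem_inf.mpr ⟨mul_mem (inv_mem hu) (S.sg_pos hu), h1 ▸ mul_mem hh (inv_mem (S.sg_diag hh))⟩
  rw [F4.okx.toOK.pos_inf_diag, Subgroup.mem_bot] at h2
  rw [h2] at h1
  exact ⟨u, ⟨hu, F4.okx.toOK.pos_le_group hu, (inv_mul_eq_one.mp h2).symm⟩, h,
    ⟨hh, F4.okx.toOK.diag_le_group hh, (mul_inv_eq_one.mp h1.symm).symm⟩, rfl⟩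

theorem B1_le_G1 : S.B1 ≤ S.G1 := fun x hx => by
  obtain ⟨u, hu, h, hh, rfl⟩ := S.B1_split hx
  exact mul_mem (S.U_le_G1 hu) (S.Hs_le_G1 hh)

theorem sg_Um_map {w : List ℕ} (hw : IsW w) {x : GL chevF4.Idx K} (hx : x ∈ F4.okx.Um K w) :
    S.sg x ∈ F4.okx.Um K (w.map fun i => 3 - i) := by
  induction hx using Subgroup.closure_induction with
  | mem y hy =>
    obtain ⟨r, t, hr, hneg, rfl⟩ := hy
    obtain ⟨h1, h2⟩ := F4.okx.toOK.isPos_iff.mp hr
    rw [show F4.okx.toOK.xG r t = X K r t from rfl, S.sg_X h1]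
    refine Subgroup.subset_closure ⟨_, _, F4.okx.toOK.isPos_iff.mpr ⟨(per_facts h1).1, (per_pos h1).mpr h2⟩, ?_, rfl⟩
    rw [piW_rho hw h1]
    have hl := F4.okx.piW_lt hw h1
    have := per_pos hl
    have := F4.okx.toOK.ht_ne (per_facts hl).1
    omega
  | one => rw [S.sg_one]; exact one_mem _
  | mul a b ha hb iha ihb =>
    rw [S.sg_mul (F4.okx.toOK.pos_le_group (F4.okx.Um_le _ ha)) (F4.okx.toOK.pos_le_group (F4.okx.Um_le _ hb))]
    exact mul_mem iha ihb
  | inv a ha iha => rw [S.sg_inv (F4.okx.toOK.pos_le_group (F4.okx.Um_le _ ha))]; exact inv_mem iha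

theorem sg_borel {x : GL chevF4.Idx K} (hx : x ∈ chevF4.borelSubgroup K) :
    S.sg x ∈ chevF4.borelSubgroup K := by
  obtain ⟨u, hu, h, hh, rfl⟩ := F4.okx.toOK.mem_borel hx
  rw [S.sg_mul (F4.okx.toOK.pos_le_group hu) (F4.okx.toOK.diag_le_group hh)]
  exact mul_mem (Subgroup.mem_sup_left (S.sg_pos hu)) (Subgroup.mem_sup_right (S.sg_diag hh))

theorem W_monomial {w : List ℕ} (hw : IsW w) : W K w ∈ chevF4.monomialSubgroup K :=
  F4.okx.toOK.mem_monomial.mpr ⟨1, one_mem _, w, hw, (one_mul _).symm⟩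

theorem perm_of_diag {v w : List ℕ} (hv : IsW v) (hw : IsW w)
    (h : (W K v)⁻¹ * W K w ∈ chevF4.diagonalSubgroup K) : ∀ r < 48, piW F4.T v r = piW F4.T w r := by
  intro r hr
  have A := (F4.okx.toOK.act_gW (F := K) v hv).mul F4.okx.toOK (F4.okx.toOK.act_diag h)
  rw [show F4.okx.toOK.gW K v = W K v from rfl, mul_inv_cancel_left] at A
  exact F4.okx.toOK.act_unique A (F4.okx.toOK.act_gW (F := K) w hw) hr

theorem Um_mem_closure {w : List ℕ} (hw : IsW w) {x : GL chevF4.Idx K} (hx : x ∈ F4.okx.Um K w) :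
    x ∈ Subgroup.closure {y : GL chevF4.Idx K | ∃ (r : ℕ) (t : K), chevF4.IsPosRoot r ∧
      (chevF4.rootSubgroup K r).map (MulAut.conj (W K w)).toMonoidHom ≤ chevF4.negUnipotent K ∧
      (y : Matrix chevF4.Idx chevF4.Idx K) = chevF4.x K r t} := by
  rw [F4.okx.um_eq (F4.okx.toOK.act_gW w hw)]; exact hx

/-- The normal form of the fixed elements. -/
theorem exists_form {g : GL chevF4.Idx K} (hg : g ∈ S.Fx) :
    ∃ v ∈ L16, ∃ b ∈ S.B1, ∃ u ∈ F4.okx.Um K (wd v) ⊓ S.Fx, g = b * W K (wd v) * u := by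
  obtain ⟨b₀, hb₀, n, hn, u, hu, rfl⟩ := F4.okx.bruhat_exists hg.1
  obtain ⟨t, ht, w, hw, rfl⟩ := F4.okx.toOK.mem_monomial.mp hn
  have hA := (F4.okx.toOK.act_diag ht).mul F4.okx.toOK (F4.okx.toOK.act_gW (F := K) w hw)
  have hu' : u ∈ F4.okx.Um K w := by rw [F4.okx.um_eq hA] at hu; exact hu
  set b := b₀ * t with hb
  have hbB : b ∈ chevF4.borelSubgroup K := mul_mem hb₀ (Subgroup.mem_sup_right ht)
  have hg' : b₀ * (t * F4.okx.toOK.gW K w) * u = b * W K w * u := by simp [hb, mul_assoc]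
  rw [hg'] at hg ⊢
  set w₂ := w.map (fun i => 3 - i) with hw₂
  have hw₂' : IsW w₂ := fun i hi => by obtain ⟨j, -, rfl⟩ := List.mem_map.mp hi; omega
  have hsg : S.sg (b * W K w * u) = S.sg b * W K w₂ * S.sg u := by
    rw [S.sg_mul (mul_mem (F4.okx.toOK.borel_le_group hbB) (W_mem hw)) (F4.okx.toOK.pos_le_group (F4.okx.Um_le _ hu')),
      S.sg_mul (F4.okx.toOK.borel_le_group hbB) (W_mem hw), S.sg_W hw]
  have hu₂ : S.sg u ∈ F4.okx.Um K w₂ := S.sg_Um_map hw hu'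
  have he : b * W K w * u = S.sg b * W K w₂ * S.sg u := by rw [← hsg]; exact hg.2.symm
  obtain ⟨h1, h2⟩ := F4.okx.bruhat_unique hbB (S.sg_borel hbB) (W_monomial hw) (W_monomial hw₂')
    (Um_mem_closure hw hu') (Um_mem_closure hw₂' hu₂) he
  have hperm := perm_of_diag hw hw₂' h1
  obtain ⟨v, hv, hve⟩ := fixed_word _ w hw le_rfl fun r hr => by
    rw [hperm _ (per_facts hr).1, piW_rho hw hr]
  have hWv : W K w = W K (wd v) := W_eq hw (isW_wd v)
    (F4.okx.sameI_of_piW fun k hk => hve _ (F4.okx.toOK.smp_lt hk))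
  have hW2 : W K w = W K w₂ := W_eq hw hw₂' (F4.okx.sameI_of_piW fun k hk => hperm _ (F4.okx.toOK.smp_lt hk))
  obtain ⟨e1, e2⟩ := h2 hW2
  rw [Um_congr hve] at hu'
  exact ⟨v, hv, b, Subgroup.mem_inf.mpr ⟨hbB, F4.okx.toOK.borel_le_group hbB, e1.symm⟩, u,
    Subgroup.mem_inf.mpr ⟨hu', F4.okx.toOK.pos_le_group (F4.okx.Um_le _ hu'), e2.symm⟩, by rw [hWv]⟩

theorem Fx_eq : S.Fx = S.G1 := by
  refine le_antisymm (fun g hg => ?_) S.G1_le_Fx
  obtain ⟨v, hv, b, hb, u, hu, rfl⟩ := S.exists_form hg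
  exact mul_mem (mul_mem (S.B1_le_G1 hb) (S.W_wd_mem v)) (S.Um_le_G1 v hv hu)

theorem form_unique {v v' : List Bool} (hv : v ∈ L16) (hv' : v' ∈ L16) {b b' u u' : GL chevF4.Idx K}
    (hb : b ∈ chevF4.borelSubgroup K) (hb' : b' ∈ chevF4.borelSubgroup K) (hu : u ∈ F4.okx.Um K (wd v))
    (hu' : u' ∈ F4.okx.Um K (wd v')) (h : b * W K (wd v) * u = b' * W K (wd v') * u') :
    v = v' ∧ b = b' ∧ u = u' := by
  obtain ⟨h1, h2⟩ := F4.okx.bruhat_unique hb hb' (W_monomial (isW_wd v)) (W_monomial (isW_wd v'))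
    (Um_mem_closure (isW_wd v) hu) (Um_mem_closure (isW_wd v') hu') h
  obtain rfl := distinct hv hv' (perm_of_diag (isW_wd v) (isW_wd v') h1)
  exact ⟨rfl, h2 rfl⟩

theorem card_B1 : Nat.card ↥S.B1 = Fintype.card K ^ 12 * (Fintype.card K - 1) ^ 2 := by
  classical
  rw [← S.card_U, ← S.card_Hs, ← Nat.card_prod]
  refine (Nat.card_eq_of_bijective (fun p : ↥(chevF4.posUnipotent K ⊓ S.Fx) × ↥S.Hs =>
    (⟨(p.1 : GL chevF4.Idx K) * p.2, Subgroup.mem_inf.mpr
      ⟨mul_mem (Subgroup.mem_sup_left (Subgroup.mem_inf.mp p.1.2).1) (Subgroup.mem_sup_right (Subgroup.mem_inf.mp p.2.2).1),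
        mul_mem (Subgroup.mem_inf.mp p.1.2).2 (Subgroup.mem_inf.mp p.2.2).2⟩⟩ : ↥S.B1)) ⟨?_, ?_⟩).symm
  · intro x y e
    have e' : (x.1 : GL chevF4.Idx K) * x.2 = y.1 * y.2 := congrArg Subtype.val e
    have h3 : ((y.1 : GL chevF4.Idx K))⁻¹ * x.1 = y.2 * (x.2 : GL chevF4.Idx K)⁻¹ := by
      rw [eq_mul_inv_iff_mul_eq, mul_assoc, e', inv_mul_cancel_left]
    have h4 : ((y.1 : GL chevF4.Idx K))⁻¹ * x.1 ∈ chevF4.posUnipotent K ⊓ chevF4.diagonalSubgroup K :=
      Subgroup.mem_inf.mpr ⟨mul_mem (inv_mem y.1.2.1) x.1.2.1, h3 ▸ mul_mem y.2.2.1 (inv_mem x.2.2.1)⟩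
    rw [F4.okx.toOK.pos_inf_diag, Subgroup.mem_bot, inv_mul_eq_one] at h4
    rw [h4] at e'
    exact Prod.ext (Subtype.ext h4.symm) (Subtype.ext (mul_left_cancel e'))
  · rintro ⟨x, hx⟩
    obtain ⟨u, hu, h, hh, rfl⟩ := S.B1_split hx
    exact ⟨(⟨u, hu⟩, ⟨h, hh⟩), rfl⟩

theorem card_G1 : Nat.card ↥S.G1 =
    Fintype.card K ^ 12 * (Fintype.card K - 1) ^ 2 * (L16.map fun v => Fintype.card K ^ cnt v).sum := by
  classical
  rw [← S.Fx_eq, ← S.card_B1]
  let f : ↥S.B1 × (Σ j : Fin L16.length, ↥(F4.okx.Um K (wd (L16.get j)) ⊓ S.Fx)) → ↥S.Fx := fun p =>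
    ⟨(p.1 : GL chevF4.Idx K) * W K (wd (L16.get p.2.1)) * p.2.2,
      mul_mem (mul_mem (Subgroup.mem_inf.mp p.1.2).2 (S.W_wd_fixed _)) (Subgroup.mem_inf.mp p.2.2.2).2⟩
  have hf : Function.Bijective f := by
    constructor
    · rintro ⟨⟨b, hb⟩, ⟨j, ⟨u, hu⟩⟩⟩ ⟨⟨b', hb'⟩, ⟨j', ⟨u', hu'⟩⟩⟩ e
      obtain ⟨h1, rfl, rfl⟩ := form_unique (L16.get_mem j) (L16.get_mem j') hb.1 hb'.1 hu.1 hu'.1
        (congrArg Subtype.val e)
      have hnd : L16.Nodup := by decide
      obtain rfl := hnd.injective_get h1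
      rfl
    · rintro ⟨g, hg⟩
      obtain ⟨v, hv, b, hb, u, hu, rfl⟩ := S.exists_form hg
      obtain ⟨j, rfl⟩ := List.mem_iff_get.mp hv
      exact ⟨(⟨b, hb⟩, ⟨j, ⟨u, hu⟩⟩), rfl⟩
  rw [← Nat.card_eq_of_bijective f hf, Nat.card_prod, Nat.card_sigma]
  congr 1
  rw [← List.sum_ofFn]
  congr 1
  conv_rhs => rw [← List.ofFn_get L16, List.map_ofFn]
  congr 1
  funext j
  exact S.card_Um _ (L16.get_mem j)

end Ctx

end Cfsg.Agent.Chev.Ree4
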