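import Cfsg.Agent.Lib.Chev.Ree4BN

/-!
The large Ree groups: perfectness and simplicity.
-/

set_option autoImplicit false
set_option maxRecDepth 20000

namespace Cfsg.Agent.Chev.Ree4

open Cfsg.Lie

variable {K : Type*} [Field K] [Fintype K] [CharP K 2]

namespace Ctx

variable (S : Ctx K)

theorem exists_not01 (hm : 1 ≤ S.m) : ∃ s : K, s ≠ 0 ∧ s ≠ 1 := by
  classical
  have h8 : 2 ^ 3 ≤ Fintype.card K := S.hK ▸ Nat.pow_le_pow_right (by norm_num) (by omega)
  have h2 : ({0, 1} : Finset K).card < (Finset.univ : Finset K).card := by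
    rw [Finset.card_univ]
    exact Finset.card_le_two.trans_lt (by omega)
  obtain ⟨s, -, hs⟩ := Finset.exists_mem_notMem_of_card_lt_card h2
  simp only [Finset.mem_insert, Finset.mem_singleton, not_or] at hs
  exact ⟨s, hs.1, hs.2⟩

theorem hst_conj_pA {s : K} (hs : s ≠ 0) (x : K) :
    S.hst s 1 * S.pA x * (S.hst s 1)⁻¹ = S.pA (s ^ 2 * x) := by
  rw [pA, nA, ← conj_mul, S.hst_conj_X hs one_ne_zero (by omega), S.hst_conj_X hs one_ne_zero (by omega),
    show F4.T.cA 0 33 = 2 by decide +kernel, show F4.T.cA 3 33 = 0 by decide +kernel,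
    show F4.T.cA 0 24 = 0 by decide +kernel, show F4.T.cA 3 24 = 2 by decide +kernel]
  simp only [one_pow, one_zpow, one_mul, zpow_zero, zpow_ofNat]
  simp [pA, nA, mul_pow, ← pow_mul, mul_comm S.e 2]

theorem hst_conj_pB0 {t : K} (ht : t ≠ 0) (u : K) :
    S.hst 1 t * S.pB 0 u * (S.hst 1 t)⁻¹ = S.pB 0 (t * u) := by
  have z : (0 : K) ^ S.e = 0 := zero_pow S.e_pos.ne'
  have e1 : ∀ v : K, S.pB 0 v = X K 28 v * X K 30 (v ^ (2 * S.e)) := fun v => by
    rw [pB, nB, z, zero_pow (Nat.succ_ne_zero _), X_zero, X_zero, zero_add, one_mul, one_mul]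
  rw [e1, e1, ← conj_mul, S.hst_conj_X one_ne_zero ht (by omega), S.hst_conj_X one_ne_zero ht (by omega),
    show F4.T.cA 1 28 = 0 by decide +kernel, show F4.T.cA 2 28 = 1 by decide +kernel,
    show F4.T.cA 1 30 = 2 by decide +kernel, show F4.T.cA 2 30 = 0 by decide +kernel]
  simp only [one_pow, one_zpow, one_mul, zpow_zero, zpow_ofNat, pow_one]
  simp [mul_pow, ← pow_mul, mul_comm S.e 2]

theorem pB_mul0 (t v w : K) : S.pB t v * S.pB 0 w = S.pB t (v + w) := by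
  have z : (0 : K) ^ S.e = 0 := zero_pow S.e_pos.ne'
  rw [pB, pB, pB, nB_mul, z, zero_pow (Nat.succ_ne_zero _), S.pow2e_add]
  congr 1 <;> ring

theorem chi_ne_one {t : K} (ht1 : t ≠ 1) (ht : t ≠ 0) : t ^ 2 ≠ (t ^ S.e) ^ 2 := by
  intro h
  have h0 : (t + t ^ S.e) ^ 2 = 0 := by
    rw [CharTwo.add_sq, ← h, CharTwo.add_self_eq_zero]
  have h1 : t ^ S.e = t := (CharTwo.add_eq_zero.mp (pow_eq_zero_iff (by norm_num) |>.mp h0)).symm
  have h2 : t ^ (2 * S.e) = t := by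
    have := S.pow_e_2e t
    rwa [h1] at this
  rw [mul_comm, pow_mul, h1] at h2
  refine ht1 ?_
  calc t = t ^ 2 / t := by rw [pow_two, mul_div_assoc, div_self ht, mul_one]
    _ = 1 := by rw [h2, div_self ht]

theorem perfect_Fx (hm : 1 ≤ S.m) : commutator ↥S.G1 = ⊤ := by
  set D := (commutator ↥S.G1).map S.G1.subtype with hD
  obtain ⟨s, hs0, hs1⟩ := S.exists_not01 hm
  have hcomm : ∀ {a b : GL chevF4.Idx K}, a ∈ S.G1 → b ∈ S.G1 → a * b * a⁻¹ * b⁻¹ ∈ D :=
    fun ha hb => comm_mem_derived ha hb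
  have hH : ∀ a b : K, a ≠ 0 → b ≠ 0 → S.hst a b ∈ S.G1 := fun a b ha hb =>
    S.Hs_le_G1 (S.mem_Hs.mpr ⟨a, b, ha, hb, rfl⟩)
  have hA : ∀ t, S.pA t ∈ D := by
    intro t
    have hd : s ^ 2 + 1 ≠ 0 := fun e => hs1 (by
      have h0 : (s + 1) ^ 2 = 0 := by rw [CharTwo.add_sq, one_pow, e]
      exact CharTwo.add_eq_zero.mp (pow_eq_zero_iff (by norm_num) |>.mp h0))
    have h := hcomm (hH s 1 hs0 one_ne_zero) (S.pA_mem (t / (s ^ 2 + 1)))
    have einv : ∀ x, (S.pA x)⁻¹ = S.pA x := fun x => inv_eq_of_mul_eq_one_right (by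
      rw [pA, nA_mul, CharTwo.add_self_eq_zero, CharTwo.add_self_eq_zero, nA_zero])
    have eadd : ∀ x y, S.pA x * S.pA y = S.pA (x + y) := fun x y => by
      haveI : Fact (Nat.Prime 2) := ⟨Nat.prime_two⟩
      rw [pA, pA, pA, nA_mul, show (x + y) ^ S.e = x ^ S.e + y ^ S.e from add_pow_char_pow x y 2 S.m]
    rw [S.hst_conj_pA hs0, einv, eadd] at h
    have e : s ^ 2 * (t / (s ^ 2 + 1)) + t / (s ^ 2 + 1) = t := by field_simp
    rwa [e] at h
  have hB0 : ∀ u, S.pB 0 u ∈ D := by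
    intro u
    have hd : s + 1 ≠ 0 := fun e => hs1 (CharTwo.add_eq_zero.mp e)
    have h := hcomm (hH 1 s one_ne_zero hs0) (S.pB_mem 0 (u / (s + 1)))
    have einv : (S.pB 0 (u / (s + 1)))⁻¹ = S.pB 0 (u / (s + 1)) := inv_eq_of_mul_eq_one_right (by
      rw [S.pB_mul0, CharTwo.add_self_eq_zero, pB, zero_pow S.e_pos.ne', zero_pow (Nat.succ_ne_zero _),
        zero_add, zero_pow (by have := S.e_pos; omega), nB_zero])
    rw [S.hst_conj_pB0 hs0, einv, S.pB_mul0] at h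
    have e : s * (u / (s + 1)) + u / (s + 1) = u := by field_simp
    rwa [e] at h
  have hB : ∀ t u, S.pB t u ∈ D := by
    intro t u
    have hse : (s ^ S.e) ^ 2 ≠ 0 := pow_ne_zero _ (pow_ne_zero _ hs0)
    set c := s ^ 2 / (s ^ S.e) ^ 2 with hc
    have hd : c + 1 ≠ 0 := fun e => by
      have h1 := CharTwo.add_eq_zero.mp e
      rw [hc, div_eq_one_iff_eq hse] at h1
      exact S.chi_ne_one hs1 hs0 h1
    have hx := hcomm (hH 1 s one_ne_zero hs0) (S.pB_mem (t / (c + 1)) 0)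
    have hF := S.pB_fixed (t / (c + 1)) 0
    have hhF : S.hst 1 s ∈ S.Fx := S.G1_le_Fx (hH 1 s one_ne_zero hs0)
    have hgF : S.hst 1 s * S.pB (t / (c + 1)) 0 * (S.hst 1 s)⁻¹ * (S.pB (t / (c + 1)) 0)⁻¹ ∈ S.Fx :=
      mul_mem (mul_mem (mul_mem hhF hF) (inv_mem hhF)) (inv_mem hF)
    have hconj : ∃ a c₁ d₁, S.hst 1 s * S.pB (t / (c + 1)) 0 * (S.hst 1 s)⁻¹ =
        nB a (c * (t / (c + 1))) c₁ d₁ := by
      have key : ∀ y : K, S.hst 1 s * X K 25 y * (S.hst 1 s)⁻¹ = X K 25 (c * y) := fun y => by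
        rw [S.hst_conj_X one_ne_zero hs0 (by omega), show F4.T.cA 1 25 = -2 by decide +kernel,
          show F4.T.cA 2 25 = 2 by decide +kernel]
        congr 1
        simp only [one_pow, one_zpow, one_mul, zpow_neg, zpow_ofNat, hc, div_eq_mul_inv]
        ring
      refine ⟨?a, ?c, ?d, ?h⟩
      case h =>
        rw [pB, nB, ← conj_mul, ← conj_mul, ← conj_mul, key, S.hst_conj_X one_ne_zero hs0 (by omega),
          S.hst_conj_X one_ne_zero hs0 (by omega), S.hst_conj_X one_ne_zero hs0 (by omega)]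
        rfl
    obtain ⟨a, c₁, d₁, hconj⟩ := hconj
    obtain ⟨a', c', d', hg⟩ : ∃ a' c' d', nB a (c * (t / (c + 1))) c₁ d₁ * (S.pB (t / (c + 1)) 0)⁻¹ =
        nB a' t c' d' := by
      rw [pB, nB_inv, nB_mul]
      have hb : c * (t / (c + 1)) + t / (c + 1) = t := by field_simp
      rw [hb]
      exact ⟨_, _, _, rfl⟩
    rw [hconj, hg] at hx hgF
    obtain ⟨t', u', e⟩ := S.Um_B_fixed (nB_mem _ _ _ _) hgF
    have et : t = t' := (nB_inj (e.trans rfl)).2.1
    subst et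
    rw [e] at hx
    have := mul_mem hx (hB0 (u' + u))
    rwa [S.pB_mul0, ← add_assoc, CharTwo.add_self_eq_zero, zero_add] at this
  have hle : S.G1 ≤ D := by
    refine (Subgroup.closure_le _).mpr ?_
    rintro x ⟨w, hw, hx⟩
    have e : x = F4.okx.toOK.wordG w := Units.ext (hx.trans (F4.okx.toOK.coe_wordG w).symm)
    subst e
    rcases hw with ⟨t, rfl | rfl⟩ | ⟨t, u, rfl | rfl⟩
    · rw [S.pA_word]; exact hA t
    · rw [S.cA_word, ← S.cA_eq]; exact conj_mem_derived' S.W_A_mem (hA t)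
    · rw [S.pB_word]; exact hB t u
    · rw [S.cB_word, ← S.cB_eq]; exact conj_mem_derived' S.W_B_mem (hB t u)
  refine (Subgroup.eq_top_iff' _).mpr fun x => ?_
  obtain ⟨y, hy, e⟩ := Subgroup.mem_map.mp (hle x.2)
  exact (Subtype.ext e : y = x) ▸ hy

theorem simple (hm : 1 ≤ S.m) : IsSimpleGroup ↥S.G1 ∧ ¬ IsMulCommutative ↥S.G1 := by
  have hperf := S.perfect_Fx hm
  rw [← S.Fx_eq] at hperf ⊢
  have hnt : Nontrivial ↥S.Fx := ⟨⟨⟨S.pA 1, S.pA_fixed 1⟩, 1, fun e =>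
    one_ne_zero (nA_eq_one (congrArg Subtype.val e)).2⟩⟩
  have hsolv : Group.IsSolvable ↥(S.bn.B) := by
    haveI := F4.okx.borel_solvable (F := K)
    let f : ↥(S.bn.B) →* ↥(chevF4.borelSubgroup K) :=
      (S.Fx.subtype.comp S.bn.B.subtype).codRestrict _ fun x => x.2
    have hf : Function.Injective f := fun a b h =>
      Subtype.ext (Subtype.ext (congrArg Subtype.val h : _))
    exact solvable_of_solvable_injective hf
  have hirr : S.bn.Irreducible := by
    intro J hJ hne hne'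
    obtain ⟨r, hr⟩ := hne
    obtain ⟨r', hr', hr''⟩ := hne'
    obtain ⟨b, hb⟩ := hJ hr
    obtain ⟨b', hb'⟩ := hr'
    refine ⟨r, hr, r', ⟨⟨b', hb'⟩, hr''⟩, fun hc => ?_⟩
    have hbb : b ≠ b' := by
      rintro rfl
      exact hr'' ((Subtype.ext (hb'.trans hb.symm) : r' = r) ▸ hr)
    rw [show S.bn.B = (chevF4.borelSubgroup K).subgroupOf S.Fx from rfl, Subgroup.mem_subgroupOf] at hc
    simp only [Subgroup.coe_mul, Subgroup.coe_inv, hb, hb', W_jw_inv, ← W_app] at hc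
    have hd : (W K [])⁻¹ * W K (jw b ++ jw b' ++ jw b ++ jw b') ∈ chevF4.diagonalSubgroup K := by
      rw [W_nil, inv_one, one_mul, ← F4.okx.toOK.borel_inf_monomial]
      exact Subgroup.mem_inf.mpr ⟨hc,
        W_monomial (isW_app (isW_app (isW_app (isW_jw b) (isW_jw b')) (isW_jw b)) (isW_jw b'))⟩
    have hp := perm_of_diag (fun i hi => absurd hi List.not_mem_nil)
      (isW_app (isW_app (isW_app (isW_jw b) (isW_jw b')) (isW_jw b)) (isW_jw b')) hd 33 (by omega)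
    have key : ∀ b b', piW F4.T [] 33 = piW F4.T (jw b ++ jw b' ++ jw b ++ jw b') 33 → b = b' := by
      decide +kernel
    exact hbb (key b b' hp)
  refine ⟨Cfsg.Agent.S0319.result S.bn hirr hsolv hperf S.bn_core, fun hc => ?_⟩
  have hbot : commutator ↥S.Fx = ⊥ := Subgroup.commutator_eq_bot_iff_le_centralizer.mpr fun a _ => by
    rw [Subgroup.mem_centralizer_iff]
    exact fun b _ => hc.is_comm.comm b a
  exact top_ne_bot (hperf.symm.trans hbot)

end Ctx

end Cfsg.Agent.Chev.Ree4
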