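import Cfsg.Agent.Lib.Chev.Ree4TwoTab
import Cfsg.Agent.Lib.Chev.Perf
import Cfsg.Agent.Lib.Chev.Ree4Simple

/-!
The group ²F₄(2): the unipotent subgroup as a list of words, squares and the abelianization.
-/

set_option autoImplicit false
set_option maxRecDepth 20000

namespace Cfsg.Agent.Chev.Ree4Two

open Cfsg.Lie Cfsg.Agent.Chev Cfsg.Agent.Chev.Ree4

/-- The field with two elements as data of a large Ree group. -/
def S0 : Ctx (ZMod 2) := ⟨0, by simp [ZMod.card]⟩

/-- Position of a coordinate. -/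
def pos (i : Fin 4 ⊕ Fin 48) : ℕ := Sum.elim (fun a => a.val) (fun a => Nat.add 4 a.val) i

def bz (b : Bool) : ZMod 2 := @Bool.rec (fun _ => ZMod 2) 0 1 b

noncomputable def coef (tab : List (ℕ × ℕ)) (i j : ℕ) : Bool :=
  @List.rec (ℕ × ℕ) (fun _ => Bool) false
    (fun q _ r => Bool.xor (andR (Nat.beq q.1 j) (Nat.testBit q.2 i)) r) tab

noncomputable def tabAt (r : ℕ) : List (ℕ × ℕ) := offTab.getD (Nat.sub r 24) []

noncomputable def entryOk (r : ℕ) (i c : Fin 4 ⊕ Fin 48) : Bool :=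
  decide (chevF4.x (ZMod 2) r 1 i c = bz (Bool.xor (Nat.beq (pos i) (pos c)) (coef (tabAt r) (pos i) (pos c))))

noncomputable def rootOk (k : ℕ) : Bool :=
  andR (allL (fun q => nlt q.1 52) (tabAt (Nat.add 24 k))) (decide (∀ i c, entryOk (Nat.add 24 k) i c = true))

theorem rootOk_a : ∀ k < 8, rootOk k = true := by decide +kernel
theorem rootOk_b : ∀ k < 8, rootOk (8 + k) = true := by decide +kernel
theorem rootOk_c : ∀ k < 8, rootOk (16 + k) = true := by decide +kernel

theorem rootOk_all {r : ℕ} (h1 : 24 ≤ r) (h2 : r < 48) : rootOk (r - 24) = true := by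
  by_cases h : r - 24 < 8
  · exact rootOk_a _ h
  by_cases h' : r - 24 < 16
  · have := rootOk_b (r - 24 - 8) (by omega)
    rwa [show 8 + (r - 24 - 8) = r - 24 by omega] at this
  · have := rootOk_c (r - 24 - 16) (by omega)
    rwa [show 16 + (r - 24 - 16) = r - 24 by omega] at this

/-- The effect of a root element on a bit vector. -/
noncomputable def stepT (tab : List (ℕ × ℕ)) (v w : ℕ) : ℕ :=
  @List.rec (ℕ × ℕ) (fun _ => ℕ) w (fun q _ r => @Bool.rec (fun _ => ℕ) r (Nat.xor q.2 r) (Nat.testBit v q.1)) tab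

noncomputable def step (r v : ℕ) : ℕ := stepT (tabAt r) v v

/-- The effect of a word. -/
noncomputable def act (w : List ℕ) (v : ℕ) : ℕ :=
  @List.rec ℕ (fun _ => ℕ) v (fun r _ x => step r x) w

def toVec (v : ℕ) (i : chevF4.Idx) : ZMod 2 := bz (Nat.testBit v (pos i))

theorem bz_xor (a b : Bool) : bz (Bool.xor a b) = bz a + bz b := by cases a <;> cases b <;> rfl

theorem bz_and (a b : Bool) : bz (andR a b) = bz a * bz b := by cases a <;> cases b <;> rfl

theorem pos_lt (i : chevF4.Idx) : pos i < 52 := by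
  rcases i with a | a
  · have : a.val < 4 := a.isLt
    show a.val < 52
    omega
  · have : a.val < 48 := a.isLt
    show 4 + a.val < 52
    omega

theorem pos_surj {j : ℕ} (hj : j < 52) : ∃ c : chevF4.Idx, pos c = j := by
  by_cases h : j < 4
  · exact ⟨Sum.inl ⟨j, h⟩, rfl⟩
  · exact ⟨Sum.inr ⟨j - 4, show j - 4 < 48 by omega⟩, show 4 + (j - 4) = j by omega⟩

theorem pos_inj : Function.Injective (pos : chevF4.Idx → ℕ) := by
  rintro (a | a) (b | b) h
  · exact congrArg Sum.inl (Fin.ext h)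
  · have := a.isLt; have : a.val < 4 := a.isLt; change a.val = 4 + b.val at h; omega
  · have : b.val < 4 := b.isLt; change 4 + a.val = b.val at h; omega
  · exact congrArg Sum.inr (Fin.ext (by change 4 + a.val = 4 + b.val at h; omega))

theorem sum_coef : ∀ (tab : List (ℕ × ℕ)), (∀ q ∈ tab, q.1 < 52) → ∀ (i : chevF4.Idx) (v w : ℕ),
    bz (Nat.testBit (stepT tab v w) (pos i)) =
      bz (Nat.testBit w (pos i)) + ∑ c : chevF4.Idx, bz (coef tab (pos i) (pos c)) * toVec v c
  | [], _, i, v, w => by simp [stepT, coef, bz]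
  | q :: tab, h, i, v, w => by
    have ih := sum_coef tab (fun p hp => h p (List.mem_cons_of_mem _ hp)) i v w
    have e : ∀ c : chevF4.Idx, bz (coef (q :: tab) (pos i) (pos c)) * toVec v c =
        bz (Nat.beq q.1 (pos c)) * bz (Nat.testBit q.2 (pos i)) * toVec v c +
          bz (coef tab (pos i) (pos c)) * toVec v c := by
      intro c
      show bz (Bool.xor (andR (Nat.beq q.1 (pos c)) (Nat.testBit q.2 (pos i))) (coef tab (pos i) (pos c))) * _ = _
      rw [bz_xor, bz_and, add_mul]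
    rw [Finset.sum_congr rfl (fun c _ => e c), Finset.sum_add_distrib]
    obtain ⟨c0, hc0⟩ := pos_surj (h q List.mem_cons_self)
    rw [Finset.sum_eq_single c0]
    · rw [hc0, toVec, hc0, show Nat.beq q.1 q.1 = true from by simp [Nat.beq_eq]]
      show bz (Nat.testBit (@Bool.rec (fun _ => ℕ) (stepT tab v w) (Nat.xor q.2 (stepT tab v w))
        (Nat.testBit v q.1)) (pos i)) = _
      cases Nat.testBit v q.1
      · show bz (Nat.testBit (stepT tab v w) (pos i)) = _
        rw [ih, show bz false = 0 from rfl, mul_zero, zero_add]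
      · show bz (Nat.testBit (q.2 ^^^ stepT tab v w) (pos i)) = _
        rw [Nat.testBit_xor, bz_xor, ih, show bz true = 1 from rfl, mul_one, one_mul]
        ring
    · intro c _ hc
      have hne : Nat.beq q.1 (pos c) = false := nbeq_false_iff.mpr fun e => hc (pos_inj (e.symm.trans hc0.symm))
      rw [hne, show bz false = 0 from rfl, zero_mul, zero_mul]
    · intro hc; exact absurd (Finset.mem_univ _) hc

/-- The words in root elements with parameter one. -/
noncomputable def WX (w : List ℕ) : GL chevF4.Idx (ZMod 2) := (w.map fun r => X (ZMod 2) r 1).prod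

/-- Admissible words. -/
noncomputable def okW (w : List ℕ) : Bool := allL (fun r => andR (Nat.ble 24 r) (nlt r 48)) w

theorem rootOk_spec {r : ℕ} (h1 : 24 ≤ r) (h2 : r < 48) :
    (∀ q ∈ tabAt r, nlt q.1 52 = true) ∧ ∀ i c : Fin 4 ⊕ Fin 48, chevF4.x (ZMod 2) r 1 i c =
      bz (Bool.xor (Nat.beq (pos i) (pos c)) (coef (tabAt r) (pos i) (pos c))) := by
  have h := rootOk_all h1 h2
  unfold rootOk at h
  have e : Nat.add 24 (r - 24) = r := Nat.add_sub_cancel' h1
  rw [e, andR_iff] at h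
  refine ⟨allL_iff.mp h.1, fun i c => ?_⟩
  have h3 := @of_decide_eq_true _ _ h.2 i c
  unfold entryOk at h3
  exact @of_decide_eq_true _ _ h3

theorem step_spec {r : ℕ} (h1 : 24 ≤ r) (h2 : r < 48) (v : ℕ) :
    ((X (ZMod 2) r 1 : GL chevF4.Idx (ZMod 2)) : Matrix chevF4.Idx chevF4.Idx (ZMod 2)).mulVec (toVec v) =
      toVec (step r v) := by
  obtain ⟨hb, he⟩ := rootOk_spec h1 h2
  funext i
  have e : ∀ c : chevF4.Idx, ((X (ZMod 2) r 1 : GL chevF4.Idx (ZMod 2)) : Matrix chevF4.Idx chevF4.Idx (ZMod 2)) i c =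
      bz (Nat.beq (pos i) (pos c)) + bz (coef (tabAt r) (pos i) (pos c)) := fun c =>
    ((congrFun (congrFun (OK.coe_xG F4.okx.toOK r (1 : ZMod 2)) i) c).trans (he i c)).trans (bz_xor _ _)
  have hs := sum_coef _ (fun q hq => nlt_iff.mp (hb q hq)) i v v
  have hd : ∑ c : chevF4.Idx, bz (Nat.beq (pos i) (pos c)) * toVec v c = bz (Nat.testBit v (pos i)) := by
    rw [Finset.sum_eq_single_of_mem i (Finset.mem_univ i)]
    · rw [(Nat.beq_eq.mpr rfl : Nat.beq (pos i) (pos i) = true)]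
      exact one_mul _
    · intro c _ hc
      rw [nbeq_false_iff.mpr fun e' : pos i = pos c => hc (pos_inj e'.symm)]
      exact zero_mul _
  have hl : toVec (step r v) i = bz (Nat.testBit (stepT (tabAt r) v v) (pos i)) := by
    unfold toVec step
    rfl
  rw [hl, hs, ← hd, ← Finset.sum_add_distrib]
  unfold Matrix.mulVec dotProduct
  refine Finset.sum_congr rfl fun c _ => ?_
  exact (congrArg (· * toVec v c) (e c)).trans (add_mul _ _ _)

theorem act_spec : ∀ (w : List ℕ), okW w = true → ∀ v : ℕ,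
    (WX w : Matrix chevF4.Idx chevF4.Idx (ZMod 2)).mulVec (toVec v) = toVec (act w v)
  | [], _, v => by simp [WX, act]
  | r :: w, h, v => by
    simp only [okW, allL_iff, List.forall_mem_cons, andR_iff, Nat.ble_eq, nlt_iff] at h
    have ih := act_spec w (by simp only [okW, allL_iff, andR_iff, Nat.ble_eq, nlt_iff]; exact h.2) v
    rw [show WX (r :: w) = X (ZMod 2) r 1 * WX w from List.prod_cons, Units.val_mul, ← Matrix.mulVec_mulVec, ih,
      step_spec h.1.1 h.1.2]
    rfl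

theorem toVec_pow (c : chevF4.Idx) : toVec (2 ^ pos c) = Pi.single c 1 := by
  funext i
  rw [toVec, Nat.testBit_two_pow]
  by_cases h : i = c
  · subst h; simp [bz]
  · rw [Pi.single_eq_of_ne h, decide_eq_false (fun e => h (pos_inj e.symm))]; rfl

/-- Two words act in the same way on the basis. -/
noncomputable def sameAct (u w : List ℕ) : Bool :=
  andR (andR (okW u) (okW w)) (allR 52 fun j => Nat.beq (act u (2 ^ j)) (act w (2 ^ j)))

theorem WX_eq {u w : List ℕ} (h : sameAct u w = true) : WX u = WX w := by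
  simp only [sameAct, andR_iff, allR_iff, Nat.beq_eq] at h
  obtain ⟨⟨hu, hw⟩, he⟩ := h
  refine Units.ext (Matrix.ext fun i c => ?_)
  have e : ∀ z : List ℕ, okW z = true →
      (WX z : Matrix chevF4.Idx chevF4.Idx (ZMod 2)) i c = toVec (act z (2 ^ pos c)) i := fun z hz => by
    rw [← act_spec z hz, toVec_pow, Matrix.mulVec_single_one, Matrix.col_apply]
  rw [e u hu, e w hw, he _ (pos_lt c)]

/-- A word not squaring to one. -/
noncomputable def moves (w : List ℕ) : Bool :=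
  andR (okW (appR w w))
    (orR (notR (Nat.beq (Nat.mod (act (appR w w) 1) (2 ^ 52)) 1))
      (notR (Nat.beq (Nat.mod (act (appR w w) 2) (2 ^ 52)) 2)))

theorem WX_app (u w : List ℕ) : WX (u ++ w) = WX u * WX w := by simp [WX]

theorem moves_spec {w : List ℕ} (h : moves w = true) : WX w * WX w ≠ 1 := by
  simp only [moves, appR_eq, andR_iff, orR_iff, notR_iff, nbeq_false_iff] at h
  obtain ⟨hok, hm⟩ := h
  intro e
  have key : ∀ j < 52, act (w ++ w) (2 ^ j) % 2 ^ 52 = 2 ^ j := by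
    intro j hj
    have h1 := act_spec (w ++ w) hok (2 ^ j)
    rw [WX_app, e, Units.val_one, Matrix.one_mulVec] at h1
    refine Nat.eq_of_testBit_eq fun k => ?_
    rw [Nat.testBit_mod_two_pow]
    by_cases hk : k < 52
    · obtain ⟨c, hc⟩ := pos_surj hk
      have h2 := congrFun h1 c
      rw [toVec, toVec, hc] at h2
      have inj : ∀ a b : Bool, bz a = bz b → a = b := by decide
      simp [hk, ← inj _ _ h2]
    · have : j ≠ k := by omega
      simp [hk, Nat.testBit_two_pow, this]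
  rcases hm with h1 | h1
  · exact h1 (key 0 (by omega))
  · exact h1 (key 1 (by omega))

theorem WX_rev : ∀ w : List ℕ, WX w.reverse = (WX w)⁻¹
  | [] => by simp [WX]
  | r :: w => by
    rw [List.reverse_cons, WX_app, WX_rev w, show WX (r :: w) = X (ZMod 2) r 1 * WX w from List.prod_cons,
      mul_inv_rev, X_inv]
    simp [WX]

/-! ### The classes -/

/-- The nontrivial and trivial members of a class, with their parities. -/
def ch (b : Bool) : List (Bool × List ℕ) :=
  @Bool.rec (fun _ => List (Bool × List ℕ)) [(false, []), (false, [33, 24])]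
    [(false, []), (false, [28, 30]), (true, [27, 25, 28]), (true, [27, 25, 30])] b

noncomputable def cj (v : List Bool) (w : List ℕ) : List ℕ := mapR (fun r => piW F4.T (wd v).reverse r) w

/-- All the members of the unipotent part of a word, with their parities. -/
noncomputable def els (v : List Bool) : List (Bool × List ℕ) :=
  @List.rec Bool (fun _ => List (Bool × List ℕ)) [(false, [])]
    (fun b v' r => flatR (fun x => mapR (fun d => (Bool.xor x.1 d.1, appR (cj v' x.2) d.2)) r) (ch b)) v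

noncomputable def chkEls : Bool :=
  allL (fun p => orR (notR p.1) (moves p.2)) (els Ctx.long)

theorem chkEls_ok : chkEls = true := by decide +kernel

theorem cj_spec (v : List Bool) : ∀ w : List ℕ, (∀ r ∈ w, r < 48) →
    (W (ZMod 2) (wd v))⁻¹ * WX w * W (ZMod 2) (wd v) = WX (cj v w)
  | [], _ => by simp [WX, cj]
  | r :: w, h => by
    have ih := cj_spec v w fun s hs => h s (List.mem_cons_of_mem _ hs)
    have e := W_conj (K := ZMod 2) (isW_rev (isW_wd v)) (h r List.mem_cons_self) 1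
    rw [← W_rev (isW_wd v), inv_inv] at e
    rw [show WX (r :: w) = X (ZMod 2) r 1 * WX w from List.prod_cons,
      show WX (cj v (r :: w)) = X (ZMod 2) (piW F4.T (wd v).reverse r) 1 * WX (cj v w) from List.prod_cons, ← e, ← ih]
    simp [mul_assoc]

/-! ### The abelianization -/

/-- The group in question. -/
abbrev G : Subgroup (GL chevF4.Idx (ZMod 2)) := twistedF4 (ZMod 2) 1

theorem G_eq : G = S0.G1 := rfl

/-- Membership with a prescribed image in the abelianization. -/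
def Img (u : GL chevF4.Idx (ZMod 2)) (a : Abelianization ↥G) : Prop :=
  ∃ h : u ∈ G, Abelianization.of (⟨u, h⟩ : ↥G) = a

theorem Img.mul {u v : GL chevF4.Idx (ZMod 2)} {a b : Abelianization ↥G} (hu : Img u a) (hv : Img v b) :
    Img (u * v) (a * b) := by
  obtain ⟨hu, rfl⟩ := hu
  obtain ⟨hv, rfl⟩ := hv
  exact ⟨mul_mem hu hv, map_mul (Abelianization.of (G := ↥G)) (⟨u, hu⟩ : ↥G) (⟨v, hv⟩ : ↥G)⟩

theorem Img.inv {u : GL chevF4.Idx (ZMod 2)} {a : Abelianization ↥G} (hu : Img u a) : Img u⁻¹ a⁻¹ := by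
  obtain ⟨hu, rfl⟩ := hu
  exact ⟨inv_mem hu, map_inv (Abelianization.of (G := ↥G)) (⟨u, hu⟩ : ↥G)⟩

theorem Img.conj {n u : GL chevF4.Idx (ZMod 2)} {a : Abelianization ↥G} (hn : n ∈ G) (hu : Img u a) :
    Img (n⁻¹ * u * n) a := by
  have hn' : Img n (Abelianization.of (⟨n, hn⟩ : ↥G)) := ⟨hn, rfl⟩
  have h := (hn'.inv.mul hu).mul hn'
  rwa [mul_comm _ a, inv_mul_cancel_right] at h

theorem Img.unique {u : GL chevF4.Idx (ZMod 2)} {a b : Abelianization ↥G} (h : Img u a) (h' : Img u b) :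
    a = b := by
  obtain ⟨_, rfl⟩ := h
  obtain ⟨_, rfl⟩ := h'
  rfl

theorem Img.one : Img 1 1 := ⟨one_mem _, map_one _⟩

noncomputable def aA : Abelianization ↥G := Abelianization.of (⟨S0.pA 1, S0.pA_mem 1⟩ : ↥G)

noncomputable def aC : Abelianization ↥G := Abelianization.of (⟨S0.pB 0 1, S0.pB_mem 0 1⟩ : ↥G)

noncomputable def aB : Abelianization ↥G := Abelianization.of (⟨S0.pB 1 0, S0.pB_mem 1 0⟩ : ↥G)

theorem pA_WX : S0.pA 1 = WX [33, 24] := by
  simp [Ctx.pA, nA, WX]

theorem pC_WX : S0.pB 0 1 = WX [28, 30] := by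
  simp [Ctx.pB, nB, WX, X_zero, Ctx.e, S0]

theorem pB_WX : S0.pB 1 0 = WX [27, 25, 28] := by
  simp [Ctx.pB, nB, WX, X_zero, Ctx.e, S0, mul_assoc]

theorem pD_WX : S0.pB 1 1 = WX [27, 25, 30] := by
  simp [Ctx.pB, nB, WX, X_zero, Ctx.e, S0, mul_assoc, CharTwo.add_self_eq_zero]

theorem pD_eq : S0.pB 1 1 = S0.pB 1 0 * S0.pB 0 1 := by
  rw [S0.pB_mul0, zero_add]

theorem pB_sq : S0.pB 1 0 * S0.pB 1 0 = S0.pB 0 1 := by
  simp [Ctx.pB, nB_mul, Ctx.e, S0, CharTwo.add_self_eq_zero]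

theorem W_mem_G (v : List Bool) : W (ZMod 2) (wd v) ∈ G := S0.W_wd_mem v

theorem Img_cj (v : List Bool) {w : List ℕ} {a : Abelianization ↥G} (hw : ∀ r ∈ w, r < 48)
    (h : Img (WX w) a) : Img (WX (cj v w)) a := by
  rw [← cj_spec v w hw]
  exact h.conj (W_mem_G v)

theorem imgA : Img (WX [33, 24]) aA := pA_WX ▸ ⟨S0.pA_mem 1, rfl⟩

theorem imgC : Img (WX [28, 30]) aC := pC_WX ▸ ⟨S0.pB_mem 0 1, rfl⟩

theorem imgB : Img (WX [27, 25, 28]) aB := pB_WX ▸ ⟨S0.pB_mem 1 0, rfl⟩

theorem imgD : Img (WX [27, 25, 30]) (aB * aC) := by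
  rw [← pD_WX, pD_eq, pB_WX, pC_WX]
  exact imgB.mul imgC

theorem Img_comm {x y : List ℕ} {a b : Abelianization ↥G} (hx : Img (WX x) a) (hy : Img (WX y) b) :
    Img (WX (x ++ y ++ x.reverse ++ y.reverse)) 1 := by
  rw [WX_app, WX_app, WX_app, WX_rev, WX_rev]
  have h := ((hx.mul hy).mul hx.inv).mul hy.inv
  rwa [mul_comm a b, mul_inv_cancel_right, mul_inv_cancel] at h

theorem rel_C : sameAct (cj (Ctx.long.drop 1) [33, 24] ++ cj (Ctx.long.drop 4) [27, 25, 28] ++
    (cj (Ctx.long.drop 1) [33, 24]).reverse ++ (cj (Ctx.long.drop 4) [27, 25, 28]).reverse)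
    (cj (Ctx.long.drop 2) [28, 30]) = true := by decide +kernel

theorem rel_A : sameAct (cj (Ctx.long.drop 1) [33, 24] ++ cj (Ctx.long.drop 6) [27, 25, 30] ++
    (cj (Ctx.long.drop 1) [33, 24]).reverse ++ (cj (Ctx.long.drop 6) [27, 25, 30]).reverse)
    (cj (Ctx.long.drop 2) [28, 30] ++ cj (Ctx.long.drop 3) [33, 24] ++ cj (Ctx.long.drop 4) [28, 30]) = true := by
  decide +kernel

theorem l33 : ∀ r ∈ [33, 24], r < 48 := by decide
theorem l28 : ∀ r ∈ [28, 30], r < 48 := by decide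
theorem l25 : ∀ r ∈ [27, 25, 28], r < 48 := by decide
theorem l30 : ∀ r ∈ [27, 25, 30], r < 48 := by decide

theorem aC_one : aC = 1 := by
  have h := Img_comm (Img_cj (Ctx.long.drop 1) l33 imgA) (Img_cj (Ctx.long.drop 4) l25 imgB)
  rw [WX_eq rel_C] at h
  exact (Img_cj _ l28 imgC).unique h

theorem aA_one : aA = 1 := by
  have h := Img_comm (Img_cj (Ctx.long.drop 1) l33 imgA) (Img_cj (Ctx.long.drop 6) l30 imgD)
  rw [WX_eq rel_A, WX_app, WX_app] at h
  have h' := ((Img_cj (Ctx.long.drop 2) l28 imgC).mul (Img_cj (Ctx.long.drop 3) l33 imgA)).mul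
    (Img_cj (Ctx.long.drop 4) l28 imgC)
  have e := h'.unique h
  rwa [aC_one, one_mul, mul_one] at e

theorem aB_sq : aB * aB = 1 := by
  have h : Img (S0.pB 1 0 * S0.pB 1 0) (aB * aB) :=
    Img.mul (⟨S0.pB_mem 1 0, rfl⟩ : Img (S0.pB 1 0) aB) ⟨S0.pB_mem 1 0, rfl⟩
  rw [pB_sq] at h
  rw [h.unique (⟨S0.pB_mem 0 1, rfl⟩ : Img (S0.pB 0 1) aC), aC_one]

/-- The image belonging to a parity. -/
noncomputable def par (b : Bool) : Abelianization ↥G := @Bool.rec (fun _ => Abelianization ↥G) 1 aB b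

theorem par_mul : ∀ a b : Bool, par a * par b = par (Bool.xor a b)
  | false, _ => by simp [par]
  | true, false => by simp [par]
  | true, true => aB_sq

theorem ch_bound (b : Bool) : ∀ x ∈ ch b, ∀ r ∈ x.2, r < 48 := by cases b <;> decide

theorem zmod2 : ∀ t : ZMod 2, t = 0 ∨ t = 1 := by decide

theorem ch_spec (b : Bool) {x : GL chevF4.Idx (ZMod 2)} (hx : x ∈ F4.okx.Um (ZMod 2) (jw b)) (hF : x ∈ S0.Fx) :
    ∃ p ∈ ch b, x = WX p.2 ∧ Img (WX p.2) (par p.1) := by
  cases b
  · obtain ⟨t, rfl⟩ := S0.Um_A_fixed hx hF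
    have ht : t = 0 ∨ t = 1 := zmod2 t
    rcases ht with rfl | rfl
    · refine ⟨(false, []), by simp [ch], ?_, Img.one⟩
      simp [Ctx.pA, nA, WX, X_zero, Ctx.e, S0]
    · exact ⟨(false, [33, 24]), by simp [ch], pA_WX, by simpa [par, aA_one] using imgA⟩
  · obtain ⟨t, u, rfl⟩ := S0.Um_B_fixed hx hF
    have ht : t = 0 ∨ t = 1 := zmod2 t
    have hu : u = 0 ∨ u = 1 := zmod2 u
    rcases ht with rfl | rfl <;> rcases hu with rfl | rfl
    · refine ⟨(false, []), by simp [ch], ?_, Img.one⟩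
      simp [Ctx.pB, nB, WX, X_zero, Ctx.e, S0]
    · exact ⟨(false, [28, 30]), by simp [ch], pC_WX, by simpa [par, aC_one] using imgC⟩
    · exact ⟨(true, [27, 25, 28]), by simp [ch], pB_WX, imgB⟩
    · refine ⟨(true, [27, 25, 30]), by simp [ch], pD_WX, ?_⟩
      have := imgD
      rwa [aC_one, mul_one] at this

theorem els_spec : ∀ v : List Bool, v ∈ L16 → ∀ {u : GL chevF4.Idx (ZMod 2)},
    u ∈ F4.okx.Um (ZMod 2) (wd v) → u ∈ S0.Fx → ∃ p ∈ els v, u = WX p.2 ∧ Img u (par p.1)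
  | [], _, u, hu, _ => by
    rw [Ctx.Um_nil, Subgroup.mem_bot] at hu
    subst hu
    exact ⟨(false, []), List.mem_singleton_self _, by simp [WX], Img.one⟩
  | b :: v, hv, u, hu, hF => by
    obtain ⟨hv', H1, -⟩ := Ctx.red_facts hv
    have hw := isW_wd (b :: v)
    have hle : F4.okx.Um (ZMod 2) (wd v) ≤ F4.okx.Um (ZMod 2) (wd (b :: v)) := by
      refine (Subgroup.closure_le _).mpr ?_
      rintro y ⟨r, t, hr, hneg, rfl⟩
      obtain ⟨h1, h2⟩ := F4.okx.toOK.isPos_iff.mp hr
      exact X_mem_Um hw h1 (by rw [wd_cons]; exact H1 r h1 ((negd_iff (isW_wd v) h1).mpr ⟨h2, hneg⟩)) t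
    obtain ⟨a, ha, haF, ha', d, hd, hdF, rfl⟩ := S0.split v (F4.okx.Um_le _ hu) hF
    have haw : a ∈ F4.okx.Um (ZMod 2) (wd (b :: v)) := by
      have := mul_mem hu (inv_mem (hle hd))
      simpa using this
    set n := W (ZMod 2) (wd v) with hn
    have hxU : n * a * n⁻¹ ∈ F4.okx.Um (ZMod 2) (jw b) := by
      refine mem_Um_of_neg (isW_jw b) ha' ?_
      have := F4.okx.Um_conj_neg hw haw
      rw [show F4.okx.toOK.gW (ZMod 2) (wd (b :: v)) = W (ZMod 2) (jw b) * n by
        rw [hn, ← W_app, wd_cons]] at this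
      simpa [mul_assoc] using this
    obtain ⟨p, hp, hpe, hpi⟩ := ch_spec b hxU
      (mul_mem (mul_mem (S0.W_wd_fixed v) haF) (inv_mem (S0.W_wd_fixed v)))
    obtain ⟨q, hq, rfl, hqi⟩ := els_spec v hv' hd hdF
    refine ⟨(Bool.xor p.1 q.1, cj v p.2 ++ q.2), ?_, ?_, ?_⟩
    · show _ ∈ flatR _ _
      rw [flatR_eq, List.mem_flatMap]
      exact ⟨p, hp, by rw [mapR_eq]; exact List.mem_map.mpr ⟨q, hq, by rw [appR_eq]⟩⟩
    · show a * WX q.2 = WX (cj v p.2 ++ q.2)
      rw [WX_app, ← cj_spec v p.2 (ch_bound b p hp), ← hn, ← hpe]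
      simp [mul_assoc]
    · rw [← par_mul]
      refine Img.mul ?_ hqi
      have := Img.conj (W_mem_G v) (hpe ▸ hpi : Img (n * a * n⁻¹) (par p.1))
      simpa [hn, mul_assoc] using this

theorem invol_U {u : GL chevF4.Idx (ZMod 2)} (hu : u ∈ chevF4.posUnipotent (ZMod 2)) (hF : u ∈ S0.Fx)
    (h2 : u * u = 1) : Img u 1 := by
  rw [← Ctx.Um_long] at hu
  obtain ⟨⟨b, w⟩, hp, rfl, hi⟩ := els_spec Ctx.long (by decide) hu hF
  have h := chkEls_ok
  simp only [chkEls, allL_iff, orR_iff, notR_iff] at h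
  rcases h _ hp with h1 | h1
  · rwa [show b = false from h1] at hi
  · exact absurd h2 (moves_spec h1)

end Cfsg.Agent.Chev.Ree4Two
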