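import Cfsg.Agent.Lib.Chev.Ree4

/-!
The large Ree groups: the torus and the unipotent parts of the fixed points.
-/

set_option autoImplicit false
set_option maxRecDepth 20000

namespace Cfsg.Agent.Chev.Ree4

open Cfsg.Lie

variable {K : Type*} [Field K] [Fintype K] [CharP K 2]

theorem negd_iff {w : List ℕ} (hw : IsW w) {r : ℕ} (hr : r < 48) :
    negd w r = true ↔ 0 < F4.T.htf r ∧ F4.T.htf (piW F4.T w r) < 0 := by
  have := F4.okx.toOK.ht_ne (F4.okx.piW_lt hw hr)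
  simp only [negd, andR_iff, notR_iff, ipos_iff, Tabs.piR_eq, Bool.eq_false_iff, ne_eq]
  constructor <;> intro h <;> exact ⟨h.1, by have := h.2; omega⟩

theorem X_mul (r : ℕ) (a b : K) : X K r a * X K r b = X K r (a + b) := F4.okx.toOK.xG_mul r a b

theorem X_inv (r : ℕ) (a : K) : (X K r a)⁻¹ = X K r a := by
  rw [F4.okx.toOK.xG_inv, CharTwo.neg_eq]

theorem X_zero (r : ℕ) : X K r (0 : K) = 1 := F4.okx.toOK.xG_zero r

theorem X_pos {r : ℕ} (hr : r < 48) (h : 0 < F4.T.htf r) (t : K) : X K r t ∈ chevF4.posUnipotent K :=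
  F4.okx.toOK.xG_mem_pos (F4.okx.toOK.isPos_iff.mpr ⟨hr, h⟩) t

theorem X_borel {r : ℕ} (hr : r < 48) (h : 0 < F4.T.htf r) (t : K) : X K r t ∈ chevF4.borelSubgroup K :=
  Subgroup.mem_sup_left (X_pos hr h t)

theorem zero_of_neg_borel {r : ℕ} (hr : r < 48) (h : F4.T.htf r < 0) {a : K}
    (ha : X K r a ∈ chevF4.borelSubgroup K) : a = 0 := by
  have h2 : X K r a ∈ chevF4.borelSubgroup K ⊓ chevF4.negUnipotent K :=
    Subgroup.mem_inf.mpr ⟨ha, F4.okx.toOK.xG_mem_neg (F4.okx.toOK.isNeg_iff.mpr ⟨hr, h⟩) _⟩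
  rw [F4.okx.toOK.borel_inf_neg, Subgroup.mem_bot] at h2
  exact (F4.okx.toOK.x_eq_one hr a).mp (by rw [← F4.okx.toOK.coe_xG, show F4.okx.toOK.xG r a = 1 from h2]; rfl)

/-! ### Normal forms -/

/-- Two commuting root elements. -/
theorem X_comm {r s : ℕ} (h : andR (nlt r 48) (andR (nlt s 48) (andR (notR (Nat.beq s r))
    (andR (notR (Nat.beq s (F4.T.neg r))) (isNilR (ITab.oterms F4.T r s))))) = true) (a b : K) :
    X K r a * X K s b = X K s b * X K r a := by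
  simp only [andR_iff, nlt_iff, notR_iff, nbeq_false_iff, isNilR_iff] at h
  obtain ⟨h1, h2, h3, h4, h5⟩ := h
  exact F4.okx.commute_oterms h1 h2 h3 h4 h5 a b

theorem X_25_27 (t u : K) :
    X K 25 u * X K 27 t = X K 27 t * X K 25 u * X K 28 (t * u) * X K 30 (t ^ 2 * u) := by
  have h := F4.okx.comm_oterms (F := K) (r := 27) (s := 25) (show 27 < 48 by omega) (show 25 < 48 by omega)
    (by omega) (show 25 ≠ F4.T.neg 27 by decide +kernel) t u
  have e : ((ITab.oterms F4.T 27 25).map fun q => (q.1, q.2.2.1, q.2.2.2)) = [(28, 1, 1), (30, 2, 1)] := by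
    decide +kernel
  have e2 : ((ITab.oterms F4.T 27 25).map fun q => F4.okx.toOK.xG q.1 (t ^ q.2.2.1 * u ^ q.2.2.2)) =
      ((ITab.oterms F4.T 27 25).map fun q => (q.1, q.2.2.1, q.2.2.2)).map
        fun a => F4.okx.toOK.xG a.1 (t ^ a.2.1 * u ^ a.2.2) := by
    rw [List.map_map]; rfl
  rw [e2, e] at h
  simpa [pow_one, mul_assoc] using h

/-- The normal form in the class of type A₁ × A₁. -/
noncomputable def nA (a b : K) : GL chevF4.Idx K := X K 33 a * X K 24 b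

/-- The normal form in the class of type B₂. -/
noncomputable def nB (a b c d : K) : GL chevF4.Idx K := X K 27 a * X K 25 b * (X K 28 c * X K 30 d)

theorem nA_mul (a b a' b' : K) : nA a b * nA a' b' = nA (a + a') (b + b') := by
  rw [nA, nA, nA, ← X_mul, ← X_mul, mul_assoc, mul_assoc, ← mul_assoc (X K 24 b),
    X_comm (r := 24) (s := 33) (by decide +kernel) b a', mul_assoc]

theorem nB_mul (a b c d a' b' c' d' : K) :
    nB a b c d * nB a' b' c' d' = nB (a + a') (b + b') (c + c' + a' * b) (d + d' + a' ^ 2 * b) := by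
  have c1 : ∀ x y : K, X K 28 x * X K 27 y = X K 27 y * X K 28 x := X_comm (by decide +kernel)
  have c2 : ∀ x y : K, X K 30 x * X K 27 y = X K 27 y * X K 30 x := X_comm (by decide +kernel)
  have c3 : ∀ x y : K, X K 28 x * X K 25 y = X K 25 y * X K 28 x := X_comm (by decide +kernel)
  have c4 : ∀ x y : K, X K 30 x * X K 25 y = X K 25 y * X K 30 x := X_comm (by decide +kernel)
  have c5 : ∀ x y : K, X K 30 x * X K 28 y = X K 28 y * X K 30 x := X_comm (by decide +kernel)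
  have p27 : ∀ (x : K) (g : GL chevF4.Idx K), X K 30 x * (X K 27 a' * g) = X K 27 a' * (X K 30 x * g) := by
    intro x g; rw [← mul_assoc, c2, mul_assoc]
  have p27' : ∀ (x : K) (g : GL chevF4.Idx K), X K 28 x * (X K 27 a' * g) = X K 27 a' * (X K 28 x * g) := by
    intro x g; rw [← mul_assoc, c1, mul_assoc]
  have p25 : ∀ (x : K) (g : GL chevF4.Idx K), X K 30 x * (X K 25 b' * g) = X K 25 b' * (X K 30 x * g) := by
    intro x g; rw [← mul_assoc, c4, mul_assoc]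
  have p25' : ∀ (x : K) (g : GL chevF4.Idx K), X K 28 x * (X K 25 b' * g) = X K 25 b' * (X K 28 x * g) := by
    intro x g; rw [← mul_assoc, c3, mul_assoc]
  have p28 : ∀ (x y : K) (g : GL chevF4.Idx K), X K 30 x * (X K 28 y * g) = X K 28 y * (X K 30 x * g) := by
    intro x y g; rw [← mul_assoc, c5, mul_assoc]
  have pX : ∀ (g : GL chevF4.Idx K), X K 25 b * (X K 27 a' * g) =
      X K 27 a' * (X K 25 b * (X K 28 (a' * b) * (X K 30 (a' ^ 2 * b) * g))) := by
    intro g; rw [← mul_assoc, X_25_27]; simp only [mul_assoc]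
  have m27 : ∀ g : GL chevF4.Idx K, X K 27 a * (X K 27 a' * g) = X K 27 (a + a') * g := by
    intro g; rw [← mul_assoc, X_mul]
  have m25 : ∀ g : GL chevF4.Idx K, X K 25 b * (X K 25 b' * g) = X K 25 (b + b') * g := by
    intro g; rw [← mul_assoc, X_mul]
  simp only [nB, mul_assoc]
  rw [p27, p27', pX, m27, p25, p25', p25, p25', m25, p28, p28, ← mul_assoc (X K 28 (a' * b)),
    X_mul, p28, ← mul_assoc (X K 28 (a' * b + c)), X_mul, X_mul, X_mul]
  congr 3 <;> ring_nf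

theorem nA_zero : nA (0 : K) 0 = 1 := by rw [nA, X_zero, X_zero, one_mul]

theorem nB_zero : nB (0 : K) 0 0 0 = 1 := by rw [nB, X_zero, X_zero, X_zero, X_zero, one_mul, one_mul]

theorem nA_eq_one {a b : K} (h : nA a b = 1) : a = 0 ∧ b = 0 := by
  have hw : IsW [0] := by decide
  have e := congrArg (fun g => W K [0] * g * (W K [0])⁻¹) h
  simp only [nA, ← conj_mul, mul_one, mul_inv_cancel] at e
  rw [W_conj hw (show 33 < 48 by omega), W_conj hw (show 24 < 48 by omega),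
    show piW F4.T [0] 33 = 14 by decide +kernel, show piW F4.T [0] 24 = 24 by decide +kernel] at e
  have ha : a = 0 := by
    refine zero_of_neg_borel (show 14 < 48 by omega) (by decide +kernel) ?_
    rw [eq_inv_of_mul_eq_one_left e]
    exact inv_mem (X_borel (show 24 < 48 by omega) (by decide +kernel) b)
  refine ⟨ha, ?_⟩
  rw [nA, ha, X_zero, one_mul] at h
  exact (F4.okx.toOK.x_eq_one (show 24 < 48 by omega) b).mp (by rw [← F4.okx.toOK.coe_xG, show F4.okx.toOK.xG 24 b = 1 from h]; rfl)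

theorem nB_eq_one {a b c d : K} (h : nB a b c d = 1) : a = 0 ∧ b = 0 ∧ c = 0 ∧ d = 0 := by
  have conj : ∀ {w : List ℕ}, IsW w → ∀ (g g' : GL chevF4.Idx K),
      W K w * (g * g') * (W K w)⁻¹ = (W K w * g * (W K w)⁻¹) * (W K w * g' * (W K w)⁻¹) :=
    fun _ g g' => conj_mul.symm
  have hb : b = 0 := by
    have hw : IsW [2] := by decide
    have e := congrArg (fun g => W K [2] * g * (W K [2])⁻¹) h
    simp only [nB, conj hw, mul_one, mul_inv_cancel] at e
    rw [W_conj hw (show 27 < 48 by omega), W_conj hw (show 25 < 48 by omega), W_conj hw (show 28 < 48 by omega),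
      W_conj hw (show 30 < 48 by omega), show piW F4.T [2] 27 = 28 by decide +kernel,
      show piW F4.T [2] 25 = 22 by decide +kernel, show piW F4.T [2] 28 = 27 by decide +kernel,
      show piW F4.T [2] 30 = 30 by decide +kernel] at e
    refine zero_of_neg_borel (show 22 < 48 by omega) (by decide +kernel) ?_
    have e' : X K 22 b = (X K 28 a)⁻¹ * (X K 27 c * X K 30 d)⁻¹ := by
      rw [eq_mul_inv_iff_mul_eq]; exact eq_inv_of_mul_eq_one_right (by rwa [mul_assoc] at e)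
    rw [e']
    exact mul_mem (inv_mem (X_borel (by omega) (by decide +kernel) a))
      (inv_mem (mul_mem (X_borel (by omega) (by decide +kernel) c) (X_borel (by omega) (by decide +kernel) d)))
  have ha : a = 0 := by
    have hw : IsW [1] := by decide
    have e := congrArg (fun g => W K [1] * g * (W K [1])⁻¹) h
    simp only [nB, hb, X_zero, mul_one] at e
    simp only [conj hw, mul_inv_cancel] at e
    rw [W_conj hw (show 27 < 48 by omega), W_conj hw (show 28 < 48 by omega),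
      W_conj hw (show 30 < 48 by omega), show piW F4.T [1] 27 = 20 by decide +kernel,
      show piW F4.T [1] 28 = 28 by decide +kernel, show piW F4.T [1] 30 = 25 by decide +kernel] at e
    refine zero_of_neg_borel (show 20 < 48 by omega) (by decide +kernel) ?_
    rw [eq_inv_of_mul_eq_one_left e]
    exact inv_mem (mul_mem (X_borel (by omega) (by decide +kernel) c) (X_borel (by omega) (by decide +kernel) d))
  have hc : c = 0 := by
    have hw : IsW [1, 2] := by decide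
    have e := congrArg (fun g => W K [1, 2] * g * (W K [1, 2])⁻¹) h
    simp only [nB, hb, ha, X_zero, one_mul, mul_one] at e
    simp only [conj hw, mul_inv_cancel] at e
    rw [W_conj hw (show 28 < 48 by omega), W_conj hw (show 30 < 48 by omega),
      show piW F4.T [1, 2] 28 = 20 by decide +kernel, show piW F4.T [1, 2] 30 = 25 by decide +kernel] at e
    refine zero_of_neg_borel (show 20 < 48 by omega) (by decide +kernel) ?_
    rw [eq_inv_of_mul_eq_one_left e]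
    exact inv_mem (X_borel (by omega) (by decide +kernel) d)
  refine ⟨ha, hb, hc, ?_⟩
  simp only [nB, ha, hb, hc, X_zero, one_mul] at h
  exact (F4.okx.toOK.x_eq_one (show 30 < 48 by omega) d).mp (by rw [← F4.okx.toOK.coe_xG, show F4.okx.toOK.xG 30 d = 1 from h]; rfl)

theorem nA_inj {a b a' b' : K} (h : nA a b = nA a' b') : a = a' ∧ b = b' := by
  have e : nA a b * nA a' b' = 1 := by
    rw [h, nA_mul, CharTwo.add_self_eq_zero, CharTwo.add_self_eq_zero, nA_zero]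
  rw [nA_mul] at e
  exact ⟨CharTwo.add_eq_zero.mp (nA_eq_one e).1, CharTwo.add_eq_zero.mp (nA_eq_one e).2⟩

theorem nB_inv (a b c d : K) : (nB a b c d)⁻¹ = nB a b (c + a * b) (d + a ^ 2 * b) := by
  refine inv_eq_of_mul_eq_one_right ?_
  rw [nB_mul, ← nB_zero]
  congr 1 <;> first | exact CharTwo.add_self_eq_zero _ | (ring_nf; simp [CharTwo.two_eq_zero])

theorem nB_inj {a b c d a' b' c' d' : K} (h : nB a b c d = nB a' b' c' d') :
    a = a' ∧ b = b' ∧ c = c' ∧ d = d' := by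
  have e : (nB a' b' c' d')⁻¹ * nB a b c d = 1 := by rw [h, inv_mul_cancel]
  rw [nB_inv, nB_mul] at e
  obtain ⟨h1, h2, h3, h4⟩ := nB_eq_one e
  obtain rfl := CharTwo.add_eq_zero.mp h1
  obtain rfl := CharTwo.add_eq_zero.mp h2
  refine ⟨rfl, rfl, (CharTwo.add_eq_zero.mp ?_).symm, (CharTwo.add_eq_zero.mp ?_).symm⟩
  · rw [← h3]; ring_nf; simp [CharTwo.two_eq_zero]
  · rw [← h4]; ring_nf; simp [CharTwo.two_eq_zero]

theorem Um_A {x : GL chevF4.Idx K} (hx : x ∈ F4.okx.Um K (jw false)) : ∃ a b, x = nA a b := by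
  induction hx using Subgroup.closure_induction with
  | mem y hy =>
    obtain ⟨r, t, hr, hneg, rfl⟩ := hy
    obtain ⟨h1, h2⟩ := F4.okx.toOK.isPos_iff.mp hr
    have key : ∀ r < 48, negd (jw false) r = true → r = 33 ∨ r = 24 := by decide +kernel
    rcases key r h1 ((negd_iff (isW_jw _) h1).mpr ⟨h2, hneg⟩) with rfl | rfl
    · exact ⟨t, 0, by rw [nA, X_zero, mul_one]⟩
    · exact ⟨0, t, by rw [nA, X_zero, one_mul]⟩
  | one => exact ⟨0, 0, nA_zero.symm⟩
  | mul a b _ _ ha hb =>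
    obtain ⟨p, q, rfl⟩ := ha; obtain ⟨p', q', rfl⟩ := hb
    exact ⟨_, _, nA_mul _ _ _ _⟩
  | inv a _ ha =>
    obtain ⟨p, q, rfl⟩ := ha
    exact ⟨p, q, inv_eq_of_mul_eq_one_right (by rw [nA_mul, CharTwo.add_self_eq_zero, CharTwo.add_self_eq_zero, nA_zero])⟩

theorem Um_B {x : GL chevF4.Idx K} (hx : x ∈ F4.okx.Um K (jw true)) : ∃ a b c d, x = nB a b c d := by
  induction hx using Subgroup.closure_induction with
  | mem y hy =>
    obtain ⟨r, t, hr, hneg, rfl⟩ := hy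
    obtain ⟨h1, h2⟩ := F4.okx.toOK.isPos_iff.mp hr
    have key : ∀ r < 48, negd (jw true) r = true → r = 27 ∨ r = 25 ∨ r = 28 ∨ r = 30 := by decide +kernel
    rcases key r h1 ((negd_iff (isW_jw _) h1).mpr ⟨h2, hneg⟩) with rfl | rfl | rfl | rfl
    · exact ⟨t, 0, 0, 0, by simp [nB, X_zero]⟩
    · exact ⟨0, t, 0, 0, by simp [nB, X_zero]⟩
    · exact ⟨0, 0, t, 0, by simp [nB, X_zero]⟩
    · exact ⟨0, 0, 0, t, by simp [nB, X_zero]⟩
  | one => exact ⟨0, 0, 0, 0, nB_zero.symm⟩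
  | mul a b _ _ ha hb =>
    obtain ⟨p, q, r, s, rfl⟩ := ha; obtain ⟨p', q', r', s', rfl⟩ := hb
    exact ⟨_, _, _, _, nB_mul _ _ _ _ _ _ _ _⟩
  | inv a _ ha =>
    obtain ⟨p, q, r, s, rfl⟩ := ha
    exact ⟨_, _, _, _, nB_inv _ _ _ _⟩

theorem X_mem_Um {w : List ℕ} (hw : IsW w) {r : ℕ} (hr : r < 48) (h : negd w r = true) (t : K) :
    X K r t ∈ F4.okx.Um K w := by
  obtain ⟨h1, h2⟩ := (negd_iff hw hr).mp h
  exact Subgroup.subset_closure ⟨r, t, F4.okx.toOK.isPos_iff.mpr ⟨hr, h1⟩, h2, rfl⟩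

theorem nA_mem (a b : K) : nA a b ∈ F4.okx.Um K (jw false) :=
  mul_mem (X_mem_Um (isW_jw _) (by omega) (by decide +kernel) a) (X_mem_Um (isW_jw _) (by omega) (by decide +kernel) b)

theorem nB_mem (a b c d : K) : nB a b c d ∈ F4.okx.Um K (jw true) :=
  mul_mem (mul_mem (X_mem_Um (isW_jw _) (by omega) (by decide +kernel) a) (X_mem_Um (isW_jw _) (by omega) (by decide +kernel) b))
    (mul_mem (X_mem_Um (isW_jw _) (by omega) (by decide +kernel) c) (X_mem_Um (isW_jw _) (by omega) (by decide +kernel) d))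

theorem mem_Um_of_neg {w : List ℕ} (hw : IsW w) {x : GL chevF4.Idx K} (hx : x ∈ chevF4.posUnipotent K)
    (hn : W K w * x * (W K w)⁻¹ ∈ chevF4.negUnipotent K) : x ∈ F4.okx.Um K w := by
  obtain ⟨a, ha, ha', c, hc, rfl⟩ := F4.okx.pos_split_word _ _ hw le_rfl x hx
  have h1 : W K w * a * (W K w)⁻¹ ∈ chevF4.borelSubgroup K ⊓ chevF4.negUnipotent K := by
    refine Subgroup.mem_inf.mpr ⟨Subgroup.mem_sup_left ha', ?_⟩
    have := mul_mem hn (inv_mem (F4.okx.Um_conj_neg hw hc))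
    simpa [mul_assoc] using this
  rw [F4.okx.toOK.borel_inf_neg, Subgroup.mem_bot, mul_inv_eq_one] at h1
  rwa [mul_eq_left.mp h1, one_mul]

namespace Ctx

variable (S : Ctx K)

/-- A positive element of the class of type A₁ × A₁. -/
noncomputable def pA (t : K) : GL chevF4.Idx K := nA (t ^ S.e) t

/-- A positive element of the class of type B₂. -/
noncomputable def pB (t u : K) : GL chevF4.Idx K := nB (t ^ S.e) t (t ^ (S.e + 1) + u) (u ^ (2 * S.e))

theorem lam_val {r : ℕ} {p l : ℕ} (h : andR (Nat.beq (per r) p) (Nat.beq (F4.isoTab.lamI r) l) = true) (hr : r < 48)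
    (t : K) : S.sg (X K r t) = X K p (t ^ (l * S.e)) := by
  simp only [andR_iff, Nat.beq_eq] at h
  rw [S.sg_X hr, h.1, h.2, ← pow_mul, mul_comm]

theorem sg_nA (a b : K) : S.sg (nA a b) = nA (b ^ S.e) (a ^ (2 * S.e)) := by
  rw [nA, S.sg_mul (X_mem _ _) (X_mem _ _), S.lam_val (p := 24) (l := 2) (by decide +kernel) (by omega),
    S.lam_val (p := 33) (l := 1) (by decide +kernel) (by omega), one_mul, nA,
    X_comm (r := 24) (s := 33) (by decide +kernel)]

theorem sg_nB (a b c d : K) : S.sg (nB a b c d) =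
    nB (b ^ S.e) (a ^ (2 * S.e)) (d ^ S.e + b ^ S.e * a ^ (2 * S.e))
      (c ^ (2 * S.e) + (b ^ S.e) ^ 2 * a ^ (2 * S.e)) := by
  rw [nB, S.sg_mul (mul_mem (X_mem _ _) (X_mem _ _)) (mul_mem (X_mem _ _) (X_mem _ _)),
    S.sg_mul (X_mem _ _) (X_mem _ _), S.sg_mul (X_mem _ _) (X_mem _ _),
    S.lam_val (p := 25) (l := 2) (by decide +kernel) (by omega),
    S.lam_val (p := 27) (l := 1) (by decide +kernel) (by omega),
    S.lam_val (p := 30) (l := 2) (by decide +kernel) (by omega),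
    S.lam_val (p := 28) (l := 1) (by decide +kernel) (by omega), one_mul,
    X_comm (r := 30) (s := 28) (by decide +kernel) (c ^ (2 * S.e)) (d ^ S.e)]
  have e1 : X K 25 (a ^ (2 * S.e)) = nB 0 (a ^ (2 * S.e)) 0 0 := by simp [nB, X_zero]
  have e2 : X K 27 (b ^ S.e) = nB (b ^ S.e) 0 0 0 := by simp [nB, X_zero]
  have e3 : X K 28 (d ^ S.e) * X K 30 (c ^ (2 * S.e)) = nB 0 0 (d ^ S.e) (c ^ (2 * S.e)) := by
    simp [nB, X_zero]
  rw [e1, e2, e3, nB_mul, nB_mul]
  congr 1 <;> ring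

theorem pow2e_add (x y : K) : (x + y) ^ (2 * S.e) = x ^ (2 * S.e) + y ^ (2 * S.e) := by
  haveI : Fact (Nat.Prime 2) := ⟨Nat.prime_two⟩
  rw [show 2 * S.e = 2 ^ (S.m + 1) by rw [Ctx.e, pow_succ']]
  exact add_pow_char_pow x y 2 (S.m + 1)

theorem pA_fixed (t : K) : S.pA t ∈ S.Fx := by
  refine ⟨mul_mem (X_mem _ _) (X_mem _ _), ?_⟩
  rw [pA, S.sg_nA, S.pow_e_2e]

theorem pB_fixed (t u : K) : S.pB t u ∈ S.Fx := by
  refine ⟨mul_mem (mul_mem (X_mem _ _) (X_mem _ _)) (mul_mem (X_mem _ _) (X_mem _ _)), ?_⟩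
  rw [pB, S.sg_nB, S.pow_e_2e, S.pow_2e_e, S.pow2e_add, pow_succ, mul_pow, S.pow_e_2e]
  congr 1
  · ring
  · rw [← pow_mul, mul_comm S.e 2]
    linear_combination (t * t ^ (2 * S.e)) * CharTwo.two_eq_zero (R := K)

theorem Um_A_fixed {x : GL chevF4.Idx K} (hx : x ∈ F4.okx.Um K (jw false)) (hF : x ∈ S.Fx) :
    ∃ t, x = S.pA t := by
  obtain ⟨a, b, rfl⟩ := Um_A hx
  have h := hF.2
  rw [S.sg_nA] at h
  obtain ⟨h1, -⟩ := nA_inj h
  exact ⟨b, by rw [pA, h1]⟩

theorem Um_B_fixed {x : GL chevF4.Idx K} (hx : x ∈ F4.okx.Um K (jw true)) (hF : x ∈ S.Fx) :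
    ∃ t u, x = S.pB t u := by
  obtain ⟨a, b, c, d, rfl⟩ := Um_B hx
  have h := hF.2
  rw [S.sg_nB] at h
  obtain ⟨h1, h2, h3, -⟩ := nB_inj h
  subst h1
  refine ⟨b, d ^ S.e, ?_⟩
  rw [S.pow_e_2e] at h3
  rw [pB, S.pow_e_2e]
  congr 1
  rw [← h3, pow_succ]
  ring

/-! ### The torus -/

/-- Parameters of the torus of the fixed points. -/
noncomputable def hv (s t : K) (i : ℕ) : K := [s ^ S.e, t ^ S.e, t, s].getD i 1

theorem hv_ne {s t : K} (hs : s ≠ 0) (ht : t ≠ 0) : ∀ i < 4, S.hv s t i ≠ 0 := by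
  intro i hi
  interval_cases i <;> simp [hv, hs, ht]

/-- The image of a parameter family. -/
noncomputable def cimg (c : ℕ → K) (i : ℕ) : K :=
  [c 3 ^ S.e, c 2 ^ S.e, c 1 ^ (2 * S.e), c 0 ^ (2 * S.e)].getD i 1

theorem sg_torG {c : ℕ → K} (hc : ∀ i < 4, c i ≠ 0) :
    S.sg (F4.okx.toOK.torG c) = F4.okx.toOK.torG (S.cimg c) := by
  have hm : ∀ r t, F4.okx.toOK.hG r (t : K) ∈ chevF4.group K := fun r t => F4.okx.toOK.wordG_mem _
  have hs : ∀ i, i < 4 → F4.T.smp i < 48 := fun i hi => F4.okx.toOK.smp_lt hi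
  have e : F4.okx.toOK.torG c = F4.okx.toOK.hG (F4.T.smp 0) (c 0) * F4.okx.toOK.hG (F4.T.smp 1) (c 1) *
      F4.okx.toOK.hG (F4.T.smp 2) (c 2) * F4.okx.toOK.hG (F4.T.smp 3) (c 3) := by
    rw [F4.okx.toOK.torG_eq_prod c]
    show ((List.range 4).map _).prod = _
    simp only [List.range_succ, List.range_zero, List.nil_append, List.cons_append, List.map_cons, List.map_nil,
      List.prod_cons, List.prod_nil, mul_one, mul_assoc]
    rw [F4.okx.toOK.simple_eq (show 0 < 4 by omega), F4.okx.toOK.simple_eq (show 1 < 4 by omega),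
      F4.okx.toOK.simple_eq (show 2 < 4 by omega), F4.okx.toOK.simple_eq (show 3 < 4 by omega)]
  rw [e, S.sg_mul (mul_mem (mul_mem (hm _ _) (hm _ _)) (hm _ _)) (hm _ _),
    S.sg_mul (mul_mem (hm _ _) (hm _ _)) (hm _ _), S.sg_mul (hm _ _) (hm _ _), S.sg_hG (hs 0 (by omega)),
    S.sg_hG (hs 1 (by omega)), S.sg_hG (hs 2 (by omega)), S.sg_hG (hs 3 (by omega)),
    (per_smp (show 0 < 4 by omega)).1, (per_smp (show 1 < 4 by omega)).1, (per_smp (show 2 < 4 by omega)).1,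
    (per_smp (show 3 < 4 by omega)).1, (per_smp (show 0 < 4 by omega)).2, (per_smp (show 1 < 4 by omega)).2,
    (per_smp (show 2 < 4 by omega)).2, (per_smp (show 3 < 4 by omega)).2]
  have n0 := hc 0 (by omega)
  have n1 := hc 1 (by omega)
  have n2 := hc 2 (by omega)
  have n3 := hc 3 (by omega)
  simp only [Nat.reduceLT, if_true, if_false, Nat.reduceSub, pow_one]
  rw [hG_smp (show 3 < 4 by omega) (pow_ne_zero _ (pow_ne_zero _ n0)),
    hG_smp (show 2 < 4 by omega) (pow_ne_zero _ (pow_ne_zero _ n1)),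
    hG_smp (show 1 < 4 by omega) (pow_ne_zero _ n2), hG_smp (show 0 < 4 by omega) (pow_ne_zero _ n3)]
  have d : ∀ (j : ℕ) (v : K), v ≠ 0 → ∀ k < 4, (if k = j then v else 1) ≠ 0 := fun j v hv k _ => by
    split_ifs <;> simp [hv]
  have d3 := d 3 _ (pow_ne_zero 2 (pow_ne_zero S.e n0))
  have d2 := d 2 _ (pow_ne_zero 2 (pow_ne_zero S.e n1))
  have d1 := d 1 _ (pow_ne_zero S.e n2)
  have d0 := d 0 _ (pow_ne_zero S.e n3)
  rw [F4.okx.toOK.torG_mul d3 d2, F4.okx.toOK.torG_mul (fun i hi => mul_ne_zero (d3 i hi) (d2 i hi)) d1,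
    F4.okx.toOK.torG_mul (fun i hi => mul_ne_zero (mul_ne_zero (d3 i hi) (d2 i hi)) (d1 i hi)) d0]
  refine F4.okx.toOK.torG_congr
    (fun i hi => mul_ne_zero (mul_ne_zero (mul_ne_zero (d3 i hi) (d2 i hi)) (d1 i hi)) (d0 i hi)) fun i hi => ?_
  have hi' : i < 4 := hi
  interval_cases i <;> simp [cimg, ← pow_mul, mul_comm]

theorem cimg_hv {s t : K} : ∀ i < 4, S.cimg (S.hv s t) i = S.hv s t i := by
  intro i hi
  interval_cases i <;> simp [cimg, hv, S.pow_e_2e]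

theorem torG_mem_group {c : ℕ → K} : F4.okx.toOK.torG c ∈ chevF4.group K := F4.okx.toOK.wordG_mem _

/-- The element of the torus with two parameters. -/
noncomputable def hst (s t : K) : GL chevF4.Idx K := F4.okx.toOK.torG (S.hv s t)

theorem hst_diag {s t : K} (hs : s ≠ 0) (ht : t ≠ 0) : S.hst s t ∈ chevF4.diagonalSubgroup K :=
  F4.okx.toOK.mem_diag.mpr ⟨_, S.hv_ne hs ht, rfl⟩

theorem hst_fixed {s t : K} (hs : s ≠ 0) (ht : t ≠ 0) : S.hst s t ∈ S.Fx := by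
  refine ⟨torG_mem_group, ?_⟩
  rw [hst, S.sg_torG (S.hv_ne hs ht)]
  refine F4.okx.toOK.torG_congr (fun i hi => ?_) fun i hi => S.cimg_hv i hi
  rw [S.cimg_hv i hi]; exact S.hv_ne hs ht i hi

/-- The torus of the fixed points. -/
noncomputable def Hs : Subgroup (GL chevF4.Idx K) := chevF4.diagonalSubgroup K ⊓ S.Fx

theorem mem_Hs {x : GL chevF4.Idx K} : x ∈ S.Hs ↔ ∃ s t, s ≠ 0 ∧ t ≠ 0 ∧ x = S.hst s t := by
  constructor
  · rintro ⟨hd, -, hF⟩
    obtain ⟨c, hc, rfl⟩ := F4.okx.toOK.mem_diag.mp hd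
    rw [S.sg_torG hc] at hF
    have hne : ∀ i < 4, S.cimg c i ≠ 0 := fun i hi => by
      have n0 := hc 0 (by decide)
      have n1 := hc 1 (by decide)
      have n2 := hc 2 (by decide)
      have n3 := hc 3 (by decide)
      interval_cases i <;> simp [cimg, n0, n1, n2, n3]
    have h := F4.okx.torG_inj (F4.torus_ker K) hne hc hF
    have h0 := h 0 (by decide)
    have h1 := h 1 (by decide)
    simp only [cimg, List.getD_cons_zero, List.getD_cons_succ] at h0 h1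
    refine ⟨c 3, c 2, hc 3 (by decide), hc 2 (by decide), F4.okx.toOK.torG_congr hc fun i hi => ?_⟩
    have hi' : i < 4 := hi
    interval_cases i <;> simp [hv, h0, h1]
  · rintro ⟨s, t, hs, ht, rfl⟩
    exact Subgroup.mem_inf.mpr ⟨S.hst_diag hs ht, S.hst_fixed hs ht⟩

theorem hst_inj {s t s' t' : K} (hs : s ≠ 0) (ht : t ≠ 0) (hs' : s' ≠ 0) (ht' : t' ≠ 0)
    (h : S.hst s t = S.hst s' t') : s = s' ∧ t = t' := by
  have e := F4.okx.torG_inj (F4.torus_ker K) (S.hv_ne hs ht) (S.hv_ne hs' ht') h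
  exact ⟨by simpa [hv] using e 3 (by decide), by simpa [hv] using e 2 (by decide)⟩

theorem card_Hs : Nat.card ↥S.Hs = (Fintype.card K - 1) ^ 2 := by
  classical
  rw [← Fintype.card_units, sq, ← Nat.card_eq_fintype_card, ← Nat.card_prod]
  refine (Nat.card_eq_of_bijective (fun p : Kˣ × Kˣ =>
    (⟨S.hst p.1 p.2, S.mem_Hs.mpr ⟨_, _, p.1.ne_zero, p.2.ne_zero, rfl⟩⟩ : ↥S.Hs)) ⟨?_, ?_⟩).symm
  · intro p p' h
    obtain ⟨h1, h2⟩ := S.hst_inj p.1.ne_zero p.2.ne_zero p'.1.ne_zero p'.2.ne_zero (congrArg Subtype.val h)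
    exact Prod.ext (Units.ext h1) (Units.ext h2)
  · rintro ⟨x, hx⟩
    obtain ⟨s, t, hs, ht, rfl⟩ := S.mem_Hs.mp hx
    exact ⟨(Units.mk0 s hs, Units.mk0 t ht), rfl⟩

/-! ### The unipotent parts -/

theorem sameI_rho (b : Bool) : sameI ((jw b).map fun i => 3 - i) (jw b) = true := by
  have h := per_ok
  simp only [chkPer, andR_iff] at h
  cases b
  · exact h.2.2.2.1
  · exact h.2.2.1

theorem sg_W_jw (b : Bool) : S.sg (W K (jw b)) = W K (jw b) := by
  rw [S.sg_W (isW_jw b)]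
  exact W_eq (fun i hi => by obtain ⟨j, -, rfl⟩ := List.mem_map.mp hi; omega) (isW_jw b) (sameI_rho b)

theorem W_wd_fixed : ∀ v : List Bool, W K (wd v) ∈ S.Fx
  | [] => one_mem _
  | b :: v => by
    rw [wd_cons, W_app]
    exact mul_mem (S.mem_Fx.mpr ⟨W_mem (isW_jw b), S.sg_W_jw b⟩) (W_wd_fixed v)

theorem wd_per : ∀ (v : List Bool) {r : ℕ}, r < 48 → piW F4.T (wd v) (per r) = per (piW F4.T (wd v) r)
  | [], _, _ => rfl
  | b :: v, r, hr => by
    have hl := F4.okx.piW_lt (isW_wd v) hr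
    rw [wd_cons, piW_append, piW_append, wd_per v hr,
      ← piW_same (fun i hi => by obtain ⟨j, -, rfl⟩ := List.mem_map.mp hi; omega) (isW_jw b) (sameI_rho b)
        (per_facts hl).1, piW_rho (isW_jw b) hl]

theorem sg_Um (v : List Bool) {x : GL chevF4.Idx K} (hx : x ∈ F4.okx.Um K (wd v)) :
    S.sg x ∈ F4.okx.Um K (wd v) := by
  have e : F4.okx.Um K (wd v) = Subgroup.closure {y | ∃ (r : ℕ) (t : K),
      (chevF4.IsPosRoot r ∧ F4.T.htf (piW F4.T (wd v) r) < 0) ∧ y = X K r t} := by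
    rw [OKX.Um]
    congr 1
    ext y
    exact ⟨fun ⟨r, t, h1, h2, e⟩ => ⟨r, t, ⟨h1, h2⟩, e⟩, fun ⟨r, t, ⟨h1, h2⟩, e⟩ => ⟨r, t, h1, h2, e⟩⟩
  rw [e] at hx ⊢
  refine S.sg_closure (fun r hr => ?_) hx
  obtain ⟨h1, h2⟩ := F4.okx.toOK.isPos_iff.mp hr.1
  refine ⟨h1, F4.okx.toOK.isPos_iff.mpr ⟨(per_facts h1).1, (per_pos h1).mpr h2⟩, ?_⟩
  have hl := F4.okx.piW_lt (isW_wd v) h1
  rw [wd_per v h1]
  have := per_pos hl
  have := F4.okx.toOK.ht_ne (per_facts hl).1
  omega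

/-- Splitting a fixed positive unipotent element along a word. -/
theorem split (v : List Bool) {u : GL chevF4.Idx K} (hu : u ∈ chevF4.posUnipotent K) (hF : u ∈ S.Fx) :
    ∃ a, a ∈ chevF4.posUnipotent K ∧ a ∈ S.Fx ∧ W K (wd v) * a * (W K (wd v))⁻¹ ∈ chevF4.posUnipotent K ∧
      ∃ c, c ∈ F4.okx.Um K (wd v) ∧ c ∈ S.Fx ∧ u = a * c := by
  have hw := isW_wd v
  obtain ⟨a, ha, ha', c, hc, hac⟩ := F4.okx.pos_split_word _ _ hw le_rfl u hu
  change W K (wd v) * a * (W K (wd v))⁻¹ ∈ chevF4.posUnipotent K at ha'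
  set s := W K (wd v) with hs
  have haG := F4.okx.toOK.pos_le_group ha
  have hcG := F4.okx.toOK.pos_le_group (F4.okx.Um_le _ hc)
  have e1 : a * c = S.sg a * S.sg c := by rw [← S.sg_mul haG hcG, ← hac]; exact hF.2.symm
  have hz : (S.sg a)⁻¹ * a = S.sg c * c⁻¹ := by
    rw [eq_mul_inv_iff_mul_eq, mul_assoc, e1, inv_mul_cancel_left]
  have hsF := S.W_wd_fixed v
  have h1 : s * ((S.sg a)⁻¹ * a) * s⁻¹ ∈ chevF4.borelSubgroup K ⊓ chevF4.negUnipotent K := by
    refine Subgroup.mem_inf.mpr ⟨Subgroup.mem_sup_left ?_, ?_⟩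
    · have h2 : s * S.sg a * s⁻¹ ∈ chevF4.posUnipotent K := by
        have := S.sg_pos ha'
        rwa [S.sg_mul (mul_mem hsF.1 haG) (inv_mem hsF.1), S.sg_mul hsF.1 haG, S.sg_inv hsF.1,
          show S.sg s = s from hsF.2] at this
      have := mul_mem (inv_mem h2) ha'
      simpa [mul_assoc] using this
    · rw [hz]
      exact F4.okx.Um_conj_neg hw (mul_mem (S.sg_Um v hc) (inv_mem hc))
  rw [F4.okx.toOK.borel_inf_neg, Subgroup.mem_bot, mul_inv_eq_one] at h1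
  have haF : a ∈ S.Fx := ⟨haG, inv_mul_eq_one.mp (mul_eq_left.mp h1)⟩
  refine ⟨a, ha, haF, ha', c, hc, ?_, hac⟩
  rw [show c = a⁻¹ * u by rw [hac, inv_mul_cancel_left]]
  exact mul_mem (inv_mem haF) hF

theorem red_facts {b : Bool} {v : List Bool} (h : b :: v ∈ L16) :
    v ∈ L16 ∧ (∀ r < 48, negd (wd v) r = true → negd (jw b ++ wd v) r = true) ∧
      ∀ r < 48, negd (jw b) r = true → 0 < F4.T.htf (piW F4.T (wd v).reverse r) := by
  have h' := allL_iff.mp red_ok _ h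
  simp only [andR_iff, chkStep, allR_iff, anyL_iff, orR_iff, notR_iff, appR_eq, Tabs.piR_eq, ipos_iff] at h'
  obtain ⟨h1, u, hu, e⟩ := h'
  rw [eq_of_eqL (fun a c => beqB_iff.mp) e] at hu
  exact ⟨hu, fun r hr hn => ((h1 r hr).1).resolve_left (by simp [hn]),
    fun r hr hn => ((h1 r hr).2).resolve_left (by simp [hn])⟩

/-- The map giving the recursion for the unipotent parts. -/
theorem Um_step {b : Bool} {v : List Bool} (h : b :: v ∈ L16) :
    Nat.card ↥(F4.okx.Um K (wd (b :: v)) ⊓ S.Fx) =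
      Nat.card ↥(F4.okx.Um K (jw b) ⊓ S.Fx) * Nat.card ↥(F4.okx.Um K (wd v) ⊓ S.Fx) := by
  classical
  obtain ⟨-, H1, H2⟩ := red_facts h
  have hv := isW_wd v
  have hw := isW_wd (b :: v)
  set n := W K (wd v) with hn
  have hnF := S.W_wd_fixed v
  have hle : F4.okx.Um K (wd v) ≤ F4.okx.Um K (wd (b :: v)) := by
    refine (Subgroup.closure_le _).mpr ?_
    rintro y ⟨r, t, hr, hneg, rfl⟩
    obtain ⟨h1, h2⟩ := F4.okx.toOK.isPos_iff.mp hr
    exact X_mem_Um hw h1 (by rw [wd_cons]; exact H1 r h1 ((negd_iff hv h1).mpr ⟨h2, hneg⟩)) t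
  have hconj : ∀ x ∈ F4.okx.Um K (jw b), n⁻¹ * x * n ∈ F4.okx.Um K (wd (b :: v)) := by
    intro x hx
    induction hx using Subgroup.closure_induction with
    | mem y hy =>
      obtain ⟨r, t, hr, hneg, rfl⟩ := hy
      obtain ⟨h1, h2⟩ := F4.okx.toOK.isPos_iff.mp hr
      have hl := F4.okx.piW_lt (isW_rev hv) h1
      have e : n⁻¹ * X K r t * n = X K (piW F4.T (wd v).reverse r) t := by
        rw [← W_conj (isW_rev hv) h1, ← W_rev hv, ← hn, inv_inv]
      rw [show F4.okx.toOK.xG r t = X K r t from rfl, e]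
      refine Subgroup.subset_closure ⟨_, t, F4.okx.toOK.isPos_iff.mpr
        ⟨hl, H2 r h1 ((negd_iff (isW_jw b) h1).mpr ⟨h2, hneg⟩)⟩, ?_, rfl⟩
      rw [wd_cons, piW_append, F4.okx.piW_rev hv h1]
      exact hneg
    | one => simp
    | mul p q _ _ hp hq =>
      have := mul_mem hp hq
      simpa [mul_assoc] using this
    | inv p _ hp =>
      have := inv_mem hp
      simpa [mul_assoc] using this
  let f : ↥(F4.okx.Um K (jw b) ⊓ S.Fx) × ↥(F4.okx.Um K (wd v) ⊓ S.Fx) →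
      ↥(F4.okx.Um K (wd (b :: v)) ⊓ S.Fx) := fun p =>
    ⟨n⁻¹ * (p.1 : GL chevF4.Idx K) * n * (p.2 : GL chevF4.Idx K),
      Subgroup.mem_inf.mpr ⟨mul_mem (hconj _ (Subgroup.mem_inf.mp p.1.2).1) (hle (Subgroup.mem_inf.mp p.2.2).1),
        mul_mem (mul_mem (mul_mem (inv_mem hnF) (Subgroup.mem_inf.mp p.1.2).2) hnF) (Subgroup.mem_inf.mp p.2.2).2⟩⟩
  rw [← Nat.card_prod]
  refine (Nat.card_eq_of_bijective f ⟨?_, ?_⟩).symm
  · rintro ⟨⟨x, hx⟩, ⟨d, hd⟩⟩ ⟨⟨y, hy⟩, ⟨d', hd'⟩⟩ e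
    have e' : n⁻¹ * x * n * d = n⁻¹ * y * n * d' := congrArg Subtype.val e
    have h1 : y⁻¹ * x = n * (d' * d⁻¹) * n⁻¹ := by
      have e2 : x * n * d = y * n * d' := by
        have := congrArg (fun g => n * g) e'
        simpa [mul_assoc] using this
      have e3 : x = y * n * d' * d⁻¹ * n⁻¹ := by rw [← e2]; simp [mul_assoc]
      rw [e3]; simp [mul_assoc]
    have h2 : y⁻¹ * x ∈ chevF4.borelSubgroup K ⊓ chevF4.negUnipotent K := Subgroup.mem_inf.mpr
      ⟨Subgroup.mem_sup_left (mul_mem (inv_mem (F4.okx.Um_le _ hy.1)) (F4.okx.Um_le _ hx.1)),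
        h1 ▸ F4.okx.Um_conj_neg hv (mul_mem hd'.1 (inv_mem hd.1))⟩
    rw [F4.okx.toOK.borel_inf_neg, Subgroup.mem_bot, inv_mul_eq_one] at h2
    subst h2
    exact Prod.ext rfl (Subtype.ext (mul_left_cancel e'))
  · rintro ⟨c, hc⟩
    obtain ⟨hc1, hc2⟩ := Subgroup.mem_inf.mp hc
    obtain ⟨a, ha, haF, ha', d, hd, hdF, rfl⟩ := S.split v (F4.okx.Um_le _ hc1) hc2
    have haw : a ∈ F4.okx.Um K (wd (b :: v)) := by
      have := mul_mem hc1 (inv_mem (hle hd))
      simpa using this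
    have hxU : n * a * n⁻¹ ∈ F4.okx.Um K (jw b) := by
      refine mem_Um_of_neg (isW_jw b) ha' ?_
      have := F4.okx.Um_conj_neg hw haw
      rw [show F4.okx.toOK.gW K (wd (b :: v)) = W K (jw b) * n by rw [hn, ← W_app, wd_cons]] at this
      simpa [mul_assoc] using this
    refine ⟨(⟨n * a * n⁻¹, Subgroup.mem_inf.mpr ⟨hxU, mul_mem (mul_mem hnF haF) (inv_mem hnF)⟩⟩,
      ⟨d, Subgroup.mem_inf.mpr ⟨hd, hdF⟩⟩), Subtype.ext ?_⟩
    simp [f, mul_assoc]

theorem card_Um_jw (b : Bool) : Nat.card ↥(F4.okx.Um K (jw b) ⊓ S.Fx) = Fintype.card K ^ (if b then 2 else 1) := by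
  classical
  cases b
  · rw [if_neg Bool.false_ne_true, pow_one, ← Nat.card_eq_fintype_card]
    refine (Nat.card_eq_of_bijective (fun t : K => (⟨S.pA t, Subgroup.mem_inf.mpr ⟨nA_mem _ _, S.pA_fixed t⟩⟩ :
      ↥(F4.okx.Um K (jw false) ⊓ S.Fx))) ⟨?_, ?_⟩).symm
    · intro t t' e
      exact (nA_inj (congrArg Subtype.val e)).2
    · rintro ⟨x, hx⟩
      obtain ⟨t, rfl⟩ := S.Um_A_fixed (Subgroup.mem_inf.mp hx).1 (Subgroup.mem_inf.mp hx).2
      exact ⟨t, rfl⟩
  · rw [if_pos rfl, sq, ← Nat.card_eq_fintype_card, ← Nat.card_prod]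
    refine (Nat.card_eq_of_bijective (fun p : K × K => (⟨S.pB p.1 p.2, Subgroup.mem_inf.mpr
      ⟨nB_mem _ _ _ _, S.pB_fixed p.1 p.2⟩⟩ : ↥(F4.okx.Um K (jw true) ⊓ S.Fx))) ⟨?_, ?_⟩).symm
    · rintro ⟨t, u⟩ ⟨t', u'⟩ e
      obtain ⟨-, h2, h3, -⟩ := nB_inj (congrArg Subtype.val e)
      subst h2
      exact Prod.ext rfl (add_left_cancel h3)
    · rintro ⟨x, hx⟩
      obtain ⟨t, u, rfl⟩ := S.Um_B_fixed (Subgroup.mem_inf.mp hx).1 (Subgroup.mem_inf.mp hx).2
      exact ⟨(t, u), rfl⟩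

theorem Um_nil : F4.okx.Um K (wd []) = ⊥ := by
  refine eq_bot_iff.mpr ((Subgroup.closure_le _).mpr ?_)
  rintro y ⟨r, t, hr, hneg, -⟩
  exact absurd (F4.okx.toOK.isPos_iff.mp hr).2 (not_lt.mpr (le_of_lt hneg))

/-- Half the length. -/
def cnt (v : List Bool) : ℕ := (v.map fun b => if b then 2 else 1).sum

theorem card_Um : ∀ v : List Bool, v ∈ L16 →
    Nat.card ↥(F4.okx.Um K (wd v) ⊓ S.Fx) = Fintype.card K ^ cnt v
  | [], _ => by rw [Um_nil, bot_inf_eq, Subgroup.card_bot]; rfl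
  | b :: v, h => by
    rw [S.Um_step h, S.card_Um_jw, card_Um v (red_facts h).1, ← pow_add, cnt, cnt, List.map_cons, List.sum_cons]

end Ctx

end Cfsg.Agent.Chev.Ree4
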