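import Cfsg.Agent.Lib.Chev.StPres

/-!
A family of matrices described by columns, checked against the additivity and commutator relations of a datum: it gives
a homomorphism on the group presented by these two families.
-/

set_option autoImplicit false

namespace Cfsg.Agent.Chev

open Cfsg.Lie

/-- The tables `R` describe matrices of size `N` satisfying the relations of `D`. -/
noncomputable def Tabs.chkRep (D : ChevalleyDatum) (T R : Tabs) (N : ℕ) : Bool :=
  allR D.nroots fun r => andR
    (allR N fun c => allL (fun e => andR (nlt e.1 N) (notR (Nat.beq e.2.2 0))) (R.ext r c)) <|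
  andR (colsEqv N (comp (R.XC r 1 1 0) (R.XC r 1 0 1)) (R.addC r)) <|
  allR D.nroots fun s => andR (eqL eqQ (R.terms r s) (T.terms r s)) <| orR (Nat.beq s r) <| orR (Nat.beq s (T.neg r)) <|
    colsEqv N (comp (R.XC s 1 0 1) (R.XC r 1 1 0)) (R.wordC ((r, 1, 1, 0) :: (s, 1, 0, 1) :: R.commW r s))

variable {F : Type*} [Field F] {D : ChevalleyDatum} {T R : Tabs} {ι : Type*} [Fintype ι] [DecidableEq ι]
  {φ : ι → ℕ} {N : ℕ}

/-- The matrix of the table at a root and a parameter. -/
noncomputable def mRep (R : Tabs) (φ : ι → ℕ) (r : ℕ) (t : F) : Matrix ι ι F :=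
  Matrix.of fun i j => colVal t (R.colT r (φ j)) (φ i)

/-- The hypotheses on the numbering and the check. -/
structure RepOK (D : ChevalleyDatum) (T R : Tabs) (φ : ι → ℕ) (N : ℕ) : Prop where
  inj : Function.Injective φ
  lt : ∀ i, φ i < N
  surj : ∀ k < N, ∃ i, φ i = k
  chk : Tabs.chkRep D T R N = true

namespace RepOK

variable (rk : RepOK D T R φ N)

include rk

theorem ext_spec {r : ℕ} (hr : r < D.nroots) (j : ι) {e : ℕ × ℤ × ℕ} (he : e ∈ R.ext r (φ j)) :
    (∃ i, φ i = e.1) ∧ e.2.2 ≠ 0 := by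
  have h := rk.chk
  simp only [Tabs.chkRep, allR_iff, andR_iff, allL_iff, nlt_iff, notR_iff, nbeq_false_iff] at h
  obtain ⟨h1, h2⟩ := (h r hr).1 _ (rk.lt j) e he
  exact ⟨rk.surj _ h1, h2⟩

theorem rep_XC {r : ℕ} (c a b : ℤ) (t u : F) :
    Rep φ t u (R.XC r c a b) (mRep R φ r ((c : F) * t ^ a * u ^ b)) := fun i j => by
  rw [mRep, Matrix.of_apply, valEn_XC]

theorem inRange_XC {r : ℕ} (hr : r < D.nroots) (c a b : ℤ) : InRange φ (R.XC r c a b) := by
  intro j e he
  simp only [Tabs.XC, mapR_eq, List.mem_map, Tabs.colT, List.mem_cons] at he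
  obtain ⟨f, hf, rfl⟩ := he
  rcases hf with rfl | hf
  · exact ⟨j, rfl⟩
  · exact (rk.ext_spec hr j hf).1

theorem m_zero {r : ℕ} (hr : r < D.nroots) : mRep R φ r (0 : F) = 1 := by
  ext i j
  rw [mRep, Matrix.of_apply, Tabs.colT, colVal_cons]
  have : colVal (0 : F) (R.ext r (φ j)) (φ i) = 0 := by
    refine List.sum_eq_zero fun x hx => ?_
    obtain ⟨e, he, rfl⟩ := List.mem_map.mp hx
    simp [zero_pow (rk.ext_spec hr j he).2]
  rw [this, add_zero, Matrix.one_apply]
  simp [rk.inj.eq_iff, eq_comm]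

theorem rep_x (r : ℕ) (t u : F) :
    Rep φ t u (R.XC r 1 1 0) (mRep R φ r t) ∧ Rep φ t u (R.XC r 1 0 1) (mRep R φ r u) :=
  ⟨by simpa using rk.rep_XC (r := r) 1 1 0 t u, by simpa using rk.rep_XC (r := r) 1 0 1 t u⟩

theorem rep_word {t u : F} (ht : t ≠ 0) (hu : u ≠ 0) : ∀ (w : Tabs.Wd), (∀ f ∈ w, f.1 < D.nroots) →
    Rep φ t u (R.wordC w) (((wdArgs F t u w).map fun p => mRep R φ p.1 p.2).prod) ∧ InRange φ (R.wordC w)
  | [], _ => ⟨Rep.one rk.inj t u, InRange.idC _⟩
  | f :: w, h => by
    have ih := rep_word ht hu w fun g hg => h g (List.mem_cons_of_mem _ hg)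
    have hf := h f List.mem_cons_self
    refine ⟨?_, InRange.comp (rk.inRange_XC hf _ _ _) ih.2⟩
    rw [show wdArgs F t u (f :: w) = (f.1, (f.2.1 : F) * t ^ f.2.2.1 * u ^ f.2.2.2) :: wdArgs F t u w from rfl,
      List.map_cons, List.prod_cons]
    exact Rep.comp rk.inj ht hu (rk.rep_XC _ _ _ t u) ih.1 ih.2

theorem m_add {r : ℕ} (hr : r < D.nroots) (t u : F) : mRep R φ r t * mRep R φ r u = mRep R φ r (t + u) := by
  by_cases ht : t = 0
  · rw [ht, rk.m_zero hr, one_mul, zero_add]
  by_cases hu : u = 0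
  · rw [hu, rk.m_zero hr, mul_one, add_zero]
  have h := rk.chk
  simp only [Tabs.chkRep, allR_iff, andR_iff] at h
  refine Rep.eq_of_colsEqv (t := t) (u := u) rk.lt
    (Rep.comp rk.inj ht hu (rk.rep_x r t u).1 (rk.rep_x r t u).2 (rk.inRange_XC hr _ _ _)) (fun a b => ?_) (h r hr).2.1
  rw [mRep, Matrix.of_apply]
  simp only [Tabs.addC, flatR_eq, mapR_eq, upTo_eq]
  generalize R.colT r (φ b) = L
  induction L with
  | nil => simp [valEn, colVal]
  | cons e L ih =>
    rw [List.flatMap_cons, valEn_append, colVal_cons, ih]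
    congr 1
    simp only [valEn, List.map_map, Function.comp_def, En.ev]
    by_cases hr' : e.1 = φ a
    · simp only [if_pos hr', ← OK.eval_choose t u e.2.2, ← List.sum_map_mul_left]
      congr 1
      refine List.map_congr_left fun i _ => ?_
      simp only [zpow_natCast, Int.cast_mul, Int.cast_natCast]
      ring
    · simp only [if_neg hr']
      exact (List.sum_eq_zero fun x hx => by obtain ⟨i, -, rfl⟩ := List.mem_map.mp hx; rfl).symm

theorem m_comm (ok : OKX D T) {r s : ℕ} (hr : r < D.nroots) (hs : s < D.nroots) (hsr : s ≠ r) (hsn : s ≠ T.neg r)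
    (t u : F) : mRep R φ s u * mRep R φ r t =
      mRep R φ r t * mRep R φ s u * (((D.commWord F r s t u).map fun p => mRep R φ p.1 p.2).prod) := by
  have h := rk.chk
  simp only [Tabs.chkRep, allR_iff, andR_iff, orR_iff, Nat.beq_eq] at h
  obtain ⟨heq, h'⟩ := (h r hr).2.2 s hs
  have hterms : R.terms r s = T.terms r s := eq_of_eqL eq_of_eqQ heq
  replace h' := (h'.resolve_left hsr).resolve_left hsn
  have hsp := fun q (hq : q ∈ T.terms r s) => ok.toOK.term_spec hr hs hq
  by_cases ht : t = 0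
  · subst ht
    rw [rk.m_zero hr, mul_one, one_mul, ChevalleyDatum.commWord, List.map_map,
      List.prod_eq_one (fun x hx => ?_), mul_one]
    obtain ⟨q, hq, rfl⟩ := List.mem_map.mp hx
    rw [ok.toOK.terms_eq hr hs] at hq
    simp [zero_pow (hsp q hq).2.1, rk.m_zero (hsp q hq).1]
  by_cases hu : u = 0
  · subst hu
    rw [rk.m_zero hs, mul_one, one_mul, ChevalleyDatum.commWord, List.map_map,
      List.prod_eq_one (fun x hx => ?_), mul_one]
    obtain ⟨q, hq, rfl⟩ := List.mem_map.mp hx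
    rw [ok.toOK.terms_eq hr hs] at hq
    simp [zero_pow (hsp q hq).2.2.1, rk.m_zero (hsp q hq).1]
  have hw := rk.rep_word (t := t) (u := u) ht hu ((r, 1, 1, 0) :: (s, 1, 0, 1) :: R.commW r s) (fun f hf => by
    simp only [List.mem_cons, Tabs.commW, hterms, mapR_eq, List.mem_map] at hf
    rcases hf with rfl | rfl | ⟨q, hq, rfl⟩
    exacts [hr, hs, (hsp q hq).1])
  have he : ((wdArgs F t u ((r, 1, 1, 0) :: (s, 1, 0, 1) :: R.commW r s)).map fun p => mRep R φ p.1 p.2).prod =
      mRep R φ r t * mRep R φ s u * (((D.commWord F r s t u).map fun p => mRep R φ p.1 p.2).prod) := by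
    simp only [wdArgs, List.map_cons, List.prod_cons, ChevalleyDatum.commWord, ok.toOK.terms_eq hr hs, Tabs.commW,
      hterms, mapR_eq, List.map_map, Function.comp_def]
    simp only [zpow_one, zpow_zero, mul_one, Int.cast_one, one_mul, ← mul_assoc]
    congr 2
    refine List.map_congr_left fun q _ => ?_
    congr 1
    simp only [ipow_eq, Int.mul_def, Int.ofNat_eq_natCast, zpow_natCast, Int.cast_mul, Int.cast_pow, neg_pow t,
      Int.reduceNegSucc, Int.cast_neg, Int.cast_one]
    ring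
  rw [← he]
  exact Rep.eq_of_colsEqv (t := t) (u := u) rk.lt
    (Rep.comp rk.inj ht hu (rk.rep_x s t u).2 (rk.rep_x r t u).1 (rk.inRange_XC hr _ _ _)) hw.1 h'

/-- The table matrix as an invertible matrix. -/
noncomputable def mG (r : Fin D.nroots) (t : F) : GL ι F where
  val := mRep R φ r t
  inv := mRep R φ r (-t)
  val_inv := by rw [rk.m_add r.isLt, add_neg_cancel, rk.m_zero r.isLt]
  inv_val := by rw [rk.m_add r.isLt, neg_add_cancel, rk.m_zero r.isLt]

theorem rels_one (ok : OKX D T) {g : FreeGroup (Fin D.nroots × F)} (hg : g ∈ D.steinbergRelsAB F) :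
    FreeGroup.lift (fun p => rk.mG p.1 p.2) g = 1 := by
  set L := FreeGroup.lift (fun p : Fin D.nroots × F => rk.mG p.1 p.2)
  have hX : ∀ (r : ℕ) (t : F), r < D.nroots → (L (D.stX r t) : Matrix ι ι F) = mRep R φ r t := by
    intro r t hr
    rw [ChevalleyDatum.stX, dif_pos hr, FreeGroup.lift_apply_of]
    rfl
  have hW : ∀ w : List (ℕ × F), (∀ p ∈ w, p.1 < D.nroots) →
      (L (D.stWord w) : Matrix ι ι F) = (w.map fun p => mRep R φ p.1 p.2).prod := by
    intro w hw
    induction w with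
    | nil => simp [ChevalleyDatum.stWord]
    | cons p w ih =>
      rw [List.map_cons, List.prod_cons, ← ih fun q hq => hw q (List.mem_cons_of_mem _ hq),
        ← hX p.1 p.2 (hw p List.mem_cons_self), ← Units.val_mul, ← map_mul]
      simp [ChevalleyDatum.stWord]
  rcases hg with ⟨r, a, b, hr, rfl⟩ | ⟨r, s, a, b, hr, hs, h1, h2, rfl⟩
  · rw [map_mul, map_mul, map_inv, mul_inv_eq_one]
    refine Units.ext ?_
    rw [Units.val_mul, hX _ _ hr, hX _ _ hr, hX _ _ hr, rk.m_add hr]
  · have hc : ∀ p ∈ D.commWord F r s a b, p.1 < D.nroots := by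
      intro p hp
      simp only [ChevalleyDatum.commWord, ok.toOK.terms_eq hr hs, List.mem_map] at hp
      obtain ⟨q, hq, rfl⟩ := hp
      exact (ok.toOK.term_spec hr hs hq).1
    have e : L (D.stX s b) * L (D.stX r a) = L (D.stX r a) * L (D.stX s b) * L (D.stWord (D.commWord F r s a b)) := by
      refine Units.ext ?_
      rw [Units.val_mul, Units.val_mul, Units.val_mul, hX _ _ hr, hX _ _ hs, hW _ hc]
      exact rk.m_comm ok hr hs h1 (by rwa [ok.toOK.neg_eq hr] at h2) a b
    simp only [map_mul, map_inv]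
    rw [mul_assoc (_ * _) (L (D.stX s b)) (L (D.stX r a)), e]
    simp [mul_assoc]

/-- The homomorphism on the presented group. -/
noncomputable def hom (ok : OKX D T) : D.SteinbergCover F →* GL ι F :=
  PresentedGroup.toGroup fun _ hg => rk.rels_one ok hg

theorem hom_gen (ok : OKX D T) {r : ℕ} (hr : r < D.nroots) (t : F) :
    (rk.hom ok (D.scGen F r t) : Matrix ι ι F) = mRep R φ r t := by
  rw [ChevalleyDatum.scGen, ChevalleyDatum.stX, dif_pos hr]
  exact congrArg Units.val (PresentedGroup.toGroup.of (x := ((⟨r, hr⟩ : Fin D.nroots), t))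
    (fun _ hg => rk.rels_one ok hg))

theorem hom_range_le (ok : OKX D T) {H : Subgroup (GL ι F)}
    (h : ∀ r < D.nroots, ∀ t : F, ∀ g : GL ι F, (g : Matrix ι ι F) = mRep R φ r t → g ∈ H)
    (x : D.SteinbergCover F) : rk.hom ok x ∈ H := by
  have hx : x ∈ Subgroup.closure (Set.range (PresentedGroup.of (rels := D.steinbergRelsAB F))) := by
    rw [PresentedGroup.closure_range_of]; exact Subgroup.mem_top x
  induction hx using Subgroup.closure_induction with
  | mem z hz =>
    obtain ⟨⟨r, t⟩, rfl⟩ := hz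
    refine h r r.isLt t _ ?_
    rw [hom, PresentedGroup.toGroup.of]
    rfl
  | one => rw [map_one]; exact one_mem _
  | mul a b _ _ ha hb => rw [map_mul]; exact mul_mem ha hb
  | inv a _ ha => rw [map_inv]; exact inv_mem ha

end RepOK

end Cfsg.Agent.Chev
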