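import Cfsg.Agent.Lib.Chev.RootPair
import Cfsg.Agent.Lib.Chev.AllX

/-! Generated: for each root in the orbit of the highest root, a word making both roots positive. -/

set_option autoImplicit false
set_option maxRecDepth 20000

namespace Cfsg.Agent.Chev

open Cfsg.Lie

def G2.pairs : List (ℕ × List ℕ) :=
  [(0, []), (1, [1, 0]), (5, [1]), (6, []), (10, []), (11, [])]

theorem G2.pairs_ok : Tabs.chkPairs chevG2 G2.T G2.pairs = true := by decide +kernel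

def D4.pairs : List (ℕ × List ℕ) :=
  [(0, []), (1, [3, 1, 2, 0]), (2, [2, 1, 0]), (3, [3, 1, 0]), (4, [1, 0]), (5, [0]), (6, [3, 1, 2]), (7, [2, 1]), (8, [3, 1]), (9, [1]), (10, [2]), (11, [3]), (12, []), (13, []), (14, []), (15, []), (16, []), (17, []), (18, []), (19, []), (20, []), (21, []), (22, []), (23, [])]

theorem D4.pairs_ok : Tabs.chkPairs chevD4 D4.T D4.pairs = true := by decide +kernel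

def E6.pairs : List (ℕ × List ℕ) :=
  [(0, []), (1, [5, 4, 3, 2, 1, 3, 4, 0, 2, 3]), (2, [5, 4, 3, 2, 1, 3, 4, 0, 2]), (3, [5, 4, 3, 2, 1, 3, 0, 2]), (4, [4, 3, 2, 1, 3, 0, 2]), (5, [5, 4, 3, 2, 1, 3, 4, 0]), (6, [5, 4, 3, 2, 1, 3, 0]), (7, [4, 3, 2, 1, 3, 0]), (8, [5, 4, 3, 2, 1, 0]), (9, [4, 3, 2, 1, 0]), (10, [3, 2, 1, 0]), (11, [5, 4, 3, 2, 0]), (12, [4, 3, 2, 0]), (13, [3, 2, 0]), (14, [2, 0]), (15, [0]), (16, [5, 4, 3, 2, 1, 3, 4]), (17, [5, 4, 3, 2, 1, 3]), (18, [4, 3, 2, 1, 3]), (19, [5, 4, 3, 2, 1]), (20, [4, 3, 2, 1]), (21, [3, 2, 1]), (22, [5, 4, 3, 1]), (23, [4, 3, 1]), (24, [3, 1]), (25, [1]), (26, [5, 4, 3, 2]), (27, [4, 3, 2]), (28, [3, 2]), (29, [2]), (30, [5, 4, 3]), (31, [4, 3]), (32, [3]), (33, [5, 4]), (34, [4]), (35, [5]), (36, []), (37, []), (38, []), (39, []), (40,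 []), (41, []), (42, []), (43, []), (44, []), (45, []), (46, []), (47, []), (48, []), (49, []), (50, []), (51, []), (52, []), (53, []), (54, []), (55, []), (56, []), (57, []), (58, []), (59, []), (60, []), (61, []), (62, []), (63, []), (64, []), (65, []), (66, []), (67, []), (68, []), (69, []), (70, []), (71, [])]

theorem E6.pairs_ok : Tabs.chkPairs chevE6 E6.T E6.pairs = true := by decide +kernel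

def E7.pairs : List (ℕ × List ℕ) :=
  [(0, []), (1, [6, 5, 4, 3, 2, 1, 3, 4, 5, 0, 2, 3, 4, 1, 3, 2]), (2, [6, 5, 4, 3, 2, 1, 3, 4, 5, 0, 2, 3, 4, 1, 3]), (3, [6, 5, 4, 3, 2, 1, 3, 4, 5, 0, 2, 3, 4, 1]), (4, [6, 5, 4, 3, 2, 1, 3, 4, 5, 0, 2, 3, 1]), (5, [6, 5, 4, 3, 2, 1, 3, 4, 0, 2, 3, 1]), (6, [5, 4, 3, 2, 1, 3, 4, 0, 2, 3, 1]), (7, [6, 5, 4, 3, 2, 1, 3, 4, 5, 0, 2, 3, 4]), (8, [6, 5, 4, 3, 2, 1, 3, 4, 5, 0, 2, 3]), (9, [6, 5, 4, 3, 2, 1, 3, 4, 0, 2, 3]), (10, [5, 4, 3, 2, 1, 3, 4, 0, 2, 3]), (11, [6, 5, 4, 3, 2, 1, 3, 4, 5, 0, 2]), (12, [6, 5, 4, 3, 2, 1, 3, 4, 0, 2]), (13, [5, 4, 3, 2, 1, 3, 4, 0, 2]), (14, [6, 5, 4, 3, 2, 1, 3, 0, 2]), (15, [5, 4, 3, 2, 1, 3, 0, 2]), (16, [4, 3, 2, 1, 3, 0, 2]), (17, [6, 5, 4, 3, 2, 1, 3, 4, 5, 0]), (18, [6, 5, 4, 3, 2, 1, 3, 4, 0]), (19, [5, 4, 3,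 2, 1, 3, 4, 0]), (20, [6, 5, 4, 3, 2, 1, 3, 0]), (21, [5, 4, 3, 2, 1, 3, 0]), (22, [4, 3, 2, 1, 3, 0]), (23, [6, 5, 4, 3, 2, 1, 0]), (24, [5, 4, 3, 2, 1, 0]), (25, [4, 3, 2, 1, 0]), (26, [3, 2, 1, 0]), (27, [6, 5, 4, 3, 2, 0]), (28, [5, 4, 3, 2, 0]), (29, [4, 3, 2, 0]), (30, [3, 2, 0]), (31, [2, 0]), (32, [0]), (33, [6, 5, 4, 3, 2, 1, 3, 4, 5]), (34, [6, 5, 4, 3, 2, 1, 3, 4]), (35, [5, 4, 3, 2, 1, 3, 4]), (36, [6, 5, 4, 3, 2, 1, 3]), (37, [5, 4, 3, 2, 1, 3]), (38, [4, 3, 2, 1, 3]), (39, [6, 5, 4, 3, 2, 1]), (40, [5, 4, 3, 2, 1]), (41, [4, 3, 2, 1]), (42, [3, 2, 1]), (43, [6, 5, 4, 3, 1]), (44, [5, 4, 3, 1]), (45, [4, 3, 1]), (46, [3, 1]), (47, [1]), (48, [6, 5, 4, 3, 2]), (49, [5, 4, 3, 2]), (50, [4, 3, 2]), (51, [3, 2]), (52, [2]), (53, [6, 5, 4, 3]), (54, [5, 4, 3]), (55, [4, 3]), (56,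 [3]), (57, [6, 5, 4]), (58, [5, 4]), (59, [4]), (60, [6, 5]), (61, [5]), (62, [6]), (63, []), (64, []), (65, []), (66, []), (67, []), (68, []), (69, []), (70, []), (71, []), (72, []), (73, []), (74, []), (75, []), (76, []), (77, []), (78, []), (79, []), (80, []), (81, []), (82, []), (83, []), (84, []), (85, []), (86, []), (87, []), (88, []), (89, []), (90, []), (91, []), (92, []), (93, []), (94, []), (95, []), (96, []), (97, []), (98, []), (99, []), (100, []), (101, []), (102, []), (103, []), (104, []), (105, []), (106, []), (107, []), (108, []), (109, []), (110, []), (111, []), (112, []), (113, []), (114, []), (115, []), (116, []), (117, []), (118, []), (119, []), (120, []), (121, []), (122, []), (123, []), (124, []), (125, [])]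

theorem E7.pairs_ok : Tabs.chkPairs chevE7 E7.T E7.pairs = true := by decide +kernel

def E8.pairs : List (ℕ × List ℕ) :=
  [(0, []), (1, [7, 6, 5, 4, 3, 2, 1, 3, 4, 5, 6, 0, 2, 3, 4, 5, 1, 3, 4, 2, 3, 0, 2, 1, 3, 4, 5, 6]), (2, [7, 6, 5, 4, 3, 2, 1, 3, 4, 5, 6, 0, 2, 3, 4, 5, 1, 3, 4, 2, 3, 0, 2, 1, 3, 4, 5]), (3, [7, 6, 5, 4, 3, 2, 1, 3, 4, 5, 6, 0, 2, 3, 4, 5, 1, 3, 4, 2, 3, 0, 2, 1, 3, 4]), (4, [7, 6, 5, 4, 3, 2, 1, 3, 4, 5, 6, 0, 2, 3, 4, 5, 1, 3, 4, 2, 3, 0, 2, 1, 3]), (5, [7, 6, 5, 4, 3, 2, 1, 3, 4, 5, 6, 0, 2, 3, 4, 5, 1, 3, 4, 2, 3, 0, 2, 1]), (6, [7, 6, 5, 4, 3, 2, 1, 3, 4, 5, 6, 0, 2, 3, 4, 5, 1, 3, 4, 2, 3, 1, 0]), (7, [7, 6, 5, 4, 3, 2, 1, 3, 4, 5, 6, 0, 2, 3, 4, 5, 1, 3, 4, 2, 3, 0, 2]), (8, [7, 6, 5, 4, 3, 2, 1, 3, 4, 5, 6, 0, 2, 3, 4, 5, 1, 3, 4, 2, 3, 0]), (9, [7, 6, 5,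 4, 3, 2, 1, 3, 4, 5, 6, 0, 2, 3, 4, 5, 1, 3, 4, 2, 0]), (10, [7, 6, 5, 4, 3, 2, 1, 3, 4, 5, 6, 0, 2, 3, 4, 5, 1, 3, 2, 0]), (11, [7, 6, 5, 4, 3, 2, 1, 3, 4, 5, 6, 0, 2, 3, 4, 1, 3, 2, 0]), (12, [7, 6, 5, 4, 3, 2, 1, 3, 4, 5, 0, 2, 3, 4, 1, 3, 2, 0]), (13, [6, 5, 4, 3, 2, 1, 3, 4, 5, 0, 2, 3, 4, 1, 3, 2, 0]), (14, [7, 6, 5, 4, 3, 2, 1, 3, 4, 5, 6, 0, 2, 3, 4, 5, 1, 3, 4, 2, 3, 1]), (15, [7, 6, 5, 4, 3, 2, 1, 3, 4, 5, 6, 0, 2, 3, 4, 5, 1, 3, 4, 2, 3]), (16, [7, 6, 5, 4, 3, 2, 1, 3, 4, 5, 6, 0, 2, 3, 4, 5, 1, 3, 4, 2]), (17, [7, 6, 5, 4, 3, 2, 1, 3, 4, 5, 6, 0, 2, 3, 4, 5, 1, 3, 2]), (18, [7, 6, 5, 4, 3, 2, 1, 3, 4, 5, 6, 0, 2, 3, 4, 1, 3, 2]), (19, [7, 6, 5, 4, 3, 2, 1, 3, 4, 5, 0, 2, 3, 4, 1, 3, 2]), (20, [6, 5, 4, 3, 2, 1, 3, 4, 5, 0, 2, 3, 4, 1, 3, 2]), (21, [7, 6, 5, 4, 3, 2, 1, 3, 4, 5,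 6, 0, 2, 3, 4, 5, 1, 3, 4]), (22, [7, 6, 5, 4, 3, 2, 1, 3, 4, 5, 6, 0, 2, 3, 4, 5, 1, 3]), (23, [7, 6, 5, 4, 3, 2, 1, 3, 4, 5, 6, 0, 2, 3, 4, 1, 3]), (24, [7, 6, 5, 4, 3, 2, 1, 3, 4, 5, 0, 2, 3, 4, 1, 3]), (25, [6, 5, 4, 3, 2, 1, 3, 4, 5, 0, 2, 3, 4, 1, 3]), (26, [7, 6, 5, 4, 3, 2, 1, 3, 4, 5, 6, 0, 2, 3, 4, 5, 1]), (27, [7, 6, 5, 4, 3, 2, 1, 3, 4, 5, 6, 0, 2, 3, 4, 1]), (28, [7, 6, 5, 4, 3, 2, 1, 3, 4, 5, 0, 2, 3, 4, 1]), (29, [6, 5, 4, 3, 2, 1, 3, 4, 5, 0, 2, 3, 4, 1]), (30, [7, 6, 5, 4, 3, 2, 1, 3, 4, 5, 6, 0, 2, 3, 1]), (31, [7, 6, 5, 4, 3, 2, 1, 3, 4, 5, 0, 2, 3, 1]), (32, [6, 5, 4, 3, 2, 1, 3, 4, 5, 0, 2, 3, 1]), (33, [7, 6, 5, 4, 3, 2, 1, 3, 4, 0, 2, 3, 1]), (34, [6, 5, 4, 3, 2, 1, 3, 4, 0, 2, 3, 1]), (35, [5, 4, 3, 2, 1, 3, 4, 0, 2, 3, 1]), (36, [7, 6, 5, 4, 3, 2, 1, 3, 4, 5, 6, 0,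 2, 3, 4, 5]), (37, [7, 6, 5, 4, 3, 2, 1, 3, 4, 5, 6, 0, 2, 3, 4]), (38, [7, 6, 5, 4, 3, 2, 1, 3, 4, 5, 0, 2, 3, 4]), (39, [6, 5, 4, 3, 2, 1, 3, 4, 5, 0, 2, 3, 4]), (40, [7, 6, 5, 4, 3, 2, 1, 3, 4, 5, 6, 0, 2, 3]), (41, [7, 6, 5, 4, 3, 2, 1, 3, 4, 5, 0, 2, 3]), (42, [6, 5, 4, 3, 2, 1, 3, 4, 5, 0, 2, 3]), (43, [7, 6, 5, 4, 3, 2, 1, 3, 4, 0, 2, 3]), (44, [6, 5, 4, 3, 2, 1, 3, 4, 0, 2, 3]), (45, [5, 4, 3, 2, 1, 3, 4, 0, 2, 3]), (46, [7, 6, 5, 4, 3, 2, 1, 3, 4, 5, 6, 0, 2]), (47, [7, 6, 5, 4, 3, 2, 1, 3, 4, 5, 0, 2]), (48, [6, 5, 4, 3, 2, 1, 3, 4, 5, 0, 2]), (49, [7, 6, 5, 4, 3, 2, 1, 3, 4, 0, 2]), (50, [6, 5, 4, 3, 2, 1, 3, 4, 0, 2]), (51, [5, 4, 3, 2, 1, 3, 4, 0, 2]), (52, [7, 6, 5, 4, 3, 2, 1, 3, 0, 2]), (53, [6, 5, 4, 3, 2, 1, 3, 0, 2]), (54, [5, 4, 3, 2, 1, 3, 0, 2]), (55, [4, 3, 2, 1, 3,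 0, 2]), (56, [7, 6, 5, 4, 3, 2, 1, 3, 4, 5, 6, 0]), (57, [7, 6, 5, 4, 3, 2, 1, 3, 4, 5, 0]), (58, [6, 5, 4, 3, 2, 1, 3, 4, 5, 0]), (59, [7, 6, 5, 4, 3, 2, 1, 3, 4, 0]), (60, [6, 5, 4, 3, 2, 1, 3, 4, 0]), (61, [5, 4, 3, 2, 1, 3, 4, 0]), (62, [7, 6, 5, 4, 3, 2, 1, 3, 0]), (63, [6, 5, 4, 3, 2, 1, 3, 0]), (64, [5, 4, 3, 2, 1, 3, 0]), (65, [4, 3, 2, 1, 3, 0]), (66, [7, 6, 5, 4, 3, 2, 1, 0]), (67, [6, 5, 4, 3, 2, 1, 0]), (68, [5, 4, 3, 2, 1, 0]), (69, [4, 3, 2, 1, 0]), (70, [3, 2, 1, 0]), (71, [7, 6, 5, 4, 3, 2, 0]), (72, [6, 5, 4, 3, 2, 0]), (73, [5, 4, 3, 2, 0]), (74, [4, 3, 2, 0]), (75, [3, 2, 0]), (76, [2, 0]), (77, [0]), (78, [7, 6, 5, 4, 3, 2, 1, 3, 4, 5, 6]), (79, [7, 6, 5, 4, 3, 2, 1, 3, 4, 5]), (80, [6, 5, 4, 3, 2, 1, 3, 4, 5]), (81, [7, 6, 5, 4, 3, 2, 1, 3, 4]), (82, [6, 5, 4, 3, 2, 1,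 3, 4]), (83, [5, 4, 3, 2, 1, 3, 4]), (84, [7, 6, 5, 4, 3, 2, 1, 3]), (85, [6, 5, 4, 3, 2, 1, 3]), (86, [5, 4, 3, 2, 1, 3]), (87, [4, 3, 2, 1, 3]), (88, [7, 6, 5, 4, 3, 2, 1]), (89, [6, 5, 4, 3, 2, 1]), (90, [5, 4, 3, 2, 1]), (91, [4, 3, 2, 1]), (92, [3, 2, 1]), (93, [7, 6, 5, 4, 3, 1]), (94, [6, 5, 4, 3, 1]), (95, [5, 4, 3, 1]), (96, [4, 3, 1]), (97, [3, 1]), (98, [1]), (99, [7, 6, 5, 4, 3, 2]), (100, [6, 5, 4, 3, 2]), (101, [5, 4, 3, 2]), (102, [4, 3, 2]), (103, [3, 2]), (104, [2]), (105, [7, 6, 5, 4, 3]), (106, [6, 5, 4, 3]), (107, [5, 4, 3]), (108, [4, 3]), (109, [3]), (110, [7, 6, 5, 4]), (111, [6, 5, 4]), (112, [5, 4]), (113, [4]), (114, [7, 6, 5]), (115, [6, 5]), (116, [5]), (117, [7, 6]), (118, [6]), (119, [7]), (120, []), (121, []), (122, []), (123, []), (124, []), (125, []), (126,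 []), (127, []), (128, []), (129, []), (130, []), (131, []), (132, []), (133, []), (134, []), (135, []), (136, []), (137, []), (138, []), (139, []), (140, []), (141, []), (142, []), (143, []), (144, []), (145, []), (146, []), (147, []), (148, []), (149, []), (150, []), (151, []), (152, []), (153, []), (154, []), (155, []), (156, []), (157, []), (158, []), (159, []), (160, []), (161, []), (162, []), (163, []), (164, []), (165, []), (166, []), (167, []), (168, []), (169, []), (170, []), (171, []), (172, []), (173, []), (174, []), (175, []), (176, []), (177, []), (178, []), (179, []), (180, []), (181, []), (182, []), (183, []), (184, []), (185, []), (186, []), (187, []), (188, []), (189, []), (190, []), (191, []), (192, []), (193, []), (194, []), (195, []), (196, []), (197, []), (198, []), (199,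 []), (200, []), (201, []), (202, []), (203, []), (204, []), (205, []), (206, []), (207, []), (208, []), (209, []), (210, []), (211, []), (212, []), (213, []), (214, []), (215, []), (216, []), (217, []), (218, []), (219, []), (220, []), (221, []), (222, []), (223, []), (224, []), (225, []), (226, []), (227, []), (228, []), (229, []), (230, []), (231, []), (232, []), (233, []), (234, []), (235, []), (236, []), (237, []), (238, []), (239, [])]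

theorem E8.pairs_ok : Tabs.chkPairs chevE8 E8.T E8.pairs = true := by decide +kernel

end Cfsg.Agent.Chev
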