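import Cfsg.Agent.Lib.Chev.Unip

/-!
Checks used for the presentations: the negative roots ordered downwards, and a commutator relation ending in each
fundamental root or its negative which is carried along by the reflection and the torus.
-/

set_option autoImplicit false

namespace Cfsg.Agent.Chev

open Cfsg.Lie

/-- Chains and terms of negative roots decrease, and keep away from a fundamental pair. -/
noncomputable def Tabs.chkDn (D : ChevalleyDatum) (T : Tabs) : Bool :=
  andR (allR (Tabs.half D) fun k =>
    andR (allL (fun e => allL (fun p => nlt p.1 e.1) e.2) (T.chs D k)) <|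
    allR (Tabs.half D) fun l => allL (fun q => andR (nlt q.1 k) (nlt q.1 l)) (T.terms k l)) <|
  allR D.rank fun i => allR (Tabs.half D) fun s => orR (Nat.beq s (T.neg (T.smp i))) <|
    andR (allL (fun q => andR (nlt q.1 (Tabs.half D)) (notR (Nat.beq q.1 (T.neg (T.smp i))))) (T.terms (T.smp i) s))
      (allL (fun q => andR (nlt q.1 (Tabs.half D)) (notR (Nat.beq q.1 (T.neg (T.smp i)))))
        (T.terms (T.neg (T.smp i)) s))

/-- `q` is a term with coefficient `±1` and one exponent `1`, occurring once. -/
noncomputable def Tabs.goodTerm (r : ℕ) (L : List (ℕ × ℤ × ℕ × ℕ)) : Bool :=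
  andR (Nat.beq (List.length (filterR (fun q => Nat.beq q.1 r) L)) 1) <|
    allL (fun q => orR (notR (Nat.beq q.1 r))
      (andR (orR (ieq q.2.1 1) (ieq q.2.1 (-1))) (orR (Nat.beq q.2.2.1 1) (Nat.beq q.2.2.2 1)))) L

/-- The pair `a`, `b` gives the root `r` by a relation which is moved along by the node `i`. -/
noncomputable def Tabs.witB (D : ChevalleyDatum) (T : Tabs) (i r a b : ℕ) : Bool :=
  andR (Tabs.goodTerm r (T.terms a b)) <|
  andR (notR (Nat.beq b a)) <| andR (notR (Nat.beq b (T.neg a))) <|
  andR (notR (Nat.beq a r)) <| andR (notR (Nat.beq a (T.neg r))) <|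
  andR (notR (Nat.beq b r)) <| andR (notR (Nat.beq b (T.neg r))) <|
  andR (eqL eqQ (T.terms (T.refl i a) (T.refl i b))
    (mapR (fun q => (T.refl i q.1,
        Int.mul (Int.mul (Int.mul (T.eta i q.1) q.2.1) (ipow (T.eta i a) q.2.2.1)) (ipow (T.eta i b) q.2.2.2),
        q.2.2.1, q.2.2.2))
      (T.terms a b))) <|
  allL (fun q => andR (notR (Nat.beq q.1 (T.neg r))) <| allR D.rank fun j =>
    ieq (T.cA j q.1) (Int.add (Int.mul (Int.ofNat q.2.2.1) (T.cA j a)) (Int.mul (Int.ofNat q.2.2.2) (T.cA j b))))
    (T.terms a b)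

/-- Every fundamental root and its negative has such a pair. -/
noncomputable def Tabs.chkWit (D : ChevalleyDatum) (T : Tabs) : Bool :=
  allR D.rank fun i => andR
    (anyL (fun a => anyL (fun b => T.witB D i (T.smp i) a b) (upTo D.nroots)) (upTo D.nroots))
    (anyL (fun a => anyL (fun b => T.witB D i (T.neg (T.smp i)) a b) (upTo D.nroots)) (upTo D.nroots))

end Cfsg.Agent.Chev
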