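import Cfsg.Agent.Lib.Chev.Bruhat
import Cfsg.Agent.Lib.Chev.RootCent
import Cfsg.Agent.Lib.Chev.Para
import Cfsg.Agent.Lib.Chev.StChk

/-!
Groups with elements satisfying the additivity and commutator relations, mapping to the matrix group: the unipotent
parts map injectively, the normal form, and centrality of the kernel.
-/

set_option autoImplicit false

namespace Cfsg.Agent.Chev

open Cfsg.Lie

theorem foldr_conj_prod {G α : Type*} [Group G] (m : G) (f g : α → G) :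
    ∀ L : List α, (∀ x ∈ L, m * f x * m⁻¹ = g x) → m * (L.map f).prod * m⁻¹ = (L.map g).prod
  | [], _ => by simp
  | x :: L, h => by
    rw [List.map_cons, List.prod_cons, List.map_cons, List.prod_cons, ← conj_mul, h x List.mem_cons_self,
      foldr_conj_prod m f g L fun y hy => h y (List.mem_cons_of_mem _ hy)]

/-- A group with elements `y r t` satisfying the relations, and a map to the matrices. -/
structure StHyp {D : ChevalleyDatum} {T : Tabs} {F : Type*} [Field F] (ok : OKX D T) {S : Type*} [Group S]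
    (y : ℕ → F → S) (θ : S →* GL D.Idx F) : Prop where
  dn : Tabs.chkDn D T = true
  wit : Tabs.chkWit D T = true
  add : ∀ r < D.nroots, ∀ a b : F, y r a * y r b = y r (a + b)
  comm : ∀ r s, r < D.nroots → s < D.nroots → s ≠ r → s ≠ T.neg r → ∀ t u : F,
    y s u * y r t = y r t * y s u * ((D.commWord F r s t u).map fun p => y p.1 p.2).prod
  gen : Subgroup.closure {x | ∃ (r : ℕ) (t : F), r < D.nroots ∧ x = y r t} = ⊤
  map_y : ∀ r < D.nroots, ∀ t : F, θ (y r t) = ok.toOK.xG r t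

/-- Indices of the positive roots, and those of the negative roots read backwards. -/
def sidx (D : ChevalleyDatum) (b : Bool) (r : ℕ) : ℕ := if b then r else D.nroots - 1 - r

/-- The root has the given sign. -/
def Sgn (D : ChevalleyDatum) (b : Bool) (r : ℕ) : Prop := r < D.nroots ∧ Tabs.half D ≤ sidx D b r

theorem Sgn.lt {D : ChevalleyDatum} {b : Bool} {r : ℕ} (h : Sgn D b r) : r < D.nroots := h.1

namespace OKX

variable {D : ChevalleyDatum} {T : Tabs} (ok : OKX D T)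

include ok

theorem sgn_true {r : ℕ} : Sgn D true r ↔ r < D.nroots ∧ 0 < T.htf r := by
  simp only [Sgn, sidx, if_true]
  exact and_congr_right fun h => (ok.pos_iff_half h).symm

theorem sgn_false {r : ℕ} : Sgn D false r ↔ r < D.nroots ∧ T.htf r < 0 := by
  have := ok.two_half
  simp only [Sgn, sidx, Bool.false_eq_true, if_false]
  refine and_congr_right fun h => ?_
  have h1 := ok.pos_iff_half h
  have h2 := ok.toOK.ht_ne h
  constructor
  · intro h3
    by_contra h4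
    have : Tabs.half D ≤ r := h1.mp (by omega)
    omega
  · intro h3
    have : ¬ Tabs.half D ≤ r := fun e => by have := h1.mpr e; omega
    omega

theorem sgn_total {r : ℕ} (hr : r < D.nroots) : ∃ b, Sgn D b r := by
  rcases lt_trichotomy (T.htf r) 0 with h | h | h
  · exact ⟨false, ok.sgn_false.mpr ⟨hr, h⟩⟩
  · exact absurd h (ok.toOK.ht_ne hr)
  · exact ⟨true, ok.sgn_true.mpr ⟨hr, h⟩⟩

theorem sgn_neg_ne {b : Bool} {r s : ℕ} (hr : Sgn D b r) (hs : Sgn D b s) : s ≠ T.neg r := by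
  intro e
  have h := ok.toOK.ht_neg hr.lt
  rw [← e] at h
  cases b
  · have h1 := (ok.sgn_false.mp hr).2; have h2 := (ok.sgn_false.mp hs).2; omega
  · have h1 := (ok.sgn_true.mp hr).2; have h2 := (ok.sgn_true.mp hs).2; omega

theorem sidx_chain (hdn : Tabs.chkDn D T = true) {b : Bool} {r : ℕ} (hr : Sgn D b r) {e : ℕ × List (ℕ × ℤ)}
    (he : e ∈ T.chs D r) (hlt : e.1 < D.nroots) {p : ℕ × ℤ} (hp : p ∈ e.2) : sidx D b e.1 < sidx D b p.1 := by
  have hh := ok.two_half
  obtain ⟨h1, h2⟩ := hr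
  cases b
  · simp only [sidx, Bool.false_eq_true, if_false] at h2 ⊢
    have hd := hdn
    simp only [Tabs.chkDn, andR_iff, allR_iff, allL_iff, nlt_iff] at hd
    have := (hd.1 r (by omega)).1 e he p hp
    omega
  · simp only [sidx, if_true] at h2 ⊢
    exact ok.chain_up h1 h2 he hp

theorem sidx_terms (hdn : Tabs.chkDn D T = true) {b : Bool} {r s : ℕ} (hr : Sgn D b r) (hs : Sgn D b s)
    {q : ℕ × ℤ × ℕ × ℕ} (hq : q ∈ T.terms r s) :
    q.1 < D.nroots ∧ sidx D b r < sidx D b q.1 ∧ sidx D b s < sidx D b q.1 := by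
  have hh := ok.two_half
  obtain ⟨h1, h2⟩ := hr
  obtain ⟨h3, h4⟩ := hs
  refine ⟨(ok.toOK.term_spec h1 h3 hq).1, ?_⟩
  cases b
  · simp only [sidx, Bool.false_eq_true, if_false] at h2 h4 ⊢
    have hd := hdn
    simp only [Tabs.chkDn, andR_iff, allR_iff, allL_iff, nlt_iff] at hd
    have := (hd.1 r (by omega)).2 s (by omega) q hq
    omega
  · simp only [sidx, if_true] at h2 h4 ⊢
    exact ok.terms_up h1 h2 h3 h4 hq

/-- A root different from a fundamental root and its negative gives terms of the same sign, different from both. -/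
theorem sgn_terms_pm (hdn : Tabs.chkDn D T = true) {i : ℕ} (hi : i < D.rank) {r : ℕ}
    (hr : r = T.smp i ∨ r = T.neg (T.smp i)) {b : Bool} {s : ℕ} (hs : Sgn D b s) (h1 : s ≠ T.smp i)
    (h2 : s ≠ T.neg (T.smp i)) {q : ℕ × ℤ × ℕ × ℕ} (hq : q ∈ T.terms r s) :
    Sgn D b q.1 ∧ q.1 ≠ T.smp i ∧ q.1 ≠ T.neg (T.smp i) := by
  have hp := ok.toOK.smp_lt hi
  have hp1 : Sgn D true (T.smp i) := ok.sgn_true.mpr ⟨hp, by rw [(ok.toOK.smp_spec hi).1]; norm_num⟩
  have hr' : r < D.nroots := by rcases hr with rfl | rfl; exacts [hp, ok.toOK.neg_lt hp]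
  have hlt := (ok.toOK.term_spec hr' hs.lt hq).1
  cases b
  · have hh := ok.two_half
    have hs' : s < Tabs.half D := by
      have := hs.2; simp only [sidx, Bool.false_eq_true, if_false] at this; omega
    have hd := hdn
    simp only [Tabs.chkDn, andR_iff, allR_iff, allL_iff, nlt_iff, orR_iff, notR_iff, Nat.beq_eq, nbeq_false_iff] at hd
    rcases hd.2 i hi s hs' with e | ⟨e1, e2⟩
    · exact absurd e h2
    have key : q.1 < Tabs.half D ∧ q.1 ≠ T.neg (T.smp i) := by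
      rcases hr with rfl | rfl
      exacts [e1 q hq, e2 q hq]
    have hsg : Sgn D false q.1 := ⟨hlt, by simp only [sidx, Bool.false_eq_true, if_false]; omega⟩
    refine ⟨hsg, ?_, key.2⟩
    intro e
    have := (ok.sgn_false.mp hsg).2
    rw [e, (ok.toOK.smp_spec hi).1] at this
    omega
  · obtain ⟨a1, a2⟩ := ok.sgn_true.mp hs
    obtain ⟨b1, b2⟩ := ok.terms_par hi a1 a2 h1 hr hq
    have hsg : Sgn D true q.1 := ok.sgn_true.mpr ⟨hlt, b1⟩
    exact ⟨hsg, b2, ok.sgn_neg_ne hp1 hsg⟩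

theorem sgn_refl {i : ℕ} (hi : i < D.rank) {b : Bool} {s : ℕ} (hs : Sgn D b s) (h1 : s ≠ T.smp i)
    (h2 : s ≠ T.neg (T.smp i)) :
    Sgn D b (T.refl i s) ∧ T.refl i s ≠ T.smp i ∧ T.refl i s ≠ T.neg (T.smp i) := by
  have hp := ok.toOK.smp_lt hi
  have hlt := ok.toOK.refl_lt hi hs.lt
  have hpos := ok.toOK.refl_pos_iff hi hs.lt h1 h2
  refine ⟨?_, fun e => h2 ?_, fun e => h1 ?_⟩
  · cases b
    · refine ok.sgn_false.mpr ⟨hlt, ?_⟩
      have := (ok.sgn_false.mp hs).2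
      have := ok.toOK.ht_ne hlt
      omega
    · exact ok.sgn_true.mpr ⟨hlt, hpos.mpr (ok.sgn_true.mp hs).2⟩
  · rw [← ok.toOK.refl_refl hi hs.lt, e, (ok.toOK.smp_spec hi).2.2.1]
  · rw [← ok.toOK.refl_refl hi hs.lt, e, ok.toOK.refl_neg hi hp, (ok.toOK.smp_spec hi).2.2.1, ok.toOK.neg_neg' hp]

end OKX

namespace StHyp

variable {D : ChevalleyDatum} {T : Tabs} {F : Type*} [Field F] {ok : OKX D T} {S : Type*} [Group S] {y : ℕ → F → S}
  {θ : S →* GL D.Idx F}

theorem y_zero (st : StHyp ok y θ) {r : ℕ} (hr : r < D.nroots) : y r 0 = 1 := by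
  have h := st.add r hr 0 0
  rw [add_zero] at h
  exact mul_eq_left.mp h

theorem y_inv (st : StHyp ok y θ) {r : ℕ} (hr : r < D.nroots) (a : F) : (y r a)⁻¹ = y r (-a) := by
  refine inv_eq_of_mul_eq_one_right ?_
  rw [st.add r hr, add_neg_cancel, st.y_zero hr]

/-- Generated by the elements of one sign, from a place on. -/
def M (_st : StHyp ok y θ) (b : Bool) (k : ℕ) : Subgroup S :=
  Subgroup.closure {x | ∃ (r : ℕ) (t : F), (Sgn D b r ∧ k ≤ sidx D b r) ∧ x = y r t}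

theorem y_mem_M (st : StHyp ok y θ) {b : Bool} {r k : ℕ} (hr : Sgn D b r) (hk : k ≤ sidx D b r) (t : F) :
    y r t ∈ st.M b k :=
  Subgroup.subset_closure ⟨r, t, ⟨hr, hk⟩, rfl⟩

theorem y_mem_M' (st : StHyp ok y θ) {b : Bool} {r : ℕ} (hr : Sgn D b r) (t : F) : y r t ∈ st.M b (Tabs.half D) :=
  st.y_mem_M hr hr.2 t

theorem comm_inv_mem (st : StHyp ok y θ) {r s : ℕ} (hr : r < D.nroots) (hs : s < D.nroots) (h1 : s ≠ r)
    (h2 : s ≠ T.neg r) (t u : F) {A : Subgroup S} (hA : ∀ q ∈ T.terms r s, ∀ a : F, y q.1 a ∈ A) (hu : y s u ∈ A) :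
    (y r t)⁻¹ * y s u * y r t ∈ A := by
  rw [mul_assoc, st.comm r s hr hs h1 h2 t u, mul_assoc, inv_mul_cancel_left]
  refine mul_mem hu (list_prod_mem fun x hx => ?_)
  obtain ⟨p, hp, rfl⟩ := List.mem_map.mp hx
  simp only [ChevalleyDatum.commWord, ok.toOK.terms_eq hr hs, List.mem_map] at hp
  obtain ⟨q, hq, rfl⟩ := hp
  exact hA q hq _

theorem y_normalizes_M (st : StHyp ok y θ) {b : Bool} {k r : ℕ} (hr : Sgn D b r) (hrk : sidx D b r < k) (t : F) :
    y r t ∈ Subgroup.normalizer (st.M b k : Set S) := by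
  have main : ∀ (a : F) (s : ℕ) (u : F), Sgn D b s → k ≤ sidx D b s →
      (y r a)⁻¹ * y s u * y r a ∈ st.M b k := by
    intro a s u hs hk
    refine st.comm_inv_mem hr.lt hs.lt (fun e => by rw [e] at hk; omega) (ok.sgn_neg_ne hr hs) a u (fun q hq c => ?_)
      (st.y_mem_M hs hk u)
    obtain ⟨h1, h2, h3⟩ := ok.sidx_terms st.dn hr hs hq
    exact st.y_mem_M ⟨h1, by have := hr.2; omega⟩ (by omega) c
  refine ok.normalizes_of_gen ?_ ?_
  · rintro _ ⟨s, u, ⟨hs, hk⟩, rfl⟩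
    have := main (-t) s u hs hk
    rwa [← st.y_inv hr.lt, inv_inv] at this
  · rintro _ ⟨s, u, ⟨hs, hk⟩, rfl⟩
    exact main t s u hs hk

theorem M_split (st : StHyp ok y θ) {b : Bool} {k r : ℕ} (hr : Sgn D b r) (hk : sidx D b r = k) {g : S}
    (hg : g ∈ st.M b k) : ∃ t : F, ∃ g' ∈ st.M b (k + 1), g = y r t * g' := by
  have huniq : ∀ s, Sgn D b s → sidx D b s = k → s = r := by
    intro s hs e
    have h1 := hr.lt; have h2 := hs.lt
    cases b <;> simp only [sidx, Bool.false_eq_true, if_false, if_true] at hk e <;> omega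
  induction hg using Subgroup.closure_induction_left with
  | one => exact ⟨0, 1, one_mem _, by rw [st.y_zero hr.lt, one_mul]⟩
  | mul_left x hx g hg ih =>
    obtain ⟨s, t, ⟨hs, hks⟩, rfl⟩ := hx
    obtain ⟨u, g', hg', rfl⟩ := ih
    rcases eq_or_lt_of_le hks with e | e
    · rw [huniq s hs e.symm]
      exact ⟨t + u, g', hg', by rw [← mul_assoc, st.add r hr.lt]⟩
    · refine ⟨u, (y r u)⁻¹ * y s t * y r u * g', mul_mem ?_ hg', by simp [mul_assoc]⟩
      have := (Subgroup.mem_normalizer_iff.mp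
        (inv_mem (st.y_normalizes_M hr (show sidx D b r < k + 1 by omega) u)) (y s t)).mp (st.y_mem_M hs (by omega) t)
      simpa using this
  | inv_mul_cancel x hx g hg ih =>
    obtain ⟨s, t, ⟨hs, hks⟩, rfl⟩ := hx
    obtain ⟨u, g', hg', rfl⟩ := ih
    rw [st.y_inv hs.lt]
    rcases eq_or_lt_of_le hks with e | e
    · rw [huniq s hs e.symm]
      exact ⟨-t + u, g', hg', by rw [← mul_assoc, st.add r hr.lt]⟩
    · refine ⟨u, (y r u)⁻¹ * y s (-t) * y r u * g', mul_mem ?_ hg', by simp [mul_assoc]⟩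
      have := (Subgroup.mem_normalizer_iff.mp
        (inv_mem (st.y_normalizes_M hr (show sidx D b r < k + 1 by omega) u)) (y s (-t))).mp (st.y_mem_M hs (by omega) _)
      simpa using this

/-- Coordinates of root vectors of the given sign order, from a place on. -/
def AboveR (D : ChevalleyDatum) (b : Bool) (m : ℕ) (a : D.Idx) : Prop :=
  Sum.elim (fun _ => False) (fun s => m ≤ sidx D b (s : ℕ)) a

theorem M_stable (st : StHyp ok y θ) {b : Bool} {k : ℕ} (hk' : k < D.nroots) {g : S} (hg : g ∈ st.M b (k + 1)) :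
    ∀ a c : D.Idx, AboveR D b (D.nroots - 1 - k) c → ¬ AboveR D b (D.nroots - 1 - k) a →
      (θ g : Matrix D.Idx D.Idx F) a c = 0 ∧ (((θ g)⁻¹ : GL D.Idx F) : Matrix D.Idx D.Idx F) a c = 0 := by
  induction hg using Subgroup.closure_induction with
  | mem x hx =>
    obtain ⟨r, t, ⟨hr, hkr⟩, rfl⟩ := hx
    have main : ∀ (u : F) (a c : D.Idx), AboveR D b (D.nroots - 1 - k) c → ¬ AboveR D b (D.nroots - 1 - k) a →
        D.x F r u a c = 0 := by
      intro u a c hc ha
      rcases c with c | v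
      · exact absurd hc id
      have hv : D.nroots - 1 - k ≤ sidx D b (v : ℕ) := hc
      have hr2 := hr.lt
      rw [ok.toOK.xMat_eq hr2, Tabs.colT, colVal_cons]
      have hne : phi D (Sum.inr v) ≠ phi D a := fun e => ha (by rw [← phi_injective D e]; exact hc)
      rw [if_neg hne, zero_add]
      refine List.sum_eq_zero fun x hx => ?_
      obtain ⟨e, he, rfl⟩ := List.mem_map.mp hx
      rw [if_neg]
      intro h'
      rw [ok.toOK.ext_eq hr2 (phi_lt D _)] at he
      simp only [phi, Sum.elim_inr, Tabs.extX, nlt_false_iff.mpr (Nat.le_add_right D.rank (v : ℕ)),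
        Nat.sub_eq, Nat.add_sub_cancel_left] at he
      by_cases h1 : (v : ℕ) = r
      · simp [h1] at he
      rw [nbeq_false_iff.mpr h1] at he
      have h2 : (v : ℕ) ≠ T.neg r := by
        rw [ok.neg_eq_sub hr2]
        intro e'
        have := hr.2
        have := ok.two_half
        cases b <;> simp only [sidx, Bool.false_eq_true, if_false, if_true] at hv hkr this <;> omega
      rw [nbeq_false_iff.mpr h2] at he
      simp only [flatR_eq, List.mem_flatMap] at he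
      obtain ⟨f, hf, he⟩ := he
      cases hb' : Nat.beq f.1 (v : ℕ) <;> simp only [hb', mapIdxR_eq, List.not_mem_nil, List.mem_map] at he
      obtain ⟨q, hq, rfl⟩ := he
      rw [Nat.beq_eq] at hb'
      have hup := ok.sidx_chain st.dn hr hf (by rw [hb']; exact v.isLt) (List.fst_mem_of_mem_zipIdx hq)
      rw [hb'] at hup
      rcases a with a | w
      · simp only [Nat.add_eq, phi, Sum.elim_inl] at h'; omega
      · refine ha ?_
        simp only [Nat.add_eq, phi, Sum.elim_inr, Nat.add_left_cancel_iff] at h'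
        show D.nroots - 1 - k ≤ sidx D b (w : ℕ)
        rw [← h']
        omega
    intro a c hc ha
    rw [st.map_y r hr.lt]
    exact ⟨main t a c hc ha, by rw [ok.toOK.xG_inv]; exact main (-t) a c hc ha⟩
  | one =>
    intro a c hc ha
    have : a ≠ c := fun e => ha (e ▸ hc)
    simp [Matrix.one_apply_ne this]
  | mul g h _ _ hg hh =>
    intro a c hc ha
    refine ⟨?_, ?_⟩
    · rw [map_mul, Units.val_mul, Matrix.mul_apply]
      refine Finset.sum_eq_zero fun e _ => ?_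
      by_cases he : AboveR D b (D.nroots - 1 - k) e
      · rw [(hg a e he ha).1, zero_mul]
      · rw [(hh e c hc he).1, mul_zero]
    · rw [map_mul, mul_inv_rev, Units.val_mul, Matrix.mul_apply]
      refine Finset.sum_eq_zero fun e _ => ?_
      by_cases he : AboveR D b (D.nroots - 1 - k) e
      · rw [(hh a e he ha).2, zero_mul]
      · rw [(hg e c hc he).2, mul_zero]
  | inv g _ hg =>
    intro a c hc ha
    rw [map_inv, inv_inv]
    exact ⟨(hg a c hc ha).2, (hg a c hc ha).1⟩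

theorem coord_zero (st : StHyp ok y θ) {b : Bool} {k r : ℕ} (hr : Sgn D b r) (hk : sidx D b r = k) {t : F} {g : S}
    (hg : g ∈ st.M b (k + 1)) (h : ok.toOK.xG r t = θ g) : t = 0 := by
  obtain ⟨i, hi, j, hj, x, z, hxz⟩ := ok.toOK.bezout hr.lt
  have hn := ok.toOK.neg_lt hr.lt
  have hk' : k < D.nroots := by
    have := hr.lt
    cases b <;> simp only [sidx, Bool.false_eq_true, if_false, if_true] at hk <;> omega
  have key : ∀ l (hl : l < D.rank), (T.cC r l : F) * t = 0 := by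
    intro l hl
    have hA : D.nroots - 1 - k ≤ sidx D b (T.neg r) := by
      have := hr.lt
      rw [ok.neg_eq_sub hr.lt]
      cases b <;> simp only [sidx, Bool.false_eq_true, if_false, if_true] at hk ⊢ <;> omega
    have e := (st.M_stable hk' hg (Sum.inl ⟨l, hl⟩) (Sum.inr ⟨T.neg r, hn⟩) hA id).1
    rw [← h, OK.coe_xG, ChevalleyDatum.x, dif_pos hr.lt] at e
    have h1 : (⟨T.neg r, hn⟩ : Fin D.nroots) ≠ ⟨r, hr.lt⟩ := fun e => ok.toOK.neg_ne hr.lt (congrArg Fin.val e)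
    simp only [ChevalleyDatum.xMat, Matrix.of_apply, if_neg h1, ok.toOK.negIdx_eq hr.lt, ok.toOK.coroot_eq hr.lt hl,
      if_true] at e
    exact e
  have h3 : ((x * T.cC r i + z * T.cC r j : ℤ) : F) * t = 0 := by
    push_cast
    rw [add_mul, mul_assoc, mul_assoc, key i hi, key j hj, mul_zero, mul_zero, add_zero]
  rwa [hxz, Int.cast_one, one_mul] at h3

/-- Each of the two unipotent parts maps injectively. -/
theorem M_inj (st : StHyp ok y θ) {b : Bool} {g : S} (hg : g ∈ st.M b (Tabs.half D)) (h : θ g = 1) : g = 1 := by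
  suffices key : ∀ m k : ℕ, k + m = D.nroots → Tabs.half D ≤ k → ∀ g ∈ st.M b k, θ g = 1 → g = 1 by
    have := ok.two_half
    exact key (Tabs.half D) (Tabs.half D) (by omega) le_rfl g hg h
  intro m
  induction m with
  | zero =>
    intro k hk _ g hg _
    have hbot : st.M b k = ⊥ := by
      refine eq_bot_iff.mpr ((Subgroup.closure_le _).mpr ?_)
      rintro _ ⟨r, t, ⟨hr, hkr⟩, -⟩
      have := hr.lt
      cases b <;> simp only [sidx, Bool.false_eq_true, if_false, if_true] at hkr <;> omega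
    rwa [hbot, Subgroup.mem_bot] at hg
  | succ m ih =>
    intro k hk hhalf g hg h
    have hρ : sidx D b (sidx D b k) = k := by
      cases b <;> simp only [sidx, Bool.false_eq_true, if_false, if_true]; omega
    have hr : Sgn D b (sidx D b k) :=
      ⟨by cases b <;> simp only [sidx, Bool.false_eq_true, if_false, if_true] <;> omega, by rw [hρ]; exact hhalf⟩
    obtain ⟨t, g', hg', rfl⟩ := st.M_split hr hρ hg
    rw [map_mul, st.map_y _ hr.lt] at h
    have h0 : t = 0 := st.coord_zero hr hρ (inv_mem hg') (by rw [map_inv]; exact eq_inv_of_mul_eq_one_left h)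
    subst h0
    rw [st.y_zero hr.lt, one_mul]
    rw [ok.toOK.xG_zero, one_mul] at h
    exact ih (k + 1) (by omega) (by omega) g' hg' h

theorem eq_of_map (st : StHyp ok y θ) {b : Bool} {g h : S} (hg : g ∈ st.M b (Tabs.half D))
    (hh : h ∈ st.M b (Tabs.half D)) (e : θ g = θ h) : g = h := by
  have := st.M_inj (mul_mem hg (inv_mem hh)) (by rw [map_mul, map_inv, e, mul_inv_cancel])
  exact mul_inv_eq_one.mp this

/-! ### The rank one subgroups -/

/-- Generated by the elements of one sign away from a fundamental root. -/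
def V (_st : StHyp ok y θ) (b : Bool) (i : ℕ) : Subgroup S :=
  Subgroup.closure {x | ∃ (s : ℕ) (t : F), (Sgn D b s ∧ s ≠ T.smp i ∧ s ≠ T.neg (T.smp i)) ∧ x = y s t}

/-- Generated by the elements of a fundamental root and its negative. -/
def Xp (_st : StHyp ok y θ) (i : ℕ) : Subgroup S :=
  Subgroup.closure {x | ∃ (r : ℕ) (t : F), (r = T.smp i ∨ r = T.neg (T.smp i)) ∧ x = y r t}

theorem V_le (st : StHyp ok y θ) {b : Bool} {i : ℕ} : st.V b i ≤ st.M b (Tabs.half D) :=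
  (Subgroup.closure_le _).mpr fun _ ⟨_, t, h, e⟩ => e ▸ st.y_mem_M' h.1 t

theorem Xp_normalizes (st : StHyp ok y θ) {b : Bool} {i : ℕ} (hi : i < D.rank) :
    st.Xp i ≤ Subgroup.normalizer (st.V b i : Set S) := by
  refine (Subgroup.closure_le _).mpr ?_
  rintro _ ⟨r, t, hr, rfl⟩
  have hp := ok.toOK.smp_lt hi
  have hr' : r < D.nroots := by rcases hr with rfl | rfl; exacts [hp, ok.toOK.neg_lt hp]
  have main : ∀ (a : F) (s : ℕ) (u : F), Sgn D b s → s ≠ T.smp i → s ≠ T.neg (T.smp i) →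
      (y r a)⁻¹ * y s u * y r a ∈ st.V b i := by
    intro a s u hs h1 h2
    refine st.comm_inv_mem hr' hs.lt ?_ ?_ a u (fun q hq c => ?_) (Subgroup.subset_closure ⟨s, u, ⟨hs, h1, h2⟩, rfl⟩)
    · rcases hr with rfl | rfl <;> assumption
    · rcases hr with rfl | rfl
      · exact h2
      · rwa [ok.toOK.neg_neg' hp]
    · exact Subgroup.subset_closure ⟨q.1, c, ok.sgn_terms_pm st.dn hi hr hs h1 h2 hq, rfl⟩
  refine ok.normalizes_of_gen ?_ ?_
  · rintro _ ⟨s, u, ⟨hs, h1, h2⟩, rfl⟩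
    have := main (-t) s u hs h1 h2
    rwa [← st.y_inv hr', inv_inv] at this
  · rintro _ ⟨s, u, ⟨hs, h1, h2⟩, rfl⟩
    exact main t s u hs h1 h2

/-- The image decides conjugation away from the fundamental root. -/
theorem conj_of_map (st : StHyp ok y θ) {i : ℕ} (hi : i < D.rank) {m : S} (hm : m ∈ st.Xp i) {b : Bool} {s s' : ℕ}
    (hs : Sgn D b s) (h1 : s ≠ T.smp i) (h2 : s ≠ T.neg (T.smp i)) (hs' : Sgn D b s') {t t' : F}
    (e : θ m * ok.toOK.xG s t * (θ m)⁻¹ = ok.toOK.xG s' t') : m * y s t * m⁻¹ = y s' t' := by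
  refine st.eq_of_map (st.V_le (i := i) ?_) (st.y_mem_M' hs' t') ?_
  · exact (Subgroup.mem_normalizer_iff.mp (st.Xp_normalizes hi hm) _).mp
      (Subgroup.subset_closure ⟨s, t, ⟨hs, h1, h2⟩, rfl⟩)
  · rw [map_mul, map_mul, map_inv, st.map_y _ hs.lt, st.map_y _ hs'.lt, e]

/-- A relation with a good term carries conjugation to the fundamental root and its negative. -/
theorem conj_of_wit (st : StHyp ok y θ) {i : ℕ} (hi : i < D.rank) {r : ℕ}
    (hr : r = T.smp i ∨ r = T.neg (T.smp i)) {m : S} {σ : ℕ → ℕ} {f : ℕ → F}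
    (hσ : ∀ s < D.nroots, σ s < D.nroots ∧ σ (T.neg s) = T.neg (σ s))
    (hσi : ∀ s < D.nroots, ∀ s' < D.nroots, σ s = σ s' → s = s')
    (hm : ∀ s < D.nroots, s ≠ T.smp i → s ≠ T.neg (T.smp i) → ∀ t : F, m * y s t * m⁻¹ = y (σ s) (f s * t))
    {a b : ℕ} (ha : a < D.nroots) (hb : b < D.nroots) (hgood : Tabs.goodTerm r (T.terms a b) = true)
    (hab : b ≠ a) (hab' : b ≠ T.neg a) (ha1 : a ≠ r) (ha2 : a ≠ T.neg r) (hb1 : b ≠ r) (hb2 : b ≠ T.neg r)
    (hq : ∀ q ∈ T.terms a b, q.1 ≠ T.neg r)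
    (g : ℕ × ℤ × ℕ × ℕ → ℤ) (ht : T.terms (σ a) (σ b) = (T.terms a b).map fun q => (σ q.1, g q, q.2.2.1, q.2.2.2))
    (hg : ∀ q ∈ T.terms a b, (g q : F) * f a ^ q.2.2.1 * f b ^ q.2.2.2 = f q.1 * (q.2.1 : F)) (t : F) :
    m * y r t * m⁻¹ = y (σ r) (f r * t) := by
  have hp := ok.toOK.smp_lt hi
  have hpm : ∀ s, s ≠ r → s ≠ T.neg r → s ≠ T.smp i ∧ s ≠ T.neg (T.smp i) := by
    intro s h1 h2
    rcases hr with rfl | rfl
    · exact ⟨h1, h2⟩
    · rw [ok.toOK.neg_neg' hp] at h2; exact ⟨h2, h1⟩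
  simp only [Tabs.goodTerm, andR_iff, allL_iff, Nat.beq_eq, orR_iff, notR_iff, nbeq_false_iff, ieq_iff,
    filterR_eq] at hgood
  obtain ⟨hlen, hgood⟩ := hgood
  -- split the list at the good term
  obtain ⟨q0, hq0⟩ := List.length_eq_one_iff.mp hlen
  have hq0mem : q0 ∈ T.terms a b ∧ q0.1 = r := by
    have : q0 ∈ (T.terms a b).filter (fun q => Nat.beq q.1 r) := by rw [hq0]; exact List.mem_singleton.mpr rfl
    simpa [Nat.beq_eq] using this
  obtain ⟨pre, post, hsplit⟩ := List.append_of_mem hq0mem.1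
  have hother : ∀ q ∈ pre ++ post, q.1 ≠ r := by
    intro q hq e
    have h1 := congrArg List.length hq0
    rw [hsplit, List.filter_append, List.filter_cons, if_pos (by simpa [Nat.beq_eq] using hq0mem.2),
      List.length_append, List.length_cons, List.length_singleton] at h1
    have : q ∈ pre.filter (fun q => Nat.beq q.1 r) ∨ q ∈ post.filter (fun q => Nat.beq q.1 r) := by
      simpa [Nat.beq_eq, e] using hq
    rcases this with h | h <;> have := List.length_pos_of_mem h <;> omega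
  obtain ⟨u, v, huv⟩ : ∃ u v : F, (q0.2.1 : F) * (-u) ^ q0.2.2.1 * v ^ q0.2.2.2 = t := by
    rcases hgood q0 hq0mem.1 with h | ⟨hc, he⟩
    · exact absurd hq0mem.2 h
    have hc' : (q0.2.1 : F) * (q0.2.1 : F) = 1 := by rcases hc with e | e <;> simp [e]
    rcases he with e | e
    · refine ⟨-((q0.2.1 : F) * t), 1, ?_⟩
      rw [e, pow_one, one_pow, mul_one, neg_neg, ← mul_assoc, hc', one_mul]
    · refine ⟨-1, (q0.2.1 : F) * t, ?_⟩
      rw [e, pow_one, neg_neg, one_pow, mul_one, ← mul_assoc, hc', one_mul]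
  -- the relation and its conjugate
  have e1 := st.comm a b ha hb hab hab' u v
  obtain ⟨hσa, hσna⟩ := hσ a ha
  have e2 := st.comm (σ a) (σ b) hσa (hσ b hb).1 (fun e => hab (hσi b hb a ha e))
    (fun e => hab' (hσi b hb _ (ok.toOK.neg_lt ha) (e.trans hσna.symm))) (f a * u) (f b * v)
  have e3 := congrArg (fun z => m * z * m⁻¹) e1
  simp only [← conj_mul] at e3
  rw [hm a ha (hpm a ha1 ha2).1 (hpm a ha1 ha2).2, hm b hb (hpm b hb1 hb2).1 (hpm b hb1 hb2).2, e2] at e3
  have e4 := (mul_left_cancel e3).symm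
  simp only [ChevalleyDatum.commWord, ok.toOK.terms_eq ha hb, ok.toOK.terms_eq hσa (hσ b hb).1, ht,
    List.map_map] at e4
  set A : ℕ × ℤ × ℕ × ℕ → S := fun q => y q.1 ((q.2.1 : F) * (-u) ^ q.2.2.1 * v ^ q.2.2.2) with hA
  set B : ℕ × ℤ × ℕ × ℕ → S := fun q => y (σ q.1) (f q.1 * ((q.2.1 : F) * (-u) ^ q.2.2.1 * v ^ q.2.2.2)) with hB
  have e5 : m * ((T.terms a b).map A).prod * m⁻¹ = ((T.terms a b).map B).prod := by
    refine e4.trans (congrArg List.prod (List.map_congr_left fun q hq => ?_))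
    simp only [Function.comp_apply, hB]
    congr 1
    rw [show -(f a * u) = f a * -u by ring, mul_pow, mul_pow, ← mul_assoc (f q.1), ← mul_assoc (f q.1), ← hg q hq]
    ring
  have hfac : ∀ q ∈ pre ++ post, m * A q * m⁻¹ = B q := by
    intro q hq'
    have hmem : q ∈ T.terms a b := by
      rw [hsplit]; rcases List.mem_append.mp hq' with h | h <;> simp [h]
    obtain ⟨h1, h2⟩ := hpm q.1 (hother q hq') (hq q hmem)
    exact hm q.1 (ok.toOK.term_spec ha hb hmem).1 h1 h2 _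
  rw [hsplit, List.map_append, List.map_cons, List.prod_append, List.prod_cons, List.map_append, List.map_cons,
    List.prod_append, List.prod_cons, ← conj_mul, ← conj_mul,
    foldr_conj_prod m A B pre fun q hq => hfac q (List.mem_append_left _ hq),
    foldr_conj_prod m A B post fun q hq => hfac q (List.mem_append_right _ hq)] at e5
  have e6 := mul_right_cancel (mul_left_cancel e5)
  simp only [hA, hB, huv, hq0mem.2] at e6
  exact e6

theorem exists_wit (st : StHyp ok y θ) {i : ℕ} (hi : i < D.rank) {r : ℕ}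
    (hr : r = T.smp i ∨ r = T.neg (T.smp i)) :
    ∃ a b, a < D.nroots ∧ b < D.nroots ∧ T.witB D i r a b = true := by
  have h := st.wit
  simp only [Tabs.chkWit, allR_iff, andR_iff, anyL_iff, upTo_eq, List.mem_range] at h
  obtain ⟨⟨a, ha, b, hb, h1⟩, ⟨a', ha', b', hb', h2⟩⟩ := h i hi
  rcases hr with rfl | rfl
  exacts [⟨a, b, ha, hb, h1⟩, ⟨a', b', ha', hb', h2⟩]

/-- `n̄_i(a)`. -/
noncomputable def nb (_st : StHyp ok y θ) (i : ℕ) (a : F) : S := y (T.smp i) a * y (T.neg (T.smp i)) (-a⁻¹) * y (T.smp i) a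

theorem nb_mem_Xp (st : StHyp ok y θ) (i : ℕ) (a : F) : st.nb i a ∈ st.Xp i :=
  mul_mem (mul_mem (Subgroup.subset_closure ⟨_, _, Or.inl rfl, rfl⟩) (Subgroup.subset_closure ⟨_, _, Or.inr rfl, rfl⟩))
    (Subgroup.subset_closure ⟨_, _, Or.inl rfl, rfl⟩)

theorem map_nb (st : StHyp ok y θ) {i : ℕ} (hi : i < D.rank) (a : F) : θ (st.nb i a) = ok.toOK.nG (T.smp i) a := by
  have hp := ok.toOK.smp_lt hi
  rw [nb, map_mul, map_mul, st.map_y _ hp, st.map_y _ (ok.toOK.neg_lt hp), ok.toOK.nG_eq hp]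

theorem nb_inv (st : StHyp ok y θ) {i : ℕ} (hi : i < D.rank) (a : F) : (st.nb i a)⁻¹ = st.nb i (-a) := by
  have hp := ok.toOK.smp_lt hi
  rw [nb, nb, mul_inv_rev, mul_inv_rev, st.y_inv hp, st.y_inv (ok.toOK.neg_lt hp), inv_neg, neg_neg, mul_assoc]

theorem conj_n1 (st : StHyp ok y θ) {i : ℕ} (hi : i < D.rank) {s : ℕ} (hs : s < D.nroots) (t : F) :
    st.nb i 1 * y s t * (st.nb i 1)⁻¹ = y (T.refl i s) ((T.eta i s : F) * t) := by
  have away : ∀ s < D.nroots, s ≠ T.smp i → s ≠ T.neg (T.smp i) → ∀ t : F,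
      st.nb i 1 * y s t * (st.nb i 1)⁻¹ = y (T.refl i s) ((T.eta i s : F) * t) := by
    intro s hs h1 h2 t
    obtain ⟨b, hb⟩ := ok.sgn_total hs
    refine st.conj_of_map hi (st.nb_mem_Xp i 1) hb h1 h2 (ok.sgn_refl hi hb h1 h2).1 ?_
    rw [st.map_nb hi, ok.toOK.n_xG hi hs]
  by_cases h12 : s = T.smp i ∨ s = T.neg (T.smp i)
  swap
  · exact away s hs (fun e => h12 (Or.inl e)) (fun e => h12 (Or.inr e)) t
  obtain ⟨a, b, ha, hb, hw⟩ := st.exists_wit hi h12
  simp only [Tabs.witB, andR_iff, notR_iff, nbeq_false_iff, allL_iff, allR_iff, ieq_iff, mapR_eq] at hw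
  obtain ⟨hgood, h1, h2, h3, h4, h5, h6, heq, hq⟩ := hw
  refine st.conj_of_wit hi h12 (f := fun s => (T.eta i s : F))
    (fun s hs => ⟨ok.toOK.refl_lt hi hs, ok.toOK.refl_neg hi hs⟩)
    (fun s hs s' hs' e => by rw [← ok.toOK.refl_refl hi hs, e, ok.toOK.refl_refl hi hs'])
    away ha hb hgood h1 h2 h3 h4 h5 h6 (fun q hq' => (hq q hq').1)
    (fun q => Int.mul (Int.mul (Int.mul (T.eta i q.1) q.2.1) (ipow (T.eta i a) q.2.2.1)) (ipow (T.eta i b) q.2.2.2))
    (eq_of_eqL eq_of_eqQ heq) ?_ t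
  intro q hq'
  simp only [Int.mul_def, ipow_eq]
  push_cast
  have pa : (T.eta i a : F) ^ q.2.2.1 * (T.eta i a : F) ^ q.2.2.1 = 1 := by
    rw [← mul_pow, ok.toOK.eta_sq hi ha, one_pow]
  have pb : (T.eta i b : F) ^ q.2.2.2 * (T.eta i b : F) ^ q.2.2.2 = 1 := by
    rw [← mul_pow, ok.toOK.eta_sq hi hb, one_pow]
  linear_combination (T.eta i q.1 : F) * (q.2.1 : F) * ((T.eta i b : F) ^ q.2.2.2 * (T.eta i b : F) ^ q.2.2.2) * pa +
    (T.eta i q.1 : F) * (q.2.1 : F) * pb

/-- `h̄_i(a)`. -/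
noncomputable def hb (st : StHyp ok y θ) (i : ℕ) (a : F) : S := st.nb i a * st.nb i (-1)

theorem map_hb (st : StHyp ok y θ) {i : ℕ} (hi : i < D.rank) (a : F) : θ (st.hb i a) = ok.toOK.hG (T.smp i) a := by
  rw [hb, map_mul, st.map_nb hi, st.map_nb hi, ok.toOK.hG_eq]

theorem nb_eq (st : StHyp ok y θ) {i : ℕ} (hi : i < D.rank) (a : F) : st.nb i a = st.hb i a * st.nb i 1 := by
  rw [hb, ← st.nb_inv hi 1, inv_mul_cancel_right]

theorem hG_xG {i s : ℕ} (hi : i < D.rank) (hs : s < D.nroots) {a : F} (ha : a ≠ 0) (t : F) :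
    ok.toOK.hG (T.smp i) a * ok.toOK.xG s t * (ok.toOK.hG (T.smp i) a)⁻¹ = ok.toOK.xG s (a ^ T.cA i s * t) := by
  rw [mul_inv_eq_iff_eq_mul]
  refine Units.ext ?_
  rw [Units.val_mul, Units.val_mul, OK.coe_xG, OK.coe_xG, OK.coe_hG, ← ok.toOK.simple_eq hi]
  exact ok.toOK.conj_h hi hs ha t

theorem conj_hb (st : StHyp ok y θ) {i : ℕ} (hi : i < D.rank) {a : F} (ha : a ≠ 0) {s : ℕ} (hs : s < D.nroots)
    (t : F) : st.hb i a * y s t * (st.hb i a)⁻¹ = y s (a ^ T.cA i s * t) := by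
  have away : ∀ s < D.nroots, s ≠ T.smp i → s ≠ T.neg (T.smp i) → ∀ t : F,
      st.hb i a * y s t * (st.hb i a)⁻¹ = y s (a ^ T.cA i s * t) := by
    intro s hs h1 h2 t
    obtain ⟨b, hb⟩ := ok.sgn_total hs
    refine st.conj_of_map hi (mul_mem (st.nb_mem_Xp i _) (st.nb_mem_Xp i _)) hb h1 h2 hb ?_
    rw [show θ (st.nb i a * st.nb i (-1)) = θ (st.hb i a) from rfl, st.map_hb hi, hG_xG (ok := ok) hi hs ha]
  by_cases h12 : s = T.smp i ∨ s = T.neg (T.smp i)
  swap
  · exact away s hs (fun e => h12 (Or.inl e)) (fun e => h12 (Or.inr e)) t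
  obtain ⟨x, z, hx, hz, hw⟩ := st.exists_wit hi h12
  simp only [Tabs.witB, andR_iff, notR_iff, nbeq_false_iff, allL_iff, allR_iff, ieq_iff, mapR_eq] at hw
  obtain ⟨hgood, h1, h2, h3, h4, h5, h6, -, hq⟩ := hw
  refine st.conj_of_wit hi h12 (σ := id) (f := fun s => a ^ T.cA i s) (fun s hs => ⟨hs, rfl⟩)
    (fun _ _ _ _ e => e) away hx hz hgood h1 h2 h3 h4 h5 h6 (fun q hq' => (hq q hq').1) (fun q => q.2.1)
    (by simp) ?_ t
  intro q hq'
  have h := (hq q hq').2 i hi
  simp only [Int.add_def, Int.mul_def, Int.ofNat_eq_natCast] at h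
  rw [h, zpow_add₀ ha, mul_comm (q.2.2.1 : ℤ), mul_comm (q.2.2.2 : ℤ), zpow_mul, zpow_mul, zpow_natCast,
    zpow_natCast]
  ring

/-! ### Torus and monomial elements -/

/-- The subgroup of the `h̄_i(a)`. -/
def Hb (st : StHyp ok y θ) : Subgroup S :=
  Subgroup.closure {x | ∃ (i : ℕ) (a : F), i < D.rank ∧ a ≠ 0 ∧ x = st.hb i a}

theorem hb_mem (st : StHyp ok y θ) {i : ℕ} (hi : i < D.rank) {a : F} (ha : a ≠ 0) : st.hb i a ∈ st.Hb :=
  Subgroup.subset_closure ⟨i, a, hi, ha, rfl⟩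

theorem map_Hb (st : StHyp ok y θ) {g : S} (hg : g ∈ st.Hb) : θ g ∈ D.diagonalSubgroup F := by
  induction hg using Subgroup.closure_induction with
  | mem x hx =>
    obtain ⟨i, a, hi, ha, rfl⟩ := hx
    rw [st.map_hb hi]
    exact ok.toOK.hG_mem_diag (ok.toOK.smp_lt hi) ha
  | one => rw [map_one]; exact one_mem _
  | mul a b _ _ ha hb => rw [map_mul]; exact mul_mem ha hb
  | inv a _ ha => rw [map_inv]; exact inv_mem ha

theorem n1_sq (st : StHyp ok y θ) {i : ℕ} (hi : i < D.rank) : st.nb i 1 * st.nb i 1 = (st.hb i (-1))⁻¹ := by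
  rw [eq_inv_iff_mul_eq_one, mul_eq_one_comm, ← mul_assoc, ← st.nb_eq hi, ← st.nb_inv hi, inv_mul_cancel]

theorem hb_nb (st : StHyp ok y θ) {i j : ℕ} (hi : i < D.rank) (hj : j < D.rank) {a : F} (ha : a ≠ 0) :
    st.hb j a * st.nb i 1 * (st.hb j a)⁻¹ = st.nb i (a ^ T.cA j (T.smp i)) := by
  have hp := ok.toOK.smp_lt hi
  rw [nb, nb, ← conj_mul, ← conj_mul, st.conj_hb hj ha hp, st.conj_hb hj ha (ok.toOK.neg_lt hp),
    ok.toOK.cA_neg hp hj, zpow_neg, inv_one, mul_one, mul_neg, mul_one]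

theorem n1_normalizes_Hb (st : StHyp ok y θ) {i : ℕ} (hi : i < D.rank) :
    st.nb i 1 ∈ Subgroup.normalizer (st.Hb : Set S) := by
  have main : ∀ j a, j < D.rank → a ≠ 0 → st.nb i 1 * st.hb j a * (st.nb i 1)⁻¹ ∈ st.Hb := by
    intro j a hj ha
    have h1 := st.hb_nb hi hj ha
    rw [st.nb_eq hi (a ^ _)] at h1
    have h2 : st.nb i 1 * (st.hb j a)⁻¹ * (st.nb i 1)⁻¹ = (st.hb j a)⁻¹ * st.hb i (a ^ T.cA j (T.smp i)) := by
      rw [mul_inv_eq_iff_eq_mul, mul_assoc _ _ (st.nb i 1), eq_inv_mul_iff_mul_eq, ← mul_assoc]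
      exact h1
    have h3 := inv_mem (mul_mem (inv_mem (st.hb_mem hj ha)) (st.hb_mem hi (zpow_ne_zero (T.cA j (T.smp i)) ha)))
    rw [← h2] at h3
    simpa [mul_assoc] using h3
  refine ok.normalizes_of_gen ?_ ?_
  · rintro _ ⟨j, a, hj, ha, rfl⟩
    exact main j a hj ha
  · rintro x ⟨j, a, hj, ha, rfl⟩
    set H := st.hb i (-1) with hH
    have hn : (st.nb i 1)⁻¹ = H * st.nb i 1 := by rw [st.nb_inv hi, hH, ← st.nb_eq hi]
    have hn' : st.nb i 1 = (H * st.nb i 1)⁻¹ := by rw [← hn, inv_inv]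
    have := mul_mem (mul_mem (st.hb_mem hi (neg_ne_zero.mpr one_ne_zero)) (main j a hj ha))
      (inv_mem (st.hb_mem hi (neg_ne_zero.mpr (one_ne_zero (α := F)))))
    rw [← hH] at this
    rw [hn]
    conv => arg 2; arg 2; rw [hn']
    simpa [mul_assoc, Hb] using this

/-- The product of the `n̄_i(1)` along a word. -/
noncomputable def gb (st : StHyp ok y θ) (w : List ℕ) : S := (w.map fun i => st.nb i 1).prod

theorem gb_cons (st : StHyp ok y θ) (i : ℕ) (w : List ℕ) : st.gb (i :: w) = st.nb i 1 * st.gb w := by simp [gb]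

theorem gb_append (st : StHyp ok y θ) (v w : List ℕ) : st.gb (v ++ w) = st.gb v * st.gb w := by simp [gb]

theorem map_gb (st : StHyp ok y θ) : ∀ w : List ℕ, (∀ i ∈ w, i < D.rank) → θ (st.gb w) = ok.toOK.gW F w
  | [], _ => by simp [gb, OK.gW]
  | i :: w, h => by
    rw [gb_cons, ok.toOK.gW_cons, map_mul, st.map_nb (h i List.mem_cons_self),
      map_gb st w fun j hj => h j (List.mem_cons_of_mem _ hj)]

theorem gb_normalizes (st : StHyp ok y θ) {w : List ℕ} (hw : ∀ i ∈ w, i < D.rank) :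
    st.gb w ∈ Subgroup.normalizer (st.Hb : Set S) :=
  list_prod_mem fun x hx => by
    obtain ⟨i, hi, rfl⟩ := List.mem_map.mp hx
    exact st.n1_normalizes_Hb (hw i hi)

/-- Elements written as a torus element times a word. -/
def IsN (st : StHyp ok y θ) (g : S) : Prop :=
  ∃ h ∈ st.Hb, ∃ w : List ℕ, (∀ i ∈ w, i < D.rank) ∧ g = h * st.gb w

theorem isN_mul (st : StHyp ok y θ) {g g' : S} (hg : st.IsN g) (hg' : st.IsN g') : st.IsN (g * g') := by
  obtain ⟨h, hh, v, hv, rfl⟩ := hg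
  obtain ⟨h', hh', w, hw, rfl⟩ := hg'
  refine ⟨h * (st.gb v * h' * (st.gb v)⁻¹),
    mul_mem hh ((Subgroup.mem_normalizer_iff.mp (st.gb_normalizes hv) _).mp hh'), v ++ w,
    fun i hi => (List.mem_append.mp hi).elim (hv i) (hw i), ?_⟩
  rw [st.gb_append]
  simp [mul_assoc]

theorem isN_Hb (st : StHyp ok y θ) {g : S} (hg : g ∈ st.Hb) : st.IsN g := ⟨g, hg, [], by simp, by simp [gb]⟩

theorem isN_nb (st : StHyp ok y θ) {i : ℕ} (hi : i < D.rank) {a : F} (ha : a ≠ 0) : st.IsN (st.nb i a) :=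
  ⟨st.hb i a, st.hb_mem hi ha, [i], by simpa using hi, by rw [st.nb_eq hi]; simp [gb]⟩

theorem isN_gb_inv (st : StHyp ok y θ) : ∀ w : List ℕ, (∀ i ∈ w, i < D.rank) → st.IsN (st.gb w)⁻¹
  | [], _ => by rw [show st.gb [] = 1 from rfl, inv_one]; exact st.isN_Hb (one_mem _)
  | i :: w, h => by
    rw [gb_cons, mul_inv_rev, st.nb_inv (h i List.mem_cons_self)]
    exact st.isN_mul (isN_gb_inv st w fun j hj => h j (List.mem_cons_of_mem _ hj))
      (st.isN_nb (h i List.mem_cons_self) (neg_ne_zero.mpr one_ne_zero))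

theorem isN_inv (st : StHyp ok y θ) {g : S} (hg : st.IsN g) : st.IsN g⁻¹ := by
  obtain ⟨h, hh, w, hw, rfl⟩ := hg
  rw [mul_inv_rev]
  exact st.isN_mul (st.isN_gb_inv w hw) (st.isN_Hb (inv_mem hh))

theorem conj_Hb (st : StHyp ok y θ) {g : S} (hg : g ∈ st.Hb) :
    ∀ s < D.nroots, ∃ c : F, ∀ t : F, g * y s t * g⁻¹ = y s (c * t) ∧ g⁻¹ * y s t * g = y s (c⁻¹ * t) ∧ c ≠ 0 := by
  induction hg using Subgroup.closure_induction with
  | mem x hx =>
    obtain ⟨i, a, hi, ha, rfl⟩ := hx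
    intro s hs
    refine ⟨a ^ T.cA i s, fun t => ⟨st.conj_hb hi ha hs t, ?_, zpow_ne_zero _ ha⟩⟩
    have h := st.conj_hb hi ha hs ((a ^ T.cA i s)⁻¹ * t)
    rw [← mul_assoc, mul_inv_cancel₀ (zpow_ne_zero _ ha), one_mul] at h
    rw [← h]
    simp [mul_assoc]
  | one => exact fun s _ => ⟨1, fun t => by simp⟩
  | mul g g' _ _ hg hg' =>
    intro s hs
    obtain ⟨c, hc⟩ := hg s hs
    obtain ⟨d, hd⟩ := hg' s hs
    refine ⟨c * d, fun t => ⟨?_, ?_, mul_ne_zero (hc t).2.2 (hd t).2.2⟩⟩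
    · rw [mul_assoc c d t, ← (hc (d * t)).1, ← (hd t).1]; simp [mul_assoc]
    · rw [mul_inv, mul_comm c⁻¹, mul_assoc d⁻¹ c⁻¹ t, ← (hd (c⁻¹ * t)).2.1, ← (hc t).2.1]; simp [mul_assoc]
  | inv g _ hg =>
    intro s hs
    obtain ⟨c, hc⟩ := hg s hs
    refine ⟨c⁻¹, fun t => ⟨?_, ?_, inv_ne_zero (hc t).2.2⟩⟩
    · rw [inv_inv]; exact (hc t).2.1
    · rw [inv_inv, inv_inv]; exact (hc t).1

theorem conj_gb (st : StHyp ok y θ) : ∀ w : List ℕ, (∀ i ∈ w, i < D.rank) → ∀ s < D.nroots,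
    ∃ c : F, c ≠ 0 ∧ ∀ t : F, st.gb w * y s t * (st.gb w)⁻¹ = y (piW T w s) (c * t)
  | [], _, s, _ => ⟨1, one_ne_zero, fun t => by simp [gb, piW]⟩
  | i :: w, h, s, hs => by
    obtain ⟨c, hc0, hc⟩ := conj_gb st w (fun j hj => h j (List.mem_cons_of_mem _ hj)) s hs
    have hlt := ok.piW_lt (fun j hj => h j (List.mem_cons_of_mem _ hj)) hs
    have hi := h i List.mem_cons_self
    refine ⟨(T.eta i (piW T w s) : F) * c,
      mul_ne_zero (left_ne_zero_of_mul_eq_one (ok.toOK.eta_sq hi hlt)) hc0, fun t => ?_⟩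
    rw [gb_cons, piW, mul_assoc (T.eta i (piW T w s) : F) c t, ← st.conj_n1 hi hlt (c * t), ← hc t]
    simp [mul_assoc]

theorem conj_N (st : StHyp ok y θ) {h : S} (hh : h ∈ st.Hb) {w : List ℕ} (hw : ∀ i ∈ w, i < D.rank) {s : ℕ}
    (hs : s < D.nroots) :
    ∃ c : F, c ≠ 0 ∧ ∀ t : F, h * st.gb w * y s t * (h * st.gb w)⁻¹ = y (piW T w s) (c * t) := by
  obtain ⟨c, hc0, hc⟩ := st.conj_gb w hw s hs
  obtain ⟨d, hd⟩ := st.conj_Hb hh _ (ok.piW_lt hw hs)
  refine ⟨d * c, mul_ne_zero (hd 0).2.2 hc0, fun t => ?_⟩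
  rw [mul_assoc d c t, ← (hd (c * t)).1, ← hc t]
  simp [mul_assoc]

/-! ### Normal form and kernel -/

/-- The elements with a normal form. -/
def Om (st : StHyp ok y θ) : Set S :=
  {g | ∃ u ∈ st.M true (Tabs.half D), ∃ n, st.IsN n ∧ ∃ v ∈ st.M true (Tabs.half D), g = u * n * v}

theorem smp_sgn (ok : OKX D T) {i : ℕ} (hi : i < D.rank) : Sgn D true (T.smp i) :=
  ok.sgn_true.mpr ⟨ok.toOK.smp_lt hi, by rw [(ok.toOK.smp_spec hi).1]; norm_num⟩

theorem M_split_simple (st : StHyp ok y θ) {i : ℕ} (hi : i < D.rank) {g : S} (hg : g ∈ st.M true (Tabs.half D)) :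
    ∃ v ∈ st.V true i, ∃ t : F, g = v * y (T.smp i) t := by
  have hp := ok.toOK.smp_lt hi
  have hN : ∀ t, y (T.smp i) t ∈ Subgroup.normalizer (st.V true i : Set S) := fun t =>
    st.Xp_normalizes hi (Subgroup.subset_closure ⟨_, t, Or.inl rfl, rfl⟩)
  induction hg using Subgroup.closure_induction_left with
  | one => exact ⟨1, one_mem _, 0, by rw [st.y_zero hp, one_mul]⟩
  | mul_left x hx g _ ih =>
    obtain ⟨s, t, ⟨hs, -⟩, rfl⟩ := hx
    obtain ⟨v, hv, u, rfl⟩ := ih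
    by_cases e : s = T.smp i
    · subst e
      refine ⟨y (T.smp i) t * v * (y (T.smp i) t)⁻¹, (Subgroup.mem_normalizer_iff.mp (hN t) v).mp hv, t + u, ?_⟩
      rw [← st.add _ hp]; simp [mul_assoc]
    · exact ⟨y s t * v, mul_mem (Subgroup.subset_closure ⟨s, t, ⟨hs, e, ok.sgn_neg_ne (smp_sgn ok hi) hs⟩, rfl⟩) hv, u,
        by rw [mul_assoc]⟩
  | inv_mul_cancel x hx g _ ih =>
    obtain ⟨s, t, ⟨hs, -⟩, rfl⟩ := hx
    obtain ⟨v, hv, u, rfl⟩ := ih
    rw [st.y_inv hs.lt]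
    by_cases e : s = T.smp i
    · subst e
      refine ⟨y (T.smp i) (-t) * v * (y (T.smp i) (-t))⁻¹, (Subgroup.mem_normalizer_iff.mp (hN _) v).mp hv, -t + u, ?_⟩
      rw [← st.add _ hp]; simp [mul_assoc]
    · exact ⟨y s (-t) * v, mul_mem (Subgroup.subset_closure ⟨s, _, ⟨hs, e, ok.sgn_neg_ne (smp_sgn ok hi) hs⟩, rfl⟩) hv,
        u, by rw [mul_assoc]⟩

theorem M_mul_Om (st : StHyp ok y θ) {u : S} (hu : u ∈ st.M true (Tabs.half D)) {g : S} (hg : g ∈ st.Om) :
    u * g ∈ st.Om := by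
  obtain ⟨v, hv, n, hn, w, hw, rfl⟩ := hg
  exact ⟨u * v, mul_mem hu hv, n, hn, w, hw, by simp [mul_assoc]⟩

theorem nb_mul_Om (st : StHyp ok y θ) {i : ℕ} (hi : i < D.rank) {a : F} (ha : a ≠ 0) {g : S} (hg : g ∈ st.Om) :
    st.nb i a * g ∈ st.Om := by
  obtain ⟨u, hu, n, hn, u', hu', rfl⟩ := hg
  obtain ⟨v, hv, t, rfl⟩ := st.M_split_simple hi hu
  have hp := ok.toOK.smp_lt hi
  set m := st.nb i a with hm
  have hv' : m * v * m⁻¹ ∈ st.M true (Tabs.half D) :=
    st.V_le ((Subgroup.mem_normalizer_iff.mp (st.Xp_normalizes hi (st.nb_mem_Xp i a)) v).mp hv)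
  suffices key : m * y (T.smp i) t * n * u' ∈ st.Om by
    have := st.M_mul_Om hv' key
    simpa [mul_assoc] using this
  have hmN := st.isN_nb hi ha
  rw [← hm] at hmN
  obtain ⟨h, hh, w, hw, e⟩ := st.isN_inv hn
  have hlt := ok.piW_lt hw hp
  obtain ⟨c, -, hc⟩ := st.conj_N hh hw hp
  obtain ⟨c', -, hc'⟩ := st.conj_N hh hw (ok.toOK.neg_lt hp)
  simp only [← e, inv_inv] at hc hc'
  by_cases ht : t = 0
  · refine ⟨1, one_mem _, m * n, st.isN_mul hmN hn, u', hu', ?_⟩
    rw [ht, st.y_zero hp]; simp [mul_assoc]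
  obtain ⟨b, hb⟩ := ok.sgn_total hlt
  cases b
  · -- the moved root is negative
    have hpos : Sgn D true (piW T w (T.neg (T.smp i))) := by
      have hlt' := ok.piW_lt hw (ok.toOK.neg_lt hp)
      refine ok.sgn_true.mpr ⟨hlt', ?_⟩
      rw [ok.piW_neg hw hp, ok.toOK.ht_neg hlt]
      have := (ok.sgn_false.mp hb).2
      omega
    obtain ⟨d, hd⟩ : ∃ d : F, m * st.nb i t * y (T.smp i) (-t) * (m * st.nb i t)⁻¹ = y (T.smp i) d := by
      refine Exists.intro ?w ?h
      case h =>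
        rw [hm, st.nb_eq hi a, st.nb_eq hi t]
        calc st.hb i a * st.nb i 1 * (st.hb i t * st.nb i 1) * y (T.smp i) (-t) *
            (st.hb i a * st.nb i 1 * (st.hb i t * st.nb i 1))⁻¹
          = st.hb i a * (st.nb i 1 * (st.hb i t * (st.nb i 1 * y (T.smp i) (-t) * (st.nb i 1)⁻¹) *
              (st.hb i t)⁻¹) * (st.nb i 1)⁻¹) * (st.hb i a)⁻¹ := by simp [mul_assoc]
        _ = _ := by
            rw [st.conj_n1 hi hp, (ok.toOK.smp_spec hi).2.2.1, st.conj_hb hi ht (ok.toOK.neg_lt hp),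
              st.conj_n1 hi (ok.toOK.neg_lt hp), ok.toOK.refl_neg hi hp, (ok.toOK.smp_spec hi).2.2.1,
              ok.toOK.neg_neg' hp, st.conj_hb hi ha hp]
    refine ⟨y (T.smp i) d, st.y_mem_M' (smp_sgn ok hi) _, m * st.nb i t * n,
      st.isN_mul (st.isN_mul hmN (st.isN_nb hi ht)) hn, y _ (c' * t⁻¹) * u', mul_mem (st.y_mem_M' hpos _) hu', ?_⟩
    have hy : y (T.smp i) t = st.nb i t * (y (T.smp i) (-t) * y (T.neg (T.smp i)) t⁻¹) := by
      rw [nb, ← st.y_inv hp, mul_assoc, mul_inv_cancel_left, mul_assoc, st.add _ (ok.toOK.neg_lt hp), neg_add_cancel,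
        st.y_zero (ok.toOK.neg_lt hp), mul_one]
    rw [← hd, ← hc' t⁻¹, hy]
    simp [mul_assoc]
  · refine ⟨1, one_mem _, m * n, st.isN_mul hmN hn, y _ (c * t) * u', mul_mem (st.y_mem_M' hb _) hu', ?_⟩
    rw [← hc t]
    simp [mul_assoc]

theorem mem_Om (st : StHyp ok y θ) (g : S) : g ∈ st.Om := by
  let K : Subgroup S := Subgroup.closure
    ({x | ∃ (r : ℕ) (t : F), Sgn D true r ∧ x = y r t} ∪ {x | ∃ (i : ℕ) (a : F), i < D.rank ∧ a ≠ 0 ∧ x = st.nb i a})
  have hK : K = ⊤ := by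
    rw [← top_le_iff, ← st.gen, Subgroup.closure_le]
    rintro _ ⟨r, t, hr, rfl⟩
    suffices hh : ∀ (L : List (ℕ × Option (ℕ × ℕ))) (seen : List ℕ), T.chkOrder D L seen = true →
        (∀ e ∈ L, e ∈ T.order) → (∀ a ∈ seen, a < D.nroots ∧ ∀ t : F, y a t ∈ K) →
        ∀ r < D.nroots, ∀ t : F, y r t ∈ K from
      hh T.order [] ok.toOK.order (fun _ => id) (by simp) r hr t
    intro L
    induction L with
    | nil =>
      intro seen hc _ hs a ha
      replace hc : allR D.nroots (fun r => anyL (fun s => Nat.beq s r) seen) = true := hc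
      simp only [allR_iff, anyL_iff, Nat.beq_eq] at hc
      obtain ⟨b, hb, rfl⟩ := hc a ha
      exact (hs b hb).2
    | cons p L ih =>
      obtain ⟨a, o⟩ := p
      intro seen hc hL hs
      replace hc : andR (nlt a D.nroots) (andR (@Option.rec (ℕ × ℕ) (fun _ => Bool) true
          (fun q => andR (nlt q.1 D.rank) <| andR (anyL (fun s => Nat.beq s q.2) seen) <|
            Nat.beq (T.refl q.1 q.2) a) o) (T.chkOrder D L (a :: seen))) = true := hc
      simp only [andR_iff, nlt_iff] at hc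
      refine ih (a :: seen) hc.2.2 (fun e he => hL e (List.mem_cons_of_mem _ he)) ?_
      intro b hb
      rcases List.mem_cons.mp hb with rfl | hb
      swap
      · exact hs b hb
      refine ⟨hc.1, fun t => ?_⟩
      rcases o with _ | ⟨i, c⟩
      · obtain ⟨i, hi, rfl⟩ := ok.toOK.rep_simple (r := b) (by
          simp only [Tabs.reps, flatR_eq, List.mem_flatMap]
          exact ⟨_, hL _ List.mem_cons_self, List.mem_singleton.mpr rfl⟩)
        exact Subgroup.subset_closure (Or.inl ⟨_, t, smp_sgn ok hi, rfl⟩)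
      · have h2 := hc.2.1
        simp only [andR_iff, nlt_iff, anyL_iff, Nat.beq_eq] at h2
        obtain ⟨hi, ⟨c', hc', rfl⟩, rfl⟩ := h2
        obtain ⟨hcn, hcd⟩ := hs _ hc'
        have hn : st.nb i 1 ∈ K := Subgroup.subset_closure (Or.inr ⟨i, 1, hi, one_ne_zero, rfl⟩)
        have e := st.conj_n1 hi hcn ((T.eta i c' : F) * t)
        rw [← mul_assoc (T.eta i c' : F), ok.toOK.eta_sq hi hcn, one_mul] at e
        rw [← e]
        exact mul_mem (mul_mem hn (hcd _)) (inv_mem hn)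
  have hg : g ∈ K := hK ▸ Subgroup.mem_top g
  induction hg using Subgroup.closure_induction_left with
  | one => exact ⟨1, one_mem _, 1, st.isN_Hb (one_mem _), 1, one_mem _, by simp⟩
  | mul_left x hx g _ ih =>
    rcases hx with ⟨r, t, hr, rfl⟩ | ⟨i, a, hi, ha, rfl⟩
    · exact st.M_mul_Om (st.y_mem_M' hr t) ih
    · exact st.nb_mul_Om hi ha ih
  | inv_mul_cancel x hx g _ ih =>
    rcases hx with ⟨r, t, hr, rfl⟩ | ⟨i, a, hi, ha, rfl⟩
    · exact st.M_mul_Om (inv_mem (st.y_mem_M' hr t)) ih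
    · rw [st.nb_inv hi]
      exact st.nb_mul_Om hi (neg_ne_zero.mpr ha) ih

theorem map_M_true (st : StHyp ok y θ) {g : S} (hg : g ∈ st.M true (Tabs.half D)) : θ g ∈ D.posUnipotent F := by
  induction hg using Subgroup.closure_induction with
  | mem x hx =>
    obtain ⟨r, t, ⟨hr, -⟩, rfl⟩ := hx
    rw [st.map_y r hr.lt]
    exact ok.toOK.xG_mem_pos (ok.toOK.isPos_iff.mpr (ok.sgn_true.mp hr)) t
  | one => rw [map_one]; exact one_mem _
  | mul a b _ _ ha hb => rw [map_mul]; exact mul_mem ha hb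
  | inv a _ ha => rw [map_inv]; exact inv_mem ha

theorem gen_center (st : StHyp ok y θ) {g : S} (h : ∀ r < D.nroots, ∀ t : F, g * y r t * g⁻¹ = y r t) :
    g ∈ Subgroup.center S := by
  rw [Subgroup.mem_center_iff]
  intro x
  have hx : x ∈ Subgroup.closure {z | ∃ (r : ℕ) (t : F), r < D.nroots ∧ z = y r t} := by rw [st.gen]; exact Subgroup.mem_top x
  induction hx using Subgroup.closure_induction with
  | mem z hz =>
    obtain ⟨r, t, hr, rfl⟩ := hz
    exact (mul_inv_eq_iff_eq_mul.mp (h r hr t)).symm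
  | one => simp
  | mul a b _ _ ha hb => rw [mul_assoc, hb, ← mul_assoc, ha, mul_assoc]
  | inv a _ ha => rw [inv_mul_eq_iff_eq_mul, ← mul_assoc, ha, mul_inv_cancel_right]

/-- An element of the kernel is a word with trivial permutation times a torus element, and is central. -/
theorem ker_spec (st : StHyp ok y θ) {k : S} (hk : θ k = 1) : k ∈ Subgroup.center S ∧
    ∃ h ∈ st.Hb, ∃ w : List ℕ, (∀ i ∈ w, i < D.rank) ∧ (∀ r < D.nroots, piW T w r = r) ∧ k = h * st.gb w := by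
  obtain ⟨u, hu, n, hn, v, hv, rfl⟩ := st.mem_Om k
  obtain ⟨h, hh, w, hw, rfl⟩ := hn
  have hn1 : θ (h * st.gb w) = 1 := by
    have hm : θ (h * st.gb w) ∈ D.posUnipotent F ⊓ D.monomialSubgroup F := by
      refine Subgroup.mem_inf.mpr ⟨?_, ?_⟩
      · have : θ (h * st.gb w) = (θ u)⁻¹ * (θ v)⁻¹ := by
          rw [map_mul, map_mul] at hk
          rw [eq_inv_mul_iff_mul_eq, eq_inv_iff_mul_eq_one]
          exact hk
        rw [this]
        exact mul_mem (inv_mem (st.map_M_true hu)) (inv_mem (st.map_M_true hv))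
      · rw [map_mul, st.map_gb w hw]
        exact ok.toOK.mem_monomial.mpr ⟨_, st.map_Hb hh, w, hw, rfl⟩
    rw [ok.toOK.pos_inf_monomial, Subgroup.mem_bot] at hm
    exact hm
  have huv : u * v = 1 := by
    refine st.M_inj (mul_mem hu hv) ?_
    rw [map_mul] at hk ⊢
    rw [map_mul, hn1, mul_one] at hk
    exact hk
  have hid : ∀ r < D.nroots, piW T w r = r := by
    intro r hr
    have A1 := (ok.toOK.act_diag (st.map_Hb hh)).mul ok.toOK (ok.toOK.act_gW (F := F) w hw)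
    rw [← st.map_gb w hw, ← map_mul, hn1] at A1
    exact (ok.toOK.act_unique (ok.toOK.act_one (F := F)) A1 hr).symm
  have hcen : h * st.gb w ∈ Subgroup.center S := by
    refine st.gen_center fun r hr t => ?_
    obtain ⟨c, -, hc⟩ := st.conj_N hh hw hr
    rw [hc t, hid r hr]
    have e := congrArg θ (hc t)
    rw [map_mul, map_mul, map_inv, hn1, inv_one, one_mul, mul_one, hid r hr, st.map_y r hr, st.map_y r hr] at e
    rw [← ok.toOK.xG_right_inj hr e]
  have hk' : u * (h * st.gb w) * v = h * st.gb w := by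
    rw [(Subgroup.mem_center_iff.mp hcen u), mul_assoc, huv, mul_one]
  rw [hk']
  exact ⟨hcen, h, hh, w, hw, hid, rfl⟩

theorem ker_le_center (st : StHyp ok y θ) : θ.ker ≤ Subgroup.center S := fun _ hk => (st.ker_spec hk).1

/-- A word with trivial permutation gives a torus element. -/
theorem gb_mem_Hb (st : StHyp ok y θ) : ∀ (n : ℕ) (w : List ℕ), w.length = n → (∀ i ∈ w, i < D.rank) →
    (∀ r < D.nroots, piW T w r = r) → st.gb w ∈ st.Hb := by
  intro n
  induction n using Nat.strong_induction_on with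
  | _ n ih =>
    intro w hn hw hid
    rcases List.eq_nil_or_concat w with rfl | ⟨v, i, rfl⟩
    · rw [show st.gb [] = 1 from rfl]; exact one_mem _
    rw [List.concat_eq_append] at *
    have hi : i < D.rank := hw i (by simp)
    have hv : ∀ j ∈ v, j < D.rank := fun j hj => hw j (by simp [hj])
    have hp := ok.toOK.smp_lt hi
    have h2 : piW T v (T.smp i) = T.neg (T.smp i) := by
      have := hid _ (ok.toOK.neg_lt hp)
      rwa [piW_append, piW, piW, ok.toOK.refl_neg hi hp, (ok.toOK.smp_spec hi).2.2.1, ok.toOK.neg_neg' hp] at this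
    have h3 : T.htf (piW T v (T.smp i)) < 0 := by
      rw [h2, ok.toOK.ht_neg hp, (ok.toOK.smp_spec hi).1]; norm_num
    obtain ⟨a, j, b, rfl, hb⟩ := ok.toOK.sign_change v hv _ hp (by rw [(ok.toOK.smp_spec hi).1]; norm_num) h3
    have hb' : ∀ k ∈ b, k < D.rank := fun k hk => hv k (by simp [hk])
    have ha' : ∀ k ∈ a, k < D.rank := fun k hk => hv k (by simp [hk])
    have hj : j < D.rank := hv j (by simp)
    obtain ⟨c, hc0, hc⟩ := st.conj_gb b hb' _ hp
    obtain ⟨c', hc0', hc'⟩ := st.conj_gb b hb' _ (ok.toOK.neg_lt hp)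
    rw [ok.piW_neg hb' hp, hb] at hc'
    rw [hb] at hc
    have hcc : c' = c⁻¹ := by
      obtain ⟨e, he0, he⟩ := (ok.toOK.act_gW (F := F) b hb').2.1 _ hp
      have e1 := congrArg θ (hc 1)
      have e2 := congrArg θ (hc' 1)
      rw [map_mul, map_mul, map_inv, st.map_gb b hb', st.map_y _ hp, st.map_y _ (ok.toOK.smp_lt hj), (he 1).1, hb,
        mul_one, mul_one] at e1
      rw [map_mul, map_mul, map_inv, st.map_gb b hb', st.map_y _ (ok.toOK.neg_lt hp),
        st.map_y _ (ok.toOK.neg_lt (ok.toOK.smp_lt hj)), (he 1).2, hb, mul_one, mul_one] at e2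
      rw [← ok.toOK.xG_right_inj (ok.toOK.smp_lt hj) e1,
        ← ok.toOK.xG_right_inj (ok.toOK.neg_lt (ok.toOK.smp_lt hj)) e2]
    have hconj : st.gb b * st.nb i 1 * (st.gb b)⁻¹ = st.nb j c := by
      rw [nb, nb, ← conj_mul, ← conj_mul, hc, hc', hcc]
      simp
    set G := st.gb a with hG
    set B := st.gb b with hB
    set nj := st.nb j (1 : F) with hnj
    have hw' : st.gb (a ++ j :: b ++ [i]) = G * (nj * st.hb j c * nj) * B := by
      rw [gb_append, gb_append, gb_cons, show st.gb [i] = st.nb i 1 by simp [gb]]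
      have : B * st.nb i 1 = st.hb j c * nj * B := by
        rw [hnj, ← st.nb_eq hj, ← hconj, inv_mul_cancel_right]
      rw [← hG, ← hB, ← hnj, mul_assoc G, mul_assoc nj B, this]
      simp [mul_assoc]
    have hx : nj * st.hb j c * nj ∈ st.Hb := by
      have := mul_mem ((Subgroup.mem_normalizer_iff.mp (st.n1_normalizes_Hb hj) _).mp (st.hb_mem hj hc0))
        (inv_mem (st.hb_mem hj (neg_ne_zero.mpr (one_ne_zero (α := F)))))
      rw [← st.n1_sq hj, ← hnj] at this
      simpa [mul_assoc] using this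
    have hy := (Subgroup.mem_normalizer_iff.mp (st.gb_normalizes ha') _).mp hx
    rw [← hG] at hy
    set z := G * (nj * st.hb j c * nj) * G⁻¹ with hz
    have hshort : st.gb (a ++ b) = z⁻¹ * st.gb (a ++ j :: b ++ [i]) := by
      rw [hw', hz, gb_append, ← hG, ← hB]; simp [mul_assoc]
    have hab : ∀ k ∈ a ++ b, k < D.rank := fun k hk => (List.mem_append.mp hk).elim (ha' k) (hb' k)
    have hid' : ∀ r < D.nroots, piW T (a ++ b) r = r := by
      intro r hr
      have A1 := ok.toOK.act_gW (F := F) (a ++ b) hab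
      have A2 := (ok.toOK.act_diag (st.map_Hb (inv_mem hy))).mul ok.toOK (ok.toOK.act_gW (F := F) _ hw)
      rw [← st.map_gb _ hw, ← map_mul, ← hshort, st.map_gb _ hab] at A2
      rw [ok.toOK.act_unique A1 A2 hr]
      exact hid r hr
    have := ih (a ++ b).length (by subst hn; simp) (a ++ b) rfl hab hid'
    rw [hshort] at this
    have h5 := mul_mem hy this
    rwa [mul_inv_cancel_left] at h5

theorem ker_le_Hb (st : StHyp ok y θ) : θ.ker ≤ st.Hb := by
  intro k hk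
  obtain ⟨-, h, hh, w, hw, hid, rfl⟩ := st.ker_spec hk
  exact mul_mem hh (st.gb_mem_Hb _ w rfl hw hid)

end StHyp

end Cfsg.Agent.Chev
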