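import Cfsg.Agent.Lib.Chev.StUnivData
import Cfsg.Agent.Lib.Chev.StPerf
import Cfsg.Agent.S2397
import Cfsg.Prelude.Def_KGroupFacts
import Mathlib.GroupTheory.SpecificGroups.Cyclic

/-! Schur multipliers from universality of the presented group. -/

set_option autoImplicit false

namespace Cfsg.Agent.Chev

open Cfsg.Lie
open scoped commutatorElement

universe u

variable {F : Type u} [Field F] {D : ChevalleyDatum} {T : Tabs}

theorem hasMultiplier_of_hom [Fintype F] (ok : OKX D T) (hdn : Tabs.chkDn D T = true) (hwit : Tabs.chkWit D T = true)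
    {M : List (List (ℕ × ℤ))} (hM : Tabs.chkCow D T M = true) (htop : commutator (D.SteinbergCover F) = ⊤)
    (huniv : ∀ (Γ : Type u) [Group Γ] (ρ : Γ →* GL D.Idx F), Lifts ok ρ →
      ∃ φ : D.SteinbergCover F →* Γ, ρ.comp φ = ok.scHom)
    (e : D.SteinbergCover F ≃* D.SteinbergGroup F) {n : ℕ} (hn : n.Prime ∨ n = 1)
    (hcard : Nat.card ↥(Subgroup.center (D.SteinbergGroup F)) = n) :
    HasCyclicSchurMultiplier ↥(D.group F) n := by
  have st := ok.presented_hyp (R := D.steinbergRelsAB F) (Set.Subset.refl _) hdn hwit ok.scHom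
    fun r hr t => ok.scHom_gen hr t
  have hker : st.toGrp.ker = Subgroup.center (D.SteinbergCover F) := by rw [st.ker_toGrp, st.ker_eq_center hM]
  have hk : Nat.card ↥st.toGrp.ker = n := by
    rw [hker, ← hcard]
    exact Nat.card_congr (Subgroup.centerCongr e).toEquiv
  have hn0 : n ≠ 0 := by rcases hn with h | rfl; exacts [h.ne_zero, one_ne_zero]
  have hfin : Finite ↥st.toGrp.ker := Nat.finite_of_card_ne_zero (hk ▸ hn0)
  have : Finite (D.SteinbergCover F ⧸ st.toGrp.ker) := Finite.of_equiv _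
    (QuotientGroup.quotientKerEquivOfSurjective st.toGrp st.toGrp_surjective).symm.toEquiv
  have hfinC : Finite (D.SteinbergCover F) := Finite.of_subgroup_quotient st.toGrp.ker
  have hcyc : IsCyclic ↥st.toGrp.ker := by
    rcases hn with h | h
    · exact isCyclic_of_prime_card (hp := ⟨h⟩) hk
    · have := (Nat.card_eq_one_iff_unique.mp (hk.trans h)).1
      exact isCyclic_of_subsingleton
  let i : Multiplicative (ZMod n) ≃* ↥st.toGrp.ker := zmodMulEquivOfGenerator hcyc.exists_generator.choose_spec hk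
  refine ⟨⟨_, inferInstance, hfinC, st.toGrp,
    ⟨st.toGrp_surjective, hker.le, htop.symm ▸ le_top⟩, ⟨i.symm⟩⟩, ?_⟩
  intro Γ _ _ σ ⟨hsurj, hcen, hder⟩
  set ρ : Γ →* GL D.Idx F := (D.group F).subtype.comp σ with hρ
  have hkerρ : ρ.ker = σ.ker := by ext x; simp [hρ, MonoidHom.mem_ker]
  have hl : Lifts ok ρ := ⟨hkerρ.le.trans hcen, fun r hr t => by
    obtain ⟨g, hg⟩ := hsurj ⟨_, ok.toOK.xG_mem_group r t⟩
    exact ⟨g, by rw [hρ, MonoidHom.comp_apply, hg]; rfl⟩⟩
  obtain ⟨φ, hφ⟩ := huniv Γ ρ hl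
  have hσφ : ∀ x, σ (φ x) = st.toGrp x := fun x => Subtype.ext (DFunLike.congr_fun hφ x)
  have hsplit : ∀ g : Γ, ∃ x, ∃ z ∈ Subgroup.center Γ, g = φ x * z := by
    intro g
    obtain ⟨x, hx⟩ := st.toGrp_surjective (σ g)
    exact ⟨x, (φ x)⁻¹ * g, hcen (by rw [MonoidHom.mem_ker, map_mul, map_inv, hσφ, hx, inv_mul_cancel]), by simp⟩
  have hφsurj : Function.Surjective φ := by
    have hc : commutator Γ ≤ φ.range := by
      rw [commutator_def, Subgroup.commutator_le]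
      intro a _ b _
      obtain ⟨x, z, hz, rfl⟩ := hsplit a
      obtain ⟨y, w, hw, rfl⟩ := hsplit b
      rw [Subgroup.mem_center_iff] at hz hw
      refine ⟨⁅x, y⁆, ?_⟩
      rw [map_commutatorElement]
      simp only [commutatorElement_def, mul_inv_rev]
      calc φ x * φ y * (φ x)⁻¹ * (φ y)⁻¹
          = φ x * φ y * (φ x)⁻¹ * (w * w⁻¹) * (φ y)⁻¹ := by simp
        _ = φ x * ((φ y * w) * (φ x)⁻¹) * (w⁻¹ * (φ y)⁻¹) := by
            simp only [mul_assoc]
            rw [← mul_assoc (φ x)⁻¹ w, ← mul_assoc w (φ x)⁻¹, hw]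
        _ = φ x * z * (φ y * w) * (z⁻¹ * (φ x)⁻¹) * (w⁻¹ * (φ y)⁻¹) := by
            simp only [mul_assoc]
            rw [← mul_assoc z (φ y), ← hz, mul_assoc, ← mul_assoc z w, ← hz, mul_assoc, mul_inv_cancel_left]
    intro g
    obtain ⟨x, hx⟩ := st.toGrp_surjective (σ g)
    obtain ⟨y, hy⟩ := hc (hder (show (φ x)⁻¹ * g ∈ σ.ker by
      rw [MonoidHom.mem_ker, map_mul, map_inv, hσφ, hx, inv_mul_cancel]))
    exact ⟨x * y, by rw [map_mul, hy, mul_inv_cancel_left]⟩
  have hmem : ∀ x, φ x ∈ σ.ker ↔ x ∈ st.toGrp.ker := fun x => by rw [MonoidHom.mem_ker, MonoidHom.mem_ker, hσφ]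
  refine ⟨((φ.comp st.toGrp.ker.subtype).codRestrict σ.ker fun x => (hmem _).mpr x.2).comp i.toMonoidHom, ?_⟩
  rintro ⟨g, hg⟩
  obtain ⟨x, rfl⟩ := hφsurj g
  refine ⟨i.symm ⟨x, (hmem x).mp hg⟩, Subtype.ext ?_⟩
  simp

theorem hasMultiplier_of_univ [Fintype F] (ok : OKX D T) (hdn : Tabs.chkDn D T = true) (hwit : Tabs.chkWit D T = true)
    {M : List (List (ℕ × ℤ))} (hM : Tabs.chkCow D T M = true) (hperf : T.chkPerfAll D = true)
    {C : List ((ℕ × ℕ × ℕ × ℕ × ℕ) × List (ℕ × ℕ × Option (ℕ × ℕ)))} (hu : T.chkUniv D C = true)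
    (e : D.SteinbergCover F ≃* D.SteinbergGroup F) {n : ℕ} (hn : n.Prime ∨ n = 1)
    (hcard : Nat.card ↥(Subgroup.center (D.SteinbergGroup F)) = n) :
    HasCyclicSchurMultiplier ↥(D.group F) n :=
  hasMultiplier_of_hom ok hdn hwit hM
    ((ok.presented_hyp (R := D.steinbergRelsAB F) (Set.Subset.refl _) hdn hwit ok.scHom
      fun _ hr t => ok.scHom_gen hr t).perfect (Or.inl hperf))
    (fun _ _ _ hl => hl.exists_hom hu) e hn hcard

end Cfsg.Agent.Chev
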