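import Cfsg.Agent.Lib.Chev.StMult
import Mathlib.GroupTheory.Schreier

/-! The presented group itself has trivial multiplier when the universal maps exist. -/

set_option autoImplicit false

namespace Cfsg.Agent.Chev

open Cfsg.Lie
open scoped commutatorElement

universe u

variable {F : Type u} [Field F] {D : ChevalleyDatum} {T : Tabs}

/-- A perfect group whose quotient by the centre is finite is finite. -/
theorem finite_of_perfect_central {G : Type*} [Group G] (h : commutator G = ⊤) [Finite (G ⧸ Subgroup.center G)] :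
    Finite G := by
  have : Finite (commutatorSet G) := by
    refine Set.Finite.to_subtype (Set.Finite.subset (Set.finite_range
      fun p : (G ⧸ Subgroup.center G) × (G ⧸ Subgroup.center G) => ⁅p.1.out, p.2.out⁆) ?_)
    rintro _ ⟨a, b, rfl⟩
    refine ⟨(QuotientGroup.mk a, QuotientGroup.mk b), ?_⟩
    obtain ⟨⟨z, hz⟩, ez⟩ := QuotientGroup.mk_out_eq_mul (Subgroup.center G) a
    obtain ⟨⟨w, hw⟩, ew⟩ := QuotientGroup.mk_out_eq_mul (Subgroup.center G) b
    simp only [ez, ew, commutatorElement_def, mul_inv_rev]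
    rw [Subgroup.mem_center_iff] at hz hw
    calc a * z * (b * w) * (z⁻¹ * a⁻¹) * (w⁻¹ * b⁻¹)
        = a * ((b * w) * z) * (z⁻¹ * a⁻¹) * (w⁻¹ * b⁻¹) := by rw [hz (b * w)]; simp only [mul_assoc]
      _ = a * b * (a⁻¹ * w) * (w⁻¹ * b⁻¹) := by rw [hw a⁻¹]; simp [mul_assoc]
      _ = a * b * a⁻¹ * b⁻¹ := by simp [mul_assoc]
  have hc : Finite (commutator G) := inferInstance
  rw [h] at hc
  exact Finite.of_equiv _ (Subgroup.topEquiv (G := G)).toEquiv

theorem hasMultiplier_steinberg [Fintype F] (ok : OKX D T) (hdn : Tabs.chkDn D T = true)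
    (hwit : Tabs.chkWit D T = true) {M : List (List (ℕ × ℤ))} (hM : Tabs.chkCow D T M = true)
    (htop : commutator (D.SteinbergCover F) = ⊤) (e : D.SteinbergCover F ≃* D.SteinbergGroup F)
    (huniv : ∀ (Γ : Type u) [Group Γ] (ρ : Γ →* GL D.Idx F), Lifts ok ρ →
      ∃ φ : D.SteinbergCover F →* Γ, ρ.comp φ = ok.scHom) :
    HasCyclicSchurMultiplier (D.SteinbergGroup F) 1 := by
  have st := ok.presented_hyp (R := D.steinbergRelsAB F) (Set.Subset.refl _) hdn hwit ok.scHom
    fun r hr t => ok.scHom_gen hr t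
  have hker : st.toGrp.ker = Subgroup.center (D.SteinbergCover F) := by rw [st.ker_toGrp, st.ker_eq_center hM]
  have hscker : ok.scHom.ker = Subgroup.center (D.SteinbergCover F) := st.ker_eq_center hM
  have : Finite (D.SteinbergCover F ⧸ Subgroup.center (D.SteinbergCover F)) := hker ▸ Finite.of_equiv _
    (QuotientGroup.quotientKerEquivOfSurjective st.toGrp st.toGrp_surjective).symm.toEquiv
  have hfinC : Finite (D.SteinbergCover F) := finite_of_perfect_central htop
  have hfinS : Finite (D.SteinbergGroup F) := Finite.of_equiv _ e.toEquiv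
  have hsub : Subsingleton (Multiplicative (ZMod 1)) :=
    ⟨fun a b => Multiplicative.toAdd.injective (Subsingleton.elim (α := ZMod 1) _ _)⟩
  refine ⟨⟨_, inferInstance, hfinS, MonoidHom.id _, ⟨Function.surjective_id, ?_, ?_⟩, ?_⟩, fun Γ _ _ σ hσ => ?_⟩
  · rw [MonoidHom.ker_id]; exact bot_le
  · rw [MonoidHom.ker_id]; exact bot_le
  · rw [MonoidHom.ker_id]
    exact ⟨⟨⟨fun _ => 1, fun _ => 1, fun x => Subsingleton.elim _ _, fun x => Subsingleton.elim _ _⟩,
      fun _ _ => Subsingleton.elim _ _⟩⟩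
  obtain ⟨hsurj, hcen, hder⟩ := hσ
  let θ : D.SteinbergGroup F →* GL D.Idx F := ok.scHom.comp e.symm.toMonoidHom
  set ρ : Γ →* GL D.Idx F := θ.comp σ with hρ
  have hθker : ∀ x, θ x = 1 → x ∈ Subgroup.center (D.SteinbergGroup F) := by
    intro x hx
    have : e.symm x ∈ Subgroup.center (D.SteinbergCover F) := hscker ▸ hx
    rw [Subgroup.mem_center_iff] at this ⊢
    intro g
    simpa using congrArg e (this (e.symm g))
  -- the extension is perfect
  have htopS : commutator (D.SteinbergGroup F) = ⊤ := by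
    rw [commutator_def, ← Subgroup.map_top_of_surjective e.toMonoidHom e.surjective, ← Subgroup.map_commutator,
      ← commutator_def, htop]
  have hperf : commutator Γ = ⊤ := by
    refine eq_top_iff.mpr fun g _ => ?_
    have hg : σ g ∈ (commutator Γ).map σ := by
      rw [commutator_def, Subgroup.map_commutator, Subgroup.map_top_of_surjective σ hsurj, ← commutator_def, htopS]
      trivial
    obtain ⟨c, hc, ec⟩ := hg
    have : c⁻¹ * g ∈ commutator Γ := hder (by rw [MonoidHom.mem_ker, map_mul, map_inv, ec, inv_mul_cancel])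
    simpa using mul_mem hc this
  have hcenρ : ρ.ker ≤ Subgroup.center Γ := by
    intro g hg
    have hgz := hθker _ hg
    have hz : ∀ x, ⁅x, g⁆ ∈ Subgroup.center Γ := fun x => hcen (by
      rw [MonoidHom.mem_ker, map_commutatorElement, commutatorElement_eq_one_iff_mul_comm]
      exact Subgroup.mem_center_iff.mp hgz _)
    let χ : Γ →* Subgroup.center Γ := MonoidHom.mk' (fun x => ⟨⁅x, g⁆, hz x⟩) fun x y => Subtype.ext (by
      show ⁅x * y, g⁆ = ⁅x, g⁆ * ⁅y, g⁆
      rw [show ⁅x * y, g⁆ = x * ⁅y, g⁆ * x⁻¹ * ⁅x, g⁆ by simp [commutatorElement_def, mul_assoc],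
        Subgroup.mem_center_iff.mp (hz y) x, mul_inv_cancel_right]
      exact (Subgroup.mem_center_iff.mp (hz y) _).symm)
    have hχ : commutator Γ ≤ χ.ker := by
      rw [commutator_def, Subgroup.commutator_le]
      intro a _ b _
      rw [MonoidHom.mem_ker, map_commutatorElement, commutatorElement_eq_one_iff_mul_comm]
      exact Subtype.ext ((Subgroup.mem_center_iff.mp (χ a).2 _).symm)
    rw [hperf] at hχ
    rw [Subgroup.mem_center_iff]
    intro x
    exact commutatorElement_eq_one_iff_mul_comm.mp (congrArg Subtype.val (MonoidHom.mem_ker.mp (hχ (Subgroup.mem_top x))))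
  have hl : Lifts ok ρ := ⟨hcenρ, fun r hr t => by
    obtain ⟨g, hg⟩ := hsurj (e (D.scGen F r t))
    exact ⟨g, by rw [hρ, MonoidHom.comp_apply, hg]; simp [θ, ok.scHom_gen hr t]⟩⟩
  obtain ⟨φ, hφ⟩ := huniv Γ ρ hl
  have hθσ : ∀ x, θ (σ (φ x)) = θ (e x) := fun x => by
    have := DFunLike.congr_fun hφ x
    simpa [hρ, θ] using this
  -- two maps to the presented group with the same image agree on commutators
  have hagree : ∀ x, σ (φ x) = e x := by
    intro x
    have hd : ∀ a, ∃ z ∈ Subgroup.center (D.SteinbergGroup F), σ (φ a) = e a * z := fun a =>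
      ⟨(e a)⁻¹ * σ (φ a), hθker _ (by rw [map_mul, map_inv, hθσ, inv_mul_cancel]), by simp⟩
    let E : Subgroup (D.SteinbergCover F) := MonoidHom.eqLocus (σ.comp φ) e.toMonoidHom
    suffices commutator (D.SteinbergCover F) ≤ E by
      rw [htop] at this
      exact this (Subgroup.mem_top x)
    rw [commutator_def, Subgroup.commutator_le]
    intro a _ b _
    show σ (φ ⁅a, b⁆) = e ⁅a, b⁆
    obtain ⟨z, hz, ea⟩ := hd a
    obtain ⟨w, hw, eb⟩ := hd b
    rw [Subgroup.mem_center_iff] at hz hw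
    rw [map_commutatorElement, map_commutatorElement, map_commutatorElement, ea, eb]
    simp only [commutatorElement_def, mul_inv_rev]
    calc e a * z * (e b * w) * (z⁻¹ * (e a)⁻¹) * (w⁻¹ * (e b)⁻¹)
        = e a * ((e b * w) * z) * (z⁻¹ * (e a)⁻¹) * (w⁻¹ * (e b)⁻¹) := by rw [hz (e b * w)]; simp only [mul_assoc]
      _ = e a * e b * ((e a)⁻¹ * w) * (w⁻¹ * (e b)⁻¹) := by rw [hw (e a)⁻¹]; simp [mul_assoc]
      _ = e a * e b * (e a)⁻¹ * (e b)⁻¹ := by simp [mul_assoc]
  have hφsurj : ∀ g : Γ, g ∈ φ.range := by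
    have hsplit : ∀ g : Γ, ∃ x, ∃ z ∈ Subgroup.center Γ, g = φ x * z := fun g =>
      ⟨e.symm (σ g), (φ (e.symm (σ g)))⁻¹ * g, hcen (by
        rw [MonoidHom.mem_ker, map_mul, map_inv, hagree, MulEquiv.apply_symm_apply, inv_mul_cancel]), by simp⟩
    suffices commutator Γ ≤ φ.range by rw [hperf] at this; exact fun g => this (Subgroup.mem_top g)
    rw [commutator_def, Subgroup.commutator_le]
    intro a _ b _
    obtain ⟨x, z, hz, rfl⟩ := hsplit a
    obtain ⟨y, w, hw, rfl⟩ := hsplit b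
    rw [Subgroup.mem_center_iff] at hz hw
    refine ⟨⁅x, y⁆, ?_⟩
    rw [map_commutatorElement]
    simp only [commutatorElement_def, mul_inv_rev]
    symm
    calc φ x * z * (φ y * w) * (z⁻¹ * (φ x)⁻¹) * (w⁻¹ * (φ y)⁻¹)
        = φ x * ((φ y * w) * z) * (z⁻¹ * (φ x)⁻¹) * (w⁻¹ * (φ y)⁻¹) := by rw [hz (φ y * w)]; simp only [mul_assoc]
      _ = φ x * φ y * ((φ x)⁻¹ * w) * (w⁻¹ * (φ y)⁻¹) := by rw [hw (φ x)⁻¹]; simp [mul_assoc]
      _ = φ x * φ y * (φ x)⁻¹ * (φ y)⁻¹ := by simp [mul_assoc]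
  refine ⟨1, fun g => ⟨1, Subtype.ext ?_⟩⟩
  obtain ⟨x, hx⟩ := hφsurj g
  have h1 : σ (φ x) = 1 := hx ▸ MonoidHom.mem_ker.mp g.2
  rw [hagree, map_eq_one_iff e e.injective] at h1
  rw [map_one, ← hx, h1, map_one]
  rfl

end Cfsg.Agent.Chev
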