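import Cfsg.Agent.Lib.Chev.StUnivTor
import Cfsg.Agent.Lib.Chev.AllX

/-! Certificates for universality of the presented groups of the types G2 and F4. -/

set_option autoImplicit false
set_option maxRecDepth 100000

namespace Cfsg.Agent.Chev

open Cfsg.Lie

/-- Cocharacters for the type G2. -/
def G2.univV : List (List ℤ) :=
  [[-1, -2], [-1, -1], [-2, -3], [0, -1], [-1, -3]]

/-- Words carrying the pairs of the type G2 to positive roots. -/
def G2.univW : List (List ℕ) :=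
  [[],
    [0, 1, 0, 1, 0],
    [1, 0, 1],
    [1, 0],
    [1, 0, 1, 0, 1],
    [1],
    [0, 1, 0],
    [0],
    [0, 1],
    [1, 0, 1, 0],
    [0, 1, 0, 1],
    [1, 0, 1, 0, 1, 0]]

theorem G2.w1_ok : Tabs.chkW1 chevG2 G2.T G2.univV = true := by decide +kernel

theorem G2.posPairs_ok : Tabs.chkPosPairs chevG2 G2.T G2.univV 3 false = true := by decide +kernel

theorem G2.words_ok : Tabs.chkWords chevG2 G2.T G2.univW = true := by decide +kernel

/-- Cocharacters for the type F4. -/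
def F4.univV : List (List ℤ) :=
  [[-1, -2, -2, -1], [-1, -1, -1, 0], [-1, -1, -1, -1], [-1, -1, -2, -1], [0, -1, -1, 0], [-1, -2, -2, -2], [0, 0, -1, -1], [-1, -1, -2, 0], [0, -1, 0, 2], [0, -1, -2, -1]]

/-- Words carrying the pairs of the type F4 to positive roots. -/
def F4.univW : List (List ℕ) :=
  [[],
    [2, 1, 2, 0, 1, 2, 3, 2, 1, 2, 0, 1, 2, 3, 2, 1, 2, 0, 1, 2, 0, 1, 0],
    [3, 2, 0, 1, 2, 3, 2, 1, 2, 0, 1, 0],
    [1, 2, 3, 2, 1, 2, 0, 1, 2, 3, 0, 1, 2],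
    [0, 1, 2, 3, 1, 2, 0, 1, 2, 1, 0],
    [1, 2, 3, 2, 1, 2, 0, 1, 2, 3, 2, 1],
    [0, 1, 2, 3, 1, 2, 0, 1, 2, 3, 2, 0],
    [1, 2, 3, 2, 1, 2, 0, 1, 2, 1],
    [3, 2, 1, 2, 3, 1, 2, 1, 0],
    [2, 0, 1, 2, 3, 2, 1, 2, 0, 1, 2, 3, 0, 1, 2, 0, 1],
    [2, 1, 2, 3, 2, 1, 2],
    [2, 3, 1, 2, 0, 1, 2, 3, 2, 0, 1, 2, 1, 0],
    [1, 2, 3, 1, 2, 0, 1, 2, 3, 0, 1]]

theorem F4.w1_ok : Tabs.chkW1 chevF4 F4.T F4.univV = true := by decide +kernel

theorem F4.posPairs_ok : Tabs.chkPosPairs chevF4 F4.T F4.univV 2 true = true := by decide +kernel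

theorem F4.words_ok : Tabs.chkWords chevF4 F4.T F4.univW = true := by decide +kernel

theorem F4.self_ok : Tabs.chkSelf chevF4 F4.T = true := by decide +kernel

end Cfsg.Agent.Chev
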