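import Cfsg.Agent.Lib.Chev.StMult
import Cfsg.Agent.Lib.Chev.StUnivTorData

/-! The universal maps for data certified through the torus. -/

set_option autoImplicit false

namespace Cfsg.Agent.Chev

open Cfsg.Lie

variable {F : Type*} [Field F] {D : ChevalleyDatum} {T : Tabs} {ok : OKX D T} {Γ : Type*} [Group Γ]
  {ρ : Γ →* GL D.Idx F}

/-- An element of multiplicative order larger than `m`. -/
theorem exists_pow_ne_one [Fintype F] {m : ℕ} (hm : m + 1 < Fintype.card F) :
    ∃ x : F, x ≠ 0 ∧ ∀ d : ℤ, d ≠ 0 → d.natAbs ≤ m → x ^ d ≠ 1 := by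
  classical
  obtain ⟨g, hg⟩ := IsCyclic.exists_ofOrder_eq_natCard (α := Fˣ)
  rw [Nat.card_eq_fintype_card, Fintype.card_units] at hg
  refine ⟨g, g.ne_zero, fun d hd hdm h => ?_⟩
  rw [← Units.val_zpow_eq_zpow_val, Units.val_eq_one, ← orderOf_dvd_iff_zpow_eq_one, hg, Int.natCast_dvd] at h
  have := Nat.le_of_dvd (by omega) h
  omega

theorem exists_hom_of_tor [Fintype F] {S : Type*} [Group S] {y : ℕ → F → S} {θ : S →* GL D.Idx F}
    (st : StHyp ok y θ) (hl : Lifts ok ρ) {V : List (List ℤ)} (hV : T.chkW1 D V = true) {m : ℕ} {fac : Bool}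
    (hP : T.chkPosPairs D V m fac = true) {W : List (List ℕ)} (hW : T.chkWords D W = true)
    (hF : 2 < Fintype.card F) (hm : m + 1 < Fintype.card F ∨ (fac = true ∧ (2 : F) ≠ 0))
    (hself : ∀ r < D.nroots, Lifts.Com ρ ok r r) : ∃ φ : D.SteinbergCover F →* Γ, ρ.comp φ = ok.scHom := by
  obtain ⟨a, ha0, ha⟩ := exists_pow_ne_one (F := F) (m := 1) (by omega)
  have ha1 : a ≠ 1 := by simpa using ha 1 one_ne_zero le_rfl
  obtain ⟨Y, tl⟩ := hl.exists_torLifts hV ha0 ha1 hself
  refine hl.exists_hom_tor tl hW (tl.exists_wlift ha0 ha1 hV)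
    (tl.pos_rel st (fun r hr H b hH => tl.conj_tor ha0 ha1 hV hr hH) ?_)
  intro k s hk hks hs
  simp only [Tabs.chkPosPairs, allR_iff, orR_iff, nlt_iff, notR_iff, nlt_false_iff, anyL_iff, andR_iff, ieq_iff,
    Nat.beq_eq, Nat.add_eq] at hP
  rcases hP k (by omega) with h | h
  · omega
  rcases h s hs with h | ⟨v, -, h0, hne, hle, hfac⟩
  · omega
  have hne' : T.dotA D v s ≠ 0 := fun e => by rw [ieq_iff.mpr e] at hne; exact absurd hne (by simp)
  have tor : ∀ x : F, x ≠ 0 → x ^ T.dotA D v s ≠ 1 →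
      ∃ (H : Γ) (bs : F), (∀ r < D.nroots, ∃ b, Lifts.TorWt ρ ok H r b) ∧ Lifts.TorWt ρ ok H k 1 ∧
        Lifts.TorWt ρ ok H s bs ∧ bs ≠ 1 := by
    intro x hx0 hx
    obtain ⟨H, hH⟩ := hl.exists_torWt v hx0
    refine ⟨H, _, fun r hr => ⟨_, hH r hr⟩, ?_, hH s hs, hx⟩
    have := hH k (by omega)
    rwa [h0, zpow_zero] at this
  rcases hm with hm | ⟨rfl, h2⟩
  · obtain ⟨x, hx0, hx⟩ := exists_pow_ne_one hm
    exact Or.inl (tor x hx0 (hx _ hne' (by omega)))
  simp only [Bool.true_eq_false, false_or] at hfac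
  rcases hfac with e | e
  · exact Or.inl (tor a ha0 (ha _ hne' e.le))
  · refine Or.inr ⟨hl.com_fac (by omega) e fun _ => h2, ?_⟩
    simp only [Tabs.uFac, andR_iff] at e
    exact e.1

theorem exists_unit_quadratic [Fintype F] (hF : 5 ≤ Fintype.card F) :
    ∃ b : F, b ≠ 0 ∧ b ≠ 1 ∧ b * b - b + 1 ≠ 0 := by
  classical
  by_contra hc
  push Not at hc
  have h3 : 3 ≤ ((Finset.univ.erase (0 : F)).erase 1).card := by
    rw [Finset.card_erase_of_mem (by simp), Finset.card_erase_of_mem (Finset.mem_univ _), Finset.card_univ]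
    omega
  obtain ⟨s, hs, hs3⟩ := Finset.exists_subset_card_eq h3
  obtain ⟨x, y, z, hxy, hxz, hyz, rfl⟩ := Finset.card_eq_three.mp hs3
  have hr : ∀ w ∈ ({x, y, z} : Finset F), w * w - w + 1 = 0 := by
    intro w hw
    have := hs hw
    simp only [Finset.mem_erase] at this
    exact hc w this.2.1 this.1
  have e : ∀ p q : F, p ≠ q → p * p - p + 1 = 0 → q * q - q + 1 = 0 → p + q = 1 := by
    intro p q hpq hp hq
    have : (p - q) * (p + q - 1) = 0 := by linear_combination hp - hq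
    rcases mul_eq_zero.mp this with h | h
    · exact absurd (sub_eq_zero.mp h) hpq
    · linear_combination h
  have e1 := e x y hxy (hr x (by simp)) (hr y (by simp))
  have e2 := e x z hxz (hr x (by simp)) (hr z (by simp))
  exact hyz (by linear_combination e1 - e2)

theorem univ_F4 [Fintype F] (hF : 3 ≤ Fintype.card F) {S : Type*} [Group S] {y : ℕ → F → S}
    {θ : S →* GL chevF4.Idx F} (st : StHyp F4.okx y θ) (Γ : Type*) [Group Γ] (ρ : Γ →* GL chevF4.Idx F)
    (hl : Lifts F4.okx ρ) : ∃ φ : chevF4.SteinbergCover F →* Γ, ρ.comp φ = F4.okx.scHom := by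
  refine exists_hom_of_tor st hl F4.w1_ok F4.posPairs_ok F4.words_ok (by omega) ?_ ?_
  · by_cases h : Fintype.card F = 3
    · refine Or.inr ⟨rfl, fun h2 => ?_⟩
      obtain ⟨p, hp⟩ := CharP.exists F
      obtain ⟨n, hprime, hn⟩ := FiniteField.card F p
      rw [h] at hn
      have hp3 : p = 3 := ((Nat.prime_dvd_prime_iff_eq hprime (by norm_num)).mp
        (hn ▸ dvd_pow_self p (PNat.ne_zero n)))
      have h2' : ((2 : ℕ) : F) = 0 := by exact_mod_cast h2
      have := (CharP.cast_eq_zero_iff F p 2).mp h2'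
      rw [hp3] at this
      omega
    · exact Or.inl (by omega)
  · intro r hr
    have h := F4.self_ok
    simp only [Tabs.chkSelf, allR_iff] at h
    exact hl.com_fac hr (h r hr) (by simp)

theorem univ_G2 [Fintype F] (hF : 5 ≤ Fintype.card F) {S : Type*} [Group S] {y : ℕ → F → S}
    {θ : S →* GL chevG2.Idx F} (st : StHyp G2.okx y θ) (Γ : Type*) [Group Γ] (ρ : Γ →* GL chevG2.Idx F)
    (hl : Lifts G2.okx ρ) : ∃ φ : chevG2.SteinbergCover F →* Γ, ρ.comp φ = G2.okx.scHom := by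
  obtain ⟨b, hb0, hb1, hb⟩ := exists_unit_quadratic hF
  exact exists_hom_of_tor st hl G2.w1_ok G2.posPairs_ok G2.words_ok (by omega) (Or.inl (by omega))
    fun r hr => hl.com_self G2.w1_ok hb0 hb1 hb hr

end Cfsg.Agent.Chev
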