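import Cfsg.Agent.Lib.Chev.StTor

/-!
A diagram inside a larger one: the relations pass to the larger group, so the torus of the presented group is
at least as large as the one seen there.
-/

set_option autoImplicit false

namespace Cfsg.Agent.Chev

open Cfsg.Lie OK

/-- The roots `e` of the second datum carry the relations of the first one. -/
noncomputable def Tabs.chkSub (D D' : ChevalleyDatum) (T T' : Tabs) (e : Tr ℕ) : Bool :=
  andR (allR D.nroots fun r => andR (nlt (e.get 0 r) D'.nroots) <|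
    andR (Nat.beq (e.get 0 (T.neg r)) (T'.neg (e.get 0 r))) <|
    allR D.nroots fun s => andR (orR (Nat.beq r s) (notR (Nat.beq (e.get 0 r) (e.get 0 s)))) <|
      eqL eqQ (T'.terms (e.get 0 r) (e.get 0 s)) (mapR (fun q => (e.get 0 q.1, q.2)) (T.terms r s))) <|
  andR (Nat.ble D.rank D'.rank) (allR D.rank fun i => Nat.beq (e.get 0 (T.smp i)) (T'.smp i))

variable {F : Type*} [Field F] {D D' : ChevalleyDatum} {T T' : Tabs}

theorem rels_sub (ok : OKX D T) (ok' : OKX D' T') {e : Tr ℕ} (he : Tabs.chkSub D D' T T' e = true)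
    {g : FreeGroup (Fin D.nroots × F)} (hg : g ∈ D.steinbergRels F) :
    FreeGroup.lift (fun p => ok'.toOK.xG (e.get 0 (p.1 : ℕ)) p.2) g = 1 := by
  simp only [Tabs.chkSub, andR_iff, allR_iff, nlt_iff, Nat.beq_eq, orR_iff, notR_iff, nbeq_false_iff, mapR_eq] at he
  obtain ⟨hr', -, -⟩ := he
  set L := FreeGroup.lift (fun p : Fin D.nroots × F => ok'.toOK.xG (e.get 0 (p.1 : ℕ)) p.2)
  have hX : ∀ (r : ℕ) (t : F), r < D.nroots → L (D.stX r t) = ok'.toOK.xG (e.get 0 r) t := by
    intro r t hr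
    rw [ChevalleyDatum.stX, dif_pos hr, FreeGroup.lift_apply_of]
  rcases hg with (⟨r, a, b, hr, rfl⟩ | ⟨r, s, a, b, hr, hs, h1, h2, rfl⟩) | ⟨r, a, b, hr, ha, hb, rfl⟩
  · rw [map_mul, map_mul, map_inv, hX _ _ hr, hX _ _ hr, hX _ _ hr, ok'.toOK.xG_mul, mul_inv_cancel]
  · obtain ⟨her, hen, hrs⟩ := hr' r hr
    obtain ⟨hes, -, -⟩ := hr' s hs
    rw [ok.toOK.neg_eq hr] at h2
    have g1 : e.get 0 s ≠ e.get 0 r := by
      rcases (hrs s hs).1 with h | h
      · exact absurd h.symm h1
      · exact fun h' => h h'.symm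
    have g2 : e.get 0 s ≠ T'.neg (e.get 0 r) := by
      rw [← hen]
      rcases ((hr' s hs).2.2 _ (ok.toOK.neg_lt hr)).1 with h | h
      · exact absurd h h2
      · exact h
    have hW : L (D.stWord (D.commWord F r s a b)) =
        ok'.toOK.wordG (D'.commWord F (e.get 0 r) (e.get 0 s) a b) := by
      rw [ChevalleyDatum.stWord, map_list_prod, OK.wordG, ChevalleyDatum.commWord, ChevalleyDatum.commWord,
        ok.toOK.terms_eq hr hs, ok'.toOK.terms_eq her hes, eq_of_eqL eq_of_eqQ (hrs s hs).2, List.map_map,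
        List.map_map, List.map_map, List.map_map]
      exact congrArg List.prod (List.map_congr_left fun q hq => hX _ _ (ok.toOK.term_spec hr hs hq).1)
    have h := ok'.toOK.comm her hes g1 (by rwa [ok'.toOK.neg_eq her]) a b
    have e' : ok'.toOK.xG (e.get 0 s) b * ok'.toOK.xG (e.get 0 r) a =
        ok'.toOK.xG (e.get 0 r) a * ok'.toOK.xG (e.get 0 s) b *
          ok'.toOK.wordG (D'.commWord F (e.get 0 r) (e.get 0 s) a b) := by
      refine Units.ext ?_
      rw [Units.val_mul, Units.val_mul, Units.val_mul, OK.coe_wordG]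
      exact h
    simp only [map_mul, map_inv, hX _ _ hr, hX _ _ hs, hW]
    rw [mul_assoc (_ * _) (ok'.toOK.xG (e.get 0 s) b) (ok'.toOK.xG (e.get 0 r) a), e']
    simp [mul_assoc]
  · obtain ⟨her, hen, -⟩ := hr' r hr
    have hH : ∀ c : F, L (D.stH r c) = ok'.toOK.hG (e.get 0 r) c := by
      intro c
      simp [ChevalleyDatum.stH, ChevalleyDatum.stWord, ChevalleyDatum.hWord, ChevalleyDatum.nWord, OK.hG, OK.wordG,
        ok.toOK.neg_eq hr, ok'.toOK.neg_eq her, hX _ _ hr, hX _ _ (ok.toOK.neg_lt hr), hen, mul_assoc]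
    rw [map_mul, map_mul, map_inv, hH, hH, hH, ok'.toOK.hG_mul her ha hb, mul_inv_cancel]

/-- The order of the centre of the presented group of a diagram lying in a unimodular one. -/
theorem card_center_of_sub [Fintype F] (ok : OKX D T) (ok' : OKX D' T') {e : Tr ℕ}
    (he : Tabs.chkSub D D' T T' e = true) (hdn : Tabs.chkDn D T = true) (hwit : Tabs.chkWit D T = true)
    {M : List (List (ℕ × ℤ))} (hM : Tabs.chkCow D T M = true)
    {P P' Q Q' : Matrix (Fin D.rank) (Fin D.rank) ℤ} {d : Fin D.rank → ℕ}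
    (hP : P * P' = 1) (hQ : Q * Q' = 1) (h : P * torMat D T * Q = Matrix.diagonal fun i => (d i : ℤ))
    {A : Matrix (Fin D'.rank) (Fin D'.rank) ℤ} (hA : torMat D' T' * A = 1) :
    Nat.card ↥(Subgroup.center (D.SteinbergGroup F)) = ∏ i, Nat.gcd (d i) (Fintype.card F - 1) := by
  classical
  have st := ok.presented_hyp (R := D.steinbergRels F) Set.subset_union_left hdn hwit ok.stHom
    fun r hr t => ok.stHom_gen hr t
  have hm : st.HMul := steinberg_hmul (Set.Subset.refl _) st
  let φ : D.SteinbergGroup F →* GL D'.Idx F := PresentedGroup.toGroup fun _ hg => rels_sub ok ok' he hg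
  simp only [Tabs.chkSub, andR_iff, allR_iff, nlt_iff, Nat.beq_eq, orR_iff, notR_iff, nbeq_false_iff, Nat.ble_eq] at he
  obtain ⟨hr', hrk, hsmp⟩ := he
  -- parameters of the larger torus
  let ι : (Fin D.rank → Fˣ) →* (Fin D'.rank → Fˣ) :=
    { toFun := fun c j => if hj : (j : ℕ) < D.rank then c ⟨j, hj⟩ else 1
      map_one' := by funext j; simp
      map_mul' := fun a b => by funext j; by_cases hj : (j : ℕ) < D.rank <;> simp [hj] }
  have hφ : ∀ c, φ (st.torHom hm c) = StHyp.torMap ok' F (ι c) := by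
    suffices hh : φ.comp (st.torHom hm) = (StHyp.torMap ok' F).comp ι from DFunLike.congr_fun hh
    refine MonoidHom.pi_ext fun i a => ?_
    rw [MonoidHom.comp_apply, MonoidHom.comp_apply, st.torHom_single hm]
    have hi : ι (Pi.mulSingle i a) = Pi.mulSingle (M := fun _ => Fˣ) ⟨i, i.isLt.trans_le hrk⟩ a := by
      funext j
      show (if hj : (j : ℕ) < D.rank then (Pi.mulSingle i a : Fin D.rank → Fˣ) ⟨j, hj⟩ else 1) = _
      simp only [Pi.mulSingle_apply, Fin.ext_iff]
      have := i.isLt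
      split_ifs <;> first | rfl | omega
    rw [hi, StHyp.torG_single]
    have hp := ok.toOK.smp_lt i.isLt
    obtain ⟨her, hen, -⟩ := hr' _ hp
    have hy : ∀ r t, r < D.nroots → φ (PresentedGroup.mk _ (D.stX r t)) = ok'.toOK.xG (e.get 0 r) t := by
      intro r t hr
      rw [ChevalleyDatum.stX, dif_pos hr]
      exact PresentedGroup.toGroup.of _
    rw [show T'.smp ((⟨i, i.isLt.trans_le hrk⟩ : Fin D'.rank) : ℕ) = e.get 0 (T.smp i) from (hsmp i i.isLt).symm]
    simp [StHyp.hb, StHyp.nb, OK.hG, OK.wordG, ChevalleyDatum.hWord, ChevalleyDatum.nWord, hy _ _ hp,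
      hy _ _ (ok.toOK.neg_lt hp), hen, ok'.toOK.neg_eq her, mul_assoc]
  have hinj : Function.Injective (st.torHom hm) := by
    rw [← MonoidHom.ker_eq_bot_iff, eq_bot_iff]
    intro c hc
    have h1 : StHyp.torMap ok' F (ι c) = 1 := by rw [← hφ, MonoidHom.mem_ker.mp hc, map_one]
    have h2 : ι c = 1 := (monoMap_bijective hA).1 (by rw [ok'.toOK.torG_eq_one_iff.mp h1, map_one])
    rw [Subgroup.mem_bot]
    funext i
    have h3 := congrFun h2 ⟨i, i.isLt.trans_le hrk⟩
    simpa [ι] using h3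
  rw [← st.ker_eq_center hM, st.ker_eq_image hm, Subgroup.card_map_of_injective hinj, card_ker_monoMap hP hQ h]
  refine Finset.prod_congr rfl fun i _ => ?_
  rw [IsCyclic.card_powMonoidHom_ker, Nat.card_eq_fintype_card, Fintype.card_units, Nat.gcd_comm]

end Cfsg.Agent.Chev
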