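import Cfsg.Agent.Lib.Chev.StSub

/-! The roots of the types E6 and E7 inside those of type E8. -/

set_option autoImplicit false
set_option maxRecDepth 20000

namespace Cfsg.Agent.Chev

open Cfsg.Lie

/-- The roots of the subdiagram of type E6 among those of type E8. -/
def E6.toE8 : Tr ℕ := (.node 35 (.node 45 (.node 54 (.node 65 (.node 77 (.node 108 (.node 171 .nil .nil) .nil) (.node 142 .nil .nil)) (.node 96 (.node 130 (.node 204 .nil .nil) .nil) (.node 156 .nil .nil))) (.node 73 (.node 90 (.node 116 (.node 184 .nil .nil) .nil) (.node 148 .nil .nil)) (.node 102 (.node 136 .nil .nil) (.node 165 .nil .nil)))) (.node 61 (.node 69 (.node 86 (.node 112 (.node 175 .nil .nil) .nil) (.node 144 .nil .nil)) (.node 98 (.node 132 .nil .nil) (.node 163 .nil .nil))) (.node 75 (.node 92 (.node 126 (.node 188 .nil .nil) .nil) (.node 152 .nil .nil)) (.node 104 (.node 138 .nil .nil) (.node 169 .nil .nil))))) (.node 51 (.node 55 (.node 68 (.node 83 (.node 109 (.node 174 .nil .nil) .nil) (.node 143 .nil .nil)) (.node 97 (.node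 131 .nil .nil) (.node 162 .nil .nil))) (.node 74 (.node 91 (.node 123 (.node 185 .nil .nil) .nil) (.node 149 .nil .nil)) (.node 103 (.node 137 .nil .nil) (.node 166 .nil .nil)))) (.node 64 (.node 70 (.node 87 (.node 113 (.node 178 .nil .nil) .nil) (.node 147 .nil .nil)) (.node 101 (.node 135 .nil .nil) (.node 164 .nil .nil))) (.node 76 (.node 95 (.node 127 (.node 194 .nil .nil) .nil) (.node 153 .nil .nil)) (.node 107 (.node 141 .nil .nil) (.node 170 .nil .nil))))))

theorem E6.toE8_ok : Tabs.chkSub chevE6 chevE8 E6.T E8.T E6.toE8 = true := by decide +kernel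

/-- The roots of the subdiagram of type E7 among those of type E8. -/
def E7.toE8 : Tr ℕ := (.node 13 (.node 20 (.node 29 (.node 39 (.node 54 (.node 76 (.node 121 .nil .nil) (.node 164 .nil .nil)) (.node 98 (.node 142 .nil .nil) (.node 186 .nil .nil))) (.node 67 (.node 89 (.node 132 .nil .nil) (.node 174 .nil .nil)) (.node 108 (.node 152 .nil .nil) (.node 204 .nil .nil)))) (.node 48 (.node 61 (.node 83 (.node 127 .nil .nil) (.node 169 .nil .nil)) (.node 103 (.node 147 .nil .nil) (.node 194 .nil .nil))) (.node 72 (.node 94 (.node 137 .nil .nil) (.node 179 .nil .nil)) (.node 113 (.node 157 .nil .nil) (.node 214 .nil .nil))))) (.node 34 (.node 44 (.node 58 (.node 80 (.node 124 .nil .nil) (.node 166 .nil .nil)) (.node 101 (.node 144 .nil .nil) (.node 189 .nil .nil))) (.node 69 (.node 91 (.node 135 .nil .nil) (.node 176 .nil .nil)) (.node 111 (.node 154 .nil .nil) (.node 207 .nil .nil)))) (.node 51 (.node 64 (.node 86 (.node 130 .nil .nil) (.node 171 .nil .nil)) (.node 106 (.node 149 .nil .nil) (.node 197 .nil .nil)))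 (.node 74 (.node 96 (.node 139 .nil .nil) (.node 184 .nil .nil)) (.node 116 (.node 162 .nil .nil) (.node 226 .nil .nil)))))) (.node 25 (.node 32 (.node 42 (.node 55 (.node 77 (.node 123 .nil .nil) (.node 165 .nil .nil)) (.node 100 (.node 143 .nil .nil) (.node 188 .nil .nil))) (.node 68 (.node 90 (.node 133 .nil .nil) (.node 175 .nil .nil)) (.node 109 (.node 153 .nil .nil) (.node 205 .nil .nil)))) (.node 50 (.node 63 (.node 85 (.node 128 .nil .nil) (.node 170 .nil .nil)) (.node 104 (.node 148 .nil .nil) (.node 195 .nil .nil))) (.node 73 (.node 95 (.node 138 .nil .nil) (.node 181 .nil .nil)) (.node 115 (.node 159 .nil .nil) (.node 219 .nil .nil))))) (.node 35 (.node 45 (.node 60 (.node 82 (.node 126 .nil .nil) (.node 167 .nil .nil)) (.node 102 (.node 145 .nil .nil) (.node 191 .nil .nil))) (.node 70 (.node 92 (.node 136 .nil .nil) (.node 178 .nil .nil)) (.node 112 (.node 156 .nil .nil) (.node 210 .nil .nil)))) (.node 53 (.node 65 (.node 87 (.node 131 .nil .nil) (.node 172 .nil .nil)) (.node 107 (.node 150 .nil .nil)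 (.node 200 .nil .nil))) (.node 75 (.node 97 (.node 141 .nil .nil) (.node 185 .nil .nil)) (.node 118 (.node 163 .nil .nil) .nil))))))

theorem E7.toE8_ok : Tabs.chkSub chevE7 chevE8 E7.T E8.T E7.toE8 = true := by decide +kernel

end Cfsg.Agent.Chev
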