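import Cfsg.Agent.Lib.Chev.StUnivGen
import Cfsg.Agent.Lib.Chev.StMultTor

/-! The universal maps for the type B2 over a field of at least four elements. -/

set_option autoImplicit false
set_option maxRecDepth 100000
set_option synthInstance.maxSize 2048

namespace Cfsg.Agent.Chev

open Cfsg.Lie

namespace Tabs

variable (D : ChevalleyDatum) (T : Tabs)

/-- A cocharacter fixes the first root and moves the second with weight at most two. -/
noncomputable def twoWt (V : List (List ℤ)) (r s : ℕ) : Bool :=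
  anyL (fun v => andR (ieq (T.dotA D v r) 0)
    (orR (orR (ieq (T.dotA D v s) 1) (ieq (T.dotA D v s) (-1))) (orR (ieq (T.dotA D v s) 2) (ieq (T.dotA D v s) (-2))))) V

/-- Some cocharacter moves the root with weight at most two. -/
noncomputable def someWt (V : List (List ℤ)) (r : ℕ) : Bool :=
  anyL (fun v => orR (orR (ieq (T.dotA D v r) 1) (ieq (T.dotA D v r) (-1)))
    (orR (ieq (T.dotA D v r) 2) (ieq (T.dotA D v r) (-2)))) V

end Tabs

/-- Cocharacters for the type B2. -/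
def B2.univV : List (List ℤ) :=
  [[1, 0], [0, 1], [1, 1], [1, 2], [1, -1], [2, 1], [-1, 1], [1, -2]]

/-- The words of the Weyl group of the type B2. -/
def B2.univW : List (List ℕ) := [[], [0], [1], [0, 1], [1, 0], [0, 1, 0], [1, 0, 1], [0, 1, 0, 1]]

theorem B2.posPairs_ok : Tabs.chkPosPairs chevB2 B2.T B2.univV 2 false = true := by decide +kernel

theorem B2.words_ok : Tabs.chkWords chevB2 B2.T B2.univW = true := by decide +kernel

theorem B2.someWt_ok : ∀ r < 8, B2.T.someWt chevB2 B2.univV r = true := by decide +kernel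

theorem B2.n_eq : Tabs.half chevB2 = 4 ∧ chevB2.nroots = 8 := by decide +kernel

/-- The commuting pairs moved apart by the torus that are used below. -/
theorem B2.tor_ok : ([(0, 3), (0, 2), (0, 1), (3, 0), (3, 5), (4, 0), (4, 6), (4, 2), (7, 4), (7, 5), (7, 6), (5, 3),
    (5, 7), (7, 3), (1, 0), (1, 3), (2, 0), (2, 4), (6, 4), (6, 7), (3, 1)] : List (ℕ × ℕ)).all
    (fun e => decide ((B2.T.uCom e.1 e.2 = true ∧ B2.T.uCom e.2 e.1 = true) ∧
      (B2.T.twoWt chevB2 B2.univV e.1 e.2 || B2.T.twoWt chevB2 B2.univV e.2 e.1) = true)) = true := by decide +kernel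

variable {F : Type*} [Field F] {Γ : Type*} [Group Γ] {ρ : Γ →* GL chevB2.Idx F}

theorem univ_B2_of (hex : ∃ x : F, x ≠ 0 ∧ ∀ d : ℤ, d ≠ 0 → d.natAbs ≤ 2 → x ^ d ≠ 1) {S : Type*} [Group S]
    {y : ℕ → F → S} {θ : S →* GL chevB2.Idx F} (st : StHyp B2.okx y θ) (hl : Lifts B2.okx ρ) :
    ∃ φ : chevB2.SteinbergCover F →* Γ, ρ.comp φ = B2.okx.scHom := by
  obtain ⟨x, hx0, hx⟩ := hex
  obtain ⟨hhalf, hn⟩ := B2.n_eq
  have h8 : ∀ {r : ℕ}, r < 8 → r < chevB2.nroots := fun h => hn ▸ h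
  have hw : Lifts.HasWt ρ B2.okx := by
    intro r hr
    have h := B2.someWt_ok r (hn ▸ hr)
    simp only [Tabs.someWt, anyL_iff, orR_iff, ieq_iff] at h
    obtain ⟨v, -, h⟩ := h
    obtain ⟨H, hH⟩ := hl.exists_torWt v hx0
    exact ⟨H, _, hH r hr, hx _ (by omega) (by omega)⟩
  have com : ∀ r s, r < 8 → s < 8 → (B2.T.uCom r s = true ∧ B2.T.uCom s r = true) →
      (B2.T.twoWt chevB2 B2.univV r s || B2.T.twoWt chevB2 B2.univV s r) = true → Lifts.Com ρ B2.okx r s := by
    intro r s hr hs hu h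
    have key : ∀ a b, a < 8 → b < 8 → B2.T.twoWt chevB2 B2.univV a b = true → ∃ (H : Γ) (c : F),
        Lifts.TorWt ρ B2.okx H a 1 ∧ Lifts.TorWt ρ B2.okx H b c ∧ c ≠ 1 := by
      intro a b ha hb h
      simp only [Tabs.twoWt, anyL_iff, andR_iff, orR_iff, ieq_iff] at h
      obtain ⟨v, -, h0, h1⟩ := h
      obtain ⟨H, hH⟩ := hl.exists_torWt v hx0
      exact ⟨H, _, by simpa [h0] using hH a (h8 ha), hH b (h8 hb), hx _ (by omega) (by omega)⟩
    rw [Bool.or_eq_true] at h
    rcases h with h | h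
    · obtain ⟨H, c, ha, hb, hc⟩ := key r s hr hs h
      exact hl.com_tor (h8 hr) (h8 hs) hu.1 ha hb hc
    · obtain ⟨H, c, ha, hb, hc⟩ := key s r hs hr h
      exact Lifts.com_symm (hl.com_tor (h8 hs) (h8 hr) hu.2 ha hb hc)
  have tc : ∀ r s, (r, s) ∈ ([(0, 3), (0, 2), (0, 1), (3, 0), (3, 5), (4, 0), (4, 6), (4, 2), (7, 4), (7, 5), (7, 6),
      (5, 3), (5, 7), (7, 3), (1, 0), (1, 3), (2, 0), (2, 4), (6, 4), (6, 7), (3, 1)] : List (ℕ × ℕ)) →
      r < 8 → s < 8 → Lifts.Com ρ B2.okx r s := by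
    intro r s he hr hs
    have h := of_decide_eq_true (List.all_eq_true.mp B2.tor_ok (r, s) he)
    exact com r s hr hs h.1 h.2
  have tc' : ∀ r s, (r, s) ∈ ([(0, 3), (0, 2), (0, 1), (3, 0), (3, 5), (4, 0), (4, 6), (4, 2), (7, 4), (7, 5), (7, 6),
      (5, 3), (5, 7), (7, 3), (1, 0), (1, 3), (2, 0), (2, 4), (6, 4), (6, 7), (3, 1)] : List (ℕ × ℕ)) →
      Lifts.Com ρ B2.okx r s := fun r s he => by
    refine tc r s he ?_ ?_ <;> (fin_cases he <;> norm_num)
  have c0 : Lifts.Com ρ B2.okx 0 0 := hl.com_second (p := 3) (q := 2) (w := 1) (r := 0) (k := 2) (c := -1) (d := -1)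
    (h8 (by norm_num)) (h8 (by norm_num)) (h8 (by norm_num)) (h8 (by norm_num)) (by norm_num) (by decide)
    (Or.inl (by decide +kernel)) (Or.inr rfl) (tc' _ _ (by decide)) (tc' _ _ (by decide)) (tc' _ _ (by decide))
  have c3 : Lifts.Com ρ B2.okx 3 3 := hl.com_second (p := 0) (q := 5) (w := 1) (r := 3) (k := 2) (c := 1) (d := -1)
    (h8 (by norm_num)) (h8 (by norm_num)) (h8 (by norm_num)) (h8 (by norm_num)) (by norm_num) (by decide)
    (Or.inl (by decide +kernel)) (Or.inr rfl) (tc' _ _ (by decide)) (tc' _ _ (by decide)) (tc' _ _ (by decide))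
  have c4 : Lifts.Com ρ B2.okx 4 4 := hl.com_second (p := 0) (q := 6) (w := 2) (r := 4) (k := 2) (c := -1) (d := 1)
    (h8 (by norm_num)) (h8 (by norm_num)) (h8 (by norm_num)) (h8 (by norm_num)) (by norm_num) (by decide)
    (Or.inl (by decide +kernel)) (Or.inl rfl) (tc' _ _ (by decide)) (tc' _ _ (by decide)) (tc' _ _ (by decide))
  have c7 : Lifts.Com ρ B2.okx 7 7 := hl.com_second (p := 4) (q := 5) (w := 6) (r := 7) (k := 2) (c := 1) (d := -1)
    (h8 (by norm_num)) (h8 (by norm_num)) (h8 (by norm_num)) (h8 (by norm_num)) (by norm_num) (by decide)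
    (Or.inl (by decide +kernel)) (Or.inr rfl) (tc' _ _ (by decide)) (tc' _ _ (by decide)) (tc' _ _ (by decide))
  have c1 : Lifts.Com ρ B2.okx 1 1 := hl.com_first (p := 0) (q := 5) (r := 1) (o := 3) (l := 3) (i := 1) (j := 2)
    (c := 1) (d := -1) (c' := -2) (h8 (by norm_num)) (h8 (by norm_num)) (h8 (by norm_num)) (h8 (by norm_num))
    (h8 (by norm_num)) (by norm_num) (by decide) (by norm_num) (by decide) (by decide +kernel) (by decide +kernel)
    (Or.inl rfl) (tc' _ _ (by decide)) (tc' _ _ (by decide)) (tc' _ _ (by decide)) (tc' _ _ (by decide)) c3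
  have c2 : Lifts.Com ρ B2.okx 2 2 := hl.com_first (p := 0) (q := 6) (r := 2) (o := 4) (l := 4) (i := 1) (j := 2)
    (c := -1) (d := 1) (c' := -2) (h8 (by norm_num)) (h8 (by norm_num)) (h8 (by norm_num)) (h8 (by norm_num))
    (h8 (by norm_num)) (by norm_num) (by decide) (by norm_num) (by decide) (by decide +kernel) (by decide +kernel)
    (Or.inr rfl) (tc' _ _ (by decide)) (tc' _ _ (by decide)) (tc' _ _ (by decide)) (tc' _ _ (by decide)) c4
  have c5 : Lifts.Com ρ B2.okx 5 5 := hl.com_first (p := 3) (q := 6) (r := 5) (o := 7) (l := 7) (i := 1) (j := 2)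
    (c := 1) (d := 1) (c' := 2) (h8 (by norm_num)) (h8 (by norm_num)) (h8 (by norm_num)) (h8 (by norm_num))
    (h8 (by norm_num)) (by norm_num) (by decide) (by norm_num) (by decide) (by decide +kernel) (by decide +kernel)
    (Or.inl rfl) (tc' _ _ (by decide)) (tc' _ _ (by decide)) (tc' _ _ (by decide)) (tc' _ _ (by decide)) c7
  have c6 : Lifts.Com ρ B2.okx 6 6 := hl.com_first (p := 4) (q := 5) (r := 6) (o := 7) (l := 7) (i := 1) (j := 2)
    (c := 1) (d := -1) (c' := -2) (h8 (by norm_num)) (h8 (by norm_num)) (h8 (by norm_num)) (h8 (by norm_num))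
    (h8 (by norm_num)) (by norm_num) (by decide) (by norm_num) (by decide) (by decide +kernel) (by decide +kernel)
    (Or.inl rfl) (tc' _ _ (by decide)) (tc' _ _ (by decide)) (tc' _ _ (by decide)) (tc' _ _ (by decide)) c7
  have hself : ∀ r < chevB2.nroots, Lifts.Com ρ B2.okx r r := by
    intro r hr
    rw [hn] at hr
    interval_cases r <;> assumption
  obtain ⟨Y, tl⟩ := hl.exists_torLifts_of hw hself
  refine hl.exists_hom_tor tl B2.words_ok (tl.exists_wlift_of hw)
    (tl.pos_rel st (fun r hr H b hH => tl.conj_tor_of hw hr hH) fun k s hk hks hs => Or.inl ?_)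
  have hP := B2.posPairs_ok
  simp only [Tabs.chkPosPairs, allR_iff, orR_iff, nlt_iff, notR_iff, nlt_false_iff, anyL_iff, andR_iff, ieq_iff,
    Nat.beq_eq, Nat.add_eq] at hP
  rcases hP k (by omega) with h | h
  · omega
  rcases h s hs with h | ⟨v, -, h0, hne, hle, -⟩
  · omega
  have hne' : B2.T.dotA chevB2 v s ≠ 0 := fun e => by rw [ieq_iff.mpr e] at hne; exact absurd hne (by simp)
  obtain ⟨H, hH⟩ := hl.exists_torWt v hx0
  refine ⟨H, _, fun r hr => ⟨_, hH r hr⟩, ?_, hH s hs, hx _ hne' (by omega)⟩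
  have := hH k (by omega)
  rwa [h0, zpow_zero] at this

theorem univ_B2 [Fintype F] (hF : 4 ≤ Fintype.card F) {S : Type*} [Group S] {y : ℕ → F → S}
    {θ : S →* GL chevB2.Idx F} (st : StHyp B2.okx y θ) (hl : Lifts B2.okx ρ) :
    ∃ φ : chevB2.SteinbergCover F →* Γ, ρ.comp φ = B2.okx.scHom :=
  univ_B2_of (exists_pow_ne_one (F := F) (m := 2) (by omega)) st hl

end Cfsg.Agent.Chev
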