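import Cfsg.Agent.Lib.Chev.StUnivTor

/-!
The relations of positive lifts when the place of the conjugates of some pairs is known directly.
-/

set_option autoImplicit false

namespace Cfsg.Agent.Chev

open Cfsg.Lie
open scoped commutatorElement

variable {F : Type*} [Field F] {D : ChevalleyDatum} {T : Tabs} {ok : OKX D T} {Γ : Type*} [Group Γ]
  {ρ : Γ →* GL D.Idx F}

namespace Lifts.TorLifts

variable {hl : Lifts ok ρ} {Y : ℕ → F → Γ}

/-- The relations of the positive lifts, some pairs being given by the place of their conjugates. -/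
theorem pos_rel_ext (tl : TorLifts hl Y) {S : Type*} [Group S] {y : ℕ → F → S} {θ : S →* GL D.Idx F} (st : StHyp ok y θ)
    (htor : ∀ r < D.nroots, ∀ H b, TorWt ρ ok H r b → ∀ t : F, H * Y r t * H⁻¹ = Y r (b * t))
    (hpair : ∀ k s, Tabs.half D ≤ k → k < s → s < D.nroots →
      (∃ (H : Γ) (bs : F), (∀ r < D.nroots, ∃ b, TorWt ρ ok H r b) ∧ TorWt ρ ok H k 1 ∧ TorWt ρ ok H s bs ∧ bs ≠ 1) ∨
        (Com ρ ok k s ∧ T.uCom k s = true) ∨
        (∀ t u : F, (Y k t)⁻¹ * Y s u * Y k t ∈ posFrom D Y (k + 1))) :
    (∀ r s, Tabs.half D ≤ r → r < D.nroots → Tabs.half D ≤ s → s < D.nroots → s ≠ r → RelY D Y r s) ∧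
      ∀ g ∈ posFrom D Y (Tabs.half D), ρ g = 1 → g = 1 := by
  suffices key : ∀ m k : ℕ, k + m = D.nroots → Tabs.half D ≤ k →
      (∀ r s, k ≤ r → r < D.nroots → k ≤ s → s < D.nroots → s ≠ r → RelY D Y r s) ∧
      (∀ g ∈ posFrom D Y k, ρ g = 1 → g = 1) by
    have := ok.two_half
    obtain ⟨h1, h2⟩ := key (Tabs.half D) (Tabs.half D) (by omega) le_rfl
    exact ⟨fun r s a b c d => h1 r s a b c d, h2⟩
  intro m
  induction m with
  | zero =>
    intro k hk _
    refine ⟨fun r s h1 h2 => by omega, fun g hg _ => ?_⟩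
    have hbot : posFrom D Y k = ⊥ := by
      refine eq_bot_iff.mpr ((Subgroup.closure_le _).mpr ?_)
      rintro _ ⟨j, t, h1, -, h3, -⟩
      omega
    rwa [hbot, Subgroup.mem_bot] at hg
  | succ m ih =>
    intro k hk hhalf
    obtain ⟨hrel, hinj⟩ := ih (k + 1) (by omega) (by omega)
    have hkn : k < D.nroots := by omega
    set N := posFrom D Y (k + 1) with hN
    have hup : ∀ r s, k ≤ r → r < D.nroots → k ≤ s → s < D.nroots → ∀ q ∈ T.terms r s,
        k + 1 ≤ q.1 ∧ Tabs.half D ≤ q.1 := by
      intro r s a b c d q hq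
      have := ok.sidx_terms st.dn (b := true) ⟨b, by simp [sidx]; omega⟩ ⟨d, by simp [sidx]; omega⟩ hq
      simp only [sidx, if_true] at this
      omega
    have hneg : ∀ r s, k ≤ r → r < D.nroots → k ≤ s → s < D.nroots → s ≠ T.neg r := by
      intro r s a b c d
      exact ok.sgn_neg_ne (b := true) ⟨b, by simp [sidx]; omega⟩ ⟨d, by simp [sidx]; omega⟩
    have hconj : ∀ (t : F) (s : ℕ) (u : F), k < s → s < D.nroots → (Y k t)⁻¹ * Y s u * Y k t ∈ N := by
      intro t s u hks hs
      have himg : ∀ u, ρ ((Y k t)⁻¹ * Y s u * Y k t) =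
          ρ (Y s u * ((D.commWord F k s t u).map fun p => Y p.1 p.2).prod) := by
        intro u
        rw [mul_assoc, map_mul (ρ) (Y k t)⁻¹, tl.word_img hkn hs (by omega) (hneg k s le_rfl hkn (by omega) hs) t u,
          ← map_mul]
        simp [mul_assoc]
      have hX : ∀ u, Y s u * ((D.commWord F k s t u).map fun p => Y p.1 p.2).prod ∈ N := fun u =>
        mul_mem (y_mem_pos (by omega) (by omega) hs u)
          (word_mem ok hkn hs (hup k s le_rfl hkn (by omega) hs) t u)
      rcases hpair k s hhalf hks hs with ⟨H, bs, hall, hHk, hHs, hbs⟩ | ⟨hcom, -⟩ | hdir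
      · have hb : bs - 1 ≠ 0 := sub_ne_zero.mpr hbs
        obtain ⟨u, rfl⟩ : ∃ u', u = (bs - 1) * u' := ⟨u / (bs - 1), by field_simp⟩
        rw [← tl.comm s hs H (Y s u) bs u hHs (tl.img s hs u)]
        have hfix : (Y k t)⁻¹ * H * Y k t = H := by
          have h := htor k hkn H 1 hHk t
          rw [one_mul, mul_inv_eq_iff_eq_mul] at h
          rw [mul_assoc, h, inv_mul_cancel_left]
        rw [show (Y k t)⁻¹ * ⁅H, Y s u⁆ * Y k t = (Y k t)⁻¹ * ⁅H, Y s u⁆ * ((Y k t)⁻¹)⁻¹ by rw [inv_inv], conj_comm,
          inv_inv, hfix, hl.congr_comm rfl (himg u)]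
        have hnorm : ∀ g ∈ N, H * g * H⁻¹ ∈ N := by
          intro g hg
          induction hg using Subgroup.closure_induction with
          | mem z hz =>
            obtain ⟨j, v, h1, h2, h3, rfl⟩ := hz
            obtain ⟨b, hb⟩ := hall j h3
            rw [htor j h3 H b hb]
            exact y_mem_pos h1 h2 h3 _
          | one => simp
          | mul a b _ _ ha hb => rw [← conj_mul]; exact mul_mem ha hb
          | inv a _ ha => rw [← conj_inv]; exact inv_mem ha
        rw [commutatorElement_def]
        exact mul_mem (hnorm _ (hX u)) (inv_mem (hX u))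
      · rw [mul_assoc, ← hcom _ _ t u (tl.img k hkn t) (tl.img s hs u), inv_mul_cancel_left]
        exact y_mem_pos (by omega) (by omega) hs u
      · exact hdir t u
    have hkN : ∀ t, ∀ g ∈ N, (Y k t)⁻¹ * g * Y k t ∈ N := by
      intro t g hg
      induction hg using Subgroup.closure_induction with
      | mem z hz =>
        obtain ⟨j, v, h1, h2, h3, rfl⟩ := hz
        exact hconj t j v (by omega) h3
      | one => simp
      | mul a b _ _ ha hb =>
        have := mul_mem ha hb
        simpa [mul_assoc] using this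
      | inv a _ ha =>
        have := inv_mem ha
        simpa [mul_assoc] using this
    have hrelk : ∀ s, k < s → s < D.nroots → ∀ t u : F,
        (Y k t)⁻¹ * Y s u * Y k t = Y s u * ((D.commWord F k s t u).map fun p => Y p.1 p.2).prod := by
      intro s hks hs t u
      refine mul_inv_eq_one.mp (hinj _ (mul_mem (hconj t s u hks hs) (inv_mem
        (mul_mem (y_mem_pos (by omega) (by omega) hs u) (word_mem ok hkn hs (hup k s le_rfl hkn (by omega) hs) t u)))) ?_)
      rw [map_mul, map_inv, mul_assoc ((Y k t)⁻¹), map_mul (ρ) (Y k t)⁻¹,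
        tl.word_img hkn hs (by omega) (hneg k s le_rfl hkn (by omega) hs) t u, ← map_mul]
      simp [mul_assoc]
    refine ⟨fun r s a b c d hne => ?_, fun g hg hg1 => ?_⟩
    · rcases eq_or_lt_of_le a with e | e
      · subst e
        intro t u
        have := hrelk s (by omega) d t u
        rw [mul_assoc, inv_mul_eq_iff_eq_mul, ← mul_assoc] at this
        exact this
      rcases eq_or_lt_of_le c with e' | e'
      · subst e'
        intro t u
        -- both sides of the inverted relation lie in the subgroup after `k`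
        have h1 : Y r t * Y k u = Y k u * ((Y k u)⁻¹ * Y r t * Y k u) := by simp [mul_assoc]
        rw [h1, mul_assoc (Y k u)]
        set g := (Y k u)⁻¹ * Y r t * Y k u with hgdef
        have hgN : g ∈ N := hconj u r t (by omega) b
        have hP := word_mem (Y := Y) ok b hkn (hup r k a b le_rfl hkn) t u
        have hkey : Y r t = g * ((D.commWord F r k t u).map fun p => Y p.1 p.2).prod := by
          refine mul_inv_eq_one.mp (hinj _ (mul_mem (y_mem_pos (by omega) (by omega) b t)
            (inv_mem (mul_mem hgN hP))) ?_)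
          rw [map_mul, map_inv, mul_inv_eq_one, hgdef, mul_assoc, mul_assoc, map_mul (ρ) (Y k u)⁻¹, eq_comm, map_inv,
            inv_mul_eq_iff_eq_mul, ← map_mul, ← mul_assoc (Y r t)]
          exact (tl.word_img b hkn (by omega) (hneg r k a b le_rfl hkn) t u).symm
        rw [← hkey]
      exact hrel r s (by omega) b (by omega) d hne
    · have hsplit : ∀ g ∈ posFrom D Y k, ∃ t : F, ∃ g' ∈ N, g = Y k t * g' := by
        intro g hg
        induction hg using Subgroup.closure_induction_left with
        | one => exact ⟨0, 1, one_mem _, by rw [tl.zero hkn, one_mul]⟩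
        | mul_left x hx g hg ih =>
          obtain ⟨j, v, h1, h2, h3, rfl⟩ := hx
          obtain ⟨u, g', hg', rfl⟩ := ih
          rcases eq_or_lt_of_le h1 with e | e
          · subst e
            exact ⟨v + u, g', hg', by rw [← mul_assoc, tl.add k hkn]⟩
          · refine ⟨u, (Y k u)⁻¹ * Y j v * Y k u * g', mul_mem (hkN u _ (y_mem_pos (by omega) h2 h3 v)) hg', ?_⟩
            simp [mul_assoc]
        | inv_mul_cancel x hx g hg ih =>
          obtain ⟨j, v, h1, h2, h3, rfl⟩ := hx
          obtain ⟨u, g', hg', rfl⟩ := ih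
          rw [tl.inv h3]
          rcases eq_or_lt_of_le h1 with e | e
          · subst e
            exact ⟨-v + u, g', hg', by rw [← mul_assoc, tl.add k hkn]⟩
          · refine ⟨u, (Y k u)⁻¹ * Y j (-v) * Y k u * g',
              mul_mem (hkN u _ (y_mem_pos (by omega) h2 h3 _)) hg', ?_⟩
            simp [mul_assoc]
      obtain ⟨t, g', hg', rfl⟩ := hsplit g hg
      obtain ⟨x, hx, ex⟩ := tl.posFrom_img st (inv_mem hg')
      have h0 : t = 0 := by
        refine st.coord_zero (b := true) (r := k) (k := k) ⟨hkn, by simpa [sidx] using hhalf⟩ rfl hx ?_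
        rw [ex, map_inv, ← tl.img k hkn]
        rw [map_mul] at hg1
        exact eq_inv_of_mul_eq_one_left hg1
      subst h0
      rw [tl.zero hkn, one_mul] at hg1 ⊢
      exact hinj g' hg' hg1

end Lifts.TorLifts

end Cfsg.Agent.Chev
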