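import Cfsg.Agent.Lib.Chev.StUnivB2
import Cfsg.Agent.Lib.Chev.StUnivPosExt
import Cfsg.Agent.Lib.Chev.TwistH

/-!
The universal map for the type B2 over the field of three elements: the lifts of short roots are normalised by the one
useful torus element, those of long roots are commutators of short ones.
-/

set_option autoImplicit false
set_option maxRecDepth 100000
set_option synthInstance.maxSize 2048

namespace Cfsg.Agent.Chev

open Cfsg.Lie
open scoped commutatorElement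

namespace B2

/-- The short roots. -/
def isShort (r : ℕ) : Bool := r == 1 || r == 2 || r == 5 || r == 6

/-- The two short roots of a long one, with the coefficient of their commutator. -/
def shortPair (r : ℕ) : ℕ × ℕ × ℤ :=
  if r = 0 then (1, 2, 2) else if r = 3 then (1, 5, -2) else if r = 4 then (2, 6, -2) else (5, 6, 2)

theorem long_ok : ∀ r < 8, isShort r = false →
    ((shortPair r).1 < 8 ∧ (shortPair r).2.1 < 8) ∧
    (isShort (shortPair r).1 = true ∧ isShort (shortPair r).2.1 = true) ∧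
    ((shortPair r).2.1 ≠ (shortPair r).1 ∧ (shortPair r).2.1 ≠ T.neg (shortPair r).1) ∧
    T.terms (shortPair r).1 (shortPair r).2.1 = [(r, (shortPair r).2.2, 1, 1)] ∧
    ((shortPair r).2.2 = 2 ∨ (shortPair r).2.2 = -2) ∧
    T.uCom r (shortPair r).1 = true ∧ T.uCom r (shortPair r).2.1 = true := by decide +kernel

theorem wt_ok : ∀ r < 8, (isShort r = true → T.dotA chevB2 [0, 1] r = 1 ∨ T.dotA chevB2 [0, 1] r = -1) ∧
    (isShort r = false → ∀ i < 2, T.cA i r = 0 ∨ T.cA i r = 2 ∨ T.cA i r = -2) ∧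
    (isShort r = false → T.dotA chevB2 [0, 1] r = 0 ∨ T.dotA chevB2 [0, 1] r = 2 ∨ T.dotA chevB2 [0, 1] r = -2) := by
  decide +kernel

theorem shortRefl_ok : ∀ i < 2, ∀ r < 8, isShort (T.refl i r) = isShort r ∧
    (isShort r = false →
      (T.refl i (shortPair r).1 = (shortPair (T.refl i r)).1 ∧ T.refl i (shortPair r).2.1 = (shortPair (T.refl i r)).2.1) ∨
      (T.refl i (shortPair r).1 = (shortPair (T.refl i r)).2.1 ∧ T.refl i (shortPair r).2.1 = (shortPair (T.refl i r)).1))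
    := by decide +kernel

theorem three_ok : T.terms 4 5 = [(6, 1, 1, 1), (7, -1, 1, 2)] ∧ T.uCom 4 6 = true ∧ T.uCom 5 7 = true ∧
    T.uCom 7 5 = true ∧ T.uCom 7 6 = true ∧ T.uCom 6 7 = true ∧ T.uCom 4 7 = true ∧ (5 : ℕ) ≠ T.neg 4 ∧
    chevB2.rank = 2 ∧ T.terms 5 6 = [(7, 2, 1, 1)] ∧ (6 : ℕ) ≠ T.neg 5 := by decide +kernel

end B2

variable {F : Type*} [Field F] [Fintype F] {Γ : Type*} [Group Γ] {ρ : Γ →* GL chevB2.Idx F}

theorem three_cases (hF : Fintype.card F = 3) : (3 : F) = 0 ∧ ∀ t : F, t = 0 ∨ t = 1 ∨ t = -1 := by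
  classical
  have h3 : (3 : F) = 0 := by
    have h := FiniteField.cast_card_eq_zero F
    rw [hF] at h
    exact_mod_cast h
  have h1 : (1 : F) ≠ -1 := by
    intro h
    apply one_ne_zero (α := F)
    linear_combination h3 - h
  refine ⟨h3, fun t => ?_⟩
  have hs : ({0, 1, -1} : Finset F) = Finset.univ := by
    refine Finset.eq_univ_of_card _ ?_
    rw [hF, Finset.card_insert_of_notMem, Finset.card_pair h1]
    simp
  have := Finset.mem_univ t
  rw [← hs] at this
  simpa using this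

theorem univ_B2_three (hF : Fintype.card F = 3) {S : Type*} [Group S] {y : ℕ → F → S}
    {θ : S →* GL chevB2.Idx F} (st : StHyp B2.okx y θ) (hl : Lifts B2.okx ρ) :
    ∃ φ : chevB2.SteinbergCover F →* Γ, ρ.comp φ = B2.okx.scHom := by
  obtain ⟨h3, cases3⟩ := three_cases hF
  obtain ⟨hhalf, hn⟩ := B2.n_eq
  obtain ⟨t45, u46, u57, u75, u76, u67, u47, n45, hrank, t56, n56⟩ := B2.three_ok
  have h8 : ∀ {r : ℕ}, r < 8 → r < chevB2.nroots := fun h => hn ▸ h
  have hsq : ∀ b : F, b ≠ 0 → b * b = 1 := fun b hb => by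
    rcases cases3 b with rfl | rfl | rfl
    · exact absurd rfl hb
    · ring
    · ring
  -- squares of diagonal elements
  have hdsq : ∀ H : Γ, ρ H ∈ chevB2.diagonalSubgroup F → ρ (H * H) = 1 := by
    intro H hH
    obtain ⟨c, hc, e⟩ := B2.okx.toOK.mem_diag.mp hH
    rw [map_mul, e, B2.okx.toOK.torG_mul hc hc,
      B2.okx.toOK.torG_congr (d := fun _ => 1) (fun i hi => mul_ne_zero (hc i hi) (hc i hi))
        (fun i hi => hsq _ (hc i hi)), B2.okx.toOK.torG_one]
  -- the weights of long roots are one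
  have hlongwt : ∀ r < 8, B2.isShort r = false → ∀ (H : Γ) (b : F), Lifts.TorWt ρ B2.okx H r b → b = 1 := by
    intro r hr hlg H b hH
    obtain ⟨c, hc, e⟩ := B2.okx.toOK.mem_diag.mp hH.1
    have h := hH.2 1
    rw [e, B2.okx.toOK.torG_xG hc (h8 hr)] at h
    have h' := B2.okx.toOK.xG_right_inj (h8 hr) h
    rw [mul_one, mul_one] at h'
    rw [← h']
    refine Finset.prod_eq_one fun i hi => ?_
    have hi' := Finset.mem_range.mp hi
    rcases (B2.wt_ok r hr).2.1 hlg i (hrank ▸ hi') with e | e | e <;> rw [e]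
    · exact zpow_zero _
    · rw [zpow_two]; exact hsq _ (hc i hi')
    · rw [zpow_neg, zpow_two, hsq _ (hc i hi'), inv_one]
  -- the torus element
  obtain ⟨H0, hH0⟩ := hl.exists_torWt [0, 1] (b := (-1 : F)) (neg_ne_zero.mpr one_ne_zero)
  have hS : ∀ r < 8, B2.isShort r = true → Lifts.TorWt ρ B2.okx H0 r (-1) := by
    intro r hr hs
    have h := hH0 r (h8 hr)
    rcases (B2.wt_ok r hr).1 hs with e | e <;> rw [e] at h
    · simpa using h
    · simpa using h
  have hL : ∀ r < 8, B2.isShort r = false → Lifts.TorWt ρ B2.okx H0 r 1 := by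
    intro r hr hs
    have h := hH0 r (h8 hr)
    rwa [hlongwt r hr hs H0 _ h] at h
  have hne : (-1 : F) ≠ 1 := fun h => one_ne_zero (α := F) (by linear_combination h3 + h)
  choose L hLift using hl.lift
  -- root elements commute with themselves
  have hself : ∀ r < chevB2.nroots, Lifts.Com ρ B2.okx r r := by
    intro r hr
    have key : ∀ (g : Γ) (t : F), ρ g = B2.okx.toOK.xG r t → Commute (L r hr 1) g := by
      intro g t hg
      rcases cases3 t with rfl | rfl | rfl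
      · have hc := hl.cen (show g ∈ ρ.ker by rw [MonoidHom.mem_ker, hg, B2.okx.toOK.xG_zero])
        exact Subgroup.mem_center_iff.mp hc _
      · obtain ⟨z, hz, rfl⟩ := hl.center_factor (hg.trans (hLift r hr 1).symm)
        exact (Commute.refl _).mul_right (Subgroup.mem_center_iff.mp hz _)
      · obtain ⟨z, hz, rfl⟩ := hl.center_factor (a' := (L r hr 1)⁻¹)
          (hg.trans (by rw [map_inv, hLift, B2.okx.toOK.xG_inv]))
        exact (Commute.refl _).inv_right.mul_right (Subgroup.mem_center_iff.mp hz _)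
    intro g g' t u hg hg'
    rcases cases3 t with rfl | rfl | rfl
    · have hc := hl.cen (show g ∈ ρ.ker by rw [MonoidHom.mem_ker, hg, B2.okx.toOK.xG_zero])
      exact (Subgroup.mem_center_iff.mp hc g').symm
    · obtain ⟨z, hz, rfl⟩ := hl.center_factor (hg.trans (hLift r hr 1).symm)
      exact ((key g' u hg').mul_left ((Subgroup.mem_center_iff.mp hz g').symm)).eq
    · obtain ⟨z, hz, rfl⟩ := hl.center_factor (a' := (L r hr 1)⁻¹)
        (hg.trans (by rw [map_inv, hLift, B2.okx.toOK.xG_inv]))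
      exact ((key g' u hg').inv_left.mul_left ((Subgroup.mem_center_iff.mp hz g').symm)).eq
  -- a torus element fixing a root commutes with its lifts
  have hfix : ∀ r < chevB2.nroots, ∀ (H X : Γ) (x : F), Lifts.TorWt ρ B2.okx H r 1 →
      ρ X = B2.okx.toOK.xG r x → ⁅H, X⁆ = 1 := by
    intro r hr H X x hH hX
    have hc : ⁅H, X⁆ ∈ Subgroup.center Γ := hl.cen (by
      rw [MonoidHom.mem_ker, map_commutatorElement, hX, commutatorElement_def, hH.2, one_mul, mul_inv_cancel])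
    have hg : ∀ g, g * ⁅H, X⁆ = ⁅H, X⁆ * g := fun g => Subgroup.mem_center_iff.mp hc g
    have e2 : ⁅H, X⁆ * ⁅H, X⁆ = 1 := by
      have : ⁅H * H, X⁆ = H * ⁅H, X⁆ * H⁻¹ * ⁅H, X⁆ := by simp [commutatorElement_def, mul_assoc]
      rw [hg H, mul_inv_cancel_right] at this
      rw [← this, hl.congr_comm (a' := 1) (b' := X) (by rw [hdsq H hH.1, map_one]) rfl, commutatorElement_one_left]
    have e3 : ⁅H, X⁆ * (⁅H, X⁆ * ⁅H, X⁆) = 1 := by
      rw [← Lifts.comm_mul_right (hg X), ← Lifts.comm_mul_right (by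
        rw [Lifts.comm_mul_right (hg X)]; exact (Commute.mul_right (hg X) (hg X)))]
      rw [hl.congr_comm (a' := H) (b' := 1) rfl (by
        rw [map_mul, map_mul, hX, B2.okx.toOK.xG_mul, B2.okx.toOK.xG_mul, map_one,
          show x + (x + x) = 0 by linear_combination x * h3, B2.okx.toOK.xG_zero]), commutatorElement_one_right]
    rwa [e2, mul_one] at e3
  -- a long root commutes with its two short ones
  have clong : ∀ r < 8, B2.isShort r = false → Lifts.Com ρ B2.okx r (B2.shortPair r).1 ∧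
      Lifts.Com ρ B2.okx r (B2.shortPair r).2.1 := by
    intro r hr hs
    obtain ⟨⟨lp, lq⟩, ⟨sp, sq⟩, -, -, -, u1, u2⟩ := B2.long_ok r hr hs
    exact ⟨hl.com_tor (h8 hr) (h8 lp) u1 (hL r hr hs) (hS _ lp sp) hne,
      hl.com_tor (h8 hr) (h8 lq) u2 (hL r hr hs) (hS _ lq sq) hne⟩
  let L' : ℕ → F → Γ := fun r t => if hr : r < chevB2.nroots then L r hr t else 1
  have hL' : ∀ r, r < 8 → ∀ t : F, ρ (L' r t) = B2.okx.toOK.xG r t := fun r hr t => by
    simp only [L', dif_pos (h8 hr)]; exact hLift r _ t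
  let Y : ℕ → F → Γ := fun r t => if B2.isShort r then ⁅H0, L' r t⁆ else
    ⁅L' (B2.shortPair r).1 (((B2.shortPair r).2.2 : F) * t), L' (B2.shortPair r).2.1 1⁆
  have hc1 : ∀ r < 8, B2.isShort r = false → ((B2.shortPair r).2.2 : F) * (B2.shortPair r).2.2 = 1 := by
    intro r hr hs
    rcases (B2.long_ok r hr hs).2.2.2.2.1 with e | e <;> rw [e] <;> push_cast <;> linear_combination h3
  have himgS : ∀ r < 8, B2.isShort r = true → ∀ t, ρ (Y r t) = B2.okx.toOK.xG r t := by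
    intro r hr hs t
    simp only [Y, hs, if_true]
    rw [map_commutatorElement, hL' r hr, commutatorElement_def, (hS r hr hs).2, B2.okx.toOK.xG_inv,
      B2.okx.toOK.xG_mul]
    congr 1; linear_combination (-t) * h3
  have himgL : ∀ r < 8, B2.isShort r = false → ∀ t, ρ (Y r t) = B2.okx.toOK.xG r t := by
    intro r hr hs t
    obtain ⟨⟨lp, lq⟩, -, ⟨n1, n2⟩, ht, -⟩ := B2.long_ok r hr hs
    simp only [Y, hs, Bool.false_eq_true, if_false]
    rw [map_commutatorElement, hL' _ lp, hL' _ lq, B2.okx.toOK.comm_single (h8 lp) (h8 lq) n1 n2 ht, mul_one,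
      ← mul_assoc, hc1 r hr hs, one_mul]
  -- any commutator of lifts of the two short roots is the normalised lift
  have hkey : ∀ r < 8, B2.isShort r = false → ∀ (A B : Γ) (a b : F), ρ A = B2.okx.toOK.xG (B2.shortPair r).1 a →
      ρ B = B2.okx.toOK.xG (B2.shortPair r).2.1 b → ⁅A, B⁆ = Y r (((B2.shortPair r).2.2 : F) * a * b) := by
    intro r hr hs A B a b hA hB
    obtain ⟨⟨lp, lq⟩, -, ⟨n1, n2⟩, ht, -⟩ := B2.long_ok r hr hs
    set p := (B2.shortPair r).1
    set q := (B2.shortPair r).2.1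
    obtain ⟨crp, crq⟩ := clong r hr hs
    have himg : ∀ a b : F, ρ ⁅L' p a, L' q b⁆ = B2.okx.toOK.xG r (((B2.shortPair r).2.2 : F) * a * b) := fun a b => by
      rw [map_commutatorElement, hL' _ lp, hL' _ lq, B2.okx.toOK.comm_single (h8 lp) (h8 lq) n1 n2 ht]
    have addR : ∀ a b b' : F, ⁅L' p a, L' q (b + b')⁆ = ⁅L' p a, L' q b⁆ * ⁅L' p a, L' q b'⁆ := by
      intro a b b'
      rw [← Lifts.comm_mul_right (crq _ _ _ _ (himg a b') (hL' _ lq b)).symm]
      exact hl.congr_comm rfl (by rw [map_mul, hL' _ lq, hL' _ lq, hL' _ lq, B2.okx.toOK.xG_mul])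
    have addL : ∀ a a' b : F, ⁅L' p (a + a'), L' q b⁆ = ⁅L' p a', L' q b⁆ * ⁅L' p a, L' q b⁆ := by
      intro a a' b
      have e : ⁅L' p a * L' p a', L' q b⁆ = L' p a * ⁅L' p a', L' q b⁆ * (L' p a)⁻¹ * ⁅L' p a, L' q b⁆ := by
        simp [commutatorElement_def, mul_assoc]
      rw [← (crp _ _ _ _ (himg a' b) (hL' _ lp a)), mul_inv_cancel_right] at e
      rw [← e]
      exact hl.congr_comm (by rw [map_mul, hL' _ lp, hL' _ lp, hL' _ lp, B2.okx.toOK.xG_mul]) rfl
    have zR : ∀ a, ⁅L' p a, L' q 0⁆ = 1 := fun a => by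
      have h := addR a 0 0; rw [add_zero, left_eq_mul] at h; exact h
    have zL : ∀ b, ⁅L' p 0, L' q b⁆ = 1 := fun b => by
      have h := addL 0 0 b; rw [add_zero, left_eq_mul] at h; exact h
    have key : ⁅L' p a, L' q b⁆ = ⁅L' p (a * b), L' q 1⁆ := by
      rcases cases3 b with rfl | rfl | rfl
      · rw [zR, mul_zero, zL]
      · rw [mul_one]
      · have h1 := addR a (-1) 1
        rw [neg_add_cancel, zR] at h1
        have h2 := addL a (-a) 1
        rw [add_neg_cancel, zL] at h2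
        rw [eq_inv_of_mul_eq_one_left h1.symm, mul_neg_one, eq_inv_of_mul_eq_one_left h2.symm]
    simp only [Y, hs, Bool.false_eq_true, if_false]
    rw [hl.congr_comm (hA.trans (hL' _ lp a).symm) (hB.trans (hL' _ lq b).symm), key, ← mul_assoc, ← mul_assoc,
      hc1 r hr hs, one_mul]
  have hcom : ∀ r < chevB2.nroots, ∀ (H X : Γ) (b x : F), Lifts.TorWt ρ B2.okx H r b →
      ρ X = B2.okx.toOK.xG r x → ⁅H, X⁆ = Y r ((b - 1) * x) := by
    intro r hr H X b x hH hX
    have hr8 : r < 8 := hn ▸ hr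
    have hY0 : Y r 0 = 1 := by
      by_cases hs : B2.isShort r = true
      · simp only [Y, hs, if_true]
        exact commutatorElement_eq_one_iff_mul_comm.mpr (Subgroup.mem_center_iff.mp (hl.cen (show L' r 0 ∈ ρ.ker by
          rw [MonoidHom.mem_ker, hL' r hr8, B2.okx.toOK.xG_zero])) H0)
      · rw [Bool.not_eq_true] at hs
        obtain ⟨⟨lp, lq⟩, -⟩ := B2.long_ok r hr8 hs
        simp only [Y, hs, Bool.false_eq_true, if_false, mul_zero]
        exact commutatorElement_eq_one_iff_mul_comm.mpr (Subgroup.mem_center_iff.mp (hl.cen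
          (show L' (B2.shortPair r).1 0 ∈ ρ.ker by
            rw [MonoidHom.mem_ker, hL' _ lp, B2.okx.toOK.xG_zero])) _).symm
    have hb0 : b ≠ 0 := by
      rintro rfl
      have h := hH.2 1
      rw [zero_mul, B2.okx.toOK.xG_zero, conj_eq_one_iff, ← B2.okx.toOK.xG_zero r] at h
      exact one_ne_zero (B2.okx.toOK.xG_right_inj hr h)
    by_cases hb : b = 1
    · subst hb
      rw [hfix r hr H X x hH hX, sub_self, zero_mul, hY0]
    have hb' : b = -1 := ((cases3 b).resolve_left hb0).resolve_left hb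
    subst hb'
    have hs : B2.isShort r = true := by
      by_contra hs
      rw [Bool.not_eq_true] at hs
      exact hb (hlongwt r hr8 hs H _ hH)
    have hK : Lifts.TorWt ρ B2.okx (H0⁻¹ * H) r 1 := by
      refine ⟨by rw [map_mul, map_inv]; exact mul_mem (inv_mem (hS r hr8 hs).1) hH.1, fun t => ?_⟩
      rw [map_mul, map_inv, mul_inv_rev, inv_inv,
        show (ρ H0)⁻¹ * ρ H * B2.okx.toOK.xG r t * ((ρ H)⁻¹ * ρ H0) =
          (ρ H0)⁻¹ * (ρ H * B2.okx.toOK.xG r t * (ρ H)⁻¹) * ρ H0 by simp [mul_assoc], hH.2, one_mul,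
        mul_assoc, inv_mul_eq_iff_eq_mul]
      have h := (hS r hr8 hs).2 t
      rw [mul_inv_eq_iff_eq_mul] at h
      exact h.symm
    have e : ⁅H0 * (H0⁻¹ * H), X⁆ = H0 * ⁅H0⁻¹ * H, X⁆ * H0⁻¹ * ⁅H0, X⁆ := by simp [commutatorElement_def, mul_assoc]
    rw [hfix r hr _ X x hK hX, mul_one, mul_inv_cancel, one_mul, mul_inv_cancel_left] at e
    rw [e, show (-1 - 1) * x = x by linear_combination (-x) * h3]
    simp only [Y, hs, if_true]
    exact hl.congr_comm rfl (hX.trans (hL' r hr8 x).symm)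
  have himg : ∀ r < chevB2.nroots, ∀ t, ρ (Y r t) = B2.okx.toOK.xG r t := by
    intro r hr t
    by_cases hs : B2.isShort r = true
    · exact himgS r (hn ▸ hr) hs t
    · exact himgL r (hn ▸ hr) (by simpa using hs) t
  have hadd : ∀ r < chevB2.nroots, ∀ t u : F, Y r t * Y r u = Y r (t + u) := by
    intro r hr t u
    have hr8 : r < 8 := hn ▸ hr
    by_cases hs : B2.isShort r = true
    · simp only [Y, hs, if_true]
      have hi : ρ ⁅H0, L' r u⁆ = B2.okx.toOK.xG r u := by simpa [Y, hs] using himgS r hr8 hs u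
      rw [← Lifts.comm_mul_right (hself r hr _ _ _ _ (hL' r hr8 t) hi)]
      exact hl.congr_comm rfl (by rw [map_mul, hL' r hr8, hL' r hr8, hL' r hr8, B2.okx.toOK.xG_mul])
    rw [Bool.not_eq_true] at hs
    obtain ⟨⟨lp, lq⟩, -, ⟨n1, n2⟩, ht, -⟩ := B2.long_ok r hr8 hs
    obtain ⟨crp, -⟩ := clong r hr8 hs
    have hc : ρ (Y r u) = B2.okx.toOK.xG r u := himgL r hr8 hs u
    have ht' : ρ (Y r t) = B2.okx.toOK.xG r t := himgL r hr8 hs t
    rw [hself r hr _ _ _ _ ht' hc]
    simp only [Y, hs, Bool.false_eq_true, if_false] at hc ⊢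
    set c : F := ((B2.shortPair r).2.2 : F)
    set p := (B2.shortPair r).1
    set q := (B2.shortPair r).2.1
    have e : ⁅L' p (c * t) * L' p (c * u), L' q 1⁆ =
        L' p (c * t) * ⁅L' p (c * u), L' q 1⁆ * (L' p (c * t))⁻¹ * ⁅L' p (c * t), L' q 1⁆ := by
      simp [commutatorElement_def, mul_assoc]
    rw [← (crp _ _ _ _ hc (hL' _ lp (c * t))), mul_inv_cancel_right] at e
    rw [← e]
    exact hl.congr_comm (by rw [map_mul, hL' _ lp, hL' _ lp, hL' _ lp, B2.okx.toOK.xG_mul, mul_add]) rfl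
  have tl : Lifts.TorLifts hl Y := ⟨himg, hadd, hcom⟩
  have htor : ∀ r < chevB2.nroots, ∀ H b, Lifts.TorWt ρ B2.okx H r b → ∀ t : F, H * Y r t * H⁻¹ = Y r (b * t) := by
    intro r hr H b hH t
    have hr8 : r < 8 := hn ▸ hr
    by_cases hs : B2.isShort r = true
    · have e : Y r t = ⁅H0, L' r t⁆ := by simp only [Y, hs, if_true]
      rw [e, Lifts.conj_comm, hl.congr_comm (a := H * H0 * H⁻¹) (a' := H0) (b' := H * L' r t * H⁻¹)
        (by rw [map_mul, map_mul, map_inv, B2.okx.toOK.diag_comm hH.1 (hS r hr8 hs).1, mul_inv_cancel_right]) rfl,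
        hcom r hr H0 (H * L' r t * H⁻¹) (-1) (b * t) (hS r hr8 hs)
          (by rw [map_mul, map_mul, map_inv, hL' r hr8, hH.2])]
      congr 1; linear_combination (-(b * t)) * h3
    rw [Bool.not_eq_true] at hs
    obtain rfl := hlongwt r hr8 hs H b hH
    rw [one_mul, mul_inv_eq_iff_eq_mul]
    exact commutatorElement_eq_one_iff_mul_comm.mp (hfix r hr H _ t hH (himgL r hr8 hs t))
  have hnl : ∀ i < chevB2.rank, ∀ n : Γ, ρ n = B2.okx.toOK.nG (B2.T.smp i) 1 → ∀ r < chevB2.nroots, ∀ t : F,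
      n * Y r t * n⁻¹ = Y (B2.T.refl i r) ((B2.T.eta i r : F) * t) := by
    intro i hi n hnn r hr t
    have hr8 : r < 8 := hn ▸ hr
    have hconj : ∀ (x : ℕ) (v : F) (X : Γ), x < chevB2.nroots → ρ X = B2.okx.toOK.xG x v →
        ρ (n * X * n⁻¹) = B2.okx.toOK.xG (B2.T.refl i x) ((B2.T.eta i x : F) * v) := fun x v X hx hX => by
      rw [map_mul, map_mul, map_inv, hX, hnn, B2.okx.toOK.n_xG hi hx]
    obtain ⟨hrs, hrp⟩ := B2.shortRefl_ok i (hrank ▸ hi) r hr8
    have hlt := B2.okx.toOK.refl_lt hi hr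
    have hlt8 : B2.T.refl i r < 8 := hn ▸ hlt
    by_cases hs : B2.isShort r = true
    · have e : Y r t = ⁅H0, L' r t⁆ := by simp only [Y, hs, if_true]
      have hW : Lifts.TorWt ρ B2.okx (n * H0 * n⁻¹) (B2.T.refl i r) (-1) := by
        refine ⟨?_, fun u => ?_⟩
        · obtain ⟨c, hc, e'⟩ := B2.okx.toOK.mem_diag.mp (hS r hr8 hs).1
          rw [map_mul, map_mul, map_inv, hnn, e']
          exact B2.okx.toOK.n_torG hi hc
        · have h1 : B2.okx.toOK.xG (B2.T.refl i r) u =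
              ρ n * B2.okx.toOK.xG r ((B2.T.eta i r : F) * u) * (ρ n)⁻¹ := by
            rw [hnn, B2.okx.toOK.n_xG hi hr, ← mul_assoc, B2.okx.toOK.eta_sq hi hr, one_mul]
          have h2 : B2.okx.toOK.xG (B2.T.refl i r) (-1 * u) =
              ρ n * B2.okx.toOK.xG r (-1 * ((B2.T.eta i r : F) * u)) * (ρ n)⁻¹ := by
            rw [hnn, B2.okx.toOK.n_xG hi hr]
            congr 1
            linear_combination u * B2.okx.toOK.eta_sq (F := F) hi hr
          rw [h2, h1, ← (hS r hr8 hs).2]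
          simp [mul_assoc]
      rw [e, Lifts.conj_comm, hcom _ hlt _ (n * L' r t * n⁻¹) (-1) ((B2.T.eta i r : F) * t) hW
        (hconj r t _ hr (hL' r hr8 t))]
      congr 1; linear_combination (-((B2.T.eta i r : F) * t)) * h3
    rw [Bool.not_eq_true] at hs
    obtain ⟨⟨lp, lq⟩, -⟩ := B2.long_ok r hr8 hs
    have hs' : B2.isShort (B2.T.refl i r) = false := hrs.trans hs
    set c : F := ((B2.shortPair r).2.2 : F)
    have e : Y r t = ⁅L' (B2.shortPair r).1 (c * t), L' (B2.shortPair r).2.1 1⁆ := by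
      simp only [Y, hs, Bool.false_eq_true, if_false]; rfl
    have hA := hconj _ _ _ (h8 lp) (hL' _ lp (c * t))
    have hB := hconj _ _ _ (h8 lq) (hL' _ lq 1)
    obtain ⟨v, hv⟩ : ∃ v, n * Y r t * n⁻¹ = Y (B2.T.refl i r) v := by
      rw [e, Lifts.conj_comm]
      rcases hrp hs with ⟨ep, eq⟩ | ⟨ep, eq⟩
      · rw [ep] at hA; rw [eq] at hB
        exact ⟨_, hkey _ hlt8 hs' _ _ _ _ hA hB⟩
      · rw [ep] at hA; rw [eq] at hB
        rw [← commutatorElement_inv, hkey _ hlt8 hs' _ _ _ _ hB hA]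
        exact ⟨_, inv_eq_of_mul_eq_one_right (by rw [hadd _ hlt, add_neg_cancel, tl.zero hlt])⟩
    have h := congrArg ρ hv
    rw [map_mul, map_mul, map_inv, himg r hr, hnn, B2.okx.toOK.n_xG hi hr, himg _ hlt] at h
    rw [hv, B2.okx.toOK.xG_right_inj hlt h]
  have hwl : ∀ w : List ℕ, (∀ i ∈ w, i < chevB2.rank) →
      ∃ n : Γ, ∀ r < chevB2.nroots, ∃ c : F, ∀ t, n * Y r t * n⁻¹ = Y (piW B2.T w r) (c * t) := by
    intro w
    induction w with
    | nil => exact fun _ => ⟨1, fun r _ => ⟨1, fun t => by simp [piW]⟩⟩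
    | cons i w ih =>
      intro h
      have hi := h i List.mem_cons_self
      have hws : ∀ j ∈ w, j < chevB2.rank := fun j hj => h j (List.mem_cons_of_mem _ hj)
      obtain ⟨n, hn'⟩ := ih hws
      obtain ⟨m, hm⟩ := hl.exists_nlift hi
      refine ⟨m * n, fun r hr => ?_⟩
      obtain ⟨c, hc⟩ := hn' r hr
      refine ⟨(B2.T.eta i (piW B2.T w r) : F) * c, fun t => ?_⟩
      rw [show m * n * Y r t * (m * n)⁻¹ = m * (n * Y r t * n⁻¹) * m⁻¹ by simp [mul_assoc], hc,
        hnl i hi m hm _ (B2.okx.piW_lt hws hr), piW, mul_assoc]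
  -- the pairs of positive roots
  have c46 : Lifts.Com ρ B2.okx 4 6 := hl.com_tor (h8 (by norm_num)) (h8 (by norm_num)) u46
    (hL 4 (by norm_num) rfl) (hS 6 (by norm_num) rfl) hne
  have c75 : Lifts.Com ρ B2.okx 7 5 := hl.com_tor (h8 (by norm_num)) (h8 (by norm_num)) u75
    (hL 7 (by norm_num) rfl) (hS 5 (by norm_num) rfl) hne
  have c76 : Lifts.Com ρ B2.okx 7 6 := hl.com_tor (h8 (by norm_num)) (h8 (by norm_num)) u76
    (hL 7 (by norm_num) rfl) (hS 6 (by norm_num) rfl) hne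
  have c47 : Lifts.Com ρ B2.okx 4 7 := by
    intro g g' s u hg hg'
    obtain ⟨P, hP⟩ := hl.lift 6 (h8 (by norm_num)) 1
    obtain ⟨Q, hQ⟩ := hl.lift 5 (h8 (by norm_num)) ((2 : F) * u)
    obtain ⟨z, hz, ez⟩ := hl.center_factor (a := g') (a' := ⁅Q, P⁆) (by
      rw [hg', map_commutatorElement, hQ, hP, B2.okx.toOK.comm_single (h8 (by norm_num)) (h8 (by norm_num))
        (by norm_num) n56 t56]
      congr 1
      push_cast
      linear_combination (-u) * h3)
    obtain ⟨W, hW⟩ := hl.lift 6 (h8 (by norm_num)) ((1 : ℤ) * (-(-s)) ^ 1 * (-((2 : F) * u)) ^ 1)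
    obtain ⟨W', hW'⟩ := hl.lift 7 (h8 (by norm_num)) ((-1 : ℤ) * (-(-s)) ^ 1 * (-((2 : F) * u)) ^ 2)
    have hQ' : ρ (g * Q * g⁻¹) = ρ ((W * W')⁻¹ * Q) := by
      have hw := Lifts.word_two B2.okx (p := 4) (q := 5) (h8 (by norm_num)) (h8 (by norm_num)) (by norm_num) n45 t45
        (-s) (-((2 : F) * u))
      rw [← hW, ← hW', neg_neg, neg_neg, ← hQ, ← hg, ← map_mul] at hw
      rw [map_mul ρ (W * W')⁻¹, map_inv, ← hw, map_mul, map_mul, map_inv]
      simp [commutatorElement_def, mul_assoc]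
    have hWP : Commute W P := hself 6 (h8 (by norm_num)) W P _ _ hW hP
    have hW'P : Commute W' P := c76 W' P _ _ hW' hP
    have hV : Commute (W * W')⁻¹ P := (hWP.mul_left hW'P).inv_left
    have hWg : Commute W g' := (c76 g' W _ _ hg' hW).symm
    have hW'g : Commute W' g' := hself 7 (h8 (by norm_num)) W' g' _ _ hW' hg'
    have hVc : Commute (W * W')⁻¹ ⁅Q, P⁆ := by
      rw [show ⁅Q, P⁆ = g' * z⁻¹ by rw [ez, mul_inv_cancel_right]]
      exact (hWg.mul_left hW'g).inv_left.mul_right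
        ((Subgroup.mem_center_iff.mp (inv_mem hz) (W * W')⁻¹))
    have c1 : Commute g ⁅Q, P⁆ := by
      have e1 : g * ⁅Q, P⁆ * g⁻¹ = ⁅(W * W')⁻¹ * Q, P⁆ := by
        rw [Lifts.conj_comm]
        exact hl.congr_comm hQ' (by rw [c46 g P _ _ hg hP, mul_inv_cancel_right])
      rw [show ⁅(W * W')⁻¹ * Q, P⁆ = (W * W')⁻¹ * ⁅Q, P⁆ * ((W * W')⁻¹)⁻¹ * ⁅(W * W')⁻¹, P⁆ by
        simp [commutatorElement_def, mul_assoc], commutatorElement_eq_one_iff_commute.mpr hV, mul_one,
        hVc.eq, mul_inv_cancel_right] at e1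
      exact mul_inv_eq_iff_eq_mul.mp e1
    rw [ez]
    exact (c1.mul_right (Subgroup.mem_center_iff.mp hz g)).eq
  refine hl.exists_hom_tor tl B2.words_ok hwl (tl.pos_rel_ext st htor fun k s hk hks hs => ?_)
  have hall : ∀ r < chevB2.nroots, ∃ b, Lifts.TorWt ρ B2.okx H0 r b := fun r hr => ⟨_, hH0 r hr⟩
  rw [hhalf] at hk
  rw [hn] at hs
  obtain ⟨rfl, rfl⟩ | ⟨rfl, rfl⟩ | ⟨rfl, rfl⟩ | ⟨rfl, rfl⟩ | ⟨rfl, rfl⟩ | ⟨rfl, rfl⟩ :
      (k = 4 ∧ s = 5) ∨ (k = 4 ∧ s = 6) ∨ (k = 4 ∧ s = 7) ∨ (k = 5 ∧ s = 6) ∨ (k = 5 ∧ s = 7) ∨ (k = 6 ∧ s = 7) := by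
    omega
  · exact Or.inl ⟨H0, -1, hall, hL 4 (by norm_num) rfl, hS 5 (by norm_num) rfl, hne⟩
  · exact Or.inl ⟨H0, -1, hall, hL 4 (by norm_num) rfl, hS 6 (by norm_num) rfl, hne⟩
  · exact Or.inr (Or.inl ⟨c47, u47⟩)
  · refine Or.inr (Or.inr fun t u => ?_)
    have h56 := hkey 7 (by norm_num) rfl ((Y 5 t)⁻¹) (Y 6 u) (-t) u
      (by rw [map_inv, himgS 5 (by norm_num) rfl, B2.okx.toOK.xG_inv]; rfl) (himgS 6 (by norm_num) rfl u)
    rw [show (Y 5 t)⁻¹ * Y 6 u * Y 5 t = ⁅(Y 5 t)⁻¹, Y 6 u⁆ * Y 6 u by simp [commutatorElement_def, mul_assoc], h56]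
    exact mul_mem (Lifts.TorLifts.y_mem_pos (by norm_num) (by omega) (h8 (by norm_num)) _)
      (Lifts.TorLifts.y_mem_pos le_rfl (by omega) (h8 (by norm_num)) u)
  · exact Or.inr (Or.inl ⟨Lifts.com_symm c75, u57⟩)
  · exact Or.inr (Or.inl ⟨Lifts.com_symm c76, u67⟩)

end Cfsg.Agent.Chev
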