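import Cfsg.Agent.Lib.Chev.StUnivField
import Cfsg.Agent.Lib.Chev.StMultSt
import Cfsg.Agent.Lib.Chev.Unip
import Mathlib.GroupTheory.Transfer
import Mathlib.GroupTheory.PGroup

/-!
Central extensions of the presented group over a finite field whose kernel has no elements of the order of the
characteristic split: root elements have unique lifts of that order and every relation lives in a subgroup of prime
power order.
-/

set_option autoImplicit false

namespace Cfsg.Agent.Chev

open Cfsg.Lie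
open scoped commutatorElement

/-- An element over a subgroup of prime power order that is a word in elements of that order is trivial when its image
is. -/
theorem eq_one_of_pgroup {Γ Δ : Type*} [Group Γ] [Group Δ] [Finite Γ] (q : Γ →* Δ) (hq : q.ker ≤ Subgroup.center Γ)
    {p : ℕ} [Fact p.Prime] (hp : ∀ z ∈ q.ker, z ^ p = 1 → z = 1) {H : Subgroup Δ} (hH : IsPGroup p ↥H)
    {z : Γ} (hz : z ∈ Subgroup.closure {g : Γ | g ^ p = 1 ∧ q g ∈ H}) (hz1 : q z = 1) : z = 1 := by
  set P : Subgroup Γ := H.comap q with hP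
  let f : ↥P →* ↥H := (q.comp P.subtype).codRestrict H fun g => g.2
  have hle : f.ker ≤ Subgroup.center ↥P := by
    intro g hg
    have h1 : (g : Γ) ∈ q.ker := congrArg Subtype.val (MonoidHom.mem_ker.mp hg)
    exact Subgroup.mem_center_iff.mpr fun x => Subtype.ext (Subgroup.mem_center_iff.mp (hq h1) x)
  have hdvd : (Subgroup.center ↥P).index ∣ Nat.card ↥f.range := by
    rw [← Subgroup.index_ker]; exact Subgroup.index_dvd_of_le hle
  have : Finite ↥f.range := Finite.of_surjective f.rangeRestrict f.rangeRestrict_surjective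
  obtain ⟨j, hj⟩ := IsPGroup.iff_card.mp (hH.to_subgroup f.range)
  rw [hj] at hdvd
  obtain ⟨k, -, hk⟩ := (Nat.dvd_prime_pow Fact.out).mp hdvd
  have hmul : ∀ a b : ↥P, (a * b) ^ p ^ (k + 1) = a ^ p ^ (k + 1) * b ^ p ^ (k + 1) := by
    intro a b
    simp only [pow_succ, pow_mul, ← hk]
    have e := map_mul (MonoidHom.transferCenterPow ↥P) a b
    have e' := congrArg Subtype.val e
    simp only [MonoidHom.transferCenterPow_apply, Subgroup.coe_mul] at e'
    rw [e']
    refine Commute.mul_pow ?_ p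
    exact (Subgroup.mem_center_iff.mp (MonoidHom.transferCenterPow ↥P b).2 _)
  let E : Subgroup ↥P := (MonoidHom.mk' (fun a : ↥P => a ^ p ^ (k + 1)) hmul).ker
  have hgen : Subgroup.closure {g : Γ | g ^ p = 1 ∧ q g ∈ H} ≤ E.map P.subtype := by
    rw [Subgroup.closure_le]
    rintro g ⟨hg, hgH⟩
    refine ⟨⟨g, hgH⟩, Subtype.ext ?_, rfl⟩
    show g ^ p ^ (k + 1) = 1
    rw [pow_succ', pow_mul, hg, one_pow]
  obtain ⟨w, hw, rfl⟩ := hgen hz
  have hw' : ((w : Γ)) ^ p ^ (k + 1) = 1 := congrArg Subtype.val (MonoidHom.mem_ker.mp hw)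
  have hiter : ∀ n : ℕ, ∀ z ∈ q.ker, z ^ p ^ n = 1 → z = 1 := by
    intro n
    induction n with
    | zero => intro z _ h; simpa using h
    | succ n ih =>
      intro z hz h
      rw [pow_succ, pow_mul] at h
      exact ih z hz (hp _ (pow_mem hz _) h)
  exact hiter _ _ (MonoidHom.mem_ker.mpr hz1) hw'

variable {F : Type*} [Field F] {D : ChevalleyDatum} {T : Tabs}

theorem exists_section_coprime [Fintype F] (ok : OKX D T) (hdn : Tabs.chkDn D T = true)
    (hwit : Tabs.chkWit D T = true) {W : List (List ℕ)} (hW : T.chkWords D W = true) {p : ℕ} [Fact p.Prime]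
    [CharP F p] {Γ : Type*} [Group Γ] [Finite Γ] (q : Γ →* D.SteinbergCover F) (hsurj : Function.Surjective q)
    (hq : q.ker ≤ Subgroup.center Γ) (hp : ∀ z ∈ q.ker, z ^ p = 1 → z = 1) :
    ∃ φ : D.SteinbergCover F →* Γ, q.comp φ = MonoidHom.id _ := by
  have st := ok.presented_hyp (R := D.steinbergRelsAB F) (Set.Subset.refl _) hdn hwit ok.scHom
    fun r hr t => ok.scHom_gen hr t
  let y : ℕ → F → D.SteinbergCover F := fun r t => PresentedGroup.mk (D.steinbergRelsAB F) (D.stX r t)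
  change StHyp ok y ok.scHom at st
  have ypow : ∀ r < D.nroots, ∀ (t : F) (n : ℕ), y r t ^ n = y r ((n : F) * t) := by
    intro r hr t n
    induction n with
    | zero => rw [pow_zero, Nat.cast_zero, zero_mul, st.y_zero hr]
    | succ n ih => rw [pow_succ, ih, st.add r hr, Nat.cast_succ, add_mul, one_mul]
  have yp : ∀ r < D.nroots, ∀ t : F, y r t ^ p = 1 := fun r hr t => by
    rw [ypow r hr, CharP.cast_eq_zero, zero_mul, st.y_zero hr]
  have hcop : (Nat.card ↥q.ker).Coprime p := by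
    rw [Nat.coprime_comm, (Fact.out : p.Prime).coprime_iff_not_dvd]
    intro h
    obtain ⟨z, hz⟩ := exists_prime_orderOf_dvd_card' p h
    have h1 : (z : Γ) = 1 := hp _ z.2 (by
      rw [← Subgroup.coe_pow, ← hz, pow_orderOf_eq_one, Subgroup.coe_one])
    have h2 : z = 1 := Subtype.ext h1
    rw [h2, orderOf_one] at hz
    exact (Fact.out : p.Prime).ne_one hz.symm
  have hlift : ∀ r : Fin D.nroots, ∀ t : F, ∃ g : Γ, q g = y r t ∧ g ^ p = 1 := by
    intro r t
    obtain ⟨g, hg⟩ := hsurj (y r t)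
    have hgk : g ^ p ∈ q.ker := by rw [MonoidHom.mem_ker, map_pow, hg, yp r r.2]
    obtain ⟨w, hw⟩ := (powCoprime hcop).surjective (⟨g ^ p, hgk⟩ : ↥q.ker)⁻¹
    have hw' : (w : Γ) ^ p = (g ^ p)⁻¹ := by simpa [powCoprime] using congrArg Subtype.val hw
    refine ⟨g * w, by rw [map_mul, hg, MonoidHom.mem_ker.mp w.2, mul_one], ?_⟩
    rw [(show Commute g (w : Γ) from Subgroup.mem_center_iff.mp (hq w.2) g).mul_pow, hw', mul_inv_cancel]
  choose L hL hLp using hlift
  let f : Fin D.nroots × F → Γ := fun x => L x.1 x.2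
  have hX : ∀ (r : ℕ) (hr : r < D.nroots) (t : F), FreeGroup.lift f (D.stX r t) = L ⟨r, hr⟩ t := by
    intro r hr t
    rw [ChevalleyDatum.stX, dif_pos hr, FreeGroup.lift_apply_of]
  have hX' : ∀ (r : ℕ), r < D.nroots → ∀ t : F, (FreeGroup.lift f (D.stX r t)) ^ p = 1 ∧
      q (FreeGroup.lift f (D.stX r t)) = y r t := fun r hr t => by rw [hX r hr]; exact ⟨hLp _ _, hL _ _⟩
  have hUp : IsPGroup p ↥(D.posUnipotent F) := by
    obtain ⟨k, -, hq'⟩ := FiniteField.card F p
    exact IsPGroup.of_card (n := (k : ℕ) * (D.nroots / 2)) (by rw [ok.card_pos, hq', ← pow_mul])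
  have hrels : ∀ g ∈ D.steinbergRelsAB F, FreeGroup.lift f g = 1 := by
    intro g hg
    have hq1 : q (FreeGroup.lift f g) = 1 := by
      have : (q.comp (FreeGroup.lift f)) = PresentedGroup.mk (D.steinbergRelsAB F) := FreeGroup.ext_hom _ _ fun x => by
        rw [MonoidHom.comp_apply, FreeGroup.lift_apply_of]
        show q (L x.1 x.2) = _
        rw [hL]
        show PresentedGroup.mk _ (D.stX (x.1 : ℕ) x.2) = _
        rw [ChevalleyDatum.stX, dif_pos x.1.2]
      have h := DFunLike.congr_fun this g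
      rw [MonoidHom.comp_apply] at h
      rw [h]
      exact PresentedGroup.one_of_mem hg
    rcases hg with ⟨r, a, b, hr, rfl⟩ | ⟨r, s, t, u, hr, hs, h1, h2, rfl⟩
    · let e : Multiplicative F →* D.SteinbergCover F :=
        MonoidHom.mk' (fun t => y r t.toAdd) fun t u => (st.add r hr _ _).symm
      have hH : IsPGroup p ↥e.range := fun x => by
        obtain ⟨t, ht⟩ := x.2
        refine ⟨1, Subtype.ext ?_⟩
        rw [pow_one, Subgroup.coe_pow, ← ht]
        exact yp r hr _
      refine eq_one_of_pgroup q hq hp hH ?_ hq1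
      have hm : ∀ t : F, FreeGroup.lift f (D.stX r t) ∈ Subgroup.closure {g : Γ | g ^ p = 1 ∧ q g ∈ e.range} :=
        fun t => Subgroup.subset_closure ⟨(hX' r hr t).1, by rw [(hX' r hr t).2]; exact ⟨Multiplicative.ofAdd t, rfl⟩⟩
      simp only [map_mul, map_inv]
      exact mul_mem (mul_mem (hm _) (hm _)) (inv_mem (hm _))
    rw [ok.toOK.neg_eq hr] at h2
    have hW' := hW
    simp only [Tabs.chkWords, andR_iff, allL_iff, nlt_iff, allR_iff, orR_iff, Nat.beq_eq, anyL_iff, ipos_iff,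
      Tabs.piR_eq] at hW'
    obtain ⟨hWr, hW'⟩ := hW'
    rcases hW' r hr s hs with e | e | ⟨w, hwW, hwr, hws, hwq⟩
    · exact absurd e h1
    · exact absurd e h2
    have hw := hWr w hwW
    let H : Subgroup (D.SteinbergCover F) :=
      Subgroup.closure {x | ∃ (x' : ℕ) (a : F), (x' < D.nroots ∧ 0 < T.htf (piW T w x')) ∧ x = y x' a}
    let c : D.SteinbergCover F →* GL D.Idx F := ok.scHom.comp (MulAut.conj (st.gb w)).toMonoidHom
    have hcM : ∀ x ∈ H, st.gb w * x * (st.gb w)⁻¹ ∈ st.M true (Tabs.half D) := by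
      intro x hx
      induction hx using Subgroup.closure_induction with
      | mem z hz =>
        obtain ⟨x', a, ⟨hx', hpos⟩, rfl⟩ := hz
        obtain ⟨d, -, hd⟩ := st.conj_gb w hw x' hx'
        rw [hd]
        exact st.y_mem_M' (ok.sgn_true.mpr ⟨ok.piW_lt hw hx', hpos⟩) _
      | one => simp
      | mul a b _ _ ha hb => rw [← conj_mul]; exact mul_mem ha hb
      | inv a _ ha => rw [← conj_inv]; exact inv_mem ha
    have hH : IsPGroup p ↥H := by
      let cH : ↥H →* ↥(D.posUnipotent F) := (c.comp H.subtype).codRestrict _ fun x => st.map_M_true (hcM x x.2)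
      refine hUp.of_injective cH fun a b hab => ?_
      have h := st.eq_of_map (hcM a a.2) (hcM b b.2) (congrArg Subtype.val hab)
      exact Subtype.ext (mul_left_cancel (mul_right_cancel h))
    refine eq_one_of_pgroup q hq hp hH ?_ hq1
    have hm : ∀ (x : ℕ) (a : F), x < D.nroots → 0 < T.htf (piW T w x) →
        FreeGroup.lift f (D.stX x a) ∈ Subgroup.closure {g : Γ | g ^ p = 1 ∧ q g ∈ H} := fun x a hx hpos =>
      Subgroup.subset_closure ⟨(hX' x hx a).1, by
        rw [(hX' x hx a).2]; exact Subgroup.subset_closure ⟨x, a, ⟨hx, hpos⟩, rfl⟩⟩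
    have hwd : FreeGroup.lift f (D.stWord (D.commWord F r s t u)) ∈
        Subgroup.closure {g : Γ | g ^ p = 1 ∧ q g ∈ H} := by
      rw [ChevalleyDatum.stWord, map_list_prod, List.map_map]
      refine list_prod_mem fun x hx => ?_
      obtain ⟨x', hx', rfl⟩ := List.mem_map.mp hx
      simp only [ChevalleyDatum.commWord, ok.toOK.terms_eq hr hs, List.mem_map] at hx'
      obtain ⟨e, he, rfl⟩ := hx'
      exact hm _ _ (ok.toOK.term_spec hr hs he).1 (hwq e he)
    simp only [map_mul, map_inv]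
    have hmr := hm r t hr hwr
    have hms := hm s u hs hws
    exact mul_mem (mul_mem (mul_mem (mul_mem (inv_mem hms) (inv_mem hmr)) hms) hmr) (inv_mem hwd)
  refine ⟨PresentedGroup.toGroup hrels, PresentedGroup.ext fun x => ?_⟩
  rw [MonoidHom.comp_apply, PresentedGroup.toGroup.of, MonoidHom.id_apply]
  show q (L x.1 x.2) = _
  rw [hL]
  show PresentedGroup.mk _ (D.stX (x.1 : ℕ) x.2) = _
  rw [ChevalleyDatum.stX, dif_pos x.1.2]
  rfl

theorem existsUnique_lift_coprime [Fintype F] (ok : OKX D T) (hdn : Tabs.chkDn D T = true)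
    (hwit : Tabs.chkWit D T = true) {M : List (List (ℕ × ℤ))} (hM : Tabs.chkCow D T M = true)
    {W : List (List ℕ)} (hW : T.chkWords D W = true) (htop : commutator (D.SteinbergCover F) = ⊤)
    {p : ℕ} [Fact p.Prime] [CharP F p]
    {G₁ E : Type*} [Group G₁] [Group E] (π₁ : E →* G₁) (hπ : Function.Surjective π₁)
    (hc : π₁.ker ≤ Subgroup.center E) (hE : ∀ z ∈ π₁.ker, z ^ p = 1 → z = 1) (σ : D.SteinbergCover F →* G₁) :
    ∃! τ : D.SteinbergCover F →* E, π₁.comp τ = σ := by
  have st := ok.presented_hyp (R := D.steinbergRelsAB F) (Set.Subset.refl _) hdn hwit ok.scHom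
    fun r hr t => ok.scHom_gen hr t
  have hker : st.toGrp.ker = Subgroup.center (D.SteinbergCover F) := by rw [st.ker_toGrp, st.ker_eq_center hM]
  have : Finite (D.SteinbergCover F ⧸ Subgroup.center (D.SteinbergCover F)) := hker ▸ Finite.of_equiv _
    (QuotientGroup.quotientKerEquivOfSurjective st.toGrp st.toGrp_surjective).symm.toEquiv
  have hfinC : Finite (D.SteinbergCover F) := finite_of_perfect_central htop
  let Γ : Subgroup (D.SteinbergCover F × E) :=
    MonoidHom.eqLocus (σ.comp (MonoidHom.fst _ _)) (π₁.comp (MonoidHom.snd _ _))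
  let q₀ : ↥Γ →* D.SteinbergCover F := (MonoidHom.fst _ _).comp Γ.subtype
  have hΓ : ∀ g : ↥Γ, σ (q₀ g) = π₁ (g : D.SteinbergCover F × E).2 := fun g => g.2
  have hp : Function.Surjective q₀ := fun d => by
    obtain ⟨e, he⟩ := hπ (σ d)
    exact ⟨⟨(d, e), he.symm⟩, rfl⟩
  have hk2 : ∀ g : ↥Γ, q₀ g = 1 → (g : D.SteinbergCover F × E).2 ∈ π₁.ker := fun g hg => by
    rw [MonoidHom.mem_ker, ← hΓ, hg, map_one]
  have hcen : ∀ g : ↥Γ, q₀ g = 1 → g ∈ Subgroup.center ↥Γ := by
    intro g hg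
    rw [Subgroup.mem_center_iff]
    intro a
    refine Subtype.ext (Prod.ext ?_ (Subgroup.mem_center_iff.mp (hc (hk2 g hg)) _))
    show q₀ a * q₀ g = q₀ g * q₀ a
    rw [hg, mul_one, one_mul]
  have : Finite (commutatorSet ↥Γ) := by
    choose L hL using hp
    refine Set.Finite.to_subtype (Set.Finite.subset (Set.finite_range
      fun x : D.SteinbergCover F × D.SteinbergCover F => ⁅L x.1, L x.2⁆) ?_)
    rintro _ ⟨a, b, rfl⟩
    refine ⟨(q₀ a, q₀ b), ?_⟩
    have hz := Subgroup.mem_center_iff.mp (hcen ((L (q₀ a))⁻¹ * a)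
      (by rw [map_mul, map_inv, hL, inv_mul_cancel]))
    have hw := Subgroup.mem_center_iff.mp (hcen ((L (q₀ b))⁻¹ * b)
      (by rw [map_mul, map_inv, hL, inv_mul_cancel]))
    show ⁅L (q₀ a), L (q₀ b)⁆ = _
    conv_rhs => rw [← mul_inv_cancel_left (L (q₀ a)) a, ← mul_inv_cancel_left (L (q₀ b)) b]
    generalize (L (q₀ a))⁻¹ * a = z at hz
    generalize (L (q₀ b))⁻¹ * b = w at hw
    generalize L (q₀ a) = x
    generalize L (q₀ b) = y
    simp only [commutatorElement_def, mul_inv_rev]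
    symm
    calc x * z * (y * w) * (z⁻¹ * x⁻¹) * (w⁻¹ * y⁻¹)
        = x * ((y * w) * z) * (z⁻¹ * x⁻¹) * (w⁻¹ * y⁻¹) := by rw [hz (y * w)]; simp only [mul_assoc]
      _ = x * y * (x⁻¹ * w) * (w⁻¹ * y⁻¹) := by rw [hw x⁻¹]; simp [mul_assoc]
      _ = x * y * x⁻¹ * y⁻¹ := by simp [mul_assoc]
  let q : ↥(commutator ↥Γ) →* D.SteinbergCover F := q₀.comp (commutator ↥Γ).subtype
  have hqs : Function.Surjective q := fun d => by
    have hx : d ∈ (commutator ↥Γ).map q₀ := by
      rw [commutator_def, Subgroup.map_commutator, Subgroup.map_top_of_surjective q₀ hp, ← commutator_def, htop]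
      trivial
    obtain ⟨c, hcm, ec⟩ := hx
    exact ⟨⟨c, hcm⟩, ec⟩
  obtain ⟨φ, hφ⟩ := exists_section_coprime ok hdn hwit hW q hqs
    (fun g hg => Subgroup.mem_center_iff.mpr fun x => Subtype.ext (Subgroup.mem_center_iff.mp (hcen g hg) x))
    (p := p) (fun z hz h => by
      refine Subtype.ext (Subtype.ext (Prod.ext (MonoidHom.mem_ker.mp hz) (hE _ (hk2 z hz) ?_)))
      exact congrArg (fun x : ↥(commutator ↥Γ) => ((x : ↥Γ) : D.SteinbergCover F × E).2) h)
  have hd : ∀ a, π₁ ((φ a : ↥Γ) : D.SteinbergCover F × E).2 = σ a := fun a => by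
    rw [← hΓ]; exact congrArg σ (DFunLike.congr_fun hφ a)
  refine ⟨(MonoidHom.snd _ _).comp (Γ.subtype.comp ((commutator ↥Γ).subtype.comp φ)), MonoidHom.ext hd,
    fun τ hτ => hom_eq_of_central htop _ _ fun a => hc ?_⟩
  rw [MonoidHom.mem_ker, map_mul, map_inv]
  have h1 := DFunLike.congr_fun hτ a
  simp only [MonoidHom.comp_apply] at h1
  rw [h1, inv_mul_eq_one]
  exact hd a

end Cfsg.Agent.Chev
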