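import Cfsg.Agent.Lib.Chev.StUnivGen

/-!
Commuting of lifts of two orthogonal roots whose weights on the fixed torus are squares: two descriptions of the
commutator as a value of the same pairing with opposite signs.
-/

set_option autoImplicit false

namespace Cfsg.Agent.Chev

open Cfsg.Lie
open scoped commutatorElement

variable {F : Type*} [Field F] {D : ChevalleyDatum} {T : Tabs}

namespace Lifts

variable {ok : OKX D T} {Γ : Type*} [Group Γ] {ρ : Γ →* GL D.Idx F}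

/-- A commutator with a root that is a commutator, moved to the pairing of two other roots. -/
theorem pair_move (hl : Lifts ok ρ) {k s p w q : ℕ} {c c' : ℤ} (hk : k < D.nroots) (hp : p < D.nroots)
    (hs : s < D.nroots) (hw : w < D.nroots) (hq : q < D.nroots) (hpq : q ≠ p) (hpq' : q ≠ T.neg p)
    (hkq : q ≠ k) (hkq' : q ≠ T.neg k) (t1 : T.terms p q = [(s, c, 1, 1)]) (t2 : T.terms k q = [(w, c', 1, 1)])
    (ckp : Com ρ ok k p) (cws : Com ρ ok w s) (a t u : F) {K P S W : Γ} (hK : ρ K = ok.toOK.xG k a)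
    (hP : ρ P = ok.toOK.xG p t) (hS : ρ S = ok.toOK.xG s ((c : F) * t * u))
    (hW : ρ W = ok.toOK.xG w ((c' : F) * a * u)) : ⁅K, S⁆ = ⁅P, W⁆ := by
  obtain ⟨Q, hQ⟩ := hl.lift q hq u
  have e1 : ρ ⁅P, Q⁆ = ρ S := by
    rw [map_commutatorElement, hP, hQ, hS, ok.toOK.comm_single hp hq hpq hpq' t1]
  have e2 : ρ (K * Q * K⁻¹) = ρ (W * Q) := by
    have := ok.toOK.comm_single hk hq hkq hkq' t2 a u
    rw [commutatorElement_def] at this
    rw [map_mul, map_mul, map_inv, map_mul, hK, hQ, hW, ← this]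
    simp [mul_assoc]
  obtain ⟨z, hz, e⟩ := hl.center_factor e1
  have hzg : ∀ g : Γ, Commute g z := fun g => Subgroup.mem_center_iff.mp hz g
  have cW : Commute W ⁅P, Q⁆ := e ▸ (Commute.mul_right (cws W S _ _ hW hS) (hzg W))
  have cK : K * ⁅P, Q⁆ * K⁻¹ = ⁅P, W⁆ * ⁅P, Q⁆ := by
    have h1 : K * ⁅P, Q⁆ * K⁻¹ = ⁅P, W * Q⁆ := by
      rw [conj_comm]
      exact hl.congr_comm (by rw [show K * P * K⁻¹ = P by rw [(ckp K P _ _ hK hP), mul_inv_cancel_right]]) e2
    rw [h1, show ⁅P, W * Q⁆ = ⁅P, W⁆ * (W * ⁅P, Q⁆ * W⁻¹) by simp [commutatorElement_def, mul_assoc],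
      cW.eq, mul_inv_cancel_right]
  have h3 : ⁅K, ⁅P, Q⁆⁆ = ⁅P, W⁆ := by
    rw [commutatorElement_def K, cK, mul_inv_cancel_right]
  rw [← h3]
  exact hl.congr_comm rfl e1.symm

/-- Two moves giving opposite signs kill a commutator when two is invertible. -/
theorem com_square (hl : Lifts ok ρ) {k s p w q q' : ℕ} {c c' d d' : ℤ} (hk : k < D.nroots) (hs : s < D.nroots)
    (hp : p < D.nroots) (hw : w < D.nroots) (hq : q < D.nroots) (hq' : q' < D.nroots)
    (hpq : q ≠ p ∧ q ≠ T.neg p) (hkq : q ≠ k ∧ q ≠ T.neg k) (hwq : q' ≠ w ∧ q' ≠ T.neg w)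
    (hkq' : q' ≠ k ∧ q' ≠ T.neg k)
    (t1 : T.terms p q = [(s, c, 1, 1)]) (t2 : T.terms k q = [(w, c', 1, 1)]) (t3 : T.terms w q' = [(s, d, 1, 1)])
    (t4 : T.terms k q' = [(p, d', 1, 1)]) (huc : T.uCom k s = true) (hc : c * c = 1) (hd' : d' * d' = 1)
    (hprod : c * c' * d * d' = 1) (ckp : Com ρ ok k p) (ckw : Com ρ ok k w) (cws : Com ρ ok w s)
    (cps : Com ρ ok p s) (h2 : (2 : F) ≠ 0) : Com ρ ok k s := by
  choose K hK using hl.lift k hk
  choose S hS using hl.lift s hs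
  choose P hP using hl.lift p hp
  choose W hW using hl.lift w hw
  have hcen : ∀ a x, ⁅K a, S x⁆ ∈ Subgroup.center Γ := fun a x => hl.cen (by
    rw [MonoidHom.mem_ker, map_commutatorElement, hK, hS, commutatorElement_eq_one_iff_commute]
    exact ok.toOK.comm_nil hk hs huc a x)
  have hcc : (c : F) * c = 1 := by exact_mod_cast congrArg (fun z : ℤ => (z : F)) hc
  have hdd : (d' : F) * d' = 1 := by exact_mod_cast congrArg (fun z : ℤ => (z : F)) hd'
  have hpp : (c : F) * c' * d * d' = 1 := by exact_mod_cast congrArg (fun z : ℤ => (z : F)) hprod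
  have key : ∀ a x, a ≠ 0 → ⁅K a, S x⁆ = ⁅K a, S x⁆⁻¹ := by
    intro a x ha
    have r1 := hl.pair_move hk hp hs hw hq hpq.1 hpq.2 hkq.1 hkq.2 t1 t2 ckp cws a 1 ((c : F) * x)
      (hK a) (hP 1) (S := S x) (by rw [hS]; congr 1; linear_combination (-x) * hcc) (hW _)
    have r2 := hl.pair_move hk hw hs hp hq' hwq.1 hwq.2 hkq'.1 hkq'.2 t3 t4 ckw cps a
      ((c' : F) * a * ((c : F) * x)) ((d' : F) * a⁻¹) (hK a) (hW _) (S := S x)
      (by rw [hS]; congr 1; field_simp; linear_combination (-x) * hpp)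
      (W := P 1) (by rw [hP]; congr 1; field_simp; linear_combination -hdd)
    conv_lhs => rw [r2, ← commutatorElement_inv, ← r1]
  intro g h t u hg hh
  rw [← commutatorElement_eq_one_iff_mul_comm, hl.congr_comm (hg.trans (hK t).symm) (hh.trans (hS u).symm)]
  rcases eq_or_ne t 0 with rfl | ht
  · rw [hl.congr_comm (a' := 1) (b' := S u) (by rw [hK, map_one, ok.toOK.xG_zero]) rfl, commutatorElement_one_left]
  have h2' : ⁅K t, S u⁆ = ⁅K t, S (u / 2)⁆ * ⁅K t, S (u / 2)⁆ := by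
    rw [← comm_mul_right (Subgroup.mem_center_iff.mp (hcen t (u / 2)) _)]
    exact hl.congr_comm rfl (by rw [map_mul, hS, hS, ok.toOK.xG_mul, show u / 2 + u / 2 = u by field_simp; ring])
  rw [h2']
  nth_rw 2 [key t (u / 2) ht]
  rw [mul_inv_cancel]

end Lifts

end Cfsg.Agent.Chev
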