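import Cfsg.Agent.Lib.Chev.StUnivD4Data
import Cfsg.Agent.Lib.Chev.StUnivSquare
import Cfsg.Agent.Lib.Chev.StMultTor

/-! The universal maps for the type D4 over a field of at least three elements. -/

set_option autoImplicit false
set_option maxRecDepth 100000
set_option synthInstance.maxSize 2048

namespace Cfsg.Agent.Chev

open Cfsg.Lie

namespace Tabs

variable (D : ChevalleyDatum) (T : Tabs)

/-- A cocharacter fixes the first root and moves the second with weight one. -/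
noncomputable def oneWt (V : List (List ℤ)) (r s : ℕ) : Bool :=
  anyL (fun v => andR (ieq (T.dotA D v r) 0) (orR (ieq (T.dotA D v s) 1) (ieq (T.dotA D v s) (-1)))) V

end Tabs

/-- Pairs of orthogonal positive roots, each with two moves to the same other pair. -/
def D4.squareC : List (ℕ × ℕ × ℕ × ℕ × ℕ × ℕ × ℤ × ℤ × ℤ × ℤ) :=
  [(12, 13, 4, 22, 21, 3, -1, 1, 1, -1),
   (12, 18, 7, 22, 21, 6, 1, 1, -1, -1),
   (12, 23, 15, 22, 21, 14, -1, 1, -1, 1),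
   (13, 18, 8, 22, 20, 6, 1, 1, -1, -1),
   (13, 23, 16, 22, 20, 14, -1, 1, -1, 1),
   (14, 17, 5, 23, 22, 4, -1, 1, 1, -1),
   (14, 20, 10, 23, 22, 7, 1, 1, 1, 1),
   (14, 21, 11, 23, 22, 8, 1, 1, 1, 1),
   (15, 16, 5, 23, 21, 3, -1, -1, -1, -1),
   (15, 19, 10, 23, 21, 6, 1, -1, -1, 1),
   (15, 22, 12, 23, 21, 9, 1, -1, -1, 1),
   (16, 19, 11, 23, 20, 6, 1, -1, -1, 1),
   (16, 22, 13, 23, 20, 9, 1, -1, -1, 1),
   (17, 20, 12, 23, 19, 7, 1, 1, 1, 1),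
   (17, 21, 13, 23, 19, 8, 1, 1, 1, 1),
   (18, 23, 19, 22, 17, 14, -1, -1, -1, -1),
   (19, 22, 18, 23, 17, 9, -1, -1, -1, -1),
   (20, 21, 18, 23, 16, 8, -1, 1, 1, -1)]

theorem D4.square_ok : (D4.squareC.all fun (k, s, p, w, q, q', c, c', d, d') =>
    decide ((k < 24 ∧ s < 24 ∧ p < 24 ∧ w < 24 ∧ q < 24 ∧ q' < 24) ∧
      (q ≠ p ∧ q ≠ D4.T.neg p) ∧ (q ≠ k ∧ q ≠ D4.T.neg k) ∧ (q' ≠ w ∧ q' ≠ D4.T.neg w) ∧
      (q' ≠ k ∧ q' ≠ D4.T.neg k) ∧ D4.T.terms p q = [(s, c, 1, 1)] ∧ D4.T.terms k q = [(w, c', 1, 1)] ∧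
      D4.T.terms w q' = [(s, d, 1, 1)] ∧ D4.T.terms k q' = [(p, d', 1, 1)] ∧ D4.T.uCom k s = true ∧
      c * c = 1 ∧ d' * d' = 1 ∧ c * c' * d * d' = 1 ∧
      (D4.T.uCom k p = true ∧ D4.T.oneWt chevD4 D4.univV k p = true) ∧
      (D4.T.uCom k w = true ∧ D4.T.oneWt chevD4 D4.univV k w = true) ∧
      (D4.T.uCom w s = true ∧ D4.T.oneWt chevD4 D4.univV w s = true) ∧
      (D4.T.uCom p s = true ∧ D4.T.oneWt chevD4 D4.univV p s = true))) = true := by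
  decide +kernel

theorem D4.cover_ok : ∀ k < 24, ∀ s < 24, 12 ≤ k → k < s → D4.T.oneWt chevD4 D4.univV k s = true ∨
    (D4.squareC.any fun e => e.1 == k && e.2.1 == s) = true := by decide +kernel

theorem D4.half_eq : Tabs.half chevD4 = 12 ∧ chevD4.nroots = 24 := by decide +kernel

variable {F : Type*} [Field F] {Γ : Type*} [Group Γ] {ρ : Γ →* GL chevD4.Idx F}

theorem D4.exists_one (hl : Lifts D4.okx ρ) {a : F} (ha0 : a ≠ 0) (ha1 : a ≠ 1) {r s : ℕ} (hr : r < chevD4.nroots)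
    (hs : s < chevD4.nroots) (h : D4.T.oneWt chevD4 D4.univV r s = true) :
    ∃ (H : Γ) (b : F), (∀ x < chevD4.nroots, ∃ c, Lifts.TorWt ρ D4.okx H x c) ∧ Lifts.TorWt ρ D4.okx H r 1 ∧
      Lifts.TorWt ρ D4.okx H s b ∧ b ≠ 1 := by
  simp only [Tabs.oneWt, anyL_iff, andR_iff, orR_iff, ieq_iff] at h
  obtain ⟨v, -, h0, h1 | h1⟩ := h
  · obtain ⟨H, hH⟩ := hl.exists_torWt v ha0
    exact ⟨H, a, fun x hx => ⟨_, hH x hx⟩, by simpa [h0] using hH r hr, by simpa [h1] using hH s hs, ha1⟩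
  · obtain ⟨H, hH⟩ := hl.exists_torWt v ha0
    exact ⟨H, a⁻¹, fun x hx => ⟨_, hH x hx⟩, by simpa [h0] using hH r hr, by simpa [h1] using hH s hs,
      by simpa using ha1⟩

theorem univ_D4 [Fintype F] (hF : 3 ≤ Fintype.card F) {S : Type*} [Group S] {y : ℕ → F → S}
    {θ : S →* GL chevD4.Idx F} (st : StHyp D4.okx y θ) (hl : Lifts D4.okx ρ) :
    ∃ φ : chevD4.SteinbergCover F →* Γ, ρ.comp φ = D4.okx.scHom := by
  have hself : ∀ r < chevD4.nroots, Lifts.Com ρ D4.okx r r := fun r hr => by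
    have h := D4.self_ok
    simp only [Tabs.chkSelf, allR_iff] at h
    exact hl.com_fac hr (h r hr) (by simp)
  by_cases h3 : Fintype.card F = 3
  swap
  · exact exists_hom_of_tor st hl D4.w1_ok D4.posPairs_ok D4.words_ok (by omega) (Or.inl (by omega)) hself
  have h2 : (2 : F) ≠ 0 := fun h2 => by
    obtain ⟨p, hp⟩ := CharP.exists F
    obtain ⟨n, hprime, hn⟩ := FiniteField.card F p
    rw [h3] at hn
    have hp3 : p = 3 := ((Nat.prime_dvd_prime_iff_eq hprime (by norm_num)).mp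
      (hn ▸ dvd_pow_self p (PNat.ne_zero n)))
    have h2' : ((2 : ℕ) : F) = 0 := by exact_mod_cast h2
    have := (CharP.cast_eq_zero_iff F p 2).mp h2'
    rw [hp3] at this
    omega
  obtain ⟨a, ha0, ha⟩ := exists_pow_ne_one (F := F) (m := 1) (by omega)
  have ha1 : a ≠ 1 := by simpa using ha 1 one_ne_zero le_rfl
  obtain ⟨Y, tl⟩ := hl.exists_torLifts D4.w1_ok ha0 ha1 hself
  have com1 : ∀ r s, r < chevD4.nroots → s < chevD4.nroots → D4.T.uCom r s = true →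
      D4.T.oneWt chevD4 D4.univV r s = true → Lifts.Com ρ D4.okx r s := by
    intro r s hr hs hu h
    obtain ⟨H, b, -, hHr, hHs, hb⟩ := D4.exists_one hl ha0 ha1 hr hs h
    exact hl.com_tor hr hs hu hHr hHs hb
  obtain ⟨hhalf, hn⟩ := D4.half_eq
  refine hl.exists_hom_tor tl D4.words_ok (tl.exists_wlift ha0 ha1 D4.w1_ok)
    (tl.pos_rel st (fun r hr H b hH => tl.conj_tor ha0 ha1 D4.w1_ok hr hH) fun k s hk hks hs => ?_)
  rw [hhalf] at hk
  rw [hn] at hs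
  rcases D4.cover_ok k (by omega) s hs hk hks with h | h
  · exact Or.inl (D4.exists_one hl ha0 ha1 (hn ▸ (by omega)) (hn ▸ hs) h)
  simp only [List.any_eq_true, Bool.and_eq_true, beq_iff_eq] at h
  obtain ⟨⟨k', s', p, w, q, q', c, c', d, d'⟩, he, rfl, rfl⟩ := h
  obtain ⟨⟨lk, ls, lp, lw, lq, lq'⟩, n1, n2, n3, n4, t1, t2, t3, t4, hu, hc, hd', hpr, a1, a2, a3, a4⟩ :=
    of_decide_eq_true (List.all_eq_true.mp D4.square_ok _ he)
  rw [← hn] at lk ls lp lw lq lq'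
  exact Or.inr ⟨hl.com_square lk ls lp lw lq lq' n1 n2 n3 n4 t1 t2 t3 t4 hu hc hd' hpr (com1 _ _ lk lp a1.1 a1.2)
    (com1 _ _ lk lw a2.1 a2.2) (com1 _ _ lw ls a3.1 a3.2) (com1 _ _ lp ls a4.1 a4.2) h2, hu⟩

end Cfsg.Agent.Chev
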