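import Cfsg.Agent.Lib.Chev.StUnivTorData

/-! Certificates for universality of the presented group of the type D4. -/

set_option autoImplicit false
set_option maxRecDepth 100000

namespace Cfsg.Agent.Chev

open Cfsg.Lie

/-- Cocharacters for the type D4. -/
def D4.univV : List (List ℤ) :=
  [[-1, 0, 0, 0], [0, -1, 0, 0], [0, 0, -1, 0], [0, 0, 0, -1], [0, 0, 0, 1], [0, 0, 1, 0], [0, 1, 0, 0], [1, 0, 0, 0], [-1, -1, 0, 0], [-1, 0, -1, 0], [-1, 0, 0, -1], [-1, 0, 0, 1], [-1, 0, 1, 0], [-1, 1, 0, 0], [0, -1, -1, 0], [0, -1, 0, -1], [0, -1, 0, 1], [0, -1, 1, 0], [0, 0, -1, -1], [0, 0, -1, 1], [0, 0, 1, -1], [0, 0, 1, 1], [0, 1, -1, 0], [0, 1, 0, -1], [0, 1, 0, 1], [0, 1, 1, 0], [1, -1, 0, 0], [1, 0, -1, 0], [1, 0, 0, -1],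 [1, 0, 0, 1], [1, 0, 1, 0], [1, 1, 0, 0], [-1, -1, -1, 0], [-1, -1, 0, -1], [-1, -1, 0, 1], [-1, -1, 1, 0], [-1, 0, -1, -1], [-1, 0, -1, 1], [-1, 0, 1, -1], [-1, 0, 1, 1], [-1, 1, -1, 0], [-1, 1, 0, -1], [-1, 1, 0, 1], [-1, 1, 1, 0], [0, -1, -1, -1], [0, -1, -1, 1], [0, -1, 1, -1], [0, -1, 1, 1], [0, 1, -1, -1], [0, 1, -1, 1], [0, 1, 1, -1], [0, 1, 1, 1], [1, -1, -1, 0], [1, -1, 0, -1], [1, -1, 0, 1], [1, -1, 1, 0], [1, 0, -1, -1], [1, 0, -1, 1], [1, 0, 1, -1], [1, 0, 1, 1], [1, 1, -1, 0], [1, 1, 0, -1], [1, 1, 0, 1], [1, 1, 1, 0], [-1, -1, -1, -1], [-1, -1, -1, 1], [-1, -1, 1, -1], [-1, -1, 1, 1], [-1, 1, -1, -1], [-1, 1, -1, 1], [-1, 1, 1, -1], [-1, 1, 1, 1], [1, -1, -1, -1], [1, -1, -1, 1], [1, -1, 1, -1], [1,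 -1, 1, 1], [1, 1, -1, -1], [1, 1, -1, 1], [1, 1, 1, -1], [1, 1, 1, 1], [0, 2, 0, 1], [0, 2, 1, 0], [1, 2, 0, 0]]

/-- Words carrying the pairs of the type D4 to positive roots. -/
def D4.univW : List (List ℕ) :=
  [[], [0], [1], [2], [3], [1, 0], [2, 0], [3, 0], [0, 1], [2, 1], [3, 1], [1, 2], [3, 2], [1, 3], [0, 1, 0], [2, 1, 0], [3, 1, 0], [1, 2, 0], [3, 2, 0], [1, 3, 0], [2, 0, 1], [3, 0, 1], [1, 2, 1], [3, 2, 1], [1, 3, 1], [0, 1, 2], [3, 1, 2], [1, 3, 2], [0, 1, 3], [2, 1, 3], [2, 0, 1, 0], [3, 0, 1, 0], [1, 2, 1, 0], [3, 2, 1, 0], [1, 3, 1, 0], [0, 1, 2, 0], [3, 1, 2, 0], [1, 3, 2, 0], [0, 1, 3, 0], [2, 1, 3, 0], [1, 2, 0, 1], [3, 2, 0, 1], [1, 3, 0, 1], [0, 1, 2, 1], [3, 1, 2, 1], [1, 3, 2, 1], [0, 1, 3, 1],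 [2, 1, 3, 1], [3, 0, 1, 2], [1, 3, 1, 2], [0, 1, 3, 2], [2, 1, 3, 2], [2, 0, 1, 3], [1, 2, 0, 1, 0], [3, 2, 0, 1, 0], [1, 3, 0, 1, 0], [0, 1, 2, 1, 0], [3, 1, 2, 1, 0], [1, 3, 2, 1, 0], [0, 1, 3, 1, 0], [2, 1, 3, 1, 0], [3, 0, 1, 2, 0], [1, 3, 1, 2, 0], [0, 1, 3, 2, 0], [2, 1, 3, 2, 0], [2, 0, 1, 3, 0], [0, 1, 2, 0, 1], [3, 1, 2, 0, 1], [1, 3, 2, 0, 1], [0, 1, 3, 0, 1], [2, 1, 3, 0, 1], [3, 0, 1, 2, 1], [1, 3, 1, 2, 1], [0, 1, 3, 2, 1], [2, 1, 3, 2, 1], [2, 0, 1, 3, 1], [1, 3, 0, 1, 2], [0, 1, 3, 1, 2], [2, 1, 3, 1, 2], [2, 0, 1, 3, 2], [1, 2, 0, 1, 3], [0, 1, 2, 0, 1, 0], [3, 1, 2, 0, 1, 0], [1, 3, 2, 0, 1, 0], [0, 1, 3, 0, 1, 0], [2, 1, 3, 0, 1, 0], [3, 0, 1, 2, 1, 0], [1, 3, 1, 2, 1, 0], [0, 1, 3, 2, 1, 0], [2,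 1, 3, 2, 1, 0], [2, 0, 1, 3, 1, 0], [1, 3, 0, 1, 2, 0], [0, 1, 3, 1, 2, 0], [2, 1, 3, 1, 2, 0], [2, 0, 1, 3, 2, 0], [1, 2, 0, 1, 3, 0], [3, 0, 1, 2, 0, 1], [1, 3, 1, 2, 0, 1], [0, 1, 3, 2, 0, 1], [2, 1, 3, 2, 0, 1], [2, 0, 1, 3, 0, 1], [1, 3, 0, 1, 2, 1], [0, 1, 3, 1, 2, 1], [2, 1, 3, 1, 2, 1], [2, 0, 1, 3, 2, 1], [1, 2, 0, 1, 3, 1], [0, 1, 3, 0, 1, 2], [2, 1, 3, 0, 1, 2], [2, 0, 1, 3, 1, 2], [1, 2, 0, 1, 3, 2], [3, 1, 2, 0, 1, 3], [3, 0, 1, 2, 0, 1, 0], [1, 3, 1, 2, 0, 1, 0], [0, 1, 3, 2, 0, 1, 0], [2, 1, 3, 2, 0, 1, 0], [2, 0, 1, 3, 0, 1, 0], [1, 3, 0, 1, 2, 1, 0], [0, 1, 3, 1, 2, 1, 0], [2, 1, 3, 1, 2, 1, 0], [2, 0, 1, 3, 2, 1, 0], [1, 2, 0, 1, 3, 1, 0], [0, 1, 3, 0, 1, 2, 0], [2, 1, 3, 0, 1, 2, 0], [2, 0, 1, 3,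 1, 2, 0], [1, 2, 0, 1, 3, 2, 0], [3, 1, 2, 0, 1, 3, 0], [1, 3, 0, 1, 2, 0, 1], [0, 1, 3, 1, 2, 0, 1], [2, 1, 3, 1, 2, 0, 1], [2, 0, 1, 3, 2, 0, 1], [1, 2, 0, 1, 3, 0, 1], [0, 1, 3, 0, 1, 2, 1], [2, 1, 3, 0, 1, 2, 1], [2, 0, 1, 3, 1, 2, 1], [1, 2, 0, 1, 3, 2, 1], [3, 1, 2, 0, 1, 3, 1], [2, 0, 1, 3, 0, 1, 2], [1, 2, 0, 1, 3, 1, 2], [3, 1, 2, 0, 1, 3, 2], [1, 3, 0, 1, 2, 0, 1, 0], [0, 1, 3, 1, 2, 0, 1, 0], [2, 1, 3, 1, 2, 0, 1, 0], [2, 0, 1, 3, 2, 0, 1, 0], [1, 2, 0, 1, 3, 0, 1, 0], [0, 1, 3, 0, 1, 2, 1, 0], [2, 1, 3, 0, 1, 2, 1, 0], [2, 0, 1, 3, 1, 2, 1, 0], [1, 2, 0, 1, 3, 2, 1, 0], [3, 1, 2, 0, 1, 3, 1, 0], [2, 0, 1, 3, 0, 1, 2, 0], [1, 2, 0, 1, 3, 1, 2, 0], [3, 1, 2, 0, 1, 3, 2, 0], [0, 1, 3, 0, 1, 2, 0, 1], [2,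 1, 3, 0, 1, 2, 0, 1], [2, 0, 1, 3, 1, 2, 0, 1], [1, 2, 0, 1, 3, 2, 0, 1], [3, 1, 2, 0, 1, 3, 0, 1], [2, 0, 1, 3, 0, 1, 2, 1], [1, 2, 0, 1, 3, 1, 2, 1], [3, 1, 2, 0, 1, 3, 2, 1], [1, 2, 0, 1, 3, 0, 1, 2], [3, 1, 2, 0, 1, 3, 1, 2], [0, 1, 3, 0, 1, 2, 0, 1, 0], [2, 1, 3, 0, 1, 2, 0, 1, 0], [2, 0, 1, 3, 1, 2, 0, 1, 0], [1, 2, 0, 1, 3, 2, 0, 1, 0], [3, 1, 2, 0, 1, 3, 0, 1, 0], [2, 0, 1, 3, 0, 1, 2, 1, 0], [1, 2, 0, 1, 3, 1, 2, 1, 0], [3, 1, 2, 0, 1, 3, 2, 1, 0], [1, 2, 0, 1, 3, 0, 1, 2, 0], [3, 1, 2, 0, 1, 3, 1, 2, 0], [2, 0, 1, 3, 0, 1, 2, 0, 1], [1, 2, 0, 1, 3, 1, 2, 0, 1], [3, 1, 2, 0, 1, 3, 2, 0, 1], [1, 2, 0, 1, 3, 0, 1, 2, 1], [3, 1, 2, 0, 1, 3, 1, 2, 1], [3, 1, 2, 0, 1, 3, 0, 1, 2], [2, 0, 1, 3, 0, 1, 2, 0, 1, 0],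 [1, 2, 0, 1, 3, 1, 2, 0, 1, 0], [3, 1, 2, 0, 1, 3, 2, 0, 1, 0], [1, 2, 0, 1, 3, 0, 1, 2, 1, 0], [3, 1, 2, 0, 1, 3, 1, 2, 1, 0], [3, 1, 2, 0, 1, 3, 0, 1, 2, 0], [1, 2, 0, 1, 3, 0, 1, 2, 0, 1], [3, 1, 2, 0, 1, 3, 1, 2, 0, 1], [3, 1, 2, 0, 1, 3, 0, 1, 2, 1], [1, 2, 0, 1, 3, 0, 1, 2, 0, 1, 0], [3, 1, 2, 0, 1, 3, 1, 2, 0, 1, 0], [3, 1, 2, 0, 1, 3, 0, 1, 2, 1, 0], [3, 1, 2, 0, 1, 3, 0, 1, 2, 0, 1], [3, 1, 2, 0, 1, 3, 0, 1, 2, 0, 1, 0]]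

theorem D4.w1_ok : Tabs.chkW1 chevD4 D4.T D4.univV = true := by decide +kernel

theorem D4.posPairs_ok : Tabs.chkPosPairs chevD4 D4.T D4.univV 2 false = true := by decide +kernel

theorem D4.words_ok : Tabs.chkWords chevD4 D4.T D4.univW = true := by decide +kernel

theorem D4.self_ok : Tabs.chkSelf chevD4 D4.T = true := by decide +kernel

end Cfsg.Agent.Chev
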