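import Cfsg.Agent.Lib.Chev.StUniv
import Cfsg.Agent.Lib.Chev.AllX

/-! Certificates for universality of the presented groups of the types E6, E7 and E8. -/

set_option autoImplicit false
set_option maxRecDepth 100000

namespace Cfsg.Agent.Chev

open Cfsg.Lie

/-- The certificate for the type E6. -/
def E6.univC : List ((ℕ × ℕ × ℕ × ℕ × ℕ) × List (ℕ × ℕ × Option (ℕ × ℕ))) :=
  [((56, 16, 66, 37, 65), [(16, 66, none), (16, 66, some (38, 64)), (16, 66, some (40, 63)), (16, 66, some (41,
  62)), (16, 66, some (48, 60)), (16, 66, some (49, 59)), (16, 66, some (69, 29)), (16, 66, some (70, 28)), (16, 66,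
  some (71, 21)), (17, 65, none), (17, 65, some (41, 61)), (17, 65, some (49, 58)), (17, 65, some (70, 27)), (17,
  65, some (71, 20)), (66, 16, some (2, 57)), (66, 16, some (23, 26)), (66, 16, some (31, 19)), (66, 16, some (33,
  18))])]

theorem E6.univ_ok : Tabs.chkUniv chevE6 E6.T E6.univC = true := by decide +kernel

/-- The certificate for the type E7. -/
def E7.univC : List ((ℕ × ℕ × ℕ × ℕ × ℕ) × List (ℕ × ℕ × Option (ℕ × ℕ))) :=
  [((93, 1, 125, 109, 108), [(1, 125, none), (1, 125, some (110, 107)), (1, 125, some (111, 106)), (1, 125, some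
  (112, 105)), (1, 125, some (113, 104)), (1, 125, some (114, 103)), (1, 125, some (115, 102)), (1, 125, some (116,
  101)), (1, 125, some (117, 100)), (1, 125, some (118, 99)), (1, 125, some (119, 98)), (1, 125, some (120, 97)),
  (1, 125, some (121, 96)), (1, 125, some (122, 95)), (1, 125, some (123, 94)), (33, 108, none), (33, 108, some
  (114, 52)), (33, 108, some (117, 51)), (33, 108, some (118, 50)), (33, 108, some (121, 42)), (33, 108, some (122,
  41)), (33, 108, some (123, 38)), (125, 1, some (5, 49)), (125, 1, some (6, 48)), (125, 1, some (9, 40)), (125, 1,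
  some (10, 39)), (125, 1, some (12, 37)), (125, 1, some (13, 36)), (125, 1, some (14, 35)), (125, 1, some (15,
  34))])]

theorem E7.univ_ok : Tabs.chkUniv chevE7 E7.T E7.univC = true := by decide +kernel

/-- The certificate for the type E8. -/
def E8.univC : List ((ℕ × ℕ × ℕ × ℕ × ℕ) × List (ℕ × ℕ × Option (ℕ × ℕ))) :=
  [((162, 14, 233, 141, 231), [(14, 233, none), (14, 233, some (142, 230)), (14, 233, some (143, 229)), (14, 233,
  some (144, 228)), (14, 233, some (145, 227)), (14, 233, some (146, 226)), (14, 233, some (204, 183)), (14, 233,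
  some (205, 182)), (14, 233, some (206, 181)), (14, 233, some (207, 180)), (14, 233, some (208, 179)), (14, 233,
  some (209, 178)), (14, 233, some (210, 177)), (14, 233, some (211, 176)), (14, 233, some (212, 175)), (14, 233,
  some (213, 174)), (14, 233, some (214, 173)), (14, 233, some (215, 172)), (14, 233, some (216, 171)), (14, 233,
  some (217, 170)), (14, 233, some (218, 169)), (14, 233, some (234, 104)), (14, 233, some (235, 103)), (14, 233,
  some (236, 102)), (14, 233, some (237, 101)), (14, 233, some (238, 100)), (14, 233, some (239, 99)), (15, 231,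
  none), (15, 231, some (214, 168)), (15, 231, some (215, 167)), (15, 231, some (216, 166)), (15, 231, some (217,
  165)), (15, 231, some (218, 164)), (15, 231, some (235, 92)), (15, 231, some (236, 91)), (15, 231, some (237,
  90)), (15, 231, some (238, 89)), (15, 231, some (239, 88)), (233, 14, some (5, 163)), (233, 14, some (26, 87)),
  (233, 14, some (27, 86)), (233, 14, some (28, 85)), (233, 14, some (29, 84)), (233, 14, some (30, 83)), (233, 14,
  some (31, 82)), (233, 14, some (32, 81)), (233, 14, some (33, 80)), (233, 14, some (34, 79)), (233, 14, some (35,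
  78)), (233, 14, some (93, 20)), (233, 14, some (94, 19)), (233, 14, some (95, 18)), (233, 14, some (96, 17)),
  (233, 14, some (97, 16))])]

theorem E8.univ_ok : Tabs.chkUniv chevE8 E8.T E8.univC = true := by decide +kernel

end Cfsg.Agent.Chev
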