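import Cfsg.Agent.Lib.Chev.StUnivB2
import Cfsg.Agent.Lib.Chev.StUnivD4Data
import Cfsg.Agent.Lib.Chev.StMult

/-! The universal maps over an arbitrary field with more than four elements, and what they give. -/

set_option autoImplicit false

namespace Cfsg.Agent.Chev

open Cfsg.Lie
open scoped commutatorElement

variable {F : Type*} [Field F] {D : ChevalleyDatum} {T : Tabs} {ok : OKX D T} {Γ : Type*} [Group Γ]
  {ρ : Γ →* GL D.Idx F}

/-- An element whose powers of small exponent are not one, over any field that is large enough. -/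
theorem exists_pow_ne_one_field {m : ℕ} (hm : m ≤ 3) (hF : ∃ s : Finset F, 4 < s.card) :
    ∃ x : F, x ≠ 0 ∧ ∀ d : ℤ, d ≠ 0 → d.natAbs ≤ m → x ^ d ≠ 1 := by
  classical
  obtain ⟨s, hs⟩ := hF
  by_cases hf : Finite F
  · have := Fintype.ofFinite F
    exact exists_pow_ne_one (by have := Finset.card_le_univ s; omega)
  have : Infinite F := not_finite_iff_infinite.mp hf
  obtain ⟨x, hx⟩ := Infinite.exists_notMem_finset
    (insert (0 : F) ((Finset.range (m + 1)).biUnion fun d => (Polynomial.nthRoots d (1 : F)).toFinset))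
  simp only [Finset.mem_insert, Finset.mem_biUnion, Finset.mem_range, Multiset.mem_toFinset, not_or, not_exists,
    not_and] at hx
  refine ⟨x, hx.1, fun d hd hdm e => ?_⟩
  have hd' : 0 < d.natAbs := by omega
  refine hx.2 d.natAbs (by omega) ((Polynomial.mem_nthRoots hd').mpr ?_)
  rcases Int.natAbs_eq d with h | h <;> rw [h] at e
  · rwa [zpow_natCast] at e
  · rwa [zpow_neg, inv_eq_one, zpow_natCast] at e

theorem exists_unit_quadratic_field (hF : ∃ s : Finset F, 4 < s.card) :
    ∃ b : F, b ≠ 0 ∧ b ≠ 1 ∧ b * b - b + 1 ≠ 0 := by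
  classical
  obtain ⟨t, ht⟩ := hF
  by_contra hc
  push Not at hc
  have h3 : 3 ≤ ((t.erase (0 : F)).erase 1).card := by
    have := Finset.pred_card_le_card_erase (s := t) (a := (0 : F))
    have := Finset.pred_card_le_card_erase (s := t.erase 0) (a := (1 : F))
    omega
  obtain ⟨s, hs, hs3⟩ := Finset.exists_subset_card_eq h3
  obtain ⟨x, y, z, hxy, hxz, hyz, rfl⟩ := Finset.card_eq_three.mp hs3
  have hr : ∀ w ∈ ({x, y, z} : Finset F), w * w - w + 1 = 0 := by
    intro w hw
    have := hs hw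
    simp only [Finset.mem_erase] at this
    exact hc w this.2.1 this.1
  have e : ∀ p q : F, p ≠ q → p * p - p + 1 = 0 → q * q - q + 1 = 0 → p + q = 1 := by
    intro p q hpq hp hq
    have : (p - q) * (p + q - 1) = 0 := by linear_combination hp - hq
    rcases mul_eq_zero.mp this with h | h
    · exact absurd (sub_eq_zero.mp h) hpq
    · linear_combination h
  have e1 := e x y hxy (hr x (by simp)) (hr y (by simp))
  have e2 := e x z hxz (hr x (by simp)) (hr z (by simp))
  exact hyz (by linear_combination e1 - e2)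

theorem exists_hom_of_wt {S : Type*} [Group S] {y : ℕ → F → S} {θ : S →* GL D.Idx F} (st : StHyp ok y θ)
    (hl : Lifts ok ρ) {V : List (List ℤ)} (hV : T.chkW1 D V = true) {m : ℕ} {fac : Bool}
    (hP : T.chkPosPairs D V m fac = true) {W : List (List ℕ)} (hW : T.chkWords D W = true) {x : F} (hx0 : x ≠ 0)
    (hm : 1 ≤ m) (hx : ∀ d : ℤ, d ≠ 0 → d.natAbs ≤ m → x ^ d ≠ 1)
    (hself : ∀ r < D.nroots, Lifts.Com ρ ok r r) : ∃ φ : D.SteinbergCover F →* Γ, ρ.comp φ = ok.scHom := by
  have hx1 : x ≠ 1 := by simpa using hx 1 one_ne_zero hm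
  obtain ⟨Y, tl⟩ := hl.exists_torLifts hV hx0 hx1 hself
  refine hl.exists_hom_tor tl hW (tl.exists_wlift hx0 hx1 hV)
    (tl.pos_rel st (fun r hr H b hH => tl.conj_tor hx0 hx1 hV hr hH) ?_)
  intro k s hk hks hs
  simp only [Tabs.chkPosPairs, allR_iff, orR_iff, nlt_iff, notR_iff, nlt_false_iff, anyL_iff, andR_iff, ieq_iff,
    Nat.beq_eq, Nat.add_eq] at hP
  rcases hP k (by omega) with h | h
  · omega
  rcases h s hs with h | ⟨v, -, h0, hne, hle, -⟩
  · omega
  have hne' : T.dotA D v s ≠ 0 := fun e => by rw [ieq_iff.mpr e] at hne; exact absurd hne (by simp)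
  obtain ⟨H, hH⟩ := hl.exists_torWt v hx0
  refine Or.inl ⟨H, _, fun r hr => ⟨_, hH r hr⟩, ?_, hH s hs, hx _ hne' (by omega)⟩
  have := hH k (by omega)
  rwa [h0, zpow_zero] at this

/-- Two maps from a perfect group that differ by central elements are equal. -/
theorem hom_eq_of_central {C H : Type*} [Group C] [Group H] (htop : commutator C = ⊤) (f g : C →* H)
    (hd : ∀ a, (g a)⁻¹ * f a ∈ Subgroup.center H) : f = g := by
  refine MonoidHom.ext fun x => ?_
  suffices commutator C ≤ f.eqLocus g by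
    rw [htop] at this
    exact this (Subgroup.mem_top x)
  rw [commutator_def, Subgroup.commutator_le]
  intro a _ b _
  show f ⁅a, b⁆ = g ⁅a, b⁆
  have hz := Subgroup.mem_center_iff.mp (hd a)
  have hw := Subgroup.mem_center_iff.mp (hd b)
  rw [map_commutatorElement, map_commutatorElement, show f a = g a * ((g a)⁻¹ * f a) by rw [mul_inv_cancel_left],
    show f b = g b * ((g b)⁻¹ * f b) by rw [mul_inv_cancel_left]]
  generalize (g a)⁻¹ * f a = z at hz
  generalize (g b)⁻¹ * f b = w at hw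
  simp only [commutatorElement_def, mul_inv_rev]
  calc g a * z * (g b * w) * (z⁻¹ * (g a)⁻¹) * (w⁻¹ * (g b)⁻¹)
      = g a * ((g b * w) * z) * (z⁻¹ * (g a)⁻¹) * (w⁻¹ * (g b)⁻¹) := by rw [hz (g b * w)]; simp only [mul_assoc]
    _ = g a * g b * ((g a)⁻¹ * w) * (w⁻¹ * (g b)⁻¹) := by rw [hw (g a)⁻¹]; simp [mul_assoc]
    _ = g a * g b * (g a)⁻¹ * (g b)⁻¹ := by simp [mul_assoc]

/-- Universality, from the maps into central extensions of the matrix group. -/
theorem existsUnique_lift_of_hom {F : Type*} [Field F] {D : ChevalleyDatum} {T : Tabs} (ok : OKX D T)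
    (hker : ok.scHom.ker ≤ Subgroup.center (D.SteinbergCover F)) (htop : commutator (D.SteinbergCover F) = ⊤)
    {G₁ E : Type*} [Group G₁] [Group E] (π₁ : E →* G₁) (hπ : Function.Surjective π₁)
    (hc : π₁.ker ≤ Subgroup.center E) (σ : D.SteinbergCover F →* G₁)
    (huniv : ∀ (Γ : Subgroup (D.SteinbergCover F × E)) (ρ : ↥Γ →* GL D.Idx F), Lifts ok ρ →
      ∃ φ : D.SteinbergCover F →* ↥Γ, ρ.comp φ = ok.scHom) :
    ∃! τ : D.SteinbergCover F →* E, π₁.comp τ = σ := by
  let Γ : Subgroup (D.SteinbergCover F × E) :=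
    MonoidHom.eqLocus (σ.comp (MonoidHom.fst _ _)) (π₁.comp (MonoidHom.snd _ _))
  let p : ↥Γ →* D.SteinbergCover F := (MonoidHom.fst _ _).comp Γ.subtype
  have hΓ : ∀ g : ↥Γ, σ (p g) = π₁ (g : D.SteinbergCover F × E).2 := fun g => g.2
  have hp : Function.Surjective p := fun d => by
    obtain ⟨e, he⟩ := hπ (σ d)
    exact ⟨⟨(d, e), he.symm⟩, rfl⟩
  have hpker : ∀ g : ↥Γ, p g = 1 → ∀ a : ↥Γ, a * g = g * a := by
    intro g hg a
    have h2 : (g : D.SteinbergCover F × E).2 ∈ π₁.ker := by rw [MonoidHom.mem_ker, ← hΓ, hg, map_one]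
    refine Subtype.ext (Prod.ext ?_ (Subgroup.mem_center_iff.mp (hc h2) _))
    show p a * p g = p g * p a
    rw [hg, mul_one, one_mul]
  let ρ : ↥Γ →* GL D.Idx F := ok.scHom.comp p
  have hcen : ρ.ker ≤ Subgroup.center ↥Γ := by
    intro g hg
    have hgz := Subgroup.mem_center_iff.mp (hker (show p g ∈ ok.scHom.ker from hg))
    have hz : ∀ x, ∀ a : ↥Γ, a * ⁅x, g⁆ = ⁅x, g⁆ * a := fun x => hpker _ (by
      rw [map_commutatorElement, commutatorElement_eq_one_iff_mul_comm]; exact hgz _)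
    have hmul : ∀ x y, ⁅x * y, g⁆ = ⁅x, g⁆ * ⁅y, g⁆ := fun x y => by
      rw [show ⁅x * y, g⁆ = x * ⁅y, g⁆ * x⁻¹ * ⁅x, g⁆ by simp [commutatorElement_def, mul_assoc],
        hz y x, mul_inv_cancel_right]
      exact (hz y _).symm
    let χ : ↥Γ →* Subgroup.center ↥Γ :=
      MonoidHom.mk' (fun x => ⟨⁅x, g⁆, Subgroup.mem_center_iff.mpr (hz x)⟩) fun x y => Subtype.ext (hmul x y)
    rw [Subgroup.mem_center_iff]
    intro x
    -- the group is generated by commutators and the kernel of the projection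
    have hx : p x ∈ (commutator ↥Γ).map p := by
      rw [commutator_def, Subgroup.map_commutator, Subgroup.map_top_of_surjective p hp, ← commutator_def, htop]
      trivial
    obtain ⟨c, hcm, ec⟩ := hx
    have hcχ : commutator ↥Γ ≤ χ.ker := by
      rw [commutator_def, Subgroup.commutator_le]
      intro a _ b _
      rw [MonoidHom.mem_ker, map_commutatorElement, commutatorElement_eq_one_iff_mul_comm]
      exact Subtype.ext ((Subgroup.mem_center_iff.mp (χ a).2 _).symm)
    have h1 : ⁅c, g⁆ = 1 := congrArg Subtype.val (MonoidHom.mem_ker.mp (hcχ hcm))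
    have hk := hpker (c⁻¹ * x) (by rw [map_mul, map_inv, ec, inv_mul_cancel]) g
    have h2 := hmul c (c⁻¹ * x)
    rw [mul_inv_cancel_left, h1, one_mul, commutatorElement_eq_one_iff_mul_comm.mpr hk.symm] at h2
    exact commutatorElement_eq_one_iff_mul_comm.mp h2
  have hl : Lifts ok ρ := ⟨hcen, fun r hr t => by
    obtain ⟨g, hg⟩ := hp (D.scGen F r t)
    exact ⟨g, by simp [ρ, hg, ok.scHom_gen hr t]⟩⟩
  obtain ⟨φ, hφ⟩ := huniv Γ ρ hl
  have hpφ : p.comp φ = MonoidHom.id _ := hom_eq_of_central htop _ _ fun a => hker (by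
    rw [MonoidHom.mem_ker, map_mul, map_inv]
    have := DFunLike.congr_fun hφ a
    simp only [MonoidHom.comp_apply, ρ] at this
    simp [this])
  refine ⟨(MonoidHom.snd _ _).comp (Γ.subtype.comp φ), MonoidHom.ext fun a => ?_, fun τ hτ => hom_eq_of_central htop _ _ fun a => hc ?_⟩
  · show π₁ (φ a : D.SteinbergCover F × E).2 = σ a
    rw [← hΓ]
    exact congrArg σ (DFunLike.congr_fun hpφ a)
  · rw [MonoidHom.mem_ker, map_mul, map_inv]
    have h1 := DFunLike.congr_fun hτ a
    simp only [MonoidHom.comp_apply] at h1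
    rw [h1, inv_mul_eq_one]
    show π₁ (φ a : D.SteinbergCover F × E).2 = σ a
    rw [← hΓ]
    exact congrArg σ (DFunLike.congr_fun hpφ a)

end Cfsg.Agent.Chev
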