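import Cfsg.Agent.Lib.Chev.StUnivTor

/-!
Universality through the torus when some roots only have weights that are squares: commuting of lifts from torus
elements and from the commutator formulas, and the normalised lifts for arbitrary non-trivial weights.
-/

set_option autoImplicit false

namespace Cfsg.Agent.Chev

open Cfsg.Lie
open scoped commutatorElement

variable {F : Type*} [Field F] {D : ChevalleyDatum} {T : Tabs}

namespace Lifts

variable {ok : OKX D T} {Γ : Type*} [Group Γ] {ρ : Γ →* GL D.Idx F}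

/-- Every root is moved by a torus element. -/
def HasWt (ρ : Γ →* GL D.Idx F) (ok : OKX D T) : Prop :=
  ∀ r < D.nroots, ∃ (H : Γ) (b : F), TorWt ρ ok H r b ∧ b ≠ 1

theorem com_symm {r s : ℕ} (h : Com ρ ok r s) : Com ρ ok s r := fun g g' t u hg hg' => (h g' g u t hg' hg).symm

/-- A torus element fixing one root and moving the other makes commuting roots lift to commuting elements. -/
theorem com_tor (hl : Lifts ok ρ) {r s : ℕ} (hr : r < D.nroots) (hs : s < D.nroots) (hc : T.uCom r s = true) {H : Γ}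
    {b : F} (hHr : TorWt ρ ok H r 1) (hHs : TorWt ρ ok H s b) (hb : b ≠ 1) : Com ρ ok r s := by
  choose A hA using hl.lift r hr
  choose B hB using hl.lift s hs
  have hcen : ∀ t u, ⁅A t, B u⁆ ∈ Subgroup.center Γ := fun t u => hl.cen (by
    rw [MonoidHom.mem_ker, map_commutatorElement, hA, hB, commutatorElement_eq_one_iff_commute]
    exact ok.toOK.comm_nil hr hs hc t u)
  have hcg : ∀ t u (g : Γ), g * ⁅A t, B u⁆ = ⁅A t, B u⁆ * g := fun t u g => Subgroup.mem_center_iff.mp (hcen t u) g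
  have hinv : ∀ t u, ⁅A t, B (b * u)⁆ = ⁅A t, B u⁆ := by
    intro t u
    have e : H * ⁅A t, B u⁆ * H⁻¹ = ⁅A t, B (b * u)⁆ := by
      rw [conj_comm]
      refine hl.congr_comm ?_ ?_
      · rw [map_mul, map_mul, map_inv, hA, hHr.2, one_mul]
      · rw [map_mul, map_mul, map_inv, hB, hB, hHs.2]
    rw [← e, hcg, mul_inv_cancel_right]
  have hone : ∀ t u, ⁅A t, B u⁆ = 1 := by
    intro t u
    have hb' : b - 1 ≠ 0 := sub_ne_zero.mpr hb
    have e : ⁅A t, B (b * (u / (b - 1)))⁆ = ⁅A t, B (u / (b - 1))⁆ * ⁅A t, B u⁆ := by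
      rw [← comm_mul_right (hcg t u _)]
      refine hl.congr_comm rfl ?_
      rw [map_mul, hB, hB, hB, ok.toOK.xG_mul]
      congr 1; field_simp; ring
    rw [hinv, left_eq_mul] at e
    exact e
  intro g h t u hg hh
  rw [← commutatorElement_eq_one_iff_mul_comm, hl.congr_comm (hg.trans (hA t).symm) (hh.trans (hB u).symm)]
  exact hone t u

/-- The word of a pair is a commutator. -/
theorem word_comm {p q : ℕ} (ok : OKX D T) (hp : p < D.nroots) (hq : q < D.nroots) (h1 : q ≠ p) (h2 : q ≠ T.neg p)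
    (t u : F) : ok.toOK.wordG (D.commWord F p q t u) = ⁅ok.toOK.xG q (-u), ok.toOK.xG p (-t)⁆ := by
  have e : ok.toOK.xG q u * ok.toOK.xG p t =
      ok.toOK.xG p t * ok.toOK.xG q u * ok.toOK.wordG (D.commWord F p q t u) := by
    refine Units.ext ?_
    rw [Units.val_mul, Units.val_mul, Units.val_mul, OK.coe_xG, OK.coe_xG, OK.coe_wordG]
    exact ok.toOK.comm hp hq h1 (by rwa [ok.toOK.neg_eq hp]) t u
  rw [commutatorElement_def, ← ok.toOK.xG_inv, ← ok.toOK.xG_inv, inv_inv, inv_inv, mul_assoc, e]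
  simp [mul_assoc]

/-- The terms of a pair, as a product of two root elements. -/
theorem word_two {p q w r i j k l : ℕ} {c d : ℤ} (ok : OKX D T) (hp : p < D.nroots) (hq : q < D.nroots) (h1 : q ≠ p)
    (h2 : q ≠ T.neg p) (hterm : T.terms p q = [(w, c, i, j), (r, d, k, l)]) (t u : F) :
    ⁅ok.toOK.xG q (-u), ok.toOK.xG p (-t)⁆ =
      ok.toOK.xG w ((c : F) * (-t) ^ i * u ^ j) * ok.toOK.xG r ((d : F) * (-t) ^ k * u ^ l) := by
  rw [← word_comm ok hp hq h1 h2]
  simp [OK.wordG, ChevalleyDatum.commWord, ok.toOK.terms_eq hp hq, hterm]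

/-- A root that is the second term of a pair with all the rest commuting with it. -/
theorem com_second (hl : Lifts ok ρ) {p q w r k : ℕ} {c d : ℤ} (hp : p < D.nroots) (hq : q < D.nroots)
    (hw : w < D.nroots) (hr : r < D.nroots) (h1 : q ≠ p) (h2 : q ≠ T.neg p)
    (hterm : T.terms p q = [(w, c, 1, 1), (r, d, 1, k)] ∨ T.terms p q = [(w, c, 1, 1), (r, d, k, 1)])
    (hd : d = 1 ∨ d = -1) (cp : Com ρ ok r p) (cq : Com ρ ok r q) (cw : Com ρ ok r w) : Com ρ ok r r := by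
  intro g h t u hg hh
  have hdd : (d : F) * d = 1 := by rcases hd with rfl | rfl <;> simp
  obtain ⟨t₀, u₀, hz⟩ : ∃ t₀ u₀ : F, ∀ wc : F, wc = (c : F) * (-t₀) ^ 1 * u₀ ^ 1 →
      ⁅ok.toOK.xG q (-u₀), ok.toOK.xG p (-t₀)⁆ = ok.toOK.xG w wc * ok.toOK.xG r u := by
    rcases hterm with h | h
    · refine ⟨-((d : F) * u), 1, fun wc e => ?_⟩
      rw [word_two ok hp hq h1 h2 h, e]
      simp [← mul_assoc, hdd]
    · refine ⟨-1, (d : F) * u, fun wc e => ?_⟩
      rw [word_two ok hp hq h1 h2 h, e]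
      simp [← mul_assoc, hdd]
  obtain ⟨P, hP⟩ := hl.lift p hp (-t₀)
  obtain ⟨Q, hQ⟩ := hl.lift q hq (-u₀)
  obtain ⟨W, hW⟩ := hl.lift w hw ((c : F) * (-t₀) ^ 1 * u₀ ^ 1)
  obtain ⟨z, hzc, e⟩ := hl.center_factor (a := ⁅Q, P⁆) (a' := W * h) (by
    rw [map_commutatorElement, hQ, hP, map_mul, hW, hh, hz _ rfl])
  have cP : Commute g P := cp g P _ _ hg hP
  have cQ : Commute g Q := cq g Q _ _ hg hQ
  have cW : Commute g W := cw g W _ _ hg hW
  have cz : Commute g z := Subgroup.mem_center_iff.mp hzc g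
  have c1 : Commute g ⁅Q, P⁆ := by
    rw [commutatorElement_def]; exact ((cQ.mul_right cP).mul_right cQ.inv_right).mul_right cP.inv_right
  rw [show h = W⁻¹ * ⁅Q, P⁆ * z⁻¹ by rw [e]; simp [mul_assoc]]
  exact (cW.inv_right.mul_right c1).mul_right cz.inv_right

/-- A root that is the first term of a pair, the second factor moving inside a root commuting with all. -/
theorem com_first (hl : Lifts ok ρ) {p q r o l i j : ℕ} {c d c' : ℤ} (hp : p < D.nroots) (hq : q < D.nroots)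
    (hr : r < D.nroots) (ho : o < D.nroots) (hlt : l < D.nroots) (h1 : q ≠ p) (h2 : q ≠ T.neg p)
    (h1' : q ≠ r) (h2' : q ≠ T.neg r) (hterm : T.terms p q = [(r, c, 1, 1), (o, d, i, j)])
    (hterm' : T.terms r q = [(l, c', 1, 1)]) (hc : c = 1 ∨ c = -1) (cp : Com ρ ok r p) (co : Com ρ ok r o)
    (clp : Com ρ ok l p) (clr : Com ρ ok l r) (clo : Com ρ ok l o) : Com ρ ok r r := by
  intro g h t u hg hh
  have hcc : (c : F) * c = 1 := by rcases hc with rfl | rfl <;> simp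
  set t₀ : F := -((c : F) * u) with ht₀
  obtain ⟨P, hP⟩ := hl.lift p hp (-t₀)
  obtain ⟨Q, hQ⟩ := hl.lift q hq (-1)
  obtain ⟨O, hO⟩ := hl.lift o ho ((d : F) * (-t₀) ^ i * (1 : F) ^ j)
  obtain ⟨z, hzc, e⟩ := hl.center_factor (a := ⁅Q, P⁆) (a' := h * O) (by
    rw [map_commutatorElement, hQ, hP, map_mul, hh, hO, word_two ok hp hq h1 h2 hterm]
    rw [show (c : F) * (-t₀) ^ 1 * (1 : F) ^ 1 = u by rw [ht₀]; linear_combination u * hcc])
  have cP : Commute g P := cp g P _ _ hg hP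
  have cO : Commute g O := co g O _ _ hg hO
  have cz : Commute g z := Subgroup.mem_center_iff.mp hzc g
  obtain ⟨L, hL⟩ := hl.lift l hlt ((c' : F) * t * -1)
  have cL : Commute L P := clp L P _ _ hL hP
  have eQ : ρ (g * Q * g⁻¹) = ρ (L * Q) := by
    have := ok.toOK.comm_single hr hq h1' h2' hterm' t (-1)
    rw [commutatorElement_def] at this
    rw [map_mul, map_mul, map_inv, map_mul, hg, hQ, hL, ← this]
    group
  have c1 : Commute g ⁅Q, P⁆ := by
    have e1 : g * ⁅Q, P⁆ * g⁻¹ = ⁅L * Q, P⁆ := by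
      rw [conj_comm]
      exact hl.congr_comm eQ (by rw [show g * P * g⁻¹ = P by rw [cP.eq, mul_inv_cancel_right]])
    have cLc : Commute L ⁅Q, P⁆ := by
      rw [e]
      exact (Commute.mul_right (clr L h _ _ hL hh) (clo L O _ _ hL hO)).mul_right
        (Subgroup.mem_center_iff.mp hzc L)
    have e2 : ⁅L * Q, P⁆ = L * ⁅Q, P⁆ * L⁻¹ * ⁅L, P⁆ := by simp [commutatorElement_def, mul_assoc]
    rw [e2, commutatorElement_eq_one_iff_commute.mpr cL, mul_one, cLc.eq, mul_inv_cancel_right] at e1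
    exact mul_inv_eq_iff_eq_mul.mp e1
  rw [show h = ⁅Q, P⁆ * z⁻¹ * O⁻¹ by rw [e]; simp [mul_assoc]]
  exact (c1.mul_right cz.inv_right).mul_right cO.inv_right

theorem exists_torLifts_of (hl : Lifts ok ρ) (hw : HasWt ρ ok) (hself : ∀ r < D.nroots, Com ρ ok r r) : ∃ Y, TorLifts hl Y := by
  choose H0 a hH0 ha1 using hw
  choose L hL using hl.lift
  have ha : ∀ r (hr : r < D.nroots), a r hr - 1 ≠ 0 := fun r hr => sub_ne_zero.mpr (ha1 r hr)
  let Y : ℕ → F → Γ := fun r t => if hr : r < D.nroots then ⁅H0 r hr, L r hr (t / (a r hr - 1))⁆ else 1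
  have himg : ∀ r < D.nroots, ∀ (H X : Γ) (b x : F), TorWt ρ ok H r b → ρ X = ok.toOK.xG r x →
      ρ ⁅H, X⁆ = ok.toOK.xG r ((b - 1) * x) := by
    intro r _ H X b x hH hX
    rw [map_commutatorElement, hX, commutatorElement_def, hH.2, ok.toOK.xG_inv, ok.toOK.xG_mul]
    congr 1; ring
  have fadd : ∀ r (hr : r < D.nroots) (H : Γ) (b : F), TorWt ρ ok H r b → ∀ x x' : F,
      ⁅H, L r hr (x + x')⁆ = ⁅H, L r hr x⁆ * ⁅H, L r hr x'⁆ := by
    intro r hr H b hH x x'
    rw [← comm_mul_right (hself r hr _ _ _ _ (hL r hr x) (himg r hr H _ b x' hH (hL r hr x')))]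
    exact hl.congr_comm rfl (by rw [map_mul, hL, hL, hL, ok.toOK.xG_mul])
  refine ⟨Y, ⟨fun r hr t => ?_, fun r hr t u => ?_, ?_⟩⟩
  · simp only [Y, dif_pos hr]
    rw [himg r hr _ _ (a r hr) _ (hH0 r hr) (hL r hr _)]
    congr 1; have := ha r hr; field_simp
  · simp only [Y, dif_pos hr]
    rw [← fadd r hr _ (a r hr) (hH0 r hr), add_div]
  · intro r hr H X b x hH hX
    rw [hl.congr_comm (a := H) (a' := H) (b' := L r hr x) rfl (hX.trans (hL r hr x).symm)]
    clear hX X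
    revert x
    suffices key : ∀ x, ⁅H, L r hr ((a r hr - 1) * x)⁆ = Y r ((b - 1) * ((a r hr - 1) * x)) by
      intro x
      have h := key ((a r hr - 1)⁻¹ * x)
      rwa [mul_inv_cancel_left₀ (ha r hr)] at h
    intro x
    have h1 : ⁅H0 r hr, ⁅H, L r hr x⁆⁆ = Y r ((b - 1) * ((a r hr - 1) * x)) := by
      simp only [Y, dif_pos hr]
      refine hl.congr_comm rfl ?_
      rw [himg r hr H _ b x hH (hL r hr x), hL]
      congr 1; have := ha r hr; field_simp
    rw [← h1, commutatorElement_def (H0 r hr), conj_comm,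
      hl.congr_comm (a := H0 r hr * H * (H0 r hr)⁻¹) (a' := H) (b' := L r hr (a r hr * x)) ?_ ?_, eq_mul_inv_iff_mul_eq,
      ← fadd r hr H b hH]
    · congr 2; ring
    · rw [map_mul, map_mul, map_inv, ok.toOK.diag_comm (hH0 r hr).1 hH.1, mul_inv_cancel_right]
    · rw [map_mul, map_mul, map_inv, hL, hL, (hH0 r hr).2]

end Lifts

namespace Lifts.TorLifts

variable {ok : OKX D T} {Γ : Type*} [Group Γ] {ρ : Γ →* GL D.Idx F} {hl : Lifts ok ρ} {Y : ℕ → F → Γ}

theorem conj_tor_of (tl : TorLifts hl Y) (hw : Lifts.HasWt ρ ok) {r : ℕ} (hr : r < D.nroots) {H : Γ} {b : F} (hH : TorWt ρ ok H r b) (t : F) :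
    H * Y r t * H⁻¹ = Y r (b * t) := by
  obtain ⟨H0, a, hH0, ha1⟩ := hw r hr
  have ha : a - 1 ≠ 0 := sub_ne_zero.mpr ha1
  obtain ⟨X, hX⟩ := hl.lift r hr (t / (a - 1))
  have e := tl.comm r hr H0 X a _ hH0 hX
  rw [show (a - 1) * (t / (a - 1)) = t by field_simp] at e
  rw [← e, conj_comm, hl.congr_comm (a := H * H0 * H⁻¹) (a' := H0) (b' := H * X * H⁻¹)
    (by rw [map_mul, map_mul, map_inv, ok.toOK.diag_comm hH.1 hH0.1, mul_inv_cancel_right]) rfl,
    tl.comm r hr H0 (H * X * H⁻¹) a (b * (t / (a - 1))) hH0 (by rw [map_mul, map_mul, map_inv, hX, hH.2])]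
  congr 1; field_simp

theorem conj_nlift_of (tl : TorLifts hl Y) (hw : Lifts.HasWt ρ ok) {i : ℕ} (hi : i < D.rank) {n : Γ} (hn : ρ n = ok.toOK.nG (T.smp i) 1) {r : ℕ}
    (hr : r < D.nroots) (t : F) : n * Y r t * n⁻¹ = Y (T.refl i r) ((T.eta i r : F) * t) := by
  obtain ⟨H0, a, hH0, ha1⟩ := hw r hr
  have ha : a - 1 ≠ 0 := sub_ne_zero.mpr ha1
  obtain ⟨X, hX⟩ := hl.lift r hr (t / (a - 1))
  have e := tl.comm r hr H0 X a _ hH0 hX
  rw [show (a - 1) * (t / (a - 1)) = t by field_simp] at e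
  have hW : TorWt ρ ok (n * H0 * n⁻¹) (T.refl i r) a := by
    refine ⟨?_, fun u => ?_⟩
    · obtain ⟨c, hc, e'⟩ := ok.toOK.mem_diag.mp hH0.1
      rw [map_mul, map_mul, map_inv, hn, e']
      exact ok.toOK.n_torG hi hc
    · have h1 : ok.toOK.xG (T.refl i r) u =
          ρ n * ok.toOK.xG r ((T.eta i r : F) * u) * (ρ n)⁻¹ := by
        rw [hn, ok.toOK.n_xG hi hr, ← mul_assoc, ok.toOK.eta_sq hi hr, one_mul]
      have h2 : ok.toOK.xG (T.refl i r) (a * u) = ρ n * ok.toOK.xG r (a * ((T.eta i r : F) * u)) * (ρ n)⁻¹ := by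
        rw [hn, ok.toOK.n_xG hi hr]
        congr 1
        linear_combination (-(a * u)) * ok.toOK.eta_sq (F := F) hi hr
      rw [h2, h1, ← hH0.2]
      simp [mul_assoc]
  rw [← e, conj_comm, tl.comm _ (ok.toOK.refl_lt hi hr) _ (n * X * n⁻¹) a
    ((T.eta i r : F) * (t / (a - 1))) hW (by rw [map_mul, map_mul, map_inv, hX, hn, ok.toOK.n_xG hi hr])]
  congr 1; field_simp

theorem exists_wlift_of (tl : TorLifts hl Y) (hw : Lifts.HasWt ρ ok) : ∀ w : List ℕ, (∀ i ∈ w, i < D.rank) →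
      ∃ n : Γ, ∀ r < D.nroots, ∃ c : F, ∀ t, n * Y r t * n⁻¹ = Y (piW T w r) (c * t)
  | [], _ => ⟨1, fun r _ => ⟨1, fun t => by simp [piW]⟩⟩
  | i :: w, h => by
    have hi := h i List.mem_cons_self
    have hws : ∀ j ∈ w, j < D.rank := fun j hj => h j (List.mem_cons_of_mem _ hj)
    obtain ⟨n, hn⟩ := exists_wlift_of tl hw w hws
    obtain ⟨m, hm⟩ := hl.exists_nlift hi
    refine ⟨m * n, fun r hr => ?_⟩
    obtain ⟨c, hc⟩ := hn r hr
    refine ⟨(T.eta i (piW T w r) : F) * c, fun t => ?_⟩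
    rw [show m * n * Y r t * (m * n)⁻¹ = m * (n * Y r t * n⁻¹) * m⁻¹ by simp [mul_assoc], hc,
      tl.conj_nlift_of hw hi hm (ok.piW_lt hws hr), piW, mul_assoc]

end Lifts.TorLifts

end Cfsg.Agent.Chev
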