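import Cfsg.Agent.Lib.Chev.StUniv
import Cfsg.Agent.Lib.Chev.RootPair
import Mathlib.RingTheory.IntegralDomain

/-!
Universality of the presented group by means of the torus, for data with several commutator terms.

The lifts of root elements are the commutators with a lift of a torus element.  For positive roots `k < s` a torus
element fixing `k` and moving `s` shows that the conjugate of a lift of `s` by one of `k` lies in the group generated by
the lifts after `k`, which maps injectively; other pairs are carried to positive ones by a word of fundamental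
reflections.
-/

set_option autoImplicit false

namespace Cfsg.Agent.Chev

open Cfsg.Lie
open scoped commutatorElement

namespace Tabs

variable (D : ChevalleyDatum) (T : Tabs)

/-- The weight of a root on a cocharacter. -/
noncomputable def dotA (v : List ℤ) (r : ℕ) : ℤ :=
  @Nat.rec (fun _ => ℤ) 0 (fun k acc => Int.add acc (Int.mul (v.getD k 0) (T.cA k r))) D.rank

/-- Every root is moved with weight one by a cocharacter. -/
noncomputable def chkW1 (V : List (List ℤ)) : Bool :=
  allR D.nroots fun r => anyL (fun v => orR (ieq (T.dotA D v r) 1) (ieq (T.dotA D v r) (-1))) V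

/-- The root `s` is a commutator, with coefficient one or two, of roots commuting with `r`. -/
noncomputable def uFac (two : Bool) (r s : ℕ) : Bool :=
  andR (T.uCom r s) <| anyL (fun p =>
    @List.rec (ℕ × ℤ) (fun _ => Bool) false
      (fun q _ _ => andR (nlt q.1 D.nroots) <| andR (T.indB p q.1) <| andR (T.uCom r p) <| andR (T.uCom r q.1) <|
        @List.rec (ℕ × ℤ × ℕ × ℕ) (fun _ => Bool) false
          (fun e rest _ => andR (isNilR rest) <| andR (Nat.beq e.1 s) <| andR (Nat.beq e.2.2.1 1) <|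
            andR (Nat.beq e.2.2.2 1) <| orR (orR (ieq e.2.1 1) (ieq e.2.1 (-1)))
              (andR two (orR (ieq e.2.1 2) (ieq e.2.1 (-2)))))
          (T.terms p q.1))
      (lookR s (T.chs D (T.neg p)))) (upTo D.nroots)

/-- The pairs of positive roots: a cocharacter fixing the first and moving the second by at most `m`; a weight two
may also be replaced by a factorisation when `fac` is set. -/
noncomputable def chkPosPairs (V : List (List ℤ)) (m : ℕ) (fac : Bool) : Bool :=
  allR D.nroots fun k => orR (nlt k (half D)) <| allR D.nroots fun s => orR (notR (nlt k s)) <|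
    anyL (fun v => andR (ieq (T.dotA D v k) 0) <|
      andR (notR (ieq (T.dotA D v s) 0)) <| andR (nlt (T.dotA D v s).natAbs (Nat.add m 1)) <|
      orR (notR fac) (orR (Nat.beq (T.dotA D v s).natAbs 1) (T.uFac D true k s))) V

/-- Every root is a commutator of two roots commuting with it. -/
noncomputable def chkSelf : Bool := allR D.nroots fun r => T.uFac D false r r

/-- Every pair is carried to positive roots, with its terms, by one of the words. -/
noncomputable def chkWords (W : List (List ℕ)) : Bool :=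
  andR (allL (fun w => allL (fun i => nlt i D.rank) w) W) <|
  allR D.nroots fun r => allR D.nroots fun s => orR (Nat.beq s r) <| orR (Nat.beq s (T.neg r)) <|
    anyL (fun w => andR (ipos (T.htf (T.piR w r))) <| andR (ipos (T.htf (T.piR w s))) <|
      allL (fun q => ipos (T.htf (T.piR w q.1))) (T.terms r s)) W

end Tabs

variable {F : Type*} [Field F] {D : ChevalleyDatum} {T : Tabs}

namespace OK

variable (ok : OK D T)

include ok

omit ok in
theorem dotA_eq (v : List ℤ) (r : ℕ) :
    T.dotA D v r = ∑ k ∈ Finset.range D.rank, v.getD k 0 * T.cA k r := by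
  unfold Tabs.dotA
  induction D.rank with
  | zero => simp
  | succ n ih => rw [Finset.sum_range_succ, ← ih]; rfl

/-- The torus element of a cocharacter. -/
theorem coch_xG (v : List ℤ) {b : F} (hb : b ≠ 0) {r : ℕ} (hr : r < D.nroots) (t : F) :
    ok.torG (fun k => b ^ v.getD k 0) * ok.xG r t * (ok.torG fun k => b ^ v.getD k 0)⁻¹ =
      ok.xG r (b ^ T.dotA D v r * t) := by
  rw [ok.torG_xG (fun i _ => zpow_ne_zero _ hb) hr]
  congr 2
  rw [OK.dotA_eq]
  simp only [← zpow_mul]
  induction Finset.range D.rank using Finset.cons_induction with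
  | empty => simp
  | cons k S hk ih => rw [Finset.sum_cons, Finset.prod_cons, ih, zpow_add₀ hb]

theorem coch_mem (v : List ℤ) {b : F} (hb : b ≠ 0) :
    ok.torG (fun k => b ^ v.getD k 0) ∈ D.diagonalSubgroup F :=
  ok.mem_diag.mpr ⟨_, fun _ _ => zpow_ne_zero _ hb, rfl⟩

theorem diag_comm {g h : GL D.Idx F} (hg : g ∈ D.diagonalSubgroup F) (hh : h ∈ D.diagonalSubgroup F) :
    g * h = h * g := by
  obtain ⟨c, hc, rfl⟩ := ok.mem_diag.mp hg
  obtain ⟨d, hd, rfl⟩ := ok.mem_diag.mp hh
  rw [ok.torG_mul hc hd, ok.torG_mul hd hc]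
  simp only [mul_comm]

end OK

namespace Lifts

variable {ok : OKX D T} {Γ : Type*} [Group Γ] {ρ : Γ →* GL D.Idx F}

theorem group_lift (hl : Lifts ok ρ) {g : GL D.Idx F} (hg : g ∈ D.group F) : ∃ H, ρ H = g :=
  (show D.group F ≤ ρ.range from ok.toOK.group_le fun r hr t => hl.lift r hr t) hg

/-- Commutators are additive in the second place when the two added elements commute with the value. -/
theorem comm_mul_right {g h h' : Γ} (e : h * ⁅g, h'⁆ = ⁅g, h'⁆ * h) : ⁅g, h * h'⁆ = ⁅g, h⁆ * ⁅g, h'⁆ := by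
  have e2 : ⁅g, h * h'⁆ = ⁅g, h⁆ * (h * ⁅g, h'⁆ * h⁻¹) := by simp [commutatorElement_def, mul_assoc]
  rw [e2, e, mul_inv_cancel_right]

/-- A torus element with its weight on a root. -/
def TorWt (ρ : Γ →* GL D.Idx F) (ok : OKX D T) (H : Γ) (r : ℕ) (b : F) : Prop :=
  ρ H ∈ D.diagonalSubgroup F ∧ ∀ t : F, ρ H * ok.toOK.xG r t * (ρ H)⁻¹ = ok.toOK.xG r (b * t)

theorem exists_torWt (hl : Lifts ok ρ) (v : List ℤ) {b : F} (hb : b ≠ 0) :
    ∃ H, ∀ r < D.nroots, TorWt ρ ok H r (b ^ T.dotA D v r) := by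
  have hm := ok.toOK.coch_mem v hb
  obtain ⟨H, hH⟩ := hl.group_lift (ok.toOK.diag_le_group hm)
  exact ⟨H, fun r hr => ⟨hH ▸ hm, fun t => by rw [hH]; exact ok.toOK.coch_xG v hb hr t⟩⟩

theorem exists_weight (hl : Lifts ok ρ) {V : List (List ℤ)} (hV : T.chkW1 D V = true) {r : ℕ} (hr : r < D.nroots)
    {b : F} (hb : b ≠ 0) : ∃ H, TorWt ρ ok H r b := by
  simp only [Tabs.chkW1, allR_iff, anyL_iff, orR_iff, ieq_iff] at hV
  obtain ⟨v, -, e | e⟩ := hV r hr
  · obtain ⟨H, hH⟩ := hl.exists_torWt v hb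
    exact ⟨H, by simpa [e] using hH r hr⟩
  · obtain ⟨H, hH⟩ := hl.exists_torWt v (inv_ne_zero hb)
    exact ⟨H, by simpa [e] using hH r hr⟩

/-- Lifts of the elements of one root subgroup commute, by invariance under the torus. -/
theorem com_self (hl : Lifts ok ρ) {V : List (List ℤ)} (hV : T.chkW1 D V = true) {b : F} (hb0 : b ≠ 0) (hb1 : b ≠ 1)
    (hb : b * b - b + 1 ≠ 0) {r : ℕ} (hr : r < D.nroots) : Com ρ ok r r := by
  choose L hL using hl.lift r hr
  set c : F → F → Γ := fun t u => ⁅L t, L u⁆ with hc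
  have hcen : ∀ t u, c t u ∈ Subgroup.center Γ := by
    intro t u
    refine hl.cen ?_
    rw [MonoidHom.mem_ker, hc, map_commutatorElement, hL, hL, commutatorElement_eq_one_iff_commute]
    exact (ok.toOK.xG_mul r t u).trans ((ok.toOK.xG_mul r u t).trans (by rw [add_comm])).symm
  have hcg : ∀ t u (g : Γ), g * c t u = c t u * g := fun t u g => Subgroup.mem_center_iff.mp (hcen t u) g
  have addR : ∀ t u u', c t (u + u') = c t u * c t u' := by
    intro t u u'
    show ⁅L t, L (u + u')⁆ = ⁅L t, L u⁆ * ⁅L t, L u'⁆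
    rw [← comm_mul_right (hcg t u' (L u))]
    exact hl.congr_comm rfl (by rw [map_mul, hL, hL, hL, ok.toOK.xG_mul])
  have hsym : ∀ t u, c u t = (c t u)⁻¹ := fun t u => (commutatorElement_inv _ _).symm
  have addL : ∀ t t' u, c (t + t') u = c t u * c t' u := by
    intro t t' u
    rw [hsym, addR, mul_inv_rev, ← hsym, ← hsym]
    exact hcg t u (c t' u)
  have inv : ∀ a : F, a ≠ 0 → ∀ t u, c (a * t) (a * u) = c t u := by
    intro a ha t u
    obtain ⟨H, -, hH⟩ := hl.exists_weight hV hr ha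
    show ⁅L (a * t), L (a * u)⁆ = c t u
    rw [hl.congr_comm (a' := H * L t * H⁻¹) (b' := H * L u * H⁻¹) (by rw [hL, map_mul, map_mul, map_inv, hL, hH])
      (by rw [hL, map_mul, map_mul, map_inv, hL, hH]), ← conj_comm]
    exact mul_inv_eq_iff_eq_mul.mpr (hcg t u H)
  set b' := 1 - b with hb'
  have hb'0 : b' ≠ 0 := sub_ne_zero.mpr (Ne.symm hb1)
  have hone : ∀ t u, c t u = 1 := by
    intro t u
    set e := 1 + b⁻¹ * b' + b'⁻¹ * b with he
    have hne : e ≠ 0 := by
      have : e = (b * b - b + 1) / (b * b') := by rw [he, hb']; field_simp [hb0, hb'0]; ring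
      rw [this]
      exact div_ne_zero hb (mul_ne_zero hb0 hb'0)
    suffices key : ∀ u, c t (e * u) = 1 by
      rw [← mul_inv_cancel_left₀ hne u]
      exact key _
    intro u
    have h1 : c t u = c (b * t) (b * u) * c (b * t) (b' * u) * (c (b' * t) (b * u) * c (b' * t) (b' * u)) := by
      rw [← addR, ← addR, ← addL]
      rw [show b * t + b' * t = t by rw [hb']; ring, show b * u + b' * u = u by rw [hb']; ring]
    have h2 : c (b * t) (b' * u) = c t (b⁻¹ * b' * u) := by
      rw [← inv b hb0 t (b⁻¹ * b' * u), mul_assoc b⁻¹, mul_inv_cancel_left₀ hb0]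
    have h3 : c (b' * t) (b * u) = c t (b'⁻¹ * b * u) := by
      rw [← inv b' hb'0 t (b'⁻¹ * b * u), mul_assoc b'⁻¹, mul_inv_cancel_left₀ hb'0]
    rw [inv b hb0, inv b' hb'0, h2, h3, ← addR, ← addR, ← addR] at h1
    have h4 : c t u * c t (e * u) = c t u * 1 := by
      rw [← addR, mul_one, show u + e * u = u + b⁻¹ * b' * u + (b'⁻¹ * b * u + u) by rw [he]; ring]
      exact h1.symm
    exact mul_left_cancel h4
  intro g h t u hg hh
  have := hone t u
  simp only [hc] at this
  rw [hl.congr_comm ((hL t).trans hg.symm) ((hL u).trans hh.symm)] at this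
  exact commutatorElement_eq_one_iff_mul_comm.mp this

/-- A root that is a commutator of roots commuting with `r`. -/
theorem com_fac (hl : Lifts ok ρ) {two : Bool} {r s : ℕ} (hr : r < D.nroots) (hc : T.uFac D two r s = true)
    (h2 : two = true → (2 : F) ≠ 0) :
    Com ρ ok r s := by
  intro g h t u hg hh
  simp only [Tabs.uFac, andR_iff, anyL_iff, upTo_eq, List.mem_range] at hc
  obtain ⟨-, p, hp, hc⟩ := hc
  revert hc
  generalize lookR s (T.chs D (T.neg p)) = L
  rcases L with _ | ⟨⟨q, c'⟩, L⟩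
  · intro hc; exact absurd hc Bool.false_ne_true
  intro hc
  replace hc : andR (nlt q D.nroots) (andR (T.indB p q) (andR (T.uCom r p) (andR (T.uCom r q)
      (@List.rec (ℕ × ℤ × ℕ × ℕ) (fun _ => Bool) false
        (fun e rest _ => andR (isNilR rest) <| andR (Nat.beq e.1 s) <| andR (Nat.beq e.2.2.1 1) <|
          andR (Nat.beq e.2.2.2 1) <| orR (orR (ieq e.2.1 1) (ieq e.2.1 (-1))) (andR two (orR (ieq e.2.1 2) (ieq e.2.1 (-2)))))
        (T.terms p q))))) = true := hc
  simp only [andR_iff, nlt_iff, Tabs.indB, notR_iff, nbeq_false_iff] at hc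
  obtain ⟨hq, ⟨h1, h1'⟩, hrp, hrq, hterm⟩ := hc
  obtain ⟨c, hcu, hterms⟩ : ∃ c : ℤ, (c : F) ≠ 0 ∧ T.terms p q = [(s, c, 1, 1)] := by
    revert hterm
    generalize T.terms p q = M
    rcases M with _ | ⟨⟨k, c, i, j⟩, rest⟩
    · intro h; exact absurd h Bool.false_ne_true
    intro h
    replace h : andR (isNilR rest) (andR (Nat.beq k s) (andR (Nat.beq i 1) (andR (Nat.beq j 1)
      (orR (orR (ieq c 1) (ieq c (-1))) (andR two (orR (ieq c 2) (ieq c (-2)))))))) = true := h
    simp only [andR_iff, isNilR_iff, Nat.beq_eq, orR_iff, ieq_iff] at h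
    obtain ⟨rfl, rfl, rfl, rfl, (rfl | rfl) | ⟨ht, rfl | rfl⟩⟩ := h <;>
      refine ⟨_, ?_, rfl⟩ <;> first | (simp; done) | (simp [h2 ht]; done)
  obtain ⟨gp, hgp⟩ := hl.lift p hp ((c : F)⁻¹ * u)
  obtain ⟨gq, hgq⟩ := hl.lift q hq 1
  have e : ρ ⁅gp, gq⁆ = ρ h := by
    rw [map_commutatorElement, hgp, hgq, hh, ok.toOK.comm_single hp hq h1 h1' hterms, mul_one,
      mul_inv_cancel_left₀ hcu]
  obtain ⟨z, hz, rfl⟩ := hl.center_factor e.symm
  have e2 : g * ⁅gp, gq⁆ * g⁻¹ = ⁅gp, gq⁆ := by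
    rw [conj_comm]
    refine hl.congr_comm ?_ ?_
    · rw [map_mul, map_mul, map_inv, hg, hgp, (ok.toOK.comm_nil hr hp hrp t _).eq, mul_inv_cancel_right]
    · rw [map_mul, map_mul, map_inv, hg, hgq, (ok.toOK.comm_nil hr hq hrq t _).eq, mul_inv_cancel_right]
  rw [Subgroup.mem_center_iff] at hz
  rw [mul_inv_eq_iff_eq_mul] at e2
  rw [← mul_assoc, e2, mul_assoc, hz, ← mul_assoc]

/-- The lifts normalised by the torus. -/
structure TorLifts (hl : Lifts ok ρ) (Y : ℕ → F → Γ) : Prop where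
  img : ∀ r < D.nroots, ∀ t : F, ρ (Y r t) = ok.toOK.xG r t
  add : ∀ r < D.nroots, ∀ t u : F, Y r t * Y r u = Y r (t + u)
  comm : ∀ r < D.nroots, ∀ (H X : Γ) (b x : F), TorWt ρ ok H r b → ρ X = ok.toOK.xG r x →
    ⁅H, X⁆ = Y r ((b - 1) * x)

theorem exists_torLifts (hl : Lifts ok ρ) {V : List (List ℤ)} (hV : T.chkW1 D V = true) {a : F} (ha0 : a ≠ 0)
    (ha1 : a ≠ 1) (hself : ∀ r < D.nroots, Com ρ ok r r) : ∃ Y, TorLifts hl Y := by
  choose H0 hH0 using fun r (hr : r < D.nroots) => hl.exists_weight hV hr ha0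
  choose L hL using hl.lift
  have ha : a - 1 ≠ 0 := sub_ne_zero.mpr ha1
  let Y : ℕ → F → Γ := fun r t => if hr : r < D.nroots then ⁅H0 r hr, L r hr (t / (a - 1))⁆ else 1
  have himg : ∀ r < D.nroots, ∀ (H X : Γ) (b x : F), TorWt ρ ok H r b → ρ X = ok.toOK.xG r x →
      ρ ⁅H, X⁆ = ok.toOK.xG r ((b - 1) * x) := by
    intro r _ H X b x hH hX
    rw [map_commutatorElement, hX, commutatorElement_def, hH.2, ok.toOK.xG_inv, ok.toOK.xG_mul]
    congr 1; ring
  have fadd : ∀ r (hr : r < D.nroots) (H : Γ) (b : F), TorWt ρ ok H r b → ∀ x x' : F,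
      ⁅H, L r hr (x + x')⁆ = ⁅H, L r hr x⁆ * ⁅H, L r hr x'⁆ := by
    intro r hr H b hH x x'
    rw [← comm_mul_right (hself r hr _ _ _ _ (hL r hr x) (himg r hr H _ b x' hH (hL r hr x')))]
    exact hl.congr_comm rfl (by rw [map_mul, hL, hL, hL, ok.toOK.xG_mul])
  refine ⟨Y, ⟨fun r hr t => ?_, fun r hr t u => ?_, ?_⟩⟩
  · simp only [Y, dif_pos hr]
    rw [himg r hr _ _ a _ (hH0 r hr) (hL r hr _)]
    congr 1; field_simp
  · simp only [Y, dif_pos hr]
    rw [← fadd r hr _ a (hH0 r hr), add_div]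
  · intro r hr H X b x hH hX
    rw [hl.congr_comm (a := H) (a' := H) (b' := L r hr x) rfl (hX.trans (hL r hr x).symm)]
    clear hX X
    revert x
    suffices key : ∀ x, ⁅H, L r hr ((a - 1) * x)⁆ = Y r ((b - 1) * ((a - 1) * x)) by
      intro x
      have h := key ((a - 1)⁻¹ * x)
      rwa [mul_inv_cancel_left₀ ha] at h
    intro x
    have h1 : ⁅H0 r hr, ⁅H, L r hr x⁆⁆ = Y r ((b - 1) * ((a - 1) * x)) := by
      simp only [Y, dif_pos hr]
      refine hl.congr_comm rfl ?_
      rw [himg r hr H _ b x hH (hL r hr x), hL]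
      congr 1; field_simp
    rw [← h1, commutatorElement_def (H0 r hr), conj_comm,
      hl.congr_comm (a := H0 r hr * H * (H0 r hr)⁻¹) (a' := H) (b' := L r hr (a * x)) ?_ ?_, eq_mul_inv_iff_mul_eq,
      ← fadd r hr H b hH]
    · congr 2; ring
    · rw [map_mul, map_mul, map_inv, ok.toOK.diag_comm (hH0 r hr).1 hH.1, mul_inv_cancel_right]
    · rw [map_mul, map_mul, map_inv, hL, hL, (hH0 r hr).2]

namespace TorLifts

variable {hl : Lifts ok ρ} {Y : ℕ → F → Γ}

theorem zero (tl : TorLifts hl Y) {r : ℕ} (hr : r < D.nroots) : Y r 0 = 1 := by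
  have := tl.add r hr 0 0
  rw [add_zero] at this
  exact mul_eq_left.mp this

theorem inv (tl : TorLifts hl Y) {r : ℕ} (hr : r < D.nroots) (t : F) : (Y r t)⁻¹ = Y r (-t) :=
  inv_eq_of_mul_eq_one_right (by rw [tl.add r hr, add_neg_cancel, tl.zero hr])

theorem conj_tor (tl : TorLifts hl Y) {a : F} (ha0 : a ≠ 0) (ha1 : a ≠ 1) {V : List (List ℤ)}
    (hV : T.chkW1 D V = true) {r : ℕ} (hr : r < D.nroots) {H : Γ} {b : F} (hH : TorWt ρ ok H r b) (t : F) :
    H * Y r t * H⁻¹ = Y r (b * t) := by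
  obtain ⟨H0, hH0⟩ := hl.exists_weight hV hr ha0
  have ha : a - 1 ≠ 0 := sub_ne_zero.mpr ha1
  obtain ⟨X, hX⟩ := hl.lift r hr (t / (a - 1))
  have e := tl.comm r hr H0 X a _ hH0 hX
  rw [show (a - 1) * (t / (a - 1)) = t by field_simp] at e
  rw [← e, conj_comm, hl.congr_comm (a := H * H0 * H⁻¹) (a' := H0) (b' := H * X * H⁻¹)
    (by rw [map_mul, map_mul, map_inv, ok.toOK.diag_comm hH.1 hH0.1, mul_inv_cancel_right]) rfl,
    tl.comm r hr H0 (H * X * H⁻¹) a (b * (t / (a - 1))) hH0 (by rw [map_mul, map_mul, map_inv, hX, hH.2])]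
  congr 1; field_simp

theorem conj_nlift (tl : TorLifts hl Y) {a : F} (ha0 : a ≠ 0) (ha1 : a ≠ 1) {V : List (List ℤ)}
    (hV : T.chkW1 D V = true) {i : ℕ} (hi : i < D.rank) {n : Γ} (hn : ρ n = ok.toOK.nG (T.smp i) 1) {r : ℕ}
    (hr : r < D.nroots) (t : F) : n * Y r t * n⁻¹ = Y (T.refl i r) ((T.eta i r : F) * t) := by
  obtain ⟨H0, hH0⟩ := hl.exists_weight hV hr ha0
  have ha : a - 1 ≠ 0 := sub_ne_zero.mpr ha1
  obtain ⟨X, hX⟩ := hl.lift r hr (t / (a - 1))
  have e := tl.comm r hr H0 X a _ hH0 hX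
  rw [show (a - 1) * (t / (a - 1)) = t by field_simp] at e
  have hW : TorWt ρ ok (n * H0 * n⁻¹) (T.refl i r) a := by
    refine ⟨?_, fun u => ?_⟩
    · obtain ⟨c, hc, e'⟩ := ok.toOK.mem_diag.mp hH0.1
      rw [map_mul, map_mul, map_inv, hn, e']
      exact ok.toOK.n_torG hi hc
    · have h1 : ok.toOK.xG (T.refl i r) u =
          ρ n * ok.toOK.xG r ((T.eta i r : F) * u) * (ρ n)⁻¹ := by
        rw [hn, ok.toOK.n_xG hi hr, ← mul_assoc, ok.toOK.eta_sq hi hr, one_mul]
      have h2 : ok.toOK.xG (T.refl i r) (a * u) = ρ n * ok.toOK.xG r (a * ((T.eta i r : F) * u)) * (ρ n)⁻¹ := by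
        rw [hn, ok.toOK.n_xG hi hr]
        congr 1
        linear_combination (-(a * u)) * ok.toOK.eta_sq (F := F) hi hr
      rw [h2, h1, ← hH0.2]
      simp [mul_assoc]
  rw [← e, conj_comm, tl.comm _ (ok.toOK.refl_lt hi hr) _ (n * X * n⁻¹) a
    ((T.eta i r : F) * (t / (a - 1))) hW (by rw [map_mul, map_mul, map_inv, hX, hn, ok.toOK.n_xG hi hr])]
  congr 1; field_simp

theorem exists_wlift (tl : TorLifts hl Y) {a : F} (ha0 : a ≠ 0) (ha1 : a ≠ 1) {V : List (List ℤ)}
    (hV : T.chkW1 D V = true) : ∀ w : List ℕ, (∀ i ∈ w, i < D.rank) →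
      ∃ n : Γ, ∀ r < D.nroots, ∃ c : F, ∀ t, n * Y r t * n⁻¹ = Y (piW T w r) (c * t)
  | [], _ => ⟨1, fun r _ => ⟨1, fun t => by simp [piW]⟩⟩
  | i :: w, h => by
    have hi := h i List.mem_cons_self
    have hw : ∀ j ∈ w, j < D.rank := fun j hj => h j (List.mem_cons_of_mem _ hj)
    obtain ⟨n, hn⟩ := exists_wlift tl ha0 ha1 hV w hw
    obtain ⟨m, hm⟩ := hl.exists_nlift hi
    refine ⟨m * n, fun r hr => ?_⟩
    obtain ⟨c, hc⟩ := hn r hr
    refine ⟨(T.eta i (piW T w r) : F) * c, fun t => ?_⟩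
    rw [show m * n * Y r t * (m * n)⁻¹ = m * (n * Y r t * n⁻¹) * m⁻¹ by simp [mul_assoc], hc,
      tl.conj_nlift ha0 ha1 hV hi hm (ok.piW_lt hw hr), piW, mul_assoc]

end TorLifts

/-- The relation of two roots, for a family of lifts. -/
def RelY (D : ChevalleyDatum) (Y : ℕ → F → Γ) (r s : ℕ) : Prop :=
  ∀ t u : F, Y s u * Y r t = Y r t * Y s u * ((D.commWord F r s t u).map fun p => Y p.1 p.2).prod

/-- The lifts of positive roots from a place on. -/
def posFrom (D : ChevalleyDatum) (Y : ℕ → F → Γ) (k : ℕ) : Subgroup Γ :=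
  Subgroup.closure {x | ∃ (j : ℕ) (t : F), k ≤ j ∧ Tabs.half D ≤ j ∧ j < D.nroots ∧ x = Y j t}

namespace TorLifts

variable {hl : Lifts ok ρ} {Y : ℕ → F → Γ}

omit [Field F] in
theorem y_mem_pos {k j : ℕ} (h1 : k ≤ j) (h2 : Tabs.half D ≤ j) (h3 : j < D.nroots) (t : F) :
    Y j t ∈ posFrom D Y k :=
  Subgroup.subset_closure ⟨j, t, h1, h2, h3, rfl⟩

theorem word_img (tl : TorLifts hl Y) {r s : ℕ} (hr : r < D.nroots) (hs : s < D.nroots) (h1 : s ≠ r)
    (h2 : s ≠ T.neg r) (t u : F) :
    ρ (Y s u * Y r t) = ρ (Y r t * Y s u * ((D.commWord F r s t u).map fun p => Y p.1 p.2).prod) := by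
  rw [map_mul, map_mul, map_mul, tl.img r hr, tl.img s hs, map_list_prod, List.map_map]
  have e : ((D.commWord F r s t u).map (ρ ∘ fun p => Y p.1 p.2)).prod = ok.toOK.wordG (D.commWord F r s t u) := by
    rw [OK.wordG]
    refine congrArg List.prod (List.map_congr_left fun p hp => ?_)
    simp only [ChevalleyDatum.commWord, ok.toOK.terms_eq hr hs, List.mem_map] at hp
    obtain ⟨q, hq, rfl⟩ := hp
    exact tl.img _ (ok.toOK.term_spec hr hs hq).1 _
  rw [e]
  refine Units.ext ?_
  rw [Units.val_mul, Units.val_mul, Units.val_mul, OK.coe_xG, OK.coe_xG, OK.coe_wordG]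
  exact ok.toOK.comm hr hs h1 (by rwa [ok.toOK.neg_eq hr]) t u

theorem word_mem (ok : OKX D T) {k r s : ℕ} (hr : r < D.nroots) (hs : s < D.nroots)
    (hpos : ∀ q ∈ T.terms r s, k ≤ q.1 ∧ Tabs.half D ≤ q.1) (t u : F) :
    ((D.commWord F r s t u).map fun p => Y p.1 p.2).prod ∈ posFrom D Y k := by
  refine list_prod_mem fun x hx => ?_
  obtain ⟨p, hp, rfl⟩ := List.mem_map.mp hx
  simp only [ChevalleyDatum.commWord, ok.toOK.terms_eq hr hs, List.mem_map] at hp
  obtain ⟨q, hq, rfl⟩ := hp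
  exact y_mem_pos (hpos q hq).1 (hpos q hq).2 (ok.toOK.term_spec hr hs hq).1 _

/-- The image of the lifts from a place on lies in that of the presented group. -/
theorem posFrom_img (tl : TorLifts hl Y) {S : Type*} [Group S] {y : ℕ → F → S} {θ : S →* GL D.Idx F}
    (st : StHyp ok y θ) {k : ℕ} {g : Γ} (hg : g ∈ posFrom D Y k) : ∃ x ∈ st.M true k, θ x = ρ g := by
  induction hg using Subgroup.closure_induction with
  | mem z hz =>
    obtain ⟨j, t, h1, h2, h3, rfl⟩ := hz
    exact ⟨y j t, st.y_mem_M ⟨h3, by simpa [sidx] using h2⟩ (by simpa [sidx] using h1) t, by rw [st.map_y j h3, tl.img j h3]⟩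
  | one => exact ⟨1, one_mem _, by simp⟩
  | mul a b _ _ iha ihb =>
    obtain ⟨x, hx, ex⟩ := iha
    obtain ⟨z, hz, ez⟩ := ihb
    exact ⟨x * z, mul_mem hx hz, by rw [map_mul, map_mul, ex, ez]⟩
  | inv a _ iha =>
    obtain ⟨x, hx, ex⟩ := iha
    exact ⟨x⁻¹, inv_mem hx, by rw [map_inv, map_inv, ex]⟩

/-- The lifts of the positive roots satisfy the relations, and their group maps injectively. -/
theorem pos_rel (tl : TorLifts hl Y) {S : Type*} [Group S] {y : ℕ → F → S} {θ : S →* GL D.Idx F} (st : StHyp ok y θ)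
    (htor : ∀ r < D.nroots, ∀ H b, TorWt ρ ok H r b → ∀ t : F, H * Y r t * H⁻¹ = Y r (b * t))
    (hpair : ∀ k s, Tabs.half D ≤ k → k < s → s < D.nroots →
      (∃ (H : Γ) (bs : F), (∀ r < D.nroots, ∃ b, TorWt ρ ok H r b) ∧ TorWt ρ ok H k 1 ∧ TorWt ρ ok H s bs ∧ bs ≠ 1) ∨
        (Com ρ ok k s ∧ T.uCom k s = true)) :
    (∀ r s, Tabs.half D ≤ r → r < D.nroots → Tabs.half D ≤ s → s < D.nroots → s ≠ r → RelY D Y r s) ∧
      ∀ g ∈ posFrom D Y (Tabs.half D), ρ g = 1 → g = 1 := by
  suffices key : ∀ m k : ℕ, k + m = D.nroots → Tabs.half D ≤ k →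
      (∀ r s, k ≤ r → r < D.nroots → k ≤ s → s < D.nroots → s ≠ r → RelY D Y r s) ∧
      (∀ g ∈ posFrom D Y k, ρ g = 1 → g = 1) by
    have := ok.two_half
    obtain ⟨h1, h2⟩ := key (Tabs.half D) (Tabs.half D) (by omega) le_rfl
    exact ⟨fun r s a b c d => h1 r s a b c d, h2⟩
  intro m
  induction m with
  | zero =>
    intro k hk _
    refine ⟨fun r s h1 h2 => by omega, fun g hg _ => ?_⟩
    have hbot : posFrom D Y k = ⊥ := by
      refine eq_bot_iff.mpr ((Subgroup.closure_le _).mpr ?_)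
      rintro _ ⟨j, t, h1, -, h3, -⟩
      omega
    rwa [hbot, Subgroup.mem_bot] at hg
  | succ m ih =>
    intro k hk hhalf
    obtain ⟨hrel, hinj⟩ := ih (k + 1) (by omega) (by omega)
    have hkn : k < D.nroots := by omega
    set N := posFrom D Y (k + 1) with hN
    have hup : ∀ r s, k ≤ r → r < D.nroots → k ≤ s → s < D.nroots → ∀ q ∈ T.terms r s,
        k + 1 ≤ q.1 ∧ Tabs.half D ≤ q.1 := by
      intro r s a b c d q hq
      have := ok.sidx_terms st.dn (b := true) ⟨b, by simp [sidx]; omega⟩ ⟨d, by simp [sidx]; omega⟩ hq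
      simp only [sidx, if_true] at this
      omega
    have hneg : ∀ r s, k ≤ r → r < D.nroots → k ≤ s → s < D.nroots → s ≠ T.neg r := by
      intro r s a b c d
      exact ok.sgn_neg_ne (b := true) ⟨b, by simp [sidx]; omega⟩ ⟨d, by simp [sidx]; omega⟩
    have hconj : ∀ (t : F) (s : ℕ) (u : F), k < s → s < D.nroots → (Y k t)⁻¹ * Y s u * Y k t ∈ N := by
      intro t s u hks hs
      have himg : ∀ u, ρ ((Y k t)⁻¹ * Y s u * Y k t) =
          ρ (Y s u * ((D.commWord F k s t u).map fun p => Y p.1 p.2).prod) := by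
        intro u
        rw [mul_assoc, map_mul (ρ) (Y k t)⁻¹, tl.word_img hkn hs (by omega) (hneg k s le_rfl hkn (by omega) hs) t u,
          ← map_mul]
        simp [mul_assoc]
      have hX : ∀ u, Y s u * ((D.commWord F k s t u).map fun p => Y p.1 p.2).prod ∈ N := fun u =>
        mul_mem (y_mem_pos (by omega) (by omega) hs u)
          (word_mem ok hkn hs (hup k s le_rfl hkn (by omega) hs) t u)
      rcases hpair k s hhalf hks hs with ⟨H, bs, hall, hHk, hHs, hbs⟩ | ⟨hcom, -⟩
      · have hb : bs - 1 ≠ 0 := sub_ne_zero.mpr hbs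
        obtain ⟨u, rfl⟩ : ∃ u', u = (bs - 1) * u' := ⟨u / (bs - 1), by field_simp⟩
        rw [← tl.comm s hs H (Y s u) bs u hHs (tl.img s hs u)]
        have hfix : (Y k t)⁻¹ * H * Y k t = H := by
          have h := htor k hkn H 1 hHk t
          rw [one_mul, mul_inv_eq_iff_eq_mul] at h
          rw [mul_assoc, h, inv_mul_cancel_left]
        rw [show (Y k t)⁻¹ * ⁅H, Y s u⁆ * Y k t = (Y k t)⁻¹ * ⁅H, Y s u⁆ * ((Y k t)⁻¹)⁻¹ by rw [inv_inv], conj_comm,
          inv_inv, hfix, hl.congr_comm rfl (himg u)]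
        have hnorm : ∀ g ∈ N, H * g * H⁻¹ ∈ N := by
          intro g hg
          induction hg using Subgroup.closure_induction with
          | mem z hz =>
            obtain ⟨j, v, h1, h2, h3, rfl⟩ := hz
            obtain ⟨b, hb⟩ := hall j h3
            rw [htor j h3 H b hb]
            exact y_mem_pos h1 h2 h3 _
          | one => simp
          | mul a b _ _ ha hb => rw [← conj_mul]; exact mul_mem ha hb
          | inv a _ ha => rw [← conj_inv]; exact inv_mem ha
        rw [commutatorElement_def]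
        exact mul_mem (hnorm _ (hX u)) (inv_mem (hX u))
      · rw [mul_assoc, ← hcom _ _ t u (tl.img k hkn t) (tl.img s hs u), inv_mul_cancel_left]
        exact y_mem_pos (by omega) (by omega) hs u
    have hkN : ∀ t, ∀ g ∈ N, (Y k t)⁻¹ * g * Y k t ∈ N := by
      intro t g hg
      induction hg using Subgroup.closure_induction with
      | mem z hz =>
        obtain ⟨j, v, h1, h2, h3, rfl⟩ := hz
        exact hconj t j v (by omega) h3
      | one => simp
      | mul a b _ _ ha hb =>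
        have := mul_mem ha hb
        simpa [mul_assoc] using this
      | inv a _ ha =>
        have := inv_mem ha
        simpa [mul_assoc] using this
    have hrelk : ∀ s, k < s → s < D.nroots → ∀ t u : F,
        (Y k t)⁻¹ * Y s u * Y k t = Y s u * ((D.commWord F k s t u).map fun p => Y p.1 p.2).prod := by
      intro s hks hs t u
      refine mul_inv_eq_one.mp (hinj _ (mul_mem (hconj t s u hks hs) (inv_mem
        (mul_mem (y_mem_pos (by omega) (by omega) hs u) (word_mem ok hkn hs (hup k s le_rfl hkn (by omega) hs) t u)))) ?_)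
      rw [map_mul, map_inv, mul_assoc ((Y k t)⁻¹), map_mul (ρ) (Y k t)⁻¹,
        tl.word_img hkn hs (by omega) (hneg k s le_rfl hkn (by omega) hs) t u, ← map_mul]
      simp [mul_assoc]
    refine ⟨fun r s a b c d hne => ?_, fun g hg hg1 => ?_⟩
    · rcases eq_or_lt_of_le a with e | e
      · subst e
        intro t u
        have := hrelk s (by omega) d t u
        rw [mul_assoc, inv_mul_eq_iff_eq_mul, ← mul_assoc] at this
        exact this
      rcases eq_or_lt_of_le c with e' | e'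
      · subst e'
        intro t u
        -- both sides of the inverted relation lie in the subgroup after `k`
        have h1 : Y r t * Y k u = Y k u * ((Y k u)⁻¹ * Y r t * Y k u) := by simp [mul_assoc]
        rw [h1, mul_assoc (Y k u)]
        set g := (Y k u)⁻¹ * Y r t * Y k u with hgdef
        have hgN : g ∈ N := hconj u r t (by omega) b
        have hP := word_mem (Y := Y) ok b hkn (hup r k a b le_rfl hkn) t u
        have hkey : Y r t = g * ((D.commWord F r k t u).map fun p => Y p.1 p.2).prod := by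
          refine mul_inv_eq_one.mp (hinj _ (mul_mem (y_mem_pos (by omega) (by omega) b t)
            (inv_mem (mul_mem hgN hP))) ?_)
          rw [map_mul, map_inv, mul_inv_eq_one, hgdef, mul_assoc, mul_assoc, map_mul (ρ) (Y k u)⁻¹, eq_comm, map_inv,
            inv_mul_eq_iff_eq_mul, ← map_mul, ← mul_assoc (Y r t)]
          exact (tl.word_img b hkn (by omega) (hneg r k a b le_rfl hkn) t u).symm
        rw [← hkey]
      exact hrel r s (by omega) b (by omega) d hne
    · have hsplit : ∀ g ∈ posFrom D Y k, ∃ t : F, ∃ g' ∈ N, g = Y k t * g' := by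
        intro g hg
        induction hg using Subgroup.closure_induction_left with
        | one => exact ⟨0, 1, one_mem _, by rw [tl.zero hkn, one_mul]⟩
        | mul_left x hx g hg ih =>
          obtain ⟨j, v, h1, h2, h3, rfl⟩ := hx
          obtain ⟨u, g', hg', rfl⟩ := ih
          rcases eq_or_lt_of_le h1 with e | e
          · subst e
            exact ⟨v + u, g', hg', by rw [← mul_assoc, tl.add k hkn]⟩
          · refine ⟨u, (Y k u)⁻¹ * Y j v * Y k u * g', mul_mem (hkN u _ (y_mem_pos (by omega) h2 h3 v)) hg', ?_⟩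
            simp [mul_assoc]
        | inv_mul_cancel x hx g hg ih =>
          obtain ⟨j, v, h1, h2, h3, rfl⟩ := hx
          obtain ⟨u, g', hg', rfl⟩ := ih
          rw [tl.inv h3]
          rcases eq_or_lt_of_le h1 with e | e
          · subst e
            exact ⟨-v + u, g', hg', by rw [← mul_assoc, tl.add k hkn]⟩
          · refine ⟨u, (Y k u)⁻¹ * Y j (-v) * Y k u * g',
              mul_mem (hkN u _ (y_mem_pos (by omega) h2 h3 _)) hg', ?_⟩
            simp [mul_assoc]
      obtain ⟨t, g', hg', rfl⟩ := hsplit g hg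
      obtain ⟨x, hx, ex⟩ := tl.posFrom_img st (inv_mem hg')
      have h0 : t = 0 := by
        refine st.coord_zero (b := true) (r := k) (k := k) ⟨hkn, by simpa [sidx] using hhalf⟩ rfl hx ?_
        rw [ex, map_inv, ← tl.img k hkn]
        rw [map_mul] at hg1
        exact eq_inv_of_mul_eq_one_left hg1
      subst h0
      rw [tl.zero hkn, one_mul] at hg1 ⊢
      exact hinj g' hg' hg1

end TorLifts

/-- The relations for all pairs, carried from positive roots. -/
theorem exists_hom_tor (hl : Lifts ok ρ) {Y : ℕ → F → Γ} (tl : TorLifts hl Y) {W : List (List ℕ)}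
    (hW : T.chkWords D W = true)
    (hwl : ∀ w : List ℕ, (∀ i ∈ w, i < D.rank) →
      ∃ n : Γ, ∀ r < D.nroots, ∃ c : F, ∀ t, n * Y r t * n⁻¹ = Y (piW T w r) (c * t))
    (hpos : (∀ r s, Tabs.half D ≤ r → r < D.nroots → Tabs.half D ≤ s → s < D.nroots → s ≠ r → RelY D Y r s) ∧
      ∀ g ∈ posFrom D Y (Tabs.half D), ρ g = 1 → g = 1) :
    ∃ φ : D.SteinbergCover F →* Γ, ρ.comp φ = ok.scHom := by
  obtain ⟨hrel, hinj⟩ := hpos
  simp only [Tabs.chkWords, andR_iff, allL_iff, nlt_iff, allR_iff, orR_iff, Nat.beq_eq, anyL_iff, ipos_iff,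
    Tabs.piR_eq] at hW
  obtain ⟨hWr, hW⟩ := hW
  have hall : ∀ r s, r < D.nroots → s < D.nroots → s ≠ r → s ≠ T.neg r → RelY D Y r s := by
    intro r s hr hs h1 h2 t u
    rcases hW r hr s hs with e | e | ⟨w, hwW, hwr, hws, hwq⟩
    · exact absurd e h1
    · exact absurd e h2
    have hw := hWr w hwW
    obtain ⟨n, hn⟩ := hwl w hw
    have hlt : ∀ x, x < D.nroots → piW T w x < D.nroots := fun x hx => ok.piW_lt hw hx
    have hhalf : ∀ x, x < D.nroots → 0 < T.htf (piW T w x) → Tabs.half D ≤ piW T w x := fun x hx h =>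
      (ok.pos_iff_half (hlt x hx)).mp h
    have hne : piW T w s ≠ piW T w r := by
      intro e
      refine h1 ?_
      obtain ⟨cs, hcs⟩ := hn s hs
      obtain ⟨cr, hcr⟩ := hn r hr
      have e1 := hcs 1
      rw [e] at e1
      by_cases hc0 : cr = 0
      · have := hcr 1
        rw [hc0, zero_mul, tl.zero (hlt r hr), mul_inv_eq_one, mul_eq_left] at this
        have h := congrArg ρ this
        rw [tl.img r hr, map_one, ← ok.toOK.xG_zero r] at h
        exact absurd (ok.toOK.xG_right_inj hr h) one_ne_zero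
      · have e2 := hcr (cr⁻¹ * (cs * 1))
        rw [mul_inv_cancel_left₀ hc0, ← e1, mul_left_inj, mul_right_inj] at e2
        have h := congrArg ρ e2
        rw [tl.img r hr, tl.img s hs] at h
        exact ok.toOK.xG_eq_iff hs hr one_ne_zero h.symm
    obtain ⟨cr, hcr⟩ := hn r hr
    obtain ⟨cs, hcs⟩ := hn s hs
    set P := ((D.commWord F r s t u).map fun p => Y p.1 p.2).prod with hP
    have hPn : n * P * n⁻¹ ∈ posFrom D Y (Tabs.half D) := by
      have : n * P * n⁻¹ = MulAut.conj n P := rfl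
      rw [this, hP, map_list_prod, List.map_map]
      refine list_prod_mem fun x hx => ?_
      obtain ⟨p, hp, rfl⟩ := List.mem_map.mp hx
      simp only [ChevalleyDatum.commWord, ok.toOK.terms_eq hr hs, List.mem_map] at hp
      obtain ⟨q, hq, rfl⟩ := hp
      have hqn := (ok.toOK.term_spec hr hs hq).1
      obtain ⟨c, hc⟩ := hn _ hqn
      show n * Y q.1 _ * n⁻¹ ∈ _
      rw [hc]
      exact TorLifts.y_mem_pos (hhalf _ hqn (hwq q hq)) (hhalf _ hqn (hwq q hq)) (hlt _ hqn) _
    have e := hrel (piW T w r) (piW T w s) (hhalf r hr hwr) (hlt r hr) (hhalf s hs hws) (hlt s hs) hne (cr * t)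
      (cs * u)
    rw [← hcr, ← hcs, conj_mul, conj_mul] at e
    set Q := ((D.commWord F (piW T w r) (piW T w s) (cr * t) (cs * u)).map fun p => Y p.1 p.2).prod with hQ
    have hQm : Q ∈ posFrom D Y (Tabs.half D) := by
      refine TorLifts.word_mem ok (hlt r hr) (hlt s hs) (fun q hq => ?_) _ _
      have h := ok.terms_up (hlt r hr) (hhalf r hr hwr) (hlt s hs) (hhalf s hs hws) hq
      have := hhalf r hr hwr
      omega
    have hPQ : n * P * n⁻¹ = Q := by
      refine mul_inv_eq_one.mp (hinj _ (mul_mem hPn (inv_mem hQm)) ?_)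
      rw [map_mul, map_inv, mul_inv_eq_one]
      have e' := congrArg ρ e
      rw [map_mul _ _ Q, map_mul, map_mul, tl.word_img hr hs h1 h2 t u, ← hP, ← map_mul, ← map_mul,
        show n * (Y r t * Y s u * P) * n⁻¹ = n * (Y r t * Y s u) * n⁻¹ * (n * P * n⁻¹) by simp [mul_assoc],
        map_mul] at e'
      exact mul_left_cancel e'
    rw [← hPQ] at e
    have e2 : n * (Y s u * Y r t) * n⁻¹ = n * (Y r t * Y s u * P) * n⁻¹ := by
      rw [e]; simp [mul_assoc]
    exact mul_left_cancel (mul_right_cancel e2)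
  let f : Fin D.nroots × F → Γ := fun p => Y p.1 p.2
  have hX : ∀ (r : ℕ), r < D.nroots → ∀ t : F, FreeGroup.lift f (D.stX r t) = Y r t := by
    intro r hr t
    rw [ChevalleyDatum.stX, dif_pos hr, FreeGroup.lift_apply_of]
  have hrels : ∀ g ∈ D.steinbergRelsAB F, FreeGroup.lift f g = 1 := by
    rintro g (⟨r, a, b, hr, rfl⟩ | ⟨r, s, t, u, hr, hs, h1, h2, rfl⟩)
    · rw [map_mul, map_mul, map_inv, hX r hr, hX r hr, hX r hr, tl.add r hr, mul_inv_cancel]
    rw [ok.toOK.neg_eq hr] at h2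
    have hw : FreeGroup.lift f (D.stWord (D.commWord F r s t u)) =
        ((D.commWord F r s t u).map fun p => Y p.1 p.2).prod := by
      rw [ChevalleyDatum.stWord, map_list_prod, List.map_map]
      refine congrArg List.prod (List.map_congr_left fun p hp => ?_)
      simp only [ChevalleyDatum.commWord, ok.toOK.terms_eq hr hs, List.mem_map] at hp
      obtain ⟨q, hq, rfl⟩ := hp
      exact hX _ (ok.toOK.term_spec hr hs hq).1 _
    simp only [map_mul, map_inv, hX r hr, hX s hs, hw]
    rw [mul_inv_eq_one, mul_assoc, mul_assoc, inv_mul_eq_iff_eq_mul, inv_mul_eq_iff_eq_mul, ← mul_assoc]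
    exact hall r s hr hs h1 h2 t u
  refine ⟨PresentedGroup.toGroup hrels, PresentedGroup.ext fun p => ?_⟩
  rw [MonoidHom.comp_apply, PresentedGroup.toGroup.of]
  obtain ⟨⟨r, hr⟩, t⟩ := p
  show ρ (Y r t) = _
  rw [tl.img r hr t]
  have := ok.scHom_gen (F := F) hr t
  rw [ChevalleyDatum.scGen, ChevalleyDatum.stX, dif_pos hr] at this
  exact this.symm

end Lifts

end Cfsg.Agent.Chev
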