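import Cfsg.Agent.Lib.BN.Elliptic
import Cfsg.Agent.Lib.Chev.DefectZero
import Cfsg.Agent.Lib.Chev.UnipotentCount
import Cfsg.Agent.Lib.Solv.Coprime

/-!
The values of the Steinberg character at the elements of order prime to the characteristic.
-/

set_option autoImplicit false
set_option linter.style.haveILetI false

namespace Cfsg.Agent.Chev

open Cfsg Cfsg.Lie Cfsg.Agent.BN Cfsg.Agent.Char
open scoped Pointwise

variable {F : Type*} [Field F] {D : ChevalleyDatum} {T : Tabs}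

namespace OKX

variable (ok : OKX D T) {M : List (List (ℕ × ℤ))} (hM : Tabs.chkCow D T M = true)

include ok

/-- An element with all descents carries the negative unipotent group into the positive one. -/
theorem conj_top {n : ↥(D.group F)} (hn : n ∈ (ok.bnPair (F := F)).N)
    (hd : AllDown (ok.bnPair (F := F)) (ok.bnPair (F := F)).S n) {x : GL D.Idx F} (hx : x ∈ D.negUnipotent F) :
    (n : GL D.Idx F) * x * (n : GL D.Idx F)⁻¹ ∈ D.posUnipotent F := by
  have hsub := Finset.Subset.refl (Finset.range D.rank)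
  obtain ⟨v, hv, e⟩ := ok.exists_gE hn
  have hvd : AllDown (ok.bnPair (F := F)) (ok.sG F '' (↑(Finset.range D.rank) : Set ℕ)) (ok.gE F v) := by
    rw [← ok.coe_sJ, ok.coe_sJ_range]
    exact allDown_congr (subset_refl _) hn (eqv_symm e) hd
  have e' := ok.eqv_iff.mp e
  rw [ok.coe_gE] at e'
  set W := ok.toOK.gW F v with hW
  set τ := W⁻¹ * (n : GL D.Idx F) with hτ
  have hnW : (n : GL D.Idx F) = W * τ := by simp [hτ]
  induction hx using Subgroup.closure_induction with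
  | mem y hy =>
    obtain ⟨r, a, hr, hy⟩ := hy
    obtain ⟨hr1, hr0⟩ := ok.toOK.isNeg_iff.mp hr
    obtain ⟨b, -, hb⟩ := ok.toOK.diag_conj_xG e' hr1 a
    obtain ⟨c, -, hc⟩ := (ok.toOK.act_gW (F := F) v hv).2.1 r hr1
    have hneg := ok.toOK.neg_lt hr1
    have h1 := (ok.neg_of_allDown hsub (fun i hi => Finset.mem_range.mpr (hv i hi)) hvd hneg (supp_range _)
      (by rw [ok.toOK.ht_neg hr1]; omega)).2
    rw [ok.piW_neg hv hr1, ok.toOK.ht_neg (ok.piW_lt hv hr1)] at h1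
    rw [ok.toOK.eq_xG hy, hnW, mul_inv_rev,
      show W * τ * ok.toOK.xG r a * (τ⁻¹ * W⁻¹) = W * (τ * ok.toOK.xG r a * τ⁻¹) * W⁻¹ by simp [mul_assoc],
      hb, hW, (hc _).1]
    exact ok.toOK.xG_mem_pos (ok.toOK.isPos_iff.mpr ⟨ok.piW_lt hv hr1, by omega⟩) _
  | one => simp
  | mul p q _ _ hp hq => rw [← conj_mul]; exact mul_mem hp hq
  | inv p _ hp => rw [← conj_inv]; exact inv_mem hp

/-- The positive root subgroups of a set of fundamental roots. -/
def uPart (F : Type*) [Field F] (J : Finset ℕ) : Subgroup (GL D.Idx F) :=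
  Subgroup.closure {g | ∃ (r : ℕ) (t : F), D.IsPosRoot r ∧ D.InRootSub (↑J : Set ℕ) r ∧ g = ok.toOK.xG r t}

/-- An element with all descents in `J` carries the positive part of `J` into the negative unipotent group. -/
theorem conj_uPart {J : Finset ℕ} (hJ : J ⊆ Finset.range D.rank) {n : ↥(D.group F)}
    (hn : n ∈ wSub (ok.bnPair (F := F)) (ok.sJ_subset hJ))
    (hd : AllDown (ok.bnPair (F := F)) (↑(ok.sJ F J) : Set ↥(D.group F)) n) {x : GL D.Idx F}
    (hx : x ∈ ok.uPart F J) : (n : GL D.Idx F) * x * (n : GL D.Idx F)⁻¹ ∈ D.negUnipotent F := by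
  have hn' : n ∈ wSub (ok.bnPair (F := F)) (ok.image_sG_subset hJ) := by
    obtain ⟨l, hl, e⟩ := mem_wSub.mp hn
    exact mem_wSub.mpr ⟨l, fun z hz => ok.coe_sJ (F := F) J ▸ hl z hz, e⟩
  obtain ⟨v, hv, e⟩ := ok.exists_word_J hJ hn'
  have hvr : ∀ i ∈ v, i < D.rank := fun i hi => Finset.mem_range.mp (hJ (hv i hi))
  have hvd : AllDown (ok.bnPair (F := F)) (ok.sG F '' (↑J : Set ℕ)) (ok.gE F v) := by
    rw [← ok.coe_sJ]
    exact allDown_congr (ok.sJ_subset hJ) (wSub_le_N _ hn) (eqv_symm e) hd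
  have e' := ok.eqv_iff.mp e
  rw [ok.coe_gE] at e'
  set W := ok.toOK.gW F v with hW
  set τ := W⁻¹ * (n : GL D.Idx F) with hτ
  have hnW : (n : GL D.Idx F) = W * τ := by simp [hτ]
  induction hx using Subgroup.closure_induction with
  | mem y hy =>
    obtain ⟨r, a, hr, hrJ, rfl⟩ := hy
    obtain ⟨hr1, hr0⟩ := ok.toOK.isPos_iff.mp hr
    obtain ⟨b, -, hb⟩ := ok.toOK.diag_conj_xG e' hr1 a
    obtain ⟨c, -, hc⟩ := (ok.toOK.act_gW (F := F) v hvr).2.1 r hr1
    rw [hnW, mul_inv_rev,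
      show W * τ * ok.toOK.xG r a * (τ⁻¹ * W⁻¹) = W * (τ * ok.toOK.xG r a * τ⁻¹) * W⁻¹ by simp [mul_assoc],
      hb, hW, (hc _).1]
    exact ok.toOK.xG_mem_neg (ok.toOK.isNeg_iff.mpr ⟨ok.piW_lt hvr hr1,
      (ok.neg_of_allDown hJ hv hvd hr1 ((ok.inRootSub_iff_supp hr1).mp hrJ) hr0).2⟩) _
  | one => simp
  | mul p q _ _ hp hq => rw [← conj_mul]; exact mul_mem hp hq
  | inv p _ hp => rw [← conj_inv]; exact inv_mem hp

include hM

open Classical in
set_option maxHeartbeats 800000 in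
/-- Up to sign, the value at a `p`-regular element is the order of a `p`-subgroup of its centraliser. -/
theorem exists_pgroup_value [Fintype F] (p : ℕ) [Fact p.Prime] [CharP F p] (g : ↥(D.group F))
    (hg : ¬ p ∣ orderOf g) : ∃ Q : Subgroup ↥(D.group F), IsPGroup p ↥Q ∧
      Q ≤ Subgroup.centralizer {g} ∧ ∃ m : ℕ,
      stS (ok.bnPair (F := F)) (ok.sJ F (Finset.range D.rank)) g = (-1) ^ m * (Nat.card ↥Q : ℤ) := by
  haveI : Finite (GL D.Idx F) := Finite.of_injective _ Units.val_injective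
  haveI : Finite ↥(D.group F) := Subtype.finite
  haveI := Fintype.ofFinite ↥(D.group F)
  set P := ok.bnPair (F := F) with hPdef
  -- a smallest parabolic subgroup meeting the class
  let ok' : Finset ℕ → Prop := fun J => J ⊆ Finset.range D.rank ∧
    ∃ h : ↥(D.group F), h * g * h⁻¹ ∈ P.parabolic (↑(ok.sJ F J) : Set ↥(D.group F))
  have hne : ((Finset.range D.rank).powerset.filter ok').Nonempty :=
    ⟨Finset.range D.rank, Finset.mem_filter.mpr ⟨Finset.mem_powerset.mpr (Finset.Subset.refl _),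
      Finset.Subset.refl _, 1, by rw [ok.coe_sJ_range, parabolic_top]; trivial⟩⟩
  obtain ⟨J, hJmem, hmin⟩ := Finset.exists_min_image _ (fun J : Finset ℕ => J.card) hne
  obtain ⟨-, hJ, h₀, hh₀⟩ := Finset.mem_filter.mp hJmem
  set g' := h₀ * g * h₀⁻¹ with hg'
  have hsJ : ok.sJ F J ⊆ ok.sJ F (Finset.range D.rank) := Finset.image_subset_image hJ
  have hell : ∀ (h : ↥(D.group F)), ∀ K : Finset ↥(D.group F), K ⊂ ok.sJ F J →
      h * g' * h⁻¹ ∉ P.parabolic (↑K : Set ↥(D.group F)) := by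
    intro h K hK hmem
    obtain ⟨J', hJ', rfl⟩ := Finset.subset_image_iff.mp hK.1
    have hJ'r : J' ⊆ Finset.range D.rank := fun i hi => hJ (hJ' hi)
    have hle := hmin J' (Finset.mem_filter.mpr ⟨Finset.mem_powerset.mpr hJ'r, hJ'r, h * h₀, by
      have e : h * h₀ * g * (h * h₀)⁻¹ = h * g' * h⁻¹ := by rw [hg']; simp [mul_assoc]
      rw [e]; exact hmem⟩)
    have e := Finset.eq_of_subset_of_card_le hJ' hle
    subst e
    exact hK.2 (Finset.Subset.refl _)
  obtain ⟨a, ha, w₀, hw₀, had, hwd, hxR, hxall, hval⟩ := exists_stS_eq (P := P)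
    (sS := ok.sJ F (Finset.range D.rank)) (K := ok.sJ F J) ok.coe_sJ_range hsJ
    (fun n hn m hm hnd hmd => ok.uniq_allDown hJ hn hm hnd hmd) ok.uniq_top hh₀ hell
  set KS : Set ↥(D.group F) := ↑(ok.sJ F J) with hKS
  set x := a⁻¹ * w₀ with hx
  have hK : KS ⊆ P.S := ok.sJ_subset hJ
  have haN := wSub_le_N _ ha
  have hxN : x ∈ P.N := mul_mem (inv_mem haN) hw₀
  set L := linked P KS x with hL
  have hLS : L ⊆ P.S := linked_subset x
  set PK := P.parabolic KS with hPK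
  set R : Subgroup ↥(D.group F) := (D.unipotentRadical F (↑J : Set ℕ)).subgroupOf (D.group F) with hR
  have hUB : ∀ z : ↥(D.group F), (z : GL D.Idx F) ∈ D.posUnipotent F → z ∈ P.B := fun z hz =>
    (le_sup_left : D.posUnipotent F ≤ D.borelSubgroup F) hz
  have hRB : ∀ z ∈ R, z ∈ P.B := fun z hz => hUB z (ok.uJ_le_pos _ hz)
  have hRK : ∀ z ∈ R, z ∈ PK := fun z hz => borel_le _ (hRB z hz)
  have hPKn : PK ≤ Subgroup.normalizer (R : Set ↥(D.group F)) := by
    intro h hh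
    rw [hPK, ← ok.parabolicIn_eq hJ] at hh
    rw [Subgroup.mem_normalizer_iff]
    exact fun z => Subgroup.mem_normalizer_iff.mp (ok.parabolic_normalizes hM (↑J : Set ℕ) hh) (z : GL D.Idx F)
  -- the negative unipotent group moved by the inverse of the longest element
  have hwN : len P w₀⁻¹ = D.nroots / 2 := by
    obtain ⟨n₀, hn₀, hlen, hd₀⟩ := ok.exists_top (F := F)
    rw [len_inv hw₀, len_congr hw₀ (ok.uniq_top _ hw₀ _ hn₀ hwd hd₀), hlen]
  have hwd' := ok.allDown_of_len (inv_mem hw₀) hwN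
  -- the stabiliser of the base point
  set Q0 := P.parabolic L with hQ0
  set y₀ : ↥(D.group F) ⧸ Q0 := (x : ↥(D.group F) ⧸ Q0) with hy₀
  have hstab : ∀ z, z • y₀ = y₀ ↔ x⁻¹ * z * x ∈ Q0 := fun z => by
    rw [hy₀, MulAction.Quotient.smul_mk, QuotientGroup.eq, smul_eq_mul, ← inv_mem_iff]
    simp [mul_assoc]
  set S0 := PK ⊓ MulAction.stabilizer ↥(D.group F) y₀ with hS0
  have hS0n : S0 ≤ Subgroup.normalizer (R : Set ↥(D.group F)) := inf_le_left.trans hPKn
  have htor : ∀ t ∈ tor P, t ∈ S0 := fun t ht => ⟨borel_le _ ht.1, MulAction.mem_stabilizer_iff.mpr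
    ((hstab t).mpr (borel_le _ (conj_tor' hxN ht).1))⟩
  have hX : ∀ z : ↥(D.group F), (z : GL D.Idx F) ∈ ok.uPart F J → z ∈ S0 := by
    intro z hz
    have hzU : (z : GL D.Idx F) ∈ D.posUnipotent F :=
      (Subgroup.closure_le _).mpr (show {g | ∃ (r : ℕ) (t : F), D.IsPosRoot r ∧ D.InRootSub (↑J : Set ℕ) r ∧
        g = ok.toOK.xG r t} ⊆ (D.posUnipotent F : Set (GL D.Idx F)) from
        fun g ⟨r, t, hr, _, e⟩ => e ▸ ok.toOK.xG_mem_pos hr t) hz
    refine ⟨borel_le _ (hUB z hzU), MulAction.mem_stabilizer_iff.mpr ((hstab z).mpr (borel_le _ ?_))⟩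
    refine hUB _ ?_
    have h1 := ok.conj_uPart hJ ha had hz
    have h2 := ok.conj_top (inv_mem hw₀) hwd' h1
    simp only [hx, Subgroup.coe_mul, Subgroup.coe_inv, mul_inv_rev, inv_inv] at h2 ⊢
    simpa [mul_assoc] using h2
  have hletters : ∀ s ∈ KS, s ∈ S0 := by
    intro s hs
    obtain ⟨t, ht, e⟩ := hxall s hs
    refine ⟨Subgroup.mem_sup_right (Subgroup.subset_closure hs), MulAction.mem_stabilizer_iff.mpr ((hstab s).mpr ?_)⟩
    have htQ : t ∈ Q0 := Subgroup.mem_sup_right (Subgroup.subset_closure ⟨ht, s, hs, e⟩)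
    have h1 : (x * t)⁻¹ * (s * x) ∈ Q0 := borel_le _ (eqv_symm e).1
    have := mul_mem htQ h1
    simpa [mul_assoc] using this
  have hsup : PK ≤ R ⊔ S0 := by
    refine sup_le (fun b hb => ?_) ((Subgroup.closure_le _).mpr fun s hs => Subgroup.mem_sup_right (hletters s hs))
    obtain ⟨u, hu, t, ht, rfl⟩ := ok.borel_dec hb
    refine mul_mem ?_ (Subgroup.mem_sup_right (htor t ht))
    have hle : D.posUnipotent F ≤ (R ⊔ S0).map (D.group F).subtype := by
      refine (Subgroup.closure_le _).mpr ?_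
      rintro w ⟨r, t', hr, hw⟩
      rw [ok.toOK.eq_xG hw]
      refine ⟨ok.xS r t', ?_, rfl⟩
      by_cases hrJ : D.InRootSub (↑J : Set ℕ) r
      · exact Subgroup.mem_sup_right (hX _ (Subgroup.subset_closure ⟨r, t', hr, hrJ, rfl⟩))
      · exact Subgroup.mem_sup_left (ok.xG_mem_uJ _ hr hrJ t')
    obtain ⟨u', hu', e⟩ := hle hu
    rwa [← show u' = u from Subtype.ext e]
  have htrans : ∀ h ∈ PK, ∃ r ∈ R, h • y₀ = r • y₀ := by
    intro h hh
    have hm := hsup hh
    rw [← SetLike.mem_coe, Subgroup.coe_mul_of_right_le_normalizer_left _ _ hS0n] at hm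
    obtain ⟨r, hr, s, hs, rfl⟩ := Set.mem_mul.mp hm
    exact ⟨r, hr, by rw [mul_smul, MulAction.mem_stabilizer_iff.mp hs.2]⟩
  have hfree : ∀ r ∈ R, r • y₀ = y₀ → r = 1 := by
    intro r hr hfix
    set q := x⁻¹ * r * x with hq
    have hqQ : q ∈ Q0 := (hstab r).mp hfix
    obtain ⟨u, hu, -, hqu, hxq⟩ := inDC_mul_parabolic hLS hxN hxR hqQ
    have huN := prod_mem_N (isWord_mono hLS hu)
    have e1 : x * q = r * x := by simp [hq, mul_assoc]
    rw [e1] at hxq
    have e2 := eqv_of_inDC (mul_mem hxN huN) hxN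
      (inDC_trans (inDC_symm hxq) (inDC_mul_left (hRB r hr) (inDC_self x)))
    have hut : u.prod ∈ P.B := by
      have h3 : (x * u.prod)⁻¹ * x ∈ tor P := e2
      have h4 : (x * u.prod)⁻¹ * x ∈ P.B := (Subgroup.mem_inf.mp h3).1
      have := inv_mem h4
      simpa [mul_assoc] using this
    obtain ⟨c, hc, c', hc', eq'⟩ := inDC_iff.mp hqu
    have hqB : q ∈ P.B := by rw [eq']; exact mul_mem (mul_mem hc hut) hc'
    have haK : a ∈ PK := by rw [hPK, ← pSub_eq hK]; exact ⟨a, ha, inDC_self a⟩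
    have hr' : a * r * a⁻¹ ∈ R := (Subgroup.mem_normalizer_iff.mp (hPKn haK) r).mp hr
    have h4 : w₀⁻¹ * (a * r * a⁻¹) * (w₀⁻¹)⁻¹ ∈ P.B := by
      simpa [hq, hx, mul_assoc] using hqB
    have h5 := ok.borel_inter_opp (inv_mem hw₀) hwd' (hRB _ hr') h4
    have h6 : ((a * r * a⁻¹ : ↥(D.group F)) : GL D.Idx F) = 1 := Subgroup.mem_bot.mp <|
      ok.pos_inf_diag (F := F) ▸ Subgroup.mem_inf.mpr ⟨ok.uJ_le_pos _ hr', ok.mem_tor_iff.mp h5⟩
    exact conj_eq_one_iff.mp (Subtype.ext h6)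
  -- a fixed point and the fixed points
  obtain ⟨S, hS⟩ := ok.sylow_pos (F := F) p
  have hRp : IsPGroup p ↥R := S.isPGroup'.to_le (by rw [hS]; exact fun z hz => ok.uJ_le_pos _ hz)
  set A := Subgroup.zpowers g' with hA
  have hAK : A ≤ PK := Subgroup.zpowers_le.mpr hh₀
  have hord : orderOf g' = orderOf g := orderOf_injective (MulAut.conj h₀).toMonoidHom (MulAut.conj h₀).injective g
  have hcop : (Nat.card ↥A).Coprime (Nat.card ↥R) := by
    obtain ⟨n, hn⟩ := IsPGroup.iff_card.mp hRp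
    rw [hn, Nat.card_zpowers, hord]
    exact Nat.Coprime.pow_right _ ((Fact.out : p.Prime).coprime_iff_not_dvd.mpr hg).symm
  have hsolv : Group.IsSolvable ↥A ∨ Group.IsSolvable ↥R := by
    haveI := hRp.isNilpotent
    exact Or.inr inferInstance
  set O : Set (↥(D.group F) ⧸ Q0) := {y | ∃ h ∈ PK, h • y₀ = y} with hO
  obtain ⟨y, ⟨h₁, hh₁, hy⟩, hyfix⟩ := Cfsg.Agent.Solv.exists_fixedPoint A R (hAK.trans hPKn) hcop hsolv O
    (fun b hb z ⟨h, hh, e⟩ => ⟨b * h, mul_mem (hAK hb) hh, by rw [mul_smul, e]⟩)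
    (fun b hb z ⟨h, hh, e⟩ => ⟨b * h, mul_mem (hRK b hb) hh, by rw [mul_smul, e]⟩)
    (fun z ⟨h, hh, e⟩ z' ⟨h', hh', e'⟩ => by
      obtain ⟨r, hr, er⟩ := htrans h hh
      obtain ⟨r', hr', er'⟩ := htrans h' hh'
      exact ⟨r' * r⁻¹, mul_mem hr' (inv_mem hr), by rw [← e, ← e', er, er', mul_smul, inv_smul_smul]⟩)
    y₀ ⟨1, one_mem _, one_smul _ _⟩
  obtain ⟨r₁, hr₁, hr₁y⟩ := htrans h₁ hh₁
  set C := R ⊓ Subgroup.centralizer {g'} with hC
  have hgy : g' • y = y := hyfix g' (Subgroup.mem_zpowers g')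
  have hcard : Nat.card {z : ↥(D.group F) ⧸ Q0 // g' • z = z ∧ ∃ h ∈ PK, h • y₀ = z} = Nat.card ↥C := by
    symm
    refine Nat.card_eq_of_bijective (fun c => ⟨(c : ↥(D.group F)) • y, ?_, (c : ↥(D.group F)) * h₁,
      mul_mem (hRK _ c.2.1) hh₁, by rw [mul_smul, hy]⟩) ⟨?_, ?_⟩
    · have hc := Subgroup.mem_centralizer_singleton_iff.mp c.2.2
      rw [smul_smul, ← hc, mul_smul, hgy]
    · intro c c' e
      have e' : (c : ↥(D.group F)) • y = (c' : ↥(D.group F)) • y := congrArg Subtype.val e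
      rw [← hy, hr₁y, smul_smul, smul_smul, eq_comm, ← inv_smul_eq_iff, smul_smul] at e'
      have := hfree _ (mul_mem (inv_mem (mul_mem c.2.1 hr₁)) (mul_mem c'.2.1 hr₁)) e'
      rw [inv_mul_eq_one] at this
      exact Subtype.ext (mul_right_cancel this)
    · rintro ⟨z, hz, h, hh, ez⟩
      obtain ⟨r, hr, er⟩ := htrans h hh
      obtain ⟨c, hc, hcy⟩ := Cfsg.Agent.Solv.exists_centralizer_smul_eq A R (hAK.trans hPKn) hcop hsolv y z
        hyfix (fun b hb => by
          have hst : A ≤ MulAction.stabilizer ↥(D.group F) z := Subgroup.zpowers_le.mpr hz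
          exact hst hb)
        ⟨r * r₁⁻¹, mul_mem hr (inv_mem hr₁), by rw [← hy, hr₁y, mul_smul, inv_smul_smul, ← er, ez]⟩
      refine ⟨⟨c, hc.1, ?_⟩, Subtype.ext hcy⟩
      exact Subgroup.mem_centralizer_singleton_iff.mpr
        (Subgroup.mem_centralizer_iff.mp hc.2 g' (Subgroup.mem_zpowers g')).symm
  refine ⟨C.map (MulAut.conj h₀⁻¹).toMonoidHom, (hRp.to_le inf_le_left).map _, ?_, (ok.sJ F J).card, ?_⟩
  · rintro _ ⟨c, hc, rfl⟩
    have h := Subgroup.mem_centralizer_singleton_iff.mp hc.2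
    rw [Subgroup.mem_centralizer_singleton_iff]
    have h' := congrArg (fun z => h₀⁻¹ * z * h₀) h
    simpa [hg', mul_assoc] using h'
  · rw [Subgroup.card_map_of_injective (MulAut.conj h₀⁻¹).injective, ← hcard]
    refine Eq.trans ?_ hval
    rw [← stJ_eq_stS ok.coe_sJ_range, ← stJ_eq_stS ok.coe_sJ_range, hg',
      stJ_conj (by rw [ok.coe_sJ_range, parabolic_top]; trivial)]

/-- The value at a `p`-regular element is, up to sign, the `p`-part of the order of the centraliser. -/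
theorem steinberg_value [Fintype F] (p : ℕ) [Fact p.Prime] [CharP F p] (g : ↥(D.group F)) (hg : ¬ p ∣ orderOf g) :
    D.steinbergCharacter F g =
        ((p ^ (Nat.card ↥(Subgroup.centralizer ({g} : Set ↥(D.group F)))).factorization p : ℕ) : ℂ) ∨
      D.steinbergCharacter F g =
        -((p ^ (Nat.card ↥(Subgroup.centralizer ({g} : Set ↥(D.group F)))).factorization p : ℕ) : ℂ) := by
  haveI : Finite (GL D.Idx F) := Finite.of_injective _ Units.val_injective
  haveI : Finite ↥(D.group F) := Subtype.finite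
  haveI := Fintype.ofFinite ↥(D.group F)
  have hp : p.Prime := Fact.out
  obtain ⟨Q, hQp, hQC, m, hm⟩ := ok.exists_pgroup_value hM p g hg
  set C := Subgroup.centralizer ({g} : Set ↥(D.group F)) with hC
  set e := (Nat.card ↥C).factorization p with he
  set z := stS (ok.bnPair (F := F)) (ok.sJ F (Finset.range D.rank)) g with hz
  have hval : D.steinbergCharacter F g = (z : ℂ) := ok.steinberg_eq g
  obtain ⟨a, ha⟩ := IsPGroup.iff_card.mp hQp
  have hle : a ≤ e := by
    rw [he, ← hp.pow_dvd_iff_le_factorization Nat.card_pos.ne', ← ha]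
    exact Subgroup.card_dvd_of_le hQC
  -- integrality of the central character
  have hint := Cfsg.Agent.Char.isIntegral_centralChar (ok.steinberg_irr (F := F)) g
  have hq' : ((Fintype.card F : ℂ) ^ (D.nroots / 2)) = ((p ^ (Nat.card ↥(D.group F)).factorization p : ℕ) : ℂ) := by
    rw [ok.factorization_card p]; push_cast; rfl
  rw [ok.steinberg_one, hval, hq'] at hint
  set P' := p ^ (Nat.card ↥(D.group F)).factorization p with hP'
  have hP0 : (P' : ℂ) ≠ 0 := Nat.cast_ne_zero.mpr (pow_ne_zero _ hp.ne_zero)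
  obtain ⟨w, hw⟩ : ∃ w : ℤ, (C.index : ℤ) * z = w * P' := by
    have hq : IsIntegral ℤ ((((C.index : ℤ) * z : ℤ) : ℚ) / (P' : ℚ)) := by
      rw [← isIntegral_algebraMap_iff (B := ℂ) (RingHom.injective _)]
      simpa [map_div₀, map_mul, map_intCast, map_natCast] using hint
    obtain ⟨w, hw⟩ := IsIntegrallyClosed.isIntegral_iff.mp hq
    refine ⟨w, ?_⟩
    simp only [eq_intCast] at hw
    have hP0' : (P' : ℚ) ≠ 0 := Nat.cast_ne_zero.mpr (pow_ne_zero _ hp.ne_zero)
    rw [eq_div_iff hP0'] at hw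
    exact_mod_cast hw.symm
  obtain ⟨j, hj⟩ : P' ∣ Nat.card ↥(D.group F) := Nat.ordProj_dvd _ _
  have hpj : ¬ p ∣ j := by
    have h := Nat.not_dvd_ordCompl hp (Nat.card_pos (α := ↥(D.group F))).ne'
    rwa [← hP', hj, Nat.mul_div_cancel_left _ (pow_pos hp.pos _)] at h
  have hdvd : (p ^ e : ℕ) ∣ z.natAbs := by
    have h1 : ((Nat.card ↥C : ℕ) : ℤ) ∣ (j : ℤ) * z := by
      refine ⟨w, mul_left_cancel₀ (Int.natCast_ne_zero.mpr (pow_ne_zero ((Nat.card ↥(D.group F)).factorization p)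
        hp.ne_zero) : ((P' : ℕ) : ℤ) ≠ 0) ?_⟩
      rw [← mul_assoc, ← Nat.cast_mul, ← hj, ← C.card_mul_index, Nat.cast_mul, mul_assoc, hw]
      ring
    have h2 : p ^ e ∣ j * z.natAbs := by
      have h3 := (Nat.ordProj_dvd (Nat.card ↥C) p).trans (Int.natCast_dvd.mp h1)
      rwa [Int.natAbs_mul, Int.natAbs_natCast] at h3
    exact (Nat.Coprime.pow_left _ ((hp.coprime_iff_not_dvd).mpr hpj)).dvd_of_dvd_mul_left h2
  have habs : z.natAbs = p ^ a := by
    rw [hm, Int.natAbs_mul, Int.natAbs_pow, Int.natAbs_neg, Int.natAbs_one, one_pow, one_mul, Int.natAbs_natCast, ha]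
  rw [habs] at hdvd
  have hea : e = a := le_antisymm ((Nat.pow_dvd_pow_iff_le_right hp.one_lt).mp hdvd) hle
  rw [hval, hm, ha, hea]
  rcases neg_one_pow_eq_or ℤ m with h | h
  · left; rw [h]; simp
  · right; rw [h]; simp

end OKX

end Cfsg.Agent.Chev
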