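import Cfsg.Agent.Lib.Chev.Engine
import Cfsg.Prelude.Def_ChevStructure

/-!
Tables for a Chevalley datum and the checks that are evaluated on them.
-/

set_option autoImplicit false

namespace Cfsg.Agent.Chev

open Cfsg.Lie

/-- Precomputed tables. -/
structure Tabs where
  /-- root, column: entries off the unit entry (row, coefficient, power of the parameter) -/
  X : Tr (Tr (List (ℕ × ℤ × ℕ)))
  /-- height -/
  ht : Tr ℤ
  /-- fundamental root, root: image under the reflection and sign -/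
  rf : Tr (Tr (ℕ × ℤ))
  /-- Cartan integers -/
  A : Tr (Tr ℤ)
  /-- coroot coefficients -/
  cor : Tr (Tr ℤ)
  /-- negation -/
  ng : Tr ℕ
  /-- fundamental roots -/
  sp : Tr ℕ
  /-- root: partners and chains -/
  ch : Tr (List (ℕ × List (ℕ × ℤ)))
  /-- root, root: commutator terms -/
  tm : Tr (Tr (List (ℕ × ℤ × ℕ × ℕ)))
  /-- two coefficients with a Bezout combination equal to one -/
  bz : Tr (ℕ × ℕ × ℤ × ℤ)
  /-- the roots, each with the way it is reached -/
  order : List (ℕ × Option (ℕ × ℕ))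

/-- Equality of booleans. -/
noncomputable def beqB (a b : Bool) : Bool := @Bool.rec (fun _ => Bool) (notR b) b a

@[simp] theorem beqB_iff {a b : Bool} : beqB a b = true ↔ a = b := by cases a <;> simp [beqB]

/-- Strictly positive integers. -/
noncomputable def ipos (a : ℤ) : Bool := @Int.rec (fun _ => Bool) (fun n => nlt 0 n) (fun _ => false) a

@[simp] theorem ipos_iff {a : ℤ} : ipos a = true ↔ 0 < a := by cases a <;> simp [ipos]

/-- The list of the numbers below `n`. -/
noncomputable def upTo (n : ℕ) : List ℕ := @Nat.rec (fun _ => List ℕ) [] (fun k r => appR r [k]) n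

@[simp] theorem upTo_eq : ∀ n : ℕ, upTo n = List.range n
  | 0 => rfl
  | n + 1 => by
    show appR (upTo n) [n] = _
    rw [appR_eq, upTo_eq n, List.range_succ]

/-- Equality of entries of columns. -/
noncomputable def eqT (a b : ℕ × ℤ × ℕ) : Bool :=
  andR (Nat.beq a.1 b.1) (andR (ieq a.2.1 b.2.1) (Nat.beq a.2.2 b.2.2))

theorem eq_of_eqT (a b : ℕ × ℤ × ℕ) (h : eqT a b = true) : a = b := by
  obtain ⟨a1, a2, a3⟩ := a; obtain ⟨b1, b2, b3⟩ := b; simp_all [eqT]

/-- Equality of terms. -/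
noncomputable def eqQ (a b : ℕ × ℤ × ℕ × ℕ) : Bool :=
  andR (Nat.beq a.1 b.1) (andR (ieq a.2.1 b.2.1) (andR (Nat.beq a.2.2.1 b.2.2.1) (Nat.beq a.2.2.2 b.2.2.2)))

theorem eq_of_eqQ (a b : ℕ × ℤ × ℕ × ℕ) (h : eqQ a b = true) : a = b := by
  obtain ⟨a1, a2, a3, a4⟩ := a; obtain ⟨b1, b2, b3, b4⟩ := b; simp_all [eqQ]

/-- Equality of chain steps. -/
noncomputable def eqP (a b : ℕ × ℤ) : Bool := andR (Nat.beq a.1 b.1) (ieq a.2 b.2)

theorem eq_of_eqP (a b : ℕ × ℤ) (h : eqP a b = true) : a = b := by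
  obtain ⟨a1, a2⟩ := a; obtain ⟨b1, b2⟩ := b; simp_all [eqP]

/-- Equality of chains with their starting roots. -/
noncomputable def eqC (a b : ℕ × List (ℕ × ℤ)) : Bool := andR (Nat.beq a.1 b.1) (eqL eqP a.2 b.2)

theorem eq_of_eqC (a b : ℕ × List (ℕ × ℤ)) (h : eqC a b = true) : a = b := by
  obtain ⟨a1, a2⟩ := a; obtain ⟨b1, b2⟩ := b
  simp only [eqC, andR_iff, Nat.beq_eq] at h
  rw [h.1, eq_of_eqL eq_of_eqP h.2]

variable (D : ChevalleyDatum)

namespace Tabs

variable (T : Tabs)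

noncomputable def ext (r c : ℕ) : List (ℕ × ℤ × ℕ) := (T.X.get .nil r).get [] c
noncomputable def colT (r c : ℕ) : List (ℕ × ℤ × ℕ) := (c, Int.ofNat 1, 0) :: T.ext r c
noncomputable def htf (r : ℕ) : ℤ := T.ht.get 0 r
noncomputable def refl (i s : ℕ) : ℕ := ((T.rf.get .nil i).get (0, 0) s).1
noncomputable def eta (i s : ℕ) : ℤ := ((T.rf.get .nil i).get (0, 0) s).2
noncomputable def cA (i s : ℕ) : ℤ := (T.A.get .nil i).get 0 s
noncomputable def cC (r i : ℕ) : ℤ := (T.cor.get .nil r).get 0 i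
noncomputable def neg (r : ℕ) : ℕ := T.ng.get 0 r
noncomputable def smp (i : ℕ) : ℕ := T.sp.get 0 i
noncomputable def terms (r s : ℕ) : List (ℕ × ℤ × ℕ × ℕ) := (T.tm.get .nil r).get [] s

/-- The partners of a root with their chains. -/
noncomputable def chs (r : ℕ) : List (ℕ × List (ℕ × ℤ)) :=
  @Bool.rec (fun _ => List (ℕ × List (ℕ × ℤ))) [] (T.ch.get [] r) (nlt r D.nroots)

noncomputable def chainE (r s : ℕ) : List (ℕ × ℤ) := lookR s (T.chs D r)
noncomputable def cRoot (r s i : ℕ) : Option ℕ := ((T.chainE D r s)[i - 1]?).map Prod.fst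
noncomputable def cM (r s i : ℕ) : ℤ := (((T.chainE D r s)[i - 1]?).map Prod.snd).getD 0

/-- The commutator terms, computed from the tables. -/
noncomputable def commT (r s : ℕ) : List (ℕ × ℤ × ℕ × ℕ) :=
  let rs := T.cRoot D r s 1
  let cands : List (Option ℕ × ℤ × ℕ × ℕ) :=
    [ (T.cRoot D r s 1, T.cM D r s 1, 1, 1),
      (T.cRoot D r s 2, T.cM D r s 2, 2, 1),
      (T.cRoot D s r 2, T.cM D s r 2, 1, 2),
      (T.cRoot D r s 3, T.cM D r s 3, 3, 1),
      (T.cRoot D s r 3, - T.cM D s r 3, 1, 3),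
      ((T.cRoot D r s 3).bind fun k => T.cRoot D k s 1, (rs.map fun k => T.cM D k r 2 / 3).getD 0, 3, 2),
      ((T.cRoot D s r 3).bind fun k => T.cRoot D k r 1, (rs.map fun k => -2 * T.cM D k s 2 / 3).getD 0, 2, 3) ]
  cands.filterMap fun c => c.1.map fun k => (k, c.2)

/-- The reflection, computed from the tables. -/
noncomputable def reflT (i s : ℕ) : ℕ :=
  let p := T.smp i
  let A := T.cA i s
  if s = p then T.neg p
  else if s = T.neg p then p
  else if 0 < A then (T.cRoot D (T.neg p) s A.toNat).getD s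
  else if A < 0 then (T.cRoot D p s (-A).toNat).getD s
  else s

/-- The expected entries of a column off the unit entry. -/
noncomputable def extX (r c : ℕ) : List (ℕ × ℤ × ℕ) :=
  @Bool.rec (fun _ => List (ℕ × ℤ × ℕ))
    (@Bool.rec (fun _ => List (ℕ × ℤ × ℕ))
      (@Bool.rec (fun _ => List (ℕ × ℤ × ℕ))
        (flatR (fun e => @Bool.rec (fun _ => List (ℕ × ℤ × ℕ)) []
            (mapIdxR (fun k v => (Nat.add D.rank v.1, v.2, Nat.add k 1)) e.2 0) (Nat.beq e.1 (Nat.sub c D.rank)))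
          (T.chs D r))
        (appR (filterR (fun e => notR (ieq e.2.1 0)) (mapR (fun i => (i, T.cC r i, 1)) (upTo D.rank)))
          [(Nat.add D.rank r, Int.negSucc 0, 2)])
        (Nat.beq (Nat.sub c D.rank) (T.neg r)))
      [] (Nat.beq (Nat.sub c D.rank) r))
    (filterR (fun e => notR (ieq e.2.1 0)) [(Nat.add D.rank r, Int.neg (T.cA c r), 1)])
    (nlt c D.rank)

/-- The columns of `x_r(c t^a u^b)`. -/
noncomputable def XC (r : ℕ) (c : ℤ) (a b : ℤ) (j : ℕ) : List En :=
  mapR (fun e => ⟨e.1, Int.mul e.2.1 (ipow c e.2.2), Int.mul (Int.ofNat e.2.2) a, Int.mul (Int.ofNat e.2.2) b⟩)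
    (T.colT r j)

/-- The columns of `x_r(t + u)`. -/
noncomputable def addC (r j : ℕ) : List En :=
  flatR (fun e => mapR (fun i => ⟨e.1, e.2.1 * (Nat.choose e.2.2 i : ℤ), (i : ℤ), ((e.2.2 - i : ℕ) : ℤ)⟩)
    (upTo (e.2.2 + 1))) (T.colT r j)

/-- A word: root and monomial argument. -/
abbrev Wd := List (ℕ × ℤ × ℤ × ℤ)

/-- The columns of a word. -/
noncomputable def wordC (w : Wd) : ℕ → List En :=
  @List.rec (ℕ × ℤ × ℤ × ℤ) (fun _ => ℕ → List En) idC
    (fun f _ r c => actEn (T.XC f.1 f.2.1 f.2.2.1 f.2.2.2) (r c)) w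

/-- The columns of the monomial matrix of a fundamental root, `a = 1` keeping the parameter. -/
noncomputable def MC (i : ℕ) (a : ℤ) (c : ℕ) : List En :=
  @Bool.rec (fun _ => List En)
    [⟨Nat.add D.rank (T.refl i (Nat.sub c D.rank)), T.eta i (Nat.sub c D.rank),
      Int.mul a (Int.neg (T.cA i (Nat.sub c D.rank))), 0⟩]
    [⟨c, Int.ofNat 1, 0, 0⟩, ⟨i, Int.neg (T.cA c (T.smp i)), 0, 0⟩]
    (nlt c D.rank)

/-- The columns of the diagonal matrix of a fundamental root. -/
noncomputable def HC (i : ℕ) (c : ℕ) : List En :=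
  @Bool.rec (fun _ => List En) [⟨c, Int.ofNat 1, T.cA i (Nat.sub c D.rank), 0⟩] [⟨c, Int.ofNat 1, 0, 0⟩]
    (nlt c D.rank)

/-! ### Checks -/

/-- The tables agree with the arrays of the datum. -/
noncomputable def chkArr : Bool :=
  andR (eqL Nat.beq D.simpleIdx.toList (mapR T.smp (upTo D.rank))) <|
  andR (eqL Nat.beq D.negIdx.toList (mapR T.neg (upTo D.nroots))) <|
  andR (eqL (eqL ieq) (mapR Array.toList D.coroot.toList)
    (mapR (fun r => mapR (T.cC r) (upTo D.rank)) (upTo D.nroots))) <|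
  andR (eqL (eqL ieq) (mapR Array.toList D.cartanSR.toList)
    (mapR (fun i => mapR (T.cA i) (upTo D.nroots)) (upTo D.rank))) <|
  eqL (eqL eqC) (mapR (fun a => mapR (fun e => (e.1, e.2.toList)) a.toList) D.chain.toList)
    (mapR (fun r => T.ch.get [] r) (upTo D.nroots))

/-- The columns agree with the datum. -/
noncomputable def chkCol (r : ℕ) : Bool :=
  allR (Nat.add D.rank D.nroots) fun c => eqL eqT (T.ext r c) (T.extX D r c)

/-- Basic properties of roots and negatives. -/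
noncomputable def chkRoot (r : ℕ) : Bool :=
  andR (nlt (T.neg r) D.nroots) <| andR (Nat.beq (T.neg (T.neg r)) r) <| andR (notR (Nat.beq (T.neg r) r)) <|
  andR (ieq (T.htf (T.neg r)) (Int.neg (T.htf r))) <| andR (notR (ieq (T.htf r) 0)) <|
  andR (beqB (allR D.rank fun i => inn (T.cC r i)) (ipos (T.htf r))) <|
  andR (beqB (allR D.rank fun i => inn (Int.neg (T.cC r i))) (ipos (Int.neg (T.htf r)))) <|
  andR (allR D.rank fun i => andR (ieq (T.cA i (T.neg r)) (Int.neg (T.cA i r)))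
    (ieq (T.cC (T.neg r) i) (Int.neg (T.cC r i)))) <|
  andR (nlt (T.bz.get (0, 0, 0, 0) r).1 D.rank) <| andR (nlt (T.bz.get (0, 0, 0, 0) r).2.1 D.rank) <|
  ieq ((T.bz.get (0, 0, 0, 0) r).2.2.1 * T.cC r (T.bz.get (0, 0, 0, 0) r).1 +
    (T.bz.get (0, 0, 0, 0) r).2.2.2 * T.cC r (T.bz.get (0, 0, 0, 0) r).2.1) 1

/-- Weight of a basis vector. -/
noncomputable def wt (f : ℕ → ℤ) (c : ℕ) : ℤ :=
  @Bool.rec (fun _ => ℤ) (f (Nat.sub c D.rank)) 0 (nlt c D.rank)

/-- Entries are in range and respect the weights. -/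
noncomputable def chkGrad (r : ℕ) : Bool :=
  allR (Nat.add D.rank D.nroots) fun c => allL (fun e =>
    andR (nlt e.1 (Nat.add D.rank D.nroots)) <| andR (notR (Nat.beq e.2.2 0)) <| andR (notR (Nat.beq e.1 c)) <|
    andR (ieq (wt D T.htf e.1) (Int.add (wt D T.htf c) (Int.mul (Int.ofNat e.2.2) (T.htf r)))) <|
    allR D.rank fun i => ieq (wt D (T.cA i) e.1) (Int.add (wt D (T.cA i) c) (Int.mul (Int.ofNat e.2.2) (T.cA i r))))
    (T.ext r c)

/-- Facts on one fundamental root. -/
noncomputable def chkSimple (i : ℕ) : Bool :=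
  andR (nlt (T.smp i) D.nroots) <| andR (ieq (T.htf (T.smp i)) 1) <| andR (ieq (T.cA i (T.smp i)) 2) <|
  andR (Nat.beq (T.refl i (T.smp i)) (T.neg (T.smp i))) <|
  andR (ieq (T.eta i (T.smp i)) (-1)) <| andR (ieq (T.eta i (T.neg (T.smp i))) (-1)) <|
  allR D.rank fun j => ieq (T.cC (T.smp i) j) (@Bool.rec (fun _ => ℤ) 0 1 (Nat.beq j i))

/-- The integer of a root on a fundamental coroot, from the coroot coefficients. -/
noncomputable def pair (i s : ℕ) : ℤ :=
  @Nat.rec (fun _ => ℤ) 0 (fun k acc => Int.add acc (Int.mul (T.cC s k) (T.cA k (T.smp i)))) D.rank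

/-- Facts on a fundamental root and a root. -/
noncomputable def chkRefl (i s : ℕ) : Bool :=
  andR (nlt (T.refl i s) D.nroots) <| andR (Nat.beq (T.refl i s) (T.reflT D i s)) <|
  andR (Nat.beq (T.refl i (T.refl i s)) s) <| andR (Nat.beq (T.refl i (T.neg s)) (T.neg (T.refl i s))) <|
  andR (orR (ieq (T.eta i s) 1) (ieq (T.eta i s) (-1))) <|
  andR (ieq (T.eta i s * T.eta i (T.refl i s)) (ipow (-1) (T.cA i s).natAbs)) <|
  andR (ieq (T.eta i s * T.eta i (T.neg s)) 1) <|
  andR (orR (Nat.beq s (T.smp i)) (orR (notR (ipos (T.htf s))) (ipos (T.htf (T.refl i s))))) <|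
  allR D.rank fun j =>
    andR (ieq (T.cA j (T.refl i s)) (T.cA j s - T.cA i s * T.cA j (T.smp i)))
      (ieq (T.cC (T.refl i s) j) (T.cC s j - @Bool.rec (fun _ => ℤ) 0 (T.pair D i s) (Nat.beq j i)))

/-- `x_p(t) x_{-p}(-1/t) x_p(t)` and the diagonal element. -/
noncomputable def chkWord (i : ℕ) : Bool :=
  andR
    (colsEqv (Nat.add D.rank D.nroots)
      (T.wordC [(T.smp i, 1, 1, 0), (T.neg (T.smp i), -1, -1, 0), (T.smp i, 1, 1, 0)]) (T.MC D i 1))
    (colsEqv (Nat.add D.rank D.nroots)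
      (comp (T.MC D i 1) (T.wordC [(T.smp i, -1, 0, 0), (T.neg (T.smp i), 1, 0, 0), (T.smp i, -1, 0, 0)]))
      (T.HC D i))

/-- Conjugation of the root elements in a range by a fundamental monomial matrix. -/
noncomputable def chkConj (i lo N : ℕ) : Bool :=
  allFrom lo N fun s => colsEqv (Nat.add D.rank D.nroots) (comp (T.MC D i 0) (T.XC s 1 1 0))
    (comp (T.XC (T.refl i s) (T.eta i s) 1 0) (T.MC D i 0))

/-- The commutator terms agree with the datum. -/
noncomputable def chkTerms (r : ℕ) : Bool :=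
  andR (allL (fun e => andR (eqL eqQ (T.terms r e.1) (T.commT D r e.1))
    (eqL eqQ (T.terms e.1 r) (T.commT D e.1 r))) (T.chs D r)) <|
  allR D.nroots fun s => orR (isNilR (T.terms r s))
    (andR (orR (anyL (fun e => Nat.beq e.1 s) (T.chs D r)) (anyL (fun e => Nat.beq e.1 r) (T.chs D s)))
      (allL (fun q => andR (nlt q.1 D.nroots) <| andR (notR (Nat.beq q.2.2.1 0)) <|
        andR (notR (Nat.beq q.2.2.2 0)) <|
        ieq (T.htf q.1) (Int.add (Int.mul (Int.ofNat q.2.2.1) (T.htf r)) (Int.mul (Int.ofNat q.2.2.2) (T.htf s))))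
        (T.terms r s)))

/-- The terms correspond under a reflection. -/
noncomputable def chkTransport (i r : ℕ) : Bool :=
  allR D.nroots fun s => eqL eqQ (T.terms (T.refl i r) (T.refl i s))
    (mapR (fun q => (T.refl i q.1,
        Int.mul (Int.mul (Int.mul (T.eta i q.1) q.2.1) (ipow (T.eta i r) q.2.2.1)) (ipow (T.eta i s) q.2.2.2),
        q.2.2.1, q.2.2.2))
      (T.terms r s))

/-- The commutator word. -/
noncomputable def commW (r s : ℕ) : Wd :=
  mapR (fun q => (q.1, Int.mul q.2.1 (ipow (Int.negSucc 0) q.2.2.1), Int.ofNat q.2.2.1, Int.ofNat q.2.2.2))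
    (T.terms r s)

/-- Additivity for a representative root. -/
noncomputable def chkAdd (r : ℕ) : Bool :=
  colsEqv (Nat.add D.rank D.nroots) (comp (T.XC r 1 1 0) (T.XC r 1 0 1)) (T.addC r)

/-- The commutator formula for a representative root and a range of roots. -/
noncomputable def chkBase (r lo N : ℕ) : Bool :=
  allFrom lo N fun s => orR (Nat.beq s r) <| orR (Nat.beq s (T.neg r)) <|
    colsEqv (Nat.add D.rank D.nroots) (comp (T.XC s 1 0 1) (T.XC r 1 1 0))
      (T.wordC ((r, 1, 1, 0) :: (s, 1, 0, 1) :: T.commW r s))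

/-- The representative roots. -/
noncomputable def reps : List ℕ :=
  flatR (fun e => @Option.rec (ℕ × ℕ) (fun _ => List ℕ) [e.1] (fun _ => []) e.2) T.order

/-- All steps of the order carry the terms. -/
noncomputable def chkSteps : Bool :=
  allL (fun e => @Option.rec (ℕ × ℕ) (fun _ => Bool) true (fun q => T.chkTransport D q.1 q.2) e.2) T.order

/-- Roots reached in order. -/
noncomputable def chkOrder (L : List (ℕ × Option (ℕ × ℕ))) : List ℕ → Bool :=
  @List.rec (ℕ × Option (ℕ × ℕ)) (fun _ => List ℕ → Bool)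
    (fun seen => allR D.nroots fun r => anyL (fun s => Nat.beq s r) seen)
    (fun e _ ok seen =>
      andR (nlt e.1 D.nroots) <|
      andR (@Option.rec (ℕ × ℕ) (fun _ => Bool) true
          (fun q => andR (nlt q.1 D.rank) <| andR (anyL (fun s => Nat.beq s q.2) seen) <|
            Nat.beq (T.refl q.1 q.2) e.1) e.2) <|
      ok (e.1 :: seen)) L

end Tabs

end Cfsg.Agent.Chev
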