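import Cfsg.Agent.Lib.Chev.Group

/-!
The diagonal subgroup and the monomial subgroup.
-/

set_option autoImplicit false

namespace Cfsg.Agent.Chev

open Cfsg.Lie

variable {F : Type*} [Field F]

namespace OK

variable {D : ChevalleyDatum} {T : Tabs} (ok : OK D T)

include ok

theorem coe_hG_diag {r : ℕ} (hr : r < D.nroots) {t : F} (ht : t ≠ 0) :
    (ok.hG r t : Matrix D.Idx D.Idx F) = hDiag D T r t := by rw [coe_hG, ok.hMat_all hr t ht]

theorem hG_mul {r : ℕ} (hr : r < D.nroots) {a b : F} (ha : a ≠ 0) (hb : b ≠ 0) :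
    ok.hG r a * ok.hG r b = ok.hG r (a * b) :=
  Units.ext (by rw [Units.val_mul, ok.coe_hG_diag hr ha, ok.coe_hG_diag hr hb,
    ok.coe_hG_diag hr (mul_ne_zero ha hb), ok.hDiag_mul])

theorem hG_inv {r : ℕ} (hr : r < D.nroots) {a : F} (ha : a ≠ 0) : (ok.hG r a)⁻¹ = ok.hG r a⁻¹ :=
  inv_eq_of_mul_eq_one_right (by rw [ok.hG_mul hr ha (inv_ne_zero ha), mul_inv_cancel₀ ha, ok.hG_one hr])

/-- The product of fundamental diagonal elements with parameters `c`. -/
def torG (c : ℕ → F) : GL D.Idx F := ok.wordG ((List.range D.rank).flatMap fun i => D.hWord (D.simple i) (c i))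

theorem coe_torG {c : ℕ → F} (hc : ∀ i < D.rank, c i ≠ 0) :
    (ok.torG c : Matrix D.Idx D.Idx F) = Matrix.diagonal (Sum.elim (fun _ => (1 : F))
      fun s : Fin D.nroots => ∏ i ∈ Finset.range D.rank, c i ^ T.cA i s) := by
  rw [torG, coe_wordG]
  suffices h : ∀ n ≤ D.rank, D.wordMat F ((List.range n).flatMap fun i => D.hWord (D.simple i) (c i)) =
      Matrix.diagonal (Sum.elim (fun _ => (1 : F))
        fun s : Fin D.nroots => ∏ i ∈ Finset.range n, c i ^ T.cA i s) from h _ le_rfl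
  intro n
  induction n with
  | zero =>
    intro _
    rw [List.range_zero, List.flatMap_nil, wordMat_nil, ← Matrix.diagonal_one]
    congr 1; funext a; rcases a with a | a <;> simp
  | succ n ih =>
    intro hn
    rw [List.range_succ, List.flatMap_append, wordMat_append, ih (Nat.le_of_succ_le hn), List.flatMap_singleton,
      ← ChevalleyDatum.hMat, ok.hMat_eq hn (hc n hn), Matrix.diagonal_mul_diagonal]
    congr 1; funext a
    rcases a with a | s
    · simp
    · simp [Finset.prod_range_succ, ok.cartan_eq hn s.isLt]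

theorem torG_mul {c d : ℕ → F} (hc : ∀ i < D.rank, c i ≠ 0) (hd : ∀ i < D.rank, d i ≠ 0) :
    ok.torG c * ok.torG d = ok.torG (fun i => c i * d i) := by
  refine Units.ext ?_
  rw [Units.val_mul, ok.coe_torG hc, ok.coe_torG hd, ok.coe_torG (fun i hi => mul_ne_zero (hc i hi) (hd i hi)),
    Matrix.diagonal_mul_diagonal]
  congr 1; funext a
  rcases a with a | s <;> simp [mul_zpow, Finset.prod_mul_distrib]

theorem torG_one : ok.torG (fun _ => (1 : F)) = 1 := by
  refine Units.ext ?_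
  rw [ok.coe_torG (fun i _ => one_ne_zero), Units.val_one, ← Matrix.diagonal_one]
  congr 1; funext a
  rcases a with a | s <;> simp

theorem torG_inv {c : ℕ → F} (hc : ∀ i < D.rank, c i ≠ 0) : (ok.torG c)⁻¹ = ok.torG (fun i => (c i)⁻¹) := by
  refine inv_eq_of_mul_eq_one_right (Units.ext ?_)
  rw [Units.val_mul, ok.coe_torG hc, ok.coe_torG (fun i hi => inv_ne_zero (hc i hi)), Matrix.diagonal_mul_diagonal,
    Units.val_one, ← Matrix.diagonal_one]
  congr 1; funext a
  rcases a with a | s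
  · simp
  · simp only [Sum.elim_inr, ← Finset.prod_mul_distrib]
    exact Finset.prod_eq_one fun i hi => by
      rw [inv_zpow, mul_inv_cancel₀ (zpow_ne_zero _ (hc i (Finset.mem_range.mp hi)))]

theorem hG_eq_torG {r : ℕ} (hr : r < D.nroots) {t : F} (ht : t ≠ 0) :
    ok.hG r t = ok.torG (fun i => t ^ T.cC r i) := by
  refine Units.ext ?_
  rw [ok.coe_hG_diag hr ht, ok.coe_torG (fun i _ => zpow_ne_zero _ ht), hDiag]
  congr 1; funext a
  rcases a with a | s
  · simp [hExp]
  · simp only [hExp, Sum.elim_inr, ← zpow_mul]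
    induction Finset.range D.rank using Finset.cons_induction with
    | empty => simp
    | cons k S hk ih => rw [Finset.sum_cons, Finset.prod_cons, ← ih, zpow_add₀ ht]

theorem mem_diag {g : GL D.Idx F} :
    g ∈ D.diagonalSubgroup F ↔ ∃ c : ℕ → F, (∀ i < D.rank, c i ≠ 0) ∧ g = ok.torG c := by
  constructor
  · intro h
    induction h using Subgroup.closure_induction with
    | mem g hg =>
      obtain ⟨r, t, hr, ht, hg⟩ := hg
      exact ⟨fun i => t ^ T.cC r i, fun i _ => zpow_ne_zero _ ht,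
        (Units.ext (hg.trans (ok.coe_hG r t).symm)).trans (ok.hG_eq_torG hr ht)⟩
    | one => exact ⟨fun _ => 1, fun _ _ => one_ne_zero, ok.torG_one.symm⟩
    | mul a b _ _ ha hb =>
      obtain ⟨c, hc, rfl⟩ := ha; obtain ⟨d, hd, rfl⟩ := hb
      exact ⟨_, fun i hi => mul_ne_zero (hc i hi) (hd i hi), ok.torG_mul hc hd⟩
    | inv a _ ha =>
      obtain ⟨c, hc, rfl⟩ := ha
      exact ⟨_, fun i hi => inv_ne_zero (hc i hi), ok.torG_inv hc⟩
  · rintro ⟨c, hc, rfl⟩
    rw [torG, wordG]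
    rw [List.map_flatMap, List.flatMap_def, List.prod_flatten]
    refine list_prod_mem fun x hx => ?_
    simp only [List.map_map, List.mem_map, List.mem_range, Function.comp_apply] at hx
    obtain ⟨i, hi, rfl⟩ := hx
    exact Subgroup.subset_closure ⟨D.simple i, c i, by rw [ok.simple_eq hi]; exact ok.smp_lt hi, hc i hi,
      ok.coe_wordG _⟩

theorem hG_mem_diag {r : ℕ} (hr : r < D.nroots) {t : F} (ht : t ≠ 0) : ok.hG r t ∈ D.diagonalSubgroup F :=
  Subgroup.subset_closure ⟨r, t, hr, ht, ok.coe_hG r t⟩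

theorem diag_le_group : D.diagonalSubgroup F ≤ D.group F :=
  (Subgroup.closure_le _).mpr fun g ⟨r, t, _, _, hg⟩ => by
    rw [show g = ok.hG r t from Units.ext (hg.trans (ok.coe_hG r t).symm)]
    exact ok.wordG_mem _

theorem nG_mem_monomial {r : ℕ} (hr : r < D.nroots) : ok.nG r (1 : F) ∈ D.monomialSubgroup F :=
  Subgroup.mem_sup_right (Subgroup.subset_closure ⟨r, hr, ok.coe_nG r 1⟩)

theorem monomial_le_group : D.monomialSubgroup F ≤ D.group F :=
  sup_le ok.diag_le_group <| (Subgroup.closure_le _).mpr fun g ⟨r, _, hg⟩ => by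
    rw [show g = ok.nG r 1 from Units.ext (hg.trans (ok.coe_nG r 1).symm)]
    exact ok.wordG_mem _

theorem borel_le_group : D.borelSubgroup F ≤ D.group F := sup_le ok.pos_le_group ok.diag_le_group

theorem borel_sup_monomial : D.borelSubgroup F ⊔ D.monomialSubgroup F = D.group F := by
  refine le_antisymm (sup_le ok.borel_le_group ok.monomial_le_group) (ok.group_le fun r hr t => ?_)
  rcases ok.pos_or_neg hr with h | h
  · exact Subgroup.mem_sup_left (Subgroup.mem_sup_left (ok.xG_mem_pos h t))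
  by_cases ht : t = 0
  · rw [ht, ok.xG_zero]; exact one_mem _
  have hm := ok.neg_lt hr
  have hpos : D.IsPosRoot (T.neg r) := by
    rw [ok.isPos_iff]; rw [ok.isNeg_iff] at h
    exact ⟨hm, by rw [ok.ht_neg hr]; omega⟩
  set K := D.borelSubgroup F ⊔ D.monomialSubgroup F
  have hx : ∀ a : F, ok.xG (T.neg r) a ∈ K := fun a =>
    Subgroup.mem_sup_left (Subgroup.mem_sup_left (ok.xG_mem_pos hpos a))
  have hh : ∀ a : F, a ≠ 0 → ok.hG (T.neg r) a ∈ K := fun a ha =>
    Subgroup.mem_sup_right (Subgroup.mem_sup_left (ok.hG_mem_diag hm ha))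
  have hn : ∀ a : F, a ≠ 0 → ok.nG (T.neg r) a ∈ K := fun a ha => by
    have : ok.nG (T.neg r) a = ok.hG (T.neg r) a * ok.nG (T.neg r) 1 := by
      rw [hG_eq, mul_assoc, ← neg_neg (1 : F), ← ok.nG_inv hm, neg_neg, inv_mul_cancel, mul_one]
    rw [this]
    exact mul_mem (hh a ha) (Subgroup.mem_sup_right (ok.nG_mem_monomial hm))
  have h1 := hn (-t⁻¹) (neg_ne_zero.mpr (inv_ne_zero ht))
  rw [ok.nG_eq hm, ok.neg_neg' hr, inv_neg, inv_inv, neg_neg] at h1
  have h2 := mul_mem (mul_mem (inv_mem (hx (-t⁻¹))) h1) (inv_mem (hx (-t⁻¹)))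
  simpa [mul_assoc] using h2

theorem n_torG {i : ℕ} (hi : i < D.rank) {c : ℕ → F} (hc : ∀ k < D.rank, c k ≠ 0) :
    ok.nG (T.smp i) 1 * ok.torG c * (ok.nG (T.smp i) 1)⁻¹ ∈ D.diagonalSubgroup F := by
  have h : ok.torG c ∈ D.diagonalSubgroup F := ok.mem_diag.mpr ⟨c, hc, rfl⟩
  generalize ok.torG c = y at h ⊢
  induction h using Subgroup.closure_induction with
  | mem g hg =>
    obtain ⟨r, t, hr, ht, hg⟩ := hg
    rw [show g = ok.hG r t from Units.ext (hg.trans (ok.coe_hG r t).symm)]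
    have : ok.nG (T.smp i) 1 * ok.hG r t * (ok.nG (T.smp i) 1)⁻¹ = ok.hG (T.refl i r) t := by
      rw [mul_inv_eq_iff_eq_mul]
      refine Units.ext ?_
      rw [Units.val_mul, Units.val_mul, ok.coe_nG_simple hi, ok.coe_hG_diag hr ht,
        ok.coe_hG_diag (ok.refl_lt hi hr) ht, ok.n_hDiag hi hr]
    rw [this]
    exact ok.hG_mem_diag (ok.refl_lt hi hr) ht
  | one => simp
  | mul a b _ _ ha hb => rw [← conj_mul]; exact mul_mem ha hb
  | inv a _ ha => rw [← conj_inv]; exact inv_mem ha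

/-- Conjugation by a generator of the monomial group keeps the diagonal subgroup. -/
theorem nG_normalizes_diag {r : ℕ} (hr : r < D.nroots) {g : GL D.Idx F} (hg : g ∈ D.diagonalSubgroup F) :
    ok.nG r 1 * g * (ok.nG r 1)⁻¹ ∈ D.diagonalSubgroup F := by
  suffices h : ∀ (L : List (ℕ × Option (ℕ × ℕ))) (seen : List ℕ), T.chkOrder D L seen = true →
      (∀ e ∈ L, e ∈ T.order) →
      (∀ a ∈ seen, a < D.nroots ∧ ∀ x ∈ D.diagonalSubgroup F, ∀ u : F, u ≠ 0 →
        ok.nG a u * x * (ok.nG a u)⁻¹ ∈ D.diagonalSubgroup F) →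
      ∀ a < D.nroots, ∀ x ∈ D.diagonalSubgroup F, ∀ u : F, u ≠ 0 →
        ok.nG a u * x * (ok.nG a u)⁻¹ ∈ D.diagonalSubgroup F from
    h T.order [] ok.order (fun _ => id) (by simp) r hr g hg 1 one_ne_zero
  intro L
  induction L with
  | nil =>
    intro seen h _ hs a ha
    replace h : allR D.nroots (fun r => anyL (fun s => Nat.beq s r) seen) = true := h
    simp only [allR_iff, anyL_iff, Nat.beq_eq] at h
    obtain ⟨b, hb, rfl⟩ := h a ha
    exact (hs b hb).2
  | cons p L ih =>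
    obtain ⟨a, o⟩ := p
    intro seen h hL hs
    replace h : andR (nlt a D.nroots) (andR (@Option.rec (ℕ × ℕ) (fun _ => Bool) true
        (fun q => andR (nlt q.1 D.rank) <| andR (anyL (fun s => Nat.beq s q.2) seen) <|
          Nat.beq (T.refl q.1 q.2) a) o) (T.chkOrder D L (a :: seen))) = true := h
    simp only [andR_iff, nlt_iff] at h
    refine ih (a :: seen) h.2.2 (fun e he => hL e (List.mem_cons_of_mem _ he)) ?_
    intro b hb
    rcases List.mem_cons.mp hb with rfl | hb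
    swap
    · exact hs b hb
    refine ⟨h.1, fun x hx u hu => ?_⟩
    rcases o with _ | ⟨i, c⟩
    · obtain ⟨i, hi, rfl⟩ := ok.rep_simple (r := b) (by
        simp only [Tabs.reps, flatR_eq, List.mem_flatMap]
        exact ⟨_, hL _ List.mem_cons_self, List.mem_singleton.mpr rfl⟩)
      have hp := ok.smp_lt hi
      have e : ok.nG (T.smp i) u = ok.hG (T.smp i) u * ok.nG (T.smp i) 1 := by
        rw [hG_eq, mul_assoc, ← neg_neg (1 : F), ← ok.nG_inv hp, neg_neg, inv_mul_cancel, mul_one]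
      obtain ⟨d, hd, rfl⟩ := ok.mem_diag.mp hx
      rw [e, mul_inv_rev]
      have h1 := ok.n_torG hi hd
      have h2 := mul_mem (mul_mem (ok.hG_mem_diag hp hu) h1) (inv_mem (ok.hG_mem_diag hp hu))
      simpa [mul_assoc] using h2
    · have h2 := h.2.1
      simp only [andR_iff, nlt_iff, anyL_iff, Nat.beq_eq] at h2
      obtain ⟨hi, ⟨c', hc, rfl⟩, rfl⟩ := h2
      obtain ⟨hcn, hcd⟩ := hs _ hc
      have hu' : (T.eta i c' : F) * u ≠ 0 :=
        mul_ne_zero (left_ne_zero_of_mul_eq_one (ok.eta_sq hi hcn)) hu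
      have e1 := ok.n_nG hi hcn ((T.eta i c' : F) * u)
      rw [← mul_assoc (T.eta i c' : F), ok.eta_sq hi hcn, one_mul] at e1
      rw [← e1]
      have back : ∀ y ∈ D.diagonalSubgroup F,
          (ok.nG (T.smp i) 1)⁻¹ * y * (ok.nG (T.smp i) 1) ∈ D.diagonalSubgroup F := by
        intro y hy
        have hp := ok.smp_lt hi
        have e2 : (ok.nG (T.smp i) (1 : F))⁻¹ = ok.hG (T.smp i) (-1 : F) * ok.nG (T.smp i) 1 := by
          rw [hG_eq, mul_assoc, ← ok.nG_inv hp, inv_mul_cancel, mul_one]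
        obtain ⟨d, hd, rfl⟩ := ok.mem_diag.mp hy
        have hh := ok.hG_mem_diag (F := F) hp (neg_ne_zero.mpr (one_ne_zero (α := F)))
        have h3 := mul_mem (mul_mem hh (ok.n_torG hi hd)) (inv_mem hh)
        have e4 : ∀ a b : GL D.Idx F, a⁻¹ * b * a = a⁻¹ * b * (a⁻¹)⁻¹ := fun a b => by rw [inv_inv]
        rw [e4, e2, mul_inv_rev]
        simpa [mul_assoc] using h3
      obtain ⟨d, hd, hd'⟩ := ok.mem_diag.mp (hcd _ (back x hx) _ hu')
      have h4 := ok.n_torG hi hd
      rw [← hd'] at h4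
      simpa [mul_assoc] using h4

theorem diag_normal : ((D.diagonalSubgroup F).subgroupOf (D.monomialSubgroup F)).Normal := by
  refine (Subgroup.normal_subgroupOf_iff le_sup_left).mpr fun h g hh hg => ?_
  suffices hn : D.monomialSubgroup F ≤ Subgroup.normalizer (D.diagonalSubgroup F : Set (GL D.Idx F)) from
    (Subgroup.mem_normalizer_iff.mp (hn hg) h).mp hh
  refine sup_le Subgroup.le_normalizer ((Subgroup.closure_le _).mpr fun n ⟨r, hr, hn⟩ => ?_)
  rw [show n = ok.nG r 1 from Units.ext (hn.trans (ok.coe_nG r 1).symm), SetLike.mem_coe,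
    Subgroup.mem_normalizer_iff]
  intro x
  refine ⟨fun hx => ok.nG_normalizes_diag hr hx, fun hx => ?_⟩
  -- the inverse is a product of the element and a diagonal element
  have e2 : (ok.nG r (1 : F))⁻¹ = ok.hG r (-1 : F) * ok.nG r 1 := by
    rw [hG_eq, mul_assoc, ← ok.nG_inv hr, inv_mul_cancel, mul_one]
  have hh := ok.hG_mem_diag (F := F) hr (neg_ne_zero.mpr (one_ne_zero (α := F)))
  have h3 := mul_mem (mul_mem hh (ok.nG_normalizes_diag hr hx)) (inv_mem hh)
  have e5 : ok.hG r (-1 : F) * (ok.nG r 1 * (ok.nG r 1 * x * (ok.nG r 1)⁻¹) * (ok.nG r 1)⁻¹) * (ok.hG r (-1 : F))⁻¹ =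
      (ok.hG r (-1 : F) * ok.nG r 1) * (ok.nG r 1 * x * (ok.nG r 1)⁻¹) * (ok.hG r (-1 : F) * ok.nG r 1)⁻¹ := by
    simp [mul_assoc]
  rw [e5, ← e2, inv_inv] at h3
  simpa [mul_assoc] using h3

end OK

end Cfsg.Agent.Chev
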