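import Cfsg.Agent.Lib.Chev.Torus

/-!
Unitriangular matrices with respect to a weighting of the coordinates, and the subgroups U, V, B.
-/

set_option autoImplicit false

namespace Cfsg.Agent.Chev

open Cfsg.Lie

variable {F : Type*} [Field F] {ι : Type*} [Fintype ι] [DecidableEq ι]

/-- Matrices raising the weight by at least `m`. -/
def Lo (w : ι → ℤ) (m : ℤ) (A : Matrix ι ι F) : Prop := ∀ i j, w i < w j + m → A i j = 0

theorem Lo.mul {w : ι → ℤ} {m k : ℤ} {A B : Matrix ι ι F} (hA : Lo w m A) (hB : Lo w k B) : Lo w (m + k) (A * B) := by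
  intro i j h
  rw [Matrix.mul_apply]
  refine Finset.sum_eq_zero fun l _ => ?_
  by_cases h1 : w i < w l + m
  · rw [hA i l h1, zero_mul]
  · rw [hB l j (by omega), mul_zero]

omit [Fintype ι] [DecidableEq ι] in
theorem Lo.mono {w : ι → ℤ} {m k : ℤ} {A : Matrix ι ι F} (hA : Lo w m A) (h : k ≤ m) : Lo w k A :=
  fun i j h' => hA i j (by omega)

omit [Fintype ι] [DecidableEq ι] in
theorem Lo.add {w : ι → ℤ} {m : ℤ} {A B : Matrix ι ι F} (hA : Lo w m A) (hB : Lo w m B) : Lo w m (A + B) :=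
  fun i j h => by rw [Matrix.add_apply, hA i j h, hB i j h, add_zero]

omit [Fintype ι] [DecidableEq ι] in
theorem Lo.sub {w : ι → ℤ} {m : ℤ} {A B : Matrix ι ι F} (hA : Lo w m A) (hB : Lo w m B) : Lo w m (A - B) :=
  fun i j h => by rw [Matrix.sub_apply, hA i j h, hB i j h, sub_zero]

omit [Fintype ι] in
theorem Lo.one (w : ι → ℤ) : Lo w 0 (1 : Matrix ι ι F) := fun i j h => by
  rw [Matrix.one_apply_ne]; rintro rfl; omega

/-- The unitriangular group of level `m`. -/
def uTri (F : Type*) [Field F] (w : ι → ℤ) (m : ℕ) : Subgroup (GL ι F) where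
  carrier := {g | Lo w m ((g : Matrix ι ι F) - 1) ∧ Lo w m (((g⁻¹ : GL ι F) : Matrix ι ι F) - 1)}
  one_mem' := by simp [Lo]
  inv_mem' := fun {g} h => ⟨h.2, by rw [inv_inv]; exact h.1⟩
  mul_mem' := fun {a b} ha hb => by
    refine ⟨?_, ?_⟩
    · rw [Units.val_mul, show (a : Matrix ι ι F) * b - 1 =
        ((a : Matrix ι ι F) - 1) * ((b : Matrix ι ι F) - 1) + ((a : Matrix ι ι F) - 1) + ((b : Matrix ι ι F) - 1) by
          noncomm_ring]
      exact (((ha.1.mul hb.1).mono (by omega)).add ha.1).add hb.1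
    · rw [mul_inv_rev, Units.val_mul,
        show ((b⁻¹ : GL ι F) : Matrix ι ι F) * ((a⁻¹ : GL ι F) : Matrix ι ι F) - 1 =
          (((b⁻¹ : GL ι F) : Matrix ι ι F) - 1) * (((a⁻¹ : GL ι F) : Matrix ι ι F) - 1) +
            (((b⁻¹ : GL ι F) : Matrix ι ι F) - 1) + (((a⁻¹ : GL ι F) : Matrix ι ι F) - 1) by
          noncomm_ring]
      exact (((hb.2.mul ha.2).mono (by omega)).add hb.2).add ha.2

theorem Lo.unit {w : ι → ℤ} {m : ℕ} {g : GL ι F} (hg : g ∈ uTri F w m) : Lo w 0 (g : Matrix ι ι F) := by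
  have := (hg.1.mono (k := 0) (by omega)).add (Lo.one (F := F) w)
  rwa [sub_add_cancel] at this

theorem comm_mem_uTri {w : ι → ℤ} {m k : ℕ} {g h : GL ι F} (hg : g ∈ uTri F w m) (hh : h ∈ uTri F w k) :
    g * h * g⁻¹ * h⁻¹ ∈ uTri F w (m + k) := by
  have one : ∀ (a b : GL ι F), a ∈ uTri F w m → b ∈ uTri F w k →
      Lo w ((m + k : ℕ) : ℤ) (((a * b * a⁻¹ * b⁻¹ : GL ι F) : Matrix ι ι F) - 1) ∧
        Lo w ((m + k : ℕ) : ℤ) (((b * a * b⁻¹ * a⁻¹ : GL ι F) : Matrix ι ι F) - 1) := by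
    intro a b ha hb
    have hc : Lo w ((m + k : ℕ) : ℤ) ((a : Matrix ι ι F) * (b : Matrix ι ι F) - (b : Matrix ι ι F) * (a : Matrix ι ι F)) := by
      rw [show (a : Matrix ι ι F) * (b : Matrix ι ι F) - (b : Matrix ι ι F) * (a : Matrix ι ι F) =
        ((a : Matrix ι ι F) - 1) * ((b : Matrix ι ι F) - 1) - ((b : Matrix ι ι F) - 1) * ((a : Matrix ι ι F) - 1) by
          noncomm_ring]
      exact ((ha.1.mul hb.1).mono (by push_cast; omega)).sub ((hb.1.mul ha.1).mono (by push_cast; omega))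
    constructor
    · have e : ((a * b * a⁻¹ * b⁻¹ : GL ι F) : Matrix ι ι F) - 1 =
          ((a : Matrix ι ι F) * (b : Matrix ι ι F) - (b : Matrix ι ι F) * (a : Matrix ι ι F)) * ((a⁻¹ * b⁻¹ : GL ι F) : Matrix ι ι F) := by
        rw [sub_mul, ← Units.val_mul, ← Units.val_mul, ← Units.val_mul, ← Units.val_mul]
        simp [mul_assoc]
      rw [e, Units.val_mul]
      exact (hc.mul ((Lo.unit (inv_mem ha)).mul (Lo.unit (inv_mem hb)))).mono (by omega)
    · have e : ((b * a * b⁻¹ * a⁻¹ : GL ι F) : Matrix ι ι F) - 1 =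
          (0 - ((a : Matrix ι ι F) * (b : Matrix ι ι F) - (b : Matrix ι ι F) * (a : Matrix ι ι F))) * ((b⁻¹ * a⁻¹ : GL ι F) : Matrix ι ι F) := by
        rw [zero_sub, neg_sub, sub_mul, ← Units.val_mul, ← Units.val_mul, ← Units.val_mul, ← Units.val_mul]
        simp [mul_assoc]
      rw [e, Units.val_mul]
      refine ((Lo.sub ?_ hc).mul ((Lo.unit (inv_mem hb)).mul (Lo.unit (inv_mem ha)))).mono (by omega)
      intro i j _; rfl
  refine ⟨(one g h hg hh).1, ?_⟩
  rw [show (g * h * g⁻¹ * h⁻¹)⁻¹ = h * g * h⁻¹ * g⁻¹ by group]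
  exact (one g h hg hh).2

theorem uTri_mono (w : ι → ℤ) {m k : ℕ} (h : m ≤ k) : uTri F w k ≤ uTri F w m :=
  fun _ hg => ⟨hg.1.mono (by omega), hg.2.mono (by omega)⟩

theorem uTri_eq_bot {w : ι → ℤ} {m : ℕ} (h : ∀ i j, w i < w j + m) : uTri F w m = ⊥ := by
  refine (Subgroup.eq_bot_iff_forall _).mpr fun g hg => Units.ext ?_
  rw [Units.val_one, ← sub_eq_zero]
  ext i j
  exact hg.1 i j (h i j)

theorem uTri_nilpotent {w : ι → ℤ} {N : ℕ} (h : ∀ i j, w i < w j + N) : Group.IsNilpotent ↥(uTri F w 1) := by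
  rw [Subgroup.nilpotent_iff_finite_descending_central_series]
  refine ⟨N, fun k => (uTri F w (k + 1)).subgroupOf (uTri F w 1), ⟨?_, ?_⟩, ?_⟩
  · exact Subgroup.subgroupOf_self _
  · intro x k hx g
    exact comm_mem_uTri (Subgroup.mem_subgroupOf.mp hx) g.2
  · show (uTri F w (N + 1)).subgroupOf (uTri F w 1) = ⊥
    rw [uTri_eq_bot (m := N + 1) (fun i j => by have := h i j; push_cast; omega)]
    exact Subgroup.bot_subgroupOf _

theorem uTri_pow_eq_zero {w : ι → ℤ} {N : ℕ} (h : ∀ i j, w i < w j + N) {g : GL ι F} (hg : g ∈ uTri F w 1) :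
    ((g : Matrix ι ι F) - 1) ^ N = 0 := by
  have : ∀ k : ℕ, Lo w k (((g : Matrix ι ι F) - 1) ^ k) := by
    intro k
    induction k with
    | zero => rw [pow_zero]; exact Lo.one w
    | succ k ih => rw [pow_succ]; exact (ih.mul hg.1).mono (by push_cast; omega)
  ext i j
  exact this N i j (h i j)

/-! ### The weighting of a datum -/

/-- Height of a coordinate. -/
noncomputable def hW (D : ChevalleyDatum) (T : Tabs) (a : D.Idx) : ℤ := Tabs.wt D T.htf (phi D a)

/-- Number of coordinates of smaller height. -/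
noncomputable def rho (D : ChevalleyDatum) (T : Tabs) (a : D.Idx) : ℤ :=
  ((Finset.univ.filter fun b => hW D T b < hW D T a).card : ℤ)

theorem rho_lt {D : ChevalleyDatum} {T : Tabs} {a b : D.Idx} (h : hW D T a < hW D T b) :
    rho D T a < rho D T b := by
  simp only [rho, Nat.cast_lt]
  refine Finset.card_lt_card ⟨fun c => ?_, fun hs => ?_⟩
  · simp only [Finset.mem_filter, Finset.mem_univ, true_and]; omega
  · have := hs (Finset.mem_filter.mpr ⟨Finset.mem_univ a, h⟩)
    simp at this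

theorem rho_bound (D : ChevalleyDatum) (T : Tabs) (a b : D.Idx) :
    rho D T a < rho D T b + ((D.rank + D.nroots : ℕ) : ℤ) := by
  have h1 : (Finset.univ.filter fun c => hW D T c < hW D T a).card < Fintype.card D.Idx :=
    Finset.card_lt_univ_of_notMem (x := a) (by simp)
  simp only [Fintype.card_sum, Fintype.card_fin] at h1
  simp only [rho]; omega

namespace OK

variable {D : ChevalleyDatum} {T : Tabs} (ok : OK D T)

include ok

theorem x_sub_one_support {r : ℕ} (hr : r < D.nroots) (t : F) {a b : D.Idx}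
    (h : (D.x F r t - 1) a b ≠ 0) : ∃ k : ℕ, k ≠ 0 ∧ hW D T a = hW D T b + k * T.htf r := by
  rw [Matrix.sub_apply, ok.xMat_eq hr, Tabs.colT, colVal_cons] at h
  by_contra hc
  refine h ?_
  have : colVal t (T.ext r (phi D b)) (phi D a) = 0 := by
    refine List.sum_eq_zero fun x hx => ?_
    obtain ⟨e, he, rfl⟩ := List.mem_map.mp hx
    rw [if_neg]
    intro e'
    obtain ⟨-, h1, -, h2, -⟩ := ok.ext_spec hr (phi_lt D b) he
    exact hc ⟨e.2.2, h1, by rw [hW, ← e']; exact h2⟩
  rw [this, add_zero, Matrix.one_apply]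
  simp [(phi_injective D).eq_iff, eq_comm]

theorem xG_mem_uTri {r : ℕ} (hr : r < D.nroots) (h : 0 < T.htf r) (t : F) : ok.xG r t ∈ uTri F (rho D T) 1 := by
  have : ∀ u : F, Lo (rho D T) 1 (D.x F r u - 1) := by
    intro u a b hab
    by_contra hne
    obtain ⟨k, hk, e⟩ := ok.x_sub_one_support hr u hne
    have : hW D T b < hW D T a := by
      have : 0 < (k : ℤ) * T.htf r := mul_pos (by omega) h
      omega
    have := rho_lt this
    omega
  exact ⟨this t, by rw [ok.xG_inv]; exact this (-t)⟩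

theorem xG_mem_lTri {r : ℕ} (hr : r < D.nroots) (h : T.htf r < 0) (t : F) :
    ok.xG r t ∈ uTri F (fun a => -rho D T a) 1 := by
  have : ∀ u : F, Lo (fun a => -rho D T a) 1 (D.x F r u - 1) := by
    intro u a b hab
    by_contra hne
    obtain ⟨k, hk, e⟩ := ok.x_sub_one_support hr u hne
    have : hW D T a < hW D T b := by
      have : (k : ℤ) * T.htf r < 0 := mul_neg_of_pos_of_neg (by omega) h
      omega
    have := rho_lt this
    simp only at hab
    omega
  exact ⟨this t, by rw [ok.xG_inv]; exact this (-t)⟩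

theorem pos_le_uTri : D.posUnipotent F ≤ uTri F (rho D T) 1 :=
  (Subgroup.closure_le _).mpr fun g ⟨r, t, hr, hg⟩ => by
    rw [ok.eq_xG hg]; exact ok.xG_mem_uTri (ok.isPos_iff.mp hr).1 (ok.isPos_iff.mp hr).2 t

theorem neg_le_lTri : D.negUnipotent F ≤ uTri F (fun a => -rho D T a) 1 :=
  (Subgroup.closure_le _).mpr fun g ⟨r, t, hr, hg⟩ => by
    rw [ok.eq_xG hg]; exact ok.xG_mem_lTri (ok.isNeg_iff.mp hr).1 (ok.isNeg_iff.mp hr).2 t

theorem pos_nilpotent : Group.IsNilpotent ↥(D.posUnipotent F) := by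
  have := uTri_nilpotent (F := F) (w := rho D T) (rho_bound D T)
  exact Group.nilpotent_of_mulEquiv (Subgroup.subgroupOfEquivOfLe ok.pos_le_uTri)

theorem pos_sub_one_pow {g : GL D.Idx F} (hg : g ∈ D.posUnipotent F) :
    ((g : Matrix D.Idx D.Idx F) - 1) ^ (D.rank + D.nroots) = 0 :=
  uTri_pow_eq_zero (rho_bound D T) (ok.pos_le_uTri hg)

theorem diag_apply_ne {g : GL D.Idx F} (hg : g ∈ D.diagonalSubgroup F) {a b : D.Idx} (h : a ≠ b) :
    (g : Matrix D.Idx D.Idx F) a b = 0 := by
  obtain ⟨c, hc, rfl⟩ := ok.mem_diag.mp hg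
  rw [ok.coe_torG hc, Matrix.diagonal_apply_ne _ h]

theorem diag_conj_xG {g : GL D.Idx F} (hg : g ∈ D.diagonalSubgroup F) {s : ℕ} (hs : s < D.nroots) (t : F) :
    ∃ a : F, a ≠ 0 ∧ g * ok.xG s t * g⁻¹ = ok.xG s (a * t) := by
  obtain ⟨c, hc, rfl⟩ := ok.mem_diag.mp hg
  refine ⟨∏ i ∈ Finset.range D.rank, c i ^ T.cA i s,
    Finset.prod_ne_zero_iff.mpr fun i hi => zpow_ne_zero _ (hc i (Finset.mem_range.mp hi)), ?_⟩
  rw [torG]
  have h : ∀ n ≤ D.rank, ok.wordG ((List.range n).flatMap fun i => D.hWord (D.simple i) (c i)) * ok.xG s t *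
      (ok.wordG ((List.range n).flatMap fun i => D.hWord (D.simple i) (c i)))⁻¹ =
      ok.xG s ((∏ i ∈ Finset.range n, c i ^ T.cA i s) * t) := by
    intro n
    induction n generalizing t with
    | zero => intro _; simp [wordG]
    | succ n ih =>
      intro hn
      have e : ok.wordG ((List.range (n + 1)).flatMap fun i => D.hWord (D.simple i) (c i)) =
          ok.wordG ((List.range n).flatMap fun i => D.hWord (D.simple i) (c i)) * ok.hG (D.simple n) (c n) := by
        simp [hG, wordG, List.range_succ, List.flatMap_append]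
      have h1 : ok.hG (D.simple n) (c n) * ok.xG s t * (ok.hG (D.simple n) (c n))⁻¹ =
          ok.xG s (c n ^ T.cA n s * t) := by
        rw [mul_inv_eq_iff_eq_mul]
        refine Units.ext ?_
        rw [Units.val_mul, Units.val_mul, coe_hG, coe_xG, coe_xG]
        exact ok.conj_h hn hs (hc n hn) t
      rw [e, mul_inv_rev, Finset.prod_range_succ]
      calc _ = ok.wordG ((List.range n).flatMap fun i => D.hWord (D.simple i) (c i)) *
            (ok.hG (D.simple n) (c n) * ok.xG s t * (ok.hG (D.simple n) (c n))⁻¹) *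
            (ok.wordG ((List.range n).flatMap fun i => D.hWord (D.simple i) (c i)))⁻¹ := by simp [mul_assoc]
        _ = _ := by rw [h1, ih _ (Nat.le_of_succ_le hn), mul_assoc]
  exact h _ le_rfl

theorem diag_normalizes {S : Set ℕ} (hS : ∀ s ∈ S, s < D.nroots) :
    D.diagonalSubgroup F ≤ Subgroup.normalizer
      (Subgroup.closure {g : GL D.Idx F | ∃ (r : ℕ) (t : F), r ∈ S ∧ (g : Matrix D.Idx D.Idx F) = D.x F r t} :
        Set (GL D.Idx F)) := by
  set K := Subgroup.closure {g : GL D.Idx F | ∃ (r : ℕ) (t : F), r ∈ S ∧ (g : Matrix D.Idx D.Idx F) = D.x F r t}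
  have h1 : ∀ g ∈ D.diagonalSubgroup F, ∀ x ∈ K, g * x * g⁻¹ ∈ K := by
    intro g hg x hx
    induction hx using Subgroup.closure_induction with
    | mem y hy =>
      obtain ⟨r, t, hr, hy⟩ := hy
      obtain ⟨a, -, ha⟩ := ok.diag_conj_xG hg (hS r hr) t
      rw [ok.eq_xG hy, ha]
      exact Subgroup.subset_closure ⟨r, a * t, hr, rfl⟩
    | one => simp
    | mul a b _ _ ha hb => rw [← conj_mul]; exact mul_mem ha hb
    | inv a _ ha => rw [← conj_inv]; exact inv_mem ha
  intro g hg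
  rw [Subgroup.mem_normalizer_iff]
  refine fun x => ⟨h1 g hg x, fun hx => ?_⟩
  have := h1 g⁻¹ (inv_mem hg) _ hx
  simpa [mul_assoc] using this

theorem diag_normalizes_pos : D.diagonalSubgroup F ≤ Subgroup.normalizer (D.posUnipotent F : Set (GL D.Idx F)) :=
  ok.diag_normalizes (S := {r | D.IsPosRoot r}) fun _ h => h.1

theorem diag_normalizes_neg : D.diagonalSubgroup F ≤ Subgroup.normalizer (D.negUnipotent F : Set (GL D.Idx F)) :=
  ok.diag_normalizes (S := {r | D.IsNegRoot r}) fun _ h => h.1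

theorem upper_entry {u t : GL D.Idx F} (hu : u ∈ uTri F (rho D T) 1) (ht : t ∈ D.diagonalSubgroup F) {a b : D.Idx}
    (hne : a ≠ b) (h : ((u * t : GL D.Idx F) : Matrix D.Idx D.Idx F) a b ≠ 0) : rho D T b < rho D T a := by
  by_contra hc
  refine h ?_
  rw [Units.val_mul, Matrix.mul_apply]
  refine Finset.sum_eq_zero fun c _ => ?_
  by_cases hcb : c = b
  · subst hcb
    have := hu.1 a c (by omega)
    rw [Matrix.sub_apply, Matrix.one_apply_ne hne, sub_zero] at this
    rw [this, zero_mul]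
  · rw [ok.diag_apply_ne ht hcb, mul_zero]

theorem lower_entry {v t : GL D.Idx F} (hv : v ∈ uTri F (fun a => -rho D T a) 1) (ht : t ∈ D.diagonalSubgroup F)
    {a b : D.Idx} (hne : a ≠ b) (h : ((v * t : GL D.Idx F) : Matrix D.Idx D.Idx F) a b ≠ 0) :
    rho D T a < rho D T b := by
  by_contra hc
  refine h ?_
  rw [Units.val_mul, Matrix.mul_apply]
  refine Finset.sum_eq_zero fun c _ => ?_
  by_cases hcb : c = b
  · subst hcb
    have := hv.1 a c (by show -rho D T a < -rho D T c + ((1 : ℕ) : ℤ); omega)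
    rw [Matrix.sub_apply, Matrix.one_apply_ne hne, sub_zero] at this
    rw [this, zero_mul]
  · rw [ok.diag_apply_ne ht hcb, mul_zero]

theorem diag_apply {u t : GL D.Idx F} {w : D.Idx → ℤ} (hu : u ∈ uTri F w 1) (ht : t ∈ D.diagonalSubgroup F) (a : D.Idx) :
    ((u * t : GL D.Idx F) : Matrix D.Idx D.Idx F) a a = (t : Matrix D.Idx D.Idx F) a a := by
  rw [Units.val_mul, Matrix.mul_apply, Finset.sum_eq_single a]
  · have := hu.1 a a (by omega)
    rw [Matrix.sub_apply, Matrix.one_apply_eq, sub_eq_zero] at this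
    rw [this, one_mul]
  · intro c _ hc; rw [ok.diag_apply_ne ht hc, mul_zero]
  · intro h; exact absurd (Finset.mem_univ a) h

theorem pos_inf_diag : D.posUnipotent F ⊓ D.diagonalSubgroup F = ⊥ := by
  refine (Subgroup.eq_bot_iff_forall _).mpr fun g hg => ?_
  obtain ⟨h1, h2⟩ := Subgroup.mem_inf.mp hg
  refine Units.ext ?_
  ext a b
  by_cases e : a = b
  · subst e
    have := (ok.pos_le_uTri h1).1 a a (by omega)
    rw [Matrix.sub_apply, sub_eq_zero] at this
    rw [this]; rfl
  · rw [ok.diag_apply_ne h2 e, Units.val_one, Matrix.one_apply_ne e]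

theorem mem_borel {g : GL D.Idx F} (hg : g ∈ D.borelSubgroup F) :
    ∃ u ∈ D.posUnipotent F, ∃ t ∈ D.diagonalSubgroup F, g = u * t := by
  rw [ChevalleyDatum.borelSubgroup, ← SetLike.mem_coe,
    Subgroup.coe_mul_of_right_le_normalizer_left _ _ ok.diag_normalizes_pos] at hg
  obtain ⟨u, hu, t, ht, rfl⟩ := Set.mem_mul.mp hg
  exact ⟨u, hu, t, ht, rfl⟩

theorem borel_inf_negB {g : GL D.Idx F} (hB : g ∈ D.borelSubgroup F)
    (hV : g ∈ D.negUnipotent F ⊔ D.diagonalSubgroup F) : g ∈ D.diagonalSubgroup F := by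
  obtain ⟨u, hu, t, ht, rfl⟩ := ok.mem_borel hB
  rw [← SetLike.mem_coe, Subgroup.coe_mul_of_right_le_normalizer_left _ _ ok.diag_normalizes_neg] at hV
  obtain ⟨v, hv, t', ht', e⟩ := Set.mem_mul.mp hV
  have : u * t = t := by
    refine Units.ext ?_
    ext a b
    by_cases hab : a = b
    · subst hab; exact ok.diag_apply (ok.pos_le_uTri hu) ht a
    · rw [ok.diag_apply_ne ht hab]
      by_contra hne
      have h1 := ok.upper_entry (ok.pos_le_uTri hu) ht hab hne
      rw [← e] at hne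
      have h2 := ok.lower_entry (ok.neg_le_lTri hv) ht' hab hne
      omega
  rw [this]; exact ht

theorem borel_inf_neg : D.borelSubgroup F ⊓ D.negUnipotent F = ⊥ := by
  refine (Subgroup.eq_bot_iff_forall _).mpr fun g hg => ?_
  obtain ⟨h1, h2⟩ := Subgroup.mem_inf.mp hg
  have h3 := ok.borel_inf_negB h1 (Subgroup.mem_sup_left h2)
  refine Units.ext ?_
  ext a b
  by_cases e : a = b
  · subst e
    have := (ok.neg_le_lTri h2).1 a a (by omega)
    rw [Matrix.sub_apply, sub_eq_zero] at this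
    rw [this]; rfl
  · rw [ok.diag_apply_ne h3 e, Units.val_one, Matrix.one_apply_ne e]

theorem borel_inf_eq : D.borelSubgroup F ⊓ (D.negUnipotent F ⊔ D.diagonalSubgroup F) = D.diagonalSubgroup F :=
  le_antisymm (fun _ hg => ok.borel_inf_negB (Subgroup.mem_inf.mp hg).1 (Subgroup.mem_inf.mp hg).2)
    (le_inf le_sup_right le_sup_right)

theorem borel_solvable : Group.IsSolvable ↥(D.borelSubgroup F) := by
  let f : ↥(D.borelSubgroup F) →* (D.Idx → F) :=
    { toFun := fun g a => (g : GL D.Idx F).val a a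
      map_one' := by funext a; simp
      map_mul' := fun g h => by
        funext a
        obtain ⟨u, hu, t, ht, e1⟩ := ok.mem_borel g.2
        obtain ⟨u', hu', t', ht', e2⟩ := ok.mem_borel h.2
        rw [Pi.mul_apply, Subgroup.coe_mul, Units.val_mul, Matrix.mul_apply, Finset.sum_eq_single a]
        · intro c _ hc
          by_contra hne
          have h1 := ok.upper_entry (ok.pos_le_uTri hu) ht (Ne.symm hc) (e1 ▸ left_ne_zero_of_mul hne)
          have h2 := ok.upper_entry (ok.pos_le_uTri hu') ht' hc (e2 ▸ right_ne_zero_of_mul hne)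
          omega
        · intro h; exact absurd (Finset.mem_univ a) h }
  have hk : f.ker ≤ (D.posUnipotent F).subgroupOf (D.borelSubgroup F) := by
    intro g hg
    obtain ⟨u, hu, t, ht, e⟩ := ok.mem_borel g.2
    have : t = 1 := by
      refine Units.ext ?_
      ext a b
      by_cases hab : a = b
      · subst hab
        have h1 : f g a = 1 := congrFun (MonoidHom.mem_ker.mp hg) a
        rw [← ok.diag_apply (ok.pos_le_uTri hu) ht a, ← e, Units.val_one, Matrix.one_apply_eq]
        exact h1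
      · rw [ok.diag_apply_ne ht hab, Units.val_one, Matrix.one_apply_ne hab]
    rw [Subgroup.mem_subgroupOf, e, this, mul_one]
    exact hu
  have : Group.IsNilpotent ↥(D.posUnipotent F) := ok.pos_nilpotent
  have hs : Group.IsSolvable ↥((D.posUnipotent F).subgroupOf (D.borelSubgroup F)) :=
    solvable_of_solvable_injective
      (f := (Subgroup.subgroupOfEquivOfLe (le_sup_left : D.posUnipotent F ≤ D.borelSubgroup F)).toMonoidHom)
      (Subgroup.subgroupOfEquivOfLe (le_sup_left : D.posUnipotent F ≤ D.borelSubgroup F)).injective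
  exact solvable_of_ker_le_range (G' := ↥((D.posUnipotent F).subgroupOf (D.borelSubgroup F))) (G'' := (D.Idx → F)ˣ)
    (Subgroup.subtype _) f.toHomUnits (fun g hg => by
      rw [Subgroup.range_subtype]
      exact hk (by rw [MonoidHom.mem_ker]; exact congrArg Units.val (MonoidHom.mem_ker.mp hg)))

end OK

end Cfsg.Agent.Chev
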