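import Cfsg.Agent.Lib.Chev.Graph
import Cfsg.Agent.Lib.Chev.Gens
import Cfsg.Agent.Lib.Chev.Poincare

/-!
Twisted groups: the endomorphism made of a symmetry and a field automorphism, and products over orbits.
-/

set_option autoImplicit false

namespace Cfsg.Agent.Chev

open Cfsg.Lie

namespace GTab

variable (D : ChevalleyDatum) (T : Tabs) (g : GTab)

/-- Number of members of the orbit of a root. -/
noncomputable def mR (r : ℕ) : ℕ := @Bool.rec (fun _ => ℕ) g.k 1 (Nat.beq (g.per r) r)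

/-- Number of members of the orbit of a fundamental root. -/
noncomputable def mI (i : ℕ) : ℕ := @Bool.rec (fun _ => ℕ) g.k 1 (Nat.beq (g.psi i) i)

/-- The orbit of a fundamental root as a word. -/
noncomputable def orbJ (i : ℕ) : List ℕ := mapR (fun j => g.psiI j i) (upTo (g.mI i))

/-- The first member of its orbit. -/
noncomputable def repB (r : ℕ) : Bool := allR g.k fun j => Nat.ble r (g.perI j r)

/-- The first member of its orbit, fundamental roots. -/
noncomputable def repS (i : ℕ) : Bool := allR g.k fun j => Nat.ble i (g.psiI j i)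

/-- Facts on the orbit of a root. -/
noncomputable def chkOrbit (r : ℕ) : Bool :=
  andR (allR g.k fun j => orR (Nat.beq j 0) <| orR (Nat.beq (g.per r) r) <|
    andR (notR (Nat.beq (g.perI j r) r)) <| andR (notR (Nat.beq (g.perI j r) (T.neg r))) <|
    andR (isNilR (T.terms r (g.perI j r))) (isNilR (T.terms r (T.neg (g.perI j r))))) <|
  andR (ieq (Int.ofNat (Int.natAbs (T.htf r))) (@Bool.rec (fun _ => ℤ) (Int.neg (T.htf r)) (T.htf r) (ipos (T.htf r)))) <|
  andR (nlt (Int.natAbs (T.htf r)) (Nat.add D.nroots 1)) <|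
  anyL (fun j => g.repB (g.perI j r)) (upTo g.k)

/-- Facts on the word of an orbit of fundamental roots. -/
noncomputable def chkOrbJ (i : ℕ) : Bool :=
  andR (Nat.beq (T.piR (g.orbJ i) (T.smp i)) (T.neg (T.smp i))) <|
  andR (anyL (fun j => g.repS (g.psiI j i)) (upTo g.k)) <|
  allR D.nroots fun r => andR (Nat.beq (T.piR (g.orbJ i) (g.per r)) (g.per (T.piR (g.orbJ i) r)))
    (orR (notR (ipos (T.htf r))) <| orR (ipos (T.htf (T.piR (g.orbJ i) r))) <|
      anyL (fun j => Nat.beq r (g.perI j (T.smp i))) (upTo g.k))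

/-- The checks for twisting. -/
noncomputable def chkTwist : Bool := andR (allR D.nroots (g.chkOrbit D T)) (allR D.rank (g.chkOrbJ D T))

/-- The way in which a root is reached. -/
abbrev Reach := List (ℕ × Option (ℕ ⊕ (ℕ × ℕ)))

/-- The first member of the orbit of a fundamental root, up to sign. -/
noncomputable def seedB (r : ℕ) : Bool :=
  anyL (fun i => andR (g.repS i) (orR (Nat.beq r (T.smp i)) (Nat.beq r (T.neg (T.smp i))))) (upTo D.rank)

/-- Every root is reached from the seeds. -/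
noncomputable def chkReach (L : Reach) : List ℕ → Bool :=
  @List.rec (ℕ × Option (ℕ ⊕ (ℕ × ℕ))) (fun _ => List ℕ → Bool)
    (fun seen => allR D.nroots fun r => anyL (fun s => Nat.beq s r) seen)
    (fun e _ ok seen =>
      andR (@Option.rec (ℕ ⊕ (ℕ × ℕ)) (fun _ => Bool) (g.seedB D T e.1)
        (fun q => @Sum.rec ℕ (ℕ × ℕ) (fun _ => Bool)
          (fun s => andR (anyL (fun x => Nat.beq x s) seen) (Nat.beq (g.per s) e.1))
          (fun p => andR (nlt p.1 D.rank) <| andR (anyL (fun x => Nat.beq x p.2) seen) <|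
            andR (Nat.beq (T.piR (g.orbJ p.1) p.2) e.1) (Nat.beq (g.mR p.2) (g.mR e.1))) q) e.2) <|
      ok (e.1 :: seen)) L

end GTab

/-- Everything needed to form a twisted group. -/
structure Tw (F : Type*) [Field F] (D : ChevalleyDatum) (T : Tabs) where
  /-- the symmetry -/
  g : GTab
  okx : OKX D T
  gok : GOK D T g
  /-- the field automorphism -/
  fr : F ≃+* F
  frk : ∀ x : F, fr^[g.k] x = x
  tchk : g.chkTwist D T = true
  /-- the way in which the roots are reached -/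
  cov : GTab.Reach
  cov_ok : g.chkReach D T cov [] = true

namespace Tw

variable {F : Type*} [Field F] {D : ChevalleyDatum} {T : Tabs} (S : Tw F D T)

include S

theorem ok : OK D T := S.okx.toOK

theorem mR_cases (r : ℕ) :
    (S.g.per r = r ∧ S.g.mR r = 1) ∨ (S.g.per r ≠ r ∧ S.g.mR r = S.g.k) := by
  by_cases h : S.g.per r = r
  · exact Or.inl ⟨h, by rw [GTab.mR, Nat.beq_eq.mpr h]⟩
  · exact Or.inr ⟨h, by rw [GTab.mR, nbeq_false_iff.mpr h]⟩

theorem mR_pos (r : ℕ) : 0 < S.g.mR r := by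
  rcases S.mR_cases r with h | h <;> rw [h.2]
  · exact Nat.one_pos
  · exact S.gok.k_pos

theorem mR_le (r : ℕ) : S.g.mR r ≤ S.g.k := by
  rcases S.mR_cases r with h | h <;> rw [h.2]
  exact S.gok.k_pos

theorem orbit_facts {r j : ℕ} (hr : r < D.nroots) (hj0 : 0 < j) (hj : j < S.g.mR r) :
    S.g.perI j r ≠ r ∧ S.g.perI j r ≠ T.neg r ∧ T.terms r (S.g.perI j r) = [] ∧
      T.terms r (T.neg (S.g.perI j r)) = [] := by
  have h := S.tchk
  simp only [GTab.chkTwist, andR_iff, allR_iff] at h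
  have h' := h.1 r hr
  simp only [GTab.chkOrbit, andR_iff, allR_iff, orR_iff, Nat.beq_eq, notR_iff, nbeq_false_iff, isNilR_iff] at h'
  rcases S.mR_cases r with hc | hc
  · omega
  · rcases h'.1 j (by omega) with e | e | e
    · omega
    · exact absurd e hc.1
    · exact e

theorem ht_le {r : ℕ} (hr : r < D.nroots) : (T.htf r).natAbs ≤ D.nroots := by
  have h := S.tchk
  simp only [GTab.chkTwist, andR_iff, allR_iff] at h
  have h' := h.1 r hr
  simp only [GTab.chkOrbit, andR_iff, nlt_iff, Nat.add_eq] at h'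
  omega

theorem exists_rep {r : ℕ} (hr : r < D.nroots) : ∃ j < S.g.k, S.g.repB (S.g.perI j r) = true := by
  have h := S.tchk
  simp only [GTab.chkTwist, andR_iff, allR_iff] at h
  have h' := h.1 r hr
  simp only [GTab.chkOrbit, andR_iff, anyL_iff, upTo_eq, List.mem_range] at h'
  exact h'.2.2.2

theorem per_neg {r : ℕ} (hr : r < D.nroots) : S.g.per (T.neg r) = T.neg (S.g.per r) :=
  (S.gok.root_facts hr).2.2.1

theorem neg_inj {a b : ℕ} (ha : a < D.nroots) (hb : b < D.nroots) (h : T.neg a = T.neg b) : a = b := by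
  rw [← S.ok.neg_neg' ha, h, S.ok.neg_neg' hb]

theorem mR_neg {r : ℕ} (hr : r < D.nroots) : S.g.mR (T.neg r) = S.g.mR r := by
  rcases S.mR_cases r with h | h <;> rcases S.mR_cases (T.neg r) with h' | h' <;> rw [h.2, h'.2]
  · exact absurd (by rw [S.per_neg hr, h.1]) h'.1
  · refine absurd (S.neg_inj (S.gok.per_lt hr) hr ?_) h.1
    rw [← S.per_neg hr, h'.1]

theorem mR_per {r : ℕ} (hr : r < D.nroots) : S.g.mR (S.g.per r) = S.g.mR r := by
  rcases S.mR_cases r with h | h <;> rcases S.mR_cases (S.g.per r) with h' | h' <;> rw [h.2, h'.2]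
  · exact absurd (by rw [h.1, h.1]) h'.1
  · exact absurd (S.gok.per_inj (S.gok.per_lt hr) hr h'.1) h.1

theorem mR_perI : ∀ (j : ℕ) {r : ℕ}, r < D.nroots → S.g.mR (S.g.perI j r) = S.g.mR r
  | 0, _, _ => rfl
  | j + 1, r, hr => by
    show S.g.mR (S.g.per (S.g.perI j r)) = _
    rw [S.mR_per (S.gok.perI_lt j hr), mR_perI j hr]

theorem sgnI_succ (j r : ℕ) : S.g.sgnI (j + 1) r = S.g.sgn (S.g.perI j r) * S.g.sgnI j r := rfl

theorem sgnI_neg : ∀ (j : ℕ) {r : ℕ}, r < D.nroots → S.g.sgnI j (T.neg r) = S.g.sgnI j r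
  | 0, _, _ => rfl
  | j + 1, r, hr => by
    rw [sgnI_succ, sgnI_succ, sgnI_neg j hr, S.gok.perI_neg j hr,
      (S.gok.root_facts (S.gok.perI_lt j hr)).2.2.2.1]

theorem sgnI_unit : ∀ (j : ℕ) {r : ℕ}, r < D.nroots → S.g.sgnI j r = 1 ∨ S.g.sgnI j r = -1
  | 0, _, _ => Or.inl rfl
  | j + 1, r, hr => by
    rw [sgnI_succ]
    rcases sgnI_unit j hr with e | e <;> rcases (S.gok.root_facts (S.gok.perI_lt j hr)).2.1 with e' | e' <;>
      rw [e, e'] <;> norm_num

theorem sgnI_smp : ∀ (j : ℕ) {i : ℕ}, i < D.rank → S.g.sgnI j (T.smp i) = 1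
  | 0, _, _ => rfl
  | j + 1, i, hi => by
    rw [sgnI_succ, sgnI_smp j hi, S.gok.perI_smp j hi, (S.gok.simple_facts (S.gok.psiI_lt j hi)).2.2.1, mul_one]

/-! ### The endomorphism -/

/-- The symmetry composed with the field automorphism. -/
noncomputable def sig : GL D.Idx F →* GL D.Idx F :=
  (MulAut.conj (S.gok.PG (F := F))).toMonoidHom.comp (fieldMap D S.fr)

theorem sig_xG {r : ℕ} (hr : r < D.nroots) (t : F) :
    S.sig (S.ok.xG r t) = S.ok.xG (S.g.per r) ((S.g.sgn r : F) * S.fr t) := by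
  rw [sig, MonoidHom.comp_apply, S.ok.fieldMap_xG, MulEquiv.coe_toMonoidHom, MulAut.conj_apply,
    S.gok.PG_xG S.ok hr]

/-- Iterates as homomorphisms. -/
noncomputable def sigI : ℕ → (GL D.Idx F →* GL D.Idx F)
  | 0 => MonoidHom.id _
  | j + 1 => S.sig.comp (sigI j)

theorem sigI_add (i : ℕ) : ∀ (j : ℕ) (x : GL D.Idx F), S.sigI (i + j) x = S.sigI i (S.sigI j x) := by
  induction i with
  | zero => intro j x; rw [Nat.zero_add]; rfl
  | succ i ih =>
    intro j x
    rw [Nat.add_right_comm]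
    show S.sig (S.sigI (i + j) x) = S.sig (S.sigI i (S.sigI j x))
    rw [ih]

theorem sigI_xG : ∀ (j : ℕ) {r : ℕ}, r < D.nroots → ∀ t : F,
    S.sigI j (S.ok.xG r t) = S.ok.xG (S.g.perI j r) ((S.g.sgnI j r : F) * S.fr^[j] t)
  | 0, _, _, t => by
    show S.ok.xG _ t = S.ok.xG _ (((1 : ℤ) : F) * t)
    rw [Int.cast_one, one_mul]; rfl
  | j + 1, r, hr, t => by
    show S.sig (S.sigI j (S.ok.xG r t)) = _
    rw [sigI_xG j hr t, S.sig_xG (S.gok.perI_lt j hr), map_mul, map_intCast, sgnI_succ, Int.cast_mul,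
      Function.iterate_succ_apply', mul_assoc]
    rfl

/-- The parameters allowed at a root. -/
def Sol (r : ℕ) (t : F) : Prop := S.g.per r = r → S.fr t = t

theorem sigI_mR {r : ℕ} (hr : r < D.nroots) {t : F} (ht : S.Sol r t) :
    S.sigI (S.g.mR r) (S.ok.xG r t) = S.ok.xG r t := by
  rcases S.mR_cases r with h | h <;> rw [h.2, S.sigI_xG _ hr]
  · show S.ok.xG (S.g.per r) (((S.g.sgn r * 1 : ℤ) : F) * S.fr t) = _
    rw [h.1, mul_one, (S.gok.root_facts hr).2.2.2.2.2.2.2.1 h.1, Int.cast_one, one_mul, ht h.1]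
  · rw [(S.gok.root_facts hr).2.2.2.2.2.1, (S.gok.root_facts hr).2.2.2.2.2.2.1, Int.cast_one, one_mul, S.frk]

theorem sol_iff {r : ℕ} (hr : r < D.nroots) {t : F} :
    S.Sol r t ↔ S.sigI (S.g.mR r) (S.ok.xG r t) = S.ok.xG r t := by
  refine ⟨S.sigI_mR hr, fun h e => ?_⟩
  rcases S.mR_cases r with h' | h'
  · rw [h'.2] at h
    have h2 : S.sig (S.ok.xG r t) = S.ok.xG r t := h
    rw [S.sig_xG hr, e, (S.gok.root_facts hr).2.2.2.2.2.2.2.1 e, Int.cast_one, one_mul] at h2
    exact S.ok.xG_injective hr h2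
  · exact absurd e h'.1

theorem Sol.zero (r : ℕ) : S.Sol r 0 := fun _ => map_zero _

theorem Sol.neg {r : ℕ} {a : F} (h : S.Sol r a) : S.Sol r (-a) := fun e => by rw [map_neg, h e]

theorem Sol.inv {r : ℕ} {a : F} (h : S.Sol r a) : S.Sol r a⁻¹ := fun e => by rw [map_inv₀, h e]

theorem Sol.one (r : ℕ) : S.Sol r 1 := fun _ => map_one _

theorem sol_neg {r : ℕ} (hr : r < D.nroots) {t : F} : S.Sol (T.neg r) t ↔ S.Sol r t := by
  constructor <;> intro h e
  · exact h (by rw [S.per_neg hr, e])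
  · refine h (S.neg_inj (S.gok.per_lt hr) hr ?_)
    rw [← S.per_neg hr, e]

/-- The elements fixed by the endomorphism. -/
noncomputable def Fx : Subgroup (GL D.Idx F) := MonoidHom.eqLocus S.sig (MonoidHom.id _)

theorem mem_Fx {x : GL D.Idx F} : x ∈ S.Fx ↔ S.sig x = x := Iff.rfl

theorem sigI_fixed {x : GL D.Idx F} (h : x ∈ S.Fx) : ∀ j, S.sigI j x = x
  | 0 => rfl
  | j + 1 => by show S.sig (S.sigI j x) = x; rw [sigI_fixed h j]; exact h

/-! ### Products over orbits -/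

/-- The subgroup of the root subgroups of a root and its negative. -/
noncomputable def pairS (r : ℕ) : Subgroup (GL D.Idx F) :=
  Subgroup.closure {x | ∃ t : F, x = S.ok.xG r t ∨ x = S.ok.xG (T.neg r) t}

theorem xG_pair (r : ℕ) (t : F) : S.ok.xG r t ∈ S.pairS r := Subgroup.subset_closure ⟨t, Or.inl rfl⟩

theorem xG_pair' (r : ℕ) (t : F) : S.ok.xG (T.neg r) t ∈ S.pairS r := Subgroup.subset_closure ⟨t, Or.inr rfl⟩

theorem commute_xG {r s : ℕ} (hr : r < D.nroots) (hs : s < D.nroots) (h1 : s ≠ r) (h2 : s ≠ T.neg r)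
    (h3 : T.terms r s = []) (t u : F) : Commute (S.ok.xG r t) (S.ok.xG s u) := by
  refine Units.ext ?_
  rw [Units.val_mul, Units.val_mul, OK.coe_xG, OK.coe_xG,
    S.ok.comm hr hs h1 (by rwa [S.ok.neg_eq hr]) t u, ChevalleyDatum.commWord, S.ok.terms_eq hr hs, h3, List.map_nil,
    wordMat_nil, mul_one]

theorem commute_orbit {r d : ℕ} (hr : r < D.nroots) (hd0 : 0 < d) (hd : d < S.g.mR r) {A B : GL D.Idx F}
    (hA : A ∈ S.pairS r) (hB : B ∈ S.pairS r) : Commute A (S.sigI d B) := by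
  have hs := S.gok.perI_lt d hr
  have hn := S.ok.neg_lt hr
  obtain ⟨a1, a2, a3, a4⟩ := S.orbit_facts hr hd0 hd
  obtain ⟨b1, b2, b3, b4⟩ := S.orbit_facts hn hd0 (by rw [S.mR_neg hr]; exact hd)
  rw [S.gok.perI_neg d hr] at b1 b2 b3 b4
  rw [S.ok.neg_neg' hr] at b2
  rw [S.ok.neg_neg' hs] at b4
  have key : ∀ a b : F, Commute (S.ok.xG r a) (S.sigI d (S.ok.xG r b)) ∧
      Commute (S.ok.xG r a) (S.sigI d (S.ok.xG (T.neg r) b)) ∧
      Commute (S.ok.xG (T.neg r) a) (S.sigI d (S.ok.xG r b)) ∧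
      Commute (S.ok.xG (T.neg r) a) (S.sigI d (S.ok.xG (T.neg r) b)) := by
    intro a b
    rw [S.sigI_xG d hr, S.sigI_xG d hn, S.gok.perI_neg d hr]
    refine ⟨S.commute_xG hr hs a1 a2 a3 _ _, S.commute_xG hr (S.ok.neg_lt hs) ?_ ?_ a4 _ _,
      S.commute_xG hn hs ?_ ?_ b4 _ _, S.commute_xG hn (S.ok.neg_lt hs) b1 ?_ b3 _ _⟩
    · intro e; exact a2 (by rw [← S.ok.neg_neg' hs, e])
    · intro e; exact a1 (S.neg_inj hs hr e)
    · exact a2
    · rw [S.ok.neg_neg' hr]; exact a1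
    · rw [S.ok.neg_neg' hr]; exact b2
  induction hA using Subgroup.closure_induction with
  | mem x hx =>
    induction hB using Subgroup.closure_induction with
    | mem y hy =>
      obtain ⟨a, rfl | rfl⟩ := hx <;> obtain ⟨b, rfl | rfl⟩ := hy
      exacts [(key a b).1, (key a b).2.1, (key a b).2.2.1, (key a b).2.2.2]
    | one => rw [map_one]; exact Commute.one_right _
    | mul p q _ _ hp hq => rw [map_mul]; exact hp.mul_right hq
    | inv p _ hp => rw [map_inv]; exact hp.inv_right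
  | one => exact Commute.one_left _
  | mul p q _ _ hp hq => exact hp.mul_left hq
  | inv p _ hp => exact hp.inv_left

/-- The product of the images of an element along an orbit of length `m`. -/
noncomputable def orbP (m : ℕ) (A : GL D.Idx F) : GL D.Idx F := ((List.range m).map fun j => S.sigI j A).prod

theorem orbP_succ (n : ℕ) (A : GL D.Idx F) : S.orbP (n + 1) A = S.orbP n A * S.sigI n A := by
  simp [orbP, List.range_succ]

theorem orbP_mul {r : ℕ} (hr : r < D.nroots) {A B : GL D.Idx F} (hA : A ∈ S.pairS r) (hB : B ∈ S.pairS r) :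
    ∀ n ≤ S.g.mR r, S.orbP n (A * B) = S.orbP n A * S.orbP n B
  | 0, _ => by simp [orbP]
  | n + 1, hn => by
    have h : Commute (S.sigI n A) (S.orbP n B) := by
      refine Commute.list_prod_right _ _ fun x hx => ?_
      obtain ⟨j, hj, rfl⟩ := List.mem_map.mp hx
      have hj := List.mem_range.mp hj
      rw [show n = j + (n - j) by omega, S.sigI_add]
      exact ((S.commute_orbit hr (by omega) (by omega) hB hA).map (S.sigI j)).symm
    rw [orbP_succ, orbP_succ, orbP_succ, orbP_mul hr hA hB n (Nat.le_of_succ_le hn), map_mul, mul_assoc,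
      mul_assoc, ← mul_assoc (S.orbP n B), ← h.eq, mul_assoc]

theorem orbP_one (n : ℕ) : S.orbP n (1 : GL D.Idx F) = 1 := by
  induction n with
  | zero => simp [orbP]
  | succ n ih => rw [orbP_succ, ih, map_one, one_mul]

theorem orbP_inv {r : ℕ} (hr : r < D.nroots) {A : GL D.Idx F} (hA : A ∈ S.pairS r) :
    (S.orbP (S.g.mR r) A)⁻¹ = S.orbP (S.g.mR r) A⁻¹ :=
  inv_eq_of_mul_eq_one_right (by rw [← S.orbP_mul hr hA (inv_mem hA) _ le_rfl, mul_inv_cancel, S.orbP_one])

theorem orbP_fixed {r : ℕ} (hr : r < D.nroots) {A : GL D.Idx F} (hA : A ∈ S.pairS r)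
    (h : S.sigI (S.g.mR r) A = A) : S.orbP (S.g.mR r) A ∈ S.Fx := by
  obtain ⟨n, hn⟩ : ∃ n, S.g.mR r = n + 1 := ⟨S.g.mR r - 1, by have := S.mR_pos r; omega⟩
  rw [hn] at h
  rw [mem_Fx, hn]
  have e1 : S.sig (S.orbP (n + 1) A) = ((List.range n).map fun j => S.sigI (j + 1) A).prod * A := by
    rw [orbP, map_list_prod, List.map_map, List.range_succ, List.map_append, List.prod_append, List.map_cons,
      List.map_nil, List.prod_singleton, Function.comp_apply]
    congr 1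
  have e2 : S.orbP (n + 1) A = A * ((List.range n).map fun j => S.sigI (j + 1) A).prod := by
    rw [orbP, List.range_succ_eq_map, List.map_cons, List.map_map, List.prod_cons]
    rfl
  rw [e1, e2]
  refine (Commute.list_prod_left _ _ fun x hx => ?_).eq
  obtain ⟨j, hj, rfl⟩ := List.mem_map.mp hx
  exact (S.commute_orbit hr (by omega) (by have := List.mem_range.mp hj; omega) hA hA).symm

theorem orbP_conj {n : GL D.Idx F} (hn : n ∈ S.Fx) (m : ℕ) (A : GL D.Idx F) :
    n * S.orbP m A * n⁻¹ = S.orbP m (n * A * n⁻¹) := by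
  induction m with
  | zero => simp [orbP]
  | succ m ih =>
    rw [orbP_succ, orbP_succ, ← ih, map_mul, map_mul, map_inv, S.sigI_fixed hn]
    simp [mul_assoc]

theorem orbP_sig {r : ℕ} (hr : r < D.nroots) {A : GL D.Idx F} (hA : A ∈ S.pairS r)
    (h : S.sigI (S.g.mR r) A = A) : S.orbP (S.g.mR r) (S.sig A) = S.orbP (S.g.mR r) A := by
  have e : S.sig (S.orbP (S.g.mR r) A) = S.orbP (S.g.mR r) A := S.orbP_fixed hr hA h
  conv_rhs => rw [← e]
  rw [orbP, orbP, map_list_prod, List.map_map]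
  refine congrArg List.prod (List.map_congr_left fun j _ => ?_)
  show S.sigI j (S.sigI 1 A) = S.sig (S.sigI j A)
  rw [← S.sigI_add, Nat.add_comm, S.sigI_add]
  rfl

/-! ### The root elements of the twisted group -/

/-- The orbit product of a root element. -/
noncomputable def oel (r : ℕ) (t : F) : GL D.Idx F := S.orbP (S.g.mR r) (S.ok.xG r t)

theorem oel_add {r : ℕ} (hr : r < D.nroots) (a b : F) : S.oel r (a + b) = S.oel r a * S.oel r b := by
  rw [oel, oel, oel, ← S.orbP_mul hr (S.xG_pair r a) (S.xG_pair r b) _ le_rfl, OK.xG_mul]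

theorem oel_zero (r : ℕ) : S.oel r 0 = 1 := by rw [oel, OK.xG_zero, S.orbP_one]

theorem oel_inv {r : ℕ} (hr : r < D.nroots) (a : F) : (S.oel r a)⁻¹ = S.oel r (-a) :=
  inv_eq_of_mul_eq_one_right (by rw [← S.oel_add hr, add_neg_cancel, S.oel_zero])

theorem oel_fixed {r : ℕ} (hr : r < D.nroots) {t : F} (ht : S.Sol r t) : S.oel r t ∈ S.Fx :=
  S.orbP_fixed hr (S.xG_pair r t) (S.sigI_mR hr ht)

theorem oel_per {r : ℕ} (hr : r < D.nroots) {t : F} (ht : S.Sol r t) :
    S.oel (S.g.per r) ((S.g.sgn r : F) * S.fr t) = S.oel r t := by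
  rw [oel, S.mR_per hr, ← S.sig_xG hr]
  exact S.orbP_sig hr (S.xG_pair r t) (S.sigI_mR hr ht)

/-- The twisted group. -/
noncomputable def G1 : Subgroup (GL D.Idx F) :=
  Subgroup.closure {x | ∃ (i : ℕ) (t : F), i < D.rank ∧ S.g.repS i = true ∧ S.Sol (T.smp i) t ∧
    (x = S.oel (T.smp i) t ∨ x = S.oel (T.neg (T.smp i)) t)}

theorem G1_le_Fx : S.G1 ≤ S.Fx := by
  refine (Subgroup.closure_le _).mpr ?_
  rintro x ⟨i, t, hi, -, ht, rfl | rfl⟩
  · exact S.oel_fixed (S.ok.smp_lt hi) ht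
  · exact S.oel_fixed (S.ok.neg_lt (S.ok.smp_lt hi)) ((S.sol_neg (S.ok.smp_lt hi)).mpr ht)

theorem oel_mem_group (r : ℕ) (hr : r < D.nroots) (t : F) : S.oel r t ∈ D.group F := by
  refine list_prod_mem fun x hx => ?_
  obtain ⟨j, -, rfl⟩ := List.mem_map.mp hx
  rw [S.sigI_xG j hr]
  exact S.ok.xG_mem_group _ _

theorem G1_le_group : S.G1 ≤ D.group F := by
  refine (Subgroup.closure_le _).mpr ?_
  rintro x ⟨i, t, hi, -, -, rfl | rfl⟩
  · exact S.oel_mem_group _ (S.ok.smp_lt hi) t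
  · exact S.oel_mem_group _ (S.ok.neg_lt (S.ok.smp_lt hi)) t

/-- `n` of a root of the twisted group. -/
noncomputable def nel (r : ℕ) (a : F) : GL D.Idx F := S.oel r a * S.oel (T.neg r) (-a⁻¹) * S.oel r a

theorem nG_pair {r : ℕ} (hr : r < D.nroots) (a : F) : S.ok.nG r a ∈ S.pairS r := by
  rw [S.ok.nG_eq hr]
  exact mul_mem (mul_mem (S.xG_pair r _) (S.xG_pair' r _)) (S.xG_pair r _)

theorem nel_eq {r : ℕ} (hr : r < D.nroots) (a : F) : S.nel r a = S.orbP (S.g.mR r) (S.ok.nG r a) := by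
  rw [S.ok.nG_eq hr, S.orbP_mul hr (mul_mem (S.xG_pair r _) (S.xG_pair' r _)) (S.xG_pair r _) _ le_rfl,
    S.orbP_mul hr (S.xG_pair r _) (S.xG_pair' r _) _ le_rfl, nel, oel, oel, S.mR_neg hr]

theorem nel_inv {r : ℕ} (hr : r < D.nroots) (a : F) : (S.nel r a)⁻¹ = S.nel r (-a) := by
  rw [S.nel_eq hr, S.nel_eq hr, S.orbP_inv hr (S.nG_pair hr a), S.ok.nG_inv hr]

/-- `h` of a root of the twisted group. -/
noncomputable def hel (r : ℕ) (a : F) : GL D.Idx F := S.nel r a * S.nel r (-1)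

theorem hel_eq {r : ℕ} (hr : r < D.nroots) (a : F) : S.hel r a = S.orbP (S.g.mR r) (S.ok.hG r a) := by
  rw [hel, S.nel_eq hr, S.nel_eq hr, ← S.orbP_mul hr (S.nG_pair hr a) (S.nG_pair hr _) _ le_rfl,
    S.ok.hG_eq]

theorem nel_eq_hel_mul {r : ℕ} (hr : r < D.nroots) (a : F) : S.nel r a = S.hel r a * S.nel r 1 := by
  rw [hel, mul_assoc, ← S.nel_inv hr, inv_mul_cancel, mul_one]

theorem neg_oel_eq {r : ℕ} (hr : r < D.nroots) {a : F} (ha : a ≠ 0) :
    S.oel (T.neg r) a = S.oel r a⁻¹ * S.nel r (-a⁻¹) * S.oel r a⁻¹ := by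
  have e : S.oel (T.neg r) a = (S.oel r (-a⁻¹))⁻¹ * S.nel r (-a⁻¹) * (S.oel r (-a⁻¹))⁻¹ := by
    rw [nel, inv_neg, inv_inv, neg_neg]
    simp [mul_assoc]
  rw [e, S.oel_inv hr, neg_neg]

/-! ### The words of orbits -/

theorem mR_smp {i : ℕ} (hi : i < D.rank) : S.g.mR (T.smp i) = S.g.mI i := by
  have h := (S.gok.simple_facts hi).2.1
  by_cases e : S.g.psi i = i
  · rw [GTab.mR, GTab.mI, h, e, Nat.beq_eq.mpr rfl, Nat.beq_eq.mpr rfl]
  · rw [GTab.mI, nbeq_false_iff.mpr e, GTab.mR, h, nbeq_false_iff.mpr]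
    intro e'
    have h2 := S.ok.cC_smp (i := S.g.psi i) (j := i) (S.gok.simple_facts hi).1 hi
    rw [e', S.ok.cC_smp hi hi, if_pos rfl, if_neg (Ne.symm e)] at h2
    exact one_ne_zero h2

theorem orbJ_eq (i : ℕ) : S.g.orbJ i = (List.range (S.g.mI i)).map fun j => S.g.psiI j i := by
  rw [GTab.orbJ, mapR_eq, upTo_eq]

theorem orbJ_lt {i : ℕ} (hi : i < D.rank) : ∀ j ∈ S.g.orbJ i, j < D.rank := by
  intro j hj
  rw [S.orbJ_eq] at hj
  obtain ⟨a, -, rfl⟩ := List.mem_map.mp hj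
  exact S.gok.psiI_lt a hi

theorem fr_iter_inv : ∀ (j : ℕ) (a : F), S.fr^[j] a⁻¹ = (S.fr^[j] a)⁻¹
  | 0, _ => rfl
  | j + 1, a => by rw [Function.iterate_succ_apply', Function.iterate_succ_apply', fr_iter_inv j a, map_inv₀]

theorem sigI_nG_smp {i : ℕ} (hi : i < D.rank) (j : ℕ) (a : F) :
    S.sigI j (S.ok.nG (T.smp i) a) = S.ok.nG (T.smp (S.g.psiI j i)) (S.fr^[j] a) := by
  have hp := S.ok.smp_lt hi
  rw [S.ok.nG_eq hp, S.ok.nG_eq (S.ok.smp_lt (S.gok.psiI_lt j hi)), map_mul, map_mul, S.sigI_xG j hp,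
    S.sigI_xG j (S.ok.neg_lt hp), S.gok.perI_neg j hp, S.gok.perI_smp j hi, S.sgnI_neg j hp, S.sgnI_smp j hi,
    Int.cast_one, one_mul, one_mul, iterate_map_neg, S.fr_iter_inv]

theorem gW_orbJ {i : ℕ} (hi : i < D.rank) : S.ok.gW F (S.g.orbJ i) = S.nel (T.smp i) 1 := by
  rw [S.nel_eq (S.ok.smp_lt hi), orbP, OK.gW, S.orbJ_eq, List.map_map, S.mR_smp hi]
  refine congrArg List.prod (List.map_congr_left fun j _ => ?_)
  rw [Function.comp_apply, S.sigI_nG_smp hi, iterate_map_one]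

theorem gW_orbJ_mem {i : ℕ} (hi : i < D.rank) (hrep : S.g.repS i = true) : S.ok.gW F (S.g.orbJ i) ∈ S.G1 := by
  rw [S.gW_orbJ hi, nel, inv_one]
  exact mul_mem (mul_mem (Subgroup.subset_closure ⟨i, 1, hi, hrep, Sol.one S _, Or.inl rfl⟩)
    (Subgroup.subset_closure ⟨i, -1, hi, hrep, Sol.neg S (Sol.one S _), Or.inr rfl⟩))
    (Subgroup.subset_closure ⟨i, 1, hi, hrep, Sol.one S _, Or.inl rfl⟩)

theorem orbJ_facts {i : ℕ} (hi : i < D.rank) :
    piW T (S.g.orbJ i) (T.smp i) = T.neg (T.smp i) ∧ (∃ j < S.g.k, S.g.repS (S.g.psiI j i) = true) ∧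
      ∀ r < D.nroots, piW T (S.g.orbJ i) (S.g.per r) = S.g.per (piW T (S.g.orbJ i) r) ∧
        (0 < T.htf r → T.htf (piW T (S.g.orbJ i) r) < 0 → ∃ j < S.g.k, r = S.g.perI j (T.smp i)) := by
  have h := S.tchk
  simp only [GTab.chkTwist, andR_iff, allR_iff] at h
  have h' := h.2 i hi
  simp only [GTab.chkOrbJ, andR_iff, allR_iff, Tabs.piR_eq, Nat.beq_eq, anyL_iff, upTo_eq, List.mem_range,
    orR_iff, notR_iff, ipos_iff] at h'
  refine ⟨h'.1, h'.2.1, fun r hr => ⟨(h'.2.2 r hr).1, fun h0 hneg => ?_⟩⟩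
  rcases (h'.2.2 r hr).2 with e | e | e
  · rw [Bool.eq_false_iff, Ne, ipos_iff] at e; exact absurd h0 e
  · omega
  · exact e

theorem orbJ_mR {i r : ℕ} (hi : i < D.rank) (hr : r < D.nroots) :
    S.g.mR (piW T (S.g.orbJ i) r) = S.g.mR r := by
  have hw := S.orbJ_lt hi
  have hlt := S.okx.piW_lt hw hr
  rcases S.mR_cases r with h | h <;> rcases S.mR_cases (piW T (S.g.orbJ i) r) with h' | h' <;> rw [h.2, h'.2]
  · exact absurd (by rw [← ((S.orbJ_facts hi).2.2 r hr).1, h.1]) h'.1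
  · refine absurd (S.okx.piW_inj hw (S.gok.per_lt hr) hr ?_) h.1
    rw [((S.orbJ_facts hi).2.2 r hr).1, h'.1]

/-- All orbit products lie in the twisted group. -/
theorem oel_mem {r : ℕ} (hr : r < D.nroots) {t : F} (ht : S.Sol r t) : S.oel r t ∈ S.G1 := by
  suffices h : ∀ (L : GTab.Reach) (seen : List ℕ), S.g.chkReach D T L seen = true →
      (∀ a ∈ seen, a < D.nroots ∧ ∀ t : F, S.Sol a t → S.oel a t ∈ S.G1) →
      ∀ a < D.nroots, ∀ t : F, S.Sol a t → S.oel a t ∈ S.G1 from h S.cov [] S.cov_ok (by simp) r hr t ht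
  intro L
  induction L with
  | nil =>
    intro seen h hs a ha
    replace h : allR D.nroots (fun r => anyL (fun s => Nat.beq s r) seen) = true := h
    simp only [allR_iff, anyL_iff, Nat.beq_eq] at h
    obtain ⟨b, hb, rfl⟩ := h a ha
    exact (hs b hb).2
  | cons p L ih =>
    obtain ⟨e, o⟩ := p
    intro seen h hs
    replace h : andR (@Option.rec (ℕ ⊕ (ℕ × ℕ)) (fun _ => Bool) (S.g.seedB D T e)
        (fun q => @Sum.rec ℕ (ℕ × ℕ) (fun _ => Bool)
          (fun s => andR (anyL (fun x => Nat.beq x s) seen) (Nat.beq (S.g.per s) e))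
          (fun p => andR (nlt p.1 D.rank) <| andR (anyL (fun x => Nat.beq x p.2) seen) <|
            andR (Nat.beq (T.piR (S.g.orbJ p.1) p.2) e) (Nat.beq (S.g.mR p.2) (S.g.mR e))) q) o)
        (S.g.chkReach D T L (e :: seen)) = true := h
    rw [andR_iff] at h
    refine ih (e :: seen) h.2 ?_
    intro a ha
    rcases List.mem_cons.mp ha with rfl | ha
    swap
    · exact hs a ha
    rcases o with _ | ⟨s | ⟨i, s⟩⟩
    · have h1 := h.1
      simp only [GTab.seedB, anyL_iff, upTo_eq, List.mem_range, andR_iff, orR_iff, Nat.beq_eq] at h1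
      obtain ⟨i, hi, hrep, rfl | rfl⟩ := h1
      · exact ⟨S.ok.smp_lt hi, fun t ht => Subgroup.subset_closure ⟨i, t, hi, hrep, ht, Or.inl rfl⟩⟩
      · exact ⟨S.ok.neg_lt (S.ok.smp_lt hi), fun t ht =>
          Subgroup.subset_closure ⟨i, t, hi, hrep, (S.sol_neg (S.ok.smp_lt hi)).mp ht, Or.inr rfl⟩⟩
    · have h1 := h.1
      simp only [andR_iff, anyL_iff, Nat.beq_eq] at h1
      obtain ⟨⟨x, hx, rfl⟩, rfl⟩ := h1
      obtain ⟨hxn, hxc⟩ := hs x hx
      refine ⟨S.gok.per_lt hxn, fun t ht => ?_⟩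
      have hu : ∃ u : F, (S.g.sgn x : F) * S.fr u = t ∧ S.Sol x u := by
        refine ⟨S.fr.symm ((S.g.sgn x : F) * t), ?_, fun e => ?_⟩
        · rw [RingEquiv.apply_symm_apply, ← mul_assoc, ← Int.cast_mul]
          rcases (S.gok.root_facts hxn).2.1 with e | e <;> rw [e] <;> simp
        · have h1 : S.g.sgn x = 1 := (S.gok.root_facts hxn).2.2.2.2.2.2.2.1 e
          have h2 : S.fr t = t := ht (by rw [e, e])
          rw [h1, Int.cast_one, one_mul, RingEquiv.apply_symm_apply]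
          exact (RingEquiv.symm_apply_eq _).mpr h2.symm |>.symm
      obtain ⟨u, rfl, hsol⟩ := hu
      rw [S.oel_per hxn hsol]
      exact hxc u hsol
    · have h1 := h.1
      simp only [andR_iff, nlt_iff, anyL_iff, Nat.beq_eq, Tabs.piR_eq] at h1
      obtain ⟨hi, ⟨x, hx, rfl⟩, rfl, -⟩ := h1
      obtain ⟨hxn, hxc⟩ := hs x hx
      refine ⟨S.okx.piW_lt (S.orbJ_lt hi) hxn, fun t ht => ?_⟩
      obtain ⟨a, ha0, ha⟩ := (S.ok.act_gW (F := F) _ (S.orbJ_lt hi)).2.1 x hxn
      have hn : S.ok.gW F (S.g.orbJ i) ∈ S.Fx := by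
        rw [S.gW_orbJ hi, S.nel_eq (S.ok.smp_lt hi)]
        refine S.orbP_fixed (S.ok.smp_lt hi) (S.nG_pair (S.ok.smp_lt hi) 1) ?_
        rw [S.ok.nG_eq (S.ok.smp_lt hi), inv_one, map_mul, map_mul, S.sigI_mR (S.ok.smp_lt hi) (Sol.one S _)]
        have := S.sigI_mR (S.ok.neg_lt (S.ok.smp_lt hi)) (t := (-1 : F)) (Sol.neg S (Sol.one S _))
        rw [S.mR_neg (S.ok.smp_lt hi)] at this
        rw [this]
      have hmem : S.ok.gW F (S.g.orbJ i) ∈ S.G1 := by
        obtain ⟨j, -, hj⟩ := (S.orbJ_facts hi).2.1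
        have hkey : ∀ (j : ℕ) {b : ℕ}, b < D.rank → S.nel (T.smp (S.g.psiI j b)) 1 = S.nel (T.smp b) (1 : F) := by
          intro j
          induction j with
          | zero => intro b _; rfl
          | succ j ih =>
            intro b hb
            rw [← ih hb]
            have hc := S.gok.psiI_lt j hb
            show S.nel (T.smp (S.g.psi (S.g.psiI j b))) 1 = _
            set c := S.g.psiI j b
            have hp := S.ok.smp_lt hc
            have e1 := S.oel_per hp (t := (1 : F)) (Sol.one S _)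
            have e2 := S.oel_per (S.ok.neg_lt hp) (t := (-1 : F)) ((S.sol_neg hp).mpr (Sol.neg S (Sol.one S _)))
            rw [(S.gok.simple_facts hc).2.1, (S.gok.simple_facts hc).2.2.1, map_one, Int.cast_one, one_mul] at e1
            rw [S.per_neg hp, (S.gok.root_facts hp).2.2.2.1, (S.gok.simple_facts hc).2.1,
              (S.gok.simple_facts hc).2.2.1, map_neg, map_one, Int.cast_one, one_mul] at e2
            rw [nel, nel, inv_one, e1, e2]
        rw [S.gW_orbJ hi, ← hkey j hi, ← S.gW_orbJ (S.gok.psiI_lt j hi)]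
        exact S.gW_orbJ_mem (S.gok.psiI_lt j hi) hj
      have hconj : ∀ u : F, S.ok.gW F (S.g.orbJ i) * S.ok.xG x u * (S.ok.gW F (S.g.orbJ i))⁻¹ =
          S.ok.xG (piW T (S.g.orbJ i) x) (a * u) := fun u => (ha u).1
      have hsol : S.Sol x (a⁻¹ * t) := by
        rw [S.sol_iff hxn]
        have h3 := (S.sol_iff (S.okx.piW_lt (S.orbJ_lt hi) hxn)).mp ht
        rw [S.orbJ_mR hi hxn] at h3
        have h4 : ∀ X : GL D.Idx F, S.sigI (S.g.mR x)
            (S.ok.gW F (S.g.orbJ i) * X * (S.ok.gW F (S.g.orbJ i))⁻¹) =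
            S.ok.gW F (S.g.orbJ i) * S.sigI (S.g.mR x) X * (S.ok.gW F (S.g.orbJ i))⁻¹ := fun X => by
          rw [map_mul, map_mul, map_inv, S.sigI_fixed hn]
        refine mul_left_cancel (a := S.ok.gW F (S.g.orbJ i)) (mul_right_cancel (b := (S.ok.gW F (S.g.orbJ i))⁻¹) ?_)
        rw [← h4, hconj, ← mul_assoc a, mul_inv_cancel₀ ha0, one_mul, h3]
      have := mul_mem (mul_mem hmem (hxc _ hsol)) (inv_mem hmem)
      rw [oel, S.orbP_conj hn, hconj, ← mul_assoc a, mul_inv_cancel₀ ha0, one_mul, ← S.orbJ_mR hi hxn] at this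
      exact this

end Tw

end Cfsg.Agent.Chev
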