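import Cfsg.Agent.Lib.Chev.TwistH

/-!
The Tits system of a twisted group.
-/

set_option autoImplicit false

namespace Cfsg.Agent.Chev

open Cfsg.Lie

namespace Tw

variable {F : Type*} [Field F] {D : ChevalleyDatum} {T : Tabs} (S : Tw F D T)

include S

theorem wd_single (i : ℕ) : S.wd [i] = S.g.orbJ i := by simp [wd]

theorem piW_perI {w : List ℕ} (hw : ∀ r < D.nroots, piW T w (S.g.per r) = S.g.per (piW T w r)) :
    ∀ (j : ℕ) {r : ℕ}, r < D.nroots → piW T w (S.g.perI j r) = S.g.perI j (piW T w r)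
  | 0, _, _ => rfl
  | j + 1, r, hr => by
    show piW T w (S.g.per (S.g.perI j r)) = S.g.per (S.g.perI j (piW T w r))
    rw [hw _ (S.gok.perI_lt j hr), piW_perI hw j hr]

theorem orbJ_per {i : ℕ} (hi : i < D.rank) :
    ∀ r < D.nroots, piW T (S.g.orbJ i) (S.g.per r) = S.g.per (piW T (S.g.orbJ i) r) :=
  fun r hr => ((S.orbJ_facts hi).2.2 r hr).1

theorem lc_oel_self {h r : ℕ} (hh : 0 < h) (hr : r < D.nroots) (he : T.htf r = (h : ℤ)) (t : F) :
    S.lc r (S.oel r t) = t := by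
  rw [oel, orbP, S.lc_list hh he (fun x hx => by
    obtain ⟨j, -, rfl⟩ := List.mem_map.mp hx
    rw [S.sigI_xG j hr]
    refine S.xG_mem_Lev (S.gok.perI_lt j hr) ?_ ?_ _ <;> rw [S.gok.htf_perI j hr, he] <;> omega)]
  rw [List.map_map, ← List.sum_toFinset _ List.nodup_range, List.toFinset_range, Finset.sum_eq_single 0]
  · show S.lc r (S.ok.xG r t) = t
    rw [S.lc_xG hr hr (S.ok.neg_ne hr).symm, if_pos rfl]
  · intro j hj hj0
    rw [Function.comp_apply, S.sigI_xG j hr, S.lc_xG hr (S.gok.perI_lt j hr), if_neg]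
    · exact (S.orbit_facts hr (Nat.pos_of_ne_zero hj0) (Finset.mem_range.mp hj)).1
    · exact (S.orbit_facts hr (Nat.pos_of_ne_zero hj0) (Finset.mem_range.mp hj)).2.1
  · intro h0; exact absurd (Finset.mem_range.mpr (S.mR_pos r)) h0

theorem oel_pos {r : ℕ} (hr : r < D.nroots) (h0 : 0 < T.htf r) (t : F) : S.oel r t ∈ D.posUnipotent F := by
  refine list_prod_mem fun x hx => ?_
  obtain ⟨j, -, rfl⟩ := List.mem_map.mp hx
  rw [S.sigI_xG j hr]
  exact S.ok.xG_mem_pos (S.ok.isPos_iff.mpr ⟨S.gok.perI_lt j hr, by rw [S.gok.htf_perI j hr]; exact h0⟩) _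

theorem oel_negU {r : ℕ} (hr : r < D.nroots) (h0 : T.htf r < 0) (t : F) : S.oel r t ∈ D.negUnipotent F := by
  refine list_prod_mem fun x hx => ?_
  obtain ⟨j, -, rfl⟩ := List.mem_map.mp hx
  rw [S.sigI_xG j hr]
  exact S.ok.xG_mem_neg (S.ok.isNeg_iff.mpr ⟨S.gok.perI_lt j hr, by rw [S.gok.htf_perI j hr]; exact h0⟩) _

theorem oel_eq_one {r : ℕ} (hr : r < D.nroots) (h0 : 0 < T.htf r) {t : F} (h : S.oel r t = 1) : t = 0 := by
  have := S.lc_oel_self (h := (T.htf r).toNat) (by omega) hr (by omega) t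
  rw [h, S.lc_one] at this
  exact this.symm

theorem sig_pos {x : GL D.Idx F} (hx : x ∈ D.posUnipotent F) : S.sig x ∈ D.posUnipotent F := by
  rw [← S.Lev_one] at hx ⊢
  exact S.sig_Lev hx

theorem sig_Um {w : List ℕ} (hw : ∀ i ∈ w, i < D.rank)
    (hc : ∀ r < D.nroots, piW T w (S.g.per r) = S.g.per (piW T w r)) {x : GL D.Idx F}
    (hx : x ∈ S.okx.Um F w) : S.sig x ∈ S.okx.Um F w := by
  induction hx using Subgroup.closure_induction with
  | mem y hy =>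
    obtain ⟨r, t, hr, hneg, rfl⟩ := hy
    obtain ⟨hr1, hr2⟩ := S.ok.isPos_iff.mp hr
    rw [S.sig_xG hr1]
    refine Subgroup.subset_closure ⟨_, _, S.ok.isPos_iff.mpr ⟨S.gok.per_lt hr1, ?_⟩, ?_, rfl⟩
    · rwa [(S.gok.root_facts hr1).2.2.2.2.1]
    · rw [hc r hr1, (S.gok.root_facts (S.okx.piW_lt hw hr1)).2.2.2.2.1]; exact hneg
  | one => rw [map_one]; exact one_mem _
  | mul a b _ _ ha hb => rw [map_mul]; exact mul_mem ha hb
  | inv a _ ha => rw [map_inv]; exact inv_mem ha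

/-- The part of the positive unipotent group attached to one orbit of fundamental roots. -/
theorem Um_orbJ {i : ℕ} (hi : i < D.rank) {x : GL D.Idx F} (hQ : x ∈ S.okx.Um F (S.g.orbJ i)) (hF : x ∈ S.Fx) :
    ∃ t, S.Sol (T.smp i) t ∧ x = S.oel (T.smp i) t := by
  have hw := S.orbJ_lt hi
  have hp := S.ok.smp_lt hi
  have hA := S.adm_Um (F := F) hw (S.orbJ_per hi)
  have he : T.htf (T.smp i) = ((1 : ℕ) : ℤ) := by rw [(S.ok.smp_spec hi).1]; norm_num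
  have hL : x ∈ S.Lev 1 := by rw [S.Lev_one]; exact S.okx.Um_le _ hQ
  set t := S.lc (T.smp i) x with ht
  have hsol : S.Sol (T.smp i) t := by
    intro e
    have h3 := S.lc_sig Nat.one_pos hp he hL
    rw [show S.sig x = x from hF, e, (S.gok.root_facts hp).2.2.2.2.2.2.2.1 e, Int.cast_one, one_mul] at h3
    exact h3.symm
  have hoQ : S.oel (T.smp i) t ∈ S.okx.Um F (S.g.orbJ i) := by
    refine list_prod_mem fun y hy => ?_
    obtain ⟨j, -, rfl⟩ := List.mem_map.mp hy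
    rw [S.sigI_xG j hp]
    refine hA.mem _ ⟨S.gok.perI_lt j hp, ?_, ?_⟩ _
    · rw [S.gok.htf_perI j hp, he]; norm_num
    · rw [S.piW_perI (S.orbJ_per hi) j hp, S.gok.htf_perI j (S.okx.piW_lt hw hp), (S.orbJ_facts hi).1,
        S.ok.ht_neg hp, he]
      norm_num
  have hoF : S.oel (T.smp i) t ∈ S.Fx := S.oel_fixed hp hsol
  have hoL : S.oel (T.smp i) t ∈ S.Lev 1 := by rw [S.Lev_one]; exact S.oel_pos hp (by rw [he]; norm_num) t
  set y := (S.oel (T.smp i) t)⁻¹ * x with hy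
  have hyQ : y ∈ S.okx.Um F (S.g.orbJ i) := mul_mem (inv_mem hoQ) hQ
  have hyF : y ∈ S.Fx := mul_mem (inv_mem hoF) hF
  have hyL : ∀ h, y ∈ S.Lev (h + 1) := by
    intro h
    induction h with
    | zero => exact mul_mem (inv_mem hoL) hL
    | succ h ih =>
      refine S.mem_Lev_succ h.succ_pos ih fun r hr => ?_
      obtain ⟨hr1, hr2⟩ := S.mem_rootsAt.mp hr
      by_cases hP : r < D.nroots ∧ 0 < T.htf r ∧ T.htf (piW T (S.g.orbJ i) r) < 0
      swap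
      · exact hA.zero (h + 1) y hyQ ih r hr hP h.succ_pos
      obtain ⟨j, -, rfl⟩ := ((S.orbJ_facts hi).2.2 r hr1).2 hP.2.1 hP.2.2
      rw [S.gok.htf_perI j hp, he] at hr2
      obtain rfl : h = 0 := by omega
      rw [S.lc_fixed Nat.one_pos hp he ih hyF j, hy, S.lc_mul Nat.one_pos he (inv_mem hoL) hL,
        S.lc_inv Nat.one_pos he hoL, S.lc_oel_self Nat.one_pos hp he, ← ht, neg_add_cancel,
        show S.fr^[j] (0 : F) = 0 from Function.iterate_fixed (map_zero S.fr) j, mul_zero]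
  have hy1 := hyL D.nroots
  rw [S.Lev_top (Nat.lt_succ_self _), Subgroup.mem_bot, hy, inv_mul_eq_one] at hy1
  exact ⟨t, hsol, hy1.symm⟩

/-- Splitting a fixed positive unipotent element along one orbit. -/
theorem split_orbit {i : ℕ} (hi : i < D.rank) {u : GL D.Idx F} (hu : u ∈ D.posUnipotent F) (hF : u ∈ S.Fx) :
    ∃ a ∈ D.posUnipotent F, a ∈ S.Fx ∧
      S.ok.gW F (S.g.orbJ i) * a * (S.ok.gW F (S.g.orbJ i))⁻¹ ∈ D.posUnipotent F ∧
      ∃ t, S.Sol (T.smp i) t ∧ u = a * S.oel (T.smp i) t := by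
  have hw := S.orbJ_lt hi
  set s := S.ok.gW F (S.g.orbJ i) with hs
  obtain ⟨a, ha, ha', c, hc, hac⟩ := S.okx.pos_split_word _ _ hw le_rfl u hu
  rw [← hs] at ha'
  have hsF : S.sig s = s := by
    have hp := S.ok.smp_lt hi
    rw [hs, S.gW_orbJ hi, nel, inv_one]
    exact mul_mem (mul_mem (S.oel_fixed hp (Sol.one S _))
      (S.oel_fixed (S.ok.neg_lt hp) ((S.sol_neg hp).mpr (Sol.neg S (Sol.one S _))))) (S.oel_fixed hp (Sol.one S _))
  have e1 : a * c = S.sig a * S.sig c := by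
    rw [← map_mul, ← hac]; exact (show S.sig u = u from hF).symm
  have hz : (S.sig a)⁻¹ * a = S.sig c * c⁻¹ := by
    rw [eq_mul_inv_iff_mul_eq, mul_assoc, e1, inv_mul_cancel_left]
  have hz0 : (S.sig a)⁻¹ * a = 1 := by
    have h1 : s * ((S.sig a)⁻¹ * a) * s⁻¹ ∈ D.posUnipotent F := by
      have h2 : s * S.sig a * s⁻¹ ∈ D.posUnipotent F := by
        have := S.sig_pos ha'
        rwa [map_mul, map_mul, map_inv, hsF] at this
      have := mul_mem (inv_mem h2) ha'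
      simpa [mul_assoc] using this
    have h3 : s * ((S.sig a)⁻¹ * a) * s⁻¹ ∈ D.negUnipotent F := by
      rw [hz]
      exact S.okx.Um_conj_neg hw (mul_mem (S.sig_Um hw (S.orbJ_per hi) hc) (inv_mem hc))
    have h4 : s * ((S.sig a)⁻¹ * a) * s⁻¹ ∈ D.borelSubgroup F ⊓ D.negUnipotent F :=
      ⟨Subgroup.mem_sup_left h1, h3⟩
    rw [S.ok.borel_inf_neg, Subgroup.mem_bot, mul_inv_eq_one] at h4
    exact mul_eq_left.mp h4
  rw [inv_mul_eq_one] at hz0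
  have haF : a ∈ S.Fx := hz0
  have hcF : c ∈ S.Fx := by
    have : c = a⁻¹ * u := by rw [hac, inv_mul_cancel_left]
    rw [this]; exact mul_mem (inv_mem haF) hF
  obtain ⟨t, ht, rfl⟩ := S.Um_orbJ hi hc hcF
  exact ⟨a, ha, haF, ha', t, ht, hac⟩

/-- The Borel subgroup of the twisted group. -/
noncomputable def B1 : Subgroup (GL D.Idx F) where
  carrier := {x | ∃ u ∈ D.posUnipotent F, u ∈ S.Fx ∧ ∃ h ∈ S.H0, x = u * h}
  one_mem' := ⟨1, one_mem _, one_mem _, 1, one_mem _, (one_mul 1).symm⟩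
  mul_mem' := by
    rintro x y ⟨u, hu, hu', h, hh, rfl⟩ ⟨v, hv, hv', k, hk, rfl⟩
    exact ⟨u * (h * v * h⁻¹),
      mul_mem hu ((Subgroup.mem_normalizer_iff.mp (S.ok.diag_normalizes_pos (S.H0_le_diag hh)) v).mp hv),
      mul_mem hu' (mul_mem (mul_mem (S.H0_le_Fx hh) hv') (inv_mem (S.H0_le_Fx hh))),
      h * k, mul_mem hh hk, by simp [mul_assoc]⟩
  inv_mem' := by
    rintro x ⟨u, hu, hu', h, hh, rfl⟩
    refine ⟨h⁻¹ * u⁻¹ * h, ?_, mul_mem (mul_mem (inv_mem (S.H0_le_Fx hh)) (inv_mem hu')) (S.H0_le_Fx hh),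
      h⁻¹, inv_mem hh, by simp [mul_assoc]⟩
    have := (Subgroup.mem_normalizer_iff.mp (S.ok.diag_normalizes_pos (inv_mem (S.H0_le_diag hh))) u⁻¹).mp (inv_mem hu)
    simpa using this

theorem mem_B1_pos {x : GL D.Idx F} (hx : x ∈ D.posUnipotent F) (hF : x ∈ S.Fx) : x ∈ S.B1 :=
  ⟨x, hx, hF, 1, one_mem _, (mul_one x).symm⟩

theorem H0_le_B1 : S.H0 ≤ S.B1 := fun h hh => ⟨1, one_mem _, one_mem _, h, hh, (one_mul h).symm⟩

theorem B1_le_borel : S.B1 ≤ D.borelSubgroup F := by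
  rintro x ⟨u, hu, -, h, hh, rfl⟩
  exact mul_mem (Subgroup.mem_sup_left hu) (Subgroup.mem_sup_right (S.H0_le_diag hh))

theorem B1_le_G1 : S.B1 ≤ S.G1 := by
  rintro x ⟨u, hu, hu', h, hh, rfl⟩
  exact mul_mem (S.adm_le_G1 S.adm_pos ⟨hu, hu'⟩) (S.H0_le_G1 hh)

theorem oel_mem_B1 {r : ℕ} (hr : r < D.nroots) (h0 : 0 < T.htf r) {t : F} (ht : S.Sol r t) : S.oel r t ∈ S.B1 :=
  S.mem_B1_pos (S.oel_pos hr h0 t) (S.oel_fixed hr ht)

theorem N1_le_Fx : S.N1 ≤ S.Fx := S.N1_le_G1.trans S.G1_le_Fx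

theorem mem_H0_of_diag {x : GL D.Idx F} (hx : x ∈ S.B1) (hd : x ∈ D.diagonalSubgroup F) : x ∈ S.H0 := by
  obtain ⟨u, hu, -, h, hh, rfl⟩ := hx
  have h1 : u ∈ D.posUnipotent F ⊓ D.diagonalSubgroup F := by
    refine ⟨hu, ?_⟩
    have := mul_mem hd (inv_mem (S.H0_le_diag hh))
    rwa [mul_inv_cancel_right] at this
  rw [S.ok.pos_inf_diag, Subgroup.mem_bot] at h1
  rw [h1, one_mul]; exact hh

theorem B1_inf_N1 : S.B1 ⊓ S.N1 = S.H0 := by
  refine le_antisymm (fun x hx => S.mem_H0_of_diag hx.1 ?_) (le_inf S.H0_le_B1 S.H0_le_N1)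
  rw [← S.ok.borel_inf_monomial]
  exact ⟨S.B1_le_borel hx.1, S.N1_le_monomial hx.2⟩

theorem orbJ_mem_N1 {i : ℕ} (hi : S.IsR i) : S.ok.gW F (S.g.orbJ i) ∈ S.N1 := S.isN_orbJ hi

/-- Conjugating the orbit products of an orbit of fundamental roots by its representative. -/
theorem orbJ_conj {i : ℕ} (hi : S.IsR i) : ∃ e : F, e ≠ 0 ∧ S.Sol (T.smp i) e ∧ ∀ t : F,
    S.ok.gW F (S.g.orbJ i) * S.oel (T.smp i) t * (S.ok.gW F (S.g.orbJ i))⁻¹ = S.oel (T.neg (T.smp i)) (e * t) ∧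
    (S.ok.gW F (S.g.orbJ i))⁻¹ * S.oel (T.smp i) t * S.ok.gW F (S.g.orbJ i) = S.oel (T.neg (T.smp i)) (e * t) := by
  have hp := S.ok.smp_lt hi.1
  have hA := S.ok.act_gW (F := F) (S.wd [i]) (S.wd_lt (S.orbJ_R hi))
  obtain ⟨-, -, e, he, hs, hc⟩ := S.oel_conj (S.N1_le_Fx (S.orbJ_mem_N1 hi)) (S.orbJ_R hi)
    (by rw [← S.wd_single]; exact hA) hp
  rw [S.wd_single, (S.orbJ_facts hi.1).1] at hs hc
  refine ⟨e, he, (S.sol_neg hp).mp hs, fun t => ⟨(hc t).1, ?_⟩⟩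
  have h2 := (hc (e * t)).2
  rw [S.ok.neg_neg' hp, ← mul_assoc, inv_mul_cancel₀ he, one_mul] at h2
  rw [← h2]
  simp [mul_assoc]

theorem bruhat_step1 {i : ℕ} (hi : S.IsR i) {n b : GL D.Idx F} (hn : n ∈ S.N1) (hb : b ∈ S.B1) :
    (∃ c ∈ S.B1, ∃ d ∈ S.B1, S.ok.gW F (S.g.orbJ i) * b * n = c * (S.ok.gW F (S.g.orbJ i) * n) * d) ∨
    ∃ c ∈ S.B1, ∃ d ∈ S.B1, S.ok.gW F (S.g.orbJ i) * b * n = c * n * d := by
  obtain ⟨u, hu, hu', h, hh, rfl⟩ := hb
  obtain ⟨a, ha, haF, ha', t, ht, rfl⟩ := S.split_orbit hi.1 hu hu'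
  set p := T.smp i with hpdef
  have hp : p < D.nroots := S.ok.smp_lt hi.1
  have hp0 : 0 < T.htf p := by rw [hpdef, (S.ok.smp_spec hi.1).1]; norm_num
  set s := S.ok.gW F (S.g.orbJ i) with hs
  have hsN : s ∈ S.N1 := S.orbJ_mem_N1 hi
  have hsa : s * a * s⁻¹ ∈ S.B1 :=
    S.mem_B1_pos ha' (mul_mem (mul_mem (S.N1_le_Fx hsN) haF) (inv_mem (S.N1_le_Fx hsN)))
  have htn : n⁻¹ * h * n ∈ S.B1 := by
    have := S.N1_conj_H0 (inv_mem hn) hh
    rw [inv_inv] at this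
    exact S.H0_le_B1 this
  obtain ⟨v, hv, hvA⟩ := S.N1_act (inv_mem hn)
  obtain ⟨hlt, -, c₀, hc₀, hcs, hconj⟩ := S.oel_conj (S.N1_le_Fx (inv_mem hn)) hv hvA hp
  set πp := piW T (S.wd v) p
  rcases lt_or_gt_of_ne (S.ok.ht_ne hlt) with hneg | hpos
  swap
  · refine Or.inl ⟨s * a * s⁻¹, hsa, S.oel πp (c₀ * t) * (n⁻¹ * h * n),
      mul_mem (S.oel_mem_B1 hlt hpos (Sol.mul S hcs (fun e => ?_))) htn, ?_⟩
    · have hpe : S.g.per p = p :=
        S.okx.piW_inj (S.wd_lt hv) (S.gok.per_lt hp) hp (by rw [S.wd_per hv p hp]; exact e)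
      exact ht hpe
    · rw [← (hconj t).1]
      simp [mul_assoc]
  have hnp : 0 < T.htf (T.neg πp) := by rw [S.ok.ht_neg hlt]; omega
  by_cases ht0 : t = 0
  · refine Or.inl ⟨s * a * s⁻¹, hsa, n⁻¹ * h * n, htn, ?_⟩
    rw [ht0, S.oel_zero]
    simp [mul_assoc]
  refine Or.inr ?_
  obtain ⟨e, he, hes, hcs'⟩ := S.orbJ_conj hi
  set b₁ := e * t with hb₁
  have hb₁0 : b₁ ≠ 0 := mul_ne_zero he ht0
  have hb₁s : S.Sol p b₁ := Sol.mul S hes ht
  have hstep : S.oel (T.neg p) b₁ = S.oel p b₁⁻¹ * (S.hel p (-b₁⁻¹) * s) * S.oel p b₁⁻¹ := by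
    rw [S.neg_oel_eq hp hb₁0, S.nel_eq_hel_mul hp, hs, S.gW_orbJ hi.1]
  set x := b₁⁻¹ with hx
  have hxs : S.Sol p x := Sol.inv S hb₁s
  have hright : n⁻¹ * (s⁻¹ * S.oel p x * s) * n ∈ S.B1 := by
    rw [(hcs' x).2]
    have h4 := (hconj (e * x)).2
    rw [inv_inv] at h4
    rw [h4]
    refine S.oel_mem_B1 (S.ok.neg_lt hlt) hnp ((S.sol_neg hlt).mpr (Sol.mul S (Sol.inv S hcs) (fun e' => ?_)))
    have hpe : S.g.per p = p :=
      S.okx.piW_inj (S.wd_lt hv) (S.gok.per_lt hp) hp (by rw [S.wd_per hv p hp]; exact e')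
    exact (Sol.mul S hes hxs) hpe
  refine ⟨s * a * s⁻¹ * S.oel p x * (S.hel p (-x) * (s * s)),
    mul_mem (mul_mem hsa (S.oel_mem_B1 hp hp0 hxs))
      (S.H0_le_B1 (mul_mem (S.hel_mem_H0 hi (neg_ne_zero.mpr (inv_ne_zero hb₁0)) (Sol.neg S hxs)) (S.gW_orbJ_sq hi))),
    n⁻¹ * (s⁻¹ * S.oel p x * s) * n * (n⁻¹ * h * n), mul_mem hright htn, ?_⟩
  have e0 : s * (a * S.oel p t * h) * n = s * a * s⁻¹ * (s * S.oel p t * s⁻¹) * (s * h * n) := by
    simp [mul_assoc]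
  rw [e0, (hcs' t).1, ← hb₁, hstep]
  simp [mul_assoc]

theorem orbJ_inj {i i' : ℕ} (hi : S.IsR i) (hi' : S.IsR i')
    (h : (S.ok.gW F (S.g.orbJ i))⁻¹ * S.ok.gW F (S.g.orbJ i') ∈ D.diagonalSubgroup F) : i = i' := by
  have A := (S.ok.act_gW (F := F) _ (S.orbJ_lt hi.1)).mul S.ok (S.ok.act_diag h)
  have e : S.ok.gW F (S.g.orbJ i) * ((S.ok.gW F (S.g.orbJ i))⁻¹ * S.ok.gW F (S.g.orbJ i')) =
      S.ok.gW F (S.g.orbJ i') := by simp
  rw [e] at A
  have hp := S.ok.smp_lt hi.1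
  have h1 := S.ok.act_unique A (S.ok.act_gW (F := F) _ (S.orbJ_lt hi'.1)) hp
  rw [Function.comp_apply, id, (S.orbJ_facts hi.1).1] at h1
  obtain ⟨j, hj, hje⟩ := ((S.orbJ_facts hi'.1).2.2 _ hp).2 (by rw [(S.ok.smp_spec hi.1).1]; norm_num)
    (by rw [← h1, S.ok.ht_neg hp, (S.ok.smp_spec hi.1).1]; norm_num)
  rw [S.gok.perI_smp j hi'.1] at hje
  exact (S.repS_unique hi'.1 hi.2 hi'.2 hj (S.smp_inj hi.1 (S.gok.psiI_lt j hi'.1) hje).symm).symm

/-- The Tits system on the twisted group. -/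
noncomputable def bn : Cfsg.BNPair ↥S.G1 where
  B := S.B1.subgroupOf S.G1
  N := S.N1.subgroupOf S.G1
  S := {n : ↥S.G1 | ∃ i, S.IsR i ∧ (n : GL D.Idx F) = S.ok.gW F (S.g.orbJ i)}
  sup_eq_top := by
    rw [← Subgroup.subgroupOf_sup S.B1_le_G1 S.N1_le_G1, Subgroup.subgroupOf_eq_top]
    refine (Subgroup.closure_le _).mpr ?_
    rintro x ⟨i, t, hi, hrep, ht, rfl | rfl⟩
    · exact Subgroup.mem_sup_left (S.oel_mem_B1 (S.ok.smp_lt hi) (by rw [(S.ok.smp_spec hi).1]; norm_num) ht)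
    · obtain ⟨e, he, hes, hc⟩ := S.orbJ_conj ⟨hi, hrep⟩
      have := (hc (e⁻¹ * t)).1
      rw [← mul_assoc, mul_inv_cancel₀ he, one_mul] at this
      rw [SetLike.mem_coe, ← this]
      have hsN : S.ok.gW F (S.g.orbJ i) ∈ S.B1 ⊔ S.N1 := Subgroup.mem_sup_right (S.orbJ_mem_N1 ⟨hi, hrep⟩)
      exact mul_mem (mul_mem hsN (Subgroup.mem_sup_left (S.oel_mem_B1 (S.ok.smp_lt hi)
        (by rw [(S.ok.smp_spec hi).1]; norm_num) (Sol.mul S (Sol.inv S hes) ht)))) (inv_mem hsN)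
  conj_mem := by
    rintro n hn t ⟨htB, htN⟩
    simp only [SetLike.mem_coe, Subgroup.mem_subgroupOf] at htB htN hn ⊢
    have ht : (t : GL D.Idx F) ∈ S.H0 := by rw [← S.B1_inf_N1]; exact ⟨htB, htN⟩
    exact S.H0_le_B1 (S.N1_conj_H0 hn ht)
  subset := by
    rintro n ⟨i, hi, hn⟩
    rw [SetLike.mem_coe, Subgroup.mem_subgroupOf, hn]
    exact S.orbJ_mem_N1 hi
  sq_mem := by
    rintro n ⟨i, hi, hn⟩
    rw [Subgroup.mem_subgroupOf, Subgroup.coe_mul, hn]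
    exact S.H0_le_B1 (S.gW_orbJ_sq hi)
  inj := by
    rintro n ⟨i, hi, hn⟩ m ⟨j, hj, hm⟩ h
    rw [Subgroup.mem_subgroupOf, Subgroup.coe_mul, Subgroup.coe_inv, hn, hm] at h
    have hd : (S.ok.gW F (S.g.orbJ i))⁻¹ * S.ok.gW F (S.g.orbJ j) ∈ D.diagonalSubgroup F := by
      rw [← S.ok.borel_inf_monomial]
      exact ⟨S.B1_le_borel h,
        S.N1_le_monomial (mul_mem (inv_mem (S.orbJ_mem_N1 hi)) (S.orbJ_mem_N1 hj))⟩
    obtain rfl := S.orbJ_inj hi hj hd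
    exact Subtype.ext (hn.trans hm.symm)
  closure_sup := by
    apply le_antisymm
    · refine sup_le ((Subgroup.closure_le _).mpr ?_) inf_le_right
      rintro n ⟨i, hi, hn⟩
      rw [SetLike.mem_coe, Subgroup.mem_subgroupOf, hn]
      exact S.orbJ_mem_N1 hi
    · intro g hg
      rw [Subgroup.mem_subgroupOf] at hg
      obtain ⟨h, hh, v, hv, e⟩ := hg
      have hwG : ∀ v : List ℕ, (∀ i ∈ v, S.IsR i) → ∃ x ∈ Subgroup.closure
          {n : ↥S.G1 | ∃ i, S.IsR i ∧ (n : GL D.Idx F) = S.ok.gW F (S.g.orbJ i)},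
          (x : GL D.Idx F) = S.ok.gW F (S.wd v) := by
        intro v
        induction v with
        | nil => exact fun _ => ⟨1, one_mem _, rfl⟩
        | cons i v ih =>
          intro hv
          obtain ⟨x, hx, hx'⟩ := ih fun j hj => hv j (List.mem_cons_of_mem _ hj)
          have hi := hv i List.mem_cons_self
          refine ⟨⟨S.ok.gW F (S.g.orbJ i), S.gW_orbJ_mem hi.1 hi.2⟩ * x,
            mul_mem (Subgroup.subset_closure ⟨i, hi, rfl⟩) hx, ?_⟩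
          rw [Subgroup.coe_mul, hx', wd_cons, OK.gW_append]
      obtain ⟨x, hx, hx'⟩ := hwG v hv
      have : g = ⟨h, S.H0_le_G1 hh⟩ * x := Subtype.ext (by rw [Subgroup.coe_mul, hx']; exact e)
      rw [this]
      exact mul_mem (Subgroup.mem_sup_right ⟨S.H0_le_B1 hh, S.H0_le_N1 hh⟩) (Subgroup.mem_sup_left hx)
  mul_mem_union := by
    rintro s ⟨i, hi, hs⟩ n hn b hb
    rw [Subgroup.mem_subgroupOf] at hn hb
    rcases S.bruhat_step1 hi hn hb with ⟨c, hc, d, hd, h⟩ | ⟨c, hc, d, hd, h⟩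
    · refine Or.inl (DoubleCoset.mem_doubleCoset.mpr ⟨⟨c, S.B1_le_G1 hc⟩, hc,
        ⟨d, S.B1_le_G1 hd⟩, hd, Subtype.ext ?_⟩)
      simp only [Subgroup.coe_mul, hs]
      exact h
    · refine Or.inr (DoubleCoset.mem_doubleCoset.mpr ⟨⟨c, S.B1_le_G1 hc⟩, hc,
        ⟨d, S.B1_le_G1 hd⟩, hd, Subtype.ext ?_⟩)
      simp only [Subgroup.coe_mul, hs]
      exact h
  conj_ne := by
    rintro s ⟨i, hi, hs⟩ hE
    have hp := S.ok.smp_lt hi.1
    have hp0 : 0 < T.htf (T.smp i) := by rw [(S.ok.smp_spec hi.1).1]; norm_num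
    have hxB : S.oel (T.smp i) (1 : F) ∈ S.B1 := S.oel_mem_B1 hp hp0 (Sol.one S _)
    have hx : (⟨_, S.B1_le_G1 hxB⟩ : ↥S.G1) ∈ (S.B1.subgroupOf S.G1 : Set ↥S.G1) := hxB
    have h1 : s * (⟨_, S.B1_le_G1 hxB⟩ : ↥S.G1) * s ∈ (S.B1.subgroupOf S.G1 : Set ↥S.G1) := hE ▸ ⟨_, hx, rfl⟩
    rw [SetLike.mem_coe, Subgroup.mem_subgroupOf, Subgroup.coe_mul, Subgroup.coe_mul, hs] at h1
    have h3 : S.ok.gW F (S.g.orbJ i) * S.oel (T.smp i) 1 * (S.ok.gW F (S.g.orbJ i))⁻¹ ∈ S.B1 := by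
      have := mul_mem h1 (inv_mem (S.H0_le_B1 (S.gW_orbJ_sq hi)))
      simpa [mul_assoc] using this
    obtain ⟨e, he, hes, hc⟩ := S.orbJ_conj hi
    rw [(hc 1).1, mul_one] at h3
    have h4 : S.oel (T.neg (T.smp i)) e ∈ D.borelSubgroup F ⊓ D.negUnipotent F :=
      ⟨S.B1_le_borel h3, S.oel_negU (S.ok.neg_lt hp) (by rw [S.ok.ht_neg hp]; omega) e⟩
    rw [S.ok.borel_inf_neg, Subgroup.mem_bot, ← mul_one e, ← (hc 1).1, mul_inv_eq_one] at h4
    exact one_ne_zero (S.oel_eq_one hp hp0 (mul_eq_left.mp h4))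

/-! ### Words of representatives acting trivially -/

theorem nel_per {r : ℕ} (hr : r < D.nroots) {u : F} (hu : S.Sol r u) :
    S.nel (S.g.per r) ((S.g.sgn r : F) * S.fr u) = S.nel r u := by
  have hn := S.ok.neg_lt hr
  have e2 := S.oel_per hn (t := -u⁻¹) ((S.sol_neg hr).mpr (Sol.neg S (Sol.inv S hu)))
  rw [S.per_neg hr, (S.gok.root_facts hr).2.2.2.1, map_neg, map_inv₀] at e2
  have e3 : -((S.g.sgn r : F) * S.fr u)⁻¹ = (S.g.sgn r : F) * -(S.fr u)⁻¹ := by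
    rcases (S.gok.root_facts hr).2.1 with e | e <;> rw [e] <;> simp
  rw [nel, nel, S.oel_per hr hu, e3, e2]

theorem exists_per_pre {r : ℕ} (hr : r < D.nroots) {a : F} (ha : a ≠ 0) (hs : S.Sol (S.g.per r) a) :
    ∃ u : F, u ≠ 0 ∧ S.Sol r u ∧ (S.g.sgn r : F) * S.fr u = a := by
  refine ⟨S.fr.symm ((S.g.sgn r : F) * a), fun e => ?_, fun e => ?_, ?_⟩
  · rw [map_eq_zero_iff _ S.fr.symm.injective] at e
    rcases (S.gok.root_facts hr).2.1 with h | h <;> rw [h] at e <;> simp [ha] at e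
  · have h2 : S.fr a = a := hs (by rw [e, e])
    rw [(S.gok.root_facts hr).2.2.2.2.2.2.2.1 e, Int.cast_one, one_mul, RingEquiv.apply_symm_apply]
    exact ((RingEquiv.symm_apply_eq _).mpr h2.symm).symm
  · rw [RingEquiv.apply_symm_apply, ← mul_assoc, ← Int.cast_mul]
    rcases (S.gok.root_facts hr).2.1 with e | e <;> rw [e] <;> simp

theorem nel_perI : ∀ (j : ℕ) {r : ℕ}, r < D.nroots → ∀ {a : F}, a ≠ 0 → S.Sol (S.g.perI j r) a →
    ∃ u : F, u ≠ 0 ∧ S.Sol r u ∧ S.nel (S.g.perI j r) a = S.nel r u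
  | 0, _, _, a, ha, hs => ⟨a, ha, hs, rfl⟩
  | j + 1, r, hr, a, ha, hs => by
    obtain ⟨u, hu, hus, rfl⟩ := S.exists_per_pre (S.gok.perI_lt j hr) ha hs
    obtain ⟨u', hu', hus', e⟩ := nel_perI j hr hu hus
    refine ⟨u', hu', hus', ?_⟩
    rw [← e]
    exact S.nel_per (S.gok.perI_lt j hr) hus

theorem sign_change : ∀ (v : List ℕ), (∀ i ∈ v, S.IsR i) → ∀ {p : ℕ}, p < D.nroots → 0 < T.htf p →
    T.htf (piW T (S.wd v) p) < 0 → ∃ a j b, v = a ++ j :: b ∧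
      ∃ l, piW T (S.wd b) p = S.g.perI l (T.smp j)
  | [], _, p, _, h0, h => by
    have : piW T (S.wd []) p = p := rfl
    rw [this] at h; omega
  | i :: v, hv, p, hp, h0, h => by
    have hv' : ∀ j ∈ v, S.IsR j := fun j hj => hv j (List.mem_cons_of_mem _ hj)
    have hlt := S.okx.piW_lt (S.wd_lt hv') hp
    by_cases hn : T.htf (piW T (S.wd v) p) < 0
    · obtain ⟨a, j, b, e, h'⟩ := sign_change v hv' hp h0 hn
      exact ⟨i :: a, j, b, by rw [e]; rfl, h'⟩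
    · rw [wd_cons, piW_append] at h
      obtain ⟨l, -, hl⟩ := ((S.orbJ_facts (hv i List.mem_cons_self).1).2.2 _ hlt).2
        (by have := S.ok.ht_ne hlt; omega) h
      exact ⟨[], i, v, rfl, l, hl⟩

theorem gW_mem_H0 : ∀ (n : ℕ) (v : List ℕ), v.length = n → (∀ i ∈ v, S.IsR i) →
    (∀ r < D.nroots, piW T (S.wd v) r = r) → S.ok.gW F (S.wd v) ∈ S.H0 := by
  intro n
  induction n using Nat.strong_induction_on with
  | _ n ih =>
    intro v hn hv htriv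
    rcases List.eq_nil_or_concat v with rfl | ⟨v', i, rfl⟩
    · exact one_mem _
    rw [List.concat_eq_append] at *
    have hi : S.IsR i := hv i (by simp)
    have hv' : ∀ j ∈ v', S.IsR j := fun j hj => hv j (by simp [hj])
    have hp := S.ok.smp_lt hi.1
    have hp0 : 0 < T.htf (T.smp i) := by rw [(S.ok.smp_spec hi.1).1]; norm_num
    have h3 : T.htf (piW T (S.wd v') (T.smp i)) < 0 := by
      have h := htriv _ hp
      rw [wd_append, piW_append, S.wd_single, (S.orbJ_facts hi.1).1, S.okx.piW_neg (S.wd_lt hv') hp] at h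
      have h5 := congrArg T.htf h
      rw [S.ok.ht_neg (S.okx.piW_lt (S.wd_lt hv') hp)] at h5
      omega
    obtain ⟨a, j, b, rfl, l, hl⟩ := S.sign_change v' hv' hp hp0 h3
    have hb' : ∀ k ∈ b, S.IsR k := fun k hk => hv' k (by simp [hk])
    have ha' : ∀ k ∈ a, S.IsR k := fun k hk => hv' k (by simp [hk])
    have hj : S.IsR j := hv' j (by simp)
    have hbF : S.ok.gW F (S.wd b) ∈ S.Fx := S.G1_le_Fx (S.gW_wd_mem hb')
    obtain ⟨-, -, c, hc, hcs, hc'⟩ :=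
      S.oel_conj hbF hb' (S.ok.act_gW (F := F) _ (S.wd_lt hb')) hp
    rw [hl] at hcs hc'
    obtain ⟨u, hu, hus, hnel⟩ := S.nel_perI l (S.ok.smp_lt hj.1) hc hcs
    set G := S.ok.gW F (S.wd a) with hG
    set B := S.ok.gW F (S.wd b) with hB
    set sj := S.ok.gW F (S.g.orbJ j) with hsj
    set si := S.ok.gW F (S.g.orbJ i) with hsi
    have hconj : B * si * B⁻¹ = S.hel (T.smp j) u * sj := by
      rw [hsj, S.gW_orbJ hj.1, ← S.nel_eq_hel_mul (S.ok.smp_lt hj.1), ← hnel, hsi, S.gW_orbJ hi.1, nel,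
        ← conj_mul, ← conj_mul, (hc' 1).1, (hc' _).2, nel, mul_one, inv_one, mul_neg, mul_one]
    have hh : S.hel (T.smp j) u ∈ S.H0 := S.hel_mem_H0 hj hu hus
    have hy : G * (sj * S.hel (T.smp j) u * sj⁻¹ * (sj * sj)) * G⁻¹ ∈ S.H0 :=
      S.N1_conj_H0 (⟨1, one_mem _, a, ha', (one_mul _).symm⟩ : G ∈ S.N1)
        (mul_mem (S.N1_conj_H0 (S.orbJ_mem_N1 hj) hh) (S.gW_orbJ_sq hj))
    set y := G * (sj * S.hel (T.smp j) u * sj⁻¹ * (sj * sj)) * G⁻¹ with hydef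
    have hw' : S.ok.gW F (S.wd (a ++ j :: b ++ [i])) = y * S.ok.gW F (S.wd (a ++ b)) := by
      have : B * si = S.hel (T.smp j) u * sj * B := by rw [← hconj, inv_mul_cancel_right]
      rw [wd_append, wd_append, wd_cons, S.wd_single, OK.gW_append, OK.gW_append, OK.gW_append,
        wd_append, OK.gW_append, ← hG, ← hB, ← hsj, ← hsi, hydef, mul_assoc G, mul_assoc sj B, this]
      simp [mul_assoc]
    have hab : ∀ k ∈ a ++ b, S.IsR k := fun k hk => (List.mem_append.mp hk).elim (ha' k) (hb' k)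
    rw [hw']
    refine mul_mem hy (ih (a ++ b).length (by subst hn; simp) (a ++ b) rfl hab fun r hr => ?_)
    have A2 := (S.ok.act_diag (S.H0_le_diag (inv_mem hy))).mul S.ok (S.ok.act_gW (F := F) _ (S.wd_lt hv))
    rw [hw', inv_mul_cancel_left] at A2
    rw [S.ok.act_unique (S.ok.act_gW (F := F) _ (S.wd_lt hab)) A2 hr, Function.comp_apply, id]
    exact htriv r hr

theorem N1_diag {n : GL D.Idx F} (hn : n ∈ S.N1) (hd : n ∈ D.diagonalSubgroup F) : n ∈ S.H0 := by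
  obtain ⟨h, hh, v, hv, rfl⟩ := hn
  refine mul_mem hh (S.gW_mem_H0 _ v rfl hv fun r hr => ?_)
  have hd' : S.ok.gW F (S.wd v) ∈ D.diagonalSubgroup F := by
    have := mul_mem (inv_mem (S.H0_le_diag hh)) hd
    rwa [inv_mul_cancel_left] at this
  exact S.ok.act_unique (S.ok.act_gW (F := F) _ (S.wd_lt hv)) (S.ok.act_diag hd') hr

/-- The normal form: every element is a product of two elements of the Borel subgroup and a monomial one. -/
theorem exists_bnb {g : GL D.Idx F} (hg : g ∈ S.G1) :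
    ∃ b ∈ S.B1, ∃ n ∈ S.N1, ∃ d ∈ S.B1, g = b * n * d := by
  obtain ⟨n, hn, hdc⟩ := Cfsg.Agent.BN.exists_inDC (P := S.bn) (⟨g, hg⟩ : ↥S.G1)
  obtain ⟨c, hc, d, hd, e⟩ := Cfsg.Agent.BN.inDC_iff.mp hdc
  exact ⟨_, hc, _, hn, _, hd, congrArg Subtype.val e⟩

theorem borel_inf_G1 : D.borelSubgroup F ⊓ S.G1 = S.B1 := by
  refine le_antisymm (fun g hg => ?_) (le_inf S.B1_le_borel S.B1_le_G1)
  obtain ⟨b, hb, n, hn, d, hd, rfl⟩ := S.exists_bnb hg.2
  have h1 : n ∈ D.borelSubgroup F := by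
    have := mul_mem (mul_mem (inv_mem (S.B1_le_borel hb)) hg.1) (inv_mem (S.B1_le_borel hd))
    simpa [mul_assoc] using this
  have h2 : n ∈ D.diagonalSubgroup F := by
    rw [← S.ok.borel_inf_monomial]; exact ⟨h1, S.N1_le_monomial hn⟩
  exact mul_mem (mul_mem hb (S.H0_le_B1 (S.N1_diag hn h2))) hd

theorem diag_inf_G1 : D.diagonalSubgroup F ⊓ S.G1 = S.H0 := by
  refine le_antisymm (fun g hg => S.mem_H0_of_diag ?_ hg.1) (le_inf S.H0_le_diag S.H0_le_G1)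
  rw [← S.borel_inf_G1]
  exact ⟨Subgroup.mem_sup_right hg.1, hg.2⟩

theorem monomial_inf_G1 : D.monomialSubgroup F ⊓ S.G1 = S.N1 := by
  refine le_antisymm (fun g hg => ?_) (le_inf S.N1_le_monomial S.N1_le_G1)
  obtain ⟨b, hb, n, hn, d, hd, rfl⟩ := S.exists_bnb hg.2
  have hnG : ∀ {x : GL D.Idx F}, x ∈ D.monomialSubgroup F → x ∈ D.group F := fun hx => S.ok.monomial_le_group hx
  have hbG : ∀ {x : GL D.Idx F}, x ∈ D.borelSubgroup F → x ∈ D.group F := fun hx => S.ok.borel_le_group hx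
  have h1 : Cfsg.Agent.BN.InDC (S.okx.bnPair (F := F))
      (⟨b * n * d, hnG hg.1⟩ : ↥(D.group F)) ⟨n, hnG (S.N1_le_monomial hn)⟩ :=
    Cfsg.Agent.BN.inDC_iff.mpr ⟨⟨b, hbG (S.B1_le_borel hb)⟩, S.B1_le_borel hb,
      ⟨d, hbG (S.B1_le_borel hd)⟩, S.B1_le_borel hd, rfl⟩
  have h2 := Cfsg.Agent.BN.eqv_of_inDC (P := S.okx.bnPair (F := F)) (n := ⟨b * n * d, hnG hg.1⟩)
    (n' := ⟨n, hnG (S.N1_le_monomial hn)⟩) hg.1 (S.N1_le_monomial hn) h1
  have h3 : (b * n * d)⁻¹ * n ∈ D.borelSubgroup F ⊓ D.monomialSubgroup F := ⟨h2.1, h2.2⟩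
  rw [S.ok.borel_inf_monomial] at h3
  have h4 : (b * n * d)⁻¹ * n ∈ S.H0 := by
    rw [← S.diag_inf_G1]; exact Subgroup.mem_inf.mpr ⟨h3, mul_mem (inv_mem (Subgroup.mem_inf.mp hg).2) (S.N1_le_G1 hn)⟩
  have := mul_mem hn (inv_mem (S.H0_le_N1 h4))
  rwa [mul_inv_rev, inv_inv, mul_inv_cancel_left] at this

theorem exists_bnPair : ∃ P : Cfsg.BNPair ↥S.G1,
    P.B = (D.borelSubgroup F ⊓ S.G1).subgroupOf S.G1 ∧ P.N = (D.monomialSubgroup F ⊓ S.G1).subgroupOf S.G1 :=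
  ⟨S.bn, by rw [S.borel_inf_G1]; rfl, by rw [S.monomial_inf_G1]; rfl⟩

/-- The core of the Borel subgroup, given a word exchanging positive and negative roots. -/
theorem core_eq_bot {v : List ℕ} (hv : ∀ i ∈ v, S.IsR i)
    (hlong : ∀ r < D.nroots, 0 < T.htf r → T.htf (piW T (S.wd v) r) < 0) :
    ((D.borelSubgroup F ⊓ S.G1).subgroupOf S.G1).normalCore = ⊥ := by
  rw [S.borel_inf_G1]
  set C := (S.B1.subgroupOf S.G1).normalCore
  have hCB : C ≤ S.B1.subgroupOf S.G1 := Subgroup.normalCore_le _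
  have hCn : C.Normal := Subgroup.normalCore_normal _
  set n₀ := S.ok.gW F (S.wd v) with hn₀
  have hn₀G : n₀ ∈ S.G1 := S.gW_wd_mem hv
  have hA := S.ok.act_gW (F := F) (S.wd v) (S.wd_lt hv)
  have hH : ∀ g ∈ C, (g : GL D.Idx F) ∈ S.H0 := by
    intro g hg
    have h1 : (g : GL D.Idx F) ∈ S.B1 := hCB hg
    have h2 := hCB (hCn.conj_mem g hg ⟨n₀, hn₀G⟩)
    rw [Subgroup.mem_subgroupOf, Subgroup.coe_mul, Subgroup.coe_mul, Subgroup.coe_inv] at h2
    obtain ⟨u, hu, -, h, hh, e⟩ := h1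
    rw [e] at h2
    have hneg : n₀ * u * n₀⁻¹ ∈ D.negUnipotent F := by
      clear e h2
      induction hu using Subgroup.closure_induction with
      | mem x hx =>
        obtain ⟨r, t, hr, hx⟩ := hx
        obtain ⟨hr1, hr2⟩ := S.ok.isPos_iff.mp hr
        obtain ⟨a, -, ha⟩ := hA.2.1 r hr1
        rw [S.ok.eq_xG hx, hn₀, (ha t).1]
        exact S.ok.xG_mem_neg (S.ok.isNeg_iff.mpr ⟨(hA.1 r hr1).1, hlong r hr1 hr2⟩) _
      | one => simp
      | mul a b _ _ ha hb => rw [← conj_mul]; exact mul_mem ha hb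
      | inv a _ ha => rw [← conj_inv]; exact inv_mem ha
    have h3 : n₀ * u * n₀⁻¹ ∈ D.borelSubgroup F := by
      have := mul_mem (S.B1_le_borel h2) (inv_mem (Subgroup.mem_sup_right
        (S.H0_le_diag (S.conj_H0 hv hh)) : n₀ * h * n₀⁻¹ ∈ D.borelSubgroup F))
      simpa [mul_assoc] using this
    have h4 : n₀ * u * n₀⁻¹ ∈ D.borelSubgroup F ⊓ D.negUnipotent F := ⟨h3, hneg⟩
    rw [S.ok.borel_inf_neg, Subgroup.mem_bot, mul_inv_eq_one] at h4
    rw [e, mul_eq_left.mp h4, one_mul]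
    exact hh
  refine (Subgroup.eq_bot_iff_forall _).mpr fun g hg => ?_
  have hgd : (g : GL D.Idx F) ∈ D.diagonalSubgroup F := S.H0_le_diag (hH g hg)
  have hAg := S.ok.act_diag hgd
  have hchi : ∀ r < D.nroots, 0 < T.htf r → ∀ a : F,
      (∀ t : F, (g : GL D.Idx F) * S.ok.xG r t * (g : GL D.Idx F)⁻¹ = S.ok.xG r (a * t)) → a = 1 := by
    intro r hr h0 a ha
    have hy : S.oel r (1 : F) ∈ S.G1 := S.oel_mem hr (Sol.one S _)
    have hk : g * ⟨_, hy⟩ * g⁻¹ * (⟨_, hy⟩ : ↥S.G1)⁻¹ ∈ C := by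
      have := mul_mem hg (hCn.conj_mem g⁻¹ (inv_mem hg) ⟨_, hy⟩)
      simpa [mul_assoc] using this
    have h1 := S.H0_le_diag (hH _ hk)
    simp only [Subgroup.coe_mul, Subgroup.coe_inv] at h1
    have e : (g : GL D.Idx F) * S.oel r 1 * (g : GL D.Idx F)⁻¹ = S.oel r a := by
      rw [oel, S.orbP_conj (S.G1_le_Fx g.2), ha 1, mul_one]; rfl
    rw [e, S.oel_inv hr, ← S.oel_add hr] at h1
    have h2 : S.oel r (a + -1) ∈ D.posUnipotent F ⊓ D.diagonalSubgroup F := ⟨S.oel_pos hr h0 _, h1⟩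
    rw [S.ok.pos_inf_diag, Subgroup.mem_bot] at h2
    linear_combination S.oel_eq_one hr h0 h2
  have hfix : ∀ r < D.nroots, ∀ t : F,
      (g : GL D.Idx F) * S.ok.xG r t * (g : GL D.Idx F)⁻¹ = S.ok.xG r t := by
    intro r hr t
    rcases lt_or_gt_of_ne (S.ok.ht_ne hr) with h | h
    · have hn := S.ok.neg_lt hr
      obtain ⟨a, -, ha⟩ := hAg.2.1 _ hn
      have := hchi _ hn (by rw [S.ok.ht_neg hr]; omega) a fun u => (ha u).1
      have h2 := (ha t).2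
      rw [id, S.ok.neg_neg' hr, this, inv_one, one_mul] at h2
      exact h2
    · obtain ⟨a, -, ha⟩ := hAg.2.1 r hr
      rw [(ha t).1, id, hchi r hr h a fun u => (ha u).1, one_mul]
  have hgG : (g : GL D.Idx F) ∈ D.group F := S.ok.diag_le_group hgd
  have hcen : ∀ x : ↥(D.group F), x * ⟨(g : GL D.Idx F), hgG⟩ * x⁻¹ = ⟨(g : GL D.Idx F), hgG⟩ := by
    rintro ⟨x, hx⟩
    refine Subtype.ext ?_
    show x * (g : GL D.Idx F) * x⁻¹ = (g : GL D.Idx F)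
    rw [mul_inv_eq_iff_eq_mul]
    have hc : Commute (g : GL D.Idx F) x := by
      induction hx using Subgroup.closure_induction with
      | mem y hy =>
        obtain ⟨r, t, hy⟩ := hy
        rw [S.ok.eq_xG (r := (r : ℕ)) (t := t) (hy.trans (by rw [ChevalleyDatum.x, dif_pos r.isLt]))]
        exact mul_inv_eq_iff_eq_mul.mp (hfix r r.isLt t)
      | one => exact Commute.one_right _
      | mul p q _ _ hp hq => exact hp.mul_right hq
      | inv p _ hp => exact hp.inv_right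
    exact hc.eq.symm
  have hmem : (⟨(g : GL D.Idx F), hgG⟩ : ↥(D.group F)) ∈
      ((D.borelSubgroup F).subgroupOf (D.group F)).normalCore := fun x => by
    rw [hcen x]; exact Subgroup.mem_sup_right hgd
  rw [S.okx.core_eq_bot, Subgroup.mem_bot] at hmem
  exact Subtype.ext (congrArg (fun z : ↥(D.group F) => (z : GL D.Idx F)) hmem)

end Tw

end Cfsg.Agent.Chev
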