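import Cfsg.Agent.Lib.Chev.TwistBN
import Cfsg.Agent.Lib.Chev.Perf

/-!
Perfectness and simplicity of the twisted groups.
-/

set_option autoImplicit false

namespace Cfsg.Agent.Chev

open Cfsg.Lie

namespace GTab

variable (D : ChevalleyDatum) (T : Tabs) (g : GTab)

/-- The word of a list of representatives, for evaluation. -/
noncomputable def wdR (v : List ℕ) : List ℕ := flatR g.orbJ v

/-- A word of representatives exchanging the positive and the negative roots. -/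
noncomputable def chkLong (v : List ℕ) : Bool :=
  andR (allR D.rank fun i => orR (g.repS i) (notR (anyL (Nat.beq i) v))) <|
  andR (notR (anyL (fun i => notR (nlt i D.rank)) v)) <|
  allR D.nroots fun r => orR (notR (ipos (T.htf r))) (notR (ipos (T.htf (T.piR (g.wdR v) r))))

/-- A fixed fundamental root is the only commutator root of two fixed roots. -/
noncomputable def chkFixedPair (i : ℕ) : Bool :=
  anyL (fun a => andR (Nat.beq (g.per a) a) <| anyL (fun b => andR (Nat.beq (g.per b) b) <|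
    andR (notR (Nat.beq b a)) <| andR (notR (Nat.beq b (T.neg a))) <|
      orR (eqL eqQ (T.terms a b) [(T.smp i, 1, 1, 1)]) (eqL eqQ (T.terms a b) [(T.smp i, -1, 1, 1)]))
    (upTo D.nroots)) (upTo D.nroots)

/-- Consecutive representatives do not commute. -/
noncomputable def chkPath : List ℕ → Bool :=
  @List.rec ℕ (fun _ => Bool) true fun i L ih => andR
    (@List.rec ℕ (fun _ => Bool) true (fun j _ _ =>
      notR (Nat.beq (T.piR (appR (g.orbJ i) (g.orbJ j)) (T.smp i)) (T.piR (appR (g.orbJ j) (g.orbJ i)) (T.smp i)))) L)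
    ih

/-- The certificate for perfectness and simplicity. -/
noncomputable def chkSimple (v L : List ℕ) : Bool :=
  andR (g.chkLong D T v) <|
  andR (allR D.rank fun i => orR (notR (g.repS i)) (anyL (Nat.beq i) L)) <|
  andR (allR D.rank fun i => orR (g.repS i) (notR (anyL (Nat.beq i) L))) <|
  andR (notR (anyL (fun i => notR (nlt i D.rank)) L)) <|
  andR (allR D.rank fun i => orR (notR (Nat.beq (g.per (T.smp i)) (T.smp i))) (g.chkFixedPair D T i)) <|
  g.chkPath T L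

end GTab

namespace Tw

variable {F : Type*} [Field F] {D : ChevalleyDatum} {T : Tabs} (S : Tw F D T)

include S

theorem long_of_chk {v : List ℕ} (h : S.g.chkLong D T v = true) :
    (∀ i ∈ v, S.IsR i) ∧ ∀ r < D.nroots, 0 < T.htf r → T.htf (piW T (S.wd v) r) < 0 := by
  simp only [GTab.chkLong, andR_iff, allR_iff, orR_iff, notR_iff] at h
  obtain ⟨h1, h2, h3⟩ := h
  have hlt : ∀ i ∈ v, i < D.rank := fun i hi => by
    by_contra hc
    rw [Bool.eq_false_iff, Ne, anyL_iff] at h2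
    exact h2 ⟨i, hi, notR_iff.mpr (nlt_false_iff.mpr (by omega))⟩
  have hv : ∀ i ∈ v, S.IsR i := fun i hi => ⟨hlt i hi, by
    rcases h1 i (hlt i hi) with e | e
    · exact e
    · rw [Bool.eq_false_iff, Ne, anyL_iff] at e
      exact absurd ⟨i, hi, Nat.beq_eq.mpr rfl⟩ e⟩
  refine ⟨hv, fun r hr h0 => ?_⟩
  have hw := S.wd_lt hv
  have := S.ok.ht_ne (S.okx.piW_lt hw hr)
  have e : S.g.wdR v = S.wd v := by rw [GTab.wdR, flatR_eq]; rfl
  rcases h3 r hr with e' | e'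
  · rw [Bool.eq_false_iff, Ne, ipos_iff] at e'; exact absurd h0 e'
  · rw [Bool.eq_false_iff, Ne, ipos_iff, Tabs.piR_eq, e] at e'
    omega

theorem core_of_chk {v : List ℕ} (h : S.g.chkLong D T v = true) :
    ((D.borelSubgroup F ⊓ S.G1).subgroupOf S.G1).normalCore = ⊥ :=
  S.core_eq_bot (S.long_of_chk h).1 (S.long_of_chk h).2

theorem oel_scale_derived {i : ℕ} (hi : S.IsR i) (hne : S.g.per (T.smp i) ≠ T.smp i) {c : F} (hc : c ≠ 0)
    (hc2 : c * c ≠ 1) (t : F) : S.oel (T.smp i) t ∈ (commutator ↥S.G1).map S.G1.subtype := by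
  have hp := S.ok.smp_lt hi.1
  have hs : ∀ a : F, S.Sol (T.smp i) a := fun a e => absurd e hne
  set u := t / (c * c - 1) with hu
  have h1 := comm_mem_derived (K := S.G1) (S.H0_le_G1 (S.hel_mem_H0 hi hc (hs c))) (S.oel_mem hp (hs u))
  have hpairH : S.ok.hG (T.smp i) c ∈ S.pairS (T.smp i) := by
    rw [OK.hG_eq]; exact mul_mem (S.nG_pair hp _) (S.nG_pair hp _)
  have e0 : S.ok.hG (T.smp i) c * S.ok.xG (T.smp i) u * (S.ok.hG (T.smp i) c)⁻¹ =
      S.ok.xG (T.smp i) (c ^ T.cA i (T.smp i) * u) := by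
    rw [mul_inv_eq_iff_eq_mul]
    refine Units.ext ?_
    rw [Units.val_mul, Units.val_mul, OK.coe_xG, OK.coe_xG, OK.coe_hG]
    have := S.ok.conj_h hi.1 hp hc u
    rw [S.ok.simple_eq hi.1] at this
    exact this
  have e1 : S.hel (T.smp i) c * S.oel (T.smp i) u * (S.hel (T.smp i) c)⁻¹ = S.oel (T.smp i) (c * c * u) := by
    rw [S.hel_eq hp, oel, oel, ← S.orbP_mul hp hpairH (S.xG_pair _ u) _ le_rfl, S.orbP_inv hp hpairH,
      ← S.orbP_mul hp (mul_mem hpairH (S.xG_pair _ u)) (inv_mem hpairH) _ le_rfl, e0, (S.ok.smp_spec hi.1).2.1,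
      zpow_two]
  rw [e1, S.oel_inv hp, ← S.oel_add hp] at h1
  have h3 : c * c * u + -u = t := by
    rw [show c * c * u + -u = (c * c - 1) * u by ring, hu, mul_div_cancel₀ _ (sub_ne_zero.mpr hc2)]
  rwa [h3] at h1

theorem oel_eq_xG {r : ℕ} (hfix : S.g.per r = r) (t : F) : S.oel r t = S.ok.xG r t := by
  rw [oel, orbP, GTab.mR, Nat.beq_eq.mpr hfix]
  show ([S.sigI 0 (S.ok.xG r t)]).prod = _
  rw [List.prod_singleton]
  rfl

theorem oel_fixed_derived {i : ℕ} (hi : i < D.rank) (hfix : S.g.per (T.smp i) = T.smp i)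
    (h : S.g.chkFixedPair D T i = true) {t : F} (ht : S.Sol (T.smp i) t) :
    S.oel (T.smp i) t ∈ (commutator ↥S.G1).map S.G1.subtype := by
  simp only [GTab.chkFixedPair, anyL_iff, upTo_eq, List.mem_range, andR_iff, Nat.beq_eq, notR_iff,
    nbeq_false_iff, orR_iff] at h
  obtain ⟨a, ha, hfa, b, hb, hfb, hba, hbn, hq⟩ := h
  obtain ⟨C, hC, hCs, hterms⟩ : ∃ C : F, C ≠ 0 ∧ S.fr C = C ∧
      ∀ u v : F, D.wordMat F (D.commWord F a b u v) = D.x F (T.smp i) (C * (u * v)) := by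
    rcases hq with e | e
    · refine ⟨-1, neg_ne_zero.mpr one_ne_zero, by rw [map_neg, map_one], fun u v => ?_⟩
      simp [ChevalleyDatum.commWord, S.ok.terms_eq ha hb, eq_of_eqL eq_of_eqQ e, ChevalleyDatum.wordMat]
    · refine ⟨1, one_ne_zero, map_one _, fun u v => ?_⟩
      simp [ChevalleyDatum.commWord, S.ok.terms_eq ha hb, eq_of_eqL eq_of_eqQ e, ChevalleyDatum.wordMat]
  have e : S.ok.xG b (1 : F) * S.ok.xG a (t / C) =
      S.ok.xG a (t / C) * S.ok.xG b 1 * S.ok.xG (T.smp i) t := by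
    refine Units.ext ?_
    rw [Units.val_mul, Units.val_mul, Units.val_mul, OK.coe_xG, OK.coe_xG, OK.coe_xG,
      S.ok.comm ha hb hba (by rwa [S.ok.neg_eq ha]) (t / C) 1, hterms]
    congr 2
    field_simp
  have hma : S.ok.xG a (t / C) ∈ S.G1 := by
    rw [← S.oel_eq_xG hfa]
    refine S.oel_mem ha fun _ => ?_
    rw [map_div₀, ht hfix, hCs]
  have hmb : S.ok.xG b (1 : F) ∈ S.G1 := by
    rw [← S.oel_eq_xG hfb]; exact S.oel_mem hb (Sol.one S _)
  have h1 := comm_mem_derived (K := S.G1) (inv_mem hmb) (inv_mem hma)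
  rw [inv_inv, inv_inv] at h1
  have e2 : S.ok.xG (T.smp i) t = (S.ok.xG b 1)⁻¹ * (S.ok.xG a (t / C))⁻¹ * S.ok.xG b 1 * S.ok.xG a (t / C) := by
    simp only [mul_assoc]
    rw [e]
    simp [mul_assoc]
  rw [S.oel_eq_xG hfix, e2]
  exact h1

theorem perfect (hK : ∃ c : F, c ≠ 0 ∧ c * c ≠ 1)
    (hfix : ∀ i < D.rank, S.g.per (T.smp i) = T.smp i → S.g.chkFixedPair D T i = true) :
    commutator ↥S.G1 = ⊤ := by
  suffices hle : S.G1 ≤ (commutator ↥S.G1).map S.G1.subtype by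
    rw [eq_top_iff]
    intro g _
    obtain ⟨y, hy, e⟩ := hle g.2
    exact (Subtype.ext e : y = g) ▸ hy
  have hpos : ∀ i, S.IsR i → ∀ t, S.Sol (T.smp i) t →
      S.oel (T.smp i) t ∈ (commutator ↥S.G1).map S.G1.subtype := by
    intro i hi t ht
    by_cases e : S.g.per (T.smp i) = T.smp i
    · exact S.oel_fixed_derived hi.1 e (hfix i hi.1 e) ht
    · obtain ⟨c, hc, hc2⟩ := hK
      exact S.oel_scale_derived hi e hc hc2 t
  show Subgroup.closure _ ≤ _
  refine (Subgroup.closure_le _).mpr ?_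
  rintro x ⟨i, t, hi, hrep, ht, rfl | rfl⟩
  · exact hpos i ⟨hi, hrep⟩ t ht
  · obtain ⟨e, he, hes, hc⟩ := S.orbJ_conj ⟨hi, hrep⟩
    have h1 := (hc (e⁻¹ * t)).1
    rw [← mul_assoc, mul_inv_cancel₀ he, one_mul] at h1
    rw [SetLike.mem_coe, ← h1]
    exact conj_mem_derived' (S.gW_orbJ_mem hi hrep) (hpos i ⟨hi, hrep⟩ _ (Sol.mul S (Sol.inv S hes) ht))

/-- The representative of an orbit as an element of the group. -/
noncomputable def sR {i : ℕ} (hi : S.IsR i) : ↥S.G1 := ⟨S.ok.gW F (S.g.orbJ i), S.gW_orbJ_mem hi.1 hi.2⟩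

theorem sR_mem {i : ℕ} (hi : S.IsR i) : S.sR hi ∈ S.bn.S := ⟨i, hi, rfl⟩

theorem same_side {J : Set ↥S.G1} (hc : ∀ s ∈ J, ∀ s' ∈ S.bn.S \ J, s * s' * s⁻¹ * s'⁻¹ ∈ S.bn.B) {i j : ℕ}
    (hi : S.IsR i) (hj : S.IsR j)
    (hne : piW T (S.g.orbJ i ++ S.g.orbJ j) (T.smp i) ≠ piW T (S.g.orbJ j ++ S.g.orbJ i) (T.smp i)) :
    S.sR hi ∈ J ↔ S.sR hj ∈ J := by
  have key : ∀ {a b : ℕ} (ha : S.IsR a) (hb : S.IsR b), S.sR ha ∈ J → S.sR hb ∉ J →
      ∀ r < D.nroots, piW T (S.g.orbJ a ++ S.g.orbJ b) r = piW T (S.g.orbJ b ++ S.g.orbJ a) r := by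
    intro a b ha hb h1 h2 r hr
    have h : ((S.sR ha * S.sR hb * (S.sR ha)⁻¹ * (S.sR hb)⁻¹ : ↥S.G1) : GL D.Idx F) ∈ S.B1 :=
      hc _ h1 _ ⟨S.sR_mem hb, h2⟩
    simp only [Subgroup.coe_mul, Subgroup.coe_inv, sR] at h
    set A := S.ok.gW F (S.g.orbJ a) with hA
    set B := S.ok.gW F (S.g.orbJ b) with hB
    have hAN : A ∈ S.N1 := S.orbJ_mem_N1 ha
    have hBN : B ∈ S.N1 := S.orbJ_mem_N1 hb
    have hH : A * B * A⁻¹ * B⁻¹ ∈ S.H0 := by
      rw [← S.B1_inf_N1]
      exact Subgroup.mem_inf.mpr ⟨h, mul_mem (mul_mem (mul_mem hAN hBN) (inv_mem hAN)) (inv_mem hBN)⟩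
    have hwab : ∀ k ∈ S.g.orbJ a ++ S.g.orbJ b, k < D.rank := fun k hk =>
      (List.mem_append.mp hk).elim (S.orbJ_lt ha.1 k) (S.orbJ_lt hb.1 k)
    have hwba : ∀ k ∈ S.g.orbJ b ++ S.g.orbJ a, k < D.rank := fun k hk =>
      (List.mem_append.mp hk).elim (S.orbJ_lt hb.1 k) (S.orbJ_lt ha.1 k)
    have e1 := (S.ok.act_diag (S.H0_le_diag hH)).mul S.ok (S.ok.act_gW (F := F) _ hwba)
    have e2 := S.ok.act_gW (F := F) _ hwab
    rw [OK.gW_append, ← hA, ← hB] at e1 e2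
    have e3 : A * B * A⁻¹ * B⁻¹ * (B * A) = A * B := by simp [mul_assoc]
    rw [e3] at e1
    simpa using S.ok.act_unique e2 e1 hr
  by_cases h1 : S.sR hi ∈ J
  · refine iff_of_true h1 ?_
    by_contra h2
    exact hne (key hi hj h1 h2 _ (S.ok.smp_lt hi.1))
  · refine iff_of_false h1 fun h2 => ?_
    exact hne (key hj hi h2 h1 _ (S.ok.smp_lt hi.1)).symm

theorem path_side {J : Set ↥S.G1} (hc : ∀ s ∈ J, ∀ s' ∈ S.bn.S \ J, s * s' * s⁻¹ * s'⁻¹ ∈ S.bn.B) :
    ∀ L : List ℕ, (hL : ∀ i ∈ L, S.IsR i) → S.g.chkPath T L = true →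
      ∀ i (hi : i ∈ L) i' (hi' : i' ∈ L), (S.sR (hL i hi) ∈ J ↔ S.sR (hL i' hi') ∈ J)
  | [], _, _, i, hi, _, _ => absurd hi List.not_mem_nil
  | [a], _, _, i, hi, i', hi' => by
    obtain rfl := List.mem_singleton.mp hi
    obtain rfl := List.mem_singleton.mp hi'
    exact Iff.rfl
  | a :: b :: L, hL, h, i, hi, i', hi' => by
    replace h : andR (notR (Nat.beq (T.piR (appR (S.g.orbJ a) (S.g.orbJ b)) (T.smp a))
        (T.piR (appR (S.g.orbJ b) (S.g.orbJ a)) (T.smp a)))) (S.g.chkPath T (b :: L)) = true := h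
    simp only [andR_iff, notR_iff, nbeq_false_iff, Tabs.piR_eq, appR_eq] at h
    have hL' : ∀ k ∈ b :: L, S.IsR k := fun k hk => hL k (List.mem_cons_of_mem _ hk)
    have hab := S.same_side hc (hL a List.mem_cons_self) (hL b (List.mem_cons_of_mem _ List.mem_cons_self)) h.1
    have ih := path_side hc (b :: L) hL' h.2
    have key : ∀ k (hk : k ∈ a :: b :: L),
        (S.sR (hL k hk) ∈ J ↔ S.sR (hL b (List.mem_cons_of_mem _ List.mem_cons_self)) ∈ J) := by
      intro k hk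
      rcases List.mem_cons.mp hk with rfl | hk'
      · exact hab
      · exact ih k hk' b List.mem_cons_self
    exact (key i hi).trans (key i' hi').symm

theorem simple_of_chk {v L : List ℕ} (h : S.g.chkSimple D T v L = true) (h0 : 0 < D.rank)
    (hK : ∃ c : F, c ≠ 0 ∧ c * c ≠ 1) :
    commutator ↥S.G1 = ⊤ ∧ IsSimpleGroup ↥S.G1 ∧ ¬ IsMulCommutative ↥S.G1 := by
  simp only [GTab.chkSimple, andR_iff, allR_iff, orR_iff, notR_iff] at h
  obtain ⟨hlong, hreps, hrepL, hlt, hfix, hpath⟩ := h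
  have hltL : ∀ i ∈ L, i < D.rank := fun i hi => by
    by_contra hc
    rw [Bool.eq_false_iff, Ne, anyL_iff] at hlt
    exact hlt ⟨i, hi, notR_iff.mpr (nlt_false_iff.mpr (by omega))⟩
  have hL : ∀ i ∈ L, S.IsR i := fun i hi => ⟨hltL i hi, by
    rcases hrepL i (hltL i hi) with e | e
    · exact e
    · rw [Bool.eq_false_iff, Ne, anyL_iff] at e
      exact absurd ⟨i, hi, Nat.beq_eq.mpr rfl⟩ e⟩
  have hmem : ∀ i, S.IsR i → i ∈ L := fun i hi => by
    rcases hreps i hi.1 with e | e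
    · rw [hi.2] at e; exact absurd e (by simp)
    · simp only [anyL_iff, Nat.beq_eq] at e
      obtain ⟨x, hx, rfl⟩ := e
      exact hx
  have hperf : commutator ↥S.G1 = ⊤ := S.perfect hK fun i hi e => by
    rcases hfix i hi with e' | e'
    · exact absurd e (nbeq_false_iff.mp e')
    · exact e'
  obtain ⟨i₀, j₀, hi₀, -, -⟩ := S.exists_orbit_simple h0
  have hp := S.ok.smp_lt hi₀.1
  have hnt : Nontrivial ↥S.G1 := by
    refine ⟨⟨⟨S.oel (T.smp i₀) 1, S.oel_mem hp (Sol.one S _)⟩, 1, fun e => ?_⟩⟩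
    exact one_ne_zero (S.oel_eq_one hp (by rw [(S.ok.smp_spec hi₀.1).1]; norm_num) (congrArg Subtype.val e))
  have hsolv : Group.IsSolvable ↥(S.bn.B) := by
    have := S.ok.borel_solvable (F := F)
    change Group.IsSolvable ↥(S.B1.subgroupOf S.G1)
    exact solvable_of_solvable_injective
      (f := (Subgroup.inclusion S.B1_le_borel).comp (Subgroup.subgroupOfEquivOfLe S.B1_le_G1).toMonoidHom)
      ((Subgroup.inclusion_injective S.B1_le_borel).comp (Subgroup.subgroupOfEquivOfLe S.B1_le_G1).injective)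
  have hirr : S.bn.Irreducible := by
    intro J hJ hne hne'
    by_contra hc
    push Not at hc
    obtain ⟨s, hs⟩ := hne
    obtain ⟨s', hs', hs''⟩ := hne'
    obtain ⟨i, hi, hsi⟩ := hJ hs
    obtain ⟨j, hj, hsj⟩ := hs'
    have ei : s = S.sR hi := Subtype.ext hsi
    have ej : s' = S.sR hj := Subtype.ext hsj
    refine hs'' ?_
    rw [ej]
    rw [ei] at hs
    exact (S.path_side hc L hL hpath i (hmem i hi) j (hmem j hj)).mp hs
  have hcore : S.bn.B.normalCore = ⊥ := by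
    have := S.core_of_chk hlong
    rwa [S.borel_inf_G1] at this
  refine ⟨hperf, Cfsg.Agent.S0319.result S.bn hirr hsolv hperf hcore, fun hc => ?_⟩
  have hbot : commutator ↥S.G1 = ⊥ := Subgroup.commutator_eq_bot_iff_le_centralizer.mpr fun a _ => by
    rw [Subgroup.mem_centralizer_iff]
    exact fun b _ => hc.is_comm.comm b a
  exact top_ne_bot (hperf.symm.trans hbot)

end Tw

end Cfsg.Agent.Chev
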