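import Cfsg.Agent.Lib.Chev.TwistInst
import Cfsg.Agent.Lib.Chev.TwistPerf

/-! Certificates for the twisted groups of types D4 and E6. -/

set_option autoImplicit false
set_option maxRecDepth 100000

namespace Cfsg.Agent.Chev

open Cfsg.Lie

theorem D4.twSimple : D4.g.chkSimple chevD4 D4.T [0, 1, 0, 1, 0, 1] [0, 1] = true := by decide +kernel

theorem E6.twSimple :
    E6.g.chkSimple chevE6 E6.T [0, 1, 2, 3, 0, 1, 2, 3, 0, 1, 2, 3, 0, 1, 2, 3, 0, 1, 2, 3, 0, 1, 2, 3] [1, 3, 2, 0] = true := by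
  decide +kernel

theorem exists_sq_ne_one {F : Type*} [Field F] [Fintype F] (h : 4 ≤ Fintype.card F) :
    ∃ c : F, c ≠ 0 ∧ c * c ≠ 1 := by
  classical
  by_contra hc
  push Not at hc
  have hsub : (Finset.univ : Finset F) ⊆ {0, 1, -1} := by
    intro x _
    by_cases hx : x = 0
    · simp [hx]
    · rcases mul_self_eq_one_iff.mp (hc x hx) with e | e <;> simp [e]
  have := Finset.card_le_card hsub
  rw [Finset.card_univ] at this
  have := this.trans Finset.card_le_three
  omega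

theorem four_le_card {F : Type*} [Fintype F] {q k : ℕ} (hq : IsPrimePow q) (hk : 2 ≤ k)
    (hK : Fintype.card F = q ^ k) : 4 ≤ Fintype.card F := by
  rw [hK]
  calc 4 = 2 ^ 2 := rfl
    _ ≤ q ^ 2 := Nat.pow_le_pow_left hq.two_le 2
    _ ≤ q ^ k := Nat.pow_le_pow_right (Nat.le_of_lt hq.two_le) hk

end Cfsg.Agent.Chev
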