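import Cfsg.Agent.Lib.Chev.Twist
import Cfsg.Agent.Lib.Chev.GraphD4

/-! The checks for twisting the datum of type D4. -/

set_option autoImplicit false
set_option maxRecDepth 100000

namespace Cfsg.Agent.Chev.D4

open Cfsg.Lie

theorem tchk : g.chkTwist chevD4 T = true := by decide +kernel

def cov : GTab.Reach :=
  [(18, none), (5, none), (14, none), (9, none), (13, some (.inl 18)), (19, some (.inr (1, 18))), (10, some (.inl 5)), (4, some (.inr (1, 5))), (22, some (.inr (0, 14))), (1, some (.inr (0, 9))), (12, some (.inl 13)), (16, some (.inr (1, 13))), (17, some (.inr (0, 19))), (11, some (.inl 10)), (7, some (.inr (1, 10))), (6, some (.inr (0, 4))), (23, some (.inr (1, 22))), (0, some (.inr (1, 1))), (15, some (.inr (1, 12))), (20, some (.inr (0, 16))), (8, some (.inr (1, 11))), (3, some (.inr (0, 7))), (21, some (.inr (0, 15))), (2, some (.inr (0, 8)))]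

theorem cov_ok : g.chkReach chevD4 T cov [] = true := by decide +kernel

end Cfsg.Agent.Chev.D4
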