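import Cfsg.Agent.Lib.Chev.Twist
import Cfsg.Agent.Lib.Chev.GraphE6

/-! The checks for twisting the datum of type E6. -/

set_option autoImplicit false
set_option maxRecDepth 100000

namespace Cfsg.Agent.Chev.E6

open Cfsg.Lie

theorem tchk : g.chkTwist chevE6 T = true := by decide +kernel

def cov : GTab.Reach :=
  [(56, none), (15, none), (46, none), (25, none), (42, none), (29, none), (39, none), (32, none), (36, some (.inl 56)), (57, some (.inr (2, 56))), (35, some (.inl 15)), (14, some (.inr (2, 15))), (47, some (.inr (3, 46))), (24, some (.inr (3, 25))), (37, some (.inl 42)), (43, some (.inr (3, 42))), (34, some (.inl 29)), (28, some (.inr (3, 29))), (44, some (.inr (2, 39))), (27, some (.inr (2, 32))), (38, some (.inr (2, 36))), (58, some (.inr (3, 57))), (33, some (.inr (2, 35))), (13, some (.inr (3, 14))), (51, some (.inr (2, 47))), (20, some (.inr (2, 24))), (40, some (.inr (3, 37))), (50, some (.inr (1, 43))), (31, some (.inr (3, 34))), (21, some (.inr (1, 28))), (60, some (.inr (0, 44))), (11, some (.inr (0, 27))), (41, some (.inr (3, 38))), (61, some (.inr (1,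 58))), (59, some (.inr (2, 58))), (30, some (.inr (3, 33))), (10, some (.inr (1, 13))), (12, some (.inr (2, 13))), (63, some (.inr (0, 51))), (53, some (.inr (3, 51))), (8, some (.inr (0, 20))), (18, some (.inr (3, 20))), (48, some (.inr (1, 40))), (23, some (.inr (1, 31))), (49, some (.inr (1, 41))), (45, some (.inr (2, 41))), (62, some (.inr (2, 61))), (22, some (.inr (1, 30))), (26, some (.inr (2, 30))), (9, some (.inr (2, 10))), (65, some (.inr (3, 63))), (6, some (.inr (3, 8))), (52, some (.inr (2, 49))), (64, some (.inr (3, 62))), (19, some (.inr (2, 22))), (7, some (.inr (3, 9))), (69, some (.inr (2, 65))), (2, some (.inr (2, 6))), (54, some (.inr (3, 52))), (67, some (.inr (2, 64))), (17, some (.inr (3, 19))), (4, some (.inr (2, 7))), (70, some (.inr (3, 69))), (1, some (.inr (3, 2))), (55, some (.inr (2, 54))), (68, some (.inr (0, 67))), (16, some (.inr (2, 17))), (3, some (.inr (0, 4))), (71, some (.inr (1, 70))), (0, some (.inr (1, 1))), (66, some (.inr (0, 55))), (5, some (.inr (0, 16)))]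

theorem cov_ok : g.chkReach chevE6 T cov [] = true := by decide +kernel

end Cfsg.Agent.Chev.E6
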