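import Mathlib

/-! The `q`-th power map on a field with `q ^ k` elements. -/

set_option autoImplicit false

namespace Cfsg.Agent.Chev

theorem exists_frobenius_aut {K : Type*} [Field K] [Fintype K] {q k : ℕ} (hq : IsPrimePow q) (hk : 0 < k)
    (hK : Fintype.card K = q ^ k) :
    ∃ f : K ≃+* K, (∀ x, f x = x ^ q) ∧ (∀ x, f^[k] x = x) ∧ Nat.card {x : K // f x = x} = q := by
  classical
  obtain ⟨p, n, hp, hn, rfl⟩ := (isPrimePow_nat_iff q).mp hq
  have : Fact p.Prime := ⟨hp⟩
  obtain ⟨r, hr⟩ := CharP.exists K
  obtain ⟨m, hr', hcard⟩ := FiniteField.card K r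
  have hrp : r = p := by
    have h1 : r ∣ p ^ (n * k) := by
      rw [pow_mul, ← hK, hcard]; exact dvd_pow_self r m.ne_zero
    exact (Nat.prime_dvd_prime_iff_eq hr' hp).mp (hr'.dvd_of_dvd_pow h1)
  subst hrp
  have hbij : Function.Bijective (iterateFrobenius K r n) :=
    Finite.injective_iff_bijective.mp (iterateFrobenius K r n).injective
  let f : K ≃+* K := RingEquiv.ofBijective (iterateFrobenius K r n) hbij
  have hf : ∀ x, f x = x ^ (r ^ n) := fun x => iterateFrobenius_def r n x
  have hit : ∀ j x, f^[j] x = x ^ ((r ^ n) ^ j) := by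
    intro j
    induction j with
    | zero => intro x; simp
    | succ j ih => intro x; rw [Function.iterate_succ_apply', hf, ih, ← pow_mul, ← pow_succ]
  refine ⟨f, hf, fun x => ?_, ?_⟩
  · rw [hit, ← hK, FiniteField.pow_card]
  have hq2 : 2 ≤ r ^ n := le_trans hp.two_le (Nat.le_self_pow hn.ne' r)
  have e : Nat.card {x : K // f x = x} = Nat.card {x : K // x = 0 ∨ x ^ (r ^ n - 1) = 1} := by
    refine Nat.card_congr (Equiv.subtypeEquivRight fun x => ?_)
    rw [hf]
    obtain ⟨j, hj⟩ : ∃ j, r ^ n = j + 1 := ⟨r ^ n - 1, by omega⟩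
    rw [hj, Nat.add_sub_cancel, pow_succ]
    constructor
    · intro h
      by_cases hx : x = 0
      · exact Or.inl hx
      · exact Or.inr (mul_right_cancel₀ hx (by rw [h, one_mul]))
    · rintro (rfl | h)
      · rw [mul_zero]
      · rw [h, one_mul]
  rw [e]
  let ψ := powMonoidHom (α := Kˣ) (r ^ n - 1)
  have hd : r ^ n - 1 ∣ Fintype.card K - 1 := by
    rw [hK]; simpa using Nat.sub_dvd_pow_sub_pow (r ^ n) 1 k
  have hker : Nat.card ↥ψ.ker = r ^ n - 1 := by
    rw [IsCyclic.card_powMonoidHom_ker, Nat.card_eq_fintype_card, Fintype.card_units]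
    exact Nat.gcd_eq_right hd
  have e2 : {x : K // x = 0 ∨ x ^ (r ^ n - 1) = 1} ≃ Option ↥ψ.ker :=
    { toFun := fun x => if h : (x : K) = 0 then none else
        some ⟨Units.mk0 _ h, Units.ext (by
          rcases x.2 with h' | h'
          · exact absurd h' h
          · simpa [ψ] using h')⟩
      invFun := fun o => match o with
        | none => ⟨0, Or.inl rfl⟩
        | some u => ⟨((u : Kˣ) : K), Or.inr (by
            have h := congrArg Units.val (MonoidHom.mem_ker.mp u.2)
            simpa [ψ] using h)⟩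
      left_inv := fun x => by
        by_cases h : (x : K) = 0
        · simp only [dif_pos h]; exact Subtype.ext h.symm
        · simp only [dif_neg h]; exact Subtype.ext rfl
      right_inv := fun o => by
        rcases o with _ | u
        · simp
        · simp }
  rw [Nat.card_congr e2, Finite.card_option, hker]
  omega

end Cfsg.Agent.Chev
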