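import Cfsg.Agent.Lib.Chev.TwistU
import Cfsg.Agent.Lib.Chev.TwistD4
import Cfsg.Agent.Lib.Chev.TwistE6
import Cfsg.Agent.Lib.Chev.TwistField
import Cfsg.Prelude.Def_LieTwisted

/-!
The two twisted families as instances.
-/

set_option autoImplicit false
set_option maxRecDepth 20000

namespace Cfsg.Agent.Chev

open Cfsg.Lie

variable {F : Type*} [Field F]

namespace Tw

variable {D : ChevalleyDatum} {T : Tabs} (S : Tw F D T)

include S

/-- The word of an orbit product. -/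
noncomputable def oWord (r : ℕ) (t : F) : List (ℕ × F) :=
  (List.range (S.g.mR r)).map fun j => (S.g.perI j r, (S.g.sgnI j r : F) * S.fr^[j] t)

theorem coe_oel {r : ℕ} (hr : r < D.nroots) (t : F) :
    (S.oel r t : Matrix D.Idx D.Idx F) = D.wordMat F (S.oWord r t) := by
  rw [← S.ok.coe_wordG, oel, orbP, OK.wordG, oWord, List.map_map]
  refine congrArg (fun L : List (GL D.Idx F) => ((L.prod : GL D.Idx F) : Matrix D.Idx D.Idx F))
    (List.map_congr_left fun j _ => ?_)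
  rw [Function.comp_apply, S.sigI_xG j hr]

theorem G1_eq {W : Set (List (ℕ × F))}
    (h1 : ∀ i, i < D.rank → S.g.repS i = true → ∀ t, S.Sol (T.smp i) t →
      S.oWord (T.smp i) t ∈ W ∧ S.oWord (T.neg (T.smp i)) t ∈ W)
    (h2 : ∀ w ∈ W, ∃ i t, i < D.rank ∧ S.g.repS i = true ∧ S.Sol (T.smp i) t ∧
      (w = S.oWord (T.smp i) t ∨ w = S.oWord (T.neg (T.smp i)) t)) :
    S.G1 = D.genSubgroup F W := by
  refine le_antisymm ((Subgroup.closure_le _).mpr ?_) ((Subgroup.closure_le _).mpr ?_)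
  · rintro x ⟨i, t, hi, hrep, ht, rfl | rfl⟩
    · exact Subgroup.subset_closure ⟨_, (h1 i hi hrep t ht).1, S.coe_oel (S.ok.smp_lt hi) t⟩
    · exact Subgroup.subset_closure ⟨_, (h1 i hi hrep t ht).2, S.coe_oel (S.ok.neg_lt (S.ok.smp_lt hi)) t⟩
  · rintro x ⟨w, hw, hx⟩
    obtain ⟨i, t, hi, hrep, ht, e⟩ := h2 w hw
    refine Subgroup.subset_closure ⟨i, t, hi, hrep, ht, ?_⟩
    rcases e with rfl | rfl
    · exact Or.inl (Units.ext (hx.trans (S.coe_oel (S.ok.smp_lt hi) t).symm))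
    · exact Or.inr (Units.ext (hx.trans (S.coe_oel (S.ok.neg_lt (S.ok.smp_lt hi)) t).symm))

end Tw

namespace D4

/-- The twist of order three. -/
def tw (fr : F ≃+* F) (frk : ∀ x : F, fr^[3] x = x) : Tw F chevD4 T :=
  { g := g, okx := okx, gok := gok, fr := fr, frk := frk, tchk := tchk, cov := cov, cov_ok := cov_ok }

theorem tw_G1 (fr : F ≃+* F) (frk : ∀ x : F, fr^[3] x = x) {q : ℕ} (hfr : ∀ x, fr x = x ^ q) :
    (tw fr frk).G1 = twistedD4 F q := by
  set S := tw fr frk with hS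
  have e0 : ∀ t : F, S.oWord (T.smp 0) t = [(d4p1, t), (d4p3, t ^ q), (d4p4, t ^ (q ^ 2))] ∧
      S.oWord (T.neg (T.smp 0)) t = [(d4m1, t), (d4m3, t ^ q), (d4m4, t ^ (q ^ 2))] := by
    intro t
    have a1 : (List.range (g.mR (T.smp 0))).map (fun j => (g.perI j (T.smp 0), g.sgnI j (T.smp 0))) =
        [(18, 1), (13, 1), (12, 1)] := by decide +kernel
    have a2 : (List.range (g.mR (T.neg (T.smp 0)))).map
        (fun j => (g.perI j (T.neg (T.smp 0)), g.sgnI j (T.neg (T.smp 0)))) =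
        [(5, 1), (10, 1), (11, 1)] := by decide +kernel
    have m1 : g.mR (T.smp 0) = 3 := by decide +kernel
    have m2 : g.mR (T.neg (T.smp 0)) = 3 := by decide +kernel
    rw [m1] at a1
    rw [m2] at a2
    simp only [List.range_succ, List.range_zero, List.nil_append, List.map_cons, List.map_nil, List.cons_append,
      List.cons.injEq, Prod.mk.injEq, and_true] at a1 a2
    constructor
    · show (List.range (g.mR (T.smp 0))).map _ = _
      rw [m1]
      simp [List.range_succ, hS, tw, a1, hfr, d4p1, d4p3, d4p4, ← pow_mul, sq]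
    · show (List.range (g.mR (T.neg (T.smp 0)))).map _ = _
      rw [m2]
      simp [List.range_succ, hS, tw, a2, hfr, d4m1, d4m3, d4m4, ← pow_mul, sq]
  have e1 : ∀ t : F, S.oWord (T.smp 1) t = [(d4p2, t)] ∧ S.oWord (T.neg (T.smp 1)) t = [(d4m2, t)] := by
    intro t
    have a1 : (g.mR (T.smp 1), g.perI 0 (T.smp 1), g.mR (T.neg (T.smp 1)), g.perI 0 (T.neg (T.smp 1))) =
        (1, 14, 1, 9) := by decide +kernel
    simp only [Prod.mk.injEq] at a1
    constructor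
    · show (List.range (g.mR (T.smp 1))).map _ = _
      rw [a1.1]
      simp [List.range_succ, hS, tw, a1.2.1, d4p2, GTab.sgnI]
    · show (List.range (g.mR (T.neg (T.smp 1)))).map _ = _
      rw [a1.2.2.1]
      simp [List.range_succ, hS, tw, a1.2.2.2, d4m2, GTab.sgnI]
  have hp : g.per (T.smp 0) ≠ T.smp 0 ∧ g.per (T.smp 1) = T.smp 1 := by decide +kernel
  have hreps : ∀ i, i < chevD4.rank → g.repS i = true → i = 0 ∨ i = 1 := by
    intro i hi h
    have hi : i < 4 := hi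
    interval_cases i
    · exact Or.inl rfl
    · exact Or.inr rfl
    all_goals exact absurd h (by decide +kernel)
  refine S.G1_eq ?_ ?_
  · intro i hi hrep t ht
    rcases hreps i hi hrep with rfl | rfl
    · rw [(e0 t).1, (e0 t).2]
      exact ⟨Or.inr ⟨t, _, List.mem_cons_self, rfl⟩, Or.inr ⟨t, _, by simp; exact Or.inr rfl, rfl⟩⟩
    · rw [(e1 t).1, (e1 t).2]
      have : t ^ q = t := by rw [← hfr]; exact ht hp.2
      exact ⟨Or.inl ⟨t, this, _, List.mem_cons_self, rfl⟩, Or.inl ⟨t, this, d4m2, by simp, rfl⟩⟩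
  · rintro w (⟨t, ht, r, hr, rfl⟩ | ⟨t, rs, hrs, rfl⟩)
    · refine ⟨1, t, by decide, show g.repS 1 = true by decide +kernel, fun _ => (hfr t).trans ht, ?_⟩
      rw [(e1 t).1, (e1 t).2]
      simp only [List.mem_cons, List.not_mem_nil, or_false] at hr
      rcases hr with rfl | rfl
      exacts [Or.inl rfl, Or.inr rfl]
    · refine ⟨0, t, by decide, show g.repS 0 = true by decide +kernel, fun e => absurd e hp.1, ?_⟩
      rw [(e0 t).1, (e0 t).2]
      simp only [List.mem_cons, List.not_mem_nil, or_false] at hrs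
      rcases hrs with rfl | rfl
      exacts [Or.inl rfl, Or.inr rfl]

theorem exists_tw (F : Type*) [Field F] [Fintype F] {q : ℕ} (hq : IsPrimePow q) (hK : Fintype.card F = q ^ 3) :
    ∃ S : Tw F chevD4 T, S.g = g ∧ S.G1 = twistedD4 F q ∧ (∀ x, S.fr x = x ^ q) ∧
      Nat.card {x : F // S.fr x = x} = q ∧ Fintype.card F = q ^ S.g.k := by
  obtain ⟨f, hf, hk, hc⟩ := exists_frobenius_aut hq (by norm_num) hK
  exact ⟨tw f hk, rfl, tw_G1 f hk hf, hf, hc, hK⟩

end D4

namespace E6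

/-- The twist of order two. -/
def tw (fr : F ≃+* F) (frk : ∀ x : F, fr^[2] x = x) : Tw F chevE6 T :=
  { g := g, okx := okx, gok := gok, fr := fr, frk := frk, tchk := tchk, cov := cov, cov_ok := cov_ok }

theorem tw_G1 (fr : F ≃+* F) (frk : ∀ x : F, fr^[2] x = x) {q : ℕ} (hfr : ∀ x, fr x = x ^ q) :
    (tw fr frk).G1 = twistedE6 F q := by
  set S := tw fr frk with hS
  have a1 : (g.mR (T.smp 0), g.mR (T.smp 2), g.mR (T.smp 1), g.mR (T.smp 3)) = (2, 2, 1, 1) ∧
      (g.mR (T.neg (T.smp 0)), g.mR (T.neg (T.smp 2)), g.mR (T.neg (T.smp 1)), g.mR (T.neg (T.smp 3))) = (2, 2, 1, 1) ∧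
      (T.smp 0, g.per (T.smp 0), T.smp 2, g.per (T.smp 2)) = (56, 36, 42, 37) ∧
      (T.neg (T.smp 0), g.per (T.neg (T.smp 0)), T.neg (T.smp 2), g.per (T.neg (T.smp 2))) = (15, 35, 29, 34) ∧
      (g.sgn (T.smp 0), g.sgn (T.smp 2), g.sgn (T.neg (T.smp 0)), g.sgn (T.neg (T.smp 2))) = (1, 1, 1, 1) ∧
      (T.smp 1, T.smp 3, T.neg (T.smp 1), T.neg (T.smp 3)) = (46, 39, 25, 32) ∧
      (g.per 46, g.per 39) = (46, 39) := by
    decide +kernel
  simp only [Prod.mk.injEq] at a1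
  obtain ⟨⟨m0, m2, m1, m3⟩, ⟨n0, n2, n1, n3⟩, ⟨p0, q0, p2, q2⟩, ⟨u0, v0, u2, v2⟩, ⟨s0, s2, t0, t2⟩,
    ⟨w1, w3, z1, z3⟩, ⟨f1, f3⟩⟩ := a1
  have pair : ∀ (r a b : ℕ), g.mR r = 2 → r = a → g.per r = b → g.sgn r = 1 → ∀ t : F,
      S.oWord r t = [(a, t), (b, t ^ q)] := by
    intro r a b hm hra hb hs t
    show (List.range (g.mR r)).map (fun j => (g.perI j r, (g.sgnI j r : F) * fr^[j] t)) = _
    rw [hm]
    simp only [List.range_succ, List.range_zero, List.nil_append, List.map_append, List.map_cons, List.map_nil,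
      List.cons_append]
    show [(r, ((1 : ℤ) : F) * t), (g.per r, ((g.sgn r * 1 : ℤ) : F) * fr t)] = _
    rw [hb, hs, hfr, mul_one, Int.cast_one, one_mul, one_mul, hra]
  have single : ∀ (r a : ℕ), g.mR r = 1 → r = a → ∀ t : F, S.oWord r t = [(a, t)] := by
    intro r a hm hra t
    show (List.range (g.mR r)).map (fun j => (g.perI j r, (g.sgnI j r : F) * fr^[j] t)) = _
    rw [hm]
    show [(r, ((1 : ℤ) : F) * t)] = _
    rw [Int.cast_one, one_mul, hra]
  have hreps : ∀ i, i < chevE6.rank → g.repS i = true → i = 0 ∨ i = 1 ∨ i = 2 ∨ i = 3 := by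
    intro i hi h
    have hi : i < 6 := hi
    interval_cases i
    · simp
    · simp
    · simp
    · simp
    all_goals exact absurd h (by decide +kernel)
  have hrep : g.repS 0 = true ∧ g.repS 1 = true ∧ g.repS 2 = true ∧ g.repS 3 = true := by decide +kernel
  have fix2 : ∀ i, (i = 0 ∨ i = 2) → g.per (T.smp i) ≠ T.smp i := by
    rintro i (rfl | rfl)
    · rw [q0, p0]; decide
    · rw [q2, p2]; decide
  refine S.G1_eq ?_ ?_
  · intro i hi hr t ht
    have hq : i = 1 ∨ i = 3 → t ^ q = t := by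
      rintro (rfl | rfl)
      · rw [← hfr]; exact ht (by show g.per (T.smp 1) = T.smp 1; rw [w1, f1])
      · rw [← hfr]; exact ht (by show g.per (T.smp 3) = T.smp 3; rw [w3, f3])
    rcases hreps i hi hr with rfl | rfl | rfl | rfl
    · rw [pair _ _ _ m0 p0 q0 s0, pair _ _ _ n0 u0 v0 t0]
      exact ⟨Or.inr ⟨t, (e6p1, e6p6), by simp, rfl⟩, Or.inr ⟨t, (e6m1, e6m6), by simp, rfl⟩⟩
    · rw [single _ _ m1 w1, single _ _ n1 z1]
      exact ⟨Or.inl ⟨t, hq (Or.inl rfl), e6p2, by simp, rfl⟩, Or.inl ⟨t, hq (Or.inl rfl), e6m2, by simp, rfl⟩⟩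
    · rw [pair _ _ _ m2 p2 q2 s2, pair _ _ _ n2 u2 v2 t2]
      exact ⟨Or.inr ⟨t, (e6p3, e6p5), by simp, rfl⟩, Or.inr ⟨t, (e6m3, e6m5), by simp, rfl⟩⟩
    · rw [single _ _ m3 w3, single _ _ n3 z3]
      exact ⟨Or.inl ⟨t, hq (Or.inr rfl), e6p4, by simp, rfl⟩, Or.inl ⟨t, hq (Or.inr rfl), e6m4, by simp, rfl⟩⟩
  · rintro w (⟨t, ht, r, hr, rfl⟩ | ⟨t, rs, hrs, rfl⟩)
    · simp only [List.mem_cons, List.not_mem_nil, or_false] at hr
      rcases hr with rfl | rfl | rfl | rfl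
      · exact ⟨1, t, by decide, hrep.2.1, fun _ => (hfr t).trans ht, Or.inl (single _ _ m1 w1 t).symm⟩
      · exact ⟨1, t, by decide, hrep.2.1, fun _ => (hfr t).trans ht, Or.inr (single _ _ n1 z1 t).symm⟩
      · exact ⟨3, t, by decide, hrep.2.2.2, fun _ => (hfr t).trans ht, Or.inl (single _ _ m3 w3 t).symm⟩
      · exact ⟨3, t, by decide, hrep.2.2.2, fun _ => (hfr t).trans ht, Or.inr (single _ _ n3 z3 t).symm⟩
    · simp only [List.mem_cons, List.not_mem_nil, or_false] at hrs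
      rcases hrs with rfl | rfl | rfl | rfl
      · exact ⟨0, t, by decide, hrep.1, fun e => absurd e (fix2 0 (Or.inl rfl)), Or.inl (pair _ _ _ m0 p0 q0 s0 t).symm⟩
      · exact ⟨0, t, by decide, hrep.1, fun e => absurd e (fix2 0 (Or.inl rfl)), Or.inr (pair _ _ _ n0 u0 v0 t0 t).symm⟩
      · exact ⟨2, t, by decide, hrep.2.2.1, fun e => absurd e (fix2 2 (Or.inr rfl)),
          Or.inl (pair _ _ _ m2 p2 q2 s2 t).symm⟩
      · exact ⟨2, t, by decide, hrep.2.2.1, fun e => absurd e (fix2 2 (Or.inr rfl)),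
          Or.inr (pair _ _ _ n2 u2 v2 t2 t).symm⟩

theorem exists_tw (F : Type*) [Field F] [Fintype F] {q : ℕ} (hq : IsPrimePow q) (hK : Fintype.card F = q ^ 2) :
    ∃ S : Tw F chevE6 T, S.g = g ∧ S.G1 = twistedE6 F q ∧ (∀ x, S.fr x = x ^ q) ∧
      Nat.card {x : F // S.fr x = x} = q ∧ Fintype.card F = q ^ S.g.k := by
  obtain ⟨f, hf, hk, hc⟩ := exists_frobenius_aut hq (by norm_num) hK
  exact ⟨tw f hk, rfl, tw_G1 f hk hf, hf, hc, hK⟩

end E6

end Cfsg.Agent.Chev
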