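import Cfsg.Agent.Lib.Chev.TwistOrder
import Cfsg.Agent.Lib.Chev.TwistInst

/-! Certificates for the cosets of the Borel subgroup in the twisted groups. -/

set_option autoImplicit false
set_option maxRecDepth 100000

namespace Cfsg.Agent.Chev

def D4.twLev0 : GTab.TLevel :=
  [([], 0, [(1, .inl [1])]),
    ([1], 1, [(1, .inl [])])]

theorem D4.twLev0_ok : D4.g.chkTLevel Cfsg.Lie.chevD4 D4.T [1] [] D4.twLev0 = true := by decide +kernel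

def D4.twLev1 : GTab.TLevel :=
  [([], 0, [(1, .inr 1), (0, .inl [0])]),
    ([0], 3, [(1, .inl [1, 0]), (0, .inl [])]),
    ([1, 0], 4, [(1, .inl [0]), (0, .inl [0, 1, 0])]),
    ([0, 1, 0], 7, [(1, .inl [1, 0, 1, 0]), (0, .inl [1, 0])]),
    ([1, 0, 1, 0], 8, [(1, .inl [0, 1, 0]), (0, .inl [0, 1, 0, 1, 0])]),
    ([0, 1, 0, 1, 0], 11, [(1, .inr 1), (0, .inl [1, 0, 1, 0])])]

theorem D4.twLev1_ok : D4.g.chkTLevel Cfsg.Lie.chevD4 D4.T [1, 0] [1] D4.twLev1 = true := by decide +kernel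

def E6.twLev0 : GTab.TLevel :=
  [([], 0, [(1, .inl [1])]),
    ([1], 1, [(1, .inl [])])]

theorem E6.twLev0_ok : E6.g.chkTLevel Cfsg.Lie.chevE6 E6.T [1] [] E6.twLev0 = true := by decide +kernel

def E6.twLev1 : GTab.TLevel :=
  [([], 0, [(1, .inr 1), (3, .inl [3])]),
    ([3], 1, [(1, .inl [1, 3]), (3, .inl [])]),
    ([1, 3], 2, [(1, .inl [3]), (3, .inr 1)])]

theorem E6.twLev1_ok : E6.g.chkTLevel Cfsg.Lie.chevE6 E6.T [1, 3] [1] E6.twLev1 = true := by decide +kernel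

def E6.twLev2 : GTab.TLevel :=
  [([], 0, [(1, .inr 1), (3, .inr 3), (2, .inl [2])]),
    ([2], 2, [(1, .inr 1), (3, .inl [3, 2]), (2, .inl [])]),
    ([3, 2], 3, [(1, .inl [1, 3, 2]), (3, .inl [2]), (2, .inl [2, 3, 2])]),
    ([1, 3, 2], 4, [(1, .inl [3, 2]), (3, .inr 1), (2, .inl [2, 1, 3, 2])]),
    ([2, 3, 2], 5, [(1, .inl [2, 1, 3, 2]), (3, .inr 3), (2, .inl [3, 2])]),
    ([2, 1, 3, 2], 6, [(1, .inl [2, 3, 2]), (3, .inl [3, 2, 1, 3, 2]), (2, .inl [1, 3, 2])]),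
    ([3, 2, 1, 3, 2], 7, [(1, .inr 3), (3, .inl [2, 1, 3, 2]), (2, .inl [2, 3, 2, 1, 3, 2])]),
    ([2, 3, 2, 1, 3, 2], 9, [(1, .inr 3), (3, .inr 1), (2, .inl [3, 2, 1, 3, 2])])]

theorem E6.twLev2_ok : E6.g.chkTLevel Cfsg.Lie.chevE6 E6.T [1, 3, 2] [1, 3] E6.twLev2 = true := by decide +kernel

def E6.twLev3 : GTab.TLevel :=
  [([], 0, [(1, .inr 1), (3, .inr 3), (2, .inr 2), (0, .inl [0])]),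
    ([0], 2, [(1, .inr 1), (3, .inr 3), (2, .inl [2, 0]), (0, .inl [])]),
    ([2, 0], 4, [(1, .inr 1), (3, .inl [3, 2, 0]), (2, .inl [0]), (0, .inr 2)]),
    ([3, 2, 0], 5, [(1, .inl [1, 3, 2, 0]), (3, .inl [2, 0]), (2, .inl [2, 3, 2, 0]), (0, .inr 2)]),
    ([1, 3, 2, 0], 6, [(1, .inl [3, 2, 0]), (3, .inr 1), (2, .inl [2, 1, 3, 2, 0]), (0, .inr 2)]),
    ([2, 3, 2, 0], 7, [(1, .inl [2, 1, 3, 2, 0]), (3, .inr 3), (2, .inl [3, 2, 0]), (0, .inl [0, 2, 3, 2, 0])]),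
    ([2, 1, 3, 2, 0], 8, [(1, .inl [2, 3, 2, 0]), (3, .inl [3, 2, 1, 3, 2, 0]), (2, .inl [1, 3, 2, 0]), (0, .inl [0, 2, 1, 3, 2, 0])]),
    ([0, 2, 3, 2, 0], 9, [(1, .inl [0, 2, 1, 3, 2, 0]), (3, .inr 3), (2, .inr 2), (0, .inl [2, 3, 2, 0])]),
    ([3, 2, 1, 3, 2, 0], 9, [(1, .inr 3), (3, .inl [2, 1, 3, 2, 0]), (2, .inl [2, 3, 2, 1, 3, 2, 0]), (0, .inl [0, 3, 2, 1, 3, 2, 0])]),
    ([0, 2, 1, 3, 2, 0], 10, [(1, .inl [0, 2, 3, 2, 0]), (3, .inl [0, 3, 2, 1, 3, 2, 0]), (2, .inr 2), (0, .inl [2, 1, 3, 2, 0])]),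
    ([2, 3, 2, 1, 3, 2, 0], 11, [(1, .inr 3), (3, .inr 1), (2, .inl [3, 2, 1, 3, 2, 0]), (0, .inl [0, 2, 3, 2, 1, 3, 2, 0])]),
    ([0, 3, 2, 1, 3, 2, 0], 11, [(1, .inr 3), (3, .inl [0, 2, 1, 3, 2, 0]), (2, .inl [2, 0, 3, 2, 1, 3, 2, 0]), (0, .inl [3, 2, 1, 3, 2, 0])]),
    ([0, 2, 3, 2, 1, 3, 2, 0], 13, [(1, .inr 3), (3, .inr 1), (2, .inl [2, 0, 2, 3, 2, 1, 3, 2, 0]), (0, .inl [2, 3, 2, 1, 3, 2, 0])]),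
    ([2, 0, 3, 2, 1, 3, 2, 0], 13, [(1, .inr 3), (3, .inl [3, 2, 0, 3, 2, 1, 3, 2, 0]), (2, .inl [0, 3, 2, 1, 3, 2, 0]), (0, .inl [2, 0, 2, 3, 2, 1, 3, 2, 0])]),
    ([2, 0, 2, 3, 2, 1, 3, 2, 0], 15, [(1, .inr 3), (3, .inl [3, 2, 0, 2, 3, 2, 1, 3, 2, 0]), (2, .inl [0, 2, 3, 2, 1, 3, 2, 0]), (0, .inl [2, 0, 3, 2, 1, 3, 2, 0])]),
    ([3, 2, 0, 3, 2, 1, 3, 2, 0], 14, [(1, .inl [1, 3, 2, 0, 3, 2, 1, 3, 2, 0]), (3, .inl [2, 0, 3, 2, 1, 3, 2, 0]), (2, .inr 2), (0, .inl [3, 2, 0, 2, 3, 2, 1, 3, 2, 0])]),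
    ([3, 2, 0, 2, 3, 2, 1, 3, 2, 0], 16, [(1, .inl [1, 3, 2, 0, 2, 3, 2, 1, 3, 2, 0]), (3, .inl [2, 0, 2, 3, 2, 1, 3, 2, 0]), (2, .inl [2, 3, 2, 0, 2, 3, 2, 1, 3, 2, 0]), (0, .inl [3, 2, 0, 3, 2, 1, 3, 2, 0])]),
    ([1, 3, 2, 0, 3, 2, 1, 3, 2, 0], 15, [(1, .inl [3, 2, 0, 3, 2, 1, 3, 2, 0]), (3, .inr 3), (2, .inr 2), (0, .inl [1, 3, 2, 0, 2, 3, 2, 1, 3, 2, 0])]),
    ([1, 3, 2, 0, 2, 3, 2, 1, 3, 2, 0], 17, [(1, .inl [3, 2, 0, 2, 3, 2, 1, 3, 2, 0]), (3, .inr 3), (2, .inl [2, 1, 3, 2, 0, 2, 3, 2, 1, 3, 2, 0]), (0, .inl [1, 3, 2, 0, 3, 2, 1, 3, 2, 0])]),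
    ([2, 3, 2, 0, 2, 3, 2, 1, 3, 2, 0], 18, [(1, .inl [2, 1, 3, 2, 0, 2, 3, 2, 1, 3, 2, 0]), (3, .inr 1), (2, .inl [3, 2, 0, 2, 3, 2, 1, 3, 2, 0]), (0, .inr 2)]),
    ([2, 1, 3, 2, 0, 2, 3, 2, 1, 3, 2, 0], 19, [(1, .inl [2, 3, 2, 0, 2, 3, 2, 1, 3, 2, 0]), (3, .inl [3, 2, 1, 3, 2, 0, 2, 3, 2, 1, 3, 2, 0]), (2, .inl [1, 3, 2, 0, 2, 3, 2, 1, 3, 2, 0]), (0, .inr 2)]),
    ([3, 2, 1, 3, 2, 0, 2, 3, 2, 1, 3, 2, 0], 20, [(1, .inr 1), (3, .inl [2, 1, 3, 2, 0, 2, 3, 2, 1, 3, 2, 0]), (2, .inl [2, 3, 2, 1, 3, 2, 0, 2, 3, 2, 1, 3, 2, 0]), (0, .inr 2)]),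
    ([2, 3, 2, 1, 3, 2, 0, 2, 3, 2, 1, 3, 2, 0], 22, [(1, .inr 1), (3, .inr 3), (2, .inl [3, 2, 1, 3, 2, 0, 2, 3, 2, 1, 3, 2, 0]), (0, .inl [0, 2, 3, 2, 1, 3, 2, 0, 2, 3, 2, 1, 3, 2, 0])]),
    ([0, 2, 3, 2, 1, 3, 2, 0, 2, 3, 2, 1, 3, 2, 0], 24, [(1, .inr 1), (3, .inr 3), (2, .inr 2), (0, .inl [2, 3, 2, 1, 3, 2, 0, 2, 3, 2, 1, 3, 2, 0])])]

theorem E6.twLev3_ok : E6.g.chkTLevel Cfsg.Lie.chevE6 E6.T [1, 3, 2, 0] [1, 3, 2] E6.twLev3 = true := by decide +kernel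

end Cfsg.Agent.Chev
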