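import Cfsg.Agent.Lib.Chev.TwistPerf

/-!
Cosets of the Borel subgroup of a twisted group: transversals built along a chain of sets of representatives.
-/

set_option autoImplicit false

namespace Cfsg.Agent.Chev

open Cfsg.Lie

namespace GTab

/-- A certificate for one level: each word with its number of inversions and the moves of the generators. -/
abbrev TLevel := List (List ℕ × ℕ × List (ℕ × (List ℕ ⊕ ℕ)))

variable (D : ChevalleyDatum) (T : Tabs) (g : GTab)

/-- Images of the fundamental roots under a word of representatives. -/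
noncomputable def imgsT (v : List ℕ) : List ℕ := Tabs.imgs D T (g.wdR v)

/-- One level of the chain. -/
noncomputable def chkTLevel (K J : List ℕ) (R : TLevel) : Bool :=
  andR (allL (fun k => andR (nlt k D.rank) (g.repS k)) K) <|
  andR (allL (fun j => anyL (fun k => Nat.beq k j) K) J) <|
  andR (anyL (fun f => isNilR f.1) R) <|
  andR (Tabs.chkDistinct (mapR (fun f => g.imgsT D T f.1) R)) <|
  allL (fun f =>
    andR (allL (fun i => anyL (fun k => Nat.beq k i) K) f.1) <|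
    andR (Nat.beq (filterR (fun r => andR (ipos (T.htf r)) (notR (ipos (T.htf (T.piR (g.wdR f.1) r))))) (upTo D.nroots)).length f.2.1) <|
    andR (allL (fun j => allL (fun m => ipos (T.htf (T.piR (g.wdR f.1) (T.smp m)))) (g.orbJ j)) J) <|
    andR (eqL Nat.beq (mapR (fun e => e.1) f.2.2) K) <|
    allL (fun e => @Sum.rec (List ℕ) ℕ (fun _ => Bool)
      (fun v' => andR (anyL (fun h => eqL Nat.beq h.1 v') R)
        (eqL Nat.beq (g.imgsT D T (e.1 :: f.1)) (g.imgsT D T v')))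
      (fun j => andR (anyL (fun m => Nat.beq m j) J)
        (eqL Nat.beq (g.imgsT D T (e.1 :: f.1)) (g.imgsT D T (appR f.1 [j])))) e.2) f.2.2) R

end GTab

namespace OKX

variable {F : Type*} [Field F] {D : ChevalleyDatum} {T : Tabs} (ok : OKX D T)

include ok

/-- Two words keeping `J` positive that differ by a word in `J` have the same images. -/
theorem eq_of_posJ {J v g y : List ℕ} (hJl : ∀ j ∈ J, j < D.rank) (hv : ∀ i ∈ v, i < D.rank)
    (hg : ∀ i ∈ g, i < D.rank) (hyJ : ∀ i ∈ y, i ∈ J)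
    (hvpos : ∀ j ∈ J, 0 < T.htf (piW T v (T.smp j))) (hgpos : ∀ j ∈ J, 0 < T.htf (piW T g (T.smp j)))
    (hfy : ∀ r < D.nroots, piW T v r = piW T g (piW T y r)) {k : ℕ} (hk : k < D.rank) :
    piW T v (T.smp k) = piW T g (T.smp k) := by
  have hyl : ∀ i ∈ y, i < D.rank := fun i hi => hJl i (hyJ i hi)
  have hp := ok.toOK.smp_lt hk
  by_cases hid : ∀ r < D.nroots, 0 < T.htf r → 0 < T.htf (piW T y r)
  · have hd' := ok.gW_mem_diag_of_pos (F := ℚ) _ y rfl hyl hid
    rw [hfy _ hp, ok.toOK.act_borel (ok.toOK.act_gW y hyl) (Subgroup.mem_sup_right hd') hp]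
  · exfalso
    refine hid fun r hr h0 => ok.pos_of_simple hyl (fun m hm hneg => ?_) hr h0
    have hmlt := ok.piW_lt hyl (ok.toOK.smp_lt hm)
    have hmJ : m ∈ J := by
      by_contra hmJ
      have e1 := ok.cC_word hyJ hJl (ok.toOK.smp_lt hm) hm hmJ
      rw [ok.toOK.cC_smp hm hm, if_pos rfl] at e1
      have := (ok.toOK.isNeg_iff.mpr ⟨hmlt, hneg⟩).2 _ (by
        rw [ok.toOK.coroot_list hmlt]; exact List.mem_map.mpr ⟨m, List.mem_range.mpr hm, rfl⟩)
      rw [e1] at this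
      omega
    have hnJ : InJ D T J (T.neg (piW T y (T.smp m))) := fun c hc hcJ => by
      have h := ok.toOK.root _ hmlt
      simp only [Tabs.chkRoot, andR_iff, allR_iff, ieq_iff] at h
      rw [(h.2.2.2.2.2.2.2.1 c hc).2, ok.cC_word hyJ hJl (ok.toOK.smp_lt hm) hc hcJ, ok.toOK.cC_smp hm hc,
        if_neg (show c ≠ m from fun e => hcJ (e ▸ hmJ))]
      rfl
    have hp2 := ok.pos_of_simple_J hg hgpos hJl (ok.toOK.neg_lt hmlt) hnJ (by rw [ok.toOK.ht_neg hmlt]; omega)
    rw [ok.piW_neg hg hmlt, ← hfy _ (ok.toOK.smp_lt hm),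
      ok.toOK.ht_neg (ok.piW_lt hv (ok.toOK.smp_lt hm))] at hp2
    have := hvpos m hmJ
    omega

/-- Inversions add along a parabolic factorisation. -/
theorem negCount_add {J v x : List ℕ} (hJl : ∀ j ∈ J, j < D.rank) (hv : ∀ i ∈ v, i < D.rank)
    (hvpos : ∀ j ∈ J, 0 < T.htf (piW T v (T.smp j))) (hxJ : ∀ i ∈ x, i ∈ J) :
    ok.negCount (v ++ x) = ok.negCount v + ok.negCount x := by
  classical
  set S := Finset.range D.nroots with hS
  set inJ : ℕ → Prop := fun r => InJ D T J r with hinJ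
  have hxl : ∀ i ∈ x, i < D.rank := fun i hi => hJl i (hxJ i hi)
  have hxr : ∀ i ∈ x.reverse, i < D.rank := fun i hi => hxl i (List.mem_reverse.mp hi)
  have hxrJ : ∀ i ∈ x.reverse, i ∈ J := fun i hi => hxJ i (List.mem_reverse.mp hi)
  have hkeep : ∀ (z : List ℕ), (∀ i ∈ z, i ∈ J) → ∀ r < D.nroots, 0 < T.htf r → ¬ inJ r →
      0 < T.htf (piW T z r) ∧ ¬ inJ (piW T z r) := by
    intro z hz r hr h0 hn
    have hzl : ∀ i ∈ z, i < D.rank := fun i hi => hJl i (hz i hi)
    have hlt := ok.piW_lt hzl hr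
    obtain ⟨c, hc, hcJ, hne⟩ : ∃ c, c < D.rank ∧ c ∉ J ∧ T.cC r c ≠ 0 := by
      simp only [hinJ, InJ] at hn; push Not at hn; exact hn
    have e := ok.cC_word hz hJl hr hc hcJ
    refine ⟨?_, fun h => hne (by rw [← e]; exact h c hc hcJ)⟩
    by_contra hneg
    have h1 := (ok.toOK.isNeg_iff.mpr ⟨hlt, by have := ok.toOK.ht_ne hlt; omega⟩).2 _ (by
      rw [ok.toOK.coroot_list hlt]; exact List.mem_map.mpr ⟨c, List.mem_range.mpr hc, rfl⟩)
    have h2 := ((ok.toOK.isPos_iff (r := r)).mpr ⟨hr, h0⟩).2 _ (by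
      rw [ok.toOK.coroot_list hr]; exact List.mem_map.mpr ⟨c, List.mem_range.mpr hc, rfl⟩)
    rw [e] at h1
    omega
  have hfj : ∀ r < D.nroots, inJ r → (T.htf (piW T v r) < 0 ↔ T.htf r < 0) := by
    intro r hr hj
    rcases lt_or_gt_of_ne (ok.toOK.ht_ne hr) with h | h
    · have hnJ : InJ D T J (T.neg r) := fun c hc hcJ => by
        have h := ok.toOK.root _ hr
        simp only [Tabs.chkRoot, andR_iff, allR_iff, ieq_iff] at h
        rw [(h.2.2.2.2.2.2.2.1 c hc).2, hj c hc hcJ]; rfl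
      have := ok.pos_of_simple_J hv hvpos hJl (ok.toOK.neg_lt hr) hnJ (by rw [ok.toOK.ht_neg hr]; omega)
      rw [ok.piW_neg hv hr, ok.toOK.ht_neg (ok.piW_lt hv hr)] at this
      exact iff_of_true (by omega) h
    · have := ok.pos_of_simple_J hv hvpos hJl hr hj h
      exact iff_of_false (by omega) (by omega)
  have hxin : ∀ r < D.nroots, inJ r → inJ (piW T x r) := fun r hr hj c hc hcJ => by
    rw [ok.cC_word hxJ hJl hr hc hcJ]; exact hj c hc hcJ
  have e1 : (S.filter fun r => 0 < T.htf r ∧ T.htf (piW T (v ++ x) r) < 0).card =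
      (S.filter fun r => (0 < T.htf r ∧ T.htf (piW T x r) < 0) ∧ inJ r).card +
        (S.filter fun r => (0 < T.htf r ∧ T.htf (piW T v r) < 0) ∧ ¬ inJ r).card := by
    rw [← Finset.card_filter_add_card_filter_not (s := S.filter fun r => 0 < T.htf r ∧ T.htf (piW T (v ++ x) r) < 0)
      (fun r => inJ r), Finset.filter_filter, Finset.filter_filter]
    congr 1
    · congr 1
      refine Finset.filter_congr fun r hr => ?_
      have hr := Finset.mem_range.mp hr
      rw [piW_append]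
      exact and_congr_left fun hj => and_congr_right fun _ => hfj _ (ok.piW_lt hxl hr) (hxin r hr hj)
    · refine Finset.card_bij (fun r _ => piW T x r) ?_ ?_ ?_
      · intro r hr
        simp only [Finset.mem_filter, hS, Finset.mem_range] at hr ⊢
        obtain ⟨h1, ⟨h2, h3⟩, h4⟩ := hr
        rw [piW_append] at h3
        obtain ⟨h5, h6⟩ := hkeep x hxJ r h1 h2 h4
        exact ⟨ok.piW_lt hxl h1, ⟨h5, h3⟩, h6⟩
      · intro a ha b hb e
        simp only [Finset.mem_filter, hS, Finset.mem_range] at ha hb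
        exact ok.piW_inj hxl ha.1 hb.1 e
      · intro r hr
        simp only [Finset.mem_filter, hS, Finset.mem_range] at hr
        obtain ⟨h1, ⟨h2, h3⟩, h4⟩ := hr
        obtain ⟨h5, h6⟩ := hkeep x.reverse hxrJ r h1 h2 h4
        refine ⟨piW T x.reverse r, ?_, ok.piW_rev hxl h1⟩
        simp only [Finset.mem_filter, hS, Finset.mem_range, piW_append, ok.piW_rev hxl h1]
        exact ⟨ok.piW_lt hxr h1, ⟨h5, h3⟩, h6⟩
  have e2 : (S.filter fun r => (0 < T.htf r ∧ T.htf (piW T x r) < 0) ∧ inJ r).card =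
      (S.filter fun r => 0 < T.htf r ∧ T.htf (piW T x r) < 0).card := by
    congr 1
    refine Finset.filter_congr fun r hr => ⟨And.left, fun h => ⟨h, ?_⟩⟩
    by_contra hj
    have := (hkeep x hxJ r (Finset.mem_range.mp hr) h.1 hj).1
    omega
  have e3 : (S.filter fun r => (0 < T.htf r ∧ T.htf (piW T v r) < 0) ∧ ¬ inJ r).card =
      (S.filter fun r => 0 < T.htf r ∧ T.htf (piW T v r) < 0).card := by
    congr 1
    refine Finset.filter_congr fun r hr => ⟨And.left, fun h => ⟨h, fun hj => ?_⟩⟩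
    have := (hfj r (Finset.mem_range.mp hr) hj).mp h.2
    omega
  unfold negCount
  rw [e1, e2, e3, add_comm]

end OKX

namespace Tw

variable {F : Type*} [Field F] {D : ChevalleyDatum} {T : Tabs} (S : Tw F D T)

include S

theorem wdR_eq (v : List ℕ) : S.g.wdR v = S.wd v := by rw [GTab.wdR, flatR_eq]; rfl

theorem imgsT_eq (v : List ℕ) :
    S.g.imgsT D T v = (List.range D.rank).map fun k => piW T (S.wd v) (T.smp k) := by
  simp only [GTab.imgsT, Tabs.imgs, mapR_eq, upTo_eq, S.wdR_eq]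
  exact List.map_congr_left fun k _ => Tabs.piR_eq _ _ _

theorem piW_eq_of_imgs {v v' : List ℕ} (hv : ∀ i ∈ v, S.IsR i) (hv' : ∀ i ∈ v', S.IsR i)
    (h : S.g.imgsT D T v = S.g.imgsT D T v') {r : ℕ} (hr : r < D.nroots) :
    piW T (S.wd v) r = piW T (S.wd v') r := by
  rw [S.imgsT_eq, S.imgsT_eq] at h
  exact S.okx.piW_ext (S.wd_lt hv) (S.wd_lt hv')
    (fun k hk => (List.map_inj_left.mp h) k (List.mem_range.mpr hk)) hr

theorem wd_mem {J x : List ℕ} (hx : ∀ i ∈ x, i ∈ J) : ∀ m ∈ S.wd x, m ∈ S.wd J := by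
  intro m hm
  obtain ⟨i, hi, hm⟩ := List.mem_flatMap.mp hm
  exact List.mem_flatMap.mpr ⟨i, hx i hi, hm⟩

/-- A transversal of the group generated by the representatives in `K`, by words. -/
structure TTrans (K : List ℕ) (L : List (List ℕ)) : Prop where
  mem : ∀ w ∈ L, ∀ i ∈ w, i ∈ K
  complete : ∀ w : List ℕ, (∀ i ∈ w, i ∈ K) → ∃ v ∈ L, ∀ r < D.nroots, piW T (S.wd w) r = piW T (S.wd v) r
  distinct : L.Pairwise fun v v' => ∃ r < D.nroots, piW T (S.wd v) r ≠ piW T (S.wd v') r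

theorem ttrans_nil : S.TTrans [] [[]] where
  mem := by simp
  complete := fun w hw => ⟨[], List.mem_singleton.mpr rfl, fun r _ => by
    rcases w with _ | ⟨i, w⟩
    · rfl
    · exact absurd (hw i List.mem_cons_self) List.not_mem_nil⟩
  distinct := List.pairwise_singleton _ _

theorem tlevel_props {K J : List ℕ} {R : GTab.TLevel} (h : S.g.chkTLevel D T K J R = true) :
    (∀ k ∈ K, S.IsR k) ∧ (∀ j ∈ J, j ∈ K) ∧ (∃ f ∈ R, f.1 = []) ∧
    (R.map fun f => S.g.imgsT D T f.1).Pairwise (fun a b => a ≠ b) ∧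
    ∀ f ∈ R, (∀ i ∈ f.1, i ∈ K) ∧ S.okx.negCount (S.wd f.1) = f.2.1 ∧
      (∀ m ∈ S.wd J, 0 < T.htf (piW T (S.wd f.1) (T.smp m))) ∧
      ∀ k ∈ K, (∃ g ∈ R, S.g.imgsT D T (k :: f.1) = S.g.imgsT D T g.1) ∨
        ∃ j ∈ J, S.g.imgsT D T (k :: f.1) = S.g.imgsT D T (f.1 ++ [j]) := by
  simp only [GTab.chkTLevel, andR_iff, allL_iff, nlt_iff, anyL_iff, Nat.beq_eq, isNilR_iff, ipos_iff,
    Tabs.piR_eq, mapR_eq, S.wdR_eq] at h
  obtain ⟨hK, hJ, hnil, hd, hR⟩ := h
  refine ⟨hK, fun j hj => ?_, hnil, Tabs.pairwise_of_chkDistinct hd, fun f hf => ?_⟩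
  · obtain ⟨k, hk, e⟩ := hJ j hj; exact e ▸ hk
  obtain ⟨h1, h2, h3, h4, h5⟩ := hR f hf
  have hmem : ∀ i ∈ f.1, i ∈ K := fun i hi => by obtain ⟨k, hk, e⟩ := h1 i hi; exact e ▸ hk
  have hw := S.wd_lt fun i hi => hK i (hmem i hi)
  refine ⟨hmem, ?_, ?_, fun k hk => ?_⟩
  · rw [← h2]
    unfold OKX.negCount
    rw [filterR_eq, upTo_eq, ← List.toFinset_card_of_nodup (List.nodup_range.filter _)]
    congr 1
    ext r
    simp only [Finset.mem_filter, Finset.mem_range, List.mem_toFinset, List.mem_filter, List.mem_range,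
      andR_iff, ipos_iff, notR_iff, Tabs.piR_eq]
    refine and_congr_right fun hr => and_congr_right fun _ => ?_
    rw [Bool.eq_false_iff, Ne, ipos_iff]
    have := S.ok.ht_ne (S.okx.piW_lt hw hr)
    omega
  · intro m hm
    obtain ⟨j, hj, hm⟩ := List.mem_flatMap.mp hm
    exact h3 j hj m hm
  · have h4' := eq_of_eqL (fun a b => Nat.beq_eq.mp) h4
    obtain ⟨e, he, rfl⟩ := List.mem_map.mp (h4' ▸ hk : k ∈ f.2.2.map fun e => e.1)
    have hm := h5 e he
    obtain ⟨k, v' | j⟩ := e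
    · left
      replace hm : andR (anyL (fun g => eqL Nat.beq g.1 v') R)
          (eqL Nat.beq (S.g.imgsT D T (k :: f.1)) (S.g.imgsT D T v')) = true := hm
      simp only [andR_iff, anyL_iff] at hm
      obtain ⟨⟨g, hg, e1⟩, e2⟩ := hm
      have e1' := eq_of_eqL (fun a b => Nat.beq_eq.mp) e1
      exact ⟨g, hg, by rw [e1']; exact eq_of_eqL (fun a b => Nat.beq_eq.mp) e2⟩
    · right
      replace hm : andR (anyL (fun m => Nat.beq m j) J)
          (eqL Nat.beq (S.g.imgsT D T (k :: f.1)) (S.g.imgsT D T (appR f.1 [j]))) = true := hm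
      simp only [andR_iff, anyL_iff, Nat.beq_eq, appR_eq] at hm
      obtain ⟨⟨m, hm1, rfl⟩, hm2⟩ := hm
      exact ⟨m, hm1, eq_of_eqL (fun a b => Nat.beq_eq.mp) hm2⟩

theorem ttrans_step {K J : List ℕ} {R : GTab.TLevel} (hlev : S.g.chkTLevel D T K J R = true)
    {L : List (List ℕ)} (hL : S.TTrans J L) :
    S.TTrans K (R.flatMap fun f => L.map fun x => f.1 ++ x) ∧
      ∀ q : ℕ, ((R.flatMap fun f => L.map fun x => f.1 ++ x).map fun w => q ^ S.okx.negCount (S.wd w)).sum =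
        (R.map fun f => q ^ f.2.1).sum * (L.map fun w => q ^ S.okx.negCount (S.wd w)).sum := by
  obtain ⟨hK, hJ, ⟨f₀, hf₀, hf₀'⟩, hd, hR⟩ := S.tlevel_props hlev
  have hJl : ∀ m ∈ S.wd J, m < D.rank := S.wd_lt fun j hj => hK j (hJ j hj)
  have hxR : ∀ x ∈ L, ∀ i ∈ x, S.IsR i := fun x hx i hi => hK i (hJ i (hL.mem x hx i hi))
  have hvR : ∀ f ∈ R, ∀ i ∈ f.1, S.IsR i := fun f hf i hi => hK i ((hR f hf).1 i hi)
  refine ⟨⟨?_, ?_, ?_⟩, ?_⟩
  · intro w hw i hi
    simp only [List.mem_flatMap, List.mem_map] at hw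
    obtain ⟨f, hf, x, hx, rfl⟩ := hw
    rcases List.mem_append.mp hi with h | h
    · exact (hR f hf).1 i h
    · exact hJ i (hL.mem x hx i h)
  · intro w
    induction w with
    | nil =>
      intro _
      obtain ⟨x, hx, hx'⟩ := hL.complete [] (by simp)
      exact ⟨f₀.1 ++ x, List.mem_flatMap.mpr ⟨f₀, hf₀, List.mem_map.mpr ⟨x, hx, rfl⟩⟩, fun r hr => by
        rw [hf₀', List.nil_append]; exact hx' r hr⟩
    | cons i w ih =>
      intro hw
      obtain ⟨v, hv, hv'⟩ := ih fun j hj => hw j (List.mem_cons_of_mem _ hj)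
      simp only [List.mem_flatMap, List.mem_map] at hv
      obtain ⟨f, hf, x, hx, rfl⟩ := hv
      have hiR : ∀ k ∈ i :: f.1, S.IsR k := fun k hk => by
        rcases List.mem_cons.mp hk with rfl | hk
        · exact hK _ (hw _ List.mem_cons_self)
        · exact hvR f hf k hk
      have hstep : ∀ r < D.nroots, piW T (S.wd (i :: w)) r = piW T (S.wd (i :: f.1)) (piW T (S.wd x) r) := by
        intro r hr
        rw [wd_cons, piW_append, hv' r hr, wd_append, piW_append, wd_cons, piW_append]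
      rcases (hR f hf).2.2.2 i (hw i List.mem_cons_self) with ⟨g, hg, hg'⟩ | ⟨j, hj, hj'⟩
      · refine ⟨g.1 ++ x, List.mem_flatMap.mpr ⟨g, hg, List.mem_map.mpr ⟨x, hx, rfl⟩⟩, fun r hr => ?_⟩
        rw [hstep r hr, S.piW_eq_of_imgs hiR (hvR g hg) hg' (S.okx.piW_lt (S.wd_lt (hxR x hx)) hr), wd_append,
          piW_append]
      · obtain ⟨y, hy, hy'⟩ := hL.complete (j :: x) (fun k hk => by
          rcases List.mem_cons.mp hk with rfl | hk
          · exact hj
          · exact hL.mem x hx k hk)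
        refine ⟨f.1 ++ y, List.mem_flatMap.mpr ⟨f, hf, List.mem_map.mpr ⟨y, hy, rfl⟩⟩, fun r hr => ?_⟩
        have hfjR : ∀ k ∈ f.1 ++ [j], S.IsR k := fun k hk => by
          rcases List.mem_append.mp hk with hk | hk
          · exact hvR f hf k hk
          · rw [List.mem_singleton.mp hk]; exact hK j (hJ j hj)
        rw [hstep r hr, S.piW_eq_of_imgs hiR hfjR hj' (S.okx.piW_lt (S.wd_lt (hxR x hx)) hr), wd_append,
          piW_append, S.wd_single, wd_append, piW_append, ← hy' r hr, wd_cons, piW_append]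
  · rw [List.pairwise_flatMap]
    refine ⟨fun f hf => List.pairwise_map.mpr (hL.distinct.imp_of_mem fun {x x'} hx hx' => ?_), ?_⟩
    · rintro ⟨r, hr, hne⟩
      refine ⟨r, hr, fun e => hne ?_⟩
      rw [wd_append, wd_append, piW_append, piW_append] at e
      exact S.okx.piW_inj (S.wd_lt (hvR f hf)) (S.okx.piW_lt (S.wd_lt (hxR x hx)) hr)
        (S.okx.piW_lt (S.wd_lt (hxR x' hx')) hr) e
    refine (List.pairwise_map.mp hd).imp_of_mem fun {f g} hf hg hne w hw w' hw' => ?_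
    obtain ⟨x, hx, rfl⟩ := List.mem_map.mp hw
    obtain ⟨x', hx', rfl⟩ := List.mem_map.mp hw'
    by_contra hc
    push Not at hc
    refine hne ?_
    rw [S.imgsT_eq, S.imgsT_eq]
    refine List.map_congr_left fun k hk => ?_
    refine S.okx.eq_of_posJ (y := S.wd x' ++ (S.wd x).reverse) hJl (S.wd_lt (hvR f hf)) (S.wd_lt (hvR g hg))
      (fun i hi => ?_) (hR f hf).2.2.1 (hR g hg).2.2.1 (fun r hr => ?_) (List.mem_range.mp hk)
    · rcases List.mem_append.mp hi with h | h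
      · exact S.wd_mem (hL.mem x' hx') i h
      · exact S.wd_mem (hL.mem x hx) i (List.mem_reverse.mp h)
    · have hrl : piW T (S.wd x).reverse r < D.nroots :=
        S.okx.piW_lt (fun i hi => S.wd_lt (hxR x hx) i (List.mem_reverse.mp hi)) hr
      have := hc _ hrl
      rw [wd_append, wd_append, piW_append, piW_append, S.okx.piW_rev (S.wd_lt (hxR x hx)) hr] at this
      rw [this, piW_append]
  · intro q
    rw [List.map_flatMap, List.flatMap_def, List.sum_flatten, List.map_map, ← List.sum_map_mul_right]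
    congr 1
    refine List.map_congr_left fun f hf => ?_
    simp only [Function.comp_apply, List.map_map]
    rw [← List.sum_map_mul_left]
    congr 1
    refine List.map_congr_left fun x hx => ?_
    rw [Function.comp_apply, wd_append,
      S.okx.negCount_add hJl (S.wd_lt (hvR f hf)) (hR f hf).2.2.1 (S.wd_mem (hL.mem x hx)), (hR f hf).2.1, pow_add]

/-- A monomial element of the twisted group moving no root is diagonal. -/
theorem H0_of_act_id {n : GL D.Idx F} (hn : n ∈ S.N1) (hA : S.ok.Act n id) : n ∈ S.H0 := by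
  obtain ⟨h, hh, v, hv, rfl⟩ := hn
  refine mul_mem hh (S.gW_mem_H0 _ v rfl hv fun r hr => ?_)
  have A := (S.ok.act_diag (S.H0_le_diag (inv_mem hh))).mul S.ok hA
  rw [inv_mul_cancel_left] at A
  exact S.ok.act_unique (S.ok.act_gW (F := F) _ (S.wd_lt hv)) A hr

/-- Splitting a fixed positive unipotent element along a word. -/
theorem split_word {v : List ℕ} (hv : ∀ i ∈ v, S.IsR i) {u : GL D.Idx F} (hu : u ∈ D.posUnipotent F)
    (hF : u ∈ S.Fx) : ∃ a ∈ D.posUnipotent F, a ∈ S.Fx ∧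
      S.ok.gW F (S.wd v) * a * (S.ok.gW F (S.wd v))⁻¹ ∈ D.posUnipotent F ∧
      ∃ c ∈ S.okx.Um F (S.wd v) ⊓ S.Fx, u = a * c := by
  have hw := S.wd_lt hv
  obtain ⟨a, ha, ha', c, hc, hac⟩ := S.okx.pos_split_word _ _ hw le_rfl u hu
  set s := S.ok.gW F (S.wd v) with hs
  have hsF : S.sig s = s := S.G1_le_Fx (S.gW_wd_mem hv)
  have e1 : a * c = S.sig a * S.sig c := by
    rw [← map_mul, ← hac]; exact (show S.sig u = u from hF).symm
  have hz : (S.sig a)⁻¹ * a = S.sig c * c⁻¹ := by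
    rw [eq_mul_inv_iff_mul_eq, mul_assoc, e1, inv_mul_cancel_left]
  have hz0 : (S.sig a)⁻¹ * a = 1 := by
    have h1 : s * ((S.sig a)⁻¹ * a) * s⁻¹ ∈ D.posUnipotent F := by
      have h2 : s * S.sig a * s⁻¹ ∈ D.posUnipotent F := by
        have := S.sig_pos ha'
        rwa [map_mul, map_mul, map_inv, hsF] at this
      have := mul_mem (inv_mem h2) ha'
      simpa [mul_assoc] using this
    have h3 : s * ((S.sig a)⁻¹ * a) * s⁻¹ ∈ D.negUnipotent F := by
      rw [hz]
      exact S.okx.Um_conj_neg hw (mul_mem (S.sig_Um hw (S.wd_per hv) hc) (inv_mem hc))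
    have h4 : s * ((S.sig a)⁻¹ * a) * s⁻¹ ∈ D.borelSubgroup F ⊓ D.negUnipotent F :=
      ⟨Subgroup.mem_sup_left h1, h3⟩
    rw [S.ok.borel_inf_neg, Subgroup.mem_bot, mul_inv_eq_one] at h4
    exact mul_eq_left.mp h4
  rw [inv_mul_eq_one] at hz0
  have haF : a ∈ S.Fx := hz0
  refine ⟨a, ha, haF, ha', c, Subgroup.mem_inf.mpr ⟨hc, ?_⟩, hac⟩
  have : c = a⁻¹ * u := by rw [hac, inv_mul_cancel_left]
  rw [this]; exact mul_mem (inv_mem haF) hF

theorem card_Um1 [Fintype F] {q : ℕ} (hqf : Nat.card {x : F // S.fr x = x} = q)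
    (hqF : Fintype.card F = q ^ S.g.k) {v : List ℕ} (hv : ∀ i ∈ v, S.IsR i) :
    Nat.card ↥(S.okx.Um F (S.wd v) ⊓ S.Fx) = q ^ S.okx.negCount (S.wd v) := by
  classical
  rw [S.card_adm hqf hqF (S.adm_Um (S.wd_lt hv) (S.wd_per hv))]
  congr 1
  unfold OKX.negCount
  congr 1
  ext r
  simp only [Finset.mem_filter, Finset.mem_range]
  exact ⟨fun h => ⟨h.1, h.2.2⟩, fun h => ⟨h.1, h.1, h.2⟩⟩

theorem card_cosets1 [Fintype F] {q : ℕ} (hqf : Nat.card {x : F // S.fr x = x} = q)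
    (hqF : Fintype.card F = q ^ S.g.k) {K : List ℕ} {L : List (List ℕ)} (hL : S.TTrans K L)
    (hK : ∀ k ∈ K, S.IsR k) (hfull : ∀ i, S.IsR i → i ∈ K) :
    Nat.card (↥S.G1 ⧸ S.B1.subgroupOf S.G1) = (L.map fun w => q ^ S.okx.negCount (S.wd w)).sum := by
  classical
  have : Finite (GL D.Idx F) := Finite.of_injective _ Units.val_injective
  have hw : ∀ w ∈ L, ∀ i ∈ w, S.IsR i := fun w hw i hi => hK i (hL.mem w hw i hi)
  have hmemG : ∀ (j : Fin L.length) (u : ↥(S.okx.Um F (S.wd (L.get j)) ⊓ S.Fx)),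
      S.ok.gW F (S.wd (L.get j)) * (u : GL D.Idx F) ∈ S.G1 :=
    fun j u => mul_mem (S.gW_wd_mem (hw _ (L.get_mem j))) (S.adm_le_G1 S.adm_pos ⟨S.okx.Um_le _ u.2.1, u.2.2⟩)
  let f : (Σ j : Fin L.length, ↥(S.okx.Um F (S.wd (L.get j)) ⊓ S.Fx)) → ↥S.G1 ⧸ S.B1.subgroupOf S.G1 := fun x =>
    QuotientGroup.mk (⟨_, hmemG x.1 x.2⟩ : ↥S.G1)⁻¹
  have hbij : Function.Bijective f := by
    constructor
    · rintro ⟨j, u⟩ ⟨j', u'⟩ e
      have h1 := QuotientGroup.eq.mp e
      rw [inv_inv, Subgroup.mem_subgroupOf, Subgroup.coe_mul, Subgroup.coe_inv] at h1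
      set n := S.ok.gW F (S.wd (L.get j))
      set n' := S.ok.gW F (S.wd (L.get j'))
      obtain ⟨b, hb, hbe⟩ : ∃ b ∈ D.borelSubgroup F,
          (n * (u : GL D.Idx F)) = b * n' * (u' : GL D.Idx F) := ⟨_, S.B1_le_borel h1, by simp [n, n', mul_assoc]⟩
      have hjR := hw _ (L.get_mem j)
      have hj'R := hw _ (L.get_mem j')
      have hum : ∀ (w : List ℕ), (∀ i ∈ w, i < D.rank) → ∀ x ∈ S.okx.Um F w, x ∈ Subgroup.closure {x : GL D.Idx F |
          ∃ (r : ℕ) (t : F), D.IsPosRoot r ∧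
            (D.rootSubgroup F r).map (MulAut.conj (S.ok.gW F w)).toMonoidHom ≤ D.negUnipotent F ∧
            (x : Matrix D.Idx D.Idx F) = D.x F r t} := fun w hw x hx => by
        rw [S.okx.um_eq (S.ok.act_gW w hw)]; exact hx
      obtain ⟨h2, h3⟩ := S.okx.bruhat_unique (one_mem _) hb (S.N1_le_monomial ⟨1, one_mem _, _, hjR, (one_mul _).symm⟩)
        (S.N1_le_monomial ⟨1, one_mem _, _, hj'R, (one_mul _).symm⟩)
        (hum _ (S.wd_lt hjR) _ u.2.1) (hum _ (S.wd_lt hj'R) _ u'.2.1) (by rw [one_mul]; exact hbe)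
      have hperm : ∀ r < D.nroots, piW T (S.wd (L.get j)) r = piW T (S.wd (L.get j')) r := by
        intro r hr
        have A := (S.ok.act_gW (F := F) _ (S.wd_lt hjR)).mul S.ok (S.ok.act_diag h2)
        rw [mul_inv_cancel_left] at A
        exact S.ok.act_unique A (S.ok.act_gW (F := F) _ (S.wd_lt hj'R)) hr
      have hjj : j = j' := by
        by_contra hne
        rcases lt_or_gt_of_ne hne with h | h
        · obtain ⟨r, hr, hr'⟩ := List.pairwise_iff_get.mp hL.distinct j j' h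
          exact hr' (hperm r hr)
        · obtain ⟨r, hr, hr'⟩ := List.pairwise_iff_get.mp hL.distinct j' j h
          exact hr' (hperm r hr).symm
      subst hjj
      obtain ⟨-, h4⟩ := h3 rfl
      exact Sigma.ext rfl (heq_of_eq (Subtype.ext h4))
    · intro x
      obtain ⟨g, rfl⟩ := QuotientGroup.mk_surjective x
      obtain ⟨b, hb, n, hn, d, hd, e⟩ := S.exists_bnb (inv_mem g.2 : (g : GL D.Idx F)⁻¹ ∈ S.G1)
      obtain ⟨h₀, hh₀, w, hwR, hn'⟩ := id hn
      obtain ⟨v, hv, hv'⟩ := hL.complete w fun i hi => hfull i (hwR i hi)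
      have hvR := hw v hv
      set W := S.ok.gW F (S.wd w) with hW
      set V := S.ok.gW F (S.wd v) with hV
      have hWN : W ∈ S.N1 := ⟨1, one_mem _, w, hwR, (one_mul _).symm⟩
      have hVN : V ∈ S.N1 := ⟨1, one_mem _, v, hvR, (one_mul _).symm⟩
      have hWV : W * V⁻¹ ∈ S.H0 := by
        refine S.H0_of_act_id (mul_mem hWN (inv_mem hVN)) ?_
        obtain ⟨z, hz, hzA⟩ := S.N1_act (inv_mem hVN)
        have A := (S.ok.act_gW (F := F) _ (S.wd_lt hwR)).mul S.ok hzA
        refine ⟨fun r hr => ⟨hr, rfl⟩, fun r hr => ?_, ?_⟩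
        · have hid : piW T (S.wd w) (piW T (S.wd z) r) = r := by
            have A2 := (S.ok.act_gW (F := F) _ (S.wd_lt hvR)).mul S.ok hzA
            rw [← hV, mul_inv_cancel] at A2
            have := S.ok.act_unique A2 (S.ok.act_diag (one_mem _)) hr
            rw [Function.comp_apply, id] at this
            rw [hv' _ (S.okx.piW_lt (S.wd_lt hz) hr), this]
          obtain ⟨a, ha0, ha⟩ := A.2.1 r hr
          rw [Function.comp_apply, hid] at ha
          exact ⟨a, ha0, ha⟩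
        · intro a s hne
          obtain ⟨u, hu, hu'⟩ := A.2.2 a s hne
          refine ⟨u, hu, ?_⟩
          rw [hu', Function.comp_apply]
          have A2 := (S.ok.act_gW (F := F) _ (S.wd_lt hvR)).mul S.ok hzA
          rw [← hV, mul_inv_cancel] at A2
          have := S.ok.act_unique A2 (S.ok.act_diag (one_mem _)) (r := (s : ℕ)) s.isLt
          rw [Function.comp_apply, id] at this
          rw [hv' _ (S.okx.piW_lt (S.wd_lt hz) s.isLt), this]
          rfl
      obtain ⟨u, hu, huF, h, hh, hd'⟩ := hd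
      have hu' : h⁻¹ * u * h ∈ D.posUnipotent F := by
        have := (Subgroup.mem_normalizer_iff.mp (S.ok.diag_normalizes_pos (inv_mem (S.H0_le_diag hh))) u).mp hu
        simpa using this
      obtain ⟨a, ha, haF, ha', c, hc, hac⟩ := S.split_word hvR hu'
        (mul_mem (mul_mem (inv_mem (S.H0_le_Fx hh)) huF) (S.H0_le_Fx hh))
      rw [← hV] at ha'
      obtain ⟨j, hj⟩ := List.mem_iff_get.mp hv
      subst hj
      refine ⟨⟨j, ⟨c, hc⟩⟩, ?_⟩
      refine QuotientGroup.eq.mpr ?_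
      rw [inv_inv, Subgroup.mem_subgroupOf, Subgroup.coe_mul]
      have hb' : b * (h₀ * (W * V⁻¹)) * (V * h * V⁻¹) * (V * a * V⁻¹) ∈ S.B1 :=
        mul_mem (mul_mem (mul_mem hb (S.H0_le_B1 (mul_mem hh₀ hWV))) (S.H0_le_B1 (S.N1_conj_H0 hVN hh)))
          (S.mem_B1_pos ha' (mul_mem (mul_mem (S.N1_le_Fx hVN) haF) (inv_mem (S.N1_le_Fx hVN))))
      have e2 : V * c * (g : GL D.Idx F) = (b * (h₀ * (W * V⁻¹)) * (V * h * V⁻¹) * (V * a * V⁻¹))⁻¹ := by
        have h5 : (g : GL D.Idx F) = (b * n * d)⁻¹ := by rw [← e, inv_inv]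
        have h6 : d = h * (a * c) := by rw [hd', ← hac]; simp [mul_assoc]
        rw [h5, h6, hn']
        simp [mul_assoc]
      show V * c * (g : GL D.Idx F) ∈ S.B1
      rw [e2]
      exact inv_mem hb'
  rw [← Nat.card_eq_of_bijective f hbij, Nat.card_sigma]
  rw [← List.sum_ofFn]
  congr 1
  conv_rhs => rw [← List.ofFn_get L, List.map_ofFn]
  congr 1
  funext j
  exact S.card_Um1 hqf hqF (hw _ (L.get_mem j))

theorem card_B1 [Fintype F] {q : ℕ} (hqf : Nat.card {x : F // S.fr x = x} = q)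
    (hqF : Fintype.card F = q ^ S.g.k) :
    Nat.card ↥S.B1 = q ^ (D.nroots - D.nroots / 2) * Nat.card ↥S.H0 := by
  classical
  have hP : Nat.card ↥(D.posUnipotent F ⊓ S.Fx) = q ^ (D.nroots - D.nroots / 2) := by
    rw [S.card_adm hqf hqF S.adm_pos]
    congr 1
    have e : (Finset.range D.nroots).filter (fun r => D.IsPosRoot r) = Finset.Ico (D.nroots / 2) D.nroots := by
      ext r
      rw [Finset.mem_filter, Finset.mem_range, Finset.mem_Ico, S.okx.isPos_iff_half]
      exact ⟨fun h => h.2, fun h => ⟨h.2, h⟩⟩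
    convert congrArg Finset.card e
    rw [Nat.card_Ico]
  rw [← hP, ← Nat.card_prod]
  refine (Nat.card_eq_of_bijective (fun x : ↥(D.posUnipotent F ⊓ S.Fx) × ↥S.H0 =>
    (⟨(x.1 : GL D.Idx F) * x.2, x.1, x.1.2.1, x.1.2.2, x.2, x.2.2, rfl⟩ : ↥S.B1)) ⟨?_, ?_⟩).symm
  · intro x y e
    have e' : (x.1 : GL D.Idx F) * x.2 = y.1 * y.2 := congrArg Subtype.val e
    have h3 : ((y.1 : GL D.Idx F))⁻¹ * x.1 = y.2 * (x.2 : GL D.Idx F)⁻¹ := by
      rw [eq_mul_inv_iff_mul_eq, mul_assoc, e', inv_mul_cancel_left]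
    have h4 : ((y.1 : GL D.Idx F))⁻¹ * x.1 ∈ D.posUnipotent F ⊓ D.diagonalSubgroup F :=
      Subgroup.mem_inf.mpr ⟨mul_mem (inv_mem y.1.2.1) x.1.2.1,
        h3 ▸ S.H0_le_diag (mul_mem y.2.2 (inv_mem x.2.2))⟩
    rw [S.ok.pos_inf_diag, Subgroup.mem_bot, inv_mul_eq_one] at h4
    rw [h4] at e'
    exact Prod.ext (Subtype.ext h4.symm) (Subtype.ext (mul_left_cancel e'))
  · rintro ⟨x, u, hu, huF, h, hh, rfl⟩
    exact ⟨(⟨u, hu, huF⟩, ⟨h, hh⟩), rfl⟩

theorem card_G1 [Fintype F] {q : ℕ} (hqf : Nat.card {x : F // S.fr x = x} = q)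
    (hqF : Fintype.card F = q ^ S.g.k) {K : List ℕ} {L : List (List ℕ)} (hL : S.TTrans K L)
    (hK : ∀ k ∈ K, S.IsR k) (hfull : ∀ i, S.IsR i → i ∈ K) :
    Nat.card ↥S.G1 = (L.map fun w => q ^ S.okx.negCount (S.wd w)).sum * (q ^ (D.nroots - D.nroots / 2) * Nat.card ↥S.H0) := by
  rw [← S.card_cosets1 hqf hqF hL hK hfull, ← S.card_B1 hqf hqF,
    ← Nat.card_congr (Subgroup.subgroupOfEquivOfLe S.B1_le_G1).toEquiv]
  exact Subgroup.card_eq_card_quotient_mul_card_subgroup _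

end Tw

end Cfsg.Agent.Chev
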