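import Cfsg.Agent.Lib.Chev.TwistBN
import Cfsg.Agent.Lib.Chev.TwistInst

/-!
Orders of the diagonal subgroups of the twisted groups.
-/

set_option autoImplicit false

namespace Cfsg.Agent.Chev

open Cfsg.Lie

theorem card_mul_of_onto {A G : Type*} [Group A] [Group G] (Ψ : A →* G) (H : Subgroup G) (h : Ψ.range = H) :
    Nat.card ↥H * Nat.card ↥Ψ.ker = Nat.card A := by
  rw [← h, Subgroup.card_eq_card_quotient_mul_card_subgroup Ψ.ker]
  congr 1
  exact (Nat.card_congr (QuotientGroup.quotientKerEquivRange Ψ).toEquiv).symm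

theorem prod_range4 {M : Type*} [CommMonoid M] (f : ℕ → M) :
    ∏ i ∈ Finset.range 4, f i = f 0 * f 1 * f 2 * f 3 := by
  simp [Finset.prod_range_succ]

theorem prod_range6 {M : Type*} [CommMonoid M] (f : ℕ → M) :
    ∏ i ∈ Finset.range 6, f i = f 0 * f 1 * f 2 * f 3 * f 4 * f 5 := by
  simp [Finset.prod_range_succ]

namespace OK

variable {F : Type*} [Field F] {D : ChevalleyDatum} {T : Tabs} (ok : OK D T)

include ok

theorem torG_eq_one {c : ℕ → F} (hc : ∀ i < D.rank, c i ≠ 0) :
    ok.torG c = 1 ↔ ∀ s < D.nroots, ∏ i ∈ Finset.range D.rank, c i ^ T.cA i s = 1 := by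
  constructor
  · intro h s hs
    have e := congrArg (fun X : GL D.Idx F => (X : Matrix D.Idx D.Idx F) (Sum.inr ⟨s, hs⟩) (Sum.inr ⟨s, hs⟩)) h
    simpa [ok.coe_torG hc] using e
  · intro h
    refine Units.ext ?_
    rw [ok.coe_torG hc, Units.val_one, ← Matrix.diagonal_one]
    congr 1
    funext a
    rcases a with a | s
    · rfl
    · exact h s s.isLt

end OK

variable {F : Type*} [Field F]

/-- The units fixed by an automorphism of the field. -/
def fixU (fr : F ≃+* F) : Subgroup Fˣ := MonoidHom.eqLocus (Units.map (fr : F →* F)) (MonoidHom.id Fˣ)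

theorem mem_fixU {fr : F ≃+* F} {u : Fˣ} : u ∈ fixU fr ↔ fr (u : F) = u :=
  ⟨fun h => congrArg Units.val (h : Units.map (fr : F →* F) u = u), fun h => Units.ext h⟩

theorem card_fixU [Fintype F] {fr : F ≃+* F} {q : ℕ} (h : Nat.card {x : F // fr x = x} = q) :
    Nat.card ↥(fixU fr) = q - 1 := by
  classical
  have e : ↥(fixU fr) ≃ {x : {x : F // fr x = x} // ¬ x = ⟨0, map_zero fr⟩} :=
    { toFun := fun u => ⟨⟨(u : Fˣ), mem_fixU.mp u.2⟩, fun e => Units.ne_zero _ (congrArg Subtype.val e)⟩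
      invFun := fun x => ⟨Units.mk0 x.1.1 fun e => x.2 (Subtype.ext e), mem_fixU.mpr x.1.2⟩
      left_inv := fun u => Subtype.ext (Units.ext rfl)
      right_inv := fun x => Subtype.ext (Subtype.ext rfl) }
  rw [Nat.card_congr e, Nat.card_eq_fintype_card, Fintype.card_subtype_compl, Fintype.card_subtype_eq,
    ← Nat.card_eq_fintype_card, h]

namespace D4

/-- The parameters of the diagonal subgroup. -/
def vec (fr : F ≃+* F) (a b : F) : ℕ → F := fun i => [a, b, fr a, fr (fr a)].getD i 1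

theorem card_H0 [Fintype F] (S : Tw F chevD4 T) (hg : S.g = g) {q : ℕ}
    (hc : Nat.card {x : F // S.fr x = x} = q) (hF : Fintype.card F = q ^ 3) :
    Nat.card ↥S.H0 = (q - 1) ^ 2 * (q ^ 2 + q + 1) := by
  have hq1 : 1 ≤ q := by
    rcases Nat.eq_zero_or_pos q with rfl | h
    · simp [Fintype.card_ne_zero] at hF
    · exact h
  have hk : ∀ x : F, S.fr (S.fr (S.fr x)) = x := fun x => by
    have := S.frk x; rw [hg] at this; exact this
  have hpsi : (List.range 4).map g.psi = [2, 1, 3, 0] := by decide +kernel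
  simp only [List.range_succ, List.range_zero, List.nil_append, List.map_cons, List.map_nil, List.cons_append,
    List.cons.injEq, and_true] at hpsi
  obtain ⟨p0, p1, p2, p3⟩ := hpsi
  have hne : ∀ (a b : Fˣ), ∀ i < chevD4.rank, vec S.fr (a : F) (b : F) i ≠ 0 := by
    intro a b i hi
    have hi : i < 4 := hi
    interval_cases i <;> simp [vec]
  have hequi : ∀ (a : Fˣ) (b : ↥(fixU S.fr)), S.Equi (vec S.fr (a : F) ((b : Fˣ) : F)) := by
    intro a b
    refine ⟨hne a b, fun i hi => ?_⟩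
    have hi : i < 4 := hi
    rw [hg]
    interval_cases i
    · rw [p0]; simp [vec]
    · rw [p1]; simp [vec, mem_fixU.mp b.2]
    · rw [p2]; simp [vec]
    · rw [p3]; simp [vec, hk]
  let Ψ : Fˣ × ↥(fixU S.fr) →* GL chevD4.Idx F :=
    MonoidHom.mk' (fun p => S.ok.torG (vec S.fr (p.1 : F) ((p.2 : Fˣ) : F))) fun p p' => by
      show S.ok.torG _ = S.ok.torG _ * S.ok.torG _
      rw [S.ok.torG_mul (hne p.1 p.2) (hne p'.1 p'.2)]
      refine S.ok.torG_congr (hne _ _) fun i hi => ?_
      have hi : i < 4 := hi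
      interval_cases i <;> simp [vec]
  have hrange : Ψ.range = S.H0 := by
    ext x
    constructor
    · rintro ⟨p, rfl⟩
      exact ⟨_, hequi p.1 p.2, rfl⟩
    · rintro ⟨c, hc, rfl⟩
      have h4 : ∀ i, i < 4 → c (g.psi i) = S.fr (c i) := fun i hi => hg ▸ hc.2 i hi
      have e1 : S.fr (c 1) = c 1 := by
        have := h4 1 (by norm_num); rw [p1] at this; exact this.symm
      refine ⟨(Units.mk0 (c 0) (hc.1 0 (by decide)), ⟨Units.mk0 (c 1) (hc.1 1 (by decide)), mem_fixU.mpr e1⟩), ?_⟩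
      show S.ok.torG _ = S.ok.torG c
      have e2 : c 2 = S.fr (c 0) := by have := h4 0 (by norm_num); rwa [p0] at this
      have e3 : c 3 = S.fr (c 2) := by have := h4 2 (by norm_num); rwa [p2] at this
      refine S.ok.torG_congr (hne _ _) fun i hi => ?_
      have hi : i < 4 := hi
      interval_cases i
      · simp [vec]
      · simp [vec]
      · simp [vec, e2]
      · simp [vec, e3, e2]
  have hker : Ψ.ker = ⊥ := by
    refine (Subgroup.eq_bot_iff_forall _).mpr ?_
    rintro ⟨a, b, hb⟩ hp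
    have h := (S.ok.torG_eq_one (hne a b)).mp hp
    have hA : (List.range 4).map (fun j => (List.range 4).map fun i => T.cA i (T.smp j)) =
        [[2, -1, 0, 0], [-1, 2, -1, -1], [0, -1, 2, 0], [0, -1, 0, 2]] := by decide +kernel
    simp only [List.range_succ, List.range_zero, List.nil_append, List.map_cons, List.map_nil, List.cons_append,
      List.cons.injEq, and_true] at hA
    obtain ⟨⟨a00, a01, a02, a03⟩, ⟨a10, a11, a12, a13⟩, ⟨a20, a21, a22, a23⟩, -⟩ := hA
    have r : ∀ j, j < 4 → ∏ i ∈ Finset.range 4, vec S.fr (a : F) (b : F) i ^ T.cA i (T.smp j) = 1 := fun j hj =>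
      h (T.smp j) (S.ok.smp_lt hj)
    have r0 := r 0 (by norm_num)
    have r1 := r 1 (by norm_num)
    have r2 := r 2 (by norm_num)
    have ha : (a : F) ≠ 0 := a.ne_zero
    have hb0 : (b : F) ≠ 0 := b.ne_zero
    rw [prod_range4] at r0 r1 r2
    simp [vec, a00, a01, a02, a03, a10, a11, a12, a13, a20, a21, a22, a23, zpow_neg] at r0 r1 r2
    simp only [pow_two] at r0 r1 r2
    generalize hA1 : S.fr (a : F) = a1 at r0 r1 r2
    generalize hA2 : S.fr a1 = a2 at r0 r1 r2
    have h1 : a1 ≠ 0 := hA1 ▸ (fun e => ha ((map_eq_zero_iff S.fr S.fr.injective).mp e))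
    have h2 : a2 ≠ 0 := hA2 ▸ (fun e => h1 ((map_eq_zero_iff S.fr S.fr.injective).mp e))
    field_simp at r0 r1 r2
    have heq : a1 = (a : F) := by
      have e : a1 * a1 = (a : F) * a := by linear_combination r2 - r0
      rcases mul_self_eq_mul_self_iff.mp e with e | e
      · exact e
      · have e2 : a2 = (a : F) := by rw [← hA2, e, map_neg, hA1, e, neg_neg]
        have := hk (a : F)
        rw [hA1, hA2, e2, hA1] at this
        exact this
    have heq2 : a2 = (a : F) := by rw [← hA2, heq, hA1, heq]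
    rw [heq, heq2] at r1
    have e0 : (b : F) = (a : F) * a := by linear_combination -r0
    rw [e0] at r1
    have ha1 : (a : F) = 1 := by
      refine mul_left_cancel₀ (mul_ne_zero (mul_ne_zero ha ha) ha) ?_
      linear_combination r1
    have hb1 : (b : F) = 1 := by rw [e0, ha1, one_mul]
    exact Prod.ext (Units.ext ha1) (Subtype.ext (Units.ext hb1))
  have h := card_mul_of_onto Ψ S.H0 hrange
  rw [hker, Subgroup.card_bot, mul_one, Nat.card_prod, Nat.card_units, Nat.card_eq_fintype_card (α := F), hF,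
    card_fixU hc] at h
  rw [h]
  obtain ⟨n, rfl⟩ : ∃ n, q = n + 1 := ⟨q - 1, by omega⟩
  have e : (n + 1) ^ 3 = n * ((n + 1) ^ 2 + (n + 1) + 1) + 1 := by ring
  rw [e, Nat.add_sub_cancel, Nat.add_sub_cancel]
  ring

end D4

namespace E6

/-- The parameters of the diagonal subgroup. -/
def vec (fr : F ≃+* F) (a b x y : F) : ℕ → F := fun i => [a, x, b, y, fr b, fr a].getD i 1

theorem card_H0 [Fintype F] (S : Tw F chevE6 T) (hg : S.g = g) {q : ℕ}
    (hfr : ∀ x : F, S.fr x = x ^ q) (hc : Nat.card {x : F // S.fr x = x} = q) (hF : Fintype.card F = q ^ 2) :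
    Nat.gcd 3 (q + 1) * Nat.card ↥S.H0 = (q - 1) ^ 4 * (q + 1) ^ 2 := by
  have hq1 : 1 ≤ q := by
    rcases Nat.eq_zero_or_pos q with rfl | h
    · simp [Fintype.card_ne_zero] at hF
    · exact h
  have hk : ∀ x : F, S.fr (S.fr x) = x := fun x => by
    have := S.frk x; rw [hg] at this; exact this
  have hpsi : (List.range 6).map g.psi = [5, 1, 4, 3, 2, 0] := by decide +kernel
  simp only [List.range_succ, List.range_zero, List.nil_append, List.map_cons, List.map_nil, List.cons_append,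
    List.cons.injEq, and_true] at hpsi
  obtain ⟨p0, p1, p2, p3, p4, p5⟩ := hpsi
  have hne : ∀ (a b x y : Fˣ), ∀ i < chevE6.rank, vec S.fr (a : F) (b : F) (x : F) (y : F) i ≠ 0 := by
    intro a b x y i hi
    have hi : i < 6 := hi
    interval_cases i <;> simp [vec]
  let Ψ : (Fˣ × Fˣ) × (↥(fixU S.fr) × ↥(fixU S.fr)) →* GL chevE6.Idx F :=
    MonoidHom.mk' (fun p => S.ok.torG (vec S.fr (p.1.1 : F) (p.1.2 : F) ((p.2.1 : Fˣ) : F) ((p.2.2 : Fˣ) : F)))
      fun p p' => by
        show S.ok.torG _ = S.ok.torG _ * S.ok.torG _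
        rw [S.ok.torG_mul (hne _ _ _ _) (hne _ _ _ _)]
        refine S.ok.torG_congr (hne _ _ _ _) fun i hi => ?_
        have hi : i < 6 := hi
        interval_cases i <;> simp [vec]
  have hrange : Ψ.range = S.H0 := by
    ext z
    constructor
    · rintro ⟨⟨⟨a, b⟩, x, y⟩, rfl⟩
      refine ⟨_, ⟨hne a b x y, fun i hi => ?_⟩, rfl⟩
      have hi : i < 6 := hi
      rw [hg]
      interval_cases i
      · rw [p0]; simp [vec]
      · rw [p1]; simp [vec, mem_fixU.mp x.2]
      · rw [p2]; simp [vec]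
      · rw [p3]; simp [vec, mem_fixU.mp y.2]
      · rw [p4]; simp [vec, hk]
      · rw [p5]; simp [vec, hk]
    · rintro ⟨c, hc, rfl⟩
      have h6 : ∀ i, i < 6 → c (g.psi i) = S.fr (c i) := fun i hi => hg ▸ hc.2 i hi
      have e1 : S.fr (c 1) = c 1 := by
        have := h6 1 (by norm_num); rw [p1] at this; exact this.symm
      have e3 : S.fr (c 3) = c 3 := by
        have := h6 3 (by norm_num); rw [p3] at this; exact this.symm
      have e5 : c 5 = S.fr (c 0) := by have := h6 0 (by norm_num); rwa [p0] at this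
      have e4 : c 4 = S.fr (c 2) := by have := h6 2 (by norm_num); rwa [p2] at this
      refine ⟨((Units.mk0 (c 0) (hc.1 0 (by decide)), Units.mk0 (c 2) (hc.1 2 (by decide))),
        ⟨Units.mk0 (c 1) (hc.1 1 (by decide)), mem_fixU.mpr e1⟩,
        ⟨Units.mk0 (c 3) (hc.1 3 (by decide)), mem_fixU.mpr e3⟩), ?_⟩
      show S.ok.torG _ = S.ok.torG c
      refine S.ok.torG_congr (hne _ _ _ _) fun i hi => ?_
      have hi : i < 6 := hi
      interval_cases i <;> simp [vec, e4, e5]
  have hmem : ∀ p, p ∈ Ψ.ker ↔ (p.1.1 ^ 3 = 1 ∧ p.1.1 ^ (q + 1) = 1) ∧ p.1.2 = p.1.1 ^ 2 ∧ p.2 = 1 := by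
    rintro ⟨⟨a, b⟩, ⟨x, hx⟩, y, hy⟩
    have ha : (a : F) ≠ 0 := a.ne_zero
    have hb : (b : F) ≠ 0 := b.ne_zero
    have hx0 : (x : F) ≠ 0 := x.ne_zero
    have hy0 : (y : F) ≠ 0 := y.ne_zero
    show S.ok.torG _ = 1 ↔ _
    rw [S.ok.torG_eq_one (hne a b x y)]
    constructor
    · intro h
      have hA : (List.range 6).map (fun j => (List.range 6).map fun i => T.cA i (T.smp j)) =
          [[2, 0, -1, 0, 0, 0], [0, 2, 0, -1, 0, 0], [-1, 0, 2, -1, 0, 0], [0, -1, -1, 2, -1, 0],
            [0, 0, 0, -1, 2, -1], [0, 0, 0, 0, -1, 2]] := by decide +kernel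
      simp only [List.range_succ, List.range_zero, List.nil_append, List.map_cons, List.map_nil, List.cons_append,
        List.cons.injEq, and_true] at hA
      obtain ⟨⟨a00, a01, a02, a03, a04, a05⟩, ⟨a10, a11, a12, a13, a14, a15⟩, ⟨a20, a21, a22, a23, a24, a25⟩,
        ⟨a30, a31, a32, a33, a34, a35⟩, -⟩ := hA
      have r : ∀ j, j < 6 → ∏ i ∈ Finset.range 6, vec S.fr (a : F) (b : F) (x : F) (y : F) i ^ T.cA i (T.smp j) = 1 :=
        fun j hj => h (T.smp j) (S.ok.smp_lt hj)
      have r0 := r 0 (by norm_num)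
      have r1 := r 1 (by norm_num)
      have r2 := r 2 (by norm_num)
      have r3 := r 3 (by norm_num)
      rw [prod_range6] at r0 r1 r2 r3
      simp [vec, a00, a01, a02, a03, a04, a05, a10, a11, a12, a13, a14, a15, a20, a21, a22, a23, a24, a25,
        a30, a31, a32, a33, a34, a35, zpow_neg] at r0 r1 r2 r3
      simp only [pow_two] at r0 r1 r2 r3
      generalize hA1 : S.fr (a : F) = a1 at r0 r1 r2 r3
      generalize hB1 : S.fr (b : F) = b1 at r0 r1 r2 r3
      have ha1 : a1 ≠ 0 := hA1 ▸ (fun e => ha ((map_eq_zero_iff S.fr S.fr.injective).mp e))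
      have hb1 : b1 ≠ 0 := hB1 ▸ (fun e => hb ((map_eq_zero_iff S.fr S.fr.injective).mp e))
      field_simp at r0 r1 r2 r3
      have eb : (b : F) = (a : F) * a := by linear_combination -r0
      have eb1 : b1 = a1 * a1 := by rw [← hB1, eb, map_mul, hA1]
      have ey : (y : F) = (a : F) * a * a := by
        refine mul_left_cancel₀ ha ?_
        rw [eb] at r2
        linear_combination -r2
      have e13 : a1 * a1 * a1 = (a : F) * a * a := by
        have := mem_fixU.mp hy
        rw [ey, map_mul, map_mul, hA1] at this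
        exact this
      have ex : (x : F) * (a1 * a1) = (a : F) * a * a * a := by
        rw [eb, eb1, ey] at r3
        refine mul_left_cancel₀ (mul_ne_zero ha ha) ?_
        linear_combination -r3
      have e14 : a1 = (a : F) * a := by
        rw [ey] at r1
        have e5 : (a : F) * a * a * a * a = a1 * (a1 * a1 * a1) := by
          refine mul_left_cancel₀ (mul_ne_zero (mul_ne_zero ha ha) ha) ?_
          have : ((x : F) * (a1 * a1)) * ((x : F) * (a1 * a1)) =
              ((a : F) * a * a * a) * ((a : F) * a * a * a) := by rw [ex]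
          linear_combination (-1 : F) * this + a1 * a1 * a1 * a1 * r1
        rw [e13] at e5
        refine mul_right_cancel₀ (mul_ne_zero (mul_ne_zero ha ha) ha) ?_
        linear_combination -e5
      have e3 : (a : F) * a * a = 1 := by
        rw [e14] at e13
        refine mul_left_cancel₀ (mul_ne_zero (mul_ne_zero ha ha) ha) ?_
        linear_combination e13
      have hx1 : (x : F) = 1 := by
        rw [e14] at ex
        refine mul_right_cancel₀ (mul_ne_zero (mul_ne_zero ha ha) (mul_ne_zero ha ha)) ?_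
        linear_combination ex
      refine ⟨⟨?_, ?_⟩, ?_, ?_⟩
      · refine Units.ext ?_
        rw [Units.val_pow_eq_pow_val, Units.val_one]
        linear_combination e3
      · refine Units.ext ?_
        rw [Units.val_pow_eq_pow_val, Units.val_one, pow_succ, ← hfr, hA1, e14]
        exact e3
      · refine Units.ext ?_
        rw [Units.val_pow_eq_pow_val, eb]
        ring
      · exact Prod.ext (Subtype.ext (Units.ext hx1)) (Subtype.ext (Units.ext (ey.trans e3)))
    · rintro ⟨⟨h3, hq⟩, hb2, he⟩ s hs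
      dsimp only at h3 hq hb2 he
      subst hb2
      have hxe : x = 1 := congrArg (fun p : ↥(fixU S.fr) × ↥(fixU S.fr) => (p.1 : Fˣ)) he
      have hye : y = 1 := congrArg (fun p : ↥(fixU S.fr) × ↥(fixU S.fr) => (p.2 : Fˣ)) he
      subst hxe hye
      have hd : allR chevE6.nroots (fun s => Nat.beq (Nat.mod (Int.natAbs
          (Int.add (Int.add (T.cA 0 s) (Int.mul 2 (T.cA 2 s))) (Int.add (T.cA 4 s) (Int.mul 2 (T.cA 5 s))))) 3) 0) = true := by
        decide +kernel
      simp only [allR_iff, Nat.beq_eq] at hd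
      have hd' : (3 : ℤ) ∣ T.cA 0 s + 2 * T.cA 2 s + (T.cA 4 s + 2 * T.cA 5 s) :=
        Int.natCast_dvd.mpr (Nat.dvd_of_mod_eq_zero (hd s hs))
      obtain ⟨d, hd'⟩ := hd'
      have h3' : (a : F) ^ (3 : ℤ) = 1 := by
        have := congrArg Units.val h3
        rw [Units.val_pow_eq_pow_val, Units.val_one] at this
        rw [show (3 : ℤ) = ((3 : ℕ) : ℤ) from rfl, zpow_natCast, this]
      have ea : S.fr (a : F) = (a : F) ^ (2 : ℤ) := by
        have e3 := congrArg Units.val h3
        have eq := congrArg Units.val hq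
        rw [Units.val_pow_eq_pow_val, Units.val_one] at e3 eq
        rw [hfr, show (2 : ℤ) = ((2 : ℕ) : ℤ) from rfl, zpow_natCast]
        refine mul_right_cancel₀ ha ?_
        rw [← pow_succ, eq, ← pow_succ, e3]
      show ∏ i ∈ Finset.range 6, vec S.fr (a : F) ((a ^ 2 : Fˣ) : F) ((1 : Fˣ) : F) ((1 : Fˣ) : F) i ^ T.cA i s = 1
      rw [prod_range6]
      have eb : ((a ^ 2 : Fˣ) : F) = (a : F) ^ (2 : ℤ) := by
        rw [Units.val_pow_eq_pow_val, show (2 : ℤ) = ((2 : ℕ) : ℤ) from rfl, zpow_natCast]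
      have eb1 : S.fr ((a : F) ^ (2 : ℤ)) = (a : F) ^ (4 : ℤ) := by
        rw [map_zpow₀, ea, ← zpow_mul]; norm_num
      simp only [vec, List.getD_cons_zero, List.getD_cons_succ, eb, eb1, ea, Units.val_one, one_zpow, mul_one,
        ← zpow_mul]
      rw [← zpow_add₀ ha, ← zpow_add₀ ha, ← zpow_add₀ ha]
      rw [show T.cA 0 s + 2 * T.cA 2 s + 4 * T.cA 4 s + 2 * T.cA 5 s = 3 * (d + T.cA 4 s) by
        linear_combination hd', zpow_mul, h3', one_zpow]
  have hker : Nat.card ↥Ψ.ker = Nat.gcd 3 (q + 1) := by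
    have e : ↥Ψ.ker ≃ ↥(powMonoidHom (α := Fˣ) (Nat.gcd 3 (q + 1))).ker :=
      { toFun := fun p => ⟨p.1.1.1, by
          show p.1.1.1 ^ _ = 1
          exact pow_gcd_eq_one.mpr ((hmem p.1).mp p.2).1⟩
        invFun := fun a => ⟨((a.1, a.1 ^ 2), 1), (hmem _).mpr ⟨⟨by
          obtain ⟨d, hd⟩ := Nat.gcd_dvd_left 3 (q + 1)
          show a.1 ^ 3 = 1
          calc a.1 ^ 3 = a.1 ^ (Nat.gcd 3 (q + 1) * d) := congrArg (a.1 ^ ·) hd
            _ = 1 := by rw [pow_mul, show a.1 ^ Nat.gcd 3 (q + 1) = 1 from a.2, one_pow], by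
          obtain ⟨d, hd⟩ := Nat.gcd_dvd_right 3 (q + 1)
          show a.1 ^ (q + 1) = 1
          calc a.1 ^ (q + 1) = a.1 ^ (Nat.gcd 3 (q + 1) * d) := congrArg (a.1 ^ ·) hd
            _ = 1 := by rw [pow_mul, show a.1 ^ Nat.gcd 3 (q + 1) = 1 from a.2, one_pow]⟩, rfl, rfl⟩⟩
        left_inv := fun p => by
          have := (hmem p.1).mp p.2
          exact Subtype.ext (Prod.ext (Prod.ext rfl this.2.1.symm) this.2.2.symm)
        right_inv := fun a => Subtype.ext rfl }
    rw [Nat.card_congr e, IsCyclic.card_powMonoidHom_ker, Nat.card_units, Nat.card_eq_fintype_card (α := F), hF]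
    refine Nat.gcd_eq_right ((Nat.gcd_dvd_right 3 (q + 1)).trans ⟨q - 1, ?_⟩)
    obtain ⟨n, rfl⟩ : ∃ n, q = n + 1 := ⟨q - 1, by omega⟩
    have e : (n + 1) ^ 2 = (n + 1 + 1) * n + 1 := by ring
    rw [e, Nat.add_sub_cancel, Nat.add_sub_cancel]
  have h := card_mul_of_onto Ψ S.H0 hrange
  rw [hker, Nat.card_prod, Nat.card_prod, Nat.card_prod, Nat.card_units, Nat.card_eq_fintype_card (α := F), hF,
    card_fixU hc] at h
  rw [mul_comm, h]
  obtain ⟨n, rfl⟩ : ∃ n, q = n + 1 := ⟨q - 1, by omega⟩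
  have e : (n + 1) ^ 2 = n * (n + 2) + 1 := by ring
  rw [e, Nat.add_sub_cancel, Nat.add_sub_cancel]
  ring

end E6

end Cfsg.Agent.Chev
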