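import Cfsg.Agent.Lib.Chev.Twist

/-!
Fixed points in the positive unipotent subgroup, counted along the filtration by height.
-/

set_option autoImplicit false

namespace Cfsg.Agent.Chev

open Cfsg.Lie

namespace Tw

variable {F : Type*} [Field F] {D : ChevalleyDatum} {T : Tabs} (S : Tw F D T)

include S

/-- Generated by the positive root subgroups of height at least `h`. -/
noncomputable def Lev (h : ℕ) : Subgroup (GL D.Idx F) :=
  Subgroup.closure {x | ∃ (r : ℕ) (t : F), (r < D.nroots ∧ 0 < T.htf r ∧ (h : ℤ) ≤ T.htf r) ∧ x = S.ok.xG r t}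

theorem xG_mem_Lev {h r : ℕ} (hr : r < D.nroots) (h0 : 0 < T.htf r) (hh : (h : ℤ) ≤ T.htf r) (t : F) :
    S.ok.xG r t ∈ S.Lev h := Subgroup.subset_closure ⟨r, t, ⟨hr, h0, hh⟩, rfl⟩

theorem Lev_one : S.Lev 1 = D.posUnipotent F := by
  refine le_antisymm ((Subgroup.closure_le _).mpr ?_) ((Subgroup.closure_le _).mpr ?_)
  · rintro x ⟨r, t, ⟨hr, h0, -⟩, rfl⟩
    exact S.ok.xG_mem_pos (S.ok.isPos_iff.mpr ⟨hr, h0⟩) t
  · rintro x ⟨r, t, hr, hx⟩
    obtain ⟨h1, h2⟩ := S.ok.isPos_iff.mp hr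
    rw [S.ok.eq_xG hx]
    exact S.xG_mem_Lev h1 h2 (by omega) t

theorem Lev_mono {h h' : ℕ} (hh : h ≤ h') : S.Lev h' ≤ S.Lev h :=
  (Subgroup.closure_le _).mpr fun _ ⟨r, t, ⟨hr, h0, h1⟩, e⟩ => e ▸ S.xG_mem_Lev hr h0 (by omega) t

theorem Lev_top {h : ℕ} (hh : D.nroots < h) : S.Lev h = ⊥ := by
  refine eq_bot_iff.mpr ((Subgroup.closure_le _).mpr ?_)
  rintro x ⟨r, t, ⟨hr, h0, h1⟩, -⟩
  have := S.ht_le hr
  omega

theorem Lev_le_uTri (h : ℕ) : S.Lev h ≤ uTri F (hW D T) h := by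
  refine (Subgroup.closure_le _).mpr ?_
  rintro x ⟨r, t, ⟨hr, h0, h1⟩, rfl⟩
  have key : ∀ u : F, Lo (hW D T) h (D.x F r u - 1) := by
    intro u a b hab
    by_contra hne
    obtain ⟨k, hk, e⟩ := S.ok.x_sub_one_support hr u hne
    have : T.htf r ≤ (k : ℤ) * T.htf r := le_mul_of_one_le_left (by omega) (by omega)
    omega
  exact ⟨key t, by rw [OK.xG_inv]; exact key (-t)⟩

theorem sig_Lev {h : ℕ} {x : GL D.Idx F} (hx : x ∈ S.Lev h) : S.sig x ∈ S.Lev h := by
  revert x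
  suffices S.Lev h ≤ (S.Lev h).comap S.sig from fun {x} hx => this hx
  refine (Subgroup.closure_le _).mpr ?_
  rintro x ⟨r, t, ⟨hr, h0, h1⟩, rfl⟩
  rw [SetLike.mem_coe, Subgroup.mem_comap, S.sig_xG hr]
  refine S.xG_mem_Lev (S.gok.per_lt hr) ?_ ?_ _ <;> rw [(S.gok.root_facts hr).2.2.2.2.1] <;> assumption

omit S in
/-- A vector with product one against the coroot coefficients. -/
noncomputable def bvec (D : ChevalleyDatum) (T : Tabs) (r : ℕ) : Fin D.rank → ℤ :=
  Classical.epsilon fun c => ∑ i : Fin D.rank, c i * T.cC r i = 1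

theorem bvec_spec {r : ℕ} (hr : r < D.nroots) : ∑ i : Fin D.rank, bvec D T r i * T.cC r i = 1 := by
  refine Classical.epsilon_spec (p := fun c : Fin D.rank → ℤ => ∑ i, c i * T.cC r i = 1) ?_
  obtain ⟨a, ha, b, hb, x, y, hxy⟩ := S.ok.bezout hr
  refine ⟨Pi.single ⟨a, ha⟩ x + Pi.single ⟨b, hb⟩ y, ?_⟩
  simp only [Pi.add_apply, add_mul, Finset.sum_add_distrib]
  rw [Fintype.sum_eq_single ⟨a, ha⟩ (fun i hi => by simp [Pi.single_eq_of_ne hi]),
    Fintype.sum_eq_single ⟨b, hb⟩ (fun i hi => by simp [Pi.single_eq_of_ne hi]), Pi.single_eq_same, Pi.single_eq_same]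
  exact hxy

/-- The coordinate of an element at a root. -/
noncomputable def lc (r : ℕ) (x : GL D.Idx F) : F :=
  if hr : r < D.nroots then
    ∑ i : Fin D.rank, (bvec D T r i : F) *
      (x : Matrix D.Idx D.Idx F) (Sum.inl i) (Sum.inr ⟨T.neg r, S.ok.neg_lt hr⟩)
  else 0

theorem lc_xG {r s : ℕ} (hr : r < D.nroots) (hs : s < D.nroots) (hne : s ≠ T.neg r) (t : F) :
    S.lc r (S.ok.xG s t) = if s = r then t else 0 := by
  rw [lc, dif_pos hr]
  have h1 : (⟨T.neg r, S.ok.neg_lt hr⟩ : Fin D.nroots) ≠ ⟨s, hs⟩ := fun e => hne (congrArg Fin.val e).symm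
  simp only [OK.coe_xG, ChevalleyDatum.x, dif_pos hs, ChevalleyDatum.xMat, Matrix.of_apply, if_neg h1,
    S.ok.negIdx_eq hs]
  by_cases e : s = r
  · subst e
    simp only [if_pos, S.ok.coroot_eq hr (Fin.isLt _)]
    rw [show ∑ i : Fin D.rank, (bvec D T s i : F) * ((T.cC s i : F) * t) =
      ((∑ i : Fin D.rank, bvec D T s i * T.cC s i : ℤ) : F) * t by push_cast; rw [Finset.sum_mul]; simp [mul_assoc]]
    rw [S.bvec_spec hr, Int.cast_one, one_mul]
  · rw [if_neg e]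
    refine Finset.sum_eq_zero fun i _ => ?_
    rw [if_neg, mul_zero]
    exact fun e' => e (S.neg_inj hr hs e').symm

theorem lc_one (r : ℕ) : S.lc r 1 = 0 := by
  rw [lc]
  split
  · exact Finset.sum_eq_zero fun i _ => by simp
  · rfl

theorem lc_mul {h r : ℕ} (hh : 0 < h) (hr : T.htf r = (h : ℤ)) {x y : GL D.Idx F} (hx : x ∈ S.Lev h) (hy : y ∈ S.Lev h) :
    S.lc r (x * y) = S.lc r x + S.lc r y := by
  rw [lc, lc, lc]
  split
  · rename_i hrn
    rw [← Finset.sum_add_distrib]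
    refine Finset.sum_congr rfl fun i _ => ?_
    rw [← mul_add]
    congr 1
    have hxy := ((S.Lev_le_uTri h hx).1.mul (S.Lev_le_uTri h hy).1) (Sum.inl i) (Sum.inr ⟨T.neg r, S.ok.neg_lt hrn⟩) (by
      simp only [hW, phi, Sum.elim_inl, Sum.elim_inr, Tabs.wt, nlt_iff.mpr i.isLt,
        nlt_false_iff.mpr (Nat.le_add_right D.rank _), Nat.sub_eq, Nat.add_sub_cancel_left, S.ok.ht_neg hrn, hr]
      omega)
    rw [sub_mul, mul_sub, one_mul, mul_one, Matrix.sub_apply, Matrix.sub_apply, Matrix.sub_apply,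
      Matrix.one_apply_ne (by simp), ← Units.val_mul] at hxy
    linear_combination hxy
  · rw [add_zero]

theorem lc_inv {h r : ℕ} (hh : 0 < h) (hr : T.htf r = (h : ℤ)) {x : GL D.Idx F} (hx : x ∈ S.Lev h) :
    S.lc r x⁻¹ = -S.lc r x := by
  have := S.lc_mul hh hr hx (inv_mem hx)
  rw [mul_inv_cancel, S.lc_one] at this
  linear_combination -this

theorem lc_list {h r : ℕ} (hh : 0 < h) (hr : T.htf r = (h : ℤ)) : ∀ {L : List (GL D.Idx F)},
    (∀ x ∈ L, x ∈ S.Lev h) → S.lc r L.prod = (L.map (S.lc r)).sum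
  | [], _ => by simp [S.lc_one]
  | x :: L, hL => by
    have hL' := fun y hy => hL y (List.mem_cons_of_mem _ hy)
    rw [List.prod_cons, S.lc_mul hh hr (hL x List.mem_cons_self) (list_prod_mem hL'), lc_list hh hr hL',
      List.map_cons, List.sum_cons]

theorem lc_sig {h r : ℕ} (hh : 0 < h) (hrn : r < D.nroots) (hr : T.htf r = (h : ℤ)) {x : GL D.Idx F} (hx : x ∈ S.Lev h) :
    S.lc (S.g.per r) (S.sig x) = (S.g.sgn r : F) * S.fr (S.lc r x) := by
  have hp : T.htf (S.g.per r) = (h : ℤ) := by rw [(S.gok.root_facts hrn).2.2.2.2.1, hr]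
  induction hx using Subgroup.closure_induction with
  | mem y hy =>
    obtain ⟨s, t, ⟨hs, h0, h1⟩, rfl⟩ := hy
    rw [S.sig_xG hs, S.lc_xG (S.gok.per_lt hrn) (S.gok.per_lt hs), S.lc_xG hrn hs]
    · by_cases e : s = r
      · rw [if_pos e, if_pos (by rw [e]), e]
      · rw [if_neg e, if_neg (fun e' => e (S.gok.per_inj hs hrn e')), map_zero, mul_zero]
    · intro e; rw [e, S.ok.ht_neg hrn] at h0; omega
    · intro e
      have := congrArg T.htf e
      rw [(S.gok.root_facts hs).2.2.2.2.1, S.ok.ht_neg (S.gok.per_lt hrn), hp] at this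
      omega
  | one => rw [map_one, S.lc_one, S.lc_one, map_zero, mul_zero]
  | mul a b ha hb iha ihb =>
    rw [map_mul, S.lc_mul hh hp (S.sig_Lev ha) (S.sig_Lev hb), iha, ihb, S.lc_mul hh hr ha hb, map_add, mul_add]
  | inv a ha iha =>
    rw [map_inv, S.lc_inv hh hp (S.sig_Lev ha), iha, S.lc_inv hh hr ha, map_neg, mul_neg]

theorem lc_fixed {h r : ℕ} (hh : 0 < h) (hrn : r < D.nroots) (hr : T.htf r = (h : ℤ)) {x : GL D.Idx F}
    (hx : x ∈ S.Lev h) (hf : x ∈ S.Fx) :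
    ∀ j, S.lc (S.g.perI j r) x = (S.g.sgnI j r : F) * S.fr^[j] (S.lc r x)
  | 0 => by
    show S.lc r x = ((1 : ℤ) : F) * S.lc r x
    rw [Int.cast_one, one_mul]
  | j + 1 => by
    have h1 := S.lc_sig hh (S.gok.perI_lt j hrn) (by rw [S.gok.htf_perI j hrn, hr]) hx
    rw [show S.sig x = x from hf, lc_fixed hh hrn hr hx hf j, map_mul, map_intCast, ← mul_assoc, ← Int.cast_mul,
      ← Function.iterate_succ_apply' S.fr] at h1
    exact h1

/-! ### One level -/

/-- The roots of height `h`. -/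
noncomputable def rootsAt (_S : Tw F D T) (h : ℕ) : List ℕ := (List.range D.nroots).filter fun r => ieq (T.htf r) (h : ℤ)

theorem mem_rootsAt {h r : ℕ} : r ∈ S.rootsAt h ↔ r < D.nroots ∧ T.htf r = (h : ℤ) := by
  simp [rootsAt]

theorem Lev_comm_gen {h r s : ℕ} (hh : 0 < h) (hr : r < D.nroots) (hr1 : (h : ℤ) ≤ T.htf r) (hs : s < D.nroots)
    (hs1 : (h : ℤ) ≤ T.htf s) (t u : F) :
    (S.ok.xG s u * S.ok.xG r t)⁻¹ * (S.ok.xG r t * S.ok.xG s u) ∈ S.Lev (h + 1) := by
  by_cases e : s = r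
  · subst e
    rw [OK.xG_mul, OK.xG_mul, add_comm u t, inv_mul_cancel]
    exact one_mem _
  have h2 : s ≠ D.neg r := by
    rw [S.ok.neg_eq hr]; intro e'; rw [e', S.ok.ht_neg hr] at hs1; omega
  have hc : S.ok.xG s u * S.ok.xG r t = S.ok.xG r t * S.ok.xG s u * S.ok.wordG (D.commWord F r s t u) := by
    refine Units.ext ?_
    rw [Units.val_mul, Units.val_mul, Units.val_mul, OK.coe_wordG]
    exact S.ok.comm hr hs e h2 t u
  rw [hc, mul_inv_rev, inv_mul_cancel_right]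
  refine inv_mem (list_prod_mem fun x hx => ?_)
  obtain ⟨p, hp, rfl⟩ := List.mem_map.mp hx
  simp only [ChevalleyDatum.commWord, S.ok.terms_eq hr hs, List.mem_map] at hp
  obtain ⟨q, hq, rfl⟩ := hp
  obtain ⟨q1, q2, q3, q4⟩ := S.ok.term_spec hr hs hq
  have hA : T.htf r ≤ (q.2.2.1 : ℤ) * T.htf r := le_mul_of_one_le_left (by omega) (by omega)
  have hB : T.htf s ≤ (q.2.2.2 : ℤ) * T.htf s := le_mul_of_one_le_left (by omega) (by omega)
  exact S.xG_mem_Lev q1 (by omega) (by push_cast; omega) _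

theorem Lev_normal {h : ℕ} (hh : 0 < h) : ((S.Lev (h + 1)).subgroupOf (S.Lev h)).Normal := by
  rw [Subgroup.normal_subgroupOf_iff_le_normalizer (S.Lev_mono (Nat.le_succ h))]
  refine (Subgroup.closure_le _).mpr ?_
  rintro x ⟨r, t, ⟨hr, h0, h1⟩, rfl⟩
  refine S.okx.normalizes_of_gen ?_ ?_
  · rintro y ⟨s, u, ⟨hs, hs0, hs1⟩, rfl⟩
    have hy : S.ok.xG s u ∈ S.Lev (h + 1) := S.xG_mem_Lev hs hs0 hs1 u
    have := S.Lev_comm_gen hh hs (t := u) (u := -t) (by push_cast at hs1; omega) hr h1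
    rw [← OK.xG_inv] at this
    have h2 := mul_mem hy this
    have e : S.ok.xG s u * (((S.ok.xG r t)⁻¹ * S.ok.xG s u)⁻¹ * (S.ok.xG s u * (S.ok.xG r t)⁻¹)) =
        S.ok.xG r t * S.ok.xG s u * (S.ok.xG r t)⁻¹ * 1 := by simp [mul_assoc]
    rw [e, mul_one] at h2
    exact h2
  · rintro y ⟨s, u, ⟨hs, hs0, hs1⟩, rfl⟩
    have hy : S.ok.xG s u ∈ S.Lev (h + 1) := S.xG_mem_Lev hs hs0 hs1 u
    have := S.Lev_comm_gen hh hs (t := u) (u := t) (by push_cast at hs1; omega) hr h1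
    have h2 := mul_mem hy this
    have e : S.ok.xG s u * ((S.ok.xG r t * S.ok.xG s u)⁻¹ * (S.ok.xG s u * S.ok.xG r t)) =
        (S.ok.xG r t)⁻¹ * S.ok.xG s u * S.ok.xG r t := by simp [mul_assoc]
    rw [e] at h2
    exact h2

theorem mem_Lev_succ {h : ℕ} (hh : 0 < h) {x : GL D.Idx F} (hx : x ∈ S.Lev h)
    (h0 : ∀ r ∈ S.rootsAt h, S.lc r x = 0) : x ∈ S.Lev (h + 1) := by
  have hN := S.Lev_normal hh
  set N := (S.Lev (h + 1)).subgroupOf (S.Lev h)
  let π : ↥(S.Lev h) →* ↥(S.Lev h) ⧸ N := QuotientGroup.mk' N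
  have hgen : ∀ r ∈ S.rootsAt h, ∀ t : F, S.ok.xG r t ∈ S.Lev h := fun r hr t => by
    obtain ⟨h1, h2⟩ := S.mem_rootsAt.mp hr
    exact S.xG_mem_Lev h1 (by omega) (by omega) t
  have hcomm : ∀ a b : ↥(S.Lev h), π a * π b = π b * π a := by
    have key : ∀ a (ha : a ∈ S.Lev h) b (hb : b ∈ S.Lev h), π ⟨a, ha⟩ * π ⟨b, hb⟩ = π ⟨b, hb⟩ * π ⟨a, ha⟩ := by
      intro a ha
      induction ha using Subgroup.closure_induction with
      | mem a ha =>
        intro b hb
        induction hb using Subgroup.closure_induction with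
        | mem b hb =>
          obtain ⟨r, t, ⟨hr, hr0, hr1⟩, rfl⟩ := ha
          obtain ⟨s, u, ⟨hs, hs0, hs1⟩, rfl⟩ := hb
          rw [← map_mul, ← map_mul]
          refine (QuotientGroup.eq.mpr ?_).symm
          rw [Subgroup.mem_subgroupOf]
          exact S.Lev_comm_gen hh hr hr1 hs hs1 t u
        | one => rw [show (⟨1, one_mem _⟩ : ↥(S.Lev h)) = 1 from rfl, map_one, mul_one, one_mul]
        | mul p q hp hq ihp ihq =>
          rw [show (⟨p * q, mul_mem hp hq⟩ : ↥(S.Lev h)) = ⟨p, hp⟩ * ⟨q, hq⟩ from rfl, map_mul, ← mul_assoc, ihp,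
            mul_assoc, ihq, mul_assoc]
        | inv p hp ihp =>
          rw [show (⟨p⁻¹, inv_mem hp⟩ : ↥(S.Lev h)) = ⟨p, hp⟩⁻¹ from rfl, map_inv]
          exact (Commute.inv_right ihp).eq
      | one => intro b hb; rw [show (⟨1, one_mem _⟩ : ↥(S.Lev h)) = 1 from rfl, map_one, mul_one, one_mul]
      | mul p q hp hq ihp ihq =>
        intro b hb
        rw [show (⟨p * q, mul_mem hp hq⟩ : ↥(S.Lev h)) = ⟨p, hp⟩ * ⟨q, hq⟩ from rfl, map_mul, mul_assoc, ihq,
          ← mul_assoc, ihp, mul_assoc]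
      | inv p hp ihp =>
        intro b hb
        rw [show (⟨p⁻¹, inv_mem hp⟩ : ↥(S.Lev h)) = ⟨p, hp⟩⁻¹ from rfl, map_inv]
        exact (Commute.inv_left (ihp b hb)).eq
    exact fun a b => key a.1 a.2 b.1 b.2
  let P : (ℕ → F) → ↥(S.Lev h) := fun f =>
    ((S.rootsAt h).attach.map fun r => (⟨S.ok.xG r.1 (f r.1), hgen r.1 r.2 _⟩ : ↥(S.Lev h))).prod
  have hcc : ∀ (L : List {r // r ∈ S.rootsAt h}) (f f' : ℕ → F),
      π ((L.map fun r => (⟨S.ok.xG r.1 (f r.1 + f' r.1), hgen r.1 r.2 _⟩ : ↥(S.Lev h))).prod) =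
        π ((L.map fun r => (⟨S.ok.xG r.1 (f r.1), hgen r.1 r.2 _⟩ : ↥(S.Lev h))).prod) *
          π ((L.map fun r => (⟨S.ok.xG r.1 (f' r.1), hgen r.1 r.2 _⟩ : ↥(S.Lev h))).prod) := by
    intro L f f'
    induction L with
    | nil => simp
    | cons a L ih =>
      simp only [List.map_cons, List.prod_cons, map_mul, ih]
      rw [show (⟨S.ok.xG a.1 (f a.1 + f' a.1), hgen a.1 a.2 _⟩ : ↥(S.Lev h)) =
        ⟨S.ok.xG a.1 (f a.1), hgen a.1 a.2 _⟩ * ⟨S.ok.xG a.1 (f' a.1), hgen a.1 a.2 _⟩ from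
          Subtype.ext (S.ok.xG_mul _ _ _).symm, map_mul]
      simp only [mul_assoc]
      congr 1
      rw [← mul_assoc, hcomm, mul_assoc]
  have hzero : π (P fun _ => 0) = 1 := by
    rw [show P (fun _ => 0) = 1 from List.prod_eq_one fun y hy => by
      obtain ⟨r, -, rfl⟩ := List.mem_map.mp hy
      exact Subtype.ext (S.ok.xG_zero r.1), map_one]
  have key : ∀ y (hy : y ∈ S.Lev h), π ⟨y, hy⟩ = π (P fun r => S.lc r y) := by
    intro y hy
    induction hy using Subgroup.closure_induction with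
    | mem y hy =>
      obtain ⟨s, t, ⟨hs, hs0, hs1⟩, rfl⟩ := hy
      have hlc : ∀ r : {r // r ∈ S.rootsAt h}, S.lc r.1 (S.ok.xG s t) = if s = r.1 then t else 0 := by
        rintro ⟨r, hr⟩
        obtain ⟨h1, h2⟩ := S.mem_rootsAt.mp hr
        exact S.lc_xG h1 hs (fun e => by rw [e, S.ok.ht_neg h1] at hs0; omega) t
      by_cases e : s ∈ S.rootsAt h
      · have : P (fun r => S.lc r (S.ok.xG s t)) = ⟨S.ok.xG s t, hgen s e t⟩ := by
          have hnd : (S.rootsAt h).attach.Nodup := List.nodup_attach.mpr (List.nodup_range.filter _)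
          obtain ⟨a, b, hab⟩ := List.append_of_mem (List.mem_attach (S.rootsAt h) ⟨s, e⟩)
          show List.prod _ = _
          rw [hab] at hnd ⊢
          rw [List.map_append, List.prod_append, List.map_cons, List.prod_cons]
          have hz : ∀ L : List {r // r ∈ S.rootsAt h}, (⟨s, e⟩ : {r // r ∈ S.rootsAt h}) ∉ L →
              (L.map fun r => (⟨S.ok.xG r.1 (S.lc r.1 (S.ok.xG s t)), hgen r.1 r.2 _⟩ : ↥(S.Lev h))).prod = 1 := by
            intro L hL
            refine List.prod_eq_one fun y hy => ?_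
            obtain ⟨r, hr, rfl⟩ := List.mem_map.mp hy
            refine Subtype.ext ?_
            show S.ok.xG r.1 (S.lc r.1 (S.ok.xG s t)) = 1
            rw [hlc, if_neg (fun e' => hL (by rw [show (⟨s, e⟩ : {r // r ∈ S.rootsAt h}) = r from Subtype.ext e']; exact hr)),
              OK.xG_zero]
          rw [List.nodup_append, List.nodup_cons] at hnd
          rw [hz a (fun hm => hnd.2.2 _ hm _ List.mem_cons_self rfl), hz b hnd.2.1.1, one_mul, mul_one]
          exact Subtype.ext (show S.ok.xG s (S.lc s (S.ok.xG s t)) = S.ok.xG s t by rw [hlc ⟨s, e⟩, if_pos rfl])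
        rw [this]
      · have hP : P (fun r => S.lc r (S.ok.xG s t)) = P (fun _ => 0) := by
          show List.prod _ = List.prod _
          refine congrArg List.prod (List.map_congr_left fun r _ => Subtype.ext ?_)
          show S.ok.xG r.1 (S.lc r.1 (S.ok.xG s t)) = S.ok.xG r.1 0
          rw [hlc, if_neg (fun e' => e (by rw [e']; exact r.2))]
        rw [hP, hzero, ← map_one π]
        refine QuotientGroup.eq.mpr ?_
        rw [Subgroup.mem_subgroupOf, Subgroup.coe_mul, Subgroup.coe_inv, Subgroup.coe_one, mul_one]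
        refine inv_mem (S.xG_mem_Lev hs hs0 ?_ t)
        have : T.htf s ≠ (h : ℤ) := fun e' => e (S.mem_rootsAt.mpr ⟨hs, e'⟩)
        push_cast; omega
    | one =>
      rw [show (fun r => S.lc r (1 : GL D.Idx F)) = fun _ => 0 from funext S.lc_one, hzero]
      exact map_one π
    | mul p q hp hq ihp ihq =>
      rw [show (⟨p * q, mul_mem hp hq⟩ : ↥(S.Lev h)) = ⟨p, hp⟩ * ⟨q, hq⟩ from rfl, map_mul, ihp, ihq]
      refine (hcc _ (fun r => S.lc r p) (fun r => S.lc r q)).symm.trans ?_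
      show π (List.prod _) = π (List.prod _)
      refine congrArg π (congrArg List.prod (List.map_congr_left fun r _ => Subtype.ext ?_))
      show S.ok.xG r.1 (S.lc r.1 p + S.lc r.1 q) = S.ok.xG r.1 (S.lc r.1 (p * q))
      rw [S.lc_mul hh (S.mem_rootsAt.mp r.2).2 hp hq]
    | inv p hp ihp =>
      rw [show (⟨p⁻¹, inv_mem hp⟩ : ↥(S.Lev h)) = ⟨p, hp⟩⁻¹ from rfl, map_inv, ihp, inv_eq_iff_mul_eq_one]
      refine (hcc _ (fun r => S.lc r p) (fun r => S.lc r p⁻¹)).symm.trans (Eq.trans ?_ hzero)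
      show π (List.prod _) = π (List.prod _)
      refine congrArg π (congrArg List.prod (List.map_congr_left fun r _ => Subtype.ext ?_))
      show S.ok.xG r.1 (S.lc r.1 p + S.lc r.1 p⁻¹) = S.ok.xG r.1 0
      rw [S.lc_inv hh (S.mem_rootsAt.mp r.2).2 hp, add_neg_cancel]
  have h1 := key x hx
  rw [show P (fun r => S.lc r x) = P (fun _ => 0) from congrArg List.prod
    (List.map_congr_left fun r _ => Subtype.ext (show S.ok.xG r.1 (S.lc r.1 x) = S.ok.xG r.1 0 by rw [h0 r.1 r.2])), hzero] at h1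
  exact Subgroup.mem_subgroupOf.mp ((QuotientGroup.eq_one_iff (N := N) _).mp h1)

/-! ### Admissible subgroups -/

/-- A subgroup of the positive unipotent subgroup described by a stable set of roots. -/
structure Adm (S : Tw F D T) (Q : Subgroup (GL D.Idx F)) (P : ℕ → Prop) : Prop where
  pos : ∀ r, P r → r < D.nroots ∧ 0 < T.htf r
  mem : ∀ r, P r → ∀ t : F, S.ok.xG r t ∈ Q
  per : ∀ r < D.nroots, (P (S.g.per r) ↔ P r)
  zero : ∀ (h : ℕ) (x : GL D.Idx F), x ∈ Q → x ∈ S.Lev h → ∀ r ∈ S.rootsAt h, ¬ P r → 0 < h → S.lc r x = 0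
  le : Q ≤ D.posUnipotent F

variable {Q : Subgroup (GL D.Idx F)} {P : ℕ → Prop}

theorem Adm.perI (hA : S.Adm Q P) : ∀ (j : ℕ) {r : ℕ}, r < D.nroots → (P (S.g.perI j r) ↔ P r)
  | 0, _, _ => Iff.rfl
  | j + 1, r, hr => (hA.per _ (S.gok.perI_lt j hr)).trans (Adm.perI hA j hr)

theorem rep_unique {r r' j : ℕ} (hr' : r' < D.nroots) (h1 : S.g.repB r = true) (h2 : S.g.repB r' = true)
    (hj : j < S.g.mR r') (e : S.g.perI j r' = r) : r' = r ∧ j = 0 := by
  have hjk := lt_of_lt_of_le hj (S.mR_le r')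
  rcases Nat.eq_zero_or_pos j with rfl | hj0
  · exact ⟨e, rfl⟩
  exfalso
  simp only [GTab.repB, allR_iff, Nat.ble_eq] at h1 h2
  have e1 := h2 j hjk
  have e2 := h1 (S.g.k - j) (by omega)
  rw [← e, ← GOK.perI_add, Nat.sub_add_cancel hjk.le, (S.gok.root_facts hr').2.2.2.2.2.1] at e2
  rw [e] at e1
  exact (S.orbit_facts hr' hj0 hj).1 (by omega)

theorem exists_orbit {r : ℕ} (hr : r < D.nroots) :
    ∃ s j, s < D.nroots ∧ S.g.repB s = true ∧ j < S.g.mR s ∧ S.g.perI j s = r := by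
  obtain ⟨j, hj, hrep⟩ := S.exists_rep hr
  have hs := S.gok.perI_lt j hr
  rcases S.mR_cases r with h | h
  · have : ∀ i, S.g.perI i r = r := by
      intro i
      induction i with
      | zero => rfl
      | succ i ih => show S.g.per (S.g.perI i r) = r; rw [ih, h.1]
    refine ⟨r, 0, hr, ?_, S.mR_pos r, rfl⟩
    rwa [this j] at hrep
  · refine ⟨_, (S.g.k - j) % S.g.k, hs, hrep, ?_, ?_⟩
    · rw [S.mR_perI j hr, h.2]; exact Nat.mod_lt _ S.gok.k_pos
    · rcases Nat.eq_zero_or_pos j with rfl | hj0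
      · rw [Nat.sub_zero, Nat.mod_self]; rfl
      · rw [Nat.mod_eq_of_lt (by omega), ← GOK.perI_add, Nat.sub_add_cancel hj.le,
          (S.gok.root_facts hr).2.2.2.2.2.1]

open scoped Classical in
/-- The representatives of the orbits of height `h` in the set. -/
noncomputable def repsAt (P : ℕ → Prop) (h : ℕ) : Finset ℕ :=
  (Finset.range D.nroots).filter fun r => T.htf r = (h : ℤ) ∧ S.g.repB r = true ∧ P r

theorem mem_repsAt {h r : ℕ} :
    r ∈ S.repsAt P h ↔ r < D.nroots ∧ T.htf r = (h : ℤ) ∧ S.g.repB r = true ∧ P r := by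
  simp [repsAt]

theorem oel_mem_adm (hA : S.Adm Q P) {h r : ℕ} (hr : r < D.nroots) (hh : 0 < h) (he : T.htf r = (h : ℤ)) (hP : P r)
    {t : F} (ht : S.Sol r t) : S.oel r t ∈ Q ⊓ S.G1 ⊓ S.Lev h := by
  refine ⟨⟨?_, S.oel_mem hr ht⟩, ?_⟩
  all_goals
    refine list_prod_mem fun x hx => ?_
    obtain ⟨j, -, rfl⟩ := List.mem_map.mp hx
    rw [S.sigI_xG j hr]
  · exact hA.mem _ ((Adm.perI S hA j hr).mpr hP) _
  · refine S.xG_mem_Lev (S.gok.perI_lt j hr) ?_ ?_ _ <;> rw [S.gok.htf_perI j hr, he] <;> omega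

theorem lc_oel {h r r' : ℕ} (hh : 0 < h) (hr : r < D.nroots) (he : T.htf r = (h : ℤ)) (hrep : S.g.repB r = true)
    (hr' : r' < D.nroots) (he' : T.htf r' = (h : ℤ)) (hrep' : S.g.repB r' = true) (t : F) :
    S.lc r (S.oel r' t) = if r' = r then t else 0 := by
  rw [oel, orbP, S.lc_list hh he (fun x hx => by
    obtain ⟨j, -, rfl⟩ := List.mem_map.mp hx
    rw [S.sigI_xG j hr']
    refine S.xG_mem_Lev (S.gok.perI_lt j hr') ?_ ?_ _ <;> rw [S.gok.htf_perI j hr', he'] <;> omega)]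
  rw [List.map_map, ← List.sum_toFinset _ List.nodup_range, List.toFinset_range]
  rw [Finset.sum_eq_single 0]
  · show S.lc r (S.ok.xG r' t) = _
    exact S.lc_xG hr hr' (fun e => by rw [e, S.ok.ht_neg hr] at he'; omega) t
  · intro j hj hj0
    rw [Function.comp_apply, S.sigI_xG j hr', S.lc_xG hr (S.gok.perI_lt j hr'), if_neg]
    · exact fun e => hj0 (S.rep_unique hr' hrep hrep' (Finset.mem_range.mp hj) e).2
    · intro e
      have := congrArg T.htf e
      rw [S.gok.htf_perI j hr', he', S.ok.ht_neg hr, he] at this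
      omega
  · intro h0; exact absurd (Finset.mem_range.mpr (S.mR_pos r')) h0

theorem exists_lift (hA : S.Adm Q P) {h : ℕ} (hh : 0 < h) (f : ℕ → F) (hf : ∀ r ∈ S.repsAt P h, S.Sol r (f r)) :
    ∃ x ∈ Q ⊓ S.G1 ⊓ S.Lev h, ∀ r ∈ S.repsAt P h, S.lc r x = f r := by
  have hmem : ∀ x ∈ ((S.repsAt P h).toList.map fun r => S.oel r (f r)), x ∈ Q ⊓ S.G1 ⊓ S.Lev h := by
    intro x hx
    obtain ⟨r, hr, rfl⟩ := List.mem_map.mp hx
    have hr := Finset.mem_toList.mp hr
    obtain ⟨h1, h2, -, h4⟩ := S.mem_repsAt.mp hr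
    exact S.oel_mem_adm hA h1 hh h2 h4 (hf r hr)
  refine ⟨_, list_prod_mem hmem, fun r hr => ?_⟩
  obtain ⟨h1, h2, h3, -⟩ := S.mem_repsAt.mp hr
  rw [S.lc_list hh h2 (fun x hx => (Subgroup.mem_inf.mp (hmem x hx)).2), List.map_map,
    ← List.sum_toFinset _ (Finset.nodup_toList _), Finset.toList_toFinset, Finset.sum_eq_single r]
  · rw [Function.comp_apply, S.lc_oel hh h1 h2 h3 h1 h2 h3, if_pos rfl]
  · intro s hs hne
    obtain ⟨s1, s2, s3, -⟩ := S.mem_repsAt.mp hs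
    rw [Function.comp_apply, S.lc_oel hh h1 h2 h3 s1 s2 s3, if_neg hne]
  · intro h0; exact absurd hr h0

theorem mem_succ_of_reps (hA : S.Adm Q P) {h : ℕ} (hh : 0 < h) {x : GL D.Idx F} (hQ : x ∈ Q) (hF : x ∈ S.Fx)
    (hL : x ∈ S.Lev h) (h0 : ∀ r ∈ S.repsAt P h, S.lc r x = 0) : x ∈ S.Lev (h + 1) := by
  refine S.mem_Lev_succ hh hL fun r hr => ?_
  by_cases hP : P r
  swap
  · exact hA.zero h x hQ hL r hr hP hh
  obtain ⟨hr1, hr2⟩ := S.mem_rootsAt.mp hr
  obtain ⟨s, j, hs, hrep, hj, rfl⟩ := S.exists_orbit hr1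
  rw [S.gok.htf_perI j hs] at hr2
  rw [S.lc_fixed hh hs hr2 hL hF j, h0 s (S.mem_repsAt.mpr ⟨hs, hr2, hrep, (Adm.perI S hA j hs).mp hP⟩),
    show S.fr^[j] (0 : F) = 0 from Function.iterate_fixed (map_zero S.fr) j, mul_zero]

theorem adm_le_G1 (hA : S.Adm Q P) : Q ⊓ S.Fx ≤ S.G1 := by
  suffices h : ∀ (n h : ℕ), D.nroots < h + n → 0 < h → Q ⊓ S.Fx ⊓ S.Lev h ≤ S.G1 by
    intro x hx
    refine h (D.nroots + 1) 1 (by omega) Nat.one_pos ⟨hx, ?_⟩
    rw [S.Lev_one]; exact hA.le hx.1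
  intro n
  induction n with
  | zero =>
    intro h hn _ x hx
    have := hx.2
    rw [S.Lev_top (by omega)] at this
    rw [Subgroup.mem_bot.mp this]; exact one_mem _
  | succ n ih =>
    rintro h hn hh x ⟨⟨hQ, hF⟩, hL⟩
    obtain ⟨p, hp, hpe⟩ := S.exists_lift hA hh (fun r => S.lc r x) (fun r hr e => by
      obtain ⟨h1, h2, -, -⟩ := S.mem_repsAt.mp hr
      have h3 := S.lc_sig hh h1 h2 hL
      rw [show S.sig x = x from hF, e, (S.gok.root_facts h1).2.2.2.2.2.2.2.1 e, Int.cast_one, one_mul] at h3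
      exact h3.symm)
    obtain ⟨⟨hp1, hp2⟩, hp3⟩ := hp
    have hy : p⁻¹ * x ∈ S.Lev (h + 1) := by
      refine S.mem_succ_of_reps hA hh (mul_mem (inv_mem hp1) hQ) (mul_mem (inv_mem (S.G1_le_Fx hp2)) hF)
        (mul_mem (inv_mem hp3) hL) fun r hr => ?_
      have h2 := (S.mem_repsAt.mp hr).2.1
      rw [S.lc_mul hh h2 (inv_mem hp3) hL, S.lc_inv hh h2 hp3, hpe r hr, neg_add_cancel]
    have hQ' : p⁻¹ * x ∈ Q := mul_mem (inv_mem hp1) hQ
    have hF' : p⁻¹ * x ∈ S.Fx := mul_mem (inv_mem (S.G1_le_Fx hp2)) hF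
    have := mul_mem hp2 (ih (h + 1) (by omega) (by omega) ⟨⟨hQ', hF'⟩, hy⟩)
    rwa [mul_inv_cancel_left] at this

theorem adm_inf_eq (hA : S.Adm Q P) : Q ⊓ S.G1 = Q ⊓ S.Fx :=
  le_antisymm (inf_le_inf_left _ S.G1_le_Fx) (le_inf inf_le_left (S.adm_le_G1 hA))

open scoped Classical in
theorem card_adm [Fintype F] {q : ℕ} (hqf : Nat.card {x : F // S.fr x = x} = q)
    (hqF : Fintype.card F = q ^ S.g.k) (hA : S.Adm Q P) :
    Nat.card ↥(Q ⊓ S.Fx) = q ^ ((Finset.range D.nroots).filter P).card := by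
  have : Finite (GL D.Idx F) := Finite.of_injective _ Units.val_injective
  suffices h : ∀ (n h : ℕ), D.nroots < h + n → 0 < h → Nat.card ↥(Q ⊓ S.Fx ⊓ S.Lev h) =
      q ^ ((Finset.range D.nroots).filter fun r => P r ∧ (h : ℤ) ≤ T.htf r).card by
    have h1 := h (D.nroots + 1) 1 (by omega) Nat.one_pos
    rw [S.Lev_one, inf_eq_left.mpr (inf_le_left.trans hA.le)] at h1
    rw [h1]
    congr 2
    refine Finset.filter_congr fun r _ => ⟨And.left, fun hP => ⟨hP, ?_⟩⟩
    have := (hA.pos r hP).2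
    omega
  intro n
  induction n with
  | zero =>
    intro h hn _
    rw [S.Lev_top (by omega), inf_bot_eq, Subgroup.card_bot, Finset.card_eq_zero.mpr, pow_zero]
    refine Finset.filter_eq_empty_iff.mpr fun r hr hc => ?_
    have := S.ht_le (Finset.mem_range.mp hr)
    omega
  | succ n ih =>
    intro h hn hh
    set A := Q ⊓ S.Fx ⊓ S.Lev h with hAdef
    set R := S.repsAt P h
    have hRh : ∀ r : ↥R, T.htf r.1 = (h : ℤ) := fun r => (S.mem_repsAt.mp r.2).2.1
    let Φ : ↥A →* Multiplicative (↥R → F) := MonoidHom.mk' (fun x => Multiplicative.ofAdd fun r => S.lc r.1 x.1)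
      fun x y => congrArg Multiplicative.ofAdd (funext fun r => S.lc_mul hh (hRh r) x.2.2 y.2.2)
    have hker : Φ.ker = (Q ⊓ S.Fx ⊓ S.Lev (h + 1)).subgroupOf A := by
      ext x
      rw [MonoidHom.mem_ker, Subgroup.mem_subgroupOf]
      constructor
      · intro hx
        refine ⟨x.2.1, S.mem_succ_of_reps hA hh x.2.1.1 x.2.1.2 x.2.2 fun r hr => ?_⟩
        exact congrFun (congrArg Multiplicative.toAdd hx) ⟨r, hr⟩
      · intro hx
        refine congrArg Multiplicative.ofAdd (funext fun r => ?_)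
        obtain ⟨h1, h2, -, -⟩ := S.mem_repsAt.mp r.2
        have hx2 : (x : GL D.Idx F) ∈ S.Lev (h + 1) := hx.2
        show S.lc r.1 (x : GL D.Idx F) = 0
        generalize (x : GL D.Idx F) = y at hx2
        induction hx2 using Subgroup.closure_induction with
        | mem z hz =>
          obtain ⟨s, t, ⟨hs, hs0, hs1⟩, rfl⟩ := hz
          rw [S.lc_xG h1 hs (fun e => by rw [e, S.ok.ht_neg h1] at hs0; omega), if_neg]
          intro e; rw [e, h2] at hs1; omega
        | one => exact S.lc_one _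
        | mul a b ha hb iha ihb =>
          rw [S.lc_mul hh h2 (S.Lev_mono (Nat.le_succ h) ha) (S.Lev_mono (Nat.le_succ h) hb), iha, ihb, add_zero]
        | inv a ha iha => rw [S.lc_inv hh h2 (S.Lev_mono (Nat.le_succ h) ha), iha, neg_zero]
    have hcardR : Nat.card ↥Φ.range = q ^ ∑ r ∈ R, S.g.mR r := by
      have hrange : ∀ f : ↥R → F, Multiplicative.ofAdd f ∈ Φ.range ↔ ∀ r, S.Sol r.1 (f r) := by
        intro f
        constructor
        · rintro ⟨x, hx⟩ r e
          obtain ⟨h1, h2, -, -⟩ := S.mem_repsAt.mp r.2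
          have hx' : S.lc r.1 (x : GL D.Idx F) = f r := congrFun (congrArg Multiplicative.toAdd hx) r
          have h3 := S.lc_sig hh h1 h2 x.2.2
          rw [show S.sig (x : GL D.Idx F) = x from x.2.1.2, e, (S.gok.root_facts h1).2.2.2.2.2.2.2.1 e,
            Int.cast_one, one_mul, hx'] at h3
          exact h3.symm
        · intro hf
          obtain ⟨p, hp, hpe⟩ := S.exists_lift hA hh (fun r => if hr : r ∈ R then f ⟨r, hr⟩ else 0)
            (fun r hr => by rw [dif_pos hr]; exact hf ⟨r, hr⟩)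
          refine ⟨⟨p, ⟨hp.1.1, S.G1_le_Fx hp.1.2⟩, hp.2⟩, congrArg Multiplicative.ofAdd (funext fun r => ?_)⟩
          show S.lc r.1 p = f r
          rw [hpe r.1 r.2, dif_pos r.2]
      have e1 : Nat.card ↥Φ.range = Nat.card {f : ↥R → F // ∀ r, S.Sol r.1 (f r)} :=
        Nat.card_congr (Equiv.subtypeEquiv Multiplicative.toAdd fun x => hrange (Multiplicative.toAdd x))
      rw [e1, Nat.card_congr (Equiv.subtypePiEquivPi (p := fun (r : ↥R) (x : F) => S.Sol r.1 x)), Nat.card_pi,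
        ← Finset.prod_pow_eq_pow_sum, ← Finset.prod_coe_sort R]
      refine Finset.prod_congr rfl fun r _ => ?_
      rcases S.mR_cases r.1 with hc | hc
      · rw [hc.2, pow_one, ← hqf]
        exact Nat.card_congr (Equiv.subtypeEquivRight fun x => ⟨fun h => h hc.1, fun h _ => h⟩)
      · rw [hc.2, ← hqF, ← Nat.card_eq_fintype_card]
        exact Nat.card_congr (Equiv.subtypeUnivEquiv fun x => fun e => absurd e hc.1)
    have hsum : ∑ r ∈ R, S.g.mR r = ((Finset.range D.nroots).filter fun r => P r ∧ T.htf r = (h : ℤ)).card := by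
      have : ((R.sigma fun r => Finset.range (S.g.mR r))).card =
          ((Finset.range D.nroots).filter fun r => P r ∧ T.htf r = (h : ℤ)).card := by
        refine Finset.card_bij (fun p _ => S.g.perI p.2 p.1) ?_ ?_ ?_
        · rintro ⟨r, j⟩ hp
          rw [Finset.mem_sigma] at hp
          obtain ⟨h1, h2, -, h4⟩ := S.mem_repsAt.mp hp.1
          simp only [Finset.mem_filter, Finset.mem_range]
          exact ⟨S.gok.perI_lt j h1, (Adm.perI S hA j h1).mpr h4, by rw [S.gok.htf_perI j h1, h2]⟩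
        · rintro ⟨r, j⟩ hp ⟨r', j'⟩ hp' e
          rw [Finset.mem_sigma, Finset.mem_range] at hp hp'
          obtain ⟨h1, -, h3, -⟩ := S.mem_repsAt.mp hp.1
          obtain ⟨h1', -, h3', -⟩ := S.mem_repsAt.mp hp'.1
          dsimp only at e hp hp' h1 h1' h3 h3'
          rcases le_total j j' with hle | hle
          · rw [show j' = j + (j' - j) by omega, GOK.perI_add] at e
            have e' := S.gok.perI_inj j h1 (S.gok.perI_lt _ h1') e
            obtain ⟨rfl, hz⟩ := S.rep_unique h1' h3 h3' (by omega) e'.symm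
            rw [show j = j' by omega]
          · rw [show j = j' + (j - j') by omega, GOK.perI_add] at e
            have e' := S.gok.perI_inj j' (S.gok.perI_lt _ h1) h1' e
            obtain ⟨rfl, hz⟩ := S.rep_unique h1 h3' h3 (by omega) e'
            rw [show j = j' by omega]
        · intro r hr
          simp only [Finset.mem_filter, Finset.mem_range] at hr
          obtain ⟨hr1, hP, hh'⟩ := hr
          obtain ⟨s, j, hs, hrep, hj, rfl⟩ := S.exists_orbit hr1
          rw [S.gok.htf_perI j hs] at hh'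
          exact ⟨⟨s, j⟩, Finset.mem_sigma.mpr ⟨S.mem_repsAt.mpr ⟨hs, hh', hrep, (Adm.perI S hA j hs).mp hP⟩,
            Finset.mem_range.mpr hj⟩, rfl⟩
      rw [← this, Finset.card_sigma]
      simp
    rw [← Φ.ker.card_mul_index, Subgroup.index_ker, hker,
      Nat.card_congr (Subgroup.subgroupOfEquivOfLe (show Q ⊓ S.Fx ⊓ S.Lev (h + 1) ≤ A from
        inf_le_inf_left _ (S.Lev_mono (Nat.le_succ h)))).toEquiv, ih (h + 1) (by omega) (by omega), hcardR, hsum,
      ← pow_add]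
    congr 1
    rw [← Finset.card_union_of_disjoint]
    · refine congrArg Finset.card ?_
      ext r
      simp only [Finset.mem_union, Finset.mem_filter, Finset.mem_range]
      constructor
      · rintro (⟨h1, h2, h3⟩ | ⟨h1, h2, h3⟩) <;> exact ⟨h1, h2, by push_cast at *; omega⟩
      · rintro ⟨h1, h2, h3⟩
        by_cases e : T.htf r = (h : ℤ)
        · exact Or.inr ⟨h1, h2, e⟩
        · exact Or.inl ⟨h1, h2, by push_cast; omega⟩
    · refine Finset.disjoint_filter.mpr fun r _ h1 h2 => ?_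
      push_cast at h1
      omega

/-! ### The whole unipotent group and the subgroups of words -/

theorem adm_pos : S.Adm (D.posUnipotent F) fun r => D.IsPosRoot r where
  pos r hr := S.ok.isPos_iff.mp hr
  mem r hr t := S.ok.xG_mem_pos hr t
  per r hr := by
    rw [S.ok.isPos_iff, S.ok.isPos_iff, (S.gok.root_facts hr).2.2.2.2.1]
    exact ⟨fun h => ⟨hr, h.2⟩, fun h => ⟨S.gok.per_lt hr, h.2⟩⟩
  zero h x _ _ r hr hP hh := by
    obtain ⟨h1, h2⟩ := S.mem_rootsAt.mp hr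
    exact absurd (S.ok.isPos_iff.mpr ⟨h1, by omega⟩) hP
  le := le_rfl

theorem adm_Um {w : List ℕ} (hw : ∀ i ∈ w, i < D.rank)
    (hcomm : ∀ r < D.nroots, piW T w (S.g.per r) = S.g.per (piW T w r)) :
    S.Adm (S.okx.Um F w) fun r => r < D.nroots ∧ 0 < T.htf r ∧ T.htf (piW T w r) < 0 where
  pos r hr := ⟨hr.1, hr.2.1⟩
  mem r hr t := Subgroup.subset_closure ⟨r, t, S.ok.isPos_iff.mpr ⟨hr.1, hr.2.1⟩, hr.2.2, rfl⟩
  per r hr := by
    rw [(S.gok.root_facts hr).2.2.2.2.1, hcomm r hr, (S.gok.root_facts (S.okx.piW_lt hw hr)).2.2.2.2.1]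
    exact ⟨fun h => ⟨hr, h.2⟩, fun h => ⟨S.gok.per_lt hr, h.2⟩⟩
  le := S.okx.Um_le w
  zero h x hx _ r hr hP hh := by
    obtain ⟨h1, h2⟩ := S.mem_rootsAt.mp hr
    have hwr : 0 < T.htf (piW T w r) := by
      have := S.ok.ht_ne (S.okx.piW_lt hw h1)
      have : ¬ T.htf (piW T w r) < 0 := fun e => hP ⟨h1, by omega, e⟩
      omega
    set n := S.ok.gW F w
    have hv := S.okx.Um_conj_neg hw hx
    have hv' := S.ok.neg_le_lTri hv
    have hA := S.ok.act_gW (F := F) w hw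
    obtain ⟨t₁, ht₁, z, hz, hne⟩ := S.ok.isHW_gW_inv (F := F) w hw
    have hA' := (S.ok.act_diag ht₁).mul S.ok (S.ok.act_gW (F := F) z hz)
    rw [← hne] at hA'
    rw [lc, dif_pos h1]
    refine Finset.sum_eq_zero fun i _ => ?_
    have e : x = n⁻¹ * (n * x * n⁻¹) * n := by simp [mul_assoc]
    rw [e, Units.val_mul, Units.val_mul, Matrix.mul_apply, Finset.sum_eq_zero (fun b _ => ?_), mul_zero]
    by_contra hb
    obtain ⟨hb1, hb2⟩ := mul_ne_zero_iff.mp hb
    obtain ⟨u, rfl, hu⟩ := hA.2.2 b _ hb2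
    rw [Matrix.mul_apply] at hb1
    obtain ⟨c, -, hc⟩ := Finset.exists_ne_zero_of_sum_ne_zero hb1
    rcases c with a | s
    · refine right_ne_zero_of_mul hc ?_
      have hlt : hW D T (Sum.inr u) < hW D T (Sum.inl a) := by
        simp only [hW, phi, Sum.elim_inl, Sum.elim_inr, Tabs.wt, nlt_iff.mpr a.isLt,
          nlt_false_iff.mpr (Nat.le_add_right D.rank (u : ℕ)), Nat.sub_eq, Nat.add_sub_cancel_left]
        rw [show (u : ℕ) = piW T w (T.neg r) from hu, S.okx.piW_neg hw h1, S.ok.ht_neg (S.okx.piW_lt hw h1)]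
        omega
      have hh1 := rho_lt hlt
      have h0 := hv'.1 (Sum.inl a) (Sum.inr u) (by
        show -rho D T (Sum.inl a) < -rho D T (Sum.inr u) + ((1 : ℕ) : ℤ); omega)
      rw [Matrix.sub_apply, Matrix.one_apply_ne (by simp), sub_zero] at h0
      exact h0
    · obtain ⟨v, hv, -⟩ := hA'.2.2 (Sum.inl i) s (left_ne_zero_of_mul hc)
      simp at hv

end Tw

end Cfsg.Agent.Chev
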