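import Cfsg.Agent.Lib.Chev.TwistOrder
import Cfsg.Agent.Lib.Chev.TwistInst
import Cfsg.Agent.Lib.BN.Coxeter

/-!
The Weyl group of a twisted group.
-/

set_option autoImplicit false

namespace Cfsg.Agent.BN

theorem ExchangeData.comp {B B' W : Type*} [Group W] {f : B → W} {ℓ : W → ℕ} (E : ExchangeData f ℓ) (e : B' ≃ B) :
    ExchangeData (f ∘ e) ℓ where
  sq i := E.sq (e i)
  inj := E.inj.comp e.injective
  le l := by
    have := E.le (l.map e)
    rwa [List.map_map, List.length_map] at this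
  reduced w := by
    obtain ⟨l, hl, hlen⟩ := E.reduced w
    refine ⟨l.map e.symm, ?_, by rw [List.length_map]; exact hlen⟩
    rw [List.map_map, ← hl]
    exact congrArg List.prod (List.map_congr_left fun x _ => by simp)
  exchange l i h1 h2 := by
    obtain ⟨j, hj, hje⟩ := E.exchange (l.map e) (e i)
      (by rw [List.map_map, List.length_map]; exact h1) (by rw [List.map_map, List.length_map]; exact h2)
    rw [List.length_map] at hj
    refine ⟨j, hj, ?_⟩
    rw [List.eraseIdx_map, List.map_map, List.map_map] at hje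
    exact hje

end Cfsg.Agent.BN

namespace Cfsg.Agent.Chev

open Cfsg.Lie

namespace GTab

variable (D : ChevalleyDatum) (T : Tabs) (g : GTab)

/-- The alternating word of length `2 k`. -/
noncomputable def altR (a b k : ℕ) : List ℕ := @Nat.rec (fun _ => List ℕ) [] (fun _ r => a :: b :: r) k

/-- The order of the product of two representatives. -/
noncomputable def chkPair (a b m : ℕ) : Bool :=
  andR (nlt 0 m) <| andR (eqL Nat.beq (g.imgsT D T (altR a b m)) (g.imgsT D T [])) <|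
  allR m fun k => orR (Nat.beq k 0) (notR (eqL Nat.beq (g.imgsT D T (altR a b k)) (g.imgsT D T [])))

end GTab

namespace Tw

variable {F : Type*} [Field F] {D : ChevalleyDatum} {T : Tabs} (S : Tw F D T)

include S

theorem bn_normal : ((S.bn.B ⊓ S.bn.N).subgroupOf S.bn.N).Normal := by
  constructor
  intro t ht n
  rw [Subgroup.mem_subgroupOf] at ht ⊢
  exact Subgroup.mem_inf.mpr ⟨S.bn.conj_mem _ n.2 _ ht,
    mul_mem (mul_mem n.2 ht.2) (inv_mem n.2)⟩

omit S in
theorem eqL_refl : ∀ l : List ℕ, eqL Nat.beq l l = true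
  | [] => rfl
  | x :: l => by show andR (Nat.beq x x) (eqL Nat.beq l l) = true; rw [eqL_refl l]; simp

/-- The Weyl group, given the orders of the products of two representatives. -/
theorem exists_weyl {n : ℕ} (M : CoxeterMatrix (Fin n)) (rs : Fin n → ℕ) (hrs : Function.Injective rs)
    (hR : ∀ i, S.IsR (rs i)) (hall : ∀ r, S.IsR r → ∃ i, rs i = r)
    (hM : ∀ i j, S.g.chkPair D T (rs i) (rs j) (M i j) = true) :
    ∃ φ : ↥(D.monomialSubgroup F ⊓ S.G1) →* M.Group, Function.Surjective φ ∧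
      φ.ker = (D.diagonalSubgroup F ⊓ S.G1).subgroupOf (D.monomialSubgroup F ⊓ S.G1) := by
  haveI := S.bn_normal
  have hbij : Function.Bijective (fun i : Fin n => (⟨S.sR (hR i), S.sR_mem (hR i)⟩ : ↥(S.bn.S))) := by
    constructor
    · intro i j e
      have e' : S.ok.gW F (S.g.orbJ (rs i)) = S.ok.gW F (S.g.orbJ (rs j)) :=
        congrArg (fun x : ↥(S.bn.S) => ((x : ↥S.G1) : GL D.Idx F)) e
      exact hrs (S.orbJ_inj (hR i) (hR j) (by rw [e', inv_mul_cancel]; exact one_mem _))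
    · rintro ⟨s, r, hr, hs⟩
      obtain ⟨i, rfl⟩ := hall r hr
      exact ⟨i, Subtype.ext (Subtype.ext hs.symm)⟩
  set e := Equiv.ofBijective _ hbij with he
  have E := (BN.exchangeData S.bn).comp e
  set f : Fin n → BN.Wgrp S.bn := (BN.wgen S.bn) ∘ e with hf
  have hfix : ∀ v : List ℕ, (hv : ∀ a ∈ v, S.IsR a) → (hN : (⟨_, S.gW_wd_mem hv⟩ : ↥S.G1) ∈ S.bn.N) →
      ((QuotientGroup.mk (⟨⟨_, S.gW_wd_mem hv⟩, hN⟩ : ↥(S.bn.N)) : BN.Wgrp S.bn) = 1 ↔
        S.g.imgsT D T v = S.g.imgsT D T []) := by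
    intro v hv hN
    rw [QuotientGroup.eq_one_iff, Subgroup.mem_subgroupOf, Subgroup.mem_inf]
    constructor
    · rintro ⟨hB, -⟩
      have h : S.ok.gW F (S.wd v) ∈ S.H0 := by
        rw [← S.B1_inf_N1]; exact ⟨hB, hN⟩
      rw [S.imgsT_eq, S.imgsT_eq]
      refine List.map_congr_left fun k hk => ?_
      exact S.ok.act_unique (S.ok.act_gW (F := F) _ (S.wd_lt hv)) (S.ok.act_diag (S.H0_le_diag h))
        (S.ok.smp_lt (List.mem_range.mp hk))
    · intro h
      refine ⟨S.H0_le_B1 (S.gW_mem_H0 _ v rfl hv fun r hr => ?_), hN⟩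
      exact S.piW_eq_of_imgs hv (by simp) h hr
  have hpow : ∀ (i j : Fin n) (k : ℕ), (f i * f j) ^ k = 1 ↔
      S.g.imgsT D T (GTab.altR (rs i) (rs j) k) = S.g.imgsT D T [] := by
    intro i j k
    have hv : ∀ k : ℕ, ∀ a ∈ GTab.altR (rs i) (rs j) k, S.IsR a := by
      intro k
      induction k with
      | zero => intro a ha; exact absurd ha List.not_mem_nil
      | succ k ih =>
        intro a ha
        rcases List.mem_cons.mp (ha : a ∈ rs i :: rs j :: GTab.altR (rs i) (rs j) k) with rfl | ha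
        · exact hR i
        rcases List.mem_cons.mp ha with rfl | ha
        · exact hR j
        · exact ih a ha
    have hN : ∀ k, (⟨_, S.gW_wd_mem (hv k)⟩ : ↥S.G1) ∈ S.bn.N := fun k =>
      (⟨1, one_mem _, _, hv k, (one_mul _).symm⟩ : S.ok.gW F (S.wd _) ∈ S.N1)
    have key : ∀ k, (f i * f j) ^ k =
        (QuotientGroup.mk (⟨⟨_, S.gW_wd_mem (hv k)⟩, hN k⟩ : ↥(S.bn.N)) : BN.Wgrp S.bn) := by
      intro k
      induction k with
      | zero => rfl
      | succ k ih =>
        rw [pow_succ', ih, hf, Function.comp_apply, Function.comp_apply, BN.wgen, BN.wgen,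
          ← QuotientGroup.mk_mul, ← QuotientGroup.mk_mul]
        refine congrArg QuotientGroup.mk (Subtype.ext (Subtype.ext ?_))
        show S.ok.gW F (S.g.orbJ (rs i)) * S.ok.gW F (S.g.orbJ (rs j)) * S.ok.gW F (S.wd _) =
          S.ok.gW F (S.wd (rs i :: rs j :: GTab.altR (rs i) (rs j) k))
        rw [wd_cons, wd_cons, OK.gW_append, OK.gW_append, mul_assoc]
    rw [key]; exact hfix _ (hv k) (hN k)
  have hdiv : ∀ (i j : Fin n) (k : ℕ), (f i * f j) ^ k = 1 → M i j ∣ k := by
    intro i j k hk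
    have h := hM i j
    simp only [GTab.chkPair, andR_iff, nlt_iff, allR_iff, orR_iff, Nat.beq_eq, notR_iff] at h
    obtain ⟨hm, hone, hmin⟩ := h
    have hM1 : (f i * f j) ^ M i j = 1 :=
      (hpow i j _).mpr (eq_of_eqL (fun a b => Nat.beq_eq.mp) hone)
    have hk' : (f i * f j) ^ (k % M i j) = 1 := by
      rwa [← Nat.mod_add_div k (M i j), pow_add, pow_mul, hM1, one_pow, mul_one] at hk
    rcases hmin _ (Nat.mod_lt k hm) with e0 | e0
    · exact Nat.dvd_of_mod_eq_zero e0
    · rw [(hpow i j _).mp hk', eqL_refl] at e0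
      exact absurd e0 (by simp)
  have hlift : M.IsLiftable f := fun i j => by
    have h := hM i j
    simp only [GTab.chkPair, andR_iff] at h
    exact (hpow i j _).mpr (eq_of_eqL (fun a b => Nat.beq_eq.mp) h.2.1)
  set ψ : M.Group →* BN.Wgrp S.bn := M.toCoxeterSystem.lift ⟨f, hlift⟩ with hψ
  have hψs : ∀ i, ψ (M.simple i) = f i := fun i => by
    rw [← CoxeterMatrix.toCoxeterSystem_simple]
    exact M.toCoxeterSystem.lift_apply_simple hlift i
  have hinj := E.lift_injective M hdiv ψ hψs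
  have hsurj : Function.Surjective ψ := fun x => by
    obtain ⟨l, rfl, -⟩ := E.reduced x
    exact ⟨(l.map M.simple).prod, by
      rw [map_list_prod, List.map_map]
      exact congrArg List.prod (List.map_congr_left fun i _ => hψs i)⟩
  have hmemN : ∀ x : ↥(D.monomialSubgroup F ⊓ S.G1),
      (⟨(x : GL D.Idx F), (Subgroup.mem_inf.mp x.2).2⟩ : ↥S.G1) ∈ S.bn.N := fun x => by
    show (x : GL D.Idx F) ∈ S.N1
    rw [← S.monomial_inf_G1]; exact x.2
  let ι : ↥(D.monomialSubgroup F ⊓ S.G1) →* ↥(S.bn.N) :=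
    { toFun := fun x => ⟨_, hmemN x⟩
      map_one' := rfl
      map_mul' := fun _ _ => rfl }
  refine ⟨((MulEquiv.ofBijective ψ ⟨hinj, hsurj⟩).symm.toMonoidHom.comp (QuotientGroup.mk' _)).comp ι, ?_, ?_⟩
  · intro z
    obtain ⟨⟨⟨y, hyG⟩, hy⟩, hyz⟩ := QuotientGroup.mk_surjective (ψ z)
    refine ⟨⟨y, Subgroup.mem_inf.mpr ⟨S.N1_le_monomial hy, hyG⟩⟩, ?_⟩
    show (MulEquiv.ofBijective ψ ⟨hinj, hsurj⟩).symm (QuotientGroup.mk _) = z
    rw [MulEquiv.symm_apply_eq]
    exact hyz
  · ext x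
    rw [MonoidHom.mem_ker, Subgroup.mem_subgroupOf, MonoidHom.comp_apply, MonoidHom.comp_apply,
      MulEquiv.coe_toMonoidHom, MulEquiv.map_eq_one_iff, QuotientGroup.mk'_apply, QuotientGroup.eq_one_iff,
      Subgroup.mem_subgroupOf, S.diag_inf_G1]
    constructor
    · rintro ⟨h1, h2⟩
      rw [← S.B1_inf_N1]; exact ⟨h1, h2⟩
    · intro h
      exact ⟨S.H0_le_B1 h, S.H0_le_N1 h⟩

end Tw

theorem D4.twPairs (i j : Fin 2) :
    D4.g.chkPair chevD4 D4.T ([0, 1].getD i.val 0) ([0, 1].getD j.val 0) (CoxeterMatrix.G₂ i j) = true := by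
  revert i j
  decide +kernel

theorem E6.twPairs (i j : Fin 4) :
    E6.g.chkPair chevE6 E6.T ([1, 3, 2, 0].getD i.val 0) ([1, 3, 2, 0].getD j.val 0) (CoxeterMatrix.F₄ i j) = true := by
  revert i j
  decide +kernel

end Cfsg.Agent.Chev
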