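import Cfsg.Agent.Lib.BN.Coxeter
import Cfsg.Agent.Lib.Chev.BN
import Cfsg.Agent.Lib.Chev.Poincare
import Mathlib.GroupTheory.Coxeter.Matrix

/-!
The monomial subgroup modulo the diagonal one is the Coxeter group of the type, and words of it are compared on the
fundamental roots.
-/

set_option autoImplicit false

namespace Cfsg.Agent.BN.ExchangeData

/-- Renumbering of the generators. -/
theorem comp {B B' W : Type*} [Group W] {f : B → W} {ℓ : W → ℕ} (E : ExchangeData f ℓ) (e : B' ≃ B) :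
    ExchangeData (f ∘ e) ℓ where
  sq i := E.sq _
  inj := E.inj.comp e.injective
  le l := by simpa [List.map_map] using E.le (l.map e)
  reduced w := by
    obtain ⟨l, h, hl⟩ := E.reduced w
    exact ⟨l.map e.symm, by simpa [List.map_map, Function.comp_def] using h, by simpa using hl⟩
  exchange l i h1 h2 := by
    obtain ⟨j, hj, e'⟩ := E.exchange (l.map e) (e i) (by simpa [List.map_map] using h1)
      (by simpa [List.map_map] using h2)
    refine ⟨j, by simpa using hj, ?_⟩
    rw [List.eraseIdx_map, List.map_map, List.map_map] at e'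
    exact e'

end Cfsg.Agent.BN.ExchangeData

namespace Cfsg.Agent.Chev

open Cfsg.Lie

variable {D : ChevalleyDatum} {T : Tabs}

/-- The word `(i j)^k`. -/
def altW (i j : ℕ) : ℕ → List ℕ
  | 0 => []
  | k + 1 => i :: j :: altW i j k

/-- The word fixes the fundamental roots. -/
noncomputable def Tabs.fixB (D : ChevalleyDatum) (T : Tabs) (w : List ℕ) : Bool :=
  eqL Nat.beq (Tabs.imgs D T w) (Tabs.imgs D T [])

/-- The orders of the products of two fundamental reflections. -/
structure CoxOK (D : ChevalleyDatum) (T : Tabs) (M : CoxeterMatrix (Fin D.rank)) : Prop where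
  pos : ∀ i j, 0 < M i j
  fix : ∀ i j : Fin D.rank, Tabs.fixB D T (altW i.val j.val (M i j)) = true
  min : ∀ i j : Fin D.rank, ∀ k : Fin (M i j), k.val = 0 ∨ Tabs.fixB D T (altW i.val j.val k.val) = false

namespace OKX

variable (ok : OKX D T)

include ok

theorem fixB_iff {w : List ℕ} :
    Tabs.fixB D T w = true ↔ ∀ k < D.rank, piW T w (T.smp k) = T.smp k := by
  have hb : ∀ l l' : List ℕ, eqL Nat.beq l l' = true ↔ l = l' := fun l l' => by
    refine ⟨eq_of_eqL (fun a b h => Nat.eq_of_beq_eq_true h), ?_⟩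
    rintro rfl
    induction l with
    | nil => rfl
    | cons x l ih => show andR (Nat.beq x x) (eqL Nat.beq l l) = true; rw [ih]; simp
  rw [Tabs.fixB, hb, Tabs.imgs, Tabs.imgs, mapR_eq, mapR_eq, upTo_eq]
  refine ⟨fun h k hk => ?_, fun h => List.map_congr_left fun k hk => ?_⟩
  · simpa [Tabs.piR_eq, piW] using (List.map_inj_left.mp h) k (List.mem_range.mpr hk)
  · rw [Tabs.piR_eq, Tabs.piR_eq, h k (List.mem_range.mp hk)]
    rfl

variable (F : Type*) [Field F]

theorem normal_tor : (((ok.bnPair (F := F)).B ⊓ (ok.bnPair (F := F)).N).subgroupOf (ok.bnPair (F := F)).N).Normal :=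
  ⟨fun n hn g => Subgroup.mem_subgroupOf.mpr ⟨(ok.bnPair (F := F)).conj_mem _ g.2 _ (Subgroup.mem_subgroupOf.mp hn),
    ((g * n * g⁻¹ : ↥(ok.bnPair (F := F)).N)).2⟩⟩

theorem smp_inj {i j : ℕ} (hi : i < D.rank) (hj : j < D.rank) (h : T.smp i = T.smp j) : i = j := by
  by_contra hne
  have h2 := ok.toOK.cC_smp hi hi
  rw [h, ok.toOK.cC_smp hj hi, if_neg hne, if_pos rfl] at h2
  exact zero_ne_one h2

theorem exists_weyl_aux {M : CoxeterMatrix (Fin D.rank)} (hM : CoxOK D T M) :
    ∃ χ : ↥(D.monomialSubgroup F) →* M.Group, Function.Surjective χ ∧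
      χ.ker = (D.diagonalSubgroup F).subgroupOf (D.monomialSubgroup F) ∧
      (∀ (l : List (Fin D.rank)) (g : ↥(D.monomialSubgroup F)),
        (g : GL D.Idx F) = ok.toOK.gW F (l.map Fin.val) → χ g = (l.map M.simple).prod) ∧
      ∀ l : List (Fin D.rank), (l.map M.simple).prod = 1 ↔ Tabs.fixB D T (l.map Fin.val) = true := by
  set P := ok.bnPair (F := F)
  haveI := ok.normal_tor F
  let el : Fin D.rank → P.S := fun i =>
    ⟨⟨ok.toOK.nG (T.smp i.val) 1, ok.toOK.wordG_mem _⟩, i.val, i.isLt, ok.toOK.coe_nG_simple i.isLt 1⟩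
  have hel : Function.Bijective el := by
    refine ⟨fun i j h => ?_, fun s => ?_⟩
    · have h' : ok.toOK.nG (F := F) (T.smp i.val) 1 = ok.toOK.nG (T.smp j.val) 1 :=
        congrArg (fun x : P.S => ((x : ↥(D.group F)) : GL D.Idx F)) h
      have ha := (ok.toOK.act_n (F := F) i.isLt).mul ok.toOK (ok.toOK.act_n j.isLt)
      by_contra hne
      have hmem : ok.toOK.nG (F := F) (T.smp i.val) 1 * ok.toOK.nG (T.smp j.val) 1 ∈ D.borelSubgroup F := by
        rw [h']
        exact Subgroup.mem_sup_right (ok.toOK.nG_sq (ok.toOK.smp_lt j.isLt))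
      have hid := ok.toOK.act_borel ha hmem (ok.toOK.smp_lt i.isLt)
      rw [Function.comp_apply] at hid
      have h1 := congrArg (T.refl i.val) hid
      rw [ok.toOK.refl_refl i.isLt (ok.toOK.refl_lt j.isLt (ok.toOK.smp_lt i.isLt)),
        (ok.toOK.smp_spec i.isLt).2.2.1] at h1
      have h3 := ok.toOK.refl_pos j.isLt (ok.toOK.smp_lt i.isLt)
        (fun e => hne (Fin.ext (ok.smp_inj i.isLt j.isLt e))) (by rw [(ok.toOK.smp_spec i.isLt).1]; norm_num)
      rw [h1, ok.toOK.ht_neg (ok.toOK.smp_lt i.isLt), (ok.toOK.smp_spec i.isLt).1] at h3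
      omega
    · obtain ⟨s, i, hi, hs⟩ := s
      exact ⟨⟨i, hi⟩, Subtype.ext (Subtype.ext (Units.ext ((ok.toOK.coe_nG_simple hi 1).trans hs.symm)))⟩
  set e : Fin D.rank ≃ P.S := Equiv.ofBijective el hel with he
  have E := (BN.exchangeData P).comp e
  let ψ : ↥(D.monomialSubgroup F) →* BN.Wgrp P :=
    (QuotientGroup.mk' _).comp (Subgroup.subgroupOfEquivOfLe (ok.toOK.monomial_le_group (F := F))).symm.toMonoidHom
  have hψs : Function.Surjective ψ := (QuotientGroup.mk'_surjective _).comp (MulEquiv.surjective _)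
  have hψk : ψ.ker = (D.diagonalSubgroup F).subgroupOf (D.monomialSubgroup F) := by
    ext x
    rw [MonoidHom.mem_ker, Subgroup.mem_subgroupOf, ← ok.toOK.borel_inf_monomial]
    show (QuotientGroup.mk' _) _ = 1 ↔ _
    rw [QuotientGroup.mk'_apply, QuotientGroup.eq_one_iff, Subgroup.mem_subgroupOf]
    exact ⟨fun h => ⟨h.1, x.2⟩, fun h => ⟨h.1, h.2⟩⟩
  have hword : ∀ l : List (Fin D.rank), ∃ h : ok.toOK.gW F (l.map Fin.val) ∈ D.monomialSubgroup F,
      ψ ⟨_, h⟩ = (l.map (BN.wgen P ∘ e)).prod := by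
    intro l
    induction l with
    | nil => exact ⟨one_mem _, map_one ψ⟩
    | cons i l ih =>
      obtain ⟨h, ih⟩ := ih
      have hn : ok.toOK.nG (T.smp i.val) (1 : F) ∈ D.monomialSubgroup F := ok.toOK.nG_mem_monomial (ok.toOK.smp_lt i.isLt)
      refine ⟨by rw [List.map_cons, ok.toOK.gW_cons]; exact mul_mem hn h, ?_⟩
      rw [List.map_cons (f := BN.wgen P ∘ e), List.prod_cons, ← ih,
        show (BN.wgen P ∘ e) i = ψ ⟨_, hn⟩ from rfl, ← map_mul]
      exact congrArg ψ (Subtype.ext (ok.toOK.gW_cons _ _))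
  have hlt : ∀ l : List (Fin D.rank), ∀ a ∈ l.map Fin.val, a < D.rank := fun l a ha => by
    obtain ⟨i, -, rfl⟩ := List.mem_map.mp ha
    exact i.isLt
  have hone : ∀ l : List (Fin D.rank),
      (l.map (BN.wgen P ∘ e)).prod = 1 ↔ Tabs.fixB D T (l.map Fin.val) = true := by
    intro l
    obtain ⟨h, e'⟩ := hword l
    rw [← e', ← MonoidHom.mem_ker, hψk, Subgroup.mem_subgroupOf, ok.fixB_iff]
    refine ⟨fun hd k hk => ?_, fun hf => ?_⟩
    · exact ok.toOK.act_borel (ok.toOK.act_gW _ (hlt l)) (Subgroup.mem_sup_right hd) (ok.toOK.smp_lt hk)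
    · refine ok.gW_mem_diag_of_pos (F := F) _ _ rfl (hlt l) fun r hr hp => ?_
      rw [ok.piW_ext (hlt l) (v' := []) (fun _ hi => absurd hi List.not_mem_nil) hf hr]
      exact hp
  have hpow : ∀ (i j : Fin D.rank) (k : ℕ),
      ((BN.wgen P ∘ e) i * (BN.wgen P ∘ e) j) ^ k = 1 ↔ Tabs.fixB D T (altW i.val j.val k) = true := by
    intro i j k
    have h : ∀ k, ∃ l : List (Fin D.rank), l.map Fin.val = altW i.val j.val k ∧
        (l.map (BN.wgen P ∘ e)).prod = ((BN.wgen P ∘ e) i * (BN.wgen P ∘ e) j) ^ k := by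
      intro k
      induction k with
      | zero => exact ⟨[], rfl, rfl⟩
      | succ k ih =>
        obtain ⟨l, hl, hp⟩ := ih
        exact ⟨i :: j :: l, by rw [altW, ← hl]; rfl, by
          rw [List.map_cons, List.map_cons, List.prod_cons, List.prod_cons, hp, pow_succ', mul_assoc]⟩
    obtain ⟨l, hl, hp⟩ := h k
    rw [← hp, hone, hl]
  have hlift : M.IsLiftable (BN.wgen P ∘ e) := fun i j => (hpow i j _).mpr (hM.fix i j)
  have hdvd : ∀ (i j : Fin D.rank) (k : ℕ),
      ((BN.wgen P ∘ e) i * (BN.wgen P ∘ e) j) ^ k = 1 → M i j ∣ k := by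
    intro i j k h
    refine Nat.dvd_of_mod_eq_zero ?_
    have h' : ((BN.wgen P ∘ e) i * (BN.wgen P ∘ e) j) ^ (k % M i j) = 1 := by
      rwa [← Nat.mod_add_div k (M i j), pow_add, pow_mul, hlift i j, one_pow, mul_one] at h
    rcases hM.min i j ⟨k % M i j, Nat.mod_lt _ (hM.pos i j)⟩ with h0 | h0
    · exact h0
    · rw [(hpow i j _).mp h'] at h0; exact absurd h0 (by simp)
  set φ : M.Group →* BN.Wgrp P := M.toCoxeterSystem.lift ⟨_, hlift⟩
  have hφ : ∀ i, φ (M.simple i) = (BN.wgen P ∘ e) i := fun i => by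
    rw [← CoxeterMatrix.toCoxeterSystem_simple]
    exact M.toCoxeterSystem.lift_apply_simple hlift i
  have hφl : ∀ l : List (Fin D.rank), φ (l.map M.simple).prod = (l.map (BN.wgen P ∘ e)).prod := fun l => by
    rw [map_list_prod, List.map_map]
    exact congrArg List.prod (List.map_congr_left fun i _ => hφ i)
  have hinj := E.lift_injective M hdvd φ hφ
  have hsurj : Function.Surjective φ := fun q => by
    obtain ⟨l, rfl, -⟩ := E.reduced q
    exact ⟨_, hφl l⟩
  let ε : M.Group ≃* BN.Wgrp P := MulEquiv.ofBijective φ ⟨hinj, hsurj⟩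
  refine ⟨ε.symm.toMonoidHom.comp ψ, ε.symm.surjective.comp hψs, ?_, fun l g hg => ?_, fun l => ?_⟩
  · rw [← hψk]
    ext x
    simp [MonoidHom.mem_ker]
  · obtain ⟨h, e'⟩ := hword l
    have : ψ g = φ (l.map M.simple).prod := by
      rw [hφl, ← e']
      exact congrArg ψ (Subtype.ext hg)
    show ε.symm (ψ g) = _
    rw [this]
    exact ε.symm_apply_apply _
  · rw [← hone, ← hφl, map_eq_one_iff φ hinj]

omit [Field F] in
/-- Words of the Coxeter group are equal exactly when they agree on the fundamental roots. -/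
theorem word_eq_iff {M : CoxeterMatrix (Fin D.rank)} (hM : CoxOK D T M) (u v : List (Fin D.rank)) :
    (u.map M.simple).prod = (v.map M.simple).prod ↔
      ∀ k < D.rank, piW T (u.map Fin.val) (T.smp k) = piW T (v.map Fin.val) (T.smp k) := by
  obtain ⟨χ, -, -, -, hone⟩ := ok.exists_weyl_aux ℚ hM
  have hlt : ∀ l : List (Fin D.rank), ∀ a ∈ l.map Fin.val, a < D.rank := fun l a ha => by
    obtain ⟨i, -, rfl⟩ := List.mem_map.mp ha
    exact i.isLt
  have hrev : (u.reverse.map M.simple).prod = ((u.map M.simple).prod)⁻¹ := by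
    have := M.toCoxeterSystem.wordProd_reverse u
    simp only [CoxeterSystem.wordProd, CoxeterMatrix.toCoxeterSystem_simple] at this
    exact this
  rw [← inv_mul_eq_one, ← hrev, ← List.prod_append, ← List.map_append, hone, ok.fixB_iff, List.map_append,
    List.map_reverse]
  refine forall₂_congr fun k hk => ?_
  rw [piW_append]
  constructor
  · intro h
    conv_lhs => rw [← h]
    exact ok.piW_rev (hlt u) (ok.piW_lt (hlt v) (ok.toOK.smp_lt hk))
  · intro h
    rw [← h]
    exact ok.rev_piW (hlt u) (ok.toOK.smp_lt hk)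

end OKX

end Cfsg.Agent.Chev
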