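import Cfsg.Agent.Lib.Chev.WeylData
import Cfsg.Agent.Lib.Chev.WeylGroup
import Cfsg.Agent.Lib.Chev.LevG2
import Cfsg.Agent.Lib.Chev.LevB2
import Cfsg.Agent.Lib.Chev.LevD4
import Cfsg.Agent.Lib.Chev.LevF4
import Cfsg.Agent.Lib.Chev.LevE6
import Cfsg.Agent.Lib.Chev.LevE7
import Cfsg.Agent.Lib.Chev.LevE8

/-! The orders of the seven Weyl groups. -/

set_option autoImplicit false
set_option maxRecDepth 20000

namespace Cfsg.Agent.Chev

open Cfsg.Lie

theorem OKX.card_step {D : ChevalleyDatum} {T : Tabs} (ok : OKX D T) {K J : List ℕ} {R : Tabs.Level}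
    (hlev : Tabs.chkLevel D T K J R = true)
    (hdist : Tabs.chkDistinct (R.map fun f => Tabs.imgs D T f.1) = true) {n m k : ℕ}
    (h : ∃ L, Trans D T J L ∧ L.length = n) (hk : R.length = m) (hm : m * n = k) :
    ∃ L, Trans D T K L ∧ L.length = k := by
  obtain ⟨L, hL, hn⟩ := h
  refine ⟨_, (ok.trans_step hlev hdist hL).1, ?_⟩
  subst hm hk hn
  simp [List.length_flatMap, List.sum_replicate, Function.comp_def]

theorem G2.card_weyl : Nat.card (CoxeterMatrix.Group CoxeterMatrix.G₂) = 12 := by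
  obtain ⟨L, hL, hn⟩ : ∃ L, Trans chevG2 G2.T [0, 1] L ∧ L.length = 12 := (G2.okx.card_step (k := 12) G2.lev1_ok G2.lev1_distinct (n := 2) (m := 6)
    (G2.okx.card_step (k := 2) G2.lev0_ok G2.lev0_distinct (n := 1) (m := 2)
    ⟨[[]], Trans.nil, rfl⟩ (by decide +kernel) rfl) (by decide +kernel) rfl)
  rw [← hn]
  exact G2.okx.card_weyl G2.coxOK (by decide) (by decide) hL

theorem B2.card_weyl : Nat.card (CoxeterMatrix.Group (CoxeterMatrix.B 2)) = 8 := by
  obtain ⟨L, hL, hn⟩ : ∃ L, Trans chevB2 B2.T [0, 1] L ∧ L.length = 8 := (B2.okx.card_step (k := 8) B2.lev1_ok B2.lev1_distinct (n := 2) (m := 4)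
    (B2.okx.card_step (k := 2) B2.lev0_ok B2.lev0_distinct (n := 1) (m := 2)
    ⟨[[]], Trans.nil, rfl⟩ (by decide +kernel) rfl) (by decide +kernel) rfl)
  rw [← hn]
  exact B2.okx.card_weyl B2.coxOK (by decide) (by decide) hL

theorem D4.card_weyl : Nat.card (CoxeterMatrix.Group coxeterD4) = 192 := by
  obtain ⟨L, hL, hn⟩ : ∃ L, Trans chevD4 D4.T [0, 1, 2, 3] L ∧ L.length = 192 := (D4.okx.card_step (k := 192) D4.lev3_ok D4.lev3_distinct (n := 24) (m := 8)
    (D4.okx.card_step (k := 24) D4.lev2_ok D4.lev2_distinct (n := 6) (m := 4)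
    (D4.okx.card_step (k := 6) D4.lev1_ok D4.lev1_distinct (n := 2) (m := 3)
    (D4.okx.card_step (k := 2) D4.lev0_ok D4.lev0_distinct (n := 1) (m := 2)
    ⟨[[]], Trans.nil, rfl⟩ (by decide +kernel) rfl) (by decide +kernel) rfl) (by decide +kernel) rfl) (by decide +kernel) rfl)
  rw [← hn]
  exact D4.okx.card_weyl D4.coxOK (by decide) (by decide) hL

theorem F4.card_weyl : Nat.card (CoxeterMatrix.Group CoxeterMatrix.F₄) = 1152 := by
  obtain ⟨L, hL, hn⟩ : ∃ L, Trans chevF4 F4.T [0, 1, 2, 3] L ∧ L.length = 1152 := (F4.okx.card_step (k := 1152) F4.lev3_ok F4.lev3_distinct (n := 48) (m := 24)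
    (F4.okx.card_step (k := 48) F4.lev2_ok F4.lev2_distinct (n := 8) (m := 6)
    (F4.okx.card_step (k := 8) F4.lev1_ok F4.lev1_distinct (n := 2) (m := 4)
    (F4.okx.card_step (k := 2) F4.lev0_ok F4.lev0_distinct (n := 1) (m := 2)
    ⟨[[]], Trans.nil, rfl⟩ (by decide +kernel) rfl) (by decide +kernel) rfl) (by decide +kernel) rfl) (by decide +kernel) rfl)
  rw [← hn]
  exact F4.okx.card_weyl F4.coxOK (by decide) (by decide) hL

theorem E6.card_weyl : Nat.card (CoxeterMatrix.Group CoxeterMatrix.E₆) = 51840 := by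
  obtain ⟨L, hL, hn⟩ : ∃ L, Trans chevE6 E6.T [0, 1, 2, 3, 4, 5] L ∧ L.length = 51840 := (E6.okx.card_step (k := 51840) E6.lev5_ok E6.lev5_distinct (n := 1920) (m := 27)
    (E6.okx.card_step (k := 1920) E6.lev4_ok E6.lev4_distinct (n := 192) (m := 10)
    (E6.okx.card_step (k := 192) E6.lev3_ok E6.lev3_distinct (n := 24) (m := 8)
    (E6.okx.card_step (k := 24) E6.lev2_ok E6.lev2_distinct (n := 6) (m := 4)
    (E6.okx.card_step (k := 6) E6.lev1_ok E6.lev1_distinct (n := 2) (m := 3)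
    (E6.okx.card_step (k := 2) E6.lev0_ok E6.lev0_distinct (n := 1) (m := 2)
    ⟨[[]], Trans.nil, rfl⟩ (by decide +kernel) rfl) (by decide +kernel) rfl) (by decide +kernel) rfl) (by decide +kernel) rfl) (by decide +kernel) rfl) (by decide +kernel) rfl)
  rw [← hn]
  exact E6.okx.card_weyl E6.coxOK (by decide) (by decide) hL

theorem E7.card_weyl : Nat.card (CoxeterMatrix.Group CoxeterMatrix.E₇) = 2903040 := by
  obtain ⟨L, hL, hn⟩ : ∃ L, Trans chevE7 E7.T [0, 1, 2, 3, 4, 5, 6] L ∧ L.length = 2903040 := (E7.okx.card_step (k := 2903040) E7.lev6_ok E7.lev6_distinct (n := 51840) (m := 56)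
    (E7.okx.card_step (k := 51840) E7.lev5_ok E7.lev5_distinct (n := 1920) (m := 27)
    (E7.okx.card_step (k := 1920) E7.lev4_ok E7.lev4_distinct (n := 192) (m := 10)
    (E7.okx.card_step (k := 192) E7.lev3_ok E7.lev3_distinct (n := 24) (m := 8)
    (E7.okx.card_step (k := 24) E7.lev2_ok E7.lev2_distinct (n := 6) (m := 4)
    (E7.okx.card_step (k := 6) E7.lev1_ok E7.lev1_distinct (n := 2) (m := 3)
    (E7.okx.card_step (k := 2) E7.lev0_ok E7.lev0_distinct (n := 1) (m := 2)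
    ⟨[[]], Trans.nil, rfl⟩ (by decide +kernel) rfl) (by decide +kernel) rfl) (by decide +kernel) rfl) (by decide +kernel) rfl) (by decide +kernel) rfl) (by decide +kernel) rfl) (by decide +kernel) rfl)
  rw [← hn]
  exact E7.okx.card_weyl E7.coxOK (by decide) (by decide) hL

theorem E8.card_weyl : Nat.card (CoxeterMatrix.Group CoxeterMatrix.E₈) = 696729600 := by
  obtain ⟨L, hL, hn⟩ : ∃ L, Trans chevE8 E8.T [0, 1, 2, 3, 4, 5, 6, 7] L ∧ L.length = 696729600 := (E8.okx.card_step (k := 696729600) E8.lev7_ok E8.lev7_distinct (n := 2903040) (m := 240)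
    (E8.okx.card_step (k := 2903040) E8.lev6_ok E8.lev6_distinct (n := 51840) (m := 56)
    (E8.okx.card_step (k := 51840) E8.lev5_ok E8.lev5_distinct (n := 1920) (m := 27)
    (E8.okx.card_step (k := 1920) E8.lev4_ok E8.lev4_distinct (n := 192) (m := 10)
    (E8.okx.card_step (k := 192) E8.lev3_ok E8.lev3_distinct (n := 24) (m := 8)
    (E8.okx.card_step (k := 24) E8.lev2_ok E8.lev2_distinct (n := 6) (m := 4)
    (E8.okx.card_step (k := 6) E8.lev1_ok E8.lev1_distinct (n := 2) (m := 3)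
    (E8.okx.card_step (k := 2) E8.lev0_ok E8.lev0_distinct (n := 1) (m := 2)
    ⟨[[]], Trans.nil, rfl⟩ (by decide +kernel) rfl) (by decide +kernel) rfl) (by decide +kernel) rfl) (by decide +kernel) rfl) (by decide +kernel) rfl) (by decide +kernel) rfl) (by decide +kernel) rfl) (by decide +kernel) rfl)
  rw [← hn]
  exact E8.okx.card_weyl E8.coxOK (by decide) (by decide) hL

end Cfsg.Agent.Chev
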