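import Cfsg.Agent.Lib.Chev.WeylGroup
import Cfsg.Agent.Lib.Chev.Cow

/-! The central elements of the Coxeter group: at most the identity and the negation. -/

set_option autoImplicit false

namespace Cfsg.Agent.Chev

open Cfsg.Lie

variable {D : ChevalleyDatum} {T : Tabs}

/-- Tables: the roots negated by a fundamental reflection are the two obvious ones. -/
noncomputable def Tabs.chkOwn (D : ChevalleyDatum) (T : Tabs) : Bool :=
  allR D.rank fun i => allR D.nroots fun r => orR (notR (Nat.beq (T.refl i r) (T.neg r)))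
    (orR (Nat.beq r (T.smp i)) (Nat.beq r (T.neg (T.smp i))))

/-- Tables: the two fundamental roots are joined and the reflection respects negation on them. -/
noncomputable def Tabs.linkB (T : Tabs) (i j : ℕ) : Bool :=
  andR (notR (ieq (T.cC (T.refl i (T.smp j)) i) 0))
    (andR (ieq (T.cC (T.refl i (T.neg (T.smp j))) i) (-(T.cC (T.refl i (T.smp j)) i)))
      (ieq (T.cC (T.neg (T.smp i)) i) (-1)))

/-- Tables: every fundamental root is joined to one that is earlier for the weights `o`. -/
noncomputable def Tabs.chkLink (D : ChevalleyDatum) (T : Tabs) (o : List ℕ) : Bool :=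
  allR D.rank fun j => orR (Nat.beq j 0) (anyL (fun i => andR (nlt (o.getD i i) (o.getD j j)) (orR (T.linkB i j) (T.linkB j i))) (upTo D.rank))

namespace OKX

variable {M : CoxeterMatrix (Fin D.rank)} (ok : OKX D T) (hM : CoxOK D T M)

include ok

/-- A word sending each fundamental root to itself or all to their negatives, if it commutes with the generators. -/
theorem central_word (hown : Tabs.chkOwn D T = true) {o : List ℕ} (hlink : Tabs.chkLink D T o = true) {w : List ℕ}
    (hw : ∀ i ∈ w, i < D.rank)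
    (hc : ∀ i < D.rank, ∀ k < D.rank, piW T (i :: w) (T.smp k) = piW T (w ++ [i]) (T.smp k)) :
    (∀ k < D.rank, piW T w (T.smp k) = T.smp k) ∨ ∀ k < D.rank, piW T w (T.smp k) = T.neg (T.smp k) := by
  have hsign : ∀ i < D.rank, piW T w (T.smp i) = T.smp i ∨ piW T w (T.smp i) = T.neg (T.smp i) := by
    intro i hi
    have h := hc i hi i hi
    have hp := ok.toOK.smp_lt hi
    rw [piW, piW_append, piW, piW, (ok.toOK.smp_spec hi).2.2.1, ok.piW_neg hw hp] at h
    simp only [Tabs.chkOwn, allR_iff, orR_iff, notR_iff, nbeq_false_iff, Nat.beq_eq] at hown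
    rcases hown i hi _ (ok.piW_lt hw hp) with h' | h' | h'
    · exact absurd h h'
    · exact Or.inl h'
    · exact Or.inr h'
  have hsame : ∀ i < D.rank, ∀ j < D.rank, T.linkB i j = true →
      (piW T w (T.smp i) = T.smp i ↔ piW T w (T.smp j) = T.smp j) := by
    intro i hi j hj hl
    simp only [Tabs.linkB, andR_iff, notR_iff, ieq_iff] at hl
    obtain ⟨hk, hneg, hsn⟩ := hl
    have hk : T.cC (T.refl i (T.smp j)) i ≠ 0 := by
      intro e; rw [e] at hk; exact absurd hk (by simp)
    by_cases hij : i = j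
    · subst hij; rfl
    have hr := ok.toOK.refl_lt hi (ok.toOK.smp_lt hj)
    have h1 := ok.cC_piW hw hr (j := i) hi
    have h := hc i hi j hj
    rw [piW, piW_append, piW, piW] at h
    rw [← h] at h1
    rw [Finset.sum_eq_single i] at h1
    · rcases hsign i hi with ei | ei <;> rcases hsign j hj with ej | ej <;> rw [ei, ej] at h1
      · exact iff_of_true ei ej
      · rw [hneg, ok.toOK.cC_smp hi hi, if_pos rfl, mul_one] at h1
        omega
      · rw [hsn] at h1
        omega
      · refine iff_of_false (fun e => ?_) fun e => ?_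
        · have := congrArg (fun x => T.cC x i) (ei.symm.trans e)
          simp only [hsn, ok.toOK.cC_smp hi hi, if_pos] at this
          omega
        · rw [ej] at e
          have h2 := congrArg (fun x => T.cC (T.refl i x) i) e
          simp only [hneg] at h2
          omega
    · intro k hk' hki
      rcases hsign k (Finset.mem_range.mp hk') with e | e
      · rw [e, ok.toOK.cC_smp (Finset.mem_range.mp hk') hi, if_neg (Ne.symm hki), mul_zero]
      · have hzero : T.cC (T.refl i (T.smp j)) k = 0 ∨ k = j := by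
          rw [ok.toOK.cC_refl hi (Finset.mem_range.mp hk') (ok.toOK.smp_lt hj), ok.toOK.cC_smp hj (Finset.mem_range.mp hk'),
            if_neg hki, sub_zero]
          split_ifs with h'
          · exact Or.inr h'
          · exact Or.inl rfl
        rcases hzero with hz | rfl
        · rw [hz, zero_mul]
        · rw [e]
          have := ok.cC_piW hw (ok.toOK.smp_lt hj) (j := i) hi
          rw [ok.cC_neg (ok.toOK.smp_lt hj) hi, ok.toOK.cC_smp hj hi, if_neg (Ne.symm hki), neg_zero, mul_zero]
    · intro h'; exact absurd (Finset.mem_range.mpr hi) h'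
  simp only [Tabs.chkLink, allR_iff, orR_iff, anyL_iff, upTo_eq, List.mem_range, andR_iff, nlt_iff, Nat.beq_eq] at hlink
  have hall : ∀ j < D.rank, (piW T w (T.smp j) = T.smp j ↔ piW T w (T.smp 0) = T.smp 0) := by
    suffices hh : ∀ (n j : ℕ), o.getD j j = n → j < D.rank →
        (piW T w (T.smp j) = T.smp j ↔ piW T w (T.smp 0) = T.smp 0) from fun j => hh _ j rfl
    intro n
    induction n using Nat.strong_induction_on with
    | _ n ih =>
      intro j hn hj
      rcases hlink j hj with rfl | ⟨i, hi, hij, hl | hl⟩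
      · rfl
      · exact (hsame i hi j hj hl).symm.trans (ih _ (hn ▸ hij) i rfl hi)
      · exact (hsame j hj i hi hl).trans (ih _ (hn ▸ hij) i rfl hi)
  by_cases h0 : piW T w (T.smp 0) = T.smp 0
  · exact Or.inl fun k hk => (hall k hk).mpr h0
  · exact Or.inr fun k hk => (hsign k hk).resolve_left fun e => h0 ((hall k hk).mp e)

/-- No word negates the fundamental roots when a word sending them to negative roots does not negate them. -/
theorem no_negation {w₀ : List ℕ} (hw₀ : ∀ i ∈ w₀, i < D.rank)
    (hneg : ∀ i < D.rank, T.htf (piW T w₀ (T.smp i)) < 0) {i : ℕ} (hi : i < D.rank)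
    (hne : piW T w₀ (T.smp i) ≠ T.neg (T.smp i)) {w : List ℕ} (hw : ∀ k ∈ w, k < D.rank) :
    ¬ ∀ k < D.rank, piW T w (T.smp k) = T.neg (T.smp k) := by
  intro h
  have hlt : ∀ k ∈ w₀ ++ w, k < D.rank := fun k hk => (List.mem_append.mp hk).elim (hw₀ k) (hw k)
  have hval : ∀ k < D.rank, piW T (w₀ ++ w) (T.smp k) = T.neg (piW T w₀ (T.smp k)) := fun k hk => by
    rw [piW_append, h k hk, ok.piW_neg hw₀ (ok.toOK.smp_lt hk)]
  have hd := ok.gW_mem_diag_of_pos (F := ℚ) _ _ rfl hlt fun r hr hp => ok.pos_of_simple hlt (fun k hk => by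
    rw [hval k hk, ok.toOK.ht_neg (ok.piW_lt hw₀ (ok.toOK.smp_lt hk))]
    have := hneg k hk
    omega) hr hp
  have := ok.toOK.act_borel (ok.toOK.act_gW _ hlt) (Subgroup.mem_sup_right hd) (ok.toOK.smp_lt hi)
  rw [hval i hi] at this
  refine hne ?_
  conv_rhs => rw [← this]
  rw [ok.toOK.neg_neg' (ok.piW_lt hw₀ (ok.toOK.smp_lt hi))]

include hM

theorem mem_center_cases (hown : Tabs.chkOwn D T = true) {o : List ℕ} (hlink : Tabs.chkLink D T o = true) {g : M.Group}
    (hg : g ∈ Subgroup.center M.Group) :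
    ∃ w : List (Fin D.rank), wprod M w = g ∧ ((∀ k < D.rank, piW T (w.map Fin.val) (T.smp k) = T.smp k) ∨
      ∀ k < D.rank, piW T (w.map Fin.val) (T.smp k) = T.neg (T.smp k)) := by
  obtain ⟨w, rfl⟩ := wprod_surjective g
  have hlt : ∀ a ∈ w.map Fin.val, a < D.rank := fun a ha => by
    obtain ⟨i, -, rfl⟩ := List.mem_map.mp ha
    exact i.isLt
  refine ⟨w, rfl, ok.central_word hown hlink hlt fun i hi k hk => ?_⟩
  have h := Subgroup.mem_center_iff.mp hg (M.simple ⟨i, hi⟩)
  rw [← wprod_cons, show wprod M w * M.simple ⟨i, hi⟩ = wprod M (w ++ [⟨i, hi⟩]) by rw [wprod_append]; simp [wprod]] at h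
  have := (ok.word_eq_iff hM _ _).mp h k hk
  simpa using this

theorem center_of_negation (hown : Tabs.chkOwn D T = true) {o : List ℕ} (hlink : Tabs.chkLink D T o = true)
    (u : List (Fin D.rank)) (h0 : 0 < D.rank)
    (hu : ∀ k : Fin D.rank, piW T (u.map Fin.val) (T.smp k.val) = T.neg (T.smp k.val))
    (hc : ∀ i : Fin D.rank, Tabs.eqW D T (i.val :: u.map Fin.val) (u.map Fin.val ++ [i.val]) = true) :
    Nat.card (Subgroup.center M.Group) = 2 ∧ ∀ g ∈ Subgroup.center M.Group, g = 1 ∨ g = wprod M u := by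
  have hcases : ∀ g ∈ Subgroup.center M.Group, g = 1 ∨ g = wprod M u := by
    intro g hg
    obtain ⟨w, rfl, h | h⟩ := ok.mem_center_cases hM hown hlink hg
    · exact Or.inl ((ok.word_eq_iff hM w []).mpr h)
    · exact Or.inr ((ok.word_eq_iff hM w u).mpr fun k hk => (h k hk).trans (hu ⟨k, hk⟩).symm)
  have hmem : wprod M u ∈ Subgroup.center M.Group := by
    refine Subgroup.mem_center_iff.mpr fun g => ?_
    obtain ⟨w, rfl⟩ := wprod_surjective g
    induction w with
    | nil => simp [wprod]
    | cons i w ih =>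
      have hi : M.simple i * wprod M u = wprod M u * M.simple i := by
        have := (ok.wprod_eq_iff hM (i :: u) (u ++ [i])).mpr (by simpa using hc i)
        rwa [wprod_cons, wprod_append, show wprod M [i] = M.simple i by simp [wprod]] at this
      rw [wprod_cons, mul_assoc, ih, ← mul_assoc, hi, mul_assoc]
  have hne : wprod M u ≠ 1 := by
    intro e
    have h := (ok.word_eq_iff hM u []).mp e 0 h0
    rw [hu ⟨0, h0⟩] at h
    have := congrArg T.htf h
    rw [ok.toOK.ht_neg (ok.toOK.smp_lt h0), show piW T (List.map Fin.val ([] : List (Fin D.rank))) (T.smp 0) = T.smp 0 from rfl,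
      (ok.toOK.smp_spec h0).1] at this
    omega
  refine ⟨?_, hcases⟩
  rw [Nat.card_eq_two_iff]
  refine ⟨⟨1, one_mem _⟩, ⟨_, hmem⟩, fun e => hne (congrArg Subtype.val e).symm, ?_⟩
  ext x
  simp only [Set.mem_insert_iff, Set.mem_singleton_iff, Set.mem_univ, iff_true]
  exact (hcases x.1 x.2).imp (fun e => Subtype.ext e) fun e => Subtype.ext e

theorem center_eq_bot (hown : Tabs.chkOwn D T = true) {o : List ℕ} (hlink : Tabs.chkLink D T o = true) {w₀ : List ℕ}
    (hw₀ : ∀ i ∈ w₀, i < D.rank) (hneg : ∀ i : Fin D.rank, T.htf (piW T w₀ (T.smp i.val)) < 0) {i : Fin D.rank}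
    (hne : piW T w₀ (T.smp i.val) ≠ T.neg (T.smp i.val)) : Subgroup.center M.Group = ⊥ := by
  refine (Subgroup.eq_bot_iff_forall _).mpr fun g hg => ?_
  obtain ⟨w, rfl, h | h⟩ := ok.mem_center_cases hM hown hlink hg
  · exact (ok.word_eq_iff hM w []).mpr h
  · refine absurd h (ok.no_negation hw₀ (fun k hk => hneg ⟨k, hk⟩) i.isLt hne fun k hk => ?_)
    obtain ⟨j, -, rfl⟩ := List.mem_map.mp hk
    exact j.isLt

end OKX

end Cfsg.Agent.Chev
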