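import Cfsg.Agent.Lib.Chev.Weyl
import Cfsg.Agent.Lib.Chev.AllX
import Cfsg.Prelude.Def_ChevStructure

/-! The Coxeter matrices of the seven types pass the check. -/

set_option autoImplicit false
set_option maxRecDepth 20000
set_option synthInstance.maxSize 2000

namespace Cfsg.Agent.Chev

open Cfsg.Lie

/-- An entry of a Coxeter matrix. -/
def cmEntry {B : Type*} (M : CoxeterMatrix B) (i j : B) : ℕ := M i j

theorem G2.coxOK : CoxOK chevG2 G2.T CoxeterMatrix.G₂ where
  pos := show ∀ i j : Fin 2, 0 < cmEntry CoxeterMatrix.G₂ i j by decide +kernel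
  fix := show ∀ i j : Fin 2, Tabs.fixB chevG2 G2.T (altW i.val j.val (cmEntry CoxeterMatrix.G₂ i j)) = true by decide +kernel
  min := show ∀ i j : Fin 2, ∀ k : Fin (cmEntry CoxeterMatrix.G₂ i j), k.val = 0 ∨ Tabs.fixB chevG2 G2.T (altW i.val j.val k.val) = false by
    decide +kernel

theorem B2.coxOK : CoxOK chevB2 B2.T (CoxeterMatrix.B 2) where
  pos := show ∀ i j : Fin 2, 0 < cmEntry (CoxeterMatrix.B 2) i j by decide +kernel
  fix := show ∀ i j : Fin 2, Tabs.fixB chevB2 B2.T (altW i.val j.val (cmEntry (CoxeterMatrix.B 2) i j)) = true by decide +kernel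
  min := show ∀ i j : Fin 2, ∀ k : Fin (cmEntry (CoxeterMatrix.B 2) i j), k.val = 0 ∨ Tabs.fixB chevB2 B2.T (altW i.val j.val k.val) = false by
    decide +kernel

theorem D4.coxOK : CoxOK chevD4 D4.T coxeterD4 where
  pos := show ∀ i j : Fin 4, 0 < cmEntry coxeterD4 i j by decide +kernel
  fix := show ∀ i j : Fin 4, Tabs.fixB chevD4 D4.T (altW i.val j.val (cmEntry coxeterD4 i j)) = true by decide +kernel
  min := show ∀ i j : Fin 4, ∀ k : Fin (cmEntry coxeterD4 i j), k.val = 0 ∨ Tabs.fixB chevD4 D4.T (altW i.val j.val k.val) = false by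
    decide +kernel

theorem F4.coxOK : CoxOK chevF4 F4.T CoxeterMatrix.F₄ where
  pos := show ∀ i j : Fin 4, 0 < cmEntry CoxeterMatrix.F₄ i j by decide +kernel
  fix := show ∀ i j : Fin 4, Tabs.fixB chevF4 F4.T (altW i.val j.val (cmEntry CoxeterMatrix.F₄ i j)) = true by decide +kernel
  min := show ∀ i j : Fin 4, ∀ k : Fin (cmEntry CoxeterMatrix.F₄ i j), k.val = 0 ∨ Tabs.fixB chevF4 F4.T (altW i.val j.val k.val) = false by
    decide +kernel

theorem E6.coxOK : CoxOK chevE6 E6.T CoxeterMatrix.E₆ where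
  pos := show ∀ i j : Fin 6, 0 < cmEntry CoxeterMatrix.E₆ i j by decide +kernel
  fix := show ∀ i j : Fin 6, Tabs.fixB chevE6 E6.T (altW i.val j.val (cmEntry CoxeterMatrix.E₆ i j)) = true by decide +kernel
  min := show ∀ i j : Fin 6, ∀ k : Fin (cmEntry CoxeterMatrix.E₆ i j), k.val = 0 ∨ Tabs.fixB chevE6 E6.T (altW i.val j.val k.val) = false by
    decide +kernel

theorem E7.coxOK : CoxOK chevE7 E7.T CoxeterMatrix.E₇ where
  pos := show ∀ i j : Fin 7, 0 < cmEntry CoxeterMatrix.E₇ i j by decide +kernel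
  fix := show ∀ i j : Fin 7, Tabs.fixB chevE7 E7.T (altW i.val j.val (cmEntry CoxeterMatrix.E₇ i j)) = true by decide +kernel
  min := show ∀ i j : Fin 7, ∀ k : Fin (cmEntry CoxeterMatrix.E₇ i j), k.val = 0 ∨ Tabs.fixB chevE7 E7.T (altW i.val j.val k.val) = false by
    decide +kernel

theorem E8.coxOK : CoxOK chevE8 E8.T CoxeterMatrix.E₈ where
  pos := show ∀ i j : Fin 8, 0 < cmEntry CoxeterMatrix.E₈ i j by decide +kernel
  fix := show ∀ i j : Fin 8, Tabs.fixB chevE8 E8.T (altW i.val j.val (cmEntry CoxeterMatrix.E₈ i j)) = true by decide +kernel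
  min := show ∀ i j : Fin 8, ∀ k : Fin (cmEntry CoxeterMatrix.E₈ i j), k.val = 0 ∨ Tabs.fixB chevE8 E8.T (altW i.val j.val k.val) = false by
    decide +kernel

end Cfsg.Agent.Chev
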