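import Cfsg.Agent.Lib.Chev.WeylGroup

/-! A certificate that some words generate the Coxeter group. -/

set_option autoImplicit false

namespace Cfsg.Agent.Chev

open Cfsg.Lie

variable {D : ChevalleyDatum} {T : Tabs}

/-- Each new word equals the product of earlier ones, and all generators are reached. -/
noncomputable def Tabs.chkProg (D : ChevalleyDatum) (T : Tabs) : List (List ℕ × List ℕ) → List (List ℕ) → Bool
  | [], known => (List.range D.rank).all fun i => known.contains [i]
  | (W, e) :: rest, known =>
    W.all (fun i => decide (i < D.rank)) && e.all (fun k => decide (k < known.length)) &&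
      Tabs.eqW D T W (e.flatMap fun k => known.getD k []) && Tabs.chkProg D T rest (known ++ [W])

namespace OKX

variable {M : CoxeterMatrix (Fin D.rank)} (ok : OKX D T) (hM : CoxOK D T M)

include ok hM

theorem top_of_prog (H : Subgroup M.Group) : ∀ (prog : List (List ℕ × List ℕ)) (known : List (List ℕ)),
    Tabs.chkProg D T prog known = true → (∀ w ∈ known, (∀ a ∈ w, a < D.rank) ∧ wprod M (finW D w) ∈ H) → H = ⊤
  | [], known, h, hk => by
    simp only [Tabs.chkProg, List.all_eq_true, List.mem_range, List.contains_iff_mem] at h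
    refine eq_top_iff.mpr fun g _ => ?_
    obtain ⟨w, rfl⟩ := wprod_surjective g
    refine list_prod_mem fun x hx => ?_
    obtain ⟨i, -, rfl⟩ := List.mem_map.mp hx
    have := (hk _ (h i.val i.isLt)).2
    simpa [finW, wprod, i.isLt] using this
  | (W, e) :: rest, known, h, hk => by
    simp only [Tabs.chkProg, Bool.and_eq_true, List.all_eq_true, decide_eq_true_eq] at h
    obtain ⟨⟨⟨hW, he⟩, heq⟩, hrest⟩ := h
    have hcat : ∀ e : List ℕ, (∀ k ∈ e, k < known.length) →
        (∀ a ∈ e.flatMap (fun k => known.getD k []), a < D.rank) ∧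
          wprod M (finW D (e.flatMap fun k => known.getD k [])) ∈ H := by
      intro e
      induction e with
      | nil => exact fun _ => ⟨by simp, by simp [finW, wprod]⟩
      | cons k e ih =>
        intro hlen
        have hmem : known.getD k [] ∈ known := by
          rw [List.getD_eq_getElem _ _ (hlen k List.mem_cons_self)]
          exact List.getElem_mem _
        obtain ⟨h1, h2⟩ := ih fun j hj => hlen j (List.mem_cons_of_mem _ hj)
        rw [List.flatMap_cons]
        refine ⟨fun a ha => (List.mem_append.mp ha).elim ((hk _ hmem).1 a) (h1 a), ?_⟩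
        rw [finW, List.filterMap_append, wprod_append]
        exact mul_mem (hk _ hmem).2 h2
    refine top_of_prog H rest _ hrest fun w hw => ?_
    rcases List.mem_append.mp hw with hw | hw
    · exact hk w hw
    rw [List.mem_singleton.mp hw]
    refine ⟨hW, ?_⟩
    rw [(ok.wprod_eq_iff hM (finW D W) (finW D (e.flatMap fun k => known.getD k []))).mpr ?_]
    · exact (hcat e he).2
    rw [finW_val hW, finW_val (hcat e he).1]
    exact heq

theorem exists_gens (ts : List (List ℕ × Fin D.rank)) (hts : ∀ t ∈ ts, ∀ a ∈ t.1, a < D.rank)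
    (hd : ts.Pairwise fun s t =>
      Tabs.eqW D T (s.1 ++ s.2.val :: s.1.reverse) (t.1 ++ t.2.val :: t.1.reverse) = false)
    (prog : List (List ℕ × List ℕ))
    (hprog : Tabs.chkProg D T prog ((List.finRange D.rank).map Fin.val :: ((List.finRange D.rank).map Fin.val).reverse ::
      ts.map fun t => t.1 ++ t.2.val :: t.1.reverse) = true) :
    ∃ S : Finset M.Group, S.card = ts.length ∧ (∀ t ∈ S, ∃ (g : M.Group) (i : Fin D.rank), t = g * M.simple i * g⁻¹) ∧
      Subgroup.closure (({((List.finRange D.rank).map M.simple).prod} : Set M.Group) ∪ ↑S) = ⊤ := by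
  classical
  let f : List ℕ × Fin D.rank → M.Group := fun t => wprod M (finW D t.1) * M.simple t.2 * (wprod M (finW D t.1))⁻¹
  have hlt : ∀ t ∈ ts, ∀ a ∈ t.1 ++ t.2.val :: t.1.reverse, a < D.rank := fun t ht a ha => by
    rcases List.mem_append.mp ha with ha | ha
    · exact hts t ht a ha
    rcases List.mem_cons.mp ha with rfl | ha
    exacts [t.2.isLt, hts t ht a (List.mem_reverse.mp ha)]
  have hf : ∀ t ∈ ts, f t = wprod M (finW D (t.1 ++ t.2.val :: t.1.reverse)) := fun t ht => by
    simp only [f, finW, List.filterMap_append, List.filterMap_cons, t.2.isLt, dite_true, List.filterMap_reverse,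
      wprod_append, wprod_cons, wprod_reverse, mul_assoc]
  have hnd : (ts.map f).Nodup := by
    refine List.pairwise_map.mpr (hd.imp_of_mem fun hs ht h e => ?_)
    rw [hf _ hs, hf _ ht, ok.wprod_eq_iff hM, finW_val (hlt _ hs), finW_val (hlt _ ht)] at e
    rw [h] at e
    exact absurd e (by simp)
  refine ⟨(ts.map f).toFinset, by rw [List.toFinset_card_of_nodup hnd, List.length_map], fun t ht => ?_, ?_⟩
  · obtain ⟨s, -, rfl⟩ := List.mem_map.mp (List.mem_toFinset.mp ht)
    exact ⟨_, _, rfl⟩
  have hcv : ∀ a ∈ (List.finRange D.rank).map Fin.val, a < D.rank := fun a ha => by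
    obtain ⟨i, -, rfl⟩ := List.mem_map.mp ha
    exact i.isLt
  have hc : wprod M (finW D ((List.finRange D.rank).map Fin.val)) = wprod M (List.finRange D.rank) :=
    (ok.wprod_eq_iff hM _ _).mpr (by
      rw [finW_val hcv, Tabs.eqW]
      generalize Tabs.imgs D T _ = l
      induction l with
      | nil => rfl
      | cons x l ih => show andR (Nat.beq x x) (eqL Nat.beq l l) = true; rw [ih]; simp)
  have hcH : wprod M (finW D ((List.finRange D.rank).map Fin.val)) ∈
      Subgroup.closure (({((List.finRange D.rank).map M.simple).prod} : Set M.Group) ∪ ↑(ts.map f).toFinset) :=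
    hc ▸ Subgroup.subset_closure (Or.inl rfl)
  refine ok.top_of_prog hM _ prog _ hprog fun w hw => ?_
  rcases List.mem_cons.mp hw with rfl | hw
  · exact ⟨hcv, hcH⟩
  rcases List.mem_cons.mp hw with rfl | hw
  · refine ⟨fun a ha => hcv a (List.mem_reverse.mp ha), ?_⟩
    rw [finW, List.filterMap_reverse, wprod_reverse]
    exact inv_mem hcH
  obtain ⟨t, ht, rfl⟩ := List.mem_map.mp hw
  refine ⟨hlt t ht, ?_⟩
  rw [← hf t ht]
  exact Subgroup.subset_closure (Or.inr (List.mem_toFinset.mpr (List.mem_map_of_mem ht)))

end OKX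

end Cfsg.Agent.Chev
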