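import Cfsg.Agent.Lib.Chev.OK

/-!
The root element matrices are described by the tables.
-/

set_option autoImplicit false

namespace Cfsg.Agent.Chev

open Cfsg.Lie

variable {F : Type*} [Field F]

/-- Numbering of the coordinates. -/
def phi (D : ChevalleyDatum) : D.Idx → ℕ := Sum.elim (fun i => (i : ℕ)) fun s => D.rank + (s : ℕ)

theorem phi_injective (D : ChevalleyDatum) : Function.Injective (phi D) := by
  rintro (i | s) (j | u) h <;> simp only [phi, Sum.elim_inl, Sum.elim_inr] at h
  · exact congrArg _ (Fin.ext h)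
  · exact absurd i.isLt (by omega)
  · exact absurd j.isLt (by omega)
  · exact congrArg _ (Fin.ext (by omega))

theorem phi_lt (D : ChevalleyDatum) : ∀ i : D.Idx, phi D i < D.rank + D.nroots
  | .inl i => by simpa [phi] using Nat.lt_add_right _ i.isLt
  | .inr s => by simpa [phi] using s.isLt

theorem phi_surj (D : ChevalleyDatum) {k : ℕ} (hk : k < D.rank + D.nroots) : ∃ i, phi D i = k := by
  by_cases h : k < D.rank
  · exact ⟨.inl ⟨k, h⟩, rfl⟩
  · exact ⟨.inr ⟨k - D.rank, by omega⟩, by simp [phi]; omega⟩

/-- Value of a table column at the parameter `τ`. -/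
def colVal (τ : F) (L : List (ℕ × ℤ × ℕ)) (row : ℕ) : F :=
  (L.map fun e => if e.1 = row then (e.2.1 : F) * τ ^ e.2.2 else 0).sum

theorem colVal_cons (τ : F) (e : ℕ × ℤ × ℕ) (L : List (ℕ × ℤ × ℕ)) (row : ℕ) :
    colVal τ (e :: L) row = (if e.1 = row then (e.2.1 : F) * τ ^ e.2.2 else 0) + colVal τ L row := by
  simp [colVal]

theorem colVal_append (τ : F) (A B : List (ℕ × ℤ × ℕ)) (row : ℕ) :
    colVal τ (A ++ B) row = colVal τ A row + colVal τ B row := by
  simp [colVal]

theorem colVal_filter (τ : F) : ∀ (L : List (ℕ × ℤ × ℕ)) (row : ℕ),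
    colVal τ (L.filter fun e => notR (ieq e.2.1 0)) row = colVal τ L row
  | [], _ => rfl
  | e :: L, row => by
    by_cases h : e.2.1 = 0
    · rw [List.filter_cons_of_neg (by simp [h]), colVal_cons, colVal_filter τ L row, h]; simp
    · rw [List.filter_cons_of_pos (by simpa [Bool.eq_false_iff] using h), colVal_cons, colVal_cons,
        colVal_filter τ L row]

theorem valEn_XC (T : Tabs) (r : ℕ) (c a b : ℤ) (t u : F) (j row : ℕ) :
    valEn t u (T.XC r c a b j) row = colVal ((c : F) * t ^ a * u ^ b) (T.colT r j) row := by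
  simp only [Tabs.XC, mapR_eq, valEn, colVal, List.map_map]
  congr 1
  refine List.map_congr_left fun e _ => ?_
  simp only [Function.comp_apply, En.ev, ipow_eq, Int.mul_def, Int.ofNat_eq_natCast]
  by_cases h : e.1 = row
  · rw [if_pos h, if_pos h, zpow_mul', zpow_mul', zpow_natCast, zpow_natCast, Int.cast_mul, Int.cast_pow,
      mul_pow, mul_pow]
    ring
  · rw [if_neg h, if_neg h]

namespace OK

variable {D : ChevalleyDatum} {T : Tabs} (ok : OK D T)

include ok

theorem ext_eq {r c : ℕ} (hr : r < D.nroots) (hc : c < D.rank + D.nroots) : T.ext r c = T.extX D r c := by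
  have h := ok.col r hr
  simp only [Tabs.chkCol, allR_iff, Nat.add_eq] at h
  exact eq_of_eqL eq_of_eqT (h c hc)

theorem ext_spec {r c : ℕ} (hr : r < D.nroots) (hc : c < D.rank + D.nroots) {e : ℕ × ℤ × ℕ} (he : e ∈ T.ext r c) :
    e.1 < D.rank + D.nroots ∧ e.2.2 ≠ 0 ∧ e.1 ≠ c ∧
      Tabs.wt D T.htf e.1 = Tabs.wt D T.htf c + e.2.2 * T.htf r ∧
      ∀ i < D.rank, Tabs.wt D (T.cA i) e.1 = Tabs.wt D (T.cA i) c + e.2.2 * T.cA i r := by
  have h := ok.grad r hr
  simp only [Tabs.chkGrad, allR_iff, allL_iff, Nat.add_eq] at h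
  have := h c hc e he
  simp only [andR_iff, allR_iff, nlt_iff, notR_iff, nbeq_false_iff, ieq_iff, Int.add_def, Int.mul_def,
    Nat.add_eq, Int.ofNat_eq_natCast] at this
  exact this

/-- Numbering-compatible description of a root element. -/
theorem xMat_eq {r : ℕ} (hr : r < D.nroots) (τ : F) (i j : D.Idx) :
    D.x F r τ i j = colVal τ (T.colT r (phi D j)) (phi D i) := by
  rw [ChevalleyDatum.x, dif_pos hr, Tabs.colT, colVal_cons, ok.ext_eq hr (phi_lt D j)]
  rcases j with j | s
  · have hj : nlt (j : ℕ) D.rank = true := nlt_iff.mpr j.isLt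
    simp only [phi, Sum.elim_inl, Tabs.extX, hj, filterR_eq, colVal_filter]
    rcases i with i | u
    · have : D.rank + r ≠ (i : ℕ) := by omega
      simp [ChevalleyDatum.xMat, colVal, this, this.symm, Fin.ext_iff, eq_comm]
    · have h1 : (j : ℕ) ≠ D.rank + (u : ℕ) := by omega
      have h2 := ok.cartan_eq j.isLt hr
      rw [ChevalleyDatum.cartan] at h2
      simp only [ChevalleyDatum.xMat, Matrix.of_apply, h2, Fin.ext_iff]
      by_cases hu : (u : ℕ) = r
      · simp [colVal, hu, h1, show ∀ a : ℤ, Int.neg a = -a from fun _ => rfl,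
          show (j : ℕ) ≠ D.rank + r by omega]
      · simp [colVal, hu, h1, show r ≠ (u : ℕ) from fun e => hu e.symm]
  · have hs : nlt (D.rank + (s : ℕ)) D.rank = false := nlt_false_iff.mpr (Nat.le_add_right _ _)
    simp only [phi, Sum.elim_inr, Tabs.extX, hs, Nat.sub_eq, Nat.add_sub_cancel_left]
    by_cases hsr : (s : ℕ) = r
    · have h1 : ⟨r, hr⟩ = s := Fin.ext hsr.symm
      rw [Nat.beq_eq.mpr hsr]
      subst h1
      rcases i with i | u
      · have : D.rank + r ≠ (i : ℕ) := by omega
        simp [ChevalleyDatum.xMat, colVal, this]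
      · simp [ChevalleyDatum.xMat, colVal, Fin.ext_iff, eq_comm]
    rw [nbeq_false_iff.mpr hsr]
    have hsr' : s ≠ ⟨r, hr⟩ := fun e => hsr (congrArg Fin.val e)
    by_cases hsn : (s : ℕ) = T.neg r
    · rw [Nat.beq_eq.mpr hsn]
      simp only [appR_eq, filterR_eq, colVal_append, colVal_filter, mapR_eq, upTo_eq]
      rcases i with i | u
      · have h1 : D.rank + (s : ℕ) ≠ (i : ℕ) := by omega
        have h2 : D.rank + r ≠ (i : ℕ) := by omega
        have h3 : colVal τ ((List.range D.rank).map fun k => (k, T.cC r k, 1)) i = (T.cC r i : F) * τ := by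
          simp only [colVal, List.map_map, Function.comp_def, pow_one]
          rw [← List.sum_toFinset _ (List.nodup_range), List.toFinset_range,
            Finset.sum_ite_eq' (Finset.range D.rank) (i : ℕ), if_pos (Finset.mem_range.mpr i.isLt)]
        simp only [Sum.elim_inl]
        rw [h3]
        simp only [ChevalleyDatum.xMat, Matrix.of_apply, if_neg hsr', ok.negIdx_eq hr, hsn,
          ok.coroot_eq hr i.isLt, if_true, Nat.add_eq]
        simp [colVal, h2, hsn ▸ h1]
      · have h3 : colVal τ ((List.range D.rank).map fun k => (k, T.cC r k, 1)) (D.rank + (u : ℕ)) = 0 := by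
          simp only [colVal, List.map_map, Function.comp_def]
          refine List.sum_eq_zero fun x hx => ?_
          obtain ⟨k, hk, rfl⟩ := List.mem_map.mp hx
          rw [if_neg (by have := List.mem_range.mp hk; omega)]
        simp only [Sum.elim_inr]
        rw [h3]
        simp only [ChevalleyDatum.xMat, Matrix.of_apply, if_neg hsr', ok.negIdx_eq hr, hsn, if_true, Nat.add_eq]
        simp only [Fin.ext_iff, hsn]
        simp only [colVal, List.map_cons, List.map_nil, List.sum_cons, List.sum_nil, add_zero, zero_add,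
          Nat.add_left_cancel_iff]
        have hne := ok.neg_ne hr
        by_cases a1 : (u : ℕ) = T.neg r
        · simp [a1, hne, Ne.symm hne]
        · rw [if_neg a1, if_neg (Ne.symm a1)]
          by_cases a2 : (u : ℕ) = r
          · simp [a2]
          · simp [a2, Ne.symm a2]
    rw [nbeq_false_iff.mpr hsn, ← ok.chs_eq r]
    rcases i with i | u
    · have hne : D.rank + (s : ℕ) ≠ (i : ℕ) := by omega
      simp only [ChevalleyDatum.xMat, Matrix.of_apply, if_neg hsr', ok.negIdx_eq hr, if_neg hsn, Sum.elim_inl]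
      erw [if_neg hne]
      rw [zero_add]
      refine (List.sum_eq_zero fun x hx => ?_).symm
      obtain ⟨e, he, rfl⟩ := List.mem_map.mp hx
      simp only [flatR_eq, List.mem_flatMap] at he
      obtain ⟨f, -, he⟩ := he
      cases hb : Nat.beq f.1 (s : ℕ) <;> simp only [hb, mapIdxR_eq, List.not_mem_nil, List.mem_map] at he
      obtain ⟨q, -, rfl⟩ := he
      rw [if_neg]
      simp only [Nat.add_eq]; omega
    · simp only [ChevalleyDatum.xMat, Matrix.of_apply, if_neg hsr', ok.negIdx_eq hr, if_neg hsn, Sum.elim_inr]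
      simp only [Fin.ext_iff, Nat.add_left_cancel_iff]
      congr 1
      · by_cases e : (u : ℕ) = s
        · simp [e]
        · simp [e, Ne.symm e]
      simp only [flatR_eq, ChevalleyDatum.chainCoeff]
      generalize (D.chain.getD r #[]).toList = L
      induction L with
      | nil => simp [colVal]
      | cons e L ih =>
        rw [List.map_cons, List.flatMap_cons, colVal_append]
        by_cases he : e.1 = (s : ℕ)
        · rw [List.filter_cons_of_pos (by simpa using he), List.flatMap_cons, List.map_append, List.sum_append, ih,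
            Nat.beq_eq.mpr he]
          congr 1
          simp only [mapIdxR_eq, colVal, List.map_map, Nat.add_eq]
          induction e.2.toList.zipIdx with
          | nil => simp
          | cons q Q ihQ =>
            by_cases hq : q.1.1 = (u : ℕ)
            · simp [hq, ← ihQ]
            · simp [hq, ← ihQ]
        · rw [List.filter_cons_of_neg (by simpa using he), ih, nbeq_false_iff.mpr he]
          simp [colVal]

theorem rep_XC {r : ℕ} (hr : r < D.nroots) (c a b : ℤ) (t u : F) :
    Rep (phi D) t u (T.XC r c a b) (D.x F r ((c : F) * t ^ a * u ^ b)) := fun i j => by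
  rw [ok.xMat_eq hr, valEn_XC]

theorem inRange_XC {r : ℕ} (hr : r < D.nroots) (c a b : ℤ) : InRange (phi D) (T.XC r c a b) := by
  intro j e he
  simp only [Tabs.XC, mapR_eq, List.mem_map, Tabs.colT, List.mem_cons] at he
  obtain ⟨f, hf, rfl⟩ := he
  rcases hf with rfl | hf
  · exact ⟨j, rfl⟩
  · exact phi_surj D (ok.ext_spec hr (phi_lt D j) hf).1

end OK

end Cfsg.Agent.Chev
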